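import Cfsg.Agent.S5631

set_option autoImplicit false

open Cfsg

namespace Cfsg.Agent.Lib.Helper28.SympAbs

open Matrix Cfsg.Agent.S5632 Cfsg.Agent.S5631

variable {n : ℕ} {F : Type*} [Field F]

theorem f_zero_left {f : (Fin n → F) → (Fin n → F) → F} (hf : Cfsg.Geo.IsSymplecticForm f)
    (v : Fin n → F) : f 0 v = 0 := by
  have := hf.bilinear.smul_left 0 0 v
  simpa using this

theorem f_zero_right {f : (Fin n → F) → (Fin n → F) → F} (hf : Cfsg.Geo.IsSymplecticForm f)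
    (v : Fin n → F) : f v 0 = 0 := by
  have := hf.bilinear.smul_right 0 v 0
  simpa using this

theorem f_neg_left {f : (Fin n → F) → (Fin n → F) → F} (hf : Cfsg.Geo.IsSymplecticForm f)
    (x v : Fin n → F) : f (-x) v = - f x v := by
  have := hf.bilinear.smul_left (-1) x v
  simpa using this

theorem f_neg_right {f : (Fin n → F) → (Fin n → F) → F} (hf : Cfsg.Geo.IsSymplecticForm f)
    (x v : Fin n → F) : f v (-x) = - f v x := by
  have := hf.bilinear.smul_right (-1) v x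
  simpa using this

theorem f_sub_left {f : (Fin n → F) → (Fin n → F) → F} (hf : Cfsg.Geo.IsSymplecticForm f)
    (x y v : Fin n → F) : f (x - y) v = f x v - f y v := by
  rw [sub_eq_add_neg, hf.bilinear.add_left, f_neg_left hf, sub_eq_add_neg]

theorem f_sub_right {f : (Fin n → F) → (Fin n → F) → F} (hf : Cfsg.Geo.IsSymplecticForm f)
    (x y v : Fin n → F) : f v (x - y) = f v x - f v y := by
  rw [sub_eq_add_neg, hf.bilinear.add_right, f_neg_right hf, sub_eq_add_neg]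

theorem f_sum_left {f : (Fin n → F) → (Fin n → F) → F} (hf : Cfsg.Geo.IsSymplecticForm f)
    {ι : Type*} (s : Finset ι) (g : ι → (Fin n → F)) (v : Fin n → F) :
    f (∑ i ∈ s, g i) v = ∑ i ∈ s, f (g i) v := by
  classical
  induction s using Finset.induction_on with
  | empty => simp [f_zero_left hf]
  | insert a s ha ih => rw [Finset.sum_insert ha, Finset.sum_insert ha, hf.bilinear.add_left, ih]

def rho (f : (Fin n → F) → (Fin n → F) → F) (u : Fin n → F) : Fin n → F :=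
  fun i => f (Pi.single i 1) u

theorem f_eq_dot {f : (Fin n → F) → (Fin n → F) → F} (hf : Cfsg.Geo.IsSymplecticForm f)
    (x u : Fin n → F) : f x u = rho f u ⬝ᵥ x := by
  have hx : x = ∑ i, x i • (Pi.single i (1 : F) : Fin n → F) := by
    ext j
    simp [Finset.sum_apply, Pi.single_apply]
  conv_lhs => rw [hx]
  rw [f_sum_left hf]
  unfold rho dotProduct
  apply Finset.sum_congr rfl
  intro i _
  rw [hf.bilinear.smul_left]
  ring

theorem rho_surj {f : (Fin n → F) → (Fin n → F) → F} (hf : Cfsg.Geo.IsSymplecticForm f)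
    (r : Fin n → F) : ∃ u, ∀ x, f x u = r ⬝ᵥ x := by
  let L : (Fin n → F) →ₗ[F] (Fin n → F) :=
    { toFun := rho f
      map_add' := by
        intro a b
        funext i
        simp only [rho, Pi.add_apply]
        exact hf.bilinear.add_right _ a b
      map_smul' := by
        intro c a
        funext i
        simp only [rho, Pi.smul_apply, RingHom.id_apply, smul_eq_mul]
        exact hf.bilinear.smul_right c _ a }
  have hinj : Function.Injective L := by
    rw [← LinearMap.ker_eq_bot, Submodule.eq_bot_iff]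
    intro u hu
    by_contra hu0
    obtain ⟨x, hx⟩ := (hf.nondegenerate u hu0).1
    apply hx
    rw [f_eq_dot hf]
    have : rho f u = 0 := hu
    rw [this, zero_dotProduct]
  have hsurj : Function.Surjective L := LinearMap.injective_iff_surjective.mp hinj
  obtain ⟨u, hu⟩ := hsurj r
  refine ⟨u, fun x => ?_⟩
  rw [f_eq_dot hf]
  have : rho f u = r := hu
  rw [this]

theorem stv {f : (Fin n → F) → (Fin n → F) → F} (hf : Cfsg.Geo.IsSymplecticForm f)
    (v : Fin n → F) (c : F) :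
    ∃ g : Matrix.GeneralLinearGroup (Fin n) F, g ∈ Cfsg.Geo.specialLinear (Fin n) F ∧
      ∀ x, (g : Matrix (Fin n) (Fin n) F) *ᵥ x = x + (c * f x v) • v := by
  have h0 : (c • rho f v) ⬝ᵥ v = 0 := by
    rw [smul_dotProduct, ← f_eq_dot hf, hf.alternating, smul_zero]
  obtain ⟨g, hgS, hg⟩ := transv v (c • rho f v) h0
  refine ⟨g, hgS, fun x => ?_⟩
  rw [hg, smul_dotProduct, ← f_eq_dot hf, smul_eq_mul]

theorem stv_pres {f : (Fin n → F) → (Fin n → F) → F} (hf : Cfsg.Geo.IsSymplecticForm f)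
    (v : Fin n → F) (c : F) (g : Matrix.GeneralLinearGroup (Fin n) F)
    (hg : ∀ x, (g : Matrix (Fin n) (Fin n) F) *ᵥ x = x + (c * f x v) • v) (x y : Fin n → F) :
    f ((g : Matrix (Fin n) (Fin n) F) *ᵥ x) ((g : Matrix (Fin n) (Fin n) F) *ᵥ y) = f x y := by
  rw [hg, hg, hf.bilinear.add_left, hf.bilinear.add_right, hf.bilinear.add_right,
    hf.bilinear.smul_left, hf.bilinear.smul_left, hf.bilinear.smul_right, hf.bilinear.smul_right,
    hf.alternating, hf.skew v y]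
  ring

def TT (f : (Fin n → F) → (Fin n → F) → F) : Subgroup (Matrix.GeneralLinearGroup (Fin n) F) :=
  Subgroup.closure {g | ∃ (v : Fin n → F) (c : F),
    ∀ x, (g : Matrix (Fin n) (Fin n) F) *ᵥ x = x + (c * f x v) • v}

theorem mem_pres (f : (Fin n → F) → (Fin n → F) → F)
    (g : Matrix.GeneralLinearGroup (Fin n) F) :
    g ∈ Cfsg.preserving (Cfsg.glToMat (Fin n) F) f ↔
      ∀ x y, f ((g : Matrix (Fin n) (Fin n) F) *ᵥ x) ((g : Matrix (Fin n) (Fin n) F) *ᵥ y) = f x y :=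
  Iff.rfl

theorem TT_pres {f : (Fin n → F) → (Fin n → F) → F} (hf : Cfsg.Geo.IsSymplecticForm f) :
    TT f ≤ Cfsg.preserving (Cfsg.glToMat (Fin n) F) f := by
  unfold TT
  rw [Subgroup.closure_le]
  rintro g ⟨v, c, hg⟩
  exact (mem_pres f g).mpr (stv_pres hf v c g hg)

theorem TT_le_SL {f : (Fin n → F) → (Fin n → F) → F} (hf : Cfsg.Geo.IsSymplecticForm f) :
    TT f ≤ Cfsg.Geo.specialLinear (Fin n) F := by
  unfold TT
  rw [Subgroup.closure_le]
  rintro g ⟨v, c, hg⟩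
  have h0 : (c • rho f v) ⬝ᵥ v = 0 := by
    rw [smul_dotProduct, ← f_eq_dot hf, hf.alternating, smul_zero]
  apply isT_mem_SL g v (c • rho f v) h0
  intro x
  rw [hg, smul_dotProduct, ← f_eq_dot hf, smul_eq_mul]

theorem TT_apply {f : (Fin n → F) → (Fin n → F) → F} (hf : Cfsg.Geo.IsSymplecticForm f)
    (g : Matrix.GeneralLinearGroup (Fin n) F) (hg : g ∈ TT f) (x y : Fin n → F) :
    f ((g : Matrix (Fin n) (Fin n) F) *ᵥ x) ((g : Matrix (Fin n) (Fin n) F) *ᵥ y) = f x y :=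
  (mem_pres f g).mp (TT_pres hf hg) x y

theorem mul_mulVec (A B : Matrix.GeneralLinearGroup (Fin n) F) (x : Fin n → F) :
    ((A * B : Matrix.GeneralLinearGroup (Fin n) F) : Matrix (Fin n) (Fin n) F) *ᵥ x =
      (A : Matrix (Fin n) (Fin n) F) *ᵥ ((B : Matrix (Fin n) (Fin n) F) *ᵥ x) := by
  rw [Units.val_mul, ← Matrix.mulVec_mulVec]

theorem step {f : (Fin n → F) → (Fin n → F) → F} (hf : Cfsg.Geo.IsSymplecticForm f)
    (x y : Fin n → F) (h : f x y ≠ 0) :
    ∃ A ∈ TT f, (A : Matrix (Fin n) (Fin n) F) *ᵥ x = y ∧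
      (∀ z, f z (y - x) = 0 → (A : Matrix (Fin n) (Fin n) F) *ᵥ z = z) ∧
      ∀ (W : Submodule F (Fin n → F)), y - x ∈ W → ∀ z ∈ W,
        (A : Matrix (Fin n) (Fin n) F) *ᵥ z ∈ W := by
  obtain ⟨A, _, hA⟩ := stv hf (y - x) (f x y)⁻¹
  refine ⟨A, Subgroup.subset_closure ⟨_, _, hA⟩, ?_, ?_, ?_⟩
  · rw [hA, f_sub_right hf, hf.alternating, sub_zero, inv_mul_cancel₀ h, one_smul]
    abel
  · intro z hz
    rw [hA, hz, mul_zero, zero_smul, add_zero]
  · intro W hW z hz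
    rw [hA]
    exact W.add_mem hz (W.smul_mem _ hW)

theorem trans_vec {f : (Fin n → F) → (Fin n → F) → F} (hf : Cfsg.Geo.IsSymplecticForm f)
    (W : Submodule F (Fin n → F))
    (hW : ∀ x ∈ W, x ≠ 0 → ∃ t ∈ W, f x t ≠ 0)
    (x y : Fin n → F) (hxW : x ∈ W) (hyW : y ∈ W) (hx : x ≠ 0) (hy : y ≠ 0) :
    ∃ A ∈ TT f, (A : Matrix (Fin n) (Fin n) F) *ᵥ x = y ∧
      (∀ z, (∀ w ∈ W, f z w = 0) → (A : Matrix (Fin n) (Fin n) F) *ᵥ z = z) ∧
      ∀ z ∈ W, (A : Matrix (Fin n) (Fin n) F) *ᵥ z ∈ W := by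
  by_cases hxy : f x y = 0
  · have hex : ∃ t ∈ W, f x t ≠ 0 ∧ f t y ≠ 0 := by
      obtain ⟨x1, hx1W, hx1⟩ := hW x hxW hx
      obtain ⟨x2, hx2W, hx2⟩ := hW y hyW hy
      have hx2' : f x2 y ≠ 0 := by
        rw [hf.skew]; exact neg_ne_zero.mpr hx2
      by_cases h1 : f x1 y = 0
      · by_cases h2 : f x x2 = 0
        · refine ⟨x1 + x2, W.add_mem hx1W hx2W, ?_, ?_⟩
          · rw [hf.bilinear.add_right, h2, add_zero]; exact hx1
          · rw [hf.bilinear.add_left, h1, zero_add]; exact hx2'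
        · exact ⟨x2, hx2W, h2, hx2'⟩
      · exact ⟨x1, hx1W, hx1, h1⟩
    obtain ⟨t, htW, ht1, ht2⟩ := hex
    obtain ⟨A, hA, hAx, hAfix, hAW⟩ := step hf x t ht1
    obtain ⟨B, hB, hBt, hBfix, hBW⟩ := step hf t y ht2
    refine ⟨B * A, Subgroup.mul_mem _ hB hA, ?_, ?_, ?_⟩
    · rw [mul_mulVec, hAx, hBt]
    · intro z hz
      rw [mul_mulVec, hAfix z (hz _ (W.sub_mem htW hxW)), hBfix z (hz _ (W.sub_mem hyW htW))]
    · intro z hz
      rw [mul_mulVec]
      exact hBW W (W.sub_mem hyW htW) _ (hAW W (W.sub_mem htW hxW) z hz)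
  · obtain ⟨A, hA, hAx, hAfix, hAW⟩ := step hf x y hxy
    exact ⟨A, hA, hAx, fun z hz => hAfix z (hz _ (W.sub_mem hyW hxW)),
      hAW W (W.sub_mem hyW hxW)⟩

theorem trans_pair {f : (Fin n → F) → (Fin n → F) → F} (hf : Cfsg.Geo.IsSymplecticForm f)
    (W : Submodule F (Fin n → F))
    (hW : ∀ x ∈ W, x ≠ 0 → ∃ t ∈ W, f x t ≠ 0)
    (u v u' v' : Fin n → F) (huW : u ∈ W) (hvW : v ∈ W) (hu'W : u' ∈ W) (hv'W : v' ∈ W)
    (h : f u v = 1) (h' : f u' v' = 1) :
    ∃ A ∈ TT f, (A : Matrix (Fin n) (Fin n) F) *ᵥ u = u' ∧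
      (A : Matrix (Fin n) (Fin n) F) *ᵥ v = v' ∧
      ∀ z, (∀ w ∈ W, f z w = 0) → (A : Matrix (Fin n) (Fin n) F) *ᵥ z = z := by
  have hu : u ≠ 0 := by
    rintro rfl
    rw [f_zero_left hf] at h
    exact zero_ne_one h
  have hu' : u' ≠ 0 := by
    rintro rfl
    rw [f_zero_left hf] at h'
    exact zero_ne_one h'
  obtain ⟨A, hA, hAu, hAfix, hAW⟩ := trans_vec hf W hW u u' huW hu'W hu hu'
  set v'' := (A : Matrix (Fin n) (Fin n) F) *ᵥ v with hv''
  have hv''W : v'' ∈ W := hAW v hvW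
  have h'' : f u' v'' = 1 := by
    rw [← hAu, hv'', TT_apply hf A hA, h]
  suffices hsuff : ∃ B ∈ TT f, (B : Matrix (Fin n) (Fin n) F) *ᵥ u' = u' ∧
      (B : Matrix (Fin n) (Fin n) F) *ᵥ v'' = v' ∧
      ∀ z, (∀ w ∈ W, f z w = 0) → (B : Matrix (Fin n) (Fin n) F) *ᵥ z = z by
    obtain ⟨B, hB, hBu, hBv, hBfix⟩ := hsuff
    refine ⟨B * A, Subgroup.mul_mem _ hB hA, ?_, ?_, ?_⟩
    · rw [mul_mulVec, hAu, hBu]
    · rw [mul_mulVec, ← hv'', hBv]
    · intro z hz
      rw [mul_mulVec, hAfix z hz, hBfix z hz]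
  by_cases hvv : f v'' v' = 0
  · have e1 : f v'' (v'' + u') ≠ 0 := by
      rw [hf.bilinear.add_right, hf.alternating, zero_add, hf.skew, h'']
      exact neg_ne_zero.mpr one_ne_zero
    have e2 : f (v'' + u') v' ≠ 0 := by
      rw [hf.bilinear.add_left, hvv, zero_add, h']
      exact one_ne_zero
    obtain ⟨B1, hB1, hB1v, hB1fix, -⟩ := step hf v'' (v'' + u') e1
    obtain ⟨B2, hB2, hB2v, hB2fix, -⟩ := step hf (v'' + u') v' e2
    have f1 : (B1 : Matrix (Fin n) (Fin n) F) *ᵥ u' = u' := by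
      apply hB1fix
      rw [add_sub_cancel_left, hf.alternating]
    have f2 : (B2 : Matrix (Fin n) (Fin n) F) *ᵥ u' = u' := by
      apply hB2fix
      rw [f_sub_right hf, hf.bilinear.add_right, hf.alternating, h', h'']
      ring
    refine ⟨B2 * B1, Subgroup.mul_mem _ hB2 hB1, ?_, ?_, ?_⟩
    · rw [mul_mulVec, f1, f2]
    · rw [mul_mulVec, hB1v, hB2v]
    · intro z hz
      have g1 : (B1 : Matrix (Fin n) (Fin n) F) *ᵥ z = z := by
        apply hB1fix
        rw [add_sub_cancel_left]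
        exact hz _ hu'W
      have g2 : (B2 : Matrix (Fin n) (Fin n) F) *ᵥ z = z := by
        apply hB2fix
        exact hz _ (W.sub_mem hv'W (W.add_mem hv''W hu'W))
      rw [mul_mulVec, g1, g2]
  · obtain ⟨B, hB, hBv, hBfix, -⟩ := step hf v'' v' hvv
    refine ⟨B, hB, ?_, hBv, ?_⟩
    · apply hBfix
      rw [f_sub_right hf, h', h'', sub_self]
    · intro z hz
      exact hBfix z (hz _ (W.sub_mem hv'W hv''W))

end Cfsg.Agent.Lib.Helper28.SympAbs
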