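import Mathlib
import Cfsg.Agent.Lib.Helper11.BenderT
import Cfsg.Agent.Lib.Helper1.BG10.TenSix
import Cfsg.Agent.Lib.Helper1.BG12.TwelveOneMain
import Cfsg.Agent.Lib.Helper10.SubgroupBasic

set_option autoImplicit false
open scoped commutatorElement

/-! B & G section 12 (tau2 primes): basic context and Corollary 12.6, developed against the
frozen types of S1416 and S1417 (helper28). -/

namespace Cfsg.Agent.Lib.Helper28.BGt

open Cfsg Cfsg.Agent.Lib.Helper18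

variable {G : Type*} [Group G] [Finite G]

/-- the statement of S1416 for the group `G` -/
def T1416 (G : Type*) [Group G] [Finite G] : Prop :=
  ∀ (M : Subgroup G), IsCoatom M → ∀ (p : ℕ) [Fact p.Prime] (A : Subgroup G),
    (A ≤ M ∧ Cfsg.IsElementaryAbelian p A ∧ Nat.card A = p ^ 2) →
    Subgroup.centralizer (A : Set G) ≤ M ∧
      ((∀ A₀ : Subgroup G, A₀ ≤ A → Nat.card A₀ = p →
          ¬ (Subgroup.normalizer (A₀ : Set G) ≤ M ∧ ∀ L : Subgroup G, IsCoatom L →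
            Subgroup.normalizer (A₀ : Set G) ≤ L → L = M)) →
        p ∈ Cfsg.sigma M ∧ Cfsg.alphaCore M = ⊥ ∧ Group.IsNilpotent (Cfsg.sigmaCore M))

/-- the conclusion of S1417 -/
def C1417 {G : Type*} [Group G] (M : Subgroup G) (p : ℕ) (A : Subgroup G) : Prop :=
    Group.IsNilpotent (Cfsg.sigmaCore M) ∧
      (∀ P : Sylow p M, IsMulCommutative (P : Subgroup M) ∧
        (A ≤ (P : Subgroup M).map M.subtype →
          (∀ x ∈ (P : Subgroup M).map M.subtype, x ^ p = 1 ↔ x ∈ A) ∧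
          ¬ Subgroup.normalizer ((((P : Subgroup M).map M.subtype : Subgroup G)) : Set G) ≤ M)) ∧
      M ≤ Subgroup.normalizer ((Cfsg.sigmaCore M ⊔ A : Subgroup G) : Set G) ∧
      Cfsg.sigmaCore M ⊓ Subgroup.centralizer (A : Set G) = ⊥ ∧
      (∀ Mstar : Subgroup G, IsCoatom Mstar → Mstar ≠ M → A ≤ Mstar →
        Cfsg.sigmaCore M ⊓ Mstar = ⊥) ∧
      ∃ A₁ : Subgroup G, A₁ ≤ A ∧ Nat.card A₁ = p ∧
        Cfsg.sigmaCore M ⊓ Subgroup.centralizer (A₁ : Set G) = ⊥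

/-- the statement of S1417 for the group `G` -/
def T1417 (G : Type*) [Group G] [Finite G] : Prop :=
  ∀ (M : Subgroup G), IsCoatom M → ∀ (p : ℕ) [Fact p.Prime], p ∈ Cfsg.tau2 M →
    ∀ (A : Subgroup G), (A ≤ M ∧ Cfsg.IsElementaryAbelian p A ∧ Nat.card A = p ^ 2) →
    C1417 M p A

omit [Finite G] in
theorem sigmaCore_le (M : Subgroup G) : Cfsg.sigmaCore M ≤ M := by
  unfold Cfsg.sigmaCore
  exact Subgroup.map_subtype_le _

omit [Finite G] in
theorem conj_mem_of_le_normalizer {H K : Subgroup G} (h : H ≤ Subgroup.normalizer (K : Set G))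
    {x k : G} (hx : x ∈ H) (hk : k ∈ K) : x * k * x⁻¹ ∈ K :=
  (Subgroup.mem_normalizer_iff.mp (h hx) k).mp hk

omit [Finite G] in
theorem le_normalizer_sigmaCore (M : Subgroup G) :
    M ≤ Subgroup.normalizer (Cfsg.sigmaCore M : Set G) := by
  have key : ∀ m ∈ M, ∀ h ∈ Cfsg.sigmaCore M, m * h * m⁻¹ ∈ Cfsg.sigmaCore M := by
    intro m hm h hh
    unfold Cfsg.sigmaCore at hh ⊢
    obtain ⟨y, hy, rfl⟩ := hh
    exact ⟨⟨m, hm⟩ * y * ⟨m, hm⟩⁻¹, (Cfsg.piCore_normal _ _).conj_mem y hy ⟨m, hm⟩, rfl⟩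
  intro m hm
  rw [Subgroup.mem_normalizer_iff]
  intro h
  constructor
  · exact key m hm h
  · intro hh
    have := key m⁻¹ (M.inv_mem hm) _ hh
    have e : m⁻¹ * (m * h * m⁻¹) * m⁻¹⁻¹ = h := by group
    rwa [e] at this

/-- `|M| = |M_σ| |E|` -/
theorem card_compl {M E : Subgroup G} (hE : Cfsg.IsComplIn E (Cfsg.sigmaCore M) M) :
    Nat.card M = Nat.card (Cfsg.sigmaCore M) * Nat.card E := by
  have h1 : Cfsg.sigmaCore M ⊔ E = M := by
    apply le_antisymm (sup_le hE.2.1 hE.1)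
    intro m hm
    obtain ⟨a, ha, b, hb, rfl⟩ := hE.2.2.2 m hm
    exact mul_mem (Subgroup.mem_sup_right ha) (Subgroup.mem_sup_left hb)
  have h2 := Cfsg.Agent.Lib.Helper10.card_sup_of_inf_eq_bot (Cfsg.sigmaCore M) E
    (hE.1.trans (le_normalizer_sigmaCore M)) (by rw [inf_comm]; exact hE.2.2.1)
  rw [h1] at h2
  exact h2

/-- primes dividing `|M_σ|` lie in `σ(M)` -/
theorem prime_sigmaCore (hG : Cfsg.IsMinSimpleOddOrder G) {M : Subgroup G} (hM : IsCoatom M)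
    {q : ℕ} (hq : q.Prime) (hd : q ∣ Nat.card (Cfsg.sigmaCore M)) : q ∈ Cfsg.sigma M :=
  (Cfsg.Agent.Lib.Helper11.BenderO.sigma_hall hG M hM).1.2.1 q hq hd

/-- `E` has `σ(M)`-index in `M` -/
theorem relIndex_compl {M E : Subgroup G} (hE : Cfsg.IsComplIn E (Cfsg.sigmaCore M) M) :
    E.relIndex M = Nat.card (Cfsg.sigmaCore M) := by
  have h1 := card_compl hE
  have h2 := Cfsg.Agent.Lib.Helper1.BG12.card_mul_relIndex_of_le hE.1
  have hpos : 0 < Nat.card E := Nat.card_pos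
  rw [h1, mul_comm (Nat.card ↥(Cfsg.sigmaCore M))] at h2
  exact Nat.eq_of_mul_eq_mul_left hpos h2

/-- the context of a `τ₂`-prime, with the statements of S1416 and S1417 as hypotheses -/
structure Tau2Ctx (M E : Subgroup G) (p : ℕ) (A : Subgroup G) : Prop where
  hG : Cfsg.IsMinSimpleOddOrder G
  h16 : T1416 G
  h17 : T1417 G
  hM : IsCoatom M
  hE : Cfsg.IsComplIn E (Cfsg.sigmaCore M) M
  hp : p ∈ Cfsg.tau2 M
  hAE : A ≤ E
  hAe : Cfsg.IsElementaryAbelian p A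
  hA2 : Nat.card A = p ^ 2

namespace Tau2Ctx

variable {M E : Subgroup G} {p : ℕ} {A : Subgroup G}

theorem prime (c : Tau2Ctx M E p A) : p.Prime := c.hp.1

theorem fact (c : Tau2Ctx M E p A) : Fact p.Prime := ⟨c.hp.1⟩

theorem hEM (c : Tau2Ctx M E p A) : E ≤ M := c.hE.1

theorem hAM (c : Tau2Ctx M E p A) : A ≤ M := c.hAE.trans c.hE.1

theorem not_dvd_sigmaCore (c : Tau2Ctx M E p A) : ¬ p ∣ Nat.card (Cfsg.sigmaCore M) :=
  fun h => c.hp.2.1 (prime_sigmaCore c.hG c.hM c.prime h)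

theorem t17 (c : Tau2Ctx M E p A) : C1417 M p A :=
  have := c.fact
  c.h17 M c.hM p c.hp A ⟨c.hAM, c.hAe, c.hA2⟩

theorem cent_le (c : Tau2Ctx M E p A) : Subgroup.centralizer (A : Set G) ≤ M :=
  have := c.fact
  (c.h16 M c.hM p A ⟨c.hAM, c.hAe, c.hA2⟩).1

theorem A_ne_bot (c : Tau2Ctx M E p A) : A ≠ ⊥ := by
  intro h
  have h1 := c.hA2
  rw [h, Subgroup.card_bot] at h1
  have := c.prime.one_lt
  have h2 : 1 < p ^ 2 := Nat.one_lt_pow (by norm_num) this
  omega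

theorem isPGroup_A (c : Tau2Ctx M E p A) : IsPGroup p A :=
  have := c.fact
  IsPGroup.of_card c.hA2

/-- `M_σ ∩ A = 1` -/
theorem sigmaCore_inf_A (c : Tau2Ctx M E p A) : Cfsg.sigmaCore M ⊓ A = ⊥ := by
  rw [eq_bot_iff]
  intro x hx
  have : x ∈ E ⊓ Cfsg.sigmaCore M := ⟨c.hAE hx.2, hx.1⟩
  rw [c.hE.2.2.1] at this
  exact this

/-- **B & G, Corollary 12.6(a)**, first half: `A ⊴ E` -/
theorem E_le_normalizer (c : Tau2Ctx M E p A) : E ≤ Subgroup.normalizer (A : Set G) := by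
  intro e he
  apply mem_normalizer_of_conjSub_le
  rintro _ ⟨a, ha, rfl⟩
  have hnorm := c.t17.2.2.1
  have hx1 : e * a * e⁻¹ ∈ Cfsg.sigmaCore M ⊔ A :=
    conj_mem_of_le_normalizer hnorm (c.hEM he) (Subgroup.mem_sup_right ha)
  have hAN : A ≤ Subgroup.normalizer (Cfsg.sigmaCore M : Set G) :=
    c.hAM.trans (le_normalizer_sigmaCore M)
  have hx2 : e * a * e⁻¹ ∈ ((Cfsg.sigmaCore M ⊔ A : Subgroup G) : Set G) := hx1
  rw [Subgroup.coe_mul_of_right_le_normalizer_left _ _ hAN] at hx2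
  obtain ⟨s, hs, a', ha', hsa⟩ := hx2
  have hs' : s = e * a * e⁻¹ * a'⁻¹ := by
    have : s * a' = e * a * e⁻¹ := hsa
    rw [← this]; group
  have hsE : s ∈ E := by
    rw [hs']
    exact E.mul_mem (E.mul_mem (E.mul_mem he (c.hAE ha)) (E.inv_mem he)) (E.inv_mem (c.hAE ha'))
  have hs1 : s ∈ E ⊓ Cfsg.sigmaCore M := ⟨hsE, hs⟩
  rw [c.hE.2.2.1, Subgroup.mem_bot] at hs1
  have hsa' : s * a' = e * a * e⁻¹ := hsa
  rw [hs1, one_mul] at hsa'
  show (MulAut.conj e).toMonoidHom a ∈ A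
  simp only [MulEquiv.coe_toMonoidHom, MulAut.conj_apply]
  rw [← hsa']
  exact ha'

/-- a Sylow `p`-subgroup of `E` containing `A`; it is Sylow in `M` -/
theorem exists_sylow (c : Tau2Ctx M E p A) :
    ∃ P : Subgroup G, A ≤ P ∧ IsSylowIn p P E ∧ IsSylowIn p P M := by
  have := c.fact
  have hAp : IsPGroup p (A.subgroupOf E) := c.isPGroup_A.comap_subtype
  obtain ⟨S, hS⟩ := hAp.exists_le_sylow
  refine ⟨(S : Subgroup E).map E.subtype, ?_, isSylowIn_of_sylow S, ?_⟩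
  · intro a ha
    exact ⟨⟨a, c.hAE ha⟩, hS (Subgroup.mem_subgroupOf.mpr ha), rfl⟩
  · have h1 := isSylowIn_of_sylow S
    refine ⟨h1.le.trans c.hEM, h1.isPGroup, ?_⟩
    rw [← Subgroup.relIndex_mul_relIndex _ E M h1.le c.hEM, relIndex_compl c.hE]
    intro hd
    rcases (Nat.Prime.dvd_mul c.prime).mp hd with h | h
    · exact h1.not_dvd h
    · exact c.not_dvd_sigmaCore h

/-- the data of Theorem 12.5(b) for a Sylow subgroup of `M` (in `G`) containing `A` -/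
theorem sylow_data (c : Tau2Ctx M E p A) {P : Subgroup G} (hAP : A ≤ P) (hP : IsSylowIn p P M) :
    (∀ a ∈ P, ∀ b ∈ P, a * b = b * a) ∧ (∀ x ∈ P, x ^ p = 1 ↔ x ∈ A) ∧
      ¬ Subgroup.normalizer (P : Set G) ≤ M := by
  have := c.fact
  obtain ⟨S, hS⟩ := hP.exists_sylow
  have hmap : (S : Subgroup M).map M.subtype = P := by
    rw [hS]
    exact Subgroup.map_subgroupOf_eq_of_le hP.le
  obtain ⟨hcomm, h2⟩ := c.t17.2.1 S
  rw [hmap] at h2
  obtain ⟨h3, h4⟩ := h2 hAP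
  refine ⟨?_, h3, h4⟩
  intro a ha b hb
  have ha' : (⟨a, hP.le ha⟩ : M) ∈ (S : Subgroup M) := by
    rw [hS]; exact Subgroup.mem_subgroupOf.mpr ha
  have hb' : (⟨b, hP.le hb⟩ : M) ∈ (S : Subgroup M) := by
    rw [hS]; exact Subgroup.mem_subgroupOf.mpr hb
  have := hcomm.is_comm.comm ⟨_, ha'⟩ ⟨_, hb'⟩
  have h5 := congrArg (fun z : (S : Subgroup M) => ((z : M) : G)) this
  simpa using h5

/-- **B & G, Corollary 12.6(a)**, second half: `A` contains every subgroup of order `p` of `E` -/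
theorem le_A_of_card (c : Tau2Ctx M E p A) {X : Subgroup G} (hXE : X ≤ E) (hX : Nat.card X = p) :
    X ≤ A := by
  have := c.fact
  obtain ⟨P, hAP, hPE, hPM⟩ := c.exists_sylow
  obtain ⟨-, hOm, -⟩ := c.sylow_data hAP hPM
  have hXp : IsPGroup p X := IsPGroup.of_card (n := 1) (by rw [pow_one]; exact hX)
  obtain ⟨e, he, hle⟩ := hPE.exists_conj_le hXE hXp
  have h1 : conjSub e X ≤ A := by
    intro y hy
    apply (hOm y (hle hy)).mp
    have hc : Nat.card (conjSub e X) = p := by rw [card_conjSub, hX]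
    have := pow_card_eq_one' (G := conjSub e X) (x := ⟨y, hy⟩)
    rw [hc] at this
    simpa using congrArg Subtype.val this
  have h2 : X ≤ conjSub e⁻¹ A := conjSub_le_iff.mp h1
  rw [conjSub_eq_of_mem_normalizer (c.E_le_normalizer (E.inv_mem he))] at h2
  exact h2

/-- **B & G, Corollary 12.6(b)**: `N_M(A) = E` -/
theorem inf_normalizer (c : Tau2Ctx M E p A) : M ⊓ Subgroup.normalizer (A : Set G) = E := by
  apply le_antisymm
  · rintro m ⟨hmM, hmN⟩
    obtain ⟨e, he, s, hs, rfl⟩ := c.hE.2.2.2 m hmM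
    have hsN : s ∈ Subgroup.normalizer (A : Set G) := by
      have : s = e⁻¹ * (e * s) := by group
      rw [this]
      exact Subgroup.mul_mem _ (Subgroup.inv_mem _ (c.E_le_normalizer he)) hmN
    have hsC : s ∈ Subgroup.centralizer (A : Set G) := by
      rw [Subgroup.mem_centralizer_iff]
      intro a ha
      have h1 : s * a * s⁻¹ ∈ A := (Subgroup.mem_normalizer_iff.mp hsN a).mp ha
      have h2 : s * a * s⁻¹ * a⁻¹ ∈ A := A.mul_mem h1 (A.inv_mem ha)
      have h3 : s * a * s⁻¹ * a⁻¹ ∈ Cfsg.sigmaCore M := by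
        have h4 : a * s⁻¹ * a⁻¹ ∈ Cfsg.sigmaCore M :=
          conj_mem_of_le_normalizer (le_normalizer_sigmaCore M) (c.hAM ha)
            (Subgroup.inv_mem _ hs)
        have : s * a * s⁻¹ * a⁻¹ = s * (a * s⁻¹ * a⁻¹) := by group
        rw [this]
        exact Subgroup.mul_mem _ hs h4
      have h5 : s * a * s⁻¹ * a⁻¹ ∈ Cfsg.sigmaCore M ⊓ A := ⟨h3, h2⟩
      rw [c.sigmaCore_inf_A, Subgroup.mem_bot] at h5
      have : a * s = (s * a * s⁻¹ * a⁻¹)⁻¹ * (s * a) := by group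
      rw [this, h5, inv_one, one_mul]
    have hs1 : s ∈ Cfsg.sigmaCore M ⊓ Subgroup.centralizer (A : Set G) := ⟨hs, hsC⟩
    rw [c.t17.2.2.2.1, Subgroup.mem_bot] at hs1
    rw [hs1, mul_one]
    exact he
  · exact le_inf c.hEM c.E_le_normalizer

/-- `N_G(P) ≤ N_G(A)` for a Sylow subgroup `P ≥ A` of `M` -/
theorem normalizer_sylow_le (c : Tau2Ctx M E p A) {P : Subgroup G} (hAP : A ≤ P)
    (hP : IsSylowIn p P M) :
    Subgroup.normalizer (P : Set G) ≤ Subgroup.normalizer (A : Set G) := by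
  obtain ⟨-, hOm, -⟩ := c.sylow_data hAP hP
  intro g hg
  apply mem_normalizer_of_conjSub_le
  rintro _ ⟨a, ha, rfl⟩
  show (MulAut.conj g).toMonoidHom a ∈ A
  simp only [MulEquiv.coe_toMonoidHom, MulAut.conj_apply]
  have h1 : g * a * g⁻¹ ∈ P := (Subgroup.mem_normalizer_iff.mp hg a).mp (hAP ha)
  apply (hOm _ h1).mp
  rw [conj_pow, c.hAe.2 a ha]
  group

/-- **B & G, Corollary 12.6(b)**: `N_G(A) ≰ M` -/
theorem normalizer_not_le (c : Tau2Ctx M E p A) : ¬ Subgroup.normalizer (A : Set G) ≤ M := by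
  obtain ⟨P, hAP, -, hPM⟩ := c.exists_sylow
  obtain ⟨-, -, hN⟩ := c.sylow_data hAP hPM
  intro h
  exact hN ((c.normalizer_sylow_le hAP hPM).trans h)

/-- `A` is abelian -/
theorem A_comm (c : Tau2Ctx M E p A) {a b : G} (ha : a ∈ A) (hb : b ∈ A) : a * b = b * a := by
  have := c.hAe.1.is_comm.comm ⟨a, ha⟩ ⟨b, hb⟩
  simpa using congrArg Subtype.val this

/-- `A ≤ C_G(X)` for `X ≤ A` -/
theorem A_le_centralizer (c : Tau2Ctx M E p A) {X : Subgroup G} (hXA : X ≤ A) :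
    A ≤ Subgroup.centralizer (X : Set G) := by
  intro a ha
  rw [Subgroup.mem_centralizer_iff]
  intro x hx
  exact c.A_comm (hXA hx) ha

/-- **B & G, Theorem 12.5(e)** in the form used below -/
theorem eq_of_meets (c : Tau2Ctx M E p A) {L : Subgroup G} (hL : IsCoatom L) (hAL : A ≤ L)
    (hne : Cfsg.sigmaCore M ⊓ L ≠ ⊥) : L = M := by
  by_contra h
  exact hne (c.t17.2.2.2.2.1 L hL h hAL)

/-- a proper subgroup containing `A` and meeting `M_σ` lies in `M`, which is the only maximal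
subgroup containing it -/
theorem unique_of_meets (c : Tau2Ctx M E p A) {K : Subgroup G} (hK : K ≠ ⊤) (hAK : A ≤ K)
    (hne : Cfsg.sigmaCore M ⊓ K ≠ ⊥) :
    K ≤ M ∧ ∀ L : Subgroup G, IsCoatom L → K ≤ L → L = M := by
  have huniq : ∀ L : Subgroup G, IsCoatom L → K ≤ L → L = M := by
    intro L hL hKL
    apply c.eq_of_meets hL (hAK.trans hKL)
    intro h
    apply hne
    rw [eq_bot_iff, ← h]
    exact inf_le_inf_left _ hKL
  obtain ⟨L, hL, hKL⟩ := Cfsg.Agent.Lib.Helper11.BenderE.exists_coatom_ge K hK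
  have := huniq L hL hKL
  rw [this] at hKL
  exact ⟨hKL, huniq⟩

omit [Finite G] in
theorem centralizer_ne_top_of_ne_bot (hG : Cfsg.IsMinSimpleOddOrder G) {X : Subgroup G}
    (hX : X ≠ ⊥) : Subgroup.centralizer (X : Set G) ≠ ⊤ := by
  obtain ⟨⟨x, hx⟩, hx1'⟩ := (Subgroup.ne_bot_iff_exists_ne_one).mp hX
  have hx1 : x ≠ 1 := fun h => hx1' (Subtype.ext h)
  have : IsSimpleGroup G := hG.2.1
  intro h
  apply Cfsg.Agent.Lib.Helper11.centralizer_singleton_ne_top hG.2.2.1 hx1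
  rw [eq_top_iff, ← h]
  apply Subgroup.centralizer_le
  intro y hy
  rw [Set.mem_singleton_iff] at hy
  rw [hy]; exact hx

/-- **B & G, Corollary 12.6(c)** -/
theorem cent_unique (c : Tau2Ctx M E p A) {X : Subgroup G} (hXA : X ≤ A) (hX : Nat.card X = p)
    (hne : Cfsg.sigmaCore M ⊓ Subgroup.centralizer (X : Set G) ≠ ⊥) :
    Subgroup.centralizer (X : Set G) ≤ M ∧
      ∀ L : Subgroup G, IsCoatom L → Subgroup.centralizer (X : Set G) ≤ L → L = M := by
  have hX1 : X ≠ ⊥ := by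
    intro h
    rw [h, Subgroup.card_bot] at hX
    exact c.prime.one_lt.ne hX
  exact c.unique_of_meets (centralizer_ne_top_of_ne_bot c.hG hX1) (c.A_le_centralizer hXA) hne

/-- **B & G, Corollary 12.6** (the statement of S1418) -/
theorem twelve_six (c : Tau2Ctx M E p A) :
    (E ≤ Subgroup.normalizer (A : Set G) ∧ ∀ X : Subgroup G, X ≤ E → Nat.card X = p → X ≤ A) ∧
      (Subgroup.centralizer (A : Set G) ≤ M ⊓ Subgroup.normalizer (A : Set G) ∧
        M ⊓ Subgroup.normalizer (A : Set G) = E ∧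
        ¬ Subgroup.normalizer (A : Set G) ≤ M) ∧
      ∀ X : Subgroup G, X ≤ A → Nat.card X = p →
        Cfsg.sigmaCore M ⊓ Subgroup.centralizer (X : Set G) ≠ ⊥ →
        (Subgroup.centralizer (X : Set G) ≤ M ∧ ∀ L : Subgroup G, IsCoatom L →
          Subgroup.centralizer (X : Set G) ≤ L → L = M) :=
  ⟨⟨c.E_le_normalizer, fun _ h1 h2 => c.le_A_of_card h1 h2⟩,
    ⟨le_inf c.cent_le (Subgroup.centralizer_le_normalizer _), c.inf_normalizer,
      c.normalizer_not_le⟩,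
    fun _ h1 h2 h3 => c.cent_unique h1 h2 h3⟩

end Tau2Ctx

end Cfsg.Agent.Lib.Helper28.BGt
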