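import Mathlib
import Cfsg.Agent.Lib.Helper28.BGtA
import Cfsg.Agent.Lib.Helper1.Hall
import Cfsg.Agent.Lib.Helper1.CoprimeGen
import Cfsg.Agent.Lib.helper4.MinNonAbelian
import Cfsg.Agent.S1404

set_option autoImplicit false
open scoped commutatorElement

/-! B & G section 12: the "cross" argument for two `τ₂`-primes and Theorem 12.10
(statement S1420) (helper28). -/

namespace Cfsg.Agent.Lib.Helper28.BGt

open Cfsg Cfsg.Agent.Lib.Helper18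

variable {G : Type*} [Group G] [Finite G]

/-- the consequence of S1414 used here: normal `s`-complements in `M'` for `s ∉ β(M)` -/
def NC (G : Type*) [Group G] [Finite G] : Prop :=
  ∀ H : Subgroup G, IsCoatom H → ∀ s : ℕ, s.Prime → s ∣ Nat.card H → s ∉ Cfsg.beta H →
    Cfsg.HasNormalPComplement s ↥⁅H, H⁆

omit [Finite G] in
theorem index_piCore_sigma (H : Subgroup G) :
    (Cfsg.piCore (Cfsg.sigma H) ↥H).index = (Cfsg.sigmaCore H).relIndex H := by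
  unfold Cfsg.sigmaCore Subgroup.relIndex
  congr 1
  unfold Subgroup.subgroupOf
  exact (Subgroup.comap_map_eq_self_of_injective H.subtype_injective _).symm

/-- an `r`-element of `H` lies in `H_σ` when `r ∈ σ(H)` -/
theorem pelem_mem_sigmaCore (hG : Cfsg.IsMinSimpleOddOrder G) {H : Subgroup G} (hH : IsCoatom H)
    {r : ℕ} (hr : r ∈ Cfsg.sigma H) {u : G} (hu : u ∈ H) {k : ℕ} (huk : u ^ r ^ k = 1) :
    u ∈ Cfsg.sigmaCore H := by
  have hrp : r.Prime := hr.1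
  have hnd : ¬ r ∣ (Cfsg.piCore (Cfsg.sigma H) ↥H).index := by
    rw [index_piCore_sigma]
    exact (Cfsg.Agent.Lib.Helper11.BenderO.sigma_hall hG H hH).1.2.2 r hrp hr
  have hord : orderOf (⟨u, hu⟩ : H) ∣ r ^ k := by
    apply orderOf_dvd_of_pow_eq_one
    apply Subtype.ext
    simpa using huk
  have hcop : (Nat.card (Subgroup.zpowers (⟨u, hu⟩ : H))).Coprime
      (Cfsg.piCore (Cfsg.sigma H) ↥H).index := by
    rw [Nat.card_zpowers]
    apply Nat.Coprime.coprime_dvd_left hord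
    apply Nat.Coprime.pow_left
    exact (Nat.Prime.coprime_iff_not_dvd hrp).mpr hnd
  have hle := Cfsg.Agent.Lib.Helper1.BG12.le_of_coprime_index
    (Cfsg.piCore (Cfsg.sigma H) ↥H) (Subgroup.zpowers (⟨u, hu⟩ : H)) hcop
  exact ⟨⟨u, hu⟩, hle (Subgroup.mem_zpowers _), rfl⟩

/-- `H_σ ≤ H'` -/
theorem sigmaCore_le_derived (hG : Cfsg.IsMinSimpleOddOrder G) {H : Subgroup G} (hH : IsCoatom H) :
    Cfsg.sigmaCore H ≤ ⁅H, H⁆ := by
  have h1 := Cfsg.Agent.Lib.Helper11.BenderS.sigmaCore_le_commutator hG H hH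
  rw [← Subgroup.map_subtype_commutator]
  unfold Cfsg.sigmaCore
  exact Subgroup.map_mono h1

/-- the key commutation: for distinct primes `r, s ∈ σ(H)` with `s ∉ β(H)`, an `r`-element of `H`
normalizing an `s`-subgroup `D` of `H` centralizes `D` -/
theorem cross_centralizes (hG : Cfsg.IsMinSimpleOddOrder G) (nc : NC G) {H : Subgroup G}
    (hH : IsCoatom H) {r s : ℕ} (hrs : r ≠ s) (hr : r ∈ Cfsg.sigma H) (hs : s ∈ Cfsg.sigma H)
    (hsβ : s ∉ Cfsg.beta H) {u : G} (hu : u ∈ H) {k : ℕ} (huk : u ^ r ^ k = 1)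
    {D : Subgroup G} (hDH : D ≤ H) (hD : IsPGroup s D)
    (huD : u ∈ Subgroup.normalizer (D : Set G)) : ∀ d ∈ D, u * d = d * u := by
  have hrp : r.Prime := hr.1
  have hsp : s.Prime := hs.1
  have : Fact s.Prime := ⟨hsp⟩
  have huK : u ∈ ⁅H, H⁆ := sigmaCore_le_derived hG hH (pelem_mem_sigmaCore hG hH hr hu huk)
  have hDK : D ≤ ⁅H, H⁆ := by
    intro d hd
    obtain ⟨j, hj⟩ := hD ⟨d, hd⟩
    have hj' : d ^ s ^ j = 1 := by simpa using congrArg Subtype.val hj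
    exact sigmaCore_le_derived hG hH (pelem_mem_sigmaCore hG hH hs (hDH hd) hj')
  obtain ⟨Q, N, hNn, hNc⟩ := nc H hH s hsp hs.2.1 hsβ
  have hidx : N.index = Nat.card (Q : Subgroup ↥⁅H, H⁆) := hNc.symm.index_eq_card
  have hcardN : Nat.card N = (Q : Subgroup ↥⁅H, H⁆).index := hNc.index_eq_card.symm
  have hNs : (Nat.card N).Coprime s := by
    rw [hcardN]
    exact ((Nat.Prime.coprime_iff_not_dvd hsp).mpr Q.not_dvd_index).symm
  -- `u ∈ N`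
  have huN : (⟨u, huK⟩ : ↥⁅H, H⁆) ∈ N := by
    have hord : orderOf (⟨u, huK⟩ : ↥⁅H, H⁆) ∣ r ^ k := by
      apply orderOf_dvd_of_pow_eq_one
      apply Subtype.ext
      simpa using huk
    have hcop : (Nat.card (Subgroup.zpowers (⟨u, huK⟩ : ↥⁅H, H⁆))).Coprime N.index := by
      rw [Nat.card_zpowers, hidx]
      apply Nat.Coprime.coprime_dvd_left hord
      obtain ⟨n, hn⟩ := IsPGroup.iff_card.mp Q.isPGroup'
      rw [hn]
      apply Nat.Coprime.pow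
      exact (Nat.coprime_primes hrp hsp).mpr hrs
    exact Cfsg.Agent.Lib.Helper1.BG12.le_of_coprime_index N _ hcop (Subgroup.mem_zpowers _)
  intro d hd
  have hdK : d ∈ ⁅H, H⁆ := hDK hd
  -- the commutator lies in `N` and in `D`
  have hcN : (⟨u, huK⟩ : ↥⁅H, H⁆) * ⟨d, hdK⟩ * (⟨u, huK⟩ : ↥⁅H, H⁆)⁻¹ * (⟨d, hdK⟩ : ↥⁅H, H⁆)⁻¹ ∈ N := by
    have h1 : (⟨d, hdK⟩ : ↥⁅H, H⁆) * (⟨u, huK⟩ : ↥⁅H, H⁆)⁻¹ * (⟨d, hdK⟩ : ↥⁅H, H⁆)⁻¹ ∈ N :=
      hNn.conj_mem _ (N.inv_mem huN) _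
    have h2 := N.mul_mem huN h1
    have e : (⟨u, huK⟩ : ↥⁅H, H⁆) * ⟨d, hdK⟩ * (⟨u, huK⟩ : ↥⁅H, H⁆)⁻¹ * (⟨d, hdK⟩ : ↥⁅H, H⁆)⁻¹ =
        (⟨u, huK⟩ : ↥⁅H, H⁆) * ((⟨d, hdK⟩ : ↥⁅H, H⁆) * (⟨u, huK⟩ : ↥⁅H, H⁆)⁻¹ *
          (⟨d, hdK⟩ : ↥⁅H, H⁆)⁻¹) := by group
    rw [e]; exact h2
  have hcD : u * d * u⁻¹ * d⁻¹ ∈ D :=
    D.mul_mem ((Subgroup.mem_normalizer_iff.mp huD d).mp hd) (D.inv_mem hd)
  obtain ⟨j, hj⟩ := hD ⟨_, hcD⟩
  have hj' : (u * d * u⁻¹ * d⁻¹) ^ s ^ j = 1 := by simpa using congrArg Subtype.val hj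
  set c : ↥⁅H, H⁆ := (⟨u, huK⟩ : ↥⁅H, H⁆) * ⟨d, hdK⟩ * (⟨u, huK⟩ : ↥⁅H, H⁆)⁻¹ *
    (⟨d, hdK⟩ : ↥⁅H, H⁆)⁻¹ with hc
  have hcval : (c : G) = u * d * u⁻¹ * d⁻¹ := by simp [hc]
  have ho1 : orderOf c ∣ s ^ j := by
    apply orderOf_dvd_of_pow_eq_one
    apply Subtype.ext
    rw [Subgroup.coe_pow, hcval, hj']
    rfl
  have ho2 : orderOf c ∣ Nat.card N := by
    have := orderOf_dvd_natCard (⟨c, hcN⟩ : N)
    rwa [← Subgroup.orderOf_coe] at this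
  have ho3 : orderOf c = 1 :=
    Nat.eq_one_of_dvd_coprimes (Nat.Coprime.pow_right j hNs) ho2 ho1
  rw [orderOf_eq_one_iff] at ho3
  have h3 : u * d * u⁻¹ * d⁻¹ = 1 := by
    rw [← hcval, ho3]; rfl
  have : u * d = (u * d * u⁻¹ * d⁻¹) * (d * u) := by group
  rw [this, h3, one_mul]

/-- primes of `τ₂(M)` are not ideal, hence in no `β(H)` -/
theorem not_beta_of_tau2 (hG : Cfsg.IsMinSimpleOddOrder G) {M : Subgroup G} (hM : IsCoatom M)
    {p : ℕ} (hp : p ∈ Cfsg.tau2 M) (H : Subgroup G) : p ∉ Cfsg.beta H := by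
  have : Fact p.Prime := ⟨hp.1⟩
  intro h
  exact Cfsg.Agent.Lib.Helper1.BG10.not_ideal_of_nonsigma hG M hM p hp.2.1 hp.2.2.2 h.2

/-- a prime `p ∉ σ(H)` for which `H` contains an `E_{p²}` lies in `τ₂(H)` -/
theorem tau2_of_not_sigma (hG : Cfsg.IsMinSimpleOddOrder G) {H : Subgroup G} (hH : IsCoatom H)
    {p : ℕ} [hp : Fact p.Prime] (hpσ : p ∉ Cfsg.sigma H) {A : Subgroup G} (hAH : A ≤ H)
    (hAe : Cfsg.IsElementaryAbelian p A) (hA2 : Nat.card A = p ^ 2) : p ∈ Cfsg.tau2 H := by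
  refine ⟨hp.out, hpσ, ?_, ?_⟩
  · by_contra h
    exact hpσ (Cfsg.Agent.Lib.Helper11.BenderN.alpha_sub_sigma hG H hH p ⟨hp.out, h⟩)
  · intro h
    have := Cfsg.Agent.Lib.Helper1.BG10.pRankLE_card_le h hAH hAe
    rw [hA2, pow_one] at this
    have h2 : p < p ^ 2 := by
      calc p = p ^ 1 := (pow_one p).symm
        _ < p ^ 2 := Nat.pow_lt_pow_right hp.out.one_lt (by norm_num)
    omega

namespace Tau2Ctx

variable {M E : Subgroup G} {p : ℕ} {A : Subgroup G}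

theorem A_ne_top (c : Tau2Ctx M E p A) : A ≠ ⊤ := by
  intro h
  have := c.hAM
  rw [h] at this
  exact c.hM.1 (eq_top_iff.mpr this)

theorem normalizer_ne_top (c : Tau2Ctx M E p A) : Subgroup.normalizer (A : Set G) ≠ ⊤ :=
  Cfsg.Agent.Lib.Helper1.BG10.normalizer_ne_top c.hG c.A_ne_bot c.A_ne_top

/-- a maximal subgroup `H ≥ N_G(A)` is different from `M` and contains `E` -/
theorem overN (c : Tau2Ctx M E p A) {H : Subgroup G}
    (hNH : Subgroup.normalizer (A : Set G) ≤ H) : H ≠ M ∧ E ≤ H ∧ A ≤ H := by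
  refine ⟨?_, c.E_le_normalizer.trans hNH, Subgroup.le_normalizer.trans hNH⟩
  rintro rfl
  exact c.normalizer_not_le hNH

/-- `p ∈ σ(H)` for a maximal subgroup `H ≥ N_G(A)` -/
theorem p_mem_sigma_over (c : Tau2Ctx M E p A) {H : Subgroup G} (hH : IsCoatom H)
    (hNH : Subgroup.normalizer (A : Set G) ≤ H) : p ∈ Cfsg.sigma H := by
  have := c.fact
  by_contra hpσ
  obtain ⟨-, -, hAH⟩ := c.overN hNH
  have hτ := tau2_of_not_sigma c.hG hH hpσ hAH c.hAe c.hA2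
  have h17 := c.h17 H hH p hτ A ⟨hAH, c.hAe, c.hA2⟩
  obtain ⟨P, hP⟩ := Cfsg.Agent.Lib.Helper1.BG10.exists_sylow_map_ge p H A hAH c.isPGroup_A
  obtain ⟨hOm, hN⟩ := (h17.2.1 P).2 hP
  apply hN
  refine le_trans ?_ hNH
  intro g hg
  apply mem_normalizer_of_conjSub_le
  rintro _ ⟨a, ha, rfl⟩
  show (MulAut.conj g).toMonoidHom a ∈ A
  simp only [MulEquiv.coe_toMonoidHom, MulAut.conj_apply]
  have h1 : g * a * g⁻¹ ∈ (P : Subgroup H).map H.subtype :=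
    (Subgroup.mem_normalizer_iff.mp hg a).mp (hP ha)
  apply (hOm _ h1).mp
  rw [conj_pow, c.hAe.2 a ha]
  group

/-- `q ∈ σ(H)` for a maximal subgroup `H ≥ N_G(A)` and any other `τ₂`-context -/
theorem q_mem_sigma_over (c : Tau2Ctx M E p A) {q : ℕ} {B : Subgroup G} (c' : Tau2Ctx M E q B)
    {H : Subgroup G} (hH : IsCoatom H) (hNH : Subgroup.normalizer (A : Set G) ≤ H) :
    q ∈ Cfsg.sigma H := by
  have := c.fact
  have := c'.fact
  by_contra hqσ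
  obtain ⟨hne, hEH, hAH⟩ := c.overN hNH
  have hBH : B ≤ H := c'.hAE.trans hEH
  have hτ := tau2_of_not_sigma c.hG hH hqσ hBH c'.hAe c'.hA2
  have h17 := c.h17 H hH q hτ B ⟨hBH, c'.hAe, c'.hA2⟩
  have h1 := h17.2.2.2.2.1 M c.hM hne.symm c'.hAM
  have hpσ := c.p_mem_sigma_over hH hNH
  obtain ⟨⟨a, ha⟩, ha1'⟩ := (Subgroup.ne_bot_iff_exists_ne_one).mp c.A_ne_bot
  have ha1 : a ≠ 1 := fun h => ha1' (Subtype.ext h)
  have h2 : a ∈ Cfsg.sigmaCore H ⊓ M := by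
    refine ⟨?_, c.hAM ha⟩
    apply pelem_mem_sigmaCore c.hG hH hpσ (hAH ha) (k := 1)
    rw [pow_one]
    exact c.hAe.2 a ha
  rw [h1, Subgroup.mem_bot] at h2
  exact ha1 h2

/-- a `q`-element of `E` (`q ∈ τ₂(M)`, `q ≠ p`) centralizes `A` -/
theorem cross (c : Tau2Ctx M E p A) (nc : NC G) {q : ℕ} {B : Subgroup G} (c' : Tau2Ctx M E q B)
    (hpq : q ≠ p) {x : G} (hx : x ∈ E) {k : ℕ} (hxk : x ^ q ^ k = 1) :
    ∀ a ∈ A, x * a = a * x := by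
  obtain ⟨H, hH, hNH⟩ := Cfsg.Agent.Lib.Helper11.BenderE.exists_coatom_ge _ c.normalizer_ne_top
  obtain ⟨-, hEH, hAH⟩ := c.overN hNH
  exact cross_centralizes c.hG nc hH hpq (c.q_mem_sigma_over c' hH hNH) (c.p_mem_sigma_over hH hNH)
    (not_beta_of_tau2 c.hG c.hM c.hp H) (hEH hx) hxk hAH c.isPGroup_A (c.E_le_normalizer hx)

/-- a `p`-element of `E` centralizes `A` -/
theorem pelem_centralizes (c : Tau2Ctx M E p A) {x : G} (hx : x ∈ E) {k : ℕ}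
    (hxk : x ^ p ^ k = 1) : ∀ a ∈ A, x * a = a * x := by
  have := c.fact
  have hxp : IsPGroup p (Subgroup.zpowers x) := by
    rw [IsPGroup.iff_orderOf]
    rintro ⟨_, j, rfl⟩
    have h1 : orderOf x ∣ p ^ k := orderOf_dvd_of_pow_eq_one hxk
    obtain ⟨m, -, hm⟩ := (Nat.dvd_prime_pow c.prime).mp h1
    have h2 : orderOf (⟨x ^ j, ⟨j, rfl⟩⟩ : Subgroup.zpowers x) ∣ p ^ m := by
      rw [← hm]
      rw [← Subgroup.orderOf_coe]
      exact orderOf_dvd_of_pow_eq_one (by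
        show (x ^ j) ^ orderOf x = 1
        rw [← zpow_natCast, ← zpow_mul, mul_comm, zpow_mul, zpow_natCast, pow_orderOf_eq_one,
          one_zpow])
    obtain ⟨m', -, hm'⟩ := (Nat.dvd_prime_pow c.prime).mp h2
    exact ⟨m', hm'⟩
  have hzN : Subgroup.zpowers x ≤ Subgroup.normalizer (A : Set G) := by
    rw [Subgroup.zpowers_le]
    exact c.E_le_normalizer hx
  have hsup : IsPGroup p (A ⊔ Subgroup.zpowers x : Subgroup G) :=
    IsPGroup.to_sup_of_normal_left' c.isPGroup_A hxp hzN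
  have hle : A ⊔ Subgroup.zpowers x ≤ M :=
    sup_le c.hAM ((Subgroup.zpowers_le.mpr hx).trans c.hEM)
  obtain ⟨P, hP⟩ := Cfsg.Agent.Lib.Helper1.BG10.exists_sylow_map_ge p M _ hle hsup
  obtain ⟨hcomm, -, -⟩ := c.sylow_data (le_sup_left.trans hP) (isSylowIn_of_sylow P)
  intro a ha
  exact hcomm x (hP (Subgroup.mem_sup_right (Subgroup.mem_zpowers x))) a
    (hP (Subgroup.mem_sup_left ha))

end Tau2Ctx

end Cfsg.Agent.Lib.Helper28.BGt
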