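import Mathlib
import Cfsg.Agent.Lib.Helper28.BGtC

set_option autoImplicit false
open scoped commutatorElement

/-! B & G section 12: Theorem 12.10 (statement S1420) (helper28). -/

namespace Cfsg.Agent.Lib.Helper28.BGt

open Cfsg Cfsg.Agent.Lib.Helper18
open scoped Pointwise

variable {G : Type*} [Group G] [Finite G]

/-- a Sylow `q`-subgroup of `E` is Sylow in `M` for `q ∉ σ(M)` -/
theorem sylow_compl (hG : Cfsg.IsMinSimpleOddOrder G) {M E : Subgroup G} (hM : IsCoatom M)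
    (hE : Cfsg.IsComplIn E (Cfsg.sigmaCore M) M) {q : ℕ} [hq : Fact q.Prime]
    (hqσ : q ∉ Cfsg.sigma M) {Q : Subgroup G} (hQ : IsSylowIn q Q E) : IsSylowIn q Q M := by
  refine ⟨hQ.le.trans hE.1, hQ.isPGroup, ?_⟩
  rw [← Subgroup.relIndex_mul_relIndex _ E M hQ.le hE.1, relIndex_compl hE]
  intro hd
  rcases (Nat.Prime.dvd_mul hq.out).mp hd with h | h
  · exact hQ.not_dvd h
  · exact hqσ (prime_sigmaCore hG hM hq.out h)

/-- `E` contains an `E_{q²}` for `q ∈ τ₂(M)` -/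
theorem exists_sq_le_compl (hG : Cfsg.IsMinSimpleOddOrder G) {M E : Subgroup G} (hM : IsCoatom M)
    (hE : Cfsg.IsComplIn E (Cfsg.sigmaCore M) M) {q : ℕ} (hq : q ∈ Cfsg.tau2 M) :
    ∃ B : Subgroup G, B ≤ E ∧ Cfsg.IsElementaryAbelian q B ∧ Nat.card B = q ^ 2 := by
  have : Fact q.Prime := ⟨hq.1⟩
  obtain ⟨B₀, hB₀M, hB₀e, hB₀c⟩ :=
    Cfsg.Agent.Lib.Helper1.BG10.exists_elemAb_sq_of_not_pRankLE_one q M hq.2.2.2
  obtain ⟨S⟩ : Nonempty (Sylow q E) := inferInstance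
  have hS := sylow_compl hG hM hE hq.2.1 (isSylowIn_of_sylow S)
  obtain ⟨m, -, hle⟩ := hS.exists_conj_le hB₀M (IsPGroup.of_card hB₀c)
  refine ⟨conjSub m B₀, hle.trans (isSylowIn_of_sylow S).le, ?_, ?_⟩
  · exact Cfsg.Agent.Lib.Helper11.BenderF.elemAb_conjSub q m hB₀e
  · rw [card_conjSub, hB₀c]

omit [Finite G] in
/-- conjugates of complements by elements of `M` are complements -/
theorem compl_conj {M E : Subgroup G} (hE : Cfsg.IsComplIn E (Cfsg.sigmaCore M) M) {g : G}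
    (hg : g ∈ M) : Cfsg.IsComplIn (conjSub g E) (Cfsg.sigmaCore M) M := by
  refine ⟨conjSub_le_of_mem hE.1 hg, hE.2.1, ?_, ?_⟩
  · rw [eq_bot_iff]
    rintro x ⟨hx1, hx2⟩
    have hx1 : g⁻¹ * x * g ∈ E := mem_conjSub.mp hx1
    have hx2 : x ∈ Cfsg.sigmaCore M := hx2
    have h2 : g⁻¹ * x * g ∈ Cfsg.sigmaCore M := by
      have := conj_mem_of_le_normalizer (le_normalizer_sigmaCore M) (M.inv_mem hg) hx2
      simpa using this
    have h3 : g⁻¹ * x * g ∈ E ⊓ Cfsg.sigmaCore M := ⟨hx1, h2⟩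
    rw [hE.2.2.1, Subgroup.mem_bot] at h3
    rw [Subgroup.mem_bot]
    have : x = g * (g⁻¹ * x * g) * g⁻¹ := by group
    rw [this, h3]; group
  · intro m hm
    have hm' : g⁻¹ * m * g ∈ M := M.mul_mem (M.mul_mem (M.inv_mem hg) hm) hg
    obtain ⟨a, ha, b, hb, hab⟩ := hE.2.2.2 _ hm'
    refine ⟨g * a * g⁻¹, conj_mem_conjSub ha, g * b * g⁻¹,
      conj_mem_of_le_normalizer (le_normalizer_sigmaCore M) hg hb, ?_⟩
    have : m = g * (g⁻¹ * m * g) * g⁻¹ := by group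
    rw [this, hab]; group

namespace Tau2Ctx

variable {M E : Subgroup G} {p : ℕ} {A : Subgroup G}

/-- a `q`-element of `E`, `q ∈ τ₂(M)`, centralizes `A` -/
theorem qelem_centralizes (c : Tau2Ctx M E p A) (nc : NC G) {q : ℕ} (hq : q ∈ Cfsg.tau2 M)
    {x : G} (hx : x ∈ E) {k : ℕ} (hxk : x ^ q ^ k = 1) : ∀ a ∈ A, x * a = a * x := by
  by_cases hpq : q = p
  · subst hpq
    exact c.pelem_centralizes hx hxk
  · obtain ⟨B, hBE, hBe, hB2⟩ := exists_sq_le_compl c.hG c.hM c.hE hq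
    exact c.cross nc ⟨c.hG, c.h16, c.h17, c.hM, c.hE, hq, hBE, hBe, hB2⟩ hpq hx hxk

/-- every `τ₂(M)`-element of `E` centralizes `A` -/
theorem tau2elem_centralizes (c : Tau2Ctx M E p A) (nc : NC G) {x : G} (hx : x ∈ E)
    (hτ : ∀ q : ℕ, q.Prime → q ∣ orderOf x → q ∈ Cfsg.tau2 M) :
    x ∈ Subgroup.centralizer (A : Set G) := by
  have hle : Subgroup.zpowers x ≤ Subgroup.centralizer (A : Set G) := by
    apply Cfsg.Agent.Lib.Helper1.sylow_le_imp_le
    intro q hq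
    obtain ⟨Q⟩ : Nonempty (Sylow q (Subgroup.zpowers x)) := inferInstance
    refine ⟨Q, ?_⟩
    rintro _ ⟨z, hz, rfl⟩
    rw [Subgroup.mem_centralizer_iff]
    intro a ha
    by_cases hz1 : z = 1
    · rw [hz1]; simp
    · obtain ⟨k, hk⟩ := Q.isPGroup' ⟨z, hz⟩
      have hk' : ((z : Subgroup.zpowers x) : G) ^ q ^ k = 1 := by
        have := congrArg (fun w : (Q : Subgroup (Subgroup.zpowers x)) =>
          (((w : Subgroup.zpowers x)) : G)) hk
        simpa using this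
      have hqd : q ∣ orderOf x := by
        have h1 : q ∣ Nat.card (Q : Subgroup (Subgroup.zpowers x)) := by
          obtain ⟨n, hn⟩ := IsPGroup.iff_card.mp Q.isPGroup'
          rw [hn]
          cases n with
          | zero =>
            exfalso
            rw [pow_zero] at hn
            have := Subgroup.card_eq_one.mp hn
            have hz' : z ∈ (Q : Subgroup (Subgroup.zpowers x)) := hz
            rw [this, Subgroup.mem_bot] at hz'
            exact hz1 hz'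
          | succ n => exact Dvd.intro_left (q ^ n) rfl
        have h2 := h1.trans (Subgroup.card_subgroup_dvd_card _)
        rwa [Nat.card_zpowers] at h2
      have hzE : ((z : Subgroup.zpowers x) : G) ∈ E :=
        (Subgroup.zpowers_le.mpr hx) z.2
      exact (c.qelem_centralizes nc (hτ q hq.out hqd) hzE hk' a ha).symm
  exact hle (Subgroup.mem_zpowers x)

end Tau2Ctx

/-- **B & G, Theorem 12.10(d)** for elements of `M` -/
theorem tau2_cent_unique (hG : Cfsg.IsMinSimpleOddOrder G) (h16 : T1416 G) (h17 : T1417 G)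
    (nc : NC G) {M E : Subgroup G} (hM : IsCoatom M)
    (hE : Cfsg.IsComplIn E (Cfsg.sigmaCore M) M) {x : G} (hxM : x ∈ M) (hx1 : x ≠ 1)
    (hτ : ∀ q : ℕ, q.Prime → q ∣ orderOf x → q ∈ Cfsg.tau2 M) (hσ : x ∈ Cfsg.sigmaHat M) :
    Subgroup.centralizer ({x} : Set G) ≤ M ∧
      ∀ L : Subgroup G, IsCoatom L → Subgroup.centralizer ({x} : Set G) ≤ L → L = M := by
  have hMs : Group.IsSolvable ↥M := Cfsg.Agent.Lib.Helper11.MaxSubB.coatom_solvable hG M hM
  -- conjugate `x` into a complement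
  have hcard : Nat.card ↥M = Nat.card E * Nat.card (Cfsg.sigmaCore M) := by
    rw [card_compl hE, mul_comm]
  have hcopσ : ∀ n : ℕ, (∀ q : ℕ, q.Prime → q ∣ n → q ∉ Cfsg.sigma M) →
      n.Coprime (Nat.card (Cfsg.sigmaCore M)) := by
    intro n hn
    apply Nat.coprime_of_dvd
    intro q hq hqn hqs
    exact hn q hq hqn (prime_sigmaCore hG hM hq hqs)
  have hEσ : ∀ q : ℕ, q.Prime → q ∣ Nat.card E → q ∉ Cfsg.sigma M := by
    intro q hq hqE hqσ
    have h1 := (Cfsg.Agent.Lib.Helper11.BenderO.sigma_hall hG M hM).1.2.2 q hq hqσ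
    apply h1
    have h2 := Cfsg.Agent.Lib.Helper1.BG12.card_mul_relIndex_of_le (sigmaCore_le M)
    rw [card_compl hE] at h2
    have hpos : 0 < Nat.card (Cfsg.sigmaCore M) := Nat.card_pos
    have h3 : (Cfsg.sigmaCore M).relIndex M = Nat.card E := Nat.eq_of_mul_eq_mul_left hpos h2
    rw [h3]; exact hqE
  have hcop : (Nat.card E).Coprime (Nat.card (Cfsg.sigmaCore M)) := hcopσ _ hEσ
  have hcE : Nat.card (E.subgroupOf M) = Nat.card E :=
    Nat.card_congr (Subgroup.subgroupOfEquivOfLe hE.1).toEquiv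
  have hcK : (Nat.card (Subgroup.zpowers (⟨x, hxM⟩ : M))).Coprime
      (Nat.card (Cfsg.sigmaCore M)) := by
    rw [Nat.card_zpowers, Subgroup.orderOf_mk]
    exact hcopσ _ (fun q hq hqd => (hτ q hq hqd).2.1)
  obtain ⟨g, hg⟩ := Cfsg.Agent.Lib.Helper1.hall_le_conj (Nat.card E) (Nat.card (Cfsg.sigmaCore M))
    hcard hcop (E.subgroupOf M) (Subgroup.zpowers (⟨x, hxM⟩ : M)) hcE hcK
  have hxg : (⟨x, hxM⟩ : M) ∈ MulAut.conj g • E.subgroupOf M := hg (Subgroup.mem_zpowers _)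
  rw [Subgroup.mem_smul_pointwise_iff_exists] at hxg
  obtain ⟨e, he, hex⟩ := hxg
  have hex' : (g : G) * (e : G) * (g : G)⁻¹ = x := by
    have := congrArg Subtype.val hex
    simpa [MulAut.smul_def, MulAut.conj_apply] using this
  have heE : (e : G) ∈ E := Subgroup.mem_subgroupOf.mp he
  set E' := conjSub (g : G) E with hE'def
  have hE' : Cfsg.IsComplIn E' (Cfsg.sigmaCore M) M := compl_conj hE g.2
  have hxE' : x ∈ E' := by
    rw [← hex']
    exact conj_mem_conjSub heE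
  -- choose a prime and a context
  have hox : orderOf x ≠ 1 := by
    rw [Ne, orderOf_eq_one_iff]; exact hx1
  obtain ⟨p, hp, hpd⟩ := Nat.exists_prime_and_dvd hox
  have hpτ := hτ p hp hpd
  obtain ⟨A, hAE, hAe, hA2⟩ := exists_sq_le_compl hG hM hE' hpτ
  have c : Tau2Ctx M E' p A := ⟨hG, h16, h17, hM, hE', hpτ, hAE, hAe, hA2⟩
  have hxC := c.tau2elem_centralizes nc hxE' hτ
  have hAC : A ≤ Subgroup.centralizer ({x} : Set G) :=
    Cfsg.Agent.Lib.Helper11.le_centralizer_singleton hxC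
  obtain ⟨-, y, hy, hy1, hxy⟩ := hσ
  have hne : Cfsg.sigmaCore M ⊓ Subgroup.centralizer ({x} : Set G) ≠ ⊥ := by
    intro h
    have : y ∈ Cfsg.sigmaCore M ⊓ Subgroup.centralizer ({x} : Set G) := by
      refine ⟨hy, ?_⟩
      show y ∈ Subgroup.centralizer ({x} : Set G)
      rw [Subgroup.mem_centralizer_iff]
      intro z hz
      rw [Set.mem_singleton_iff] at hz
      rw [hz]; exact hxy
    rw [h, Subgroup.mem_bot] at this
    exact hy1 this
  have : IsSimpleGroup G := hG.2.1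
  exact c.unique_of_meets (Cfsg.Agent.Lib.Helper11.centralizer_singleton_ne_top hG.2.2.1 hx1) hAC hne

/-- `q`-subgroups of `M` are abelian for `q ∉ σ(M)` -/
theorem abelian_of_not_sigma (hG : Cfsg.IsMinSimpleOddOrder G) (h17 : T1417 G) {M : Subgroup G}
    (hM : IsCoatom M) {q : ℕ} [hq : Fact q.Prime] (hqσ : q ∉ Cfsg.sigma M) {Q : Subgroup G}
    (hQM : Q ≤ M) (hQ : IsPGroup q Q) : ∀ a ∈ Q, ∀ b ∈ Q, a * b = b * a := by
  by_cases hr1 : Cfsg.PRankLE q 1 M
  · by_cases hQ1 : Q = ⊥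
    · intro a ha b hb
      rw [hQ1, Subgroup.mem_bot] at ha hb
      rw [ha, hb]
    have hqd : q ∣ Nat.card M := by
      obtain ⟨n, hn⟩ := IsPGroup.iff_card.mp hQ
      have h1 : q ∣ Nat.card Q := by
        rw [hn]
        cases n with
        | zero => exact absurd (Subgroup.card_eq_one.mp (by simpa using hn)) hQ1
        | succ n => exact Dvd.intro_left (q ^ n) rfl
      exact h1.trans (Subgroup.card_dvd_of_le hQM)
    have hq2 : q ≠ 2 := Cfsg.Agent.Lib.Helper1.BG10.prime_ne_two hG q M hqd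
    have hcyc : IsCyclic (Q.subgroupOf M) :=
      Cfsg.Agent.Lib.Helper1.BG12.cyclic_of_rank_one q hq2 _ hQ.comap_subtype hr1
    intro a ha b hb
    have := hcyc.isMulCommutative.is_comm.comm
      (⟨⟨a, hQM ha⟩, Subgroup.mem_subgroupOf.mpr ha⟩ : Q.subgroupOf M)
      ⟨⟨b, hQM hb⟩, Subgroup.mem_subgroupOf.mpr hb⟩
    have h2 := congrArg (fun z : Q.subgroupOf M => ((z : M) : G)) this
    simpa using h2
  · obtain ⟨A, hAM, hAe, hA2⟩ :=
      Cfsg.Agent.Lib.Helper1.BG10.exists_elemAb_sq_of_not_pRankLE_one q M hr1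
    have hτ := tau2_of_not_sigma hG hM hqσ hAM hAe hA2
    have h := h17 M hM q hτ A ⟨hAM, hAe, hA2⟩
    obtain ⟨P, hP⟩ := Cfsg.Agent.Lib.Helper1.BG10.exists_sylow_map_ge q M Q hQM hQ
    have hcomm := (h.2.1 P).1
    intro a ha b hb
    obtain ⟨a', ha', rfl⟩ := hP ha
    obtain ⟨b', hb', rfl⟩ := hP hb
    have := hcomm.is_comm.comm ⟨a', ha'⟩ ⟨b', hb'⟩
    have h2 := congrArg (fun z : (P : Subgroup M) => ((z : M) : G)) this
    simpa using h2

/-- **B & G, Theorem 12.10(a)**: nilpotent `σ(M)'`-subgroups of `M` are abelian -/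
theorem nilpotent_sigma'_abelian (hG : Cfsg.IsMinSimpleOddOrder G) (h17 : T1417 G)
    {M : Subgroup G} (hM : IsCoatom M) {N : Subgroup G} (hNM : N ≤ M)
    (hnil : Group.IsNilpotent N)
    (hσ : ∀ q : ℕ, q.Prime → q ∣ Nat.card N → q ∉ Cfsg.sigma M) : IsMulCommutative N := by
  apply Cfsg.Agent.Lib.helper4.comm_of_nilp_of_sylows_comm
  intro q hq Q
  by_cases hQ1 : (Q : Subgroup N) = ⊥
  · rw [hQ1]
    exact ⟨⟨fun a b => Subsingleton.elim _ _⟩⟩
  have hqd : q ∣ Nat.card N := by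
    obtain ⟨n, hn⟩ := IsPGroup.iff_card.mp Q.isPGroup'
    have h1 : q ∣ Nat.card (Q : Subgroup N) := by
      rw [hn]
      cases n with
      | zero => exact absurd (Subgroup.card_eq_one.mp (by simpa using hn)) hQ1
      | succ n => exact Dvd.intro_left (q ^ n) rfl
    exact h1.trans (Subgroup.card_subgroup_dvd_card _)
  have hqσ := hσ q hq.out hqd
  have hmapM : (Q : Subgroup N).map N.subtype ≤ M := by
    rintro _ ⟨z, -, rfl⟩
    exact hNM z.2
  have hcomm := abelian_of_not_sigma hG h17 hM hqσ hmapM (Q.isPGroup'.map _)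
  refine ⟨⟨fun a b => ?_⟩⟩
  have := hcomm _ ⟨a.1, a.2, rfl⟩ _ ⟨b.1, b.2, rfl⟩
  apply Subtype.ext
  apply Subtype.ext
  simpa using this

/-- **B & G, Theorem 12.10(c)** -/
theorem normalizer_noncyclic_sigma (hG : Cfsg.IsMinSimpleOddOrder G) (h16 : T1416 G)
    {M : Subgroup G} (hM : IsCoatom M) {p : ℕ} (hp : p ∈ Cfsg.sigma M) {P : Subgroup G}
    (hP : IsPGroup p P) (hPM : P ≤ M) (hnc : ¬ IsCyclic P) :
    Subgroup.normalizer (P : Set G) ≤ M := by
  have : Fact p.Prime := ⟨hp.1⟩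
  have hp2 : p ≠ 2 := Cfsg.Agent.Lib.Helper1.BG10.prime_ne_two hG p M hp.2.1
  obtain ⟨Z, hZP, -, hZe, hZc⟩ := Cfsg.Agent.Lib.Helper11.BenderF.exists_normal_sq p hp2 P hP hnc
  have hP1 : P ≠ ⊥ := by
    rintro rfl
    exact hnc inferInstance
  have h4 := (Cfsg.Agent.S1404.result hG M hM p hp P hP hP1 hPM).2
  rw [h4]
  apply sup_le inf_le_left
  have hC := (h16 M hM p Z ⟨hZP.trans hPM, hZe, hZc⟩).1
  exact (Subgroup.centralizer_le hZP).trans hC

/-- primes dividing `|E|` are not in `σ(M)` -/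
theorem compl_prime_not_sigma (hG : Cfsg.IsMinSimpleOddOrder G) {M E : Subgroup G}
    (hM : IsCoatom M) (hE : Cfsg.IsComplIn E (Cfsg.sigmaCore M) M) {q : ℕ} (hq : q.Prime)
    (hqE : q ∣ Nat.card E) : q ∉ Cfsg.sigma M := by
  intro hqσ
  have h1 := (Cfsg.Agent.Lib.Helper11.BenderO.sigma_hall hG M hM).1.2.2 q hq hqσ
  apply h1
  have h2 := Cfsg.Agent.Lib.Helper1.BG12.card_mul_relIndex_of_le (sigmaCore_le M)
  rw [card_compl hE] at h2
  have hpos : 0 < Nat.card (Cfsg.sigmaCore M) := Nat.card_pos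
  have h3 : (Cfsg.sigmaCore M).relIndex M = Nat.card E := Nat.eq_of_mul_eq_mul_left hpos h2
  rw [h3]; exact hqE

/-- **B & G, Theorem 12.10** (the statement of S1420) -/
theorem twelve_ten (hG : Cfsg.IsMinSimpleOddOrder G) (h16 : T1416 G) (h17 : T1417 G)
    (nc : NC G) (M : Subgroup G) (hM : IsCoatom M) (E : Subgroup G)
    (hE : Cfsg.IsComplIn E (Cfsg.sigmaCore M) M) :
    (∀ N : Subgroup G, N ≤ M → Group.IsNilpotent N →
      (∀ p : ℕ, p.Prime → p ∣ Nat.card N → p ∉ Cfsg.sigma M) → IsMulCommutative N) ∧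
      IsMulCommutative ↥⁅E, E⁆ ∧
      (∀ (p : ℕ) (P : Subgroup G), p ∈ Cfsg.sigma M → IsPGroup p P → P ≤ M → ¬ IsCyclic P →
        Subgroup.normalizer (P : Set G) ≤ M) ∧
      ∀ x ∈ M, x ≠ 1 → (∀ p : ℕ, p.Prime → p ∣ orderOf x → p ∈ Cfsg.tau2 M) →
        x ∈ Cfsg.sigmaHat M →
        Subgroup.centralizer ({x} : Set G) ≤ M ∧ ∀ L : Subgroup G, IsCoatom L →
          Subgroup.centralizer ({x} : Set G) ≤ L → L = M := by
  refine ⟨fun N hNM hnil hσ => nilpotent_sigma'_abelian hG h17 hM hNM hnil hσ, ?_,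
    fun p P hp hP hPM hnc => normalizer_noncyclic_sigma hG h16 hM hp hP hPM hnc,
    fun x hxM hx1 hτ hσ => tau2_cent_unique hG h16 h17 nc hM hE hxM hx1 hτ hσ⟩
  have hnil := (Cfsg.Agent.Lib.Helper1.BG12.twelve_one hG M hM E hE).1
  apply nilpotent_sigma'_abelian hG h17 hM
    ((Cfsg.Agent.Lib.Helper1.BG12.derived_le E).trans hE.1) hnil
  intro q hq hqd
  exact compl_prime_not_sigma hG hM hE hq
    (hqd.trans (Subgroup.card_dvd_of_le (Cfsg.Agent.Lib.Helper1.BG12.derived_le E)))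

end Cfsg.Agent.Lib.Helper28.BGt
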