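import Mathlib
import Cfsg.Prelude.Def_OddOrderLocal
import Cfsg.Agent.Lib.Helper18.SylowIn
import Cfsg.Agent.Lib.Helper1.Nilp
import Cfsg.Agent.Lib.Helper10.SubgroupBasic

set_option autoImplicit false
open scoped commutatorElement

/-! Pure group theory for B & G Theorem 12.7: a `p`-element acting on an elementary abelian group
of order `p ^ 2` (helper28). -/

namespace Cfsg.Agent.Lib.Helper28.BGt

open Cfsg Cfsg.Agent.Lib.Helper18

variable {G : Type*} [Group G]

/-- a `p`-element normalizing a group of order `p` centralizes it -/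
theorem centralizes_of_normalizes_prime {p : ℕ} [hp : Fact p.Prime] {W : Subgroup G}
    (hW : Nat.card W = p) {y : G} (hy : y ∈ Subgroup.normalizer (W : Set G)) {k : ℕ}
    (hyk : y ^ p ^ k = 1) : y ∈ Subgroup.centralizer (W : Set G) := by
  have hfin : Finite W := Nat.finite_of_card_ne_zero (by rw [hW]; exact hp.out.ne_zero)
  have hcyc : IsCyclic W := isCyclic_of_prime_card hW
  have hcard : Nat.card (MulAut W) = p - 1 := by
    rw [IsCyclic.card_mulAut, hW, Nat.totient_prime hp.out]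
  set f := W.normalizerMonoidHom with hf
  set y' : Subgroup.normalizer (W : Set G) := ⟨y, hy⟩ with hy'
  have h1 : (f y') ^ p ^ k = 1 := by
    rw [← map_pow]
    have : y' ^ p ^ k = 1 := Subtype.ext (by simpa using hyk)
    rw [this, map_one]
  have h2 : orderOf (f y') ∣ p ^ k := orderOf_dvd_of_pow_eq_one h1
  have hfinA : Finite (MulAut W) := Nat.finite_of_card_ne_zero (by
    rw [hcard]
    have := hp.out.two_le
    omega)
  have h3 : orderOf (f y') ∣ p - 1 := hcard ▸ orderOf_dvd_natCard _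
  have hcop : (p ^ k).Coprime (p - 1) := by
    apply Nat.Coprime.pow_left
    rw [Nat.Prime.coprime_iff_not_dvd hp.out]
    apply Nat.not_dvd_of_pos_of_lt
    · have := hp.out.two_le; omega
    · have := hp.out.two_le; omega
  have h4 : orderOf (f y') = 1 := Nat.eq_one_of_dvd_coprimes hcop h2 h3
  rw [orderOf_eq_one_iff] at h4
  have h5 : y' ∈ f.ker := h4
  rw [hf, Subgroup.normalizerMonoidHom_ker] at h5
  exact Subgroup.mem_subgroupOf.mp h5

/-- a `p`-element normalizing a nontrivial finite `p`-group has a nontrivial fixed point -/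
theorem exists_fixed_of_normalizes [Finite G] {p : ℕ} [hp : Fact p.Prime] {A : Subgroup G}
    (hA : IsPGroup p A) (hA1 : A ≠ ⊥) {y : G} (hy : y ∈ Subgroup.normalizer (A : Set G)) {k : ℕ}
    (hyk : y ^ p ^ k = 1) : ∃ b ∈ A, b ≠ 1 ∧ y * b = b * y := by
  have hyp : IsPGroup p (Subgroup.zpowers y) := by
    rw [IsPGroup.iff_orderOf]
    rintro ⟨_, j, rfl⟩
    have h1 : orderOf y ∣ p ^ k := orderOf_dvd_of_pow_eq_one hyk
    have h2 : orderOf (⟨y ^ j, ⟨j, rfl⟩⟩ : Subgroup.zpowers y) ∣ p ^ k := by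
      rw [← Subgroup.orderOf_coe]
      apply orderOf_dvd_of_pow_eq_one
      show (y ^ j) ^ p ^ k = 1
      rw [← zpow_natCast, ← zpow_mul, mul_comm, zpow_mul, zpow_natCast, hyk, one_zpow]
    obtain ⟨m', -, hm'⟩ := (Nat.dvd_prime_pow hp.out).mp h2
    exact ⟨m', hm'⟩
  have hzN : Subgroup.zpowers y ≤ Subgroup.normalizer (A : Set G) := by
    rw [Subgroup.zpowers_le]; exact hy
  set T : Subgroup G := A ⊔ Subgroup.zpowers y with hT
  have hTp : IsPGroup p T := IsPGroup.to_sup_of_normal_left' hA hyp hzN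
  have hTN : T ≤ Subgroup.normalizer (A : Set G) := sup_le Subgroup.le_normalizer hzN
  have hAT : A ≤ T := le_sup_left
  haveI : Group.IsNilpotent T := hTp.isNilpotent
  haveI : (A.subgroupOf T).Normal := (Subgroup.normal_subgroupOf_iff_le_normalizer hAT).mpr hTN
  have hne : A.subgroupOf T ≠ ⊥ := by
    intro h
    apply hA1
    rw [eq_bot_iff]
    intro a ha
    have : (⟨a, hAT ha⟩ : T) ∈ A.subgroupOf T := Subgroup.mem_subgroupOf.mpr ha
    rw [h, Subgroup.mem_bot] at this
    rw [Subgroup.mem_bot]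
    exact congrArg Subtype.val this
  have h1 := Cfsg.Agent.Lib.Helper1.normal_inf_center_ne_bot (A.subgroupOf T) hne
  obtain ⟨⟨z, hz⟩, hz1'⟩ := (Subgroup.ne_bot_iff_exists_ne_one).mp h1
  have hz1 : z ≠ 1 := fun h => hz1' (Subtype.ext h)
  refine ⟨(z : G), Subgroup.mem_subgroupOf.mp hz.1, fun h => hz1 (Subtype.ext h), ?_⟩
  have hyT : y ∈ T := le_sup_right (a := A) (Subgroup.mem_zpowers y)
  have := (Subgroup.mem_center_iff.mp hz.2) ⟨y, hyT⟩
  exact congrArg Subtype.val this

section EA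

variable [Finite G] {p : ℕ} [hp : Fact p.Prime] {A : Subgroup G}

omit [Finite G] hp in
theorem ea_comm (hAe : Cfsg.IsElementaryAbelian p A) {a b : G} (ha : a ∈ A) (hb : b ∈ A) :
    a * b = b * a := by
  have := hAe.1.is_comm.comm ⟨a, ha⟩ ⟨b, hb⟩
  simpa using congrArg Subtype.val this

omit [Finite G] in
/-- a subgroup of order `p` is generated by any of its non-identity elements -/
theorem zpowers_eq_of_card_prime {X : Subgroup G} (hX : Nat.card X = p) {x : G} (hx : x ∈ X)
    (hx1 : x ≠ 1) : Subgroup.zpowers x = X := by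
  have hfin : Finite X := Nat.finite_of_card_ne_zero (by rw [hX]; exact hp.out.ne_zero)
  apply Subgroup.eq_of_le_of_card_ge (Subgroup.zpowers_le.mpr hx)
  rw [hX, Nat.card_zpowers]
  have h1 : orderOf x ∣ p := by
    have := orderOf_dvd_natCard (⟨x, hx⟩ : X)
    rwa [hX, Subgroup.orderOf_mk] at this
  rcases (Nat.dvd_prime hp.out).mp h1 with h | h
  · exact absurd (orderOf_eq_one_iff.mp h) hx1
  · exact h.ge

omit [Finite G] in
theorem card_zpowers_of_pow_prime {x : G} (hx1 : x ≠ 1) (hxp : x ^ p = 1) :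
    Nat.card (Subgroup.zpowers x) = p := by
  rw [Nat.card_zpowers]
  exact orderOf_eq_prime hxp hx1

/-- the fixed points of a non-centralizing `p`-element on `A ≅ E_{p²}` form a group of order `p`
containing all commutators -/
theorem ea_fixed (hAe : Cfsg.IsElementaryAbelian p A) (hA2 : Nat.card A = p ^ 2) {y : G}
    (hy : y ∈ Subgroup.normalizer (A : Set G)) {k : ℕ} (hyk : y ^ p ^ k = 1)
    (hyA : y ∉ Subgroup.centralizer (A : Set G)) :
    ∃ b ∈ A, b ≠ 1 ∧ y * b = b * y ∧ ∀ a ∈ A, y * a * y⁻¹ * a⁻¹ ∈ Subgroup.zpowers b := by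
  have hAp : IsPGroup p A := IsPGroup.of_card hA2
  have hA1 : A ≠ ⊥ := by
    intro h
    rw [h, Subgroup.card_bot] at hA2
    have : 1 < p ^ 2 := Nat.one_lt_pow (by norm_num) hp.out.one_lt
    omega
  obtain ⟨b, hbA, hb1, hyb⟩ := exists_fixed_of_normalizes hAp hA1 hy hyk
  refine ⟨b, hbA, hb1, hyb, ?_⟩
  have hbp : b ^ p = 1 := hAe.2 b hbA
  have hcb : Nat.card (Subgroup.zpowers b) = p := card_zpowers_of_pow_prime hb1 hbp
  -- the fixed points `K`
  set K : Subgroup G := A ⊓ Subgroup.centralizer ({y} : Set G) with hK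
  have hbK : b ∈ K := by
    refine ⟨hbA, ?_⟩
    show b ∈ Subgroup.centralizer ({y} : Set G)
    rw [Subgroup.mem_centralizer_iff]
    intro z hz
    rw [Set.mem_singleton_iff] at hz
    rw [hz]; exact hyb
  have hKA : K ≠ A := by
    intro h
    apply hyA
    rw [Subgroup.mem_centralizer_iff]
    intro a ha
    have : a ∈ K := h ▸ ha
    exact (Subgroup.mem_centralizer_iff.mp this.2 y rfl).symm
  have hKcard : Nat.card K = p := by
    have hKle : K ≤ A := inf_le_left
    obtain ⟨n, hn⟩ := IsPGroup.iff_card.mp (hAp.to_le hKle)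
    have h1 : Nat.card K ∣ p ^ 2 := hA2 ▸ Subgroup.card_dvd_of_le hKle
    have hlt : Nat.card K < p ^ 2 := by
      rw [← hA2]
      apply lt_of_le_of_ne (Subgroup.card_le_of_le hKle)
      intro h
      exact hKA (Subgroup.eq_of_le_of_card_ge hKle h.ge)
    have hge : p ≤ Nat.card K := by
      rw [← hcb]
      exact Subgroup.card_le_of_le (Subgroup.zpowers_le.mpr hbK)
    rw [hn] at hlt hge ⊢
    have hn2 : n < 2 := (Nat.pow_lt_pow_iff_right hp.out.one_lt).mp hlt
    have hn1 : 1 ≤ n := by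
      by_contra h
      have : n = 0 := by omega
      rw [this, pow_zero] at hge
      have := hp.out.one_lt
      omega
    have : n = 1 := by omega
    rw [this, pow_one]
  have hKb : Subgroup.zpowers b = K := zpowers_eq_of_card_prime hKcard hbK hb1
  -- the commutator map
  have hconj : ∀ a ∈ A, y * a * y⁻¹ ∈ A := fun a ha =>
    (Subgroup.mem_normalizer_iff.mp hy a).mp ha
  let φ : A →* A := MonoidHom.mk' (fun a => ⟨y * a * y⁻¹ * (a : G)⁻¹,
      A.mul_mem (hconj a a.2) (A.inv_mem a.2)⟩) (by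
    intro a b
    apply Subtype.ext
    show y * ((a : G) * b) * y⁻¹ * ((a : G) * b)⁻¹ =
      (y * a * y⁻¹ * (a : G)⁻¹) * (y * b * y⁻¹ * (b : G)⁻¹)
    have h1 : (a : G)⁻¹ * (y * b * y⁻¹) = (y * b * y⁻¹) * (a : G)⁻¹ :=
      ea_comm hAe (A.inv_mem a.2) (hconj b b.2)
    have h2 : (a : G)⁻¹ * (b : G)⁻¹ = (b : G)⁻¹ * (a : G)⁻¹ :=
      ea_comm hAe (A.inv_mem a.2) (A.inv_mem b.2)
    calc y * ((a : G) * b) * y⁻¹ * ((a : G) * b)⁻¹
        = (y * a * y⁻¹) * (y * b * y⁻¹) * ((b : G)⁻¹ * (a : G)⁻¹) := by group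
      _ = (y * a * y⁻¹) * (y * b * y⁻¹) * ((a : G)⁻¹ * (b : G)⁻¹) := by rw [h2]
      _ = (y * a * y⁻¹) * ((y * b * y⁻¹) * (a : G)⁻¹) * (b : G)⁻¹ := by group
      _ = (y * a * y⁻¹) * ((a : G)⁻¹ * (y * b * y⁻¹)) * (b : G)⁻¹ := by rw [h1]
      _ = (y * a * y⁻¹ * (a : G)⁻¹) * (y * b * y⁻¹ * (b : G)⁻¹) := by group)
  have hφ : ∀ a : A, ((φ a : A) : G) = y * a * y⁻¹ * (a : G)⁻¹ := fun a => rfl
  -- the range of `φ`, as a subgroup of `G`
  set R : Subgroup G := φ.range.map A.subtype with hR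
  have hRA : R ≤ A := by
    rintro _ ⟨z, -, rfl⟩
    exact z.2
  -- `R` is normalized by `y`
  have hyR : y ∈ Subgroup.normalizer (R : Set G) := by
    apply mem_normalizer_of_conjSub_le
    rintro _ ⟨_, ⟨_, ⟨a, rfl⟩, rfl⟩, rfl⟩
    refine ⟨φ ⟨y * a * y⁻¹, hconj a a.2⟩, ⟨_, rfl⟩, ?_⟩
    show ((φ ⟨y * a * y⁻¹, hconj a a.2⟩ : A) : G) = y * ((φ a : A) : G) * y⁻¹
    rw [hφ, hφ]
    group
  -- `R ≠ A`, as `φ` is not injective
  have hRcard : Nat.card R = Nat.card φ.range :=
    Subgroup.card_map_of_injective A.subtype_injective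
  have hRne : R ≠ A := by
    intro h
    have h1 : Nat.card φ.range = Nat.card A := by rw [← hRcard, h]
    have h2 : φ.range = ⊤ := Subgroup.card_eq_iff_eq_top _ |>.mp h1
    have hsurj : Function.Surjective φ := MonoidHom.range_eq_top.mp h2
    have hinj : Function.Injective φ := Finite.injective_iff_surjective.mpr hsurj
    have h3 : φ ⟨b, hbA⟩ = φ 1 := by
      apply Subtype.ext
      rw [hφ, hφ]
      simp only [OneMemClass.coe_one, mul_one, mul_inv_cancel, inv_one]
      rw [hyb]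
      group
    have := hinj h3
    exact hb1 (congrArg Subtype.val this)
  -- `R ≠ ⊥`
  have hR1 : R ≠ ⊥ := by
    intro h
    apply hyA
    rw [Subgroup.mem_centralizer_iff]
    intro a ha
    have h1 : ((φ ⟨a, ha⟩ : A) : G) ∈ R := ⟨φ ⟨a, ha⟩, ⟨_, rfl⟩, rfl⟩
    rw [h, Subgroup.mem_bot, hφ] at h1
    have : y * a = (y * a * y⁻¹ * a⁻¹) * (a * y) := by group
    rw [this]
    show a * y = _
    rw [h1, one_mul]
  have hRcard' : Nat.card R = p := by
    obtain ⟨n, hn⟩ := IsPGroup.iff_card.mp (hAp.to_le hRA)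
    have hlt : Nat.card R < p ^ 2 := by
      rw [← hA2]
      apply lt_of_le_of_ne (Subgroup.card_le_of_le hRA)
      intro h
      exact hRne (Subgroup.eq_of_le_of_card_ge hRA h.ge)
    rw [hn] at hlt ⊢
    have hn2 : n < 2 := (Nat.pow_lt_pow_iff_right hp.out.one_lt).mp hlt
    have hn1 : n ≠ 0 := by
      intro h0
      rw [h0, pow_zero] at hn
      exact hR1 (Subgroup.card_eq_one.mp hn)
    have : n = 1 := by omega
    rw [this, pow_one]
  have hyRc := centralizes_of_normalizes_prime hRcard' hyR hyk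
  have hRK : R ≤ K := by
    intro z hz
    refine ⟨hRA hz, ?_⟩
    show z ∈ Subgroup.centralizer ({y} : Set G)
    rw [Subgroup.mem_centralizer_iff]
    intro w hw
    rw [Set.mem_singleton_iff] at hw
    rw [hw]
    exact (Subgroup.mem_centralizer_iff.mp hyRc z hz).symm
  intro a ha
  rw [hKb]
  apply hRK
  exact ⟨φ ⟨a, ha⟩, ⟨_, rfl⟩, rfl⟩

omit [Finite G] hp in
/-- iterating a conjugation that multiplies by a fixed central-for-`y` element -/
theorem conj_pow_eq {y x b : G} (hyx : y * x * y⁻¹ = x * b) (hyb : y * b = b * y) (i : ℕ) :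
    y ^ i * x * (y ^ i)⁻¹ = x * b ^ i := by
  induction i with
  | zero => simp
  | succ i ih =>
    have hyb' : y * b ^ i * y⁻¹ = b ^ i := by
      have : Commute y (b ^ i) := (show Commute y b from hyb).pow_right i
      rw [this.eq]; group
    calc y ^ (i + 1) * x * (y ^ (i + 1))⁻¹
        = y * (y ^ i * x * (y ^ i)⁻¹) * y⁻¹ := by rw [pow_succ']; group
      _ = y * (x * b ^ i) * y⁻¹ := by rw [ih]
      _ = (y * x * y⁻¹) * (y * b ^ i * y⁻¹) := by group
      _ = x * b * b ^ i := by rw [hyx, hyb']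
      _ = x * b ^ (i + 1) := by rw [pow_succ', mul_assoc]

/-- **the transvection lemma**: two distinct subgroups of order `p` of `A ≅ E_{p²}` not
centralized by the `p`-element `y ∈ N(A)` are conjugate under a power `y ^ i`, `p ∤ i` -/
theorem exists_pow_conj (hAe : Cfsg.IsElementaryAbelian p A) (hA2 : Nat.card A = p ^ 2) {y : G}
    (hy : y ∈ Subgroup.normalizer (A : Set G)) {k : ℕ} (hyk : y ^ p ^ k = 1)
    {X X' : Subgroup G} (hXA : X ≤ A) (hX : Nat.card X = p) (hX'A : X' ≤ A)
    (hX' : Nat.card X' = p) (hXy : ¬ X ≤ Subgroup.centralizer ({y} : Set G))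
    (hX'y : ¬ X' ≤ Subgroup.centralizer ({y} : Set G)) (hne : X ≠ X') :
    ∃ i : ℕ, ¬ p ∣ i ∧ conjSub (y ^ i) X = X' := by
  have hyA : y ∉ Subgroup.centralizer (A : Set G) := by
    intro h
    apply hXy
    intro x hx
    rw [Subgroup.mem_centralizer_iff]
    intro w hw
    rw [Set.mem_singleton_iff] at hw
    rw [hw]
    exact (Subgroup.mem_centralizer_iff.mp h x (hXA hx)).symm
  obtain ⟨b, hbA, hb1, hyb, hcomm⟩ := ea_fixed hAe hA2 hy hyk hyA
  have hbp : b ^ p = 1 := hAe.2 b hbA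
  have hcb : Nat.card (Subgroup.zpowers b) = p := card_zpowers_of_pow_prime hb1 hbp
  have hbcent : Subgroup.zpowers b ≤ Subgroup.centralizer ({y} : Set G) := by
    rw [Subgroup.zpowers_le, Subgroup.mem_centralizer_iff]
    intro w hw
    rw [Set.mem_singleton_iff] at hw
    rw [hw]; exact hyb
  -- `X ∩ ⟨b⟩ = 1`
  have hXb : X ⊓ Subgroup.zpowers b = ⊥ := by
    by_contra hne'
    obtain ⟨⟨z, hz⟩, hz1'⟩ := (Subgroup.ne_bot_iff_exists_ne_one).mp hne'
    have hz1 : z ≠ 1 := fun h => hz1' (Subtype.ext h)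
    have h1 := zpowers_eq_of_card_prime hX hz.1 hz1
    have h2 := zpowers_eq_of_card_prime hcb hz.2 hz1
    apply hXy
    rw [← h1, h2]
    exact hbcent
  -- `A = X ⟨b⟩`
  have hsup : X ⊔ Subgroup.zpowers b = A := by
    have hle : X ⊔ Subgroup.zpowers b ≤ A := sup_le hXA (Subgroup.zpowers_le.mpr hbA)
    apply Subgroup.eq_of_le_of_card_ge hle
    have hN : Subgroup.zpowers b ≤ Subgroup.normalizer (X : Set G) := by
      intro z hz
      rw [Subgroup.mem_normalizer_iff]
      intro x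
      have hzA : z ∈ A := (Subgroup.zpowers_le.mpr hbA) hz
      constructor
      · intro hx
        have : z * x * z⁻¹ = x := by
          rw [ea_comm hAe hzA (hXA hx)]; group
        rw [this]; exact hx
      · intro hx
        have hx' : z * x * z⁻¹ ∈ A := hXA hx
        have hxA : x ∈ A := by
          have : x = z⁻¹ * (z * x * z⁻¹) * z := by group
          rw [this]
          exact A.mul_mem (A.mul_mem (A.inv_mem hzA) hx') hzA
        have : z * x * z⁻¹ = x := by
          rw [ea_comm hAe hzA hxA]; group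
        rw [← this]; exact hx
    rw [Cfsg.Agent.Lib.Helper10.card_sup_of_inf_eq_bot X (Subgroup.zpowers b) hN hXb, hX, hcb, hA2]
    exact (sq p).le
  -- pick a generator of `X'` and decompose it
  have hX'1 : X' ≠ ⊥ := by
    intro h
    rw [h, Subgroup.card_bot] at hX'
    exact hp.out.one_lt.ne hX'
  obtain ⟨⟨x', hx'⟩, hx'1'⟩ := (Subgroup.ne_bot_iff_exists_ne_one).mp hX'1
  have hx'1 : x' ≠ 1 := fun h => hx'1' (Subtype.ext h)
  have hx'A : x' ∈ X ⊔ Subgroup.zpowers b := hsup ▸ hX'A hx'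
  have hNb : Subgroup.zpowers b ≤ Subgroup.normalizer (X : Set G) := by
    intro z hz
    rw [Subgroup.mem_normalizer_iff]
    intro x
    have hzA : z ∈ A := (Subgroup.zpowers_le.mpr hbA) hz
    constructor
    · intro hx
      have : z * x * z⁻¹ = x := by
        rw [ea_comm hAe hzA (hXA hx)]; group
      rw [this]; exact hx
    · intro hx
      have hx'' : z * x * z⁻¹ ∈ A := hXA hx
      have hxA : x ∈ A := by
        have : x = z⁻¹ * (z * x * z⁻¹) * z := by group
        rw [this]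
        exact A.mul_mem (A.mul_mem (A.inv_mem hzA) hx'') hzA
      have : z * x * z⁻¹ = x := by
        rw [ea_comm hAe hzA hxA]; group
      rw [← this]; exact hx
  have hx'S : x' ∈ ((X ⊔ Subgroup.zpowers b : Subgroup G) : Set G) := hx'A
  rw [Subgroup.coe_mul_of_right_le_normalizer_left X (Subgroup.zpowers b) hNb] at hx'S
  obtain ⟨u, hu, v, hv, huv⟩ := hx'S
  have huv' : u * v = x' := huv
  -- `u ≠ 1`
  have hu1 : u ≠ 1 := by
    intro h
    rw [h, one_mul] at huv'
    apply hX'y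
    rw [← zpowers_eq_of_card_prime hX' hx' hx'1, ← huv']
    exact (Subgroup.zpowers_le.mpr hv).trans hbcent
  have hXu : Subgroup.zpowers u = X := zpowers_eq_of_card_prime hX hu hu1
  -- the commutator of `y` and `u`
  have hc := hcomm u (hXA hu)
  set b' := y * u * y⁻¹ * u⁻¹ with hb'
  have hb'1 : b' ≠ 1 := by
    intro h
    apply hXy
    rw [← hXu, Subgroup.zpowers_le, Subgroup.mem_centralizer_iff]
    intro w hw
    rw [Set.mem_singleton_iff] at hw
    rw [hw]
    have : y * u = b' * (u * y) := by rw [hb']; group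
    rw [this, h, one_mul]
  have hb'z : Subgroup.zpowers b' = Subgroup.zpowers b := by
    rw [zpowers_eq_of_card_prime hcb hc hb'1]
  have hyb' : y * b' = b' * y := by
    have : b' ∈ Subgroup.centralizer ({y} : Set G) := hbcent hc
    exact Subgroup.mem_centralizer_iff.mp this y rfl
  have hyu : y * u * y⁻¹ = u * b' := by
    have h1 : b' * u = u * b' :=
      ea_comm hAe ((Subgroup.zpowers_le.mpr hbA) hc) (hXA hu)
    rw [← h1, hb']; group
  -- `v` is a power of `b'`
  have hv' : v ∈ Subgroup.zpowers b' := hb'z ▸ hv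
  obtain ⟨kz, hkz⟩ := Subgroup.mem_zpowers_iff.mp hv'
  have hopos : (0 : ℤ) < orderOf b' := by
    exact_mod_cast orderOf_pos b'
  set i : ℕ := (kz % (orderOf b' : ℤ)).toNat with hi
  have hi' : b' ^ i = v := by
    rw [← hkz, ← zpow_mod_orderOf, ← zpow_natCast, hi,
      Int.toNat_of_nonneg (Int.emod_nonneg _ hopos.ne')]
  have hconj : y ^ i * u * (y ^ i)⁻¹ = x' := by
    rw [conj_pow_eq hyu hyb' i, hi', huv']
  have hmem : x' ∈ conjSub (y ^ i) X := by
    rw [← hconj]
    exact conj_mem_conjSub hu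
  have hcc : Nat.card (conjSub (y ^ i) X) = p := by rw [card_conjSub, hX]
  refine ⟨i, ?_, ?_⟩
  · intro hpi
    obtain ⟨j, hj⟩ := hpi
    have hb'p : b' ^ p = 1 := hAe.2 b' ((Subgroup.zpowers_le.mpr hbA) hc)
    have hv1 : v = 1 := by
      rw [← hi', hj, pow_mul, hb'p, one_pow]
    rw [hv1, mul_one] at huv'
    apply hne
    rw [← hXu, huv', zpowers_eq_of_card_prime hX' hx' hx'1]
  · rw [← zpowers_eq_of_card_prime hcc hmem hx'1, zpowers_eq_of_card_prime hX' hx' hx'1]

end EA

end Cfsg.Agent.Lib.Helper28.BGt
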