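import Mathlib
import Cfsg.Agent.Lib.Helper11.BenderR
import Cfsg.Agent.Lib.Helper9.WF5
import Cfsg.Agent.Lib.Helper28.BGtB

set_option autoImplicit false
open scoped commutatorElement Pointwise

/-! `p`-group structure used in B & G Theorem 12.7: in a nonabelian Sylow `p`-subgroup `S` with a
maximal elementary abelian subgroup `A` of order `p ^ 2`, every element of `C_S(A)` of order
at least `p ^ 2` has its subgroup of order `p` in the centre of `S` (helper28). -/

namespace Cfsg.Agent.Lib.Helper28.BGt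

open Cfsg Cfsg.Agent.Lib.Helper18

/-- the statement of S1412 for the group `G` -/
def T1412 (G : Type*) [Group G] [Finite G] : Prop :=
  ∀ (p : ℕ) [Fact p.Prime] (P : Sylow p G), Cfsg.PRankLE p 2 (P : Subgroup G) →
    IsMulCommutative (P : Subgroup G) ∨ ∃ P₁ P₂ : Subgroup G, P₁ ⊔ P₂ = (P : Subgroup G) ∧
      (∀ a ∈ P₁, ∀ b ∈ P₂, a * b = b * a) ∧
        ¬ IsMulCommutative P₁ ∧ Nat.card P₁ = p ^ 3 ∧ Monoid.exponent P₁ = p ∧ IsCyclic P₂ ∧
        Subgroup.closure {x : G | x ∈ P₂ ∧ x ^ p = 1} = P₁ ⊓ Subgroup.centralizer (P₁ : Set G)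

section Cyc

variable {R : Type*} [Group R]

/-- in a finite `p`-group, the elements of order dividing `p` of `⟨c⟩` lie in `⟨c ^ p⟩` when
`c ^ p ≠ 1` -/
theorem mem_zpowers_pow_of_pow_eq_one [Finite R] {p : ℕ} [hp : Fact p.Prime] (hR : IsPGroup p R)
    {c : R} (hc : c ^ p ≠ 1) {w : R} (hw : w ∈ Subgroup.zpowers c) (hwp : w ^ p = 1) :
    w ∈ Subgroup.zpowers (c ^ p) := by
  obtain ⟨n, rfl⟩ := Subgroup.mem_zpowers_iff.mp hw
  obtain ⟨m, hm⟩ := (IsPGroup.iff_orderOf.mp hR) c
  have hm2 : 2 ≤ m := by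
    by_contra h
    have h1 : m ≤ 1 := by omega
    apply hc
    apply orderOf_dvd_iff_pow_eq_one.mp
    rw [hm]
    calc p ^ m ∣ p ^ 1 := pow_dvd_pow p h1
      _ = p := pow_one p
  have h1 : c ^ (n * (p : ℤ)) = 1 := by
    rw [zpow_mul, zpow_natCast]; exact hwp
  have h2 : (orderOf c : ℤ) ∣ n * p := orderOf_dvd_iff_zpow_eq_one.mpr h1
  rw [hm] at h2
  have h3 : (p : ℤ) ∣ n := by
    have h4 : ((p : ℤ) ^ 2) ∣ n * p := by
      have : ((p ^ 2 : ℕ) : ℤ) ∣ ((p ^ m : ℕ) : ℤ) := by
        exact_mod_cast pow_dvd_pow p hm2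
      have h5 := this.trans h2
      simpa using h5
    have hp0 : (p : ℤ) ≠ 0 := by exact_mod_cast hp.out.ne_zero
    rw [sq, mul_comm n] at h4
    exact (mul_dvd_mul_iff_left hp0).mp h4
  obtain ⟨j, rfl⟩ := h3
  rw [Subgroup.mem_zpowers_iff]
  exact ⟨j, by rw [← zpow_natCast, ← zpow_mul]⟩

end Cyc

section Narrow

variable {R : Type*} [Group R]

open Cfsg.Agent.Lib.Helper11.BenderQ

/-- **B & G, Lemma 5.3** (centralizer form): in a `p`-group of rank at least three with a maximal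
elementary abelian subgroup `E` of order `p ^ 2`, an element `c` of `C_R(E)` with `c ^ p ≠ 1` has
the elements of order dividing `p` of `⟨c⟩` in the centre -/
theorem narrow_central [Finite R] (p : ℕ) [hp : Fact p.Prime] (hp2 : p ≠ 2) (hR : IsPGroup p R)
    (hr : ¬ Cfsg.PRankLE p 2 R) (E : Subgroup R) (hE : Cfsg.IsElementaryAbelian p E)
    (hE2 : Nat.card E = p ^ 2)
    (hEmax : ∀ B : Subgroup R, Cfsg.IsElementaryAbelian p B → E ≤ B → B = E)
    {c : R} (hcE : c ∈ Subgroup.centralizer (E : Set R)) (hc : c ^ p ≠ 1)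
    {w : R} (hw : w ∈ Subgroup.zpowers c) (hwp : w ^ p = 1) : w ∈ Subgroup.center R := by
  obtain ⟨hET, -, -, hTchar, hTidx⟩ := Cfsg.Agent.S1453.result p hp2 hR hr E hE hE2 hEmax
  obtain ⟨T, hT⟩ : ∃ T : Subgroup R, T = Subgroup.centralizer ((Subgroup.closure
      {x : R | x ∈ Subgroup.upperCentralSeries R 2 ∧ x ^ p = 1} : Subgroup R) : Set R) := ⟨_, rfl⟩
  rw [← hT] at hET hTchar hTidx
  have hTn : T.Normal := inferInstance
  have hcenT : Subgroup.center R ≤ T := by
    rw [hT]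
    exact Subgroup.center_le_centralizer _
  obtain ⟨x, hxE, hxT⟩ := SetLike.not_le_iff_exists.mp hET
  have hx1 : x ≠ 1 := fun h => hxT (h ▸ T.one_mem)
  have hxp : x ^ p = 1 := hE.2 x hxE
  have hxo : orderOf x = p := orderOf_eq_prime hxp hx1
  have hR₀card : Nat.card (Subgroup.zpowers x) = p := by rw [Nat.card_zpowers, hxo]
  -- `R = ⟨x⟩ T`
  have hsup : Subgroup.zpowers x ⊔ T = ⊤ := by
    have h1 : (Subgroup.zpowers x ⊔ T).index ∣ p := by
      rw [← hTidx]
      exact Subgroup.index_dvd_of_le le_sup_right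
    rcases (Nat.dvd_prime hp.out).mp h1 with h | h
    · exact Subgroup.index_eq_one.mp h
    · exfalso
      have h2 := Subgroup.relIndex_mul_index (le_sup_right : T ≤ Subgroup.zpowers x ⊔ T)
      rw [h, hTidx] at h2
      have h3 : T.relIndex (Subgroup.zpowers x ⊔ T) = 1 := by
        have hp0 : 0 < p := hp.out.pos
        exact Nat.eq_of_mul_eq_mul_right hp0 (by rw [h2, one_mul])
      have h4 : Subgroup.zpowers x ⊔ T ≤ T := Subgroup.relIndex_eq_one.mp h3
      exact hxT (h4 (le_sup_left (a := Subgroup.zpowers x) (Subgroup.mem_zpowers x)))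
  -- a central element of order `p`
  have hnt : Nontrivial R := ⟨⟨x, 1, hx1⟩⟩
  obtain ⟨z, hzc, hz1, hzp⟩ : ∃ z : R, z ∈ Subgroup.center R ∧ z ≠ 1 ∧ z ^ p = 1 := by
    have hcn := hR.center_nontrivial
    have hc1 : Subgroup.center R ≠ ⊥ := (Subgroup.nontrivial_iff_ne_bot _).mp hcn
    have hdvd : p ^ 1 ∣ Nat.card (Subgroup.center R) := by
      rw [pow_one]
      obtain ⟨k, hk⟩ := IsPGroup.iff_card.mp (hR.to_subgroup (Subgroup.center R))
      rw [hk]
      apply dvd_pow_self
      rintro rfl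
      rw [pow_zero] at hk
      exact hc1 (Subgroup.card_eq_one.mp hk)
    obtain ⟨Z', hZ'⟩ := Sylow.exists_subgroup_card_pow_prime p hdvd
    rw [pow_one] at hZ'
    have hZ'ne : Z' ≠ ⊥ := by
      rintro rfl
      rw [Subgroup.card_bot] at hZ'
      exact hp.out.one_lt.ne hZ'
    obtain ⟨⟨⟨w', hwc⟩, hwZ⟩, hw1⟩ := Subgroup.ne_bot_iff_exists_ne_one.mp hZ'ne
    refine ⟨w', hwc, ?_, ?_⟩
    · intro h
      apply hw1
      apply Subtype.ext
      apply Subtype.ext
      exact h
    · have := pow_card_eq_one' (G := Z') (x := ⟨⟨w', hwc⟩, hwZ⟩)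
      rw [hZ'] at this
      have h2 := congrArg Subtype.val (congrArg Subtype.val this)
      simpa using h2
  have hzcomm : ∀ y : R, z * y = y * z := fun y => (Subgroup.mem_center_iff.mp hzc y).symm
  -- `z ∈ E`
  have hzE : z ∈ E := by
    obtain ⟨T', hT'e, hET', hzT'⟩ := exists_elemAb_ge p E hE z (fun e _ => hzcomm e) hzp
    rw [← hEmax T' hT'e hET']
    exact hzT'
  have hzT : z ∈ T := hcenT hzc
  -- `E` is generated by `x` and `z`
  have hinf : Subgroup.zpowers x ⊓ T = ⊥ := by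
    by_contra hne
    have hle : Subgroup.zpowers x ⊓ T ≤ Subgroup.zpowers x := inf_le_left
    obtain ⟨⟨u, hu⟩, hu1'⟩ := (Subgroup.ne_bot_iff_exists_ne_one).mp hne
    have hu1 : u ≠ 1 := fun h => hu1' (Subtype.ext h)
    have := zpowers_eq_of_card_prime hR₀card hu.1 hu1
    apply hxT
    have h2 : Subgroup.zpowers u ≤ T := Subgroup.zpowers_le.mpr hu.2
    rw [this] at h2
    exact h2 (Subgroup.mem_zpowers x)
  have hEgen : E = Subgroup.closure {x, z} := by
    have hle : Subgroup.closure {x, z} ≤ E := by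
      rw [Subgroup.closure_le]
      rintro y (hy | hy)
      · rw [hy]; exact hxE
      · rw [Set.mem_singleton_iff] at hy
        rw [hy]; exact hzE
    have hlt2 : Subgroup.zpowers x < Subgroup.closure {x, z} := by
      apply lt_of_le_of_ne
      · rw [Subgroup.zpowers_le]
        exact Subgroup.subset_closure (Or.inl rfl)
      · intro h
        have hz' : z ∈ Subgroup.zpowers x := by
          rw [h]
          exact Subgroup.subset_closure (Or.inr rfl)
        have : z ∈ Subgroup.zpowers x ⊓ T := ⟨hz', hzT⟩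
        rw [hinf, Subgroup.mem_bot] at this
        exact hz1 this
    have hEp : IsPGroup p E := IsPGroup.of_card hE2
    obtain ⟨k, hk⟩ := IsPGroup.iff_card.mp (hEp.to_le hle)
    have h1 := Cfsg.Agent.Lib.Lead.card_lt_card_of_lt hlt2
    rw [hR₀card, hk] at h1
    have hk2 : 2 ≤ k := by
      by_contra hk2
      have : k ≤ 1 := by omega
      have := Nat.pow_le_pow_right hp.out.pos this
      rw [pow_one] at this
      omega
    symm
    apply Subgroup.eq_of_le_of_card_ge hle
    rw [hk, hE2]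
    exact Nat.pow_le_pow_right hp.out.pos hk2
  -- elements of order `p` of `C_T(x)` lie in `E ∩ T`
  have hET1 : ∀ a : R, a ∈ T → a * x = x * a → a ^ p = 1 → a ∈ E ⊓ T := by
    intro a haT hax hap
    refine ⟨?_, haT⟩
    have hle : E ≤ Subgroup.centralizer {a} := by
      rw [hEgen, Subgroup.closure_le]
      rintro y (hy | hy)
      · rw [hy]
        show x ∈ Subgroup.centralizer {a}
        rw [Subgroup.mem_centralizer_iff]
        intro w hw
        rw [Set.mem_singleton_iff] at hw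
        rw [hw]
        exact hax
      · rw [Set.mem_singleton_iff] at hy
        rw [hy]
        show z ∈ Subgroup.centralizer {a}
        rw [Subgroup.mem_centralizer_iff]
        intro w hw
        rw [Set.mem_singleton_iff] at hw
        rw [hw]
        exact (hzcomm a).symm
    have hcomm : ∀ e ∈ E, a * e = e * a := by
      intro e he
      exact Subgroup.mem_centralizer_iff.mp (hle he) a rfl
    obtain ⟨T', hT'e, hET', haT'⟩ := exists_elemAb_ge p E hE a hcomm hap
    rw [← hEmax T' hT'e hET']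
    exact haT'
  have hETcard : Nat.card ↥(E ⊓ T) = p := by
    have hlt : E ⊓ T < E := by
      apply lt_of_le_of_ne inf_le_left
      intro h
      apply hxT
      have : E ≤ T := by rw [← h]; exact inf_le_right
      exact this hxE
    have hEp : IsPGroup p E := IsPGroup.of_card hE2
    obtain ⟨k, hk⟩ := IsPGroup.iff_card.mp (hEp.to_le (inf_le_left : E ⊓ T ≤ E))
    have h1 := Cfsg.Agent.Lib.Lead.card_lt_card_of_lt hlt
    rw [hk, hE2] at h1
    have hk1 : k < 2 := (Nat.pow_lt_pow_iff_right hp.out.one_lt).mp h1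
    have hk0 : k ≠ 0 := by
      intro h0
      rw [h0, pow_zero] at hk
      have := Subgroup.card_eq_one.mp hk
      have hz' : z ∈ E ⊓ T := ⟨hzE, hzT⟩
      rw [this, Subgroup.mem_bot] at hz'
      exact hz1 hz'
    have : k = 1 := by omega
    rw [hk, this, pow_one]
  have hETz : Subgroup.zpowers z = E ⊓ T :=
    zpowers_eq_of_card_prime hETcard ⟨hzE, hzT⟩ hz1
  -- decompose `c`
  have hcx : c * x = x * c := (Subgroup.mem_centralizer_iff.mp hcE x hxE).symm
  have hcmem : c ∈ Subgroup.zpowers x ⊔ T := by rw [hsup]; exact Subgroup.mem_top c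
  have hset : (↑(Subgroup.zpowers x ⊔ T) : Set R) =
      ((Subgroup.zpowers x : Subgroup R) : Set R) * (T : Set R) :=
    Subgroup.mul_normal _ _
  have hcmem' : c ∈ ((Subgroup.zpowers x : Subgroup R) : Set R) * (T : Set R) := by
    rw [← hset]
    exact hcmem
  obtain ⟨a, ha, t, ht, hat⟩ := Set.mem_mul.mp hcmem'
  have hat' : a * t = c := hat
  obtain ⟨i, rfl⟩ := Subgroup.mem_zpowers_iff.mp ha
  have hxi : Commute (x ^ i) x := (Commute.refl x).zpow_left i
  have htx : Commute t x := by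
    have h1 : t = (x ^ i)⁻¹ * c := by rw [← hat']; group
    rw [h1]
    exact (hxi.inv_left).mul_left (show Commute c x from hcx)
  have hxit : Commute (x ^ i) t := (htx.symm.zpow_left i)
  have hcp : c ^ p = t ^ p := by
    rw [← hat', hxit.mul_pow, ← zpow_natCast (x ^ i), ← zpow_mul, mul_comm, zpow_mul,
      zpow_natCast, hxp, one_zpow, one_mul]
  -- `w` is a power of `t ^ p`
  have hw' := mem_zpowers_pow_of_pow_eq_one hR hc hw hwp
  rw [hcp] at hw'
  obtain ⟨j, rfl⟩ := Subgroup.mem_zpowers_iff.mp hw'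
  have hwT : (t ^ p) ^ j ∈ T := T.zpow_mem (T.pow_mem ht p) j
  have hwx : (t ^ p) ^ j * x = x * (t ^ p) ^ j := ((htx.pow_left p).zpow_left j).eq
  have := hET1 _ hwT hwx hwp
  rw [← hETz] at this
  exact (Subgroup.zpowers_le.mpr hzc) this

end Narrow

section InG

variable {G : Type*} [Group G] [Finite G]

/-- the rank two case, from the structure `S = P₁ P₂` of S1412 -/
theorem rank2_central {p : ℕ} [hp : Fact p.Prime] {S P₁ P₂ : Subgroup G} (hS : IsPGroup p S)
    (hsup : P₁ ⊔ P₂ = S)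
    (hcomm : ∀ a ∈ P₁, ∀ b ∈ P₂, a * b = b * a) (hexp : Monoid.exponent P₁ = p)
    (hcyc : IsCyclic P₂) {c : G} (hcS : c ∈ S) (hc : c ^ p ≠ 1) {w : G}
    (hw : w ∈ Subgroup.zpowers c) (hwp : w ^ p = 1) : ∀ s ∈ S, w * s = s * w := by
  have hcS' : c ∈ P₁ ⊔ P₂ := hsup ▸ hcS
  obtain ⟨s₁, hs₁, s₂, hs₂, rfl⟩ := (Cfsg.Agent.Lib.Helper9.mem_sup_of_commute hcomm).mp hcS'
  have hs₁p : s₁ ^ p = 1 := by
    have := Monoid.pow_exponent_eq_one (⟨s₁, hs₁⟩ : P₁)
    rw [hexp] at this
    simpa using congrArg Subtype.val this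
  have hcp : (s₁ * s₂) ^ p = s₂ ^ p := by
    rw [(show Commute s₁ s₂ from hcomm s₁ hs₁ s₂ hs₂).mul_pow, hs₁p, one_mul]
  -- work inside `S`
  have hw' : (⟨w, (Subgroup.zpowers_le.mpr hcS) hw⟩ : S) ∈
      Subgroup.zpowers ((⟨s₁ * s₂, hcS⟩ : S) ^ p) := by
    apply mem_zpowers_pow_of_pow_eq_one hS
    · intro h
      apply hc
      simpa using congrArg Subtype.val h
    · obtain ⟨n, hn⟩ := Subgroup.mem_zpowers_iff.mp hw
      rw [Subgroup.mem_zpowers_iff]
      exact ⟨n, Subtype.ext (by simpa using hn)⟩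
    · apply Subtype.ext
      simpa using hwp
  obtain ⟨j, hj⟩ := Subgroup.mem_zpowers_iff.mp hw'
  have hj' : ((s₁ * s₂) ^ p) ^ j = w := by
    have := congrArg Subtype.val hj
    simpa using this
  rw [hcp] at hj'
  have hwP₂ : w ∈ P₂ := by
    rw [← hj']
    exact P₂.zpow_mem (P₂.pow_mem hs₂ p) j
  intro s hs
  have hs' : s ∈ P₁ ⊔ P₂ := hsup ▸ hs
  obtain ⟨t₁, ht₁, t₂, ht₂, rfl⟩ := (Cfsg.Agent.Lib.Helper9.mem_sup_of_commute hcomm).mp hs'
  have h1 : w * t₁ = t₁ * w := (hcomm t₁ ht₁ w hwP₂).symm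
  have h2 : w * t₂ = t₂ * w := by
    have := hcyc.isMulCommutative.is_comm.comm ⟨w, hwP₂⟩ ⟨t₂, ht₂⟩
    simpa using congrArg Subtype.val this
  calc w * (t₁ * t₂) = (w * t₁) * t₂ := by group
    _ = t₁ * (w * t₂) := by rw [h1]; group
    _ = t₁ * t₂ * w := by rw [h2]; group

/-- **the structure lemma**: `S` a nonabelian Sylow `p`-subgroup (`p` odd) of `G`, `A ≤ S` a
maximal elementary abelian subgroup of order `p ^ 2`; then for `c ∈ C_S(A)` with `c ^ p ≠ 1` the
elements of order dividing `p` of `⟨c⟩` are central in `S` -/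
theorem sylow_central (h12 : T1412 G) {p : ℕ} [hp : Fact p.Prime] (hp2 : p ≠ 2) (S : Sylow p G)
    (hSna : ¬ IsMulCommutative (S : Subgroup G)) {A : Subgroup G} (hAS : A ≤ (S : Subgroup G))
    (hAe : Cfsg.IsElementaryAbelian p A) (hA2 : Nat.card A = p ^ 2)
    (hAmax : ∀ B : Subgroup G, Cfsg.IsElementaryAbelian p B → A ≤ B → B = A)
    {c : G} (hcS : c ∈ (S : Subgroup G)) (hcA : c ∈ Subgroup.centralizer (A : Set G))
    (hc : c ^ p ≠ 1) {w : G} (hw : w ∈ Subgroup.zpowers c) (hwp : w ^ p = 1) :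
    ∀ s ∈ (S : Subgroup G), w * s = s * w := by
  by_cases hr : Cfsg.PRankLE p 2 (S : Subgroup G)
  · rcases h12 p S hr with h | ⟨P₁, P₂, hsup, hcomm, -, -, hexp, hcyc, -⟩
    · exact absurd h hSna
    · exact rank2_central S.isPGroup' hsup hcomm hexp hcyc hcS hc hw hwp
  · -- the narrow case, inside `↥S`
    set E : Subgroup (S : Subgroup G) := A.subgroupOf (S : Subgroup G) with hE
    have hEe : Cfsg.IsElementaryAbelian p E := by
      refine ⟨⟨⟨?_⟩⟩, ?_⟩
      · rintro ⟨a, ha⟩ ⟨b, hb⟩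
        apply Subtype.ext
        apply Subtype.ext
        exact ea_comm hAe (Subgroup.mem_subgroupOf.mp ha) (Subgroup.mem_subgroupOf.mp hb)
      · intro a ha
        apply Subtype.ext
        simpa using hAe.2 _ (Subgroup.mem_subgroupOf.mp ha)
    have hE2 : Nat.card E = p ^ 2 := by
      rw [hE, Nat.card_congr (Subgroup.subgroupOfEquivOfLe hAS).toEquiv, hA2]
    have hEmax : ∀ B : Subgroup (S : Subgroup G), Cfsg.IsElementaryAbelian p B → E ≤ B → B = E := by
      intro B hB hEB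
      have hB' : Cfsg.IsElementaryAbelian p (B.map (S : Subgroup G).subtype) := by
        refine ⟨⟨⟨?_⟩⟩, ?_⟩
        · rintro ⟨_, a, ha, rfl⟩ ⟨_, b, hb, rfl⟩
          apply Subtype.ext
          have := hB.1.is_comm.comm ⟨a, ha⟩ ⟨b, hb⟩
          simpa using congrArg (fun z : B => ((z : (S : Subgroup G)) : G)) this
        · rintro _ ⟨a, ha, rfl⟩
          have := hB.2 a ha
          simpa using congrArg Subtype.val this
      have hAB : A ≤ B.map (S : Subgroup G).subtype := by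
        intro a ha
        exact ⟨⟨a, hAS ha⟩, hEB (Subgroup.mem_subgroupOf.mpr ha), rfl⟩
      have h1 := hAmax _ hB' hAB
      apply le_antisymm _ hEB
      intro b hb
      rw [hE, Subgroup.mem_subgroupOf, ← h1]
      exact ⟨b, hb, rfl⟩
    have hcE : (⟨c, hcS⟩ : (S : Subgroup G)) ∈ Subgroup.centralizer (E : Set (S : Subgroup G)) := by
      rw [Subgroup.mem_centralizer_iff]
      intro a ha
      apply Subtype.ext
      exact Subgroup.mem_centralizer_iff.mp hcA _ (Subgroup.mem_subgroupOf.mp ha)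
    have hc' : (⟨c, hcS⟩ : (S : Subgroup G)) ^ p ≠ 1 := by
      intro h
      apply hc
      simpa using congrArg Subtype.val h
    have hwS : w ∈ (S : Subgroup G) := (Subgroup.zpowers_le.mpr hcS) hw
    have hw' : (⟨w, hwS⟩ : (S : Subgroup G)) ∈ Subgroup.zpowers (⟨c, hcS⟩ : (S : Subgroup G)) := by
      obtain ⟨n, hn⟩ := Subgroup.mem_zpowers_iff.mp hw
      rw [Subgroup.mem_zpowers_iff]
      exact ⟨n, Subtype.ext (by simpa using hn)⟩
    have hwp' : (⟨w, hwS⟩ : (S : Subgroup G)) ^ p = 1 := by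
      apply Subtype.ext
      simpa using hwp
    have hcen := narrow_central p hp2 S.isPGroup' hr E hEe hE2 hEmax hcE hc' hw' hwp'
    intro s hs
    have := (Subgroup.mem_center_iff.mp hcen) ⟨s, hs⟩
    exact (congrArg Subtype.val this).symm

end InG

end Cfsg.Agent.Lib.Helper28.BGt
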