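import Mathlib
import Cfsg.Agent.Lib.Helper28.BGtD
import Cfsg.Agent.Lib.Helper28.BGtE
import Cfsg.Agent.Lib.Helper11.MaxSubB
import Cfsg.Agent.Lib.Helper11.MaxLocB
import Cfsg.Agent.Lib.Helper1.BG12.TwelveFourPre

set_option autoImplicit false
open scoped commutatorElement

/-! B & G Theorem 12.7 (nonabelian Sylow `p`-subgroups, `p ∈ τ₂(M)`), developed against the frozen
types of S1416, S1417, S1412, S1414 (helper28). -/

namespace Cfsg.Agent.Lib.Helper28.BGt

open Cfsg Cfsg.Agent.Lib.Helper18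

variable {G : Type*} [Group G] [Finite G]

omit [Finite G] in
/-- `C_G(X^g) ≤ K^g` when `C_G(X) ≤ K` -/
theorem centralizer_conjSub_le {X K : Subgroup G} (g : G)
    (h : Subgroup.centralizer (X : Set G) ≤ K) :
    Subgroup.centralizer (conjSub g X : Set G) ≤ conjSub g K := by
  intro u hu
  rw [mem_conjSub]
  apply h
  rw [Subgroup.mem_centralizer_iff]
  intro x hx
  have h1 : g * x * g⁻¹ ∈ conjSub g X := conj_mem_conjSub hx
  have h2 := (Subgroup.mem_centralizer_iff.mp hu) _ h1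
  -- h2 : g * x * g⁻¹ * u = u * (g * x * g⁻¹)
  have e1 : x * (g⁻¹ * u * g) = g⁻¹ * (g * x * g⁻¹ * u) * g := by group
  have e2 : g⁻¹ * u * g * x = g⁻¹ * (u * (g * x * g⁻¹)) * g := by group
  rw [e1, e2, h2]

omit [Finite G] in
theorem conjSub_inv_conjSub (g : G) (X : Subgroup G) : conjSub g⁻¹ (conjSub g X) = X := by
  rw [conjSub_mul, inv_mul_cancel, conjSub_one]

/-- an element conjugating a maximal subgroup to itself lies in it -/
theorem mem_of_conjSub_coatom_eq (hG : Cfsg.IsMinSimpleOddOrder G) {M : Subgroup G}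
    (hM : IsCoatom M) {g : G} (h : conjSub g M = M) : g ∈ M := by
  have h1 : g ∈ Subgroup.normalizer (M : Set G) := mem_normalizer_of_conjSub_le (le_of_eq h)
  rw [Cfsg.Agent.Lib.Helper11.MaxSubB.normalizer_eq_of_coatom hG M hM M
    (Cfsg.Agent.Lib.Helper11.BenderS.coatom_ne_bot hG M hM) hM.1 Subgroup.le_normalizer] at h1
  exact h1

omit [Finite G] in
theorem centralizer_singleton_le_zpowers (w : G) :
    Subgroup.centralizer ({w} : Set G) ≤ Subgroup.centralizer (Subgroup.zpowers w : Set G) := by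
  intro u hu
  rw [Subgroup.mem_centralizer_iff] at hu ⊢
  rintro _ ⟨n, rfl⟩
  have h1 : Commute w u := hu w rfl
  exact (h1.zpow_left n).eq

namespace Tau2Ctx

variable {M E : Subgroup G} {p : ℕ} {A : Subgroup G}

theorem sigmaCore_ne_bot (c : Tau2Ctx M E p A) : Cfsg.sigmaCore M ≠ ⊥ :=
  Cfsg.Agent.Lib.Helper1.BG12.sigmaCore_ne_bot c.hG M c.hM

/-- `M_σ` is generated by the `C_{M_σ}(X)`, `X ≤ A` of order `p` -/
theorem gen_cent (c : Tau2Ctx M E p A) (H : Subgroup G)
    (h : ∀ X : Subgroup G, X ≤ A → Nat.card X = p →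
      Cfsg.sigmaCore M ⊓ Subgroup.centralizer (X : Set G) ≤ H) : Cfsg.sigmaCore M ≤ H := by
  have := c.fact
  obtain ⟨⟨x, hxA⟩, hx1'⟩ := (Subgroup.ne_bot_iff_exists_ne_one).mp c.A_ne_bot
  have hx1 : x ≠ 1 := fun h => hx1' (Subtype.ext h)
  have hxp : x ^ p = 1 := c.hAe.2 x hxA
  have hcx : Nat.card (Subgroup.zpowers x) = p := card_zpowers_of_pow_prime hx1 hxp
  have hzx : Subgroup.zpowers x ≤ A := Subgroup.zpowers_le.mpr hxA
  obtain ⟨z, hzA, hzx'⟩ : ∃ z ∈ A, z ∉ Subgroup.zpowers x := by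
    by_contra hcon
    push Not at hcon
    have hle : A ≤ Subgroup.zpowers x := hcon
    have := Subgroup.card_le_of_le hle
    rw [c.hA2, hcx] at this
    have h2 : p < p ^ 2 := by
      calc p = p ^ 1 := (pow_one p).symm
        _ < p ^ 2 := Nat.pow_lt_pow_right c.prime.one_lt (by norm_num)
    omega
  have hzp : z ^ p = 1 := c.hAe.2 z hzA
  have hsol : Group.IsSolvable (Cfsg.sigmaCore M) := by
    have := c.t17.1
    infer_instance
  have hcop : (Nat.card A).Coprime (Nat.card (Cfsg.sigmaCore M)) := by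
    rw [c.hA2]
    apply Nat.Coprime.pow_left
    exact (Nat.Prime.coprime_iff_not_dvd c.prime).mpr c.not_dvd_sigmaCore
  have hcop' : p.Coprime (Nat.card (Cfsg.sigmaCore M)) :=
    (Nat.Prime.coprime_iff_not_dvd c.prime).mpr c.not_dvd_sigmaCore
  refine Cfsg.Agent.Lib.Helper1.core_solvable A p x z hxA hzA (c.A_comm hzA hxA) hxp hzp H
    (Nat.card (Cfsg.sigmaCore M)) (Cfsg.sigmaCore M) rfl hsol
    (c.hAM.trans (le_normalizer_sigmaCore M)) hcop hcop' ?_ ?_
  · intro j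
    set w := z * x ^ j.val with hw
    have hwA : w ∈ A := A.mul_mem hzA (A.pow_mem hxA _)
    have hw1 : w ≠ 1 := by
      intro h1
      apply hzx'
      have : z = (x ^ j.val)⁻¹ := eq_inv_of_mul_eq_one_left h1
      rw [this]
      exact (Subgroup.zpowers x).inv_mem ((Subgroup.zpowers x).pow_mem (Subgroup.mem_zpowers x) _)
    have hwp : w ^ p = 1 := c.hAe.2 w hwA
    refine le_trans (inf_le_inf_left _ (centralizer_singleton_le_zpowers w)) ?_
    exact h _ (Subgroup.zpowers_le.mpr hwA) (card_zpowers_of_pow_prime hw1 hwp)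
  · refine le_trans (inf_le_inf_left _ (centralizer_singleton_le_zpowers x)) ?_
    exact h _ hzx hcx

/-- Claim A: if `C_{M_σ}(X) ≠ 1` then `C_{M_σ}(X^g) = 1` for `g ∈ N_G(A) ∖ M` -/
theorem conj_fpf (c : Tau2Ctx M E p A) {X : Subgroup G} (hXA : X ≤ A) (hX : Nat.card X = p)
    (hne : Cfsg.sigmaCore M ⊓ Subgroup.centralizer (X : Set G) ≠ ⊥) {g : G}
    (hg : g ∈ Subgroup.normalizer (A : Set G)) (hgM : g ∉ M) :
    Cfsg.sigmaCore M ⊓ Subgroup.centralizer (conjSub g X : Set G) = ⊥ := by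
  by_contra hne'
  have hX'A : conjSub g X ≤ A := by
    have := conjSub_mono (g := g) hXA
    rwa [conjSub_eq_of_mem_normalizer hg] at this
  have hX' : Nat.card (conjSub g X) = p := by rw [card_conjSub, hX]
  obtain ⟨-, huniq⟩ := c.cent_unique hX'A hX' hne'
  obtain ⟨hle, -⟩ := c.cent_unique hXA hX hne
  have h1 := centralizer_conjSub_le g hle
  have h2 := huniq _ (Cfsg.Agent.Lib.Helper11.BenderF.isCoatom_conjSub g c.hM) h1
  exact hgM (mem_of_conjSub_coatom_eq c.hG c.hM h2)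

/-- the element `y` of Theorem 12.7 -/
theorem exists_y (c : Tau2Ctx M E p A)
    (hS : ∀ S : Sylow p G, ¬ IsMulCommutative (S : Subgroup G)) :
    ∃ (S : Sylow p G) (P : Subgroup G) (y : G) (k : ℕ), A ≤ P ∧ IsSylowIn p P M ∧
      P ≤ (S : Subgroup G) ∧ y ∈ (S : Subgroup G) ∧
      y ∈ Subgroup.normalizer (A : Set G) ∧ y ∉ M ∧ y ^ p ^ k = 1 := by
  have := c.fact
  obtain ⟨P, hAP, -, hPM⟩ := c.exists_sylow
  obtain ⟨hcomm, -, -⟩ := c.sylow_data hAP hPM
  obtain ⟨S, hPS⟩ := hPM.isPGroup.exists_le_sylow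
  have hnil : Group.IsNilpotent (S : Subgroup G) := S.isPGroup'.isNilpotent
  have hPtop : P.subgroupOf (S : Subgroup G) < ⊤ := by
    rw [lt_top_iff_ne_top]
    intro h
    rw [Subgroup.subgroupOf_eq_top] at h
    apply hS S
    refine ⟨⟨?_⟩⟩
    rintro ⟨a, ha⟩ ⟨b, hb⟩
    apply Subtype.ext
    exact hcomm a (h ha) b (h hb)
  have hlt := Group.normalizerCondition_of_isNilpotent (G := (S : Subgroup G)) _ hPtop
  obtain ⟨y', hy'N, hy'P⟩ := SetLike.exists_of_lt hlt
  obtain ⟨k, hk⟩ := S.isPGroup' y'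
  have hyk : (y' : G) ^ p ^ k = 1 := by simpa using congrArg Subtype.val hk
  have hyP : (y' : G) ∉ P := fun h => hy'P (Subgroup.mem_subgroupOf.mpr h)
  have hyN : (y' : G) ∈ Subgroup.normalizer (P : Set G) := by
    apply mem_normalizer_of_conjSub_le
    rintro _ ⟨a, ha, rfl⟩
    show (MulAut.conj (y' : G)).toMonoidHom a ∈ P
    simp only [MulEquiv.coe_toMonoidHom, MulAut.conj_apply]
    have h1 := (Subgroup.mem_normalizer_iff.mp hy'N ⟨a, hPS ha⟩).mp (Subgroup.mem_subgroupOf.mpr ha)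
    have h2 := Subgroup.mem_subgroupOf.mp h1
    simpa using h2
  refine ⟨S, P, y', k, hAP, hPM, hPS, y'.2, c.normalizer_sylow_le hAP hPM hyN, ?_, hyk⟩
  intro hyM
  apply hyP
  -- `P ⊔ ⟨y⟩` is a `p`-subgroup of `M`
  have hzp : IsPGroup p (Subgroup.zpowers (y' : G)) :=
    S.isPGroup'.to_le (Subgroup.zpowers_le.mpr y'.2)
  have hzN : Subgroup.zpowers (y' : G) ≤ Subgroup.normalizer (P : Set G) :=
    Subgroup.zpowers_le.mpr hyN
  have hsup : IsPGroup p (P ⊔ Subgroup.zpowers (y' : G) : Subgroup G) :=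
    IsPGroup.to_sup_of_normal_left' hPM.isPGroup hzp hzN
  have hle : P ⊔ Subgroup.zpowers (y' : G) ≤ M := sup_le hPM.le (Subgroup.zpowers_le.mpr hyM)
  have := hPM.eq_of_le hle hsup le_sup_left
  rw [← this]
  exact Subgroup.mem_sup_right (Subgroup.mem_zpowers _)

end Tau2Ctx

end Cfsg.Agent.Lib.Helper28.BGt
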