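import Mathlib
import Cfsg.Agent.Lib.Helper28.BGtF

set_option autoImplicit false
open scoped commutatorElement

/-! B & G Theorem 12.7, part 2: the subgroup `A₀` (helper28). -/

namespace Cfsg.Agent.Lib.Helper28.BGt

open Cfsg Cfsg.Agent.Lib.Helper18

variable {G : Type*} [Group G] [Finite G]

namespace Tau2Ctx

variable {M E : Subgroup G} {p : ℕ} {A : Subgroup G}

/-- there is a subgroup `X₀ ≤ A` of order `p` with `C_{M_σ}(X₀) ≠ 1` -/
theorem exists_X0 (c : Tau2Ctx M E p A) : ∃ X₀ : Subgroup G, X₀ ≤ A ∧ Nat.card X₀ = p ∧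
    Cfsg.sigmaCore M ⊓ Subgroup.centralizer (X₀ : Set G) ≠ ⊥ := by
  by_contra hcon
  push Not at hcon
  apply c.sigmaCore_ne_bot
  rw [eq_bot_iff]
  apply c.gen_cent
  intro X hXA hX
  rw [hcon X hXA hX]

/-- `y` does not centralize `X₀` -/
theorem X0_not_cent (c : Tau2Ctx M E p A) {y : G} (hyN : y ∈ Subgroup.normalizer (A : Set G))
    (hyM : y ∉ M) {X₀ : Subgroup G} (hX₀A : X₀ ≤ A) (hX₀ : Nat.card X₀ = p)
    (hX₀ne : Cfsg.sigmaCore M ⊓ Subgroup.centralizer (X₀ : Set G) ≠ ⊥) :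
    ¬ X₀ ≤ Subgroup.centralizer ({y} : Set G) := by
  intro h
  have h1 : conjSub y X₀ = X₀ := by
    apply conjSub_eq_of_le
    rintro _ ⟨a, ha, rfl⟩
    show (MulAut.conj y).toMonoidHom a ∈ X₀
    simp only [MulEquiv.coe_toMonoidHom, MulAut.conj_apply]
    have h2 : y * a = a * y := (Subgroup.mem_centralizer_iff.mp (h ha)) y rfl
    rw [h2, mul_inv_cancel_right]
    exact ha
  have h3 := c.conj_fpf hX₀A hX₀ hX₀ne hyN hyM
  rw [h1] at h3
  exact hX₀ne h3

/-- Theorem 12.7(c) for subgroups of `A` -/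
theorem others (c : Tau2Ctx M E p A) {y : G} (hyN : y ∈ Subgroup.normalizer (A : Set G))
    (hyM : y ∉ M) {k : ℕ} (hyk : y ^ p ^ k = 1) {X₀ : Subgroup G} (hX₀A : X₀ ≤ A)
    (hX₀ : Nat.card X₀ = p)
    (hX₀ne : Cfsg.sigmaCore M ⊓ Subgroup.centralizer (X₀ : Set G) ≠ ⊥)
    {X : Subgroup G} (hXA : X ≤ A) (hX : Nat.card X = p) (hne : X ≠ X₀) :
    Cfsg.sigmaCore M ⊓ Subgroup.centralizer (X : Set G) = ⊥ ∧
      ¬ Subgroup.centralizer (X : Set G) ≤ M := by
  have := c.fact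
  by_cases hXy : X ≤ Subgroup.centralizer ({y} : Set G)
  · have hyC : y ∈ Subgroup.centralizer (X : Set G) := by
      rw [Subgroup.mem_centralizer_iff]
      intro x hx
      exact ((Subgroup.mem_centralizer_iff.mp (hXy hx)) y rfl).symm
    have h2 : ¬ Subgroup.centralizer (X : Set G) ≤ M := fun h => hyM (h hyC)
    refine ⟨?_, h2⟩
    by_contra h3
    exact h2 (c.cent_unique hXA hX h3).1
  · obtain ⟨i, hi, hconj⟩ := exists_pow_conj c.hAe c.hA2 hyN hyk hX₀A hX₀ hXA hX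
      (c.X0_not_cent hyN hyM hX₀A hX₀ hX₀ne) hXy (Ne.symm hne)
    have hgN : y ^ i ∈ Subgroup.normalizer (A : Set G) := Subgroup.pow_mem _ hyN i
    have hgM : y ^ i ∉ M := by
      intro h
      apply hyM
      have hord : orderOf y ∣ p ^ k := orderOf_dvd_of_pow_eq_one hyk
      have hcop : i.Coprime (orderOf y) := by
        apply Nat.Coprime.coprime_dvd_right hord
        apply Nat.Coprime.pow_right
        exact ((Nat.Prime.coprime_iff_not_dvd c.prime).mpr hi).symm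
      obtain ⟨m, hm⟩ := exists_pow_eq_self_of_coprime hcop
      rw [← hm]
      exact M.pow_mem h m
    refine ⟨?_, ?_⟩
    · rw [← hconj]
      exact c.conj_fpf hX₀A hX₀ hX₀ne hgN hgM
    · intro hle
      rw [← hconj] at hle
      have h1 := centralizer_conjSub_le (y ^ i)⁻¹ hle
      rw [conjSub_inv_conjSub] at h1
      have h2 := (c.cent_unique hX₀A hX₀ hX₀ne).2 _
        (Cfsg.Agent.Lib.Helper11.BenderF.isCoatom_conjSub (y ^ i)⁻¹ c.hM) h1
      have h3 := mem_of_conjSub_coatom_eq c.hG c.hM h2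
      exact hgM (by simpa using M.inv_mem h3)

/-- `X₀` centralizes `M_σ` -/
theorem X0_cent (c : Tau2Ctx M E p A) {y : G} (hyN : y ∈ Subgroup.normalizer (A : Set G))
    (hyM : y ∉ M) {k : ℕ} (hyk : y ^ p ^ k = 1) {X₀ : Subgroup G} (hX₀A : X₀ ≤ A)
    (hX₀ : Nat.card X₀ = p)
    (hX₀ne : Cfsg.sigmaCore M ⊓ Subgroup.centralizer (X₀ : Set G) ≠ ⊥) :
    X₀ ≤ Subgroup.centralizer (Cfsg.sigmaCore M : Set G) := by
  rw [Subgroup.le_centralizer_iff]
  apply c.gen_cent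
  intro X hXA hX
  by_cases hne : X = X₀
  · rw [hne]; exact inf_le_right
  · rw [(c.others hyN hyM hyk hX₀A hX₀ hX₀ne hXA hX hne).1]
    exact bot_le

/-- `A ∩ C_G(M_σ) = X₀` -/
theorem A0_eq (c : Tau2Ctx M E p A) {y : G} (hyN : y ∈ Subgroup.normalizer (A : Set G))
    (hyM : y ∉ M) {k : ℕ} (hyk : y ^ p ^ k = 1) {X₀ : Subgroup G} (hX₀A : X₀ ≤ A)
    (hX₀ : Nat.card X₀ = p)
    (hX₀ne : Cfsg.sigmaCore M ⊓ Subgroup.centralizer (X₀ : Set G) ≠ ⊥) :
    A ⊓ Subgroup.centralizer (Cfsg.sigmaCore M : Set G) = X₀ := by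
  have := c.fact
  apply le_antisymm
  · rintro a ⟨haA, haC⟩
    by_contra haX
    have ha1 : a ≠ 1 := fun h => haX (h ▸ X₀.one_mem)
    have hcard := card_zpowers_of_pow_prime ha1 (c.hAe.2 a haA)
    have hle : Subgroup.zpowers a ≤ A := Subgroup.zpowers_le.mpr haA
    have hne : Subgroup.zpowers a ≠ X₀ := by
      intro h
      apply haX
      rw [← h]
      exact Subgroup.mem_zpowers a
    have h1 := (c.others hyN hyM hyk hX₀A hX₀ hX₀ne hle hcard hne).1
    apply c.sigmaCore_ne_bot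
    rw [eq_bot_iff, ← h1]
    apply le_inf le_rfl
    rw [Subgroup.le_centralizer_iff]
    exact Subgroup.zpowers_le.mpr haC
  · exact le_inf hX₀A (c.X0_cent hyN hyM hyk hX₀A hX₀ hX₀ne)

end Tau2Ctx

end Cfsg.Agent.Lib.Helper28.BGt
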