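import Mathlib
import Cfsg.Agent.Lib.Helper28.BGtG
import Cfsg.Agent.Lib.Helper1.BG12.SigmaDisjoint
import Cfsg.Agent.Lib.Helper1.BG12.TauHall
import Cfsg.Agent.Lib.Helper1.Cores

set_option autoImplicit false
open scoped commutatorElement

/-! B & G Theorem 12.7, part 3: `τ₂(M) = {p}` and the Fitting subgroup (helper28). -/

namespace Cfsg.Agent.Lib.Helper28.BGt

open Cfsg Cfsg.Agent.Lib.Helper18

variable {G : Type*} [Group G] [Finite G]

omit [Finite G] in
/-- a nilpotent subgroup normalized by `M` lies in `F(M)` -/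
theorem le_fittingOf {M K : Subgroup G} (hKM : K ≤ M)
    (hN : M ≤ Subgroup.normalizer (K : Set G)) (hnil : Group.IsNilpotent K) :
    K ≤ Cfsg.fittingOf M := by
  have hn : (K.subgroupOf M).Normal :=
    (Subgroup.normal_subgroupOf_iff_le_normalizer hKM).mpr hN
  have hnil' : Group.IsNilpotent (K.subgroupOf M) :=
    Group.nilpotent_of_mulEquiv (Subgroup.subgroupOfEquivOfLe hKM).symm
  have h1 := Cfsg.Agent.Lib.Helper1.le_fittingSubgroup hn hnil'
  intro k hk
  exact ⟨⟨k, hKM hk⟩, h1 (Subgroup.mem_subgroupOf.mpr hk), rfl⟩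

omit [Finite G] in
/-- two subgroups normalizing each other and meeting trivially commute elementwise -/
theorem commute_of_normalize_of_inf_eq_bot {H K : Subgroup G}
    (hHK : H ≤ Subgroup.normalizer (K : Set G)) (hKH : K ≤ Subgroup.normalizer (H : Set G))
    (hbot : H ⊓ K = ⊥) {h k : G} (hh : h ∈ H) (hk : k ∈ K) : h * k = k * h := by
  have h1 : h * k * h⁻¹ * k⁻¹ ∈ K :=
    K.mul_mem (conj_mem_of_le_normalizer hHK hh hk) (K.inv_mem hk)
  have h2 : h * k * h⁻¹ * k⁻¹ ∈ H := by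
    have := conj_mem_of_le_normalizer hKH hk (H.inv_mem hh)
    have e : h * k * h⁻¹ * k⁻¹ = h * (k * h⁻¹ * k⁻¹) := by group
    rw [e]
    exact H.mul_mem hh this
  have h3 : h * k * h⁻¹ * k⁻¹ ∈ H ⊓ K := ⟨h2, h1⟩
  rw [hbot, Subgroup.mem_bot] at h3
  have : h * k = (h * k * h⁻¹ * k⁻¹) * (k * h) := by group
  rw [this, h3, one_mul]

/-- in a group of `r`-rank one (`r` odd), an `r`-subgroup has at most one subgroup of order `r` -/
theorem mem_zpowers_of_rank_one {M T : Subgroup G} {r : ℕ} [hr : Fact r.Prime] (hr2 : r ≠ 2)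
    (hrank : Cfsg.PRankLE r 1 M) (hTM : T ≤ M) (hT : IsPGroup r T) {u v : G} (hu : u ∈ T)
    (hv : v ∈ T) (hu1 : u ≠ 1) (hur : u ^ r = 1) (hvr : v ^ r = 1) : v ∈ Subgroup.zpowers u := by
  have hTp : IsPGroup r (T.subgroupOf M) := hT.comap_subtype
  have hcyc : IsCyclic (T.subgroupOf M) :=
    Cfsg.Agent.Lib.Helper1.BG12.cyclic_of_rank_one r hr2 _ hTp hrank
  have hcomm : ∀ a ∈ T, ∀ b ∈ T, a * b = b * a := by
    intro a ha b hb
    have := hcyc.isMulCommutative.is_comm.comm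
      ⟨⟨a, hTM ha⟩, Subgroup.mem_subgroupOf.mpr ha⟩ ⟨⟨b, hTM hb⟩, Subgroup.mem_subgroupOf.mpr hb⟩
    have h2 := congrArg (fun z : T.subgroupOf M => ((z : M) : G)) this
    simpa using h2
  let B : Subgroup G :=
    { carrier := {a | a ∈ T ∧ a ^ r = 1}
      one_mem' := ⟨T.one_mem, one_pow _⟩
      mul_mem' := by
        rintro a b ⟨ha, ha'⟩ ⟨hb, hb'⟩
        refine ⟨T.mul_mem ha hb, ?_⟩
        have hc : Commute a b := hcomm a ha b hb
        rw [hc.mul_pow, ha', hb', one_mul]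
      inv_mem' := by
        rintro a ⟨ha, ha'⟩
        exact ⟨T.inv_mem ha, by rw [inv_pow, ha', inv_one]⟩ }
  have hBT : B ≤ T := fun a ha => ha.1
  have hBe : Cfsg.IsElementaryAbelian r B := by
    refine ⟨⟨⟨?_⟩⟩, fun a ha => ha.2⟩
    rintro ⟨a, ha⟩ ⟨b, hb⟩
    apply Subtype.ext
    exact hcomm a ha.1 b hb.1
  have hcard := Cfsg.Agent.Lib.Helper1.BG10.pRankLE_card_le hrank (hBT.trans hTM) hBe
  rw [pow_one] at hcard
  have huB : Subgroup.zpowers u ≤ B := Subgroup.zpowers_le.mpr ⟨hu, hur⟩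
  have hcu : Nat.card (Subgroup.zpowers u) = r := card_zpowers_of_pow_prime hu1 hur
  have heq : Subgroup.zpowers u = B := by
    apply Subgroup.eq_of_le_of_card_ge huB
    rw [hcu]; exact hcard
  rw [heq]
  exact ⟨hv, hvr⟩

omit [Finite G] in
/-- conjugation by an element normalizing `K` preserves `C_G(K)` -/
theorem conj_mem_centralizer {K : Subgroup G} {g : G}
    (hg : g ∈ Subgroup.normalizer (K : Set G)) {u : G}
    (hu : u ∈ Subgroup.centralizer (K : Set G)) :
    g * u * g⁻¹ ∈ Subgroup.centralizer (K : Set G) := by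
  rw [Subgroup.mem_centralizer_iff] at hu ⊢
  intro k hk
  have hk' : g⁻¹ * k * g⁻¹⁻¹ ∈ K :=
    (Subgroup.mem_normalizer_iff.mp (Subgroup.inv_mem _ hg) k).mp hk
  have h1 := hu _ hk'
  have e1 : k * (g * u * g⁻¹) = g * ((g⁻¹ * k * g⁻¹⁻¹) * u) * g⁻¹ := by group
  have e2 : g * u * g⁻¹ * k = g * (u * (g⁻¹ * k * g⁻¹⁻¹)) * g⁻¹ := by group
  rw [e1, e2, h1]

namespace Tau2Ctx

variable {M E : Subgroup G} {p : ℕ} {A : Subgroup G}

/-- **B & G, Theorem 12.7(a)** -/
theorem tau2_eq (c : Tau2Ctx M E p A) (nc : NC G) {y : G}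
    (hyN : y ∈ Subgroup.normalizer (A : Set G)) (hyM : y ∉ M) {k : ℕ} (hyk : y ^ p ^ k = 1) :
    Cfsg.tau2 M = {p} := by
  have := c.fact
  ext q
  constructor
  · intro hq
    by_contra hqp
    have hqp' : q ≠ p := hqp
    have hqf : Fact q.Prime := ⟨hq.1⟩
    obtain ⟨B, hBE, hBe, hB2⟩ := exists_sq_le_compl c.hG c.hM c.hE hq
    have c' : Tau2Ctx M E q B := ⟨c.hG, c.h16, c.h17, c.hM, c.hE, hq, hBE, hBe, hB2⟩
    have hBA : ∀ b ∈ B, ∀ a ∈ A, b * a = a * b := fun b hb =>
      c.cross nc c' hqp' (hBE hb) (k := 1) (by rw [pow_one]; exact hBe.2 b hb)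
    have hBC : B ≤ Subgroup.centralizer (A : Set G) := by
      intro b hb
      rw [Subgroup.mem_centralizer_iff]
      intro a ha
      exact (hBA b hb a ha).symm
    have hCE : Subgroup.centralizer (A : Set G) ≤ E := by
      have h1 := c.twelve_six.2.1
      rw [h1.2.1] at h1
      exact h1.1
    have hyB : y ∈ Subgroup.normalizer (B : Set G) := by
      apply mem_normalizer_of_conjSub_le
      rintro _ ⟨b, hb, rfl⟩
      show (MulAut.conj y).toMonoidHom b ∈ B
      simp only [MulEquiv.coe_toMonoidHom, MulAut.conj_apply]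
      by_cases hb1 : b = 1
      · rw [hb1]; simp
      · have h1 : y * b * y⁻¹ ∈ E := hCE (conj_mem_centralizer hyN (hBC hb))
        have h2 : y * b * y⁻¹ ≠ 1 := by
          intro h
          apply hb1
          have : b = y⁻¹ * (y * b * y⁻¹) * y := by group
          rw [this, h]; group
        have h3 : (y * b * y⁻¹) ^ q = 1 := by
          rw [conj_pow, hBe.2 b hb]; group
        exact c'.le_A_of_card (Subgroup.zpowers_le.mpr h1) (card_zpowers_of_pow_prime h2 h3)
          (Subgroup.mem_zpowers _)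
    obtain ⟨H, hH, hNH⟩ := Cfsg.Agent.Lib.Helper11.BenderE.exists_coatom_ge _ c.normalizer_ne_top
    obtain ⟨-, hEH, hAH⟩ := c.overN hNH
    have hcent := cross_centralizes c.hG nc hH (Ne.symm hqp') (c.p_mem_sigma_over hH hNH)
      (c.q_mem_sigma_over c' hH hNH) (not_beta_of_tau2 c.hG c.hM hq H) (hNH hyN) hyk
      (hBE.trans hEH) c'.isPGroup_A hyB
    apply hyM
    apply c'.cent_le
    rw [Subgroup.mem_centralizer_iff]
    intro b hb
    exact (hcent b hb).symm
  · intro h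
    rw [Set.mem_singleton_iff] at h
    rw [h]; exact c.hp

/-- `A` is a Sylow `p`-subgroup of `M_σ A` -/
theorem A_sylow_sup (c : Tau2Ctx M E p A) : IsSylowIn p A (Cfsg.sigmaCore M ⊔ A) := by
  refine ⟨le_sup_right, c.isPGroup_A, ?_⟩
  have hAN : A ≤ Subgroup.normalizer (Cfsg.sigmaCore M : Set G) :=
    c.hAM.trans (le_normalizer_sigmaCore M)
  rw [sup_comm, relIndex_sup_of_le_normalizer A _ hAN]
  intro hd
  apply c.not_dvd_sigmaCore
  exact hd.trans (Subgroup.relIndex_dvd_card _ _)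

/-- `A₀ = A ∩ C_G(M_σ)` is normal in `M` -/
theorem A0_normal (c : Tau2Ctx M E p A) :
    M ≤ Subgroup.normalizer
      ((A ⊓ Subgroup.centralizer (Cfsg.sigmaCore M : Set G) : Subgroup G) : Set G) := by
  have := c.fact
  set A₀ := A ⊓ Subgroup.centralizer (Cfsg.sigmaCore M : Set G) with hA₀
  have hMsN : Cfsg.sigmaCore M ≤ Subgroup.normalizer (A₀ : Set G) := by
    refine le_trans ?_ (Subgroup.centralizer_le_normalizer _)
    rw [Subgroup.le_centralizer_iff]
    exact inf_le_right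
  have hAN : A ≤ Subgroup.normalizer (A₀ : Set G) :=
    (c.A_le_centralizer inf_le_left).trans (Subgroup.centralizer_le_normalizer _)
  intro m hm
  have h1 : conjSub m A₀ ≤ Cfsg.sigmaCore M ⊔ A := by
    have := conjSub_mono (g := m) ((inf_le_left : A₀ ≤ A).trans
      (le_sup_right : A ≤ Cfsg.sigmaCore M ⊔ A))
    rwa [conjSub_eq_of_mem_normalizer (c.t17.2.2.1 hm)] at this
  have h2 : IsPGroup p (conjSub m A₀) := conjSub_isPGroup (c.isPGroup_A.to_le inf_le_left)
  obtain ⟨x, hx, hle⟩ := c.A_sylow_sup.exists_conj_le h1 h2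
  rw [conjSub_mul] at hle
  have hxN : x ∈ Subgroup.normalizer (A₀ : Set G) := (sup_le hMsN hAN) hx
  have hxM : x ∈ M := (sup_le (sigmaCore_le M) c.hAM) hx
  have hxmN : x * m ∈ Subgroup.normalizer (A₀ : Set G) := by
    apply mem_normalizer_of_conjSub_le
    apply le_inf hle
    rintro _ ⟨a, ha, rfl⟩
    show (MulAut.conj (x * m)).toMonoidHom a ∈ _
    simp only [MulEquiv.coe_toMonoidHom, MulAut.conj_apply]
    exact conj_mem_centralizer (le_normalizer_sigmaCore M (M.mul_mem hxM hm)) ha.2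
  have : m = x⁻¹ * (x * m) := by group
  rw [this]
  exact Subgroup.mul_mem _ (Subgroup.inv_mem _ hxN) hxmN

end Tau2Ctx

end Cfsg.Agent.Lib.Helper28.BGt
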