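import Mathlib
import Cfsg.Agent.Lib.Helper28.BGtH

set_option autoImplicit false
open scoped commutatorElement

/-! B & G Theorem 12.7, part 4: the Fitting subgroup and the final statement (helper28). -/

namespace Cfsg.Agent.Lib.Helper28.BGt

open Cfsg Cfsg.Agent.Lib.Helper18

variable {G : Type*} [Group G] [Finite G]

namespace Tau2Ctx

variable {M E : Subgroup G} {p : ℕ} {A : Subgroup G}

theorem p_dvd_card (c : Tau2Ctx M E p A) : p ∣ Nat.card M := by
  have h1 : Nat.card A ∣ Nat.card M := Subgroup.card_dvd_of_le c.hAM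
  rw [c.hA2] at h1
  exact (dvd_pow_self p (by norm_num)).trans h1

/-- a normal `r`-subgroup of `M`, `r ∉ σ(M)`, `r ≠ p`, is trivial -/
theorem normal_r_eq_bot (c : Tau2Ctx M E p A) (nc : NC G) {y : G}
    (hyN : y ∈ Subgroup.normalizer (A : Set G)) (hyM : y ∉ M) {k : ℕ} (hyk : y ^ p ^ k = 1)
    {r : ℕ} [hr : Fact r.Prime] {R : Subgroup G} (hRM : R ≤ M) (hR : IsPGroup r R)
    (hN : M ≤ Subgroup.normalizer (R : Set G)) (hrσ : r ∉ Cfsg.sigma M) (hrp : r ≠ p) :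
    R = ⊥ := by
  have := c.fact
  by_contra hne
  obtain ⟨n, hn⟩ := IsPGroup.iff_card.mp hR
  have hn0 : n ≠ 0 := by
    rintro rfl
    rw [pow_zero] at hn
    exact hne (Subgroup.eq_bot_of_card_eq R hn)
  have hrR : r ∣ Nat.card R := by rw [hn]; exact dvd_pow_self r hn0
  have hr2 : r ≠ 2 :=
    Cfsg.Agent.Lib.Helper1.BG10.prime_ne_two c.hG r M (hrR.trans (Subgroup.card_dvd_of_le hRM))
  have hrank : Cfsg.PRankLE r 1 M := by
    by_contra h
    have h1 : r ∈ Cfsg.tau2 M := by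
      refine ⟨hr.out, hrσ, ?_, h⟩
      by_contra h2
      exact hrσ (Cfsg.Agent.Lib.Helper11.BenderN.alpha_sub_sigma c.hG M c.hM r ⟨hr.out, h2⟩)
    rw [c.tau2_eq nc hyN hyM hyk] at h1
    exact hrp h1
  -- `R` centralizes `M_σ A`
  have hAN : A ≤ Subgroup.normalizer (Cfsg.sigmaCore M : Set G) :=
    c.hAM.trans (le_normalizer_sigmaCore M)
  have hcard : Nat.card (Cfsg.sigmaCore M ⊔ A : Subgroup G) =
      Nat.card (Cfsg.sigmaCore M) * p ^ 2 := by
    rw [Cfsg.Agent.Lib.Helper10.card_sup_of_inf_eq_bot _ _ hAN c.sigmaCore_inf_A, c.hA2]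
  have hrMs : ¬ r ∣ Nat.card (Cfsg.sigmaCore M) := fun h => hrσ (prime_sigmaCore c.hG c.hM hr.out h)
  have hcop : (Nat.card R).Coprime (Nat.card (Cfsg.sigmaCore M ⊔ A : Subgroup G)) := by
    rw [hn, hcard]
    apply Nat.Coprime.pow_left
    apply Nat.Coprime.mul_right
    · exact (Nat.Prime.coprime_iff_not_dvd hr.out).mpr hrMs
    · apply Nat.Coprime.pow_right
      exact (Nat.coprime_primes hr.out c.prime).mpr hrp
  have hbot : R ⊓ (Cfsg.sigmaCore M ⊔ A) = ⊥ := (Subgroup.disjoint_of_coprime_natCard hcop).eq_bot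
  have hsupM : Cfsg.sigmaCore M ⊔ A ≤ M := sup_le (sigmaCore_le M) c.hAM
  have hcomm : ∀ x ∈ R, ∀ a ∈ Cfsg.sigmaCore M ⊔ A, x * a = a * x := fun x hx a ha =>
    commute_of_normalize_of_inf_eq_bot (hRM.trans c.t17.2.2.1) (hsupM.trans hN) hbot hx ha
  -- an element of order `r`
  obtain ⟨⟨x, hxR⟩, hxo⟩ := exists_prime_orderOf_dvd_card' (G := R) r hrR
  have hxo' : orderOf x = r := by rw [← hxo, Subgroup.orderOf_mk]
  have hx1 : x ≠ 1 := by
    intro h
    rw [h, orderOf_one] at hxo'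
    exact hr.out.one_lt.ne hxo'
  have hxr : x ^ r = 1 := by rw [← hxo']; exact pow_orderOf_eq_one x
  have hxCA : x ∈ Subgroup.centralizer (A : Set G) := by
    rw [Subgroup.mem_centralizer_iff]
    intro a ha
    exact (hcomm x hxR a (Subgroup.mem_sup_right ha)).symm
  set x' := y * x * y⁻¹ with hx'
  have hx'M : x' ∈ M := c.cent_le (conj_mem_centralizer hyN hxCA)
  have hx'r : x' ^ r = 1 := by rw [hx', conj_pow, hxr]; group
  have hx'1 : x' ≠ 1 := by
    intro h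
    apply hx1
    have : x = y⁻¹ * x' * y := by rw [hx']; group
    rw [this, h]; group
  have hzp : IsPGroup r (Subgroup.zpowers x') :=
    IsPGroup.of_card (n := 1) (by rw [pow_one]; exact card_zpowers_of_pow_prime hx'1 hx'r)
  have hzN : Subgroup.zpowers x' ≤ Subgroup.normalizer (R : Set G) :=
    (Subgroup.zpowers_le.mpr hx'M).trans hN
  have hT : IsPGroup r (R ⊔ Subgroup.zpowers x' : Subgroup G) :=
    IsPGroup.to_sup_of_normal_left' hR hzp hzN
  have hTM : R ⊔ Subgroup.zpowers x' ≤ M := sup_le hRM (Subgroup.zpowers_le.mpr hx'M)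
  have hmem : x' ∈ Subgroup.zpowers x :=
    mem_zpowers_of_rank_one hr2 hrank hTM hT (Subgroup.mem_sup_left hxR)
      (Subgroup.mem_sup_right (Subgroup.mem_zpowers x')) hx1 hxr hx'r
  -- `y` normalizes `⟨x⟩`
  have hyK : y ∈ Subgroup.normalizer (Subgroup.zpowers x : Set G) := by
    apply mem_normalizer_of_conjSub_le
    rintro _ ⟨u, ⟨i, rfl⟩, rfl⟩
    show (MulAut.conj y).toMonoidHom (x ^ i) ∈ _
    simp only [MulEquiv.coe_toMonoidHom, MulAut.conj_apply]
    rw [← conj_zpow]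
    exact Subgroup.zpow_mem _ hmem i
  have hz1 : Subgroup.zpowers x ≠ ⊥ := by
    intro h
    apply hx1
    have := Subgroup.mem_zpowers x
    rwa [h, Subgroup.mem_bot] at this
  have hz2 : Subgroup.zpowers x ≠ ⊤ := by
    intro h
    have h1 : Subgroup.zpowers x ≤ M := Subgroup.zpowers_le.mpr (hRM hxR)
    rw [h] at h1
    exact c.hM.1 (eq_top_iff.mpr h1)
  have hK := Cfsg.Agent.Lib.Helper1.BG10.normalizer_ne_top c.hG hz1 hz2
  have hcz : ∀ a ∈ Cfsg.sigmaCore M ⊔ A, a ∈ Subgroup.normalizer (Subgroup.zpowers x : Set G) := by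
    intro a ha
    apply Subgroup.centralizer_le_normalizer
    apply centralizer_singleton_le_zpowers
    rw [Subgroup.mem_centralizer_iff]
    intro u hu
    rw [Set.mem_singleton_iff] at hu
    rw [hu]
    exact hcomm x hxR a ha
  have hAK : A ≤ Subgroup.normalizer (Subgroup.zpowers x : Set G) :=
    fun a ha => hcz a (Subgroup.mem_sup_right ha)
  have hMsK : Cfsg.sigmaCore M ≤ Subgroup.normalizer (Subgroup.zpowers x : Set G) :=
    fun a ha => hcz a (Subgroup.mem_sup_left ha)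
  have hmeet : Cfsg.sigmaCore M ⊓ Subgroup.normalizer (Subgroup.zpowers x : Set G) ≠ ⊥ := by
    rw [inf_eq_left.mpr hMsK]
    exact c.sigmaCore_ne_bot
  exact hyM ((c.unique_of_meets hK hAK hmeet).1 hyK)

/-- a normal `p`-subgroup of `M` lies in `X₀` -/
theorem normal_p_le (c : Tau2Ctx M E p A) (h12 : T1412 G) {S : Sylow p G}
    (hSna : ¬ IsMulCommutative (S : Subgroup G)) {P : Subgroup G} (hAP : A ≤ P)
    (hPM : IsSylowIn p P M) (hPS : P ≤ (S : Subgroup G)) {y : G} (hyS : y ∈ (S : Subgroup G))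
    (hyN : y ∈ Subgroup.normalizer (A : Set G)) (hyM : y ∉ M) {k : ℕ} (hyk : y ^ p ^ k = 1)
    {X₀ : Subgroup G} (hX₀A : X₀ ≤ A) (hX₀ : Nat.card X₀ = p)
    (hX₀ne : Cfsg.sigmaCore M ⊓ Subgroup.centralizer (X₀ : Set G) ≠ ⊥)
    {R : Subgroup G} (hRM : R ≤ M) (hR : IsPGroup p R)
    (hN : M ≤ Subgroup.normalizer (R : Set G)) : R ≤ X₀ := by
  have hpf := c.fact
  have hp2 : p ≠ 2 := Cfsg.Agent.Lib.Helper1.BG10.prime_ne_two c.hG p M c.p_dvd_card
  have hAmax : ∀ B : Subgroup G, Cfsg.IsElementaryAbelian p B → A ≤ B → B = A :=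
    Cfsg.Agent.Lib.Helper1.BG10.elemAb_sq_maximal c.hG M c.hM p c.hp.2.1 A c.hAM c.hAe c.hA2
  -- `R` centralizes `M_σ`
  obtain ⟨n, hn⟩ := IsPGroup.iff_card.mp hR
  have hcop : (Nat.card R).Coprime (Nat.card (Cfsg.sigmaCore M)) := by
    rw [hn]
    apply Nat.Coprime.pow_left
    exact (Nat.Prime.coprime_iff_not_dvd c.prime).mpr c.not_dvd_sigmaCore
  have hbot : R ⊓ Cfsg.sigmaCore M = ⊥ := (Subgroup.disjoint_of_coprime_natCard hcop).eq_bot
  have hcomm : ∀ x ∈ R, ∀ a ∈ Cfsg.sigmaCore M, x * a = a * x := fun x hx a ha =>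
    commute_of_normalize_of_inf_eq_bot (hRM.trans (le_normalizer_sigmaCore M))
      ((sigmaCore_le M).trans hN) hbot hx ha
  have hRC : R ≤ Subgroup.centralizer (Cfsg.sigmaCore M : Set G) := by
    intro x hx
    rw [Subgroup.mem_centralizer_iff]
    intro a ha
    exact (hcomm x hx a ha).symm
  -- `R ≤ P`
  have hRP : R ≤ P := by
    have hsup : IsPGroup p (R ⊔ P : Subgroup G) :=
      IsPGroup.to_sup_of_normal_left' hR hPM.isPGroup (hPM.le.trans hN)
    have := hPM.eq_of_le (sup_le hRM hPM.le) hsup le_sup_right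
    rw [← this]
    exact le_sup_left
  obtain ⟨hPcomm, hOm, -⟩ := c.sylow_data hAP hPM
  have hA0 := c.A0_eq hyN hyM hyk hX₀A hX₀ hX₀ne
  have hmemX₀ : ∀ w ∈ R, w ^ p = 1 → w ∈ X₀ := by
    intro w hw hwp
    rw [← hA0]
    exact ⟨(hOm w (hRP hw)).mp hwp, hRC hw⟩
  intro x hx
  apply hmemX₀ x hx
  by_contra hxp
  have hxS : x ∈ (S : Subgroup G) := hPS (hRP hx)
  have hxC : x ∈ Subgroup.centralizer (A : Set G) := by
    rw [Subgroup.mem_centralizer_iff]
    intro a ha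
    exact hPcomm a (hAP ha) x (hRP hx)
  obtain ⟨j, hj⟩ := hR ⟨x, hx⟩
  have hj' : x ^ p ^ j = 1 := by simpa using congrArg Subtype.val hj
  obtain ⟨m, -, hm⟩ := (Nat.dvd_prime_pow c.prime).mp (orderOf_dvd_of_pow_eq_one hj')
  have hm2 : 2 ≤ m := by
    by_contra hlt
    push Not at hlt
    apply hxp
    have hdvd : orderOf x ∣ p := by
      rw [hm]
      calc p ^ m ∣ p ^ 1 := pow_dvd_pow p (by omega)
        _ = p := pow_one p
    exact orderOf_dvd_iff_pow_eq_one.mp hdvd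
  set w := x ^ p ^ (m - 1) with hw
  have hwp : w ^ p = 1 := by
    rw [hw, ← pow_mul, ← pow_succ, show m - 1 + 1 = m by omega, ← hm]
    exact pow_orderOf_eq_one x
  have hw1 : w ≠ 1 := by
    intro h
    have h1 : orderOf x ∣ p ^ (m - 1) := orderOf_dvd_of_pow_eq_one h
    rw [hm] at h1
    have h2 := (Nat.pow_dvd_pow_iff_le_right c.prime.one_lt).mp h1
    omega
  have hwz : w ∈ Subgroup.zpowers x := Subgroup.pow_mem _ (Subgroup.mem_zpowers x) _
  have hcen := sylow_central h12 hp2 S hSna (hAP.trans hPS) c.hAe c.hA2 hAmax hxS hxC hxp hwz hwp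
  have hwX₀ : w ∈ X₀ := hmemX₀ w (R.pow_mem hx _) hwp
  apply c.X0_not_cent hyN hyM hX₀A hX₀ hX₀ne
  rw [← zpowers_eq_of_card_prime hX₀ hwX₀ hw1]
  apply Subgroup.zpowers_le.mpr
  rw [Subgroup.mem_centralizer_iff]
  intro u hu
  rw [Set.mem_singleton_iff] at hu
  rw [hu]
  exact (hcen y hyS).symm

/-- **B & G, Theorem 12.7(b)**: `F(M) = M_σ × X₀` -/
theorem fitting_eq (c : Tau2Ctx M E p A) (nc : NC G) (h12 : T1412 G) {S : Sylow p G}
    (hSna : ¬ IsMulCommutative (S : Subgroup G)) {P : Subgroup G} (hAP : A ≤ P)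
    (hPM : IsSylowIn p P M) (hPS : P ≤ (S : Subgroup G)) {y : G} (hyS : y ∈ (S : Subgroup G))
    (hyN : y ∈ Subgroup.normalizer (A : Set G)) (hyM : y ∉ M) {k : ℕ} (hyk : y ^ p ^ k = 1)
    {X₀ : Subgroup G} (hX₀A : X₀ ≤ A) (hX₀ : Nat.card X₀ = p)
    (hX₀ne : Cfsg.sigmaCore M ⊓ Subgroup.centralizer (X₀ : Set G) ≠ ⊥) :
    Cfsg.fittingOf M = Cfsg.sigmaCore M ⊔ X₀ := by
  have hpf := c.fact
  apply le_antisymm
  · apply Cfsg.Agent.Lib.Helper1.sylow_le_imp_le
    intro r hr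
    obtain ⟨R'⟩ : Nonempty (Sylow r ↥(Cfsg.fittingOf M)) := inferInstance
    refine ⟨R', ?_⟩
    have hR := isSylowIn_of_sylow R'
    have hRM := hR.le.trans (Cfsg.Agent.Lib.Helper11.MaxLocB.fittingOf_le M)
    have hRN := Cfsg.Agent.Lib.Helper1.BG12.sylow_normal_of_nilpotent (Cfsg.fittingOf M) _ r
      (Cfsg.Agent.Lib.Helper11.MaxLocB.fittingOf_nilpotent M) hR M
      (Cfsg.Agent.Lib.Helper11.MaxLocB.le_normalizer_fittingOf M)
    by_cases hrσ : r ∈ Cfsg.sigma M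
    · refine le_trans ?_ le_sup_left
      intro x hx
      obtain ⟨j, hj⟩ := hR.isPGroup ⟨x, hx⟩
      have hj' : x ^ r ^ j = 1 := by simpa using congrArg Subtype.val hj
      exact pelem_mem_sigmaCore c.hG c.hM hrσ (hRM hx) hj'
    · by_cases hrp : r = p
      · subst hrp
        exact le_trans (c.normal_p_le h12 hSna hAP hPM hPS hyS hyN hyM hyk hX₀A hX₀ hX₀ne
          hRM hR.isPGroup hRN) le_sup_right
      · rw [c.normal_r_eq_bot nc hyN hyM hyk hRM hR.isPGroup hRN hrσ hrp]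
        exact bot_le
  · apply sup_le
    · exact le_fittingOf (sigmaCore_le M) (le_normalizer_sigmaCore M) c.t17.1
    · have hN := c.A0_normal
      rw [c.A0_eq hyN hyM hyk hX₀A hX₀ hX₀ne] at hN
      have hXp : IsPGroup p X₀ := IsPGroup.of_card (n := 1) (by rw [pow_one]; exact hX₀)
      exact le_fittingOf (hX₀A.trans c.hAM) hN hXp.isNilpotent

/-- **B & G, Theorem 12.7** (the statement of S1419) -/
theorem twelve_seven (c : Tau2Ctx M E p A) (nc : NC G) (h12 : T1412 G)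
    (hS : ∀ S : Sylow p G, ¬ IsMulCommutative (S : Subgroup G)) :
    Cfsg.tau2 M = {p} ∧
      (Nat.card ↥(A ⊓ Subgroup.centralizer (Cfsg.sigmaCore M : Set G)) = p ∧
        Cfsg.fittingOf M =
          Cfsg.sigmaCore M ⊔ (A ⊓ Subgroup.centralizer (Cfsg.sigmaCore M : Set G))) ∧
      ∀ X : Subgroup G, X ≤ E → Nat.card X = p →
        X ≠ A ⊓ Subgroup.centralizer (Cfsg.sigmaCore M : Set G) →
        Cfsg.sigmaCore M ⊓ Subgroup.centralizer (X : Set G) = ⊥ ∧
          ¬ Subgroup.centralizer (X : Set G) ≤ M := by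
  obtain ⟨S, P, y, k, hAP, hPM, hPS, hyS, hyN, hyM, hyk⟩ := c.exists_y hS
  obtain ⟨X₀, hX₀A, hX₀, hX₀ne⟩ := c.exists_X0
  have hA0 := c.A0_eq hyN hyM hyk hX₀A hX₀ hX₀ne
  rw [hA0]
  refine ⟨c.tau2_eq nc hyN hyM hyk, ⟨hX₀, ?_⟩, ?_⟩
  · exact c.fitting_eq nc h12 (hS S) hAP hPM hPS hyS hyN hyM hyk hX₀A hX₀ hX₀ne
  · intro X hXE hX hne
    exact c.others hyN hyM hyk hX₀A hX₀ hX₀ne (c.le_A_of_card hXE hX) hX hne

end Tau2Ctx

end Cfsg.Agent.Lib.Helper28.BGt
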