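import Mathlib
import Cfsg.Agent.Lib.Helper28.BGtD
import Cfsg.Agent.Lib.Helper18.BGTwelveA
import Cfsg.Agent.Lib.Helper11.BenderP
import Cfsg.Agent.Lib.Helper1.BG12.SigmaDisjoint

set_option autoImplicit false
open scoped commutatorElement

/-! B & G section 13: general tools for Corollary 13.3 (statements S1427, S1428) (helper28). -/

namespace Cfsg.Agent.Lib.Helper28.BGt

open Cfsg Cfsg.Agent.Lib.Helper18
open scoped Pointwise

variable {G : Type*} [Group G] [Finite G]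

/-- every `σ(H)'`-subgroup of `H` lies in a complement of `H_σ` -/
theorem exists_compl_ge (hG : Cfsg.IsMinSimpleOddOrder G) {H : Subgroup G} (hH : IsCoatom H)
    {Y : Subgroup G} (hYH : Y ≤ H)
    (hY : ∀ q : ℕ, q.Prime → q ∣ Nat.card Y → q ∉ Cfsg.sigma H) :
    ∃ E : Subgroup G, Cfsg.IsComplIn E (Cfsg.sigmaCore H) H ∧ Y ≤ E := by
  obtain ⟨E₀, hE₀⟩ := Cfsg.Agent.Lib.Helper18.BGTwelveA.exists_complIn_sigmaCore hG H hH
  have hHs : Group.IsSolvable ↥H := Cfsg.Agent.Lib.Helper11.MaxSubB.coatom_solvable hG H hH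
  have hcard : Nat.card ↥H = Nat.card E₀ * Nat.card (Cfsg.sigmaCore H) := by
    rw [card_compl hE₀, mul_comm]
  have hcop : (Nat.card E₀).Coprime (Nat.card (Cfsg.sigmaCore H)) := by
    apply Nat.coprime_of_dvd
    intro q hq hqE hqs
    exact compl_prime_not_sigma hG hH hE₀ hq hqE (prime_sigmaCore hG hH hq hqs)
  have hcE : Nat.card (E₀.subgroupOf H) = Nat.card E₀ :=
    Nat.card_congr (Subgroup.subgroupOfEquivOfLe hE₀.1).toEquiv
  have hcK : (Nat.card (Y.subgroupOf H)).Coprime (Nat.card (Cfsg.sigmaCore H)) := by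
    rw [Nat.card_congr (Subgroup.subgroupOfEquivOfLe hYH).toEquiv]
    apply Nat.coprime_of_dvd
    intro q hq hqY hqs
    exact hY q hq hqY (prime_sigmaCore hG hH hq hqs)
  obtain ⟨g, hg⟩ := Cfsg.Agent.Lib.Helper1.hall_le_conj (Nat.card E₀) (Nat.card (Cfsg.sigmaCore H))
    hcard hcop (E₀.subgroupOf H) (Y.subgroupOf H) hcE hcK
  refine ⟨conjSub (g : G) E₀, compl_conj hE₀ g.2, ?_⟩
  intro y hy
  have hyg : (⟨y, hYH hy⟩ : H) ∈ MulAut.conj g • E₀.subgroupOf H :=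
    hg (by simpa [Subgroup.mem_subgroupOf] using hy)
  rw [Subgroup.mem_smul_pointwise_iff_exists] at hyg
  obtain ⟨e, he, hey⟩ := hyg
  have hgy : (g : G) * (e : G) * (g : G)⁻¹ = y := by
    have := congrArg Subtype.val hey
    simpa [MulAut.smul_def, MulAut.conj_apply] using this
  rw [← hgy]
  exact conj_mem_conjSub (Subgroup.mem_subgroupOf.mp he)

omit [Finite G] in
theorem le_normalizer_derived' (H : Subgroup G) :
    H ≤ Subgroup.normalizer ((⁅H, H⁆ : Subgroup G) : Set G) := by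
  intro g hg
  rw [Subgroup.mem_normalizer_iff_map_conj_eq, Subgroup.map_commutator]
  have : H.map (MulAut.conj g).toMonoidHom = H :=
    conjSub_eq_of_mem_normalizer (Subgroup.le_normalizer hg)
  change ⁅H.map (MulAut.conj g).toMonoidHom, H.map (MulAut.conj g).toMonoidHom⁆ = _
  rw [this]

/-- an element of order coprime to the index of a normal subgroup lies in it -/
theorem mem_of_orderOf_coprime_index {Γ : Type*} [Group Γ] [Finite Γ] (N : Subgroup Γ) [N.Normal]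
    (x : Γ) (h : (orderOf x).Coprime N.index) : x ∈ N :=
  Cfsg.Agent.Lib.Helper1.BG12.le_of_coprime_index N (Subgroup.zpowers x)
    (by rw [Nat.card_zpowers]; exact h) (Subgroup.mem_zpowers x)

/-- the generalized "cross" argument: for `s ∉ β(H)`, an `r`-element (`r ≠ s`) of `H'`
normalizing an `s`-subgroup `D` of `H` centralizes `D` -/
theorem gcross (nc : NC G) {H : Subgroup G}
    (hH : IsCoatom H) {r s : ℕ} (hr : r.Prime) (hs : s.Prime) (hrs : r ≠ s)
    (hsβ : s ∉ Cfsg.beta H) {u : G} (huK : u ∈ ⁅H, H⁆) {k : ℕ} (huk : u ^ r ^ k = 1)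
    {D : Subgroup G} (hDH : D ≤ H) (hD : IsPGroup s D)
    (huD : u ∈ Subgroup.normalizer (D : Set G)) : ∀ d ∈ D, u * d = d * u := by
  have : Fact s.Prime := ⟨hs⟩
  by_cases hsd : s ∣ Nat.card H
  swap
  · -- `D` is trivial
    intro d hd
    obtain ⟨n, hn⟩ := IsPGroup.iff_card.mp hD
    have h1 : Nat.card D ∣ Nat.card H := Subgroup.card_dvd_of_le hDH
    have hn0 : n = 0 := by
      by_contra hn0
      apply hsd
      refine dvd_trans ?_ h1
      rw [hn]
      exact dvd_pow_self s hn0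
    rw [hn0, pow_zero] at hn
    have : D = ⊥ := Subgroup.card_eq_one.mp hn
    rw [this, Subgroup.mem_bot] at hd
    rw [hd, mul_one, one_mul]
  obtain ⟨Q, N, hNn, hNc⟩ := nc H hH s hs hsd hsβ
  have hidx : N.index = Nat.card (Q : Subgroup ↥⁅H, H⁆) := hNc.symm.index_eq_card
  have hcardN : Nat.card N = (Q : Subgroup ↥⁅H, H⁆).index := hNc.index_eq_card.symm
  have hNs : (Nat.card N).Coprime s := by
    rw [hcardN]
    exact ((Nat.Prime.coprime_iff_not_dvd hs).mpr Q.not_dvd_index).symm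
  have hidx' : ∀ m : ℕ, m.Coprime s → m.Coprime N.index := by
    intro m hm
    rw [hidx]
    obtain ⟨n, hn⟩ := IsPGroup.iff_card.mp Q.isPGroup'
    rw [hn]
    exact Nat.Coprime.pow_right n hm
  -- elements of `r`-power order of `H'` lie in `N`
  have hmemN : ∀ v : G, ∀ hv : v ∈ ⁅H, H⁆, v ^ r ^ k = 1 → (⟨v, hv⟩ : ↥⁅H, H⁆) ∈ N := by
    intro v hv hvk
    apply mem_of_orderOf_coprime_index
    apply hidx'
    have hord : orderOf (⟨v, hv⟩ : ↥⁅H, H⁆) ∣ r ^ k := by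
      apply orderOf_dvd_of_pow_eq_one
      apply Subtype.ext
      simpa using hvk
    apply Nat.Coprime.coprime_dvd_left hord
    apply Nat.Coprime.pow_left
    exact (Nat.coprime_primes hr hs).mpr hrs
  intro d hd
  have hdH : d ∈ H := hDH hd
  -- `d u⁻¹ d⁻¹ ∈ H'`
  have h1K : d * u⁻¹ * d⁻¹ ∈ ⁅H, H⁆ :=
    conj_mem_of_le_normalizer (le_normalizer_derived' H) hdH (Subgroup.inv_mem _ huK)
  have h1k : (d * u⁻¹ * d⁻¹) ^ r ^ k = 1 := by
    rw [conj_pow, inv_pow, huk]; group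
  have h1N := hmemN _ h1K h1k
  have huN := hmemN u huK huk
  have hcN := N.mul_mem huN h1N
  have hcK : u * d * u⁻¹ * d⁻¹ ∈ ⁅H, H⁆ := by
    have := Subgroup.mul_mem _ huK h1K
    have e : u * (d * u⁻¹ * d⁻¹) = u * d * u⁻¹ * d⁻¹ := by group
    rwa [e] at this
  have hcN' : (⟨u * d * u⁻¹ * d⁻¹, hcK⟩ : ↥⁅H, H⁆) ∈ N := by
    have e : (⟨u * d * u⁻¹ * d⁻¹, hcK⟩ : ↥⁅H, H⁆) = ⟨u, huK⟩ * ⟨d * u⁻¹ * d⁻¹, h1K⟩ := by
      apply Subtype.ext
      simp only [Subgroup.coe_mul]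
      group
    rw [e]; exact hcN
  have hcD : u * d * u⁻¹ * d⁻¹ ∈ D :=
    D.mul_mem ((Subgroup.mem_normalizer_iff.mp huD d).mp hd) (D.inv_mem hd)
  obtain ⟨j, hj⟩ := hD ⟨_, hcD⟩
  have hj' : (u * d * u⁻¹ * d⁻¹) ^ s ^ j = 1 := by simpa using congrArg Subtype.val hj
  have ho1 : orderOf (⟨u * d * u⁻¹ * d⁻¹, hcK⟩ : ↥⁅H, H⁆) ∣ s ^ j := by
    apply orderOf_dvd_of_pow_eq_one
    apply Subtype.ext
    simpa using hj'
  have ho2 : orderOf (⟨u * d * u⁻¹ * d⁻¹, hcK⟩ : ↥⁅H, H⁆) ∣ Nat.card N := by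
    have := orderOf_dvd_natCard (⟨_, hcN'⟩ : N)
    rwa [← Subgroup.orderOf_coe] at this
  have ho3 : orderOf (⟨u * d * u⁻¹ * d⁻¹, hcK⟩ : ↥⁅H, H⁆) = 1 :=
    Nat.eq_one_of_dvd_coprimes (Nat.Coprime.pow_right j hNs) ho2 ho1
  rw [orderOf_eq_one_iff] at ho3
  have h3 : u * d * u⁻¹ * d⁻¹ = 1 := by
    have := congrArg Subtype.val ho3
    simpa using this
  have : u * d = (u * d * u⁻¹ * d⁻¹) * (d * u) := by group
  rw [this, h3, one_mul]

/-- when `τ₂(H) ≠ ∅`, `σ(H)` is disjoint from `σ(M)` for `M` not conjugate to `H` -/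
theorem not_sigma_of_tau2 (hG : Cfsg.IsMinSimpleOddOrder G) (h17 : T1417 G) {H M : Subgroup G}
    (hH : IsCoatom H) (hM : IsCoatom M) {p : ℕ} (hp : p ∈ Cfsg.tau2 H)
    (hnc : ∀ g : G, M ≠ conjSub g H) {q : ℕ} (hqM : q ∈ Cfsg.sigma M) : q ∉ Cfsg.sigma H := by
  have : Fact p.Prime := ⟨hp.1⟩
  intro hqH
  obtain ⟨A, hAH, hAe, hA2⟩ :=
    Cfsg.Agent.Lib.Helper1.BG10.exists_elemAb_sq_of_not_pRankLE_one p H hp.2.2.2
  have hnil := (h17 H hH p hp A ⟨hAH, hAe, hA2⟩).1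
  obtain ⟨g, hg⟩ := Cfsg.Agent.Lib.Helper1.BG12.conj_of_sigma_sigma_nilp hG H M hH hM hnil q hqH hqM
  exact hnc g hg

/-- primes of `σ(M)` are not in `β(H)` for `H` not conjugate to `M` -/
theorem not_beta_of_sigma (hG : Cfsg.IsMinSimpleOddOrder G) {M H : Subgroup G}
    (hM : IsCoatom M) (hH : IsCoatom H) (hnc : ∀ g : G, M ≠ conjSub g H) {q : ℕ}
    (hqM : q ∈ Cfsg.sigma M) : q ∉ Cfsg.beta H := by
  intro h
  obtain ⟨g, hg⟩ := Cfsg.Agent.Lib.Helper1.BG12.conj_of_alpha_sigma hG H M hH hM q h.1 hqM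
  exact hnc g hg

omit [Finite G] in
theorem nonconj_symm {M H : Subgroup G} (hnc : ∀ g : G, M ≠ conjSub g H) :
    ∀ g : G, H ≠ conjSub g M := by
  intro g hg
  apply hnc g⁻¹
  rw [hg, conjSub_mul, inv_mul_cancel, conjSub_one]

/-- coprime action: a group centralizing all its invariant Sylow subgroups of `K` centralizes `K` -/
theorem le_centralizer_of_inv_sylows {X K : Subgroup G}
    (hXK : X ≤ Subgroup.normalizer (K : Set G)) (hcop : (Nat.card X).Coprime (Nat.card K))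
    (hXs : Group.IsSolvable X)
    (h : ∀ (q : ℕ) [Fact q.Prime] (Q : Subgroup G), IsSylowIn q Q K →
      X ≤ Subgroup.normalizer (Q : Set G) → Q ≤ Subgroup.centralizer (X : Set G)) :
    K ≤ Subgroup.centralizer (X : Set G) := by
  apply Cfsg.Agent.Lib.Helper1.sylow_le_imp_le
  intro q hq
  obtain ⟨Q, hQ, hXQ, -⟩ := Cfsg.Agent.Lib.Helper11.BenderP.exists_inv_sylow_ge X K hXK hcop hXs q ⊥ bot_le
    IsPGroup.of_bot (by intro x _; rw [Subgroup.mem_normalizer_iff]; intro y; simp)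
  obtain ⟨S, hS⟩ := hQ.exists_sylow
  refine ⟨S, ?_⟩
  rw [hS, Subgroup.map_subgroupOf_eq_of_le hQ.le]
  exact h q Q hQ hXQ

/-- a subgroup with a cyclic Sylow `p`-subgroup has `p`-rank at most one -/
theorem pRankLE_one_of_cyclic_sylow {M S : Subgroup G} {p : ℕ} [hp : Fact p.Prime]
    (hS : IsSylowIn p S M) (hc : IsCyclic S) : Cfsg.PRankLE p 1 M := by
  intro A _ hAp
  obtain ⟨A', hA'⟩ : ∃ A' : Subgroup G, A' = A.map M.subtype := ⟨_, rfl⟩
  have hA'M : A' ≤ M := by rw [hA']; exact Subgroup.map_subtype_le _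
  have hA'pow : ∀ a ∈ A', a ^ p = 1 := by
    rw [hA']
    rintro _ ⟨a, ha, rfl⟩
    have := hAp a ha
    simpa using congrArg Subtype.val this
  have hA'p : IsPGroup p A' := by
    intro a
    refine ⟨1, ?_⟩
    apply Subtype.ext
    simpa using hA'pow a a.2
  obtain ⟨m, -, hle⟩ := hS.exists_conj_le hA'M hA'p
  have hcyc : IsCyclic ↥(conjSub m A') := Subgroup.isCyclic_of_le hle
  have hcard : Nat.card A = Nat.card ↥(conjSub m A') := by
    rw [card_conjSub, hA', Subgroup.card_map_of_injective (Subgroup.subtype_injective _)]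
  rw [hcard, pow_one, ← IsCyclic.exponent_eq_card]
  apply Nat.le_of_dvd hp.out.pos
  apply Monoid.exponent_dvd_of_forall_pow_eq_one
  rintro ⟨x, hx⟩
  rw [mem_conjSub] at hx
  apply Subtype.ext
  have := hA'pow _ hx
  rw [Subgroup.coe_pow, Subgroup.coe_one]
  have e : x = m * (m⁻¹ * x * m) * m⁻¹ := by group
  show x ^ p = 1
  rw [e, conj_pow, this]; group

end Cfsg.Agent.Lib.Helper28.BGt
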