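import Mathlib
import Cfsg.Agent.Lib.Helper28.BGtJ
import Cfsg.Agent.Lib.Helper1.Ward.StabMod

set_option autoImplicit false
open scoped commutatorElement

/-! B & G section 13: the `τ₂` case of Lemma 13.1 for primes of rank one (helper28). -/

namespace Cfsg.Agent.Lib.Helper28.BGt

open Cfsg Cfsg.Agent.Lib.Helper18
open scoped Pointwise

variable {G : Type*} [Group G] [Finite G]

/-- the statement of S1424 (B & G, Lemma 12.16) for the group `G` -/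
def T1424 (G : Type*) [Group G] [Finite G] : Prop :=
  ∀ (M : Subgroup G), IsCoatom M → ∀ (q : ℕ) [Fact q.Prime], q ∈ Cfsg.sigma M →
    ∀ (X : Subgroup G), IsPGroup q X → X ≠ ⊥ → X ≤ M →
    ∀ (Mstar : Subgroup G), IsCoatom Mstar → Mstar ≠ M →
      Subgroup.normalizer (X : Set G) ≤ Mstar →
    ∀ (S : Sylow q ↥(M ⊓ Mstar)), X ≤ (S : Subgroup ↥(M ⊓ Mstar)).map (M ⊓ Mstar).subtype →
    (∀ g : G, Mstar ≠ M.map (MulAut.conj g).toMonoidHom) ∧
      Subgroup.normalizer (((S : Subgroup ↥(M ⊓ Mstar)).map (M ⊓ Mstar).subtype : Subgroup G) :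
        Set G) ≤ M ∧
      ¬ q ∣ ((S : Subgroup ↥(M ⊓ Mstar)).map (M ⊓ Mstar).subtype).relIndex Mstar

/-- a usable form of S1424 -/
theorem T1424.apply (h : T1424 G) {M L : Subgroup G} (hM : IsCoatom M) (hL : IsCoatom L)
    {q : ℕ} [Fact q.Prime] (hq : q ∈ Cfsg.sigma M) {X : Subgroup G} (hXq : IsPGroup q X)
    (hX1 : X ≠ ⊥) (hXM : X ≤ M) (hne : L ≠ M) (hNX : Subgroup.normalizer (X : Set G) ≤ L) :
    ∃ S : Subgroup G, X ≤ S ∧ S ≤ M ∧ IsSylowIn q S L ∧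
      Subgroup.normalizer (S : Set G) ≤ M ∧ ∀ g : G, L ≠ conjSub g M := by
  have hXL : X ≤ L := Subgroup.le_normalizer.trans hNX
  have hXML : X ≤ M ⊓ L := le_inf hXM hXL
  have hXq' : IsPGroup q (X.subgroupOf (M ⊓ L)) := hXq.comap_subtype
  obtain ⟨S, hS⟩ := hXq'.exists_le_sylow
  have hXS : X ≤ (S : Subgroup ↥(M ⊓ L)).map (M ⊓ L).subtype := by
    intro x hx
    exact ⟨⟨x, hXML hx⟩, hS (by simpa [Subgroup.mem_subgroupOf] using hx), rfl⟩
  obtain ⟨h1, h2, h3⟩ := h M hM q hq X hXq hX1 hXM L hL hne hNX S hXS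
  have hSle : (S : Subgroup ↥(M ⊓ L)).map (M ⊓ L).subtype ≤ M ⊓ L := Subgroup.map_subtype_le _
  exact ⟨_, hXS, hSle.trans inf_le_left, ⟨hSle.trans inf_le_right, S.isPGroup'.map _, h3⟩, h2, h1⟩

/-- a Sylow `q`-subgroup of a complement `E` of `L_σ` is normal in `E` when `q` has rank one and
divides `|L'|` -/
theorem sylow_tau3_normal (hG : Cfsg.IsMinSimpleOddOrder G) {L E : Subgroup G} (hL : IsCoatom L)
    (hE : Cfsg.IsComplIn E (Cfsg.sigmaCore L) L) {q : ℕ} [hq : Fact q.Prime]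
    (hqσ : q ∉ Cfsg.sigma L) (hqd : q ∣ Nat.card ↥⁅L, L⁆) (hr : Cfsg.PRankLE q 1 L)
    {T : Subgroup G} (hT : IsSylowIn q T E) : E ≤ Subgroup.normalizer (T : Set G) := by
  have hEL : E ≤ L := hE.1
  have hTE : T ≤ E := hT.le
  have hodd := Cfsg.Agent.Lib.Helper1.BG12.odd_card_subgroup hG E
  have hc : Nat.card (T.subgroupOf E) = Nat.card T :=
    Cfsg.Agent.Lib.Helper5.card_subgroupOf_of_le hTE
  haveI := Cfsg.Agent.Lib.Helper1.BG12.nilpotent_commutator_compl hG L hL E hE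
  obtain ⟨n, hn⟩ := IsPGroup.iff_card.mp hT.isPGroup
  have hHall : (Nat.card (T.subgroupOf E)).Coprime (T.subgroupOf E).index := by
    rw [hc, hn]
    apply Nat.Coprime.pow_left
    exact (Nat.Prime.coprime_iff_not_dvd hq.out).mpr hT.not_dvd
  obtain ⟨-, -, h3⟩ := Cfsg.Agent.Lib.Helper1.BG12.hall_tau3 hodd (T.subgroupOf E) hHall (by
    intro p' hp' hpd
    rw [hc, hn] at hpd
    have hpq : p' = q := (Nat.prime_dvd_prime_iff_eq hp' hq.out).mp (hp'.dvd_of_dvd_pow hpd)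
    subst hpq
    refine ⟨?_, Cfsg.Agent.Lib.Helper1.BG12.pRankLE_of_le hEL hr⟩
    rw [Cfsg.Agent.Lib.Helper1.BG12.card_commutator_subgroup]
    exact Cfsg.Agent.Lib.Helper1.BG12.dvd_card_derived_compl hG L hL E hE p' hp' hqσ hqd)
  exact (Subgroup.normal_subgroupOf_iff_le_normalizer hTE).mp h3

/-- **the `τ₂` case of B & G, Lemma 13.1** for a prime `p` of rank one in `M`: if `p ∈ τ₂(H)`, a
`p`-subgroup `Y` of `H` normalizing a `q`-subgroup `Q₀` of `M ∩ H`, `q ∈ σ(M)`, centralizes it -/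
theorem tau2_case (hG : Cfsg.IsMinSimpleOddOrder G) (h16 : T1416 G) (h17 : T1417 G) (nc : NC G)
    (h24 : T1424 G) {M H : Subgroup G} (hM : IsCoatom M) (hH : IsCoatom H) {p : ℕ}
    [hpf : Fact p.Prime] (hpσ : p ∉ Cfsg.sigma M) (hrank : Cfsg.PRankLE p 1 M)
    (hp : p ∈ Cfsg.tau2 H) {q : ℕ} [hqf : Fact q.Prime] (hq : q ∈ Cfsg.sigma M)
    {Q₀ Y : Subgroup G} (hQ₀M : Q₀ ≤ M) (hQ₀H : Q₀ ≤ H) (hQ₀q : IsPGroup q Q₀) (hYH : Y ≤ H)
    (hYp : IsPGroup p Y) (hYQ : Y ≤ Subgroup.normalizer (Q₀ : Set G)) :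
    Q₀ ≤ Subgroup.centralizer (Y : Set G) := by
  have hpq : p ≠ q := by rintro rfl; exact hpσ hq
  -- no `E_{p²}` in `M`
  have no_sq : ∀ B : Subgroup G, B ≤ M → Cfsg.IsElementaryAbelian p B → Nat.card B = p ^ 2 →
      False := by
    intro B hBM hBe hB2
    have := Cfsg.Agent.Lib.Helper1.BG10.pRankLE_card_le hrank hBM hBe
    rw [hB2, pow_one] at this
    have h2 := hpf.out.two_le
    nlinarith
  -- `M` is not conjugate to `H`
  obtain ⟨A₀, hA₀H, hA₀e, hA₀2⟩ :=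
    Cfsg.Agent.Lib.Helper1.BG10.exists_elemAb_sq_of_not_pRankLE_one p H hp.2.2.2
  have hnc : ∀ g : G, M ≠ conjSub g H := by
    intro g hg
    refine no_sq (conjSub g A₀) ?_ (Cfsg.Agent.Lib.Helper11.BenderF.elemAb_conjSub p g hA₀e) ?_
    · rw [hg]; exact conjSub_mono hA₀H
    · rw [card_conjSub, hA₀2]
  have hqH : q ∉ Cfsg.sigma H := not_sigma_of_tau2 hG h17 hH hM hp hnc hq
  -- a complement containing `Q₀ Y`
  have hdisj : Q₀ ⊓ Y = ⊥ :=
    (Subgroup.disjoint_of_coprime_natCard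
      (IsPGroup.coprime_card_of_ne q p hpq.symm Q₀ Y hQ₀q hYp)).eq_bot
  have hcard : Nat.card ↥(Q₀ ⊔ Y) = Nat.card Q₀ * Nat.card Y :=
    Cfsg.Agent.Lib.Helper10.card_sup_of_inf_eq_bot Q₀ Y hYQ hdisj
  obtain ⟨E, hE, hQYE⟩ := exists_compl_ge hG hH (sup_le hQ₀H hYH) (by
    intro r hr hrd
    rw [hcard] at hrd
    obtain ⟨a, ha⟩ := IsPGroup.iff_card.mp hQ₀q
    obtain ⟨b, hb⟩ := IsPGroup.iff_card.mp hYp
    rw [ha, hb] at hrd
    rcases (Nat.Prime.dvd_mul hr).mp hrd with h | h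
    · have : r = q := (Nat.prime_dvd_prime_iff_eq hr hqf.out).mp (hr.dvd_of_dvd_pow h)
      rw [this]; exact hqH
    · have : r = p := (Nat.prime_dvd_prime_iff_eq hr hpf.out).mp (hr.dvd_of_dvd_pow h)
      rw [this]; exact hp.2.1)
  have hQ₀E : Q₀ ≤ E := le_sup_left.trans hQYE
  have hYE : Y ≤ E := le_sup_right.trans hQYE
  obtain ⟨A, hAE, hAe, hA2⟩ := exists_sq_le_compl hG hH hE hp
  have c : Tau2Ctx H E p A := ⟨hG, h16, h17, hH, hE, hp, hAE, hAe, hA2⟩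
  have hEA : E ≤ Subgroup.normalizer (A : Set G) := c.E_le_normalizer
  have hWc : IsMulCommutative ↥⁅E, E⁆ := (twelve_ten hG h16 h17 nc H hH E hE).2.1
  have hEW : E ≤ Subgroup.normalizer ((⁅E, E⁆ : Subgroup G) : Set G) := le_normalizer_derived' E
  -- `A` centralizes the `q`-elements of `E'`
  have hAcent : ∀ a ∈ A, ∀ v ∈ ⁅E, E⁆, ∀ k : ℕ, v ^ q ^ k = 1 → a * v = v * a := by
    intro a ha v hv k hvk
    have haE : a ∈ E := hAE ha
    have hvE : v ∈ E := Cfsg.Agent.Lib.Helper1.BG12.derived_le E hv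
    have h1 : a * v * a⁻¹ ∈ ⁅E, E⁆ := conj_mem_of_le_normalizer hEW haE hv
    have h2 : v * a⁻¹ * v⁻¹ ∈ A := conj_mem_of_le_normalizer hEA hvE (A.inv_mem ha)
    have hcA : a * v * a⁻¹ * v⁻¹ ∈ A := by
      have := A.mul_mem ha h2
      have e : a * (v * a⁻¹ * v⁻¹) = a * v * a⁻¹ * v⁻¹ := by group
      rwa [e] at this
    have hcW : a * v * a⁻¹ * v⁻¹ ∈ ⁅E, E⁆ := Subgroup.mul_mem _ h1 (Subgroup.inv_mem _ hv)
    have hcomm : Commute (a * v * a⁻¹ * v⁻¹) v := by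
      have := hWc.is_comm.comm ⟨_, hcW⟩ ⟨v, hv⟩
      exact congrArg Subtype.val this
    have e1 : a * v * a⁻¹ = (a * v * a⁻¹ * v⁻¹) * v := by group
    have e2 : (a * v * a⁻¹) ^ q ^ k = 1 := by rw [conj_pow, hvk]; group
    rw [e1, hcomm.mul_pow, hvk, mul_one] at e2
    have e3 : (a * v * a⁻¹ * v⁻¹) ^ p = 1 := hAe.2 _ hcA
    have ho : orderOf (a * v * a⁻¹ * v⁻¹) = 1 := by
      have hcop : (q ^ k).Coprime p := by
        apply Nat.Coprime.pow_left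
        exact (Nat.coprime_primes hqf.out hpf.out).mpr hpq.symm
      exact Nat.eq_one_of_dvd_coprimes hcop (orderOf_dvd_of_pow_eq_one e2)
        (orderOf_dvd_of_pow_eq_one e3)
    rw [orderOf_eq_one_iff] at ho
    have : a * v = (a * v * a⁻¹ * v⁻¹) * (v * a) := by group
    rw [this, ho, one_mul]
  -- the subgroup `X = Q₀ ∩ E'`
  obtain ⟨X, hXdef⟩ : ∃ X : Subgroup G, X = Q₀ ⊓ ⁅E, E⁆ := ⟨_, rfl⟩
  have hXQ₀ : X ≤ Q₀ := by rw [hXdef]; exact inf_le_left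
  have hXW : X ≤ ⁅E, E⁆ := by rw [hXdef]; exact inf_le_right
  have hXq : IsPGroup q X := hQ₀q.to_le hXQ₀
  have hcommX : ∀ x ∈ Q₀, ∀ y ∈ Y, y * x * y⁻¹ * x⁻¹ ∈ X := by
    intro x hx y hy
    rw [hXdef]
    refine ⟨?_, ?_⟩
    · exact Q₀.mul_mem (conj_mem_of_le_normalizer hYQ hy hx) (Q₀.inv_mem hx)
    · have := Subgroup.commutator_mem_commutator (hYE hy) (hQ₀E hx)
      rwa [commutatorElement_def] at this
  have hfinish : (∀ x ∈ Q₀, ∀ y ∈ Y, y * x * y⁻¹ * x⁻¹ = 1) →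
      Q₀ ≤ Subgroup.centralizer (Y : Set G) := by
    intro h x hx
    rw [Subgroup.mem_centralizer_iff]
    intro y hy
    have h1 := h x hx y hy
    have : y * x = (y * x * y⁻¹ * x⁻¹) * (x * y) := by group
    rw [this, h1, one_mul]
  by_cases hX1 : X = ⊥
  · apply hfinish
    intro x hx y hy
    have := hcommX x hx y hy
    rwa [hX1, Subgroup.mem_bot] at this
  -- a maximal subgroup `L ≥ N_G(X)`
  have hXtop : X ≠ ⊤ := by
    intro h
    have : (⊤ : Subgroup G) ≤ M := by rw [← h]; exact hXQ₀.trans hQ₀M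
    exact hM.1 (eq_top_iff.mpr this)
  obtain ⟨L, hL, hNL⟩ := Cfsg.Agent.Lib.Helper11.BenderE.exists_coatom_ge _
    (Cfsg.Agent.Lib.Helper1.BG10.normalizer_ne_top hG hX1 hXtop)
  have hAL : A ≤ L := by
    refine le_trans ?_ hNL
    refine le_trans ?_ (Subgroup.centralizer_le_normalizer _)
    intro a ha
    rw [Subgroup.mem_centralizer_iff]
    intro v hv
    obtain ⟨k, hk⟩ := hXq ⟨v, hv⟩
    have hk' : v ^ q ^ k = 1 := by simpa using congrArg Subtype.val hk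
    exact (hAcent a ha v (hXW hv) k hk').symm
  have hQ₀L : Q₀ ≤ L := by
    refine le_trans ?_ hNL
    rw [hXdef]
    exact Cfsg.Agent.Lib.Helper1.Ward.normalizer_inf Subgroup.le_normalizer (hQ₀E.trans hEW)
  have hYL : Y ≤ L := by
    refine le_trans ?_ hNL
    rw [hXdef]
    exact Cfsg.Agent.Lib.Helper1.Ward.normalizer_inf hYQ (hYE.trans hEW)
  have hLM : L ≠ M := by
    rintro rfl
    exact no_sq A hAL hAe hA2
  obtain ⟨S, hXS, hSM, hSL, hNS, hncL⟩ :=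
    h24.apply hM hL hq hXq hX1 (hXQ₀.trans hQ₀M) hLM hNL
  have hncL' : ∀ g : G, M ≠ conjSub g L := nonconj_symm hncL
  have hqβL : q ∉ Cfsg.beta L := not_beta_of_sigma hG hM hL hncL' hq
  by_cases hpL : p ∈ Cfsg.sigma L
  · -- `Y ≤ L_σ ≤ L'`
    intro x hx
    rw [Subgroup.mem_centralizer_iff]
    intro y hy
    obtain ⟨k, hk⟩ := hYp ⟨y, hy⟩
    have hk' : y ^ p ^ k = 1 := by simpa using congrArg Subtype.val hk
    have hyK : y ∈ ⁅L, L⁆ :=
      sigmaCore_le_derived hG hL (pelem_mem_sigmaCore hG hL hpL (hYL hy) hk')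
    exact gcross nc hL hpf.out hqf.out hpq hqβL hyK hk' hQ₀L hQ₀q (hYQ hy) x hx
  -- `p ∈ τ₂(L)`
  have hτL : p ∈ Cfsg.tau2 L := tau2_of_not_sigma hG hL hpL hAL hAe hA2
  have hqσL : q ∉ Cfsg.sigma L := not_sigma_of_tau2 hG h17 hL hM hτL hncL' hq
  by_cases hqL' : q ∣ Nat.card ↥⁅L, L⁆
  swap
  · apply hfinish
    intro x hx y hy
    have h1 : y * x * y⁻¹ * x⁻¹ ∈ ⁅L, L⁆ := by
      have := Subgroup.commutator_mem_commutator (hYL hy) (hQ₀L hx)
      rwa [commutatorElement_def] at this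
    have h2 : y * x * y⁻¹ * x⁻¹ ∈ Q₀ := hXQ₀ (hcommX x hx y hy)
    obtain ⟨k, hk⟩ := hQ₀q ⟨_, h2⟩
    have hk' : (y * x * y⁻¹ * x⁻¹) ^ q ^ k = 1 := by simpa using congrArg Subtype.val hk
    have ho1 : orderOf (y * x * y⁻¹ * x⁻¹) ∣ q ^ k := orderOf_dvd_of_pow_eq_one hk'
    have ho2 : orderOf (y * x * y⁻¹ * x⁻¹) ∣ Nat.card ↥⁅L, L⁆ := by
      have := orderOf_dvd_natCard (⟨_, h1⟩ : ↥⁅L, L⁆)
      rwa [← Subgroup.orderOf_coe] at this
    have ho : orderOf (y * x * y⁻¹ * x⁻¹) = 1 := by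
      apply Nat.eq_one_of_dvd_coprimes _ ho1 ho2
      apply Nat.Coprime.pow_left
      exact (Nat.Prime.coprime_iff_not_dvd hqf.out).mpr hqL'
    rwa [orderOf_eq_one_iff] at ho
  -- a complement of `L_σ` containing `A`
  obtain ⟨F, hF, hAF⟩ := exists_compl_ge hG hL hAL (by
    intro r hr hrd
    rw [hA2] at hrd
    have : r = p := (Nat.prime_dvd_prime_iff_eq hr hpf.out).mp (hr.dvd_of_dvd_pow hrd)
    rw [this]; exact hpL)
  obtain ⟨T₀⟩ : Nonempty (Sylow q F) := inferInstance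
  have hT : IsSylowIn q ((T₀ : Subgroup F).map F.subtype) F := isSylowIn_of_sylow T₀
  obtain ⟨T, hTdef⟩ : ∃ T : Subgroup G, T = (T₀ : Subgroup F).map F.subtype := ⟨_, rfl⟩
  rw [← hTdef] at hT
  have hTL : IsSylowIn q T L := sylow_compl hG hL hF hqσL hT
  -- `A` normalizes `T`
  have hAT : A ≤ Subgroup.normalizer (T : Set G) := by
    by_cases hr : Cfsg.PRankLE q 1 L
    · exact hAF.trans (sylow_tau3_normal hG hL hF hqσL hqL' hr hT)
    · have hτq : q ∈ Cfsg.tau2 L := by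
        refine ⟨hqf.out, hqσL, ?_, hr⟩
        by_contra h
        exact hqσL (Cfsg.Agent.Lib.Helper11.BenderN.alpha_sub_sigma hG L hL q ⟨hqf.out, h⟩)
      obtain ⟨B, hBF, hBe, hB2⟩ := exists_sq_le_compl hG hL hF hτq
      have cL : Tau2Ctx L F p A := ⟨hG, h16, h17, hL, hF, hτL, hAF, hAe, hA2⟩
      have cL' : Tau2Ctx L F q B := ⟨hG, h16, h17, hL, hF, hτq, hBF, hBe, hB2⟩
      refine le_trans ?_ (Subgroup.centralizer_le_normalizer _)
      intro a ha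
      rw [Subgroup.mem_centralizer_iff]
      intro t ht
      obtain ⟨k, hk⟩ := hT.isPGroup ⟨t, ht⟩
      have hk' : t ^ q ^ k = 1 := by simpa using congrArg Subtype.val hk
      exact cL.cross nc cL' hpq.symm (hT.le ht) hk' a ha
  -- `S` is conjugate to `T` in `L`
  obtain ⟨l, hl, hle⟩ := hTL.exists_conj_le hSL.le hSL.isPGroup
  have hST : conjSub l S = T := by
    have h1 : IsSylowIn q (conjSub l S) (conjSub l L) := hSL.conjSub l
    have h2 : conjSub l L = L := conjSub_eq_of_mem_normalizer (Subgroup.le_normalizer hl)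
    rw [h2] at h1
    exact (h1.eq_of_le hTL.le hTL.isPGroup hle).symm
  -- then a conjugate of `A` normalizes `S`, hence lies in `M`
  refine (no_sq (conjSub l⁻¹ A) ?_ (Cfsg.Agent.Lib.Helper11.BenderF.elemAb_conjSub p l⁻¹ hAe)
    (by rw [card_conjSub, hA2])).elim
  refine le_trans ?_ hNS
  intro z hz
  rw [mem_conjSub, inv_inv] at hz
  have h1 := hAT hz
  rw [← hST] at h1
  rw [Subgroup.mem_normalizer_iff] at h1 ⊢
  intro s
  have h2 := h1 (l * s * l⁻¹)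
  rw [mem_conjSub, mem_conjSub] at h2
  have e1 : l⁻¹ * (l * s * l⁻¹) * l = s := by group
  have e2 : l⁻¹ * (l * z * l⁻¹ * (l * s * l⁻¹) * (l * z * l⁻¹)⁻¹) * l = z * s * z⁻¹ := by group
  rw [e1, e2] at h2
  exact h2

end Cfsg.Agent.Lib.Helper28.BGt
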