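import Mathlib
import Cfsg.Agent.Lib.Helper28.BGtK
import Cfsg.Agent.Lib.Helper1.BG12.TwelveFourMain

set_option autoImplicit false
open scoped commutatorElement

/-! B & G section 13: Corollary 13.3(a) (statement S1427) (helper28). -/

namespace Cfsg.Agent.Lib.Helper28.BGt

open Cfsg Cfsg.Agent.Lib.Helper18
open scoped Pointwise

variable {G : Type*} [Group G] [Finite G]

omit [Finite G] in
/-- a non-identity `p`-element has a power of order `p` -/
theorem exists_pow_orderOf_prime {x : G} {p : ℕ} [hp : Fact p.Prime] {k : ℕ} (hx1 : x ≠ 1)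
    (hxk : x ^ p ^ k = 1) : ∃ j : ℕ, orderOf (x ^ j) = p := by
  obtain ⟨n, -, hn⟩ := (Nat.dvd_prime_pow hp.out).mp (orderOf_dvd_of_pow_eq_one hxk)
  have hn0 : n ≠ 0 := by
    rintro rfl
    rw [pow_zero, orderOf_eq_one_iff] at hn
    exact hx1 hn
  refine ⟨p ^ (n - 1), ?_⟩
  rw [orderOf_pow_of_dvd (pow_ne_zero _ hp.out.ne_zero) (by rw [hn]; exact pow_dvd_pow p (by omega)),
    hn, Nat.pow_div (by omega) hp.out.pos]
  have : n - (n - 1) = 1 := by omega
  rw [this, pow_one]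

/-- the core of **B & G, Corollary 13.3(a)**: a cyclic Sylow `p`-subgroup `S` of `E` centralizes
`C_{M_σ}(y)` for `y ∈ S` of order `p` -/
theorem thirteen_three_a (hG : Cfsg.IsMinSimpleOddOrder G) (h16 : T1416 G) (h17 : T1417 G)
    (nc : NC G) (h24 : T1424 G) {M E : Subgroup G} (hM : IsCoatom M)
    (hE : Cfsg.IsComplIn E (Cfsg.sigmaCore M) M) {p : ℕ} [hpf : Fact p.Prime]
    {S : Subgroup G} (hS : IsSylowIn p S E) (hSc : IsCyclic S) {y : G} (hy : y ∈ S)
    (hyo : orderOf y = p) :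
    Cfsg.sigmaCore M ⊓ Subgroup.centralizer ({y} : Set G) ≤ Subgroup.centralizer (S : Set G) := by
  have hy1 : y ≠ 1 := by
    rintro rfl
    rw [orderOf_one] at hyo
    exact hpf.out.one_lt.ne hyo
  have hSE : S ≤ E := hS.le
  have hEM : E ≤ M := hE.1
  have hpE : p ∣ Nat.card E := by
    rw [← hyo]
    have := orderOf_dvd_natCard (⟨y, hSE hy⟩ : E)
    rwa [Subgroup.orderOf_mk] at this
  have hpσ : p ∉ Cfsg.sigma M := compl_prime_not_sigma hG hM hE hpf.out hpE
  have hSM : IsSylowIn p S M := sylow_compl hG hM hE hpσ hS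
  have hrank : Cfsg.PRankLE p 1 M := pRankLE_one_of_cyclic_sylow hSM hSc
  have hScomm : ∀ a ∈ S, ∀ b ∈ S, a * b = b * a := by
    intro a ha b hb
    have := hSc.isMulCommutative.is_comm.comm ⟨a, ha⟩ ⟨b, hb⟩
    exact congrArg Subtype.val this
  -- the subgroup `S₁ = ⟨y⟩` and a maximal subgroup containing its normalizer
  have hS₁c : Nat.card (Subgroup.zpowers y) = p := by rw [Nat.card_zpowers, hyo]
  have hS₁1 : Subgroup.zpowers y ≠ ⊥ := by
    rw [Ne, Subgroup.zpowers_eq_bot]; exact hy1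
  have hS₁top : Subgroup.zpowers y ≠ ⊤ := by
    intro h
    have : (⊤ : Subgroup G) ≤ M := by
      rw [← h, Subgroup.zpowers_le]; exact hEM (hSE hy)
    exact hM.1 (eq_top_iff.mpr this)
  obtain ⟨H, hH, hNH⟩ := Cfsg.Agent.Lib.Helper11.BenderE.exists_coatom_ge _
    (Cfsg.Agent.Lib.Helper1.BG10.normalizer_ne_top hG hS₁1 hS₁top)
  have hCyH : Subgroup.centralizer ({y} : Set G) ≤ H :=
    (Cfsg.Agent.Lib.Helper1.BG12.centralizer_singleton_le_normalizer_zpowers y).trans hNH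
  have hSCy : S ≤ Subgroup.centralizer ({y} : Set G) := by
    intro s hs
    rw [Subgroup.mem_centralizer_iff]
    rintro _ rfl
    exact hScomm _ hy s hs
  have hSH : S ≤ H := hSCy.trans hCyH
  obtain ⟨C, hCdef⟩ : ∃ C : Subgroup G,
      C = Cfsg.sigmaCore M ⊓ Subgroup.centralizer ({y} : Set G) := ⟨_, rfl⟩
  rw [← hCdef]
  have hCσ : C ≤ Cfsg.sigmaCore M := by rw [hCdef]; exact inf_le_left
  have hCM : C ≤ M := hCσ.trans (sigmaCore_le M)
  have hCH : C ≤ H := by rw [hCdef]; exact inf_le_right.trans hCyH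
  -- `S` acts coprimely on `C`
  have hSC : S ≤ Subgroup.normalizer (C : Set G) := by
    rw [hCdef]
    apply Cfsg.Agent.Lib.Helper1.Ward.normalizer_inf
    · exact (hSE.trans hEM).trans (le_normalizer_sigmaCore M)
    · exact hSCy.trans Subgroup.le_normalizer
  have hcop : (Nat.card S).Coprime (Nat.card C) := by
    obtain ⟨n, hn⟩ := IsPGroup.iff_card.mp hS.isPGroup
    rw [hn]
    apply Nat.Coprime.pow_left
    rw [Nat.Prime.coprime_iff_not_dvd hpf.out]
    intro hd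
    exact hpσ (prime_sigmaCore hG hM hpf.out (hd.trans (Subgroup.card_dvd_of_le hCσ)))
  have hSs : Group.IsSolvable S := by
    haveI := hSc.isMulCommutative
    exact isSolvable_of_comm (fun a b => mul_comm' a b)
  apply le_centralizer_of_inv_sylows hSC hcop hSs
  intro q hqf Q hQ hSQ
  by_cases hQ1 : Q = ⊥
  · rw [hQ1]; exact bot_le
  have hQC : Q ≤ C := hQ.le
  have hqσ : q ∈ Cfsg.sigma M := by
    apply prime_sigmaCore hG hM hqf.out
    refine dvd_trans ?_ (Subgroup.card_dvd_of_le (hQC.trans hCσ))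
    obtain ⟨n, hn⟩ := IsPGroup.iff_card.mp hQ.isPGroup
    rw [hn]
    apply dvd_pow_self
    rintro rfl
    rw [pow_zero] at hn
    exact hQ1 (Subgroup.card_eq_one.mp hn)
  have hpq : p ≠ q := by rintro rfl; exact hpσ hqσ
  by_cases hpH : p ∈ Cfsg.sigma H
  · -- `S ≤ H_σ ≤ H'`
    have hnc : ∀ g : G, M ≠ conjSub g H := by
      intro g hg
      apply hpσ
      rw [hg]
      exact Cfsg.Agent.Lib.Helper1.BG12.sigma_conjSub H p hpH g
    have hqβ : q ∉ Cfsg.beta H := not_beta_of_sigma hG hM hH hnc hqσ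
    intro x hx
    rw [Subgroup.mem_centralizer_iff]
    intro s hs
    obtain ⟨k, hk⟩ := hS.isPGroup ⟨s, hs⟩
    have hk' : s ^ p ^ k = 1 := by simpa using congrArg Subtype.val hk
    have hsK : s ∈ ⁅H, H⁆ :=
      sigmaCore_le_derived hG hH (pelem_mem_sigmaCore hG hH hpH (hSH hs) hk')
    exact gcross nc hH hpf.out hqf.out hpq hqβ hsK hk' (hQC.trans hCH) hQ.isPGroup (hSQ hs) x hx
  · -- `p ∈ τ₂(H)`
    obtain ⟨⟨h2, h1⟩, -, -⟩ :=
      Cfsg.Agent.Lib.Helper1.BG10.ten_six hG H hH p hpH (Subgroup.zpowers y) hS₁c hNH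
    have hτ : p ∈ Cfsg.tau2 H := ⟨hpf.out, hpH, h2, h1⟩
    exact tau2_case hG h16 h17 nc h24 hM hH hpσ hrank hτ hqσ (hQC.trans hCM) (hQC.trans hCH)
      hQ.isPGroup hSH hS.isPGroup hSQ

end Cfsg.Agent.Lib.Helper28.BGt
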