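import Mathlib
import Cfsg.Agent.Lib.Helper1.FpfAction
import Cfsg.Agent.Lib.Helper1.PrimeAct.CosetFix
import Cfsg.Agent.Lib.Helper11.Coprime
import Cfsg.Agent.Lib.Helper1.Class2
import Cfsg.Agent.Lib.Helper1.Ward.StabMod

/-!
# Frobenius actions on `t`-groups (helper28)

`Q` a `q`-group, `R` of prime order `r` normalizing `Q` with `C_Q(R) = 1`, both acting on a
`t`-group.  Abelianization of an invariant subgroup `W = [W,Q]` + the averaging identity
`frob_avg` give fixed points of `R` on `W / W'`, which lift to `W`.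
-/

set_option autoImplicit false
open scoped commutatorElement

namespace Cfsg.Agent.Lib.Helper28.BGt

section AbAut

variable (W : Type*) [Group W]

/-- the induced action of automorphisms on the abelianization -/
noncomputable def abAut : MulAut W →* MulAut (Abelianization W) where
  toFun e := e.abelianizationCongr
  map_one' := by
    apply MulEquiv.ext
    intro x
    induction x using QuotientGroup.induction_on with
    | H w => rfl
  map_mul' a b := by
    apply MulEquiv.ext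
    intro x
    induction x using QuotientGroup.induction_on with
    | H w => rfl

theorem abAut_of (e : MulAut W) (w : W) :
    abAut W e (Abelianization.of w) = Abelianization.of (e w) := rfl

theorem abelianization_of_surjective : Function.Surjective (Abelianization.of : W →* Abelianization W) :=
  QuotientGroup.mk_surjective

end AbAut

section Frob

variable {G : Type*} [Group G]

/-- the action of `N(W)` on the abelianization of `W` -/
noncomputable def abAct (W : Subgroup G) :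
    ↥(Subgroup.normalizer (W : Set G)) →* MulAut (Abelianization ↥W) :=
  (abAut ↥W).comp W.normalizerMonoidHom

theorem abAct_of (W : Subgroup G) (g : ↥(Subgroup.normalizer (W : Set G))) (w : ↥W) :
    abAct W g (Abelianization.of w) =
      Abelianization.of (⟨(g : G) * w * (g : G)⁻¹, (g.2 w).mp w.2⟩ : ↥W) := rfl

theorem of_eq_one_iff (W : Subgroup G) (w : ↥W) :
    (Abelianization.of w : Abelianization ↥W) = 1 ↔ (w : G) ∈ ⁅W, W⁆ := by
  rw [← MonoidHom.mem_ker, Abelianization.ker_of, ← Subgroup.map_subtype_commutator]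
  constructor
  · intro h
    exact ⟨w, h, rfl⟩
  · rintro ⟨w', hw', h⟩
    have : w' = w := Subtype.ext h
    rwa [← this]

end Frob

section NormS

open Cfsg.Agent.Lib.Helper1

variable {M : Type*} [CommGroup M] {Γ : Type*} [Group Γ] (φ : Γ →* MulAut M)

theorem normS_mul (S : Subgroup Γ) [Fintype S] (u v : M) :
    normS φ S (u * v) = normS φ S u * normS φ S v := by
  unfold normS
  simp only [map_mul]
  exact Finset.prod_mul_distrib

theorem normS_one' (S : Subgroup Γ) [Fintype S] : normS φ S (1 : M) = 1 := by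
  unfold normS
  simp

theorem normS_inv (S : Subgroup Γ) [Fintype S] (u : M) :
    normS φ S u⁻¹ = (normS φ S u)⁻¹ := by
  unfold normS
  simp only [map_inv]
  exact Finset.prod_inv_distrib (s := Finset.univ) (f := fun s : S => φ s u)

theorem normS_act (S : Subgroup Γ) [Fintype S] (s : Γ) (hs : s ∈ S) (u : M) :
    normS φ S (φ s u) = normS φ S u := by
  unfold normS
  apply Fintype.prod_equiv (Equiv.mulRight (⟨s, hs⟩ : S))
  intro x
  simp [map_mul, MulAut.mul_apply]

theorem normS_of_fixed (S : Subgroup Γ) [Fintype S] (u : M) (h : ∀ s ∈ S, φ s u = u) :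
    normS φ S u = u ^ Fintype.card S := by
  unfold normS
  rw [Finset.prod_congr rfl (fun (s : S) _ => h (s : Γ) s.2)]
  simp

end NormS

section Frob2

open Cfsg.Agent.Lib.Helper1

variable {G : Type*} [Group G]

/-- the `Q`-norm is trivial on the abelianization of `W = [W,Q]` -/
theorem normS_eq_one (W Q : Subgroup G) (hQW : Q ≤ Subgroup.normalizer (W : Set G))
    (hWQ : W ≤ ⁅W, Q⁆) [Fintype (Q.subgroupOf (Subgroup.normalizer (W : Set G)))]
    (u : Abelianization ↥W) :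
    normS (abAct W) (Q.subgroupOf (Subgroup.normalizer (W : Set G))) u = 1 := by
  obtain ⟨w, rfl⟩ := abelianization_of_surjective ↥W u
  have key : ∀ g ∈ ⁅W, Q⁆, ∃ h : g ∈ W,
      normS (abAct W) (Q.subgroupOf (Subgroup.normalizer (W : Set G)))
        (Abelianization.of (⟨g, h⟩ : ↥W)) = 1 := by
    intro g hg
    rw [Subgroup.commutator_def] at hg
    induction hg using Subgroup.closure_induction with
    | mem x hx =>
      obtain ⟨a, ha, s, hs, rfl⟩ := hx
      have hsN : s ∈ Subgroup.normalizer (W : Set G) := hQW hs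
      have hconj : s * a * s⁻¹ ∈ W := (hsN a).mp ha
      have hmem : ⁅a, s⁆ ∈ W := by
        have e : ⁅a, s⁆ = a * (s * a * s⁻¹)⁻¹ := by
          rw [commutatorElement_def]; group
        rw [e]
        exact W.mul_mem ha (W.inv_mem hconj)
      refine ⟨hmem, ?_⟩
      have e : (⟨⁅a, s⁆, hmem⟩ : ↥W) = ⟨a, ha⟩ * (⟨s * a * s⁻¹, hconj⟩ : ↥W)⁻¹ := by
        apply Subtype.ext
        simp only [Subgroup.coe_mul, Subgroup.coe_inv]
        rw [commutatorElement_def]; group
      have e2 : (Abelianization.of (⟨s * a * s⁻¹, hconj⟩ : ↥W) : Abelianization ↥W) =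
          abAct W ⟨s, hsN⟩ (Abelianization.of ⟨a, ha⟩) := rfl
      rw [e, map_mul, map_inv, normS_mul, normS_inv, e2,
        normS_act (abAct W) _ ⟨s, hsN⟩ (Subgroup.mem_subgroupOf.mpr hs), mul_inv_cancel]
    | one => exact ⟨W.one_mem, normS_one' _ _⟩
    | mul x y _ _ hx hy =>
      obtain ⟨h1, e1⟩ := hx
      obtain ⟨h2, e2⟩ := hy
      refine ⟨W.mul_mem h1 h2, ?_⟩
      have e : (⟨x * y, W.mul_mem h1 h2⟩ : ↥W) = ⟨x, h1⟩ * ⟨y, h2⟩ := rfl
      rw [e, map_mul, normS_mul, e1, e2, one_mul]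
    | inv x _ hx =>
      obtain ⟨h1, e1⟩ := hx
      refine ⟨W.inv_mem h1, ?_⟩
      have e : (⟨x⁻¹, W.inv_mem h1⟩ : ↥W) = (⟨x, h1⟩ : ↥W)⁻¹ := rfl
      rw [e, map_inv, normS_inv, e1, inv_one]
  obtain ⟨h, e⟩ := key w (hWQ w.2)
  exact e

end Frob2

section Frob3

open Cfsg.Agent.Lib.Helper1

variable {G : Type*} [Group G]

theorem mem_centralizer_of_prime_card {r : ℕ} (hr : r.Prime) (R : Subgroup G)
    (hRc : Nat.card R = r) {c : G} (hc : c ∈ R) (hc1 : c ≠ 1) {g : G} (hg : g * c = c * g) :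
    g ∈ Subgroup.centralizer (R : Set G) := by
  haveI : Fact r.Prime := ⟨hr⟩
  rw [Subgroup.mem_centralizer_iff]
  intro y hy
  have h1 : (⟨y, hy⟩ : ↥R) ∈ Subgroup.zpowers (⟨c, hc⟩ : ↥R) :=
    mem_zpowers_of_prime_card hRc (by intro h; exact hc1 (congrArg Subtype.val h))
  obtain ⟨k, hk⟩ := Subgroup.mem_zpowers_iff.mp h1
  have hy' : y = c ^ k := by
    have := congrArg Subtype.val hk
    simpa using this.symm
  rw [hy']
  exact (Commute.zpow_left (show Commute c g from hg.symm) k).eq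

/-- **Frobenius action on a section.**  `Q` a `q`-group, `R` of prime order `r` normalizing `Q`
with `C_Q(R) = 1`, both normalizing the `t`-group `W = [W,Q] ≠ 1`.  Then `C_W(Q) ≤ W'` and
`C_W(R) ≰ W'`. -/
theorem frob_section [Finite G] {t q r : ℕ} [ht : Fact t.Prime] [hq : Fact q.Prime] (hr : r.Prime)
    (htq : t ≠ q) (htr : t ≠ r)
    (W Q R : Subgroup G) (hW : IsPGroup t W) (hW1 : W ≠ ⊥) (hQ : IsPGroup q Q)
    (hRc : Nat.card R = r)
    (hQW : Q ≤ Subgroup.normalizer (W : Set G)) (hRW : R ≤ Subgroup.normalizer (W : Set G))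
    (hRQ : R ≤ Subgroup.normalizer (Q : Set G))
    (hreg : Q ⊓ Subgroup.centralizer (R : Set G) = ⊥)
    (hWQ : W ≤ ⁅W, Q⁆) :
    W ⊓ Subgroup.centralizer (Q : Set G) ≤ ⁅W, W⁆ ∧
      ∃ c ∈ W, c ∈ Subgroup.centralizer (R : Set G) ∧ c ∉ ⁅W, W⁆ := by
  classical
  haveI : Fact r.Prime := ⟨hr⟩
  obtain ⟨N, hN⟩ : ∃ N : Subgroup G, N = Subgroup.normalizer (W : Set G) := ⟨_, rfl⟩
  letI instQ : Fintype ↥(Q.subgroupOf (Subgroup.normalizer (W : Set G))) := Fintype.ofFinite _
  letI instR : Fintype ↥(R.subgroupOf (Subgroup.normalizer (W : Set G))) := Fintype.ofFinite _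
  have hnQ := normS_eq_one W Q hQW hWQ
  have hVt : ∀ u : Abelianization ↥W, ∃ k, u ^ t ^ k = 1 := by
    intro u
    obtain ⟨w, rfl⟩ := abelianization_of_surjective _ u
    obtain ⟨k, hk⟩ := hW w
    exact ⟨k, by rw [← map_pow, hk, map_one]⟩
  have hQ'p : IsPGroup q ↥(Q.subgroupOf (Subgroup.normalizer (W : Set G))) := hQ.comap_subtype
  have hkill : ∀ u : Abelianization ↥W,
      u ^ Fintype.card ↥(Q.subgroupOf (Subgroup.normalizer (W : Set G))) = 1 → u = 1 := by
    intro u hu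
    obtain ⟨k, hk⟩ := hVt u
    obtain ⟨j, hj⟩ := IsPGroup.iff_card.mp hQ'p
    have h1 : orderOf u ∣ t ^ k := orderOf_dvd_of_pow_eq_one hk
    have h2 : orderOf u ∣ q ^ j := by
      rw [← hj, Nat.card_eq_fintype_card]
      exact orderOf_dvd_of_pow_eq_one hu
    have hcop : (t ^ k).Coprime (q ^ j) :=
      Nat.Coprime.pow _ _ ((Nat.coprime_primes ht.out hq.out).mpr htq)
    exact orderOf_eq_one_iff.mp (Nat.eq_one_of_dvd_coprimes hcop h1 h2)
  have part1 : W ⊓ Subgroup.centralizer (Q : Set G) ≤ ⁅W, W⁆ := by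
    rintro y ⟨hyW, hyC⟩
    rw [← of_eq_one_iff W ⟨y, hyW⟩]
    apply hkill
    rw [← normS_of_fixed (abAct W) (Q.subgroupOf (Subgroup.normalizer (W : Set G))) _ ?_]
    · exact hnQ _
    · intro s hs
      rw [abAct_of]
      congr 1
      apply Subtype.ext
      have hsQ : (s : G) ∈ Q := Subgroup.mem_subgroupOf.mp hs
      have h3 := (Subgroup.mem_centralizer_iff.mp hyC) s hsQ
      change (s : G) * y * (s : G)⁻¹ = y
      rw [h3, mul_inv_cancel_right]
  refine ⟨part1, ?_⟩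
  by_contra hcon
  push Not at hcon
  -- a generator of `R`
  obtain ⟨x, hxR, hx1⟩ : ∃ x ∈ R, x ≠ 1 := by
    by_contra h
    push Not at h
    have : R = ⊥ := by
      rw [eq_bot_iff]
      intro y hy
      exact Subgroup.mem_bot.mpr (h y hy)
    rw [this, Subgroup.card_bot] at hRc
    exact hr.one_lt.ne hRc
  have hxr : x ^ r = 1 := by
    have := pow_card_eq_one' (G := ↥R) (x := ⟨x, hxR⟩)
    rw [hRc] at this
    simpa using congrArg Subtype.val this
  have hxN : x ∈ Subgroup.normalizer (W : Set G) := hRW hxR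
  have hDn : ∀ n ∈ ⁅W, W⁆, x * n * x⁻¹ ∈ ⁅W, W⁆ := by
    intro n hn
    have h1 : R ≤ Subgroup.normalizer ((⁅W, W⁆ : Subgroup G) : Set G) :=
      Cfsg.Agent.Lib.Helper1.Ward.normalizer_commutator hRW hRW
    exact ((h1 hxR) n).mp hn
  have hDle : ⁅W, W⁆ ≤ W := Subgroup.commutator_le_self W
  have hDcop : ¬ r ∣ Nat.card ↥⁅W, W⁆ := by
    intro hd
    obtain ⟨k, hk⟩ := IsPGroup.iff_card.mp hW
    have h1 : r ∣ t ^ k := hk ▸ hd.trans (Subgroup.card_dvd_of_le hDle)
    have h2 := (Nat.prime_dvd_prime_iff_eq hr ht.out).mp (hr.dvd_of_dvd_pow h1)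
    exact htr h2.symm
  have hfix : ∀ u : Abelianization ↥W,
      (∀ c ∈ R.subgroupOf (Subgroup.normalizer (W : Set G)), abAct W c u = u) → u = 1 := by
    intro u hu
    obtain ⟨w, rfl⟩ := abelianization_of_surjective _ u
    rw [of_eq_one_iff]
    have h1 := hu ⟨x, hxN⟩ (Subgroup.mem_subgroupOf.mpr hxR)
    rw [abAct_of] at h1
    have hxw : x * (w : G) * x⁻¹ ∈ W := (hxN w).mp w.2
    have h2 : (w : G)⁻¹ * (x * (w : G) * x⁻¹) ∈ ⁅W, W⁆ := by
      have e : (w : G)⁻¹ * (x * (w : G) * x⁻¹) = ((w⁻¹ * ⟨x * (w : G) * x⁻¹, hxw⟩ : ↥W) : G) := rfl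
      rw [e, ← of_eq_one_iff W, map_mul, map_inv]
      rw [inv_mul_eq_one]
      exact h1.symm
    obtain ⟨c, hc1, hc2⟩ := Cfsg.Agent.Lib.Helper1.PrimeAct.exists_fixed_in_coset ⁅W, W⁆ x (w : G) hr hxr hDn hDcop h2
    have hcW : c ∈ W := by
      have e : c = (w : G) * ((w : G)⁻¹ * c) := by group
      rw [e]
      exact W.mul_mem w.2 (hDle hc1)
    have hcC : c ∈ Subgroup.centralizer (R : Set G) :=
      mem_centralizer_of_prime_card hr R hRc hxR hx1 hc2.symm
    have hcD := hcon c hcW hcC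
    have e : (w : G) = c * ((w : G)⁻¹ * c)⁻¹ := by group
    rw [e]
    exact Subgroup.mul_mem _ hcD (Subgroup.inv_mem _ hc1)
  have hall : ∀ u : Abelianization ↥W, u = 1 := by
    intro u
    apply hkill
    apply frob_avg (abAct W) (Q.subgroupOf (Subgroup.normalizer (W : Set G)))
      (R.subgroupOf (Subgroup.normalizer (W : Set G))) ?_ ?_ hnQ ?_ u
    · intro c hc s hs
      rw [Subgroup.mem_subgroupOf] at hc hs ⊢
      exact ((hRQ hc) _).mp hs
    · intro c hc hc1 s hs hsc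
      rw [Subgroup.mem_subgroupOf] at hc hs
      have hc1' : (c : G) ≠ 1 := fun h => hc1 (Subtype.ext h)
      have hsc' : (s : G) * (c : G) = (c : G) * (s : G) := congrArg Subtype.val hsc
      have h1 : (s : G) ∈ Q ⊓ Subgroup.centralizer (R : Set G) :=
        ⟨hs, mem_centralizer_of_prime_card hr R hRc hc hc1' hsc'⟩
      rw [hreg, Subgroup.mem_bot] at h1
      exact Subtype.ext h1
    · intro s hs u
      have h1 := fun c hc => normS_conj_fixed (abAct W)
        (R.subgroupOf (Subgroup.normalizer (W : Set G))) s c hc u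
      set z := ∏ c : ↥(R.subgroupOf (Subgroup.normalizer (W : Set G))),
        abAct W (s * (c : ↥(Subgroup.normalizer (W : Set G))) * s⁻¹) u with hz
      have h2 : abAct W s⁻¹ z = 1 := by
        apply hfix
        intro c hc
        have e : abAct W c (abAct W s⁻¹ z) = abAct W s⁻¹ (abAct W (s * c * s⁻¹) z) := by
          rw [← MulAut.mul_apply, ← MulAut.mul_apply, ← map_mul, ← map_mul]
          congr 2
          group
        rw [e, h1 c hc]
      have h3 : z = abAct W s (abAct W s⁻¹ z) := by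
        rw [← MulAut.mul_apply, ← map_mul, mul_inv_cancel, map_one, MulAut.one_apply]
      rw [h3, h2, map_one]
  -- so `W` is perfect: contradiction
  have hWtop : ∀ w : ↥W, (w : G) ∈ ⁅W, W⁆ := fun w => (of_eq_one_iff W w).mp (hall _)
  have hWeq : ⁅W, W⁆ = W := le_antisymm hDle (fun w hw => hWtop ⟨w, hw⟩)
  haveI : Nontrivial ↥W := (Subgroup.nontrivial_iff_ne_bot W).mpr hW1
  haveI : Group.IsNilpotent ↥W := hW.isNilpotent
  have hlt := Group.IsSolvable.commutator_lt_top_of_nontrivial ↥W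
  have h4 : (commutator ↥W).map W.subtype = W := by rw [Subgroup.map_subtype_commutator, hWeq]
  have h5 : commutator ↥W = ⊤ := by
    rw [eq_top_iff]
    intro w _
    have : (w : G) ∈ (commutator ↥W).map W.subtype := by rw [h4]; exact w.2
    obtain ⟨w', hw', h⟩ := this
    have : w' = w := Subtype.ext h
    rwa [← this]
  exact hlt.ne h5

end Frob3

section Frob4

open Cfsg.Agent.Lib.Helper1

variable {G : Type*} [Group G]

theorem commutator_le_of_le_normalizer {W Q : Subgroup G}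
    (hQW : Q ≤ Subgroup.normalizer (W : Set G)) : ⁅W, Q⁆ ≤ W := by
  rw [Subgroup.commutator_le]
  intro w hw s hs
  have h1 : s * w⁻¹ * s⁻¹ ∈ W := ((hQW hs) w⁻¹).mp (W.inv_mem hw)
  have e : ⁅w, s⁆ = w * (s * w⁻¹ * s⁻¹) := by rw [commutatorElement_def]; group
  rw [e]
  exact W.mul_mem hw h1

theorem normalizer_le_normalizer_centralizer (Q : Subgroup G) :
    Subgroup.normalizer (Q : Set G) ≤
      Subgroup.normalizer ((Subgroup.centralizer (Q : Set G) : Subgroup G) : Set G) := by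
  rw [Subgroup.le_normalizer_iff]
  intro g hg c hc
  rw [Subgroup.mem_centralizer_iff] at hc ⊢
  intro y hy
  have hy' : g⁻¹ * y * g ∈ Q := by
    have := ((Subgroup.inv_mem _ hg) y).mp hy
    simpa using this
  have h1 := hc _ hy'
  calc y * (g * c * g⁻¹) = g * ((g⁻¹ * y * g) * c) * g⁻¹ := by group
    _ = g * (c * (g⁻¹ * y * g)) * g⁻¹ := by rw [h1]
    _ = g * c * g⁻¹ * y := by group

theorem pow_card_eq_one_of_mem [Finite G] {W : Subgroup G} {z : G} (hz : z ∈ W) :
    z ^ Nat.card W = 1 := by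
  have h1 : (⟨z, hz⟩ : ↥W) ^ Nat.card ↥W = 1 := pow_card_eq_one'
  have h2 := congrArg Subtype.val h1
  rw [Subgroup.coe_pow, Subgroup.coe_one] at h2
  exact h2

theorem commutator_ne_self_of_pgroup [Finite G] {t : ℕ} [Fact t.Prime] {W : Subgroup G}
    (hW : IsPGroup t W) (hW1 : W ≠ ⊥) : ⁅W, W⁆ ≠ W := by
  intro hWeq
  haveI : Nontrivial ↥W := (Subgroup.nontrivial_iff_ne_bot W).mpr hW1
  haveI : Group.IsNilpotent ↥W := hW.isNilpotent
  have hlt := Group.IsSolvable.commutator_lt_top_of_nontrivial ↥W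
  have h4 : (commutator ↥W).map W.subtype = W := by rw [Subgroup.map_subtype_commutator, hWeq]
  have h5 : commutator ↥W = ⊤ := by
    rw [eq_top_iff]
    intro w _
    have : (w : G) ∈ (commutator ↥W).map W.subtype := by rw [h4]; exact w.2
    obtain ⟨w', hw', h⟩ := this
    have : w' = w := Subtype.ext h
    rwa [← this]
  exact hlt.ne h5

/-- coprime action: if `[W,Q] ≤ C(Q)` then `W ≤ C(Q)` -/
theorem le_centralizer_of_commutator_le [Finite G] {t q : ℕ} [ht : Fact t.Prime] [hq : Fact q.Prime]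
    (htq : t ≠ q) {W Q : Subgroup G} (hW : IsPGroup t W) (hQ : IsPGroup q Q)
    (hQW : Q ≤ Subgroup.normalizer (W : Set G))
    (h : ⁅W, Q⁆ ≤ Subgroup.centralizer (Q : Set G)) : W ≤ Subgroup.centralizer (Q : Set G) := by
  intro w hw
  rw [Subgroup.mem_centralizer_iff]
  intro s hs
  have hz : ⁅w, s⁆ ∈ ⁅W, Q⁆ := Subgroup.commutator_mem_commutator hw hs
  have hzW : ⁅w, s⁆ ∈ W := commutator_le_of_le_normalizer hQW hz
  have hzC := Subgroup.mem_centralizer_iff.mp (h hz) s hs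
  have hxh : s * w⁻¹ * s⁻¹ = w⁻¹ * ⁅w, s⁆ := by rw [commutatorElement_def]; group
  have hxz : s * ⁅w, s⁆ * s⁻¹ = ⁅w, s⁆ := by rw [hzC, mul_inv_cancel_right]
  have hcop : (orderOf s).Coprime (Nat.card W) := by
    obtain ⟨k, hk⟩ := IsPGroup.iff_card.mp hW
    obtain ⟨j, hj⟩ := IsPGroup.iff_card.mp hQ
    have h1 : orderOf s ∣ q ^ j := by
      rw [← hj]
      have := orderOf_dvd_natCard (⟨s, hs⟩ : ↥Q)
      rwa [Subgroup.orderOf_mk] at this
    rw [hk]
    exact Nat.Coprime.coprime_dvd_left h1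
      (Nat.Coprime.pow _ _ ((Nat.coprime_primes hq.out ht.out).mpr (Ne.symm htq)))
  have h1 := Cfsg.Agent.Lib.Helper11.eq_one_of_conj_eq_mul_of_coprime s w⁻¹ ⁅w, s⁆ hxh hxz
    (Nat.card W) (pow_card_eq_one_of_mem hzW) hcop
  rw [commutatorElement_def] at h1
  have : w * s = s * w := by
    calc w * s = (w * s * w⁻¹ * s⁻¹) * (s * w) := by group
      _ = s * w := by rw [h1, one_mul]
  exact this.symm

/-- a minimal invariant subgroup not centralized by `Q` -/
theorem exists_min_noncentral [Finite G] {t q : ℕ} [ht : Fact t.Prime] [hq : Fact q.Prime]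
    (htq : t ≠ q) (T Q R : Subgroup G) (hT : IsPGroup t T) (hQ : IsPGroup q Q)
    (hQT : Q ≤ Subgroup.normalizer (T : Set G)) (hRT : R ≤ Subgroup.normalizer (T : Set G))
    (hRQ : R ≤ Subgroup.normalizer (Q : Set G))
    (hnc : ¬ T ≤ Subgroup.centralizer (Q : Set G)) :
    ∃ W : Subgroup G, W ≤ T ∧ Q ≤ Subgroup.normalizer (W : Set G) ∧
      R ≤ Subgroup.normalizer (W : Set G) ∧ ¬ W ≤ Subgroup.centralizer (Q : Set G) ∧
      W ≤ ⁅W, Q⁆ ∧
      ∀ W₀ : Subgroup G, W₀ ≤ W → Q ≤ Subgroup.normalizer (W₀ : Set G) →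
        R ≤ Subgroup.normalizer (W₀ : Set G) → ¬ W₀ ≤ Subgroup.centralizer (Q : Set G) →
        W₀ = W := by
  obtain ⟨𝒲, h𝒲⟩ : ∃ 𝒲 : Set (Subgroup G), 𝒲 = {W | W ≤ T ∧
      Q ≤ Subgroup.normalizer (W : Set G) ∧ R ≤ Subgroup.normalizer (W : Set G) ∧
      ¬ W ≤ Subgroup.centralizer (Q : Set G)} := ⟨_, rfl⟩
  have hne : 𝒲.Nonempty := ⟨T, by rw [h𝒲]; exact ⟨le_refl _, hQT, hRT, hnc⟩⟩
  obtain ⟨W, hW𝒲, hWmin⟩ := (Set.toFinite 𝒲).exists_minimal hne
  have hW' : W ≤ T ∧ Q ≤ Subgroup.normalizer (W : Set G) ∧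
      R ≤ Subgroup.normalizer (W : Set G) ∧ ¬ W ≤ Subgroup.centralizer (Q : Set G) := by
    have := hW𝒲
    rw [h𝒲] at this
    exact this
  obtain ⟨hWT, hQW, hRW, hWnc⟩ := hW'
  have hmin : ∀ W₀ : Subgroup G, W₀ ≤ W → Q ≤ Subgroup.normalizer (W₀ : Set G) →
      R ≤ Subgroup.normalizer (W₀ : Set G) → ¬ W₀ ≤ Subgroup.centralizer (Q : Set G) →
      W₀ = W := by
    intro W₀ h1 h2 h3 h4
    have hmem : W₀ ∈ 𝒲 := by rw [h𝒲]; exact ⟨h1.trans hWT, h2, h3, h4⟩
    exact le_antisymm h1 (hWmin hmem h1)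
  refine ⟨W, hWT, hQW, hRW, hWnc, ?_, hmin⟩
  have hWt : IsPGroup t W := hT.to_le hWT
  have h1 : ⁅W, Q⁆ ≤ W := commutator_le_of_le_normalizer hQW
  have h2 : Q ≤ Subgroup.normalizer ((⁅W, Q⁆ : Subgroup G) : Set G) :=
    Cfsg.Agent.Lib.Helper1.Ward.normalizer_commutator hQW Subgroup.le_normalizer
  have h3 : R ≤ Subgroup.normalizer ((⁅W, Q⁆ : Subgroup G) : Set G) :=
    Cfsg.Agent.Lib.Helper1.Ward.normalizer_commutator hRW hRQ
  have h4 : ¬ ⁅W, Q⁆ ≤ Subgroup.centralizer (Q : Set G) := fun h =>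
    hWnc (le_centralizer_of_commutator_le htq hWt hQ hQW h)
  exact (hmin _ h1 h2 h3 h4).ge

/-- **Frobenius action, fixed-point-free complement.**  If `C_T(R) = 1` then `Q` centralizes `T`. -/
theorem frob_centralizes_of_fpf [Finite G] {t q r : ℕ} [ht : Fact t.Prime] [hq : Fact q.Prime]
    (hr : r.Prime) (htq : t ≠ q) (htr : t ≠ r)
    (T Q R : Subgroup G) (hT : IsPGroup t T) (hQ : IsPGroup q Q) (hRc : Nat.card R = r)
    (hQT : Q ≤ Subgroup.normalizer (T : Set G)) (hRT : R ≤ Subgroup.normalizer (T : Set G))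
    (hRQ : R ≤ Subgroup.normalizer (Q : Set G))
    (hreg : Q ⊓ Subgroup.centralizer (R : Set G) = ⊥)
    (hfpf : T ⊓ Subgroup.centralizer (R : Set G) = ⊥) :
    T ≤ Subgroup.centralizer (Q : Set G) := by
  by_contra hnc
  obtain ⟨W, hWT, hQW, hRW, hWnc, hWQ, -⟩ := exists_min_noncentral htq T Q R hT hQ hQT hRT hRQ hnc
  have hW1 : W ≠ ⊥ := by
    rintro rfl
    exact hWnc bot_le
  obtain ⟨-, c, hcW, hcR, hcD⟩ := frob_section hr htq htr W Q R (hT.to_le hWT) hW1 hQ hRc hQW hRW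
    hRQ hreg hWQ
  have : c ∈ T ⊓ Subgroup.centralizer (R : Set G) := ⟨hWT hcW, hcR⟩
  rw [hfpf, Subgroup.mem_bot] at this
  rw [this] at hcD
  exact hcD (Subgroup.one_mem _)

end Frob4

end Cfsg.Agent.Lib.Helper28.BGt
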