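import Mathlib
import Cfsg.Agent.Lib.Helper28.BGtJ
import Cfsg.Agent.Lib.Helper28.BGtM
import Cfsg.Agent.Lib.Helper11.ThirteenB
import Cfsg.Agent.Lib.Helper11.BenderQ
import Cfsg.Agent.Lib.Helper11.BenderB
import Cfsg.Agent.Lib.Helper11.BenderF
import Cfsg.Agent.Lib.Helper10.SigmaJsubA

/-!
# B & G, Theorem 13.4: reduction to the hard case (helper28)

The easy cases (`r = p`; `r ∉ τ₁(H)` for `H ∈ 𝓜(N_G(P))`) and the "without loss" symmetrisation;
the hard case is the hypothesis `HC` (helper11's `RegD.hard_case`).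
-/

set_option autoImplicit false
open scoped commutatorElement

namespace Cfsg.Agent.Lib.Helper28.BGt

open Cfsg Cfsg.Agent.Lib.Helper18

variable {G : Type*} [Group G] [Finite G]

/-- the hard case of B & G, Theorem 13.4 -/
def HC (G : Type*) [Group G] [Finite G] : Prop :=
  ∀ (M H : Subgroup G), IsCoatom M → IsCoatom H → (∀ g : G, H ≠ conjSub g M) →
    ∀ (p r : ℕ), p.Prime → r.Prime → ∀ (P R : Subgroup G), Nat.card P = p → Nat.card R = r →
      P ≤ M → R ≤ M → Subgroup.normalizer (P : Set G) ≤ H →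
      R ≤ Subgroup.centralizer (P : Set G) →
      r ∉ Cfsg.sigma M → p ∈ Cfsg.beta H → r ∈ Cfsg.tau1 H →
      Cfsg.sigmaCore M ⊓ H ≤ Subgroup.centralizer (P : Set G) →
      (r ∈ Cfsg.tau1 M →
        Cfsg.alphaCore M ⊓ Subgroup.centralizer (P : Set G) ≤ Subgroup.centralizer (R : Set G) →
        Cfsg.alphaCore M ⊓ Subgroup.centralizer (R : Set G) ≤ Subgroup.centralizer (P : Set G)) →
      Cfsg.sigmaCore M ⊓ Subgroup.centralizer (P : Set G) ≤ Subgroup.centralizer (R : Set G)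

/-- an ideal prime of `σ(H)` lies in `β(H)` -/
theorem beta_of_sigma_ideal (H : Subgroup G) {p : ℕ} [hp : Fact p.Prime]
    (hσ : p ∈ Cfsg.sigma H) (hi : Cfsg.IsIdealPrime p G) : p ∈ Cfsg.beta H := by
  refine ⟨⟨hp.out, ?_⟩, hi⟩
  obtain ⟨S, hS⟩ := Cfsg.Agent.Lib.Helper11.BenderM.exists_good_of_sigma H p hσ
  have h2 := hi.2.1
  unfold Cfsg.PRankLE at h2
  push Not at h2
  obtain ⟨B, hBc, hBe, hBcard⟩ := h2
  have hBea : Cfsg.IsElementaryAbelian p B := ⟨hBc, hBe⟩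
  have hBp : IsPGroup p B := Cfsg.Agent.Lib.Helper1.BG10.elemAb_isPGroup hBea
  obtain ⟨x, -, hle⟩ := hS.2.2.exists_conj_le le_top hBp
  have h3 : p ^ 3 ≤ Nat.card B := by
    obtain ⟨k, hk⟩ := IsPGroup.iff_card.mp hBp
    rw [hk] at hBcard ⊢
    have : 2 < k := (Nat.pow_lt_pow_iff_right hp.out.one_lt).mp hBcard
    exact Nat.pow_le_pow_right hp.out.pos this
  exact Cfsg.Agent.Lib.Helper11.BenderB.not_pRankLE_of_le p (conjSub x B) H (hle.trans hS.1.le)
    (Cfsg.Agent.Lib.Helper11.BenderF.elemAb_conjSub p x hBea) (by rw [card_conjSub]; exact h3)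

/-- two subgroups of order `p` of `M`, one centralizing the other, coincide when `M` has
`p`-rank one -/
theorem eq_of_card_prime_of_rank_one (hG : Cfsg.IsMinSimpleOddOrder G) {M : Subgroup G}
    {p : ℕ} [hp : Fact p.Prime] (hr1 : Cfsg.PRankLE p 1 M) {P R : Subgroup G} (hPM : P ≤ M)
    (hRM : R ≤ M) (hPc : Nat.card P = p) (hRc : Nat.card R = p)
    (hRP : R ≤ Subgroup.centralizer (P : Set G)) : R = P := by
  have hPp : IsPGroup p P := IsPGroup.of_card (n := 1) (by rw [hPc, pow_one])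
  have hRp : IsPGroup p R := IsPGroup.of_card (n := 1) (by rw [hRc, pow_one])
  have hP1 : P ≠ ⊥ := by
    rintro rfl
    rw [Subgroup.card_bot] at hPc
    exact hp.out.one_lt.ne hPc
  have hp2 : p ≠ 2 := Cfsg.Agent.Lib.Helper11.BenderD.odd_prime_of_pgroup hG p P hP1 hPp
  have hRN : R ≤ Subgroup.normalizer (P : Set G) :=
    hRP.trans (Subgroup.centralizer_le_normalizer _)
  have hsup : IsPGroup p ↥(R ⊔ P) := IsPGroup.to_sup_of_normal_right' hRp hPp hRN
  obtain ⟨S, hS⟩ := Cfsg.Agent.Lib.Helper1.BG10.exists_sylow_map_ge p M (R ⊔ P) (sup_le hRM hPM) hsup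
  obtain ⟨S', hS'⟩ : ∃ S' : Subgroup G, S' = (S : Subgroup M).map M.subtype := ⟨_, rfl⟩
  rw [← hS'] at hS
  have hS'M : S' ≤ M := by rw [hS']; exact Subgroup.map_subtype_le _
  have hS'p : IsPGroup p S' := by rw [hS']; exact S.isPGroup'.map _
  have hcyc : IsCyclic ↥S' :=
    Cfsg.Agent.Lib.Helper11.BenderQ.isCyclic_of_pRankLE_one p hp2 hS'p
      (Cfsg.Agent.Lib.Helper1.BG12.pRankLE_of_le hS'M hr1)
  exact Cfsg.Agent.Lib.Helper10.SigmaJsubA.eq_of_card_eq_of_le_cyclic hcyc (le_sup_left.trans hS)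
    (le_sup_right.trans hS) (hRc.trans hPc.symm)

/-- **B & G, Theorem 13.4**, under the symmetrisation hypothesis -/
theorem thirteen_four_core (hG : Cfsg.IsMinSimpleOddOrder G) (hc : HC G) {M E : Subgroup G}
    (hM : IsCoatom M) (hE : Cfsg.IsComplIn E (Cfsg.sigmaCore M) M) {p : ℕ} (hp : p ∈ Cfsg.tau1 M)
    {P : Subgroup G} (hPE : P ≤ E) (hPc : Nat.card P = p) {R : Subgroup G} (hRE : R ≤ E)
    (hRP : R ≤ Subgroup.centralizer (P : Set G)) {r : ℕ} (hr : r.Prime) (hRc : Nat.card R = r)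
    (hsym : r ∈ Cfsg.tau1 M →
      Cfsg.alphaCore M ⊓ Subgroup.centralizer (P : Set G) ≤ Subgroup.centralizer (R : Set G) →
      Cfsg.alphaCore M ⊓ Subgroup.centralizer (R : Set G) ≤ Subgroup.centralizer (P : Set G)) :
    Cfsg.sigmaCore M ⊓ Subgroup.centralizer (P : Set G) ≤ Subgroup.centralizer (R : Set G) := by
  have hpp : p.Prime := hp.1
  haveI : Fact p.Prime := ⟨hpp⟩
  haveI : Fact r.Prime := ⟨hr⟩
  have hpσ : p ∉ Cfsg.sigma M := hp.2.1
  have hpM : p ∣ Nat.card M := hp.2.2.1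
  have hr1 : Cfsg.PRankLE p 1 M := hp.2.2.2.2
  have hPM : P ≤ M := hPE.trans hE.1
  have hRM : R ≤ M := hRE.trans hE.1
  by_cases hrp : r = p
  · -- `R = P`
    have hRP' : R = P := eq_of_card_prime_of_rank_one hG hr1 hPM hRM hPc (hRc.trans hrp) hRP
    rw [hRP']
    exact inf_le_right
  by_contra hcon
  have hP1 : P ≠ ⊥ := by
    rintro rfl
    rw [Subgroup.card_bot] at hPc
    exact hpp.one_lt.ne hPc
  have hPtop : P ≠ ⊤ := by
    rintro rfl
    exact hM.1 (eq_top_iff.mpr hPM)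
  obtain ⟨H, hH, hNP⟩ := Cfsg.Agent.Lib.Helper11.BenderE.exists_coatom_ge _
    (Cfsg.Agent.Lib.Helper1.BG10.normalizer_ne_top hG hP1 hPtop)
  have hCN : Subgroup.centralizer (P : Set G) ≤ H := (Subgroup.centralizer_le_normalizer _).trans hNP
  have hPH : P ≤ H := Subgroup.le_normalizer.trans hNP
  have hRH : R ≤ H := hRP.trans hCN
  have hpH : p ∣ Nat.card H := by rw [← hPc]; exact Subgroup.card_dvd_of_le hPH
  have hrH : r ∣ Nat.card H := by rw [← hRc]; exact Subgroup.card_dvd_of_le hRH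
  have hrM : r ∣ Nat.card M := by rw [← hRc]; exact Subgroup.card_dvd_of_le hRM
  have hrσ : r ∉ Cfsg.sigma M :=
    compl_prime_not_sigma hG hM hE hr (by rw [← hRc]; exact Subgroup.card_dvd_of_le hRE)
  -- rank two when `p ∉ σ(H)`
  have hten : p ∉ Cfsg.sigma H → (Cfsg.PRankLE p 2 H ∧ ¬ Cfsg.PRankLE p 1 H) := fun h =>
    (Cfsg.Agent.Lib.Helper1.BG10.ten_six hG H hH p h P hPc hNP).1
  -- `H` is not conjugate to `M`
  have hnc : ∀ g : G, H ≠ conjSub g M := by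
    intro g hg
    by_cases hσ : p ∈ Cfsg.sigma H
    · rw [hg] at hσ
      have h1 := Cfsg.Agent.Lib.Helper1.BG12.sigma_conjSub (conjSub g M) p hσ g⁻¹
      rw [conjSub_mul, inv_mul_cancel, conjSub_one] at h1
      exact hpσ h1
    · obtain ⟨A, hAH, hAe, hA2⟩ :=
        Cfsg.Agent.Lib.Helper1.BG10.exists_elemAb_sq_of_not_pRankLE_one p H (hten hσ).2
      have hAM : conjSub g⁻¹ A ≤ M := by
        rw [conjSub_le_iff, inv_inv, ← hg]
        exact hAH
      have h1 := Cfsg.Agent.Lib.Helper1.BG10.pRankLE_card_le hr1 hAM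
        (Cfsg.Agent.Lib.Helper11.BenderF.elemAb_conjSub p g⁻¹ hAe)
      rw [card_conjSub, hA2, pow_one] at h1
      have h2 : p < p ^ 2 := by
        calc p = p ^ 1 := (pow_one p).symm
          _ < p ^ 2 := Nat.pow_lt_pow_right hpp.one_lt (by norm_num)
      omega
  -- `r ∈ τ₁(H)`
  have hrτ : r ∈ Cfsg.tau1 H := by
    by_contra hrτ
    have h1 := Cfsg.Agent.Lib.Helper11.ThirteenB.thirteen_one_a hG hM hH hnc hrM hrσ hrH hrτ
    apply hcon
    intro d hd
    rw [Subgroup.mem_centralizer_iff]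
    intro x hx
    apply h1 x ⟨hRM hx, hRH hx⟩ ⟨1, ?_⟩ d ⟨hd.1, hCN hd.2⟩
    rw [pow_one, ← hRc]
    exact pow_card_eq_one_of_mem hx
  -- a non-commuting pair
  have hpair : ∃ d ∈ Cfsg.sigmaCore M ⊓ H, ∃ m ∈ M ⊓ H, m * d ≠ d * m := by
    by_contra h
    push Not at h
    apply hcon
    intro d hd
    rw [Subgroup.mem_centralizer_iff]
    intro x hx
    exact h d ⟨hd.1, hCN hd.2⟩ x ⟨hRM hx, hRH hx⟩
  have hpτ1 : p ∉ Cfsg.tau1 H := fun h => (hten h.2.1).2 h.2.2.2.2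
  have hpτ2 : p ∉ Cfsg.tau2 H :=
    Cfsg.Agent.Lib.Helper11.ThirteenB.thirteen_one_b hG hM hH hnc hpM hpσ hpair
  have hideal : Cfsg.IsIdealPrime p G :=
    Cfsg.Agent.Lib.Helper11.ThirteenB.thirteen_one_c hG hM hH hnc hpM hpσ hpH hpτ1 hpair hp
  have hpσH : p ∈ Cfsg.sigma H := by
    by_contra h
    exact hpτ2 ⟨hpp, h, (hten h).1, (hten h).2⟩
  have hpβ : p ∈ Cfsg.beta H := beta_of_sigma_ideal H hpσH hideal
  have hD : Cfsg.sigmaCore M ⊓ H ≤ Subgroup.centralizer (P : Set G) := by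
    have h1 := Cfsg.Agent.Lib.Helper11.ThirteenB.thirteen_one_a hG hM hH hnc hpM hpσ hpH hpτ1
    intro d hd
    rw [Subgroup.mem_centralizer_iff]
    intro x hx
    apply h1 x ⟨hPM hx, hPH hx⟩ ⟨1, ?_⟩ d hd
    rw [pow_one, ← hPc]
    exact pow_card_eq_one_of_mem hx
  exact hcon (hc M H hM hH hnc p r hpp hr P R hPc hRc hPM hRM hNP hRP hrσ hpβ hrτ hD hsym)

/-- **B & G, Theorem 13.4** (`cent_tau1Elem_Msigma`), modulo the hard case -/
theorem thirteen_four (hG : Cfsg.IsMinSimpleOddOrder G) (hc : HC G) {M E : Subgroup G}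
    (hM : IsCoatom M) (hE : Cfsg.IsComplIn E (Cfsg.sigmaCore M) M) {p : ℕ} (hp : p ∈ Cfsg.tau1 M)
    {P : Subgroup G} (hPE : P ≤ E) (hPc : Nat.card P = p) {R : Subgroup G} (hRE : R ≤ E)
    (hRP : R ≤ Subgroup.centralizer (P : Set G)) {r : ℕ} (hr : r.Prime) (hRc : Nat.card R = r) :
    Cfsg.sigmaCore M ⊓ Subgroup.centralizer (P : Set G) ≤ Subgroup.centralizer (R : Set G) := by
  apply thirteen_four_core hG hc hM hE hp hPE hPc hRE hRP hr hRc
  intro hrτ hle
  have hPR : P ≤ Subgroup.centralizer (R : Set G) := by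
    intro x hx
    rw [Subgroup.mem_centralizer_iff]
    intro y hy
    exact (Subgroup.mem_centralizer_iff.mp (hRP hy) x hx).symm
  have h1 := thirteen_four_core hG hc hM hE hrτ hRE hRc hPE hPR hp.1 hPc (fun _ _ => hle)
  have hαβ : Cfsg.alphaCore M ≤ Cfsg.sigmaCore M :=
    (Cfsg.Agent.Lib.Helper11.BenderN.alpha_hall hG M hM).2.2.1
  exact (inf_le_inf_right _ hαβ).trans h1

end Cfsg.Agent.Lib.Helper28.BGt
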