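import Mathlib
import Cfsg.Agent.S1418
import Cfsg.Agent.S1419
import Cfsg.Agent.S1428
import Cfsg.Agent.Lib.Helper21.BG13z

set_option autoImplicit false

/-! Step (L012) of helper11's proof of "Lemma L" (helper28). -/

namespace Cfsg.Agent.Lib.Helper28.BGt

open Cfsg

variable {G : Type*} [Group G] [Finite G]

/-- A subgroup of prime order `r` of an elementary abelian group of order `r²`:
two distinct ones generate. Here: if `X, Y ≤ A` have order `r` and `X ≠ Y` then some element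
of `A` … we only need: `A` has a subgroup of order `r` different from a given one. -/
theorem exists_other_line {r : ℕ} [hr : Fact r.Prime] {A R : Subgroup G}
    (hAe : IsElementaryAbelian r A) (hA2 : Nat.card A = r ^ 2) (hRA : R ≤ A)
    (hRc : Nat.card R = r) : ∃ X : Subgroup G, X ≤ A ∧ Nat.card X = r ∧ X ≠ R := by
  classical
  -- pick `a ∈ A \ R`
  have hlt : R < A := by
    refine lt_of_le_of_ne hRA ?_
    rintro rfl
    have : r = r ^ 2 := hRc.symm.trans hA2
    have h2 := hr.out.two_le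
    nlinarith
  obtain ⟨a, haA, haR⟩ := SetLike.exists_of_lt hlt
  refine ⟨Subgroup.zpowers a, ?_, ?_, ?_⟩
  · rw [Subgroup.zpowers_le]; exact haA
  · have ha1 : a ≠ 1 := fun h => haR (h ▸ R.one_mem)
    have hap : a ^ r = 1 := hAe.2 a haA
    rw [Nat.card_zpowers]
    exact orderOf_eq_prime hap ha1
  · intro h
    exact haR (h ▸ Subgroup.mem_zpowers a)

/-- (L012): in a "Lemma L" configuration the Sylow `r`-subgroups of `G` are nonabelian,
`R = A ∩ C(M_σ)` and `C_A(P) = R`. -/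
theorem tau2_of_tau1_kappa (hG : Cfsg.IsMinSimpleOddOrder G)
    {M E P R A : Subgroup G} (hM : IsCoatom M) (hE : Cfsg.IsComplIn E (Cfsg.sigmaCore M) M)
    {p r : ℕ} [hrp : Fact r.Prime] (hp : p ∈ Cfsg.tau1 M) (hr : r ∈ Cfsg.tau2 M)
    (hPE : P ≤ E) (hPc : Nat.card P = p)
    (hK : Cfsg.sigmaCore M ⊓ Subgroup.centralizer (P : Set G) ≠ ⊥)
    (hRE : R ≤ E ⊓ Subgroup.centralizer (P : Set G)) (hRc : Nat.card R = r)
    (hA : A ≤ E ∧ Cfsg.IsElementaryAbelian r A ∧ Nat.card A = r ^ 2) :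
    (∀ S : Sylow r G, ¬ IsMulCommutative (S : Subgroup G)) ∧
      R = A ⊓ Subgroup.centralizer (Cfsg.sigmaCore M : Set G) ∧
      A ⊓ Subgroup.centralizer (P : Set G) = R := by
  classical
  obtain ⟨hAE, hAe, hA2⟩ := hA
  have h18 := Cfsg.Agent.S1418.result hG M hM E hE r hr A ⟨hAE, hAe, hA2⟩
  obtain ⟨⟨hEN, hXA⟩, -, -⟩ := h18
  have hRA : R ≤ A := hXA R (hRE.trans inf_le_left) hRc
  have hR1 : R ≠ ⊥ := by
    intro h
    rw [h, Subgroup.card_bot] at hRc
    exact hrp.out.one_lt.ne hRc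
  have hRcent : A ⊓ Subgroup.centralizer (P : Set G) ≠ ⊥ := by
    intro h
    apply hR1
    exact le_bot_iff.mp (h ▸ le_inf hRA (hRE.trans inf_le_right))
  -- Sylow `r` nonabelian
  have hS : ∀ S : Sylow r G, ¬ IsMulCommutative (S : Subgroup G) := by
    intro S hSc
    exact Cfsg.Agent.Lib.Helper21.BG13z.lemma_L_abelian hG hM hE hp hPE hPc hK hr hAE hAe hA2
      hRcent ⟨S, hSc⟩
  have h19 := Cfsg.Agent.S1419.result hG M hM E hE r hr hS A ⟨hAE, hAe, hA2⟩
  obtain ⟨-, ⟨hA0c, -⟩, hX⟩ := h19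
  -- every line of `C_A(P)` has nontrivial centralizer in `M_σ`, hence is `A₀`
  have hline : ∀ X : Subgroup G, X ≤ A ⊓ Subgroup.centralizer (P : Set G) → Nat.card X = r →
      X = A ⊓ Subgroup.centralizer (Cfsg.sigmaCore M : Set G) := by
    intro X hXle hXc
    by_contra hne
    have hXE : X ≤ E := (hXle.trans inf_le_left).trans hAE
    have h1 := (hX X hXE hXc hne).1
    have h28 := Cfsg.Agent.S1428.result hG M hM E hE p hp P hPE hPc X
      (le_inf hXE (hXle.trans inf_le_right)) (hXc ▸ hrp.out)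
    exact hK (le_bot_iff.mp (h1 ▸ h28))
  have hRA0 : R = A ⊓ Subgroup.centralizer (Cfsg.sigmaCore M : Set G) :=
    hline R (le_inf hRA (hRE.trans inf_le_right)) hRc
  refine ⟨hS, hRA0, ?_⟩
  -- `C_A(P) = R`
  refine le_antisymm ?_ (le_inf hRA (hRE.trans inf_le_right))
  by_contra hnle
  -- then `C_A(P)` has order `r²`, so equals `A`
  have hCle : A ⊓ Subgroup.centralizer (P : Set G) ≤ A := inf_le_left
  have hRC : R ≤ A ⊓ Subgroup.centralizer (P : Set G) := le_inf hRA (hRE.trans inf_le_right)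
  have hdvd : Nat.card ↥(A ⊓ Subgroup.centralizer (P : Set G)) ∣ r ^ 2 :=
    hA2 ▸ Subgroup.card_dvd_of_le hCle
  obtain ⟨k, hk2, hk⟩ := (Nat.dvd_prime_pow hrp.out).mp hdvd
  have hRdvd : r ∣ Nat.card ↥(A ⊓ Subgroup.centralizer (P : Set G)) :=
    hRc ▸ Subgroup.card_dvd_of_le hRC
  have hCA : A ⊓ Subgroup.centralizer (P : Set G) = A := by
    interval_cases k
    · rw [hk] at hRdvd
      simp at hRdvd
      exact absurd hRdvd hrp.out.one_lt.ne'
    · exfalso
      apply hnle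
      have : R = A ⊓ Subgroup.centralizer (P : Set G) := by
        apply Subgroup.eq_of_le_of_card_ge hRC
        rw [hk, hRc]; simp
      exact this ▸ le_refl _
    · apply Subgroup.eq_of_le_of_card_ge hCle
      rw [hk, hA2]
  obtain ⟨X, hXA', hXc, hXR⟩ := exists_other_line hAe hA2 hRA hRc
  have := hline X (hCA.symm ▸ hXA' : X ≤ A ⊓ Subgroup.centralizer (P : Set G)) hXc
  exact hXR (this.trans hRA0.symm)

end Cfsg.Agent.Lib.Helper28.BGt
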