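import Mathlib
import Cfsg.Agent.Lib.Helper28.BGtR
import Cfsg.Agent.Lib.Helper28.BGtM
import Cfsg.Agent.Lib.Helper28.BGtK
import Cfsg.Agent.Lib.Helper21.BG13z
import Cfsg.Agent.Lib.Helper18.Isolated

set_option autoImplicit false

/-! STAR (nonabelian Sylow case) from "Lemma L" (helper28). -/

namespace Cfsg.Agent.Lib.Helper28.BGt

open Cfsg Cfsg.Agent.Lib.Helper18

variable {G : Type*} [Group G]

/-- "Lemma L" (B & G, Corollary 13.12 `tau12_regular`-type statement), as a hypothesis. -/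
def LemmaL (G : Type*) [Group G] : Prop :=
  ∀ (M E P R : Subgroup G) (p r : ℕ), IsCoatom M → Cfsg.IsComplIn E (Cfsg.sigmaCore M) M →
    p ∈ Cfsg.tau1 M → r ∈ Cfsg.tau2 M → P ≤ E → Nat.card P = p →
    Cfsg.sigmaCore M ⊓ Subgroup.centralizer (P : Set G) ≠ ⊥ →
    R ≤ E ⊓ Subgroup.centralizer (P : Set G) → Nat.card R = r → False

/-- a `p'`-element `k` normalizing `A ≅ E_{p²}`, centralizing some non-identity element of `A`
but not `A`, normalizes a line of `A` on which it acts fixed-point-freely -/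
theorem exists_moved_line [Finite G] {p : ℕ} [hp : Fact p.Prime] {A : Subgroup G}
    (hAe : Cfsg.IsElementaryAbelian p A) (hA2 : Nat.card A = p ^ 2)
    {k : G} (hk : k ∈ Subgroup.normalizer (A : Set G)) {m : ℕ} (hkm : k ^ m = 1)
    (hpm : ¬ p ∣ m) {b : G} (hbA : b ∈ A) (hb1 : b ≠ 1) (hkb : k * b = b * k)
    (hkA : k ∉ Subgroup.centralizer (A : Set G)) :
    ∃ Y : Subgroup G, Y ≤ A ∧ Nat.card Y = p ∧ k ∈ Subgroup.normalizer (Y : Set G) ∧
      Y ⊓ Subgroup.centralizer ({k} : Set G) = ⊥ := by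
  classical
  have hAp : IsPGroup p A := IsPGroup.of_card hA2
  have hconj : ∀ a ∈ A, k * a * k⁻¹ ∈ A := fun a ha =>
    (Subgroup.mem_normalizer_iff.mp hk a).mp ha
  let φ : A →* A := MonoidHom.mk' (fun a => ⟨k * a * k⁻¹ * (a : G)⁻¹,
      A.mul_mem (hconj a a.2) (A.inv_mem a.2)⟩) (by
    intro a b
    apply Subtype.ext
    show k * ((a : G) * b) * k⁻¹ * ((a : G) * b)⁻¹ =
      (k * a * k⁻¹ * (a : G)⁻¹) * (k * b * k⁻¹ * (b : G)⁻¹)
    have h1 : (a : G)⁻¹ * (k * b * k⁻¹) = (k * b * k⁻¹) * (a : G)⁻¹ :=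
      ea_comm hAe (A.inv_mem a.2) (hconj b b.2)
    have h2 : (a : G)⁻¹ * (b : G)⁻¹ = (b : G)⁻¹ * (a : G)⁻¹ :=
      ea_comm hAe (A.inv_mem a.2) (A.inv_mem b.2)
    calc k * ((a : G) * b) * k⁻¹ * ((a : G) * b)⁻¹
        = (k * a * k⁻¹) * (k * b * k⁻¹) * ((b : G)⁻¹ * (a : G)⁻¹) := by group
      _ = (k * a * k⁻¹) * (k * b * k⁻¹) * ((a : G)⁻¹ * (b : G)⁻¹) := by rw [h2]
      _ = (k * a * k⁻¹) * ((k * b * k⁻¹) * (a : G)⁻¹) * (b : G)⁻¹ := by group
      _ = (k * a * k⁻¹) * ((a : G)⁻¹ * (k * b * k⁻¹)) * (b : G)⁻¹ := by rw [h1]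
      _ = (k * a * k⁻¹ * (a : G)⁻¹) * (k * b * k⁻¹ * (b : G)⁻¹) := by group)
  have hφ : ∀ a : A, ((φ a : A) : G) = k * a * k⁻¹ * (a : G)⁻¹ := fun a => rfl
  obtain ⟨R, hR⟩ : ∃ R : Subgroup G, R = φ.range.map A.subtype := ⟨_, rfl⟩
  have hRA : R ≤ A := by
    rw [hR]
    rintro _ ⟨z, -, rfl⟩
    exact z.2
  have hmemR : ∀ a : A, ((φ a : A) : G) ∈ R := fun a => by
    rw [hR]; exact ⟨φ a, ⟨_, rfl⟩, rfl⟩
  have hkR : k ∈ Subgroup.normalizer (R : Set G) := by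
    apply mem_normalizer_of_conjSub_le
    rw [hR]
    rintro _ ⟨_, ⟨_, ⟨a, rfl⟩, rfl⟩, rfl⟩
    refine ⟨φ ⟨k * a * k⁻¹, hconj a a.2⟩, ⟨_, rfl⟩, ?_⟩
    show ((φ ⟨k * a * k⁻¹, hconj a a.2⟩ : A) : G) = k * ((φ a : A) : G) * k⁻¹
    rw [hφ, hφ]
    group
  have hRcard : Nat.card R = Nat.card φ.range := by
    rw [hR]; exact Subgroup.card_map_of_injective A.subtype_injective
  have hRne : R ≠ A := by
    intro h
    have h1 : Nat.card φ.range = Nat.card A := by rw [← hRcard, h]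
    have h2 : φ.range = ⊤ := Subgroup.card_eq_iff_eq_top _ |>.mp h1
    have hsurj : Function.Surjective φ := MonoidHom.range_eq_top.mp h2
    have hinj : Function.Injective φ := Finite.injective_iff_surjective.mpr hsurj
    have h3 : φ ⟨b, hbA⟩ = φ 1 := by
      apply Subtype.ext
      rw [hφ, hφ]
      simp only [OneMemClass.coe_one, mul_one, mul_inv_cancel, inv_one]
      rw [hkb]
      group
    have := hinj h3
    exact hb1 (congrArg Subtype.val this)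
  have hR1 : R ≠ ⊥ := by
    intro h
    apply hkA
    rw [Subgroup.mem_centralizer_iff]
    intro a ha
    have h1 : ((φ ⟨a, ha⟩ : A) : G) ∈ R := hmemR _
    rw [h, Subgroup.mem_bot, hφ] at h1
    have : k * a = (k * a * k⁻¹ * a⁻¹) * (a * k) := by group
    rw [this]
    show a * k = _
    rw [h1, one_mul]
  have hRcard' : Nat.card R = p := by
    obtain ⟨n, hn⟩ := IsPGroup.iff_card.mp (hAp.to_le hRA)
    have hlt : Nat.card R < p ^ 2 := by
      rw [← hA2]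
      apply lt_of_le_of_ne (Subgroup.card_le_of_le hRA)
      intro h
      exact hRne (Subgroup.eq_of_le_of_card_ge hRA h.ge)
    rw [hn] at hlt ⊢
    have hn2 : n < 2 := (Nat.pow_lt_pow_iff_right hp.out.one_lt).mp hlt
    have hn1 : n ≠ 0 := by
      intro h0
      rw [h0, pow_zero] at hn
      exact hR1 (Subgroup.card_eq_one.mp hn)
    have : n = 1 := by omega
    rw [this, pow_one]
  refine ⟨R, hRA, hRcard', hkR, ?_⟩
  rw [eq_bot_iff]
  rintro z ⟨hzR, hzk⟩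
  rw [Subgroup.mem_bot]
  have hzk' : k * z = z * k := (Subgroup.mem_centralizer_singleton_iff.mp hzk).symm
  have hzA : z ∈ A := hRA hzR
  -- `z = φ a`
  have hzR' : z ∈ φ.range.map A.subtype := hR ▸ hzR
  obtain ⟨_, ⟨a, rfl⟩, rfl⟩ := hzR'
  have hza : k * (a : G) * k⁻¹ = (a : G) * (A.subtype (φ a)) := by
    show k * (a : G) * k⁻¹ = (a : G) * ((φ a : A) : G)
    rw [hφ]
    have := ea_comm hAe a.2 (A.mul_mem (hconj a a.2) (A.inv_mem a.2))
    rw [this]; group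
  have h4 := conj_pow_eq hza hzk' m
  rw [hkm] at h4
  have h5 : (A.subtype (φ a)) ^ m = 1 := by
    have h4' : (a : G) = (a : G) * (A.subtype (φ a)) ^ m := by simpa using h4
    have h4'' : (a : G) * 1 = (a : G) * (A.subtype (φ a)) ^ m := by rw [mul_one]; exact h4'
    exact (mul_left_cancel h4'').symm
  have h6 : (A.subtype (φ a)) ^ p = 1 := hAe.2 _ hzA
  have h7 : orderOf (A.subtype (φ a)) ∣ Nat.gcd m p :=
    Nat.dvd_gcd (orderOf_dvd_of_pow_eq_one h5) (orderOf_dvd_of_pow_eq_one h6)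
  have h8 : Nat.gcd m p = 1 := by
    rw [Nat.gcd_comm]
    exact (Nat.Prime.coprime_iff_not_dvd hp.out).mpr hpm
  rw [h8, Nat.dvd_one, orderOf_eq_one_iff] at h7
  exact h7

/-- the Frobenius step: `k` of prime order `t` acts fixed-point-freely on the line `Y` of order `p`,
`C_{H_σ}(Y) = 1`, `t, p ∉ σ(H)`: then `C_{H_σ}(k) ≠ 1` -/
theorem cent_ne_bot_of_frob (hG : Cfsg.IsMinSimpleOddOrder G) [Finite G] {H : Subgroup G}
    (hH : IsCoatom H)
    {p t : ℕ} [hp : Fact p.Prime] [ht : Fact t.Prime] (hpσ : p ∉ Cfsg.sigma H)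
    (htσ : t ∉ Cfsg.sigma H) {Y T₁ : Subgroup G} (hYc : Nat.card Y = p) (hTc : Nat.card T₁ = t)
    (hYH : Y ≤ H) (hTH : T₁ ≤ H) (hTY : T₁ ≤ Subgroup.normalizer (Y : Set G))
    (hreg : Y ⊓ Subgroup.centralizer (T₁ : Set G) = ⊥)
    (hCY : Cfsg.sigmaCore H ⊓ Subgroup.centralizer (Y : Set G) = ⊥) :
    Cfsg.sigmaCore H ⊓ Subgroup.centralizer (T₁ : Set G) ≠ ⊥ := by
  classical
  intro h0
  have hne := Cfsg.Agent.Lib.Helper1.BG12.sigmaCore_ne_bot hG H hH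
  have hc : Nat.card (Cfsg.sigmaCore H) ≠ 1 := fun h => hne (Subgroup.card_eq_one.mp h)
  obtain ⟨s, hs, hsd⟩ := Nat.exists_prime_and_dvd hc
  haveI : Fact s.Prime := ⟨hs⟩
  have hsσ : s ∈ Cfsg.sigma H := prime_sigmaCore hG hH hs hsd
  have hsp : s ≠ p := by rintro rfl; exact hpσ hsσ
  have hst : s ≠ t := by rintro rfl; exact htσ hsσ
  obtain ⟨X, hX⟩ : ∃ X : Subgroup G, X = Y ⊔ T₁ := ⟨_, rfl⟩
  have hXH : X ≤ H := by rw [hX]; exact sup_le hYH hTH
  have hXs : Group.IsSolvable ↥X := by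
    haveI := Cfsg.Agent.Lib.Helper11.MaxSubB.coatom_solvable hG H hH
    exact solvable_of_solvable_injective (Subgroup.inclusion_injective hXH)
  have hXcard : Nat.card X ∣ p * t := by
    rw [hX, ← hYc, ← hTc]
    exact Cfsg.Agent.Lib.Helper11.ThirteenB.card_sup_dvd Y T₁ hTY
  have hcop : (Nat.card X).Coprime (Nat.card (Cfsg.sigmaCore H)) := by
    apply Nat.coprime_of_dvd
    intro q hq hqX hqs
    have hqσ : q ∈ Cfsg.sigma H := prime_sigmaCore hG hH hq hqs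
    rcases (Nat.Prime.dvd_mul hq).mp (hqX.trans hXcard) with h | h
    · rw [(Nat.prime_dvd_prime_iff_eq hq hp.out).mp h] at hqσ; exact hpσ hqσ
    · rw [(Nat.prime_dvd_prime_iff_eq hq ht.out).mp h] at hqσ; exact htσ hqσ
  have hXn : X ≤ Subgroup.normalizer ((Cfsg.sigmaCore H : Subgroup G) : Set G) :=
    hXH.trans (le_normalizer_sigmaCore H)
  obtain ⟨S, hS, hXS, -⟩ := Cfsg.Agent.Lib.Helper11.BenderP.exists_inv_sylow_ge X
    (Cfsg.sigmaCore H) hXn hcop hXs s ⊥ bot_le IsPGroup.of_bot (by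
      intro x _
      rw [Subgroup.mem_normalizer_iff]
      intro h
      simp [Subgroup.mem_bot])
  have hS1 : S ≠ ⊥ := by
    intro h
    apply hS.not_dvd
    rw [h, Subgroup.relIndex_bot_left]
    exact hsd
  have hYS : Y ≤ Subgroup.normalizer (S : Set G) := (by rw [hX]; exact le_sup_left : Y ≤ X).trans hXS
  have hTS : T₁ ≤ Subgroup.normalizer (S : Set G) :=
    (by rw [hX]; exact le_sup_right : T₁ ≤ X).trans hXS
  have hfpf : S ⊓ Subgroup.centralizer (T₁ : Set G) = ⊥ := by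
    rw [eq_bot_iff, ← h0]
    exact inf_le_inf_right _ hS.le
  have hYp : IsPGroup p Y := IsPGroup.of_card (n := 1) (by rw [hYc, pow_one])
  have hcent := frob_centralizes_of_fpf ht.out hsp hst S Y T₁ hS.isPGroup hYp hTc hYS hTS hTY hreg hfpf
  apply hS1
  rw [eq_bot_iff, ← hCY]
  exact le_inf hS.le hcent

/-- **STAR, nonabelian Sylow case**, from Lemma L -/
theorem star_nonabelian [Finite G] (hG : Cfsg.IsMinSimpleOddOrder G) (HL : LemmaL G)
    {M H : Subgroup G} (hM : IsCoatom M)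
    (hH : IsCoatom H) {p : ℕ} [hp : Fact p.Prime] (hpσ : p ∉ Cfsg.sigma M)
    (hr1 : Cfsg.PRankLE p 1 ↥M) {P : Subgroup G} (hPc : Nat.card P = p) (hPM : P ≤ M)
    (hNP : Subgroup.normalizer (P : Set G) ≤ H) (hpH : p ∈ Cfsg.tau2 H)
    (hK : Cfsg.sigmaCore M ⊓ Subgroup.centralizer (P : Set G) ≠ ⊥)
    (hS : ∀ S : Sylow p G, ¬ IsMulCommutative (S : Subgroup G)) : False := by
  classical
  haveI : IsSimpleGroup G := hG.2.1
  have hPp : IsPGroup p P := IsPGroup.of_card (n := 1) (by rw [hPc, pow_one])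
  have hP1 : P ≠ ⊥ := by
    intro h
    rw [h, Subgroup.card_bot] at hPc
    exact hp.out.one_lt.ne hPc
  obtain ⟨hnc, -⟩ := Cfsg.Agent.Lib.Helper10.ThirteenTwo.basic hG hM hH hpσ hr1 hPp hP1 hPM hNP
  obtain ⟨K, hKdef⟩ : ∃ K : Subgroup G,
      K = Cfsg.sigmaCore M ⊓ Subgroup.centralizer (P : Set G) := ⟨_, rfl⟩
  rw [← hKdef] at hK
  have hKσ : K ≤ Cfsg.sigmaCore M := by rw [hKdef]; exact inf_le_left
  have hKC : K ≤ Subgroup.centralizer (P : Set G) := by rw [hKdef]; exact inf_le_right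
  have hKH : K ≤ H := (hKC.trans (Subgroup.centralizer_le_normalizer _)).trans hNP
  have hPH : P ≤ H := Subgroup.le_normalizer.trans hNP
  have hKprime : ∀ t : ℕ, t.Prime → t ∣ Nat.card K → t ∈ Cfsg.sigma M := fun t ht hd =>
    prime_sigmaCore hG hM ht (hd.trans (Subgroup.card_dvd_of_le hKσ))
  have hpK : ¬ p ∣ Nat.card K := fun hd => hpσ (hKprime p hp.out hd)
  have hpM : p ∣ Nat.card M := by rw [← hPc]; exact Subgroup.card_dvd_of_le hPM
  have hpi : ¬ Cfsg.IsIdealPrime p G := (Cfsg.Agent.S1409.result hG H hH p hpH.2.1 P hPc hNP).2.1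
  have hcomm : ∀ x ∈ P, ∀ y ∈ K, x * y = y * x := fun x hx y hy =>
    (Subgroup.mem_centralizer_iff.mp (hKC hy)) x hx
  have hPK : P ≤ Subgroup.normalizer (K : Set G) := by
    refine le_trans ?_ (Subgroup.centralizer_le_normalizer _)
    intro x hx
    rw [Subgroup.mem_centralizer_iff]
    intro y hy
    exact (hcomm x hx y hy).symm
  have hYcard := Cfsg.Agent.Lib.Helper11.ThirteenB.card_sup_dvd K P hPK
  have hY : ∀ q : ℕ, q.Prime → q ∣ Nat.card ↥(K ⊔ P) → q ∉ Cfsg.sigma H := by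
    intro q hq hqd
    rcases (Nat.Prime.dvd_mul hq).mp (hqd.trans hYcard) with h | h
    · exact Cfsg.Agent.Lib.Helper21.BG13z.not_sigma_of_nonconj hG hM hH hnc (hKprime q hq h)
    · rw [hPc] at h
      rw [(Nat.prime_dvd_prime_iff_eq hq hp.out).mp h]
      exact hpH.2.1
  obtain ⟨E, hE, hYE⟩ := exists_compl_ge hG hH (sup_le hKH hPH) hY
  obtain ⟨A, hAE, hAe, hA2⟩ := exists_sq_le_compl hG hH hE hpH
  obtain ⟨⟨hEN, hall⟩, -, -⟩ :=
    Cfsg.Agent.S1418.result hG H hH E hE p hpH A ⟨hAE, hAe, hA2⟩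
  have hKE : K ≤ E := le_sup_left.trans hYE
  have hPE : P ≤ E := le_sup_right.trans hYE
  have hPA : P ≤ A := hall P hPE hPc
  have hKN : K ≤ Subgroup.normalizer (A : Set G) := hKE.trans hEN
  have hCA : Cfsg.sigmaCore H ⊓ Subgroup.centralizer (A : Set G) = ⊥ :=
    (Cfsg.Agent.S1417.result hG H hH p hpH A ⟨hAE.trans hE.1, hAe, hA2⟩).2.2.2.1
  -- `P = A₀`
  obtain ⟨hτ2, -, hX⟩ := Cfsg.Agent.S1419.result hG H hH E hE p hpH hS A ⟨hAE, hAe, hA2⟩
  have hPA0 : P = A ⊓ Subgroup.centralizer (Cfsg.sigmaCore H : Set G) := by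
    by_contra hne
    exact (hX P hPE hPc hne).2 ((Subgroup.centralizer_le_normalizer _).trans hNP)
  -- an element `k ∈ K` of prime order `t`
  have hc : Nat.card K ≠ 1 := fun h => hK (Subgroup.card_eq_one.mp h)
  obtain ⟨t, ht, htd⟩ := Nat.exists_prime_and_dvd hc
  haveI : Fact t.Prime := ⟨ht⟩
  obtain ⟨k', hk'⟩ := exists_prime_orderOf_dvd_card' t htd
  obtain ⟨k, hkdef⟩ : ∃ k : G, k = (k' : G) := ⟨_, rfl⟩
  have hkK : k ∈ K := by rw [hkdef]; exact k'.2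
  have hko : orderOf k = t := by rw [hkdef, Subgroup.orderOf_coe]; exact hk'
  have hk1 : k ≠ 1 := by
    intro h
    rw [h, orderOf_one] at hko
    exact ht.one_lt.ne hko
  have hkt : k ^ t = 1 := by rw [← hko]; exact pow_orderOf_eq_one k
  obtain ⟨T₁, hT₁⟩ : ∃ T₁ : Subgroup G, T₁ = Subgroup.zpowers k := ⟨_, rfl⟩
  have hT₁c : Nat.card T₁ = t := by rw [hT₁, Nat.card_zpowers, hko]
  have hT₁K : T₁ ≤ K := by rw [hT₁, Subgroup.zpowers_le]; exact hkK
  have hT₁p : IsPGroup t T₁ := IsPGroup.of_card (n := 1) (by rw [hT₁c, pow_one])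
  have hT₁1 : T₁ ≠ ⊥ := by
    intro h
    rw [h, Subgroup.card_bot] at hT₁c
    exact ht.one_lt.ne hT₁c
  have htσM : t ∈ Cfsg.sigma M := hKprime t ht htd
  have htσH : t ∉ Cfsg.sigma H :=
    Cfsg.Agent.Lib.Helper21.BG13z.not_sigma_of_nonconj hG hM hH hnc htσM
  have htp : t ≠ p := by rintro rfl; exact hpσ htσM
  have hcT : Subgroup.centralizer (T₁ : Set G) = Subgroup.centralizer ({k} : Set G) := by
    rw [hT₁]; exact Cfsg.Agent.Lib.Helper11.RegD.centralizer_zpowers_eq k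
  -- `k` does not centralize `A`
  have hkA : k ∉ Subgroup.centralizer (A : Set G) := by
    intro h
    refine Cfsg.Agent.Lib.Helper21.BG13z.rank_two_centralizer_false hG hM hpσ hr1 hpM hpi hT₁p
      hT₁1 (hT₁K.trans hKσ) hAe hA2 ?_
    rw [hcT]
    intro a ha
    rw [Subgroup.mem_centralizer_singleton_iff]
    exact Subgroup.mem_centralizer_iff.mp h a ha
  -- a moved line
  obtain ⟨b, hbP, hb1'⟩ : ∃ b ∈ P, b ≠ 1 := by
    by_contra hcon
    push Not at hcon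
    exact hP1 (eq_bot_iff.mpr fun x hx => Subgroup.mem_bot.mpr (hcon x hx))
  have hptn : ¬ p ∣ t := fun h => htp ((Nat.prime_dvd_prime_iff_eq hp.out ht).mp h).symm
  obtain ⟨Y, hYA, hYc, hkY, hYk⟩ := exists_moved_line hAe hA2 (hKN hkK) hkt hptn (hPA hbP) hb1'
    (hcomm b hbP k hkK).symm hkA
  have hYP : Y ≠ P := by
    rintro rfl
    apply hb1'
    have : b ∈ Y ⊓ Subgroup.centralizer ({k} : Set G) :=
      ⟨hbP, Subgroup.mem_centralizer_singleton_iff.mpr (hcomm b hbP k hkK)⟩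
    rwa [hYk, Subgroup.mem_bot] at this
  have hYE' : Y ≤ E := hYA.trans hAE
  have hCY : Cfsg.sigmaCore H ⊓ Subgroup.centralizer (Y : Set G) = ⊥ :=
    (hX Y hYE' hYc (hPA0 ▸ hYP)).1
  have hT₁Y : T₁ ≤ Subgroup.normalizer (Y : Set G) := by
    rw [hT₁, Subgroup.zpowers_le]; exact hkY
  have hT₁E : T₁ ≤ E := hT₁K.trans hKE
  have hT₁H : T₁ ≤ H := hT₁E.trans hE.1
  have hne : Cfsg.sigmaCore H ⊓ Subgroup.centralizer (T₁ : Set G) ≠ ⊥ :=
    cent_ne_bot_of_frob hG hH hpH.2.1 htσH hYc hT₁c (hYE'.trans hE.1) hT₁H hT₁Y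
      (by rw [hcT]; exact hYk) hCY
  -- the rank of `t` in `H`
  have htH : t ∣ Nat.card H := by rw [← hT₁c]; exact Subgroup.card_dvd_of_le hT₁H
  have ht2 : Cfsg.PRankLE t 2 ↥H := by
    by_contra h
    exact htσH (Cfsg.Agent.Lib.Helper11.BenderN.alpha_sub_sigma hG H hH t ⟨ht, h⟩)
  have ht1 : Cfsg.PRankLE t 1 ↥H := by
    by_contra h
    have : t ∈ Cfsg.tau2 H := ⟨ht, htσH, ht2, h⟩
    rw [hτ2, Set.mem_singleton_iff] at this
    exact htp this
  have hPcent : P ≤ E ⊓ Subgroup.centralizer (T₁ : Set G) := by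
    refine le_inf hPE ?_
    rw [hcT]
    intro x hx
    rw [Subgroup.mem_centralizer_singleton_iff]
    exact hcomm x hx k hkK
  by_cases htd' : t ∣ Nat.card ↥⁅H, H⁆
  swap
  · -- `t ∈ τ₁(H)`: Lemma L
    exact HL H E T₁ P t p hH hE ⟨ht, htσH, htH, htd', ht1⟩ hpH hT₁E hT₁c hne hPcent hPc
  · -- `t ∈ τ₃(H)`
    obtain ⟨T, hT, hT₁T⟩ := exists_isSylowIn_ge hT₁E hT₁p
    have hET : E ≤ Subgroup.normalizer (T : Set G) := sylow_tau3_normal hG hH hE htσH htd' ht1 hT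
    have ht2' : t ≠ 2 := Cfsg.Agent.Lib.Helper1.BG10.prime_ne_two hG t H htH
    have hTcyc : IsCyclic T :=
      Cfsg.Agent.Lib.Helper11.BenderQ.isCyclic_of_pRankLE_one t ht2' hT.isPGroup
        (Cfsg.Agent.Lib.Helper1.BG12.pRankLE_of_le (hT.le.trans hE.1) ht1)
    have hET₁ : E ≤ Subgroup.normalizer (T₁ : Set G) := by
      intro e he
      apply mem_normalizer_of_conjSub_le
      have h1 : conjSub e T₁ ≤ T := by
        have := conjSub_mono (g := e) hT₁T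
        rwa [conjSub_eq_of_mem_normalizer (hET he)] at this
      have h2 := Cfsg.Agent.Lib.Helper10.SigmaJsubA.eq_of_card_eq_of_le_cyclic hTcyc h1 hT₁T
        (card_conjSub e T₁)
      rw [h2]
    have hT₁top : T₁ ≠ ⊤ := Cfsg.Agent.Lib.Helper11.MaxSubD.pgroup_ne_top hG t T₁ hT₁p
    have hNne : Subgroup.normalizer (T₁ : Set G) ≠ ⊤ :=
      Cfsg.Agent.Lib.Helper11.normalizer_ne_top_of_simple hT₁1 hT₁top
    obtain ⟨H₂, hH₂, hNH₂⟩ := Cfsg.Agent.Lib.Helper11.BenderE.exists_coatom_ge _ hNne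
    have hEH₂ : E ≤ H₂ := hET₁.trans hNH₂
    have hAH₂ : A ≤ H₂ := hAE.trans hEH₂
    have hpτ1 : p ∉ Cfsg.tau1 H₂ := by
      intro h
      have := Cfsg.Agent.Lib.Helper1.BG10.pRankLE_card_le h.2.2.2.2 hAH₂ hAe
      rw [hA2, pow_one] at this
      have h2 : p < p ^ 2 := by
        have := hp.out.one_lt
        nlinarith
      omega
    have hb := Cfsg.Agent.Lib.Helper10.ThirteenTwo.part_b hG hH hH₂ htσH ht1 hT₁p hT₁1 hT₁H hNH₂
      hpH.2.1 hpτ1
    have hinf := Cfsg.Agent.Lib.Helper10.ThirteenTwo.inf_eq_cent hG hH hH₂ htσH ht1 hT₁p hT₁1 hT₁H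
      hNH₂
    apply hne
    rw [eq_bot_iff, ← hCA]
    refine le_inf inf_le_left ?_
    intro d hd
    rw [Subgroup.mem_centralizer_iff]
    intro a ha
    have hd' : d ∈ Cfsg.sigmaCore H ⊓ H₂ := by rw [hinf]; exact hd
    exact hb a ⟨hAE.trans hE.1 ha, hAH₂ ha⟩ ⟨1, by rw [pow_one]; exact hAe.2 a ha⟩ d hd'

/-- **STAR** (both Sylow types), from Lemma L -/
theorem star [Finite G] (hG : Cfsg.IsMinSimpleOddOrder G) (HL : LemmaL G)
    {M H : Subgroup G} (hM : IsCoatom M)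
    (hH : IsCoatom H) {p : ℕ} [hp : Fact p.Prime] (hpσ : p ∉ Cfsg.sigma M)
    (hr1 : Cfsg.PRankLE p 1 ↥M) {P : Subgroup G} (hPc : Nat.card P = p) (hPM : P ≤ M)
    (hNP : Subgroup.normalizer (P : Set G) ≤ H) (hpH : p ∈ Cfsg.tau2 H)
    (hK : Cfsg.sigmaCore M ⊓ Subgroup.centralizer (P : Set G) ≠ ⊥) : False := by
  by_cases hS : ∀ S : Sylow p G, ¬ IsMulCommutative (S : Subgroup G)
  · exact star_nonabelian hG HL hM hH hpσ hr1 hPc hPM hNP hpH hK hS
  · push Not at hS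
    exact Cfsg.Agent.Lib.Helper21.BG13z.star_abelian hG hM hH hpσ hr1 hPc hPM hNP hpH hK hS

end Cfsg.Agent.Lib.Helper28.BGt
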