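import Mathlib
import Cfsg.Agent.Lib.Helper28.BGtM
import Cfsg.Agent.Lib.Helper10.SigmaJsubA

/-!
# Frobenius actions with a cyclic centralizer (helper28)

If `QR` (Frobenius-like: `C_Q(R) = 1`, `|R|` prime) acts on an odd `t`-group `T` with
`C_T(R)` cyclic and `C_T(QR) ≠ 1`, then `Q` centralizes `T`.
-/

set_option autoImplicit false
open scoped commutatorElement

namespace Cfsg.Agent.Lib.Helper28.BGt

open Cfsg.Agent.Lib.Helper1

section ClassTwo

variable {H : Type*} [Group H]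

theorem mul_pow_of_class_two' {t : ℕ} (ht : t.Prime) (ht2 : t ≠ 2)
    (hc : commutator H ≤ Subgroup.center H) (hpow : ∀ x : H, x ^ t ∈ Subgroup.center H)
    (u v : H) : (u * v) ^ t = u ^ t * v ^ t := by
  have hcc : ⁅v, u⁆ ∈ Subgroup.center H := hc (commElem_mem_commutator v u)
  rw [mul_pow_of_central hcc]
  have h1 : ⁅v, u⁆ ^ t = 1 := by
    rw [← commElem_pow_left_of_central hcc]
    have h3 := Subgroup.mem_center_iff.mp (hpow v) u
    rw [commutatorElement_def, ← h3]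
    group
  obtain ⟨k, hk⟩ := ht.odd_of_ne_two ht2
  have h2 : t.choose 2 = t * k := by
    rw [Nat.choose_two_right, hk]
    have : (2 * k + 1) * (2 * k + 1 - 1) = 2 * ((2 * k + 1) * k) := by
      rw [Nat.add_sub_cancel]; ring
    rw [this, Nat.mul_div_cancel_left _ (by norm_num : 0 < 2)]
  rw [h2, pow_mul, h1, one_pow, one_mul]

end ClassTwo

variable {G : Type*} [Group G]

/-- **Frobenius action with cyclic `C_T(R)`.** -/
theorem frob_centralizes_of_cyclic [Finite G] {t q r : ℕ} [ht : Fact t.Prime] [hq : Fact q.Prime]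
    (hr : r.Prime) (htq : t ≠ q) (htr : t ≠ r) (ht2 : t ≠ 2)
    (T Q R : Subgroup G) (hT : IsPGroup t T) (hQ : IsPGroup q Q) (hRc : Nat.card R = r)
    (hQT : Q ≤ Subgroup.normalizer (T : Set G)) (hRT : R ≤ Subgroup.normalizer (T : Set G))
    (hRQ : R ≤ Subgroup.normalizer (Q : Set G))
    (hreg : Q ⊓ Subgroup.centralizer (R : Set G) = ⊥)
    (hcR : IsCyclic ↥(T ⊓ Subgroup.centralizer (R : Set G)))
    (hne : T ⊓ Subgroup.centralizer (Q : Set G) ⊓ Subgroup.centralizer (R : Set G) ≠ ⊥) :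
    T ≤ Subgroup.centralizer (Q : Set G) := by
  classical
  by_contra hnc
  obtain ⟨W, hWT, hQW, hRW, hWnc, hWQ, hmin⟩ :=
    exists_min_noncentral htq T Q R hT hQ hQT hRT hRQ hnc
  have hWt : IsPGroup t W := hT.to_le hWT
  have hW1 : W ≠ ⊥ := by
    rintro rfl
    exact hWnc bot_le
  obtain ⟨D, hD⟩ : ∃ D : Subgroup G, D = ⁅W, W⁆ := ⟨_, rfl⟩
  have hDW : D ≤ W := by rw [hD]; exact Subgroup.commutator_le_self W
  have hQD : Q ≤ Subgroup.normalizer (D : Set G) := by
    rw [hD]; exact Ward.normalizer_commutator hQW hQW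
  have hRD : R ≤ Subgroup.normalizer (D : Set G) := by
    rw [hD]; exact Ward.normalizer_commutator hRW hRW
  have hDC : D ≤ Subgroup.centralizer (Q : Set G) := by
    by_contra h
    apply commutator_ne_self_of_pgroup hWt hW1
    rw [← hD]
    exact hmin D hDW hQD hRD h
  obtain ⟨Y, hY⟩ : ∃ Y : Subgroup G, Y = W ⊓ Subgroup.centralizer (Q : Set G) := ⟨_, rfl⟩
  have hQY : Q ≤ Subgroup.normalizer (Y : Set G) := by
    rw [hY]
    exact Ward.normalizer_inf hQW
      (Subgroup.le_normalizer.trans (normalizer_le_normalizer_centralizer Q))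
  have hRY : R ≤ Subgroup.normalizer (Y : Set G) := by
    rw [hY]
    exact Ward.normalizer_inf hRW (hRQ.trans (normalizer_le_normalizer_centralizer Q))
  have hDY : D ≤ Y := by rw [hY]; exact le_inf hDW hDC
  have hYW : Y ≤ W := by rw [hY]; exact inf_le_left
  have hYC : Y ≤ Subgroup.centralizer (Q : Set G) := by rw [hY]; exact inf_le_right
  -- (d) `W` centralizes `Y`
  have hWY : W ≤ Subgroup.centralizer (Y : Set G) := by
    have h1 : ⁅⁅Q, Y⁆, W⁆ = ⊥ := by
      have : ⁅Q, Y⁆ = ⊥ := by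
        rw [Subgroup.commutator_comm, Subgroup.commutator_eq_bot_iff_le_centralizer]
        exact hYC
      rw [this, Subgroup.commutator_bot_left]
    have h2 : ⁅⁅Y, W⁆, Q⁆ = ⊥ := by
      rw [Subgroup.commutator_eq_bot_iff_le_centralizer]
      refine le_trans ?_ hDC
      rw [hD]
      exact Subgroup.commutator_mono hYW le_rfl
    have h3 := Subgroup.commutator_commutator_eq_bot_of_rotate h1 h2
    rw [← Subgroup.commutator_eq_bot_iff_le_centralizer, eq_bot_iff, ← h3]
    exact Subgroup.commutator_mono hWQ le_rfl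
  have hcenter : ∀ y : ↥W, (y : G) ∈ Y → y ∈ Subgroup.center ↥W := by
    intro y hy
    rw [Subgroup.mem_center_iff]
    intro w
    apply Subtype.ext
    have := Subgroup.mem_centralizer_iff.mp (hWY w.2) y hy
    simpa using this.symm
  have hDmem : ∀ d : ↥W, d ∈ commutator ↥W → (d : G) ∈ D := by
    intro d hd
    rw [hD, ← Subgroup.map_subtype_commutator]
    exact ⟨d, hd, rfl⟩
  have hcomm : commutator ↥W ≤ Subgroup.center ↥W := fun d hd => hcenter d (hDY (hDmem d hd))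
  -- (e') all `t`-th powers lie in `Y`
  have hpowY : ∀ w ∈ W, w ^ t ∈ Y := by
    let Ω : Subgroup G :=
      { carrier := {w | w ∈ W ∧ w ^ t ∈ Y}
        one_mem' := ⟨W.one_mem, by rw [one_pow]; exact Y.one_mem⟩
        mul_mem' := by
          rintro u v ⟨hu, hut⟩ ⟨hv, hvt⟩
          refine ⟨W.mul_mem hu hv, ?_⟩
          have hcc : ⁅(⟨v, hv⟩ : ↥W), ⟨u, hu⟩⁆ ∈ Subgroup.center ↥W :=
            hcomm (commElem_mem_commutator _ _)
          have h1 := mul_pow_of_central hcc t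
          have h2 := congrArg Subtype.val h1
          simp only [Subgroup.coe_mul, Subgroup.coe_pow] at h2
          rw [h2]
          refine Y.mul_mem (Y.mul_mem (Y.pow_mem ?_ _) hut) hvt
          exact hDY (hDmem _ (commElem_mem_commutator _ _))
        inv_mem' := by
          rintro u ⟨hu, hut⟩
          exact ⟨W.inv_mem hu, by rw [inv_pow]; exact Y.inv_mem hut⟩ }
    have hΩmem : ∀ w, w ∈ Ω ↔ w ∈ W ∧ w ^ t ∈ Y := fun w => Iff.rfl
    have hΩinv : ∀ E : Subgroup G, E ≤ Subgroup.normalizer (W : Set G) →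
        E ≤ Subgroup.normalizer (Y : Set G) → E ≤ Subgroup.normalizer (Ω : Set G) := by
      intro E h1 h2
      rw [Subgroup.le_normalizer_iff]
      intro g hg w hw
      rw [hΩmem] at hw ⊢
      exact ⟨((h1 hg) w).mp hw.1, by rw [conj_pow]; exact ((h2 hg) _).mp hw.2⟩
    have hΩnc : ¬ Ω ≤ Subgroup.centralizer (Q : Set G) := by
      intro h
      apply hWnc
      intro w₀ hw₀
      by_contra hw₀C
      obtain ⟨n, hn⟩ := hWt ⟨w₀, hw₀⟩
      have hex : ∃ k, w₀ ^ t ^ k ∈ Y := by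
        refine ⟨n, ?_⟩
        have h1 := congrArg Subtype.val hn
        rw [Subgroup.coe_pow, Subgroup.coe_one] at h1
        change w₀ ^ t ^ n = 1 at h1
        rw [h1]
        exact Y.one_mem
      have hk : w₀ ^ t ^ (Nat.find hex) ∈ Y := Nat.find_spec hex
      have hk0 : Nat.find hex ≠ 0 := by
        intro h0
        rw [h0, pow_zero, pow_one] at hk
        exact hw₀C (hYC hk)
      obtain ⟨j, hj⟩ := Nat.exists_eq_succ_of_ne_zero hk0
      have hjlt : j < Nat.find hex := by omega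
      have hnot : ¬ w₀ ^ t ^ j ∈ Y := Nat.find_min hex hjlt
      have hmemΩ : w₀ ^ t ^ j ∈ Ω := by
        rw [hΩmem]
        refine ⟨W.pow_mem hw₀ _, ?_⟩
        rw [← pow_mul, ← pow_succ, ← Nat.succ_eq_add_one, ← hj]
        exact hk
      apply hnot
      rw [hY]
      exact ⟨W.pow_mem hw₀ _, h hmemΩ⟩
    have hΩW : Ω = W :=
      hmin Ω (fun w hw => ((hΩmem w).mp hw).1) (hΩinv Q hQW hQY) (hΩinv R hRW hRY) hΩnc
    intro w hw
    have : w ∈ Ω := by rw [hΩW]; exact hw
    exact ((hΩmem w).mp this).2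
  -- (f) `W` has exponent `t`
  have hpowc : ∀ x : ↥W, x ^ t ∈ Subgroup.center ↥W := by
    intro x
    apply hcenter
    rw [Subgroup.coe_pow]
    exact hpowY x x.2
  have hmulpow := mul_pow_of_class_two' ht.out ht2 hcomm hpowc
  have hexp : ∀ w ∈ W, w ^ t = 1 := by
    let Ω₁ : Subgroup G :=
      { carrier := {w | w ∈ W ∧ w ^ t = 1}
        one_mem' := ⟨W.one_mem, one_pow t⟩
        mul_mem' := by
          rintro u v ⟨hu, hut⟩ ⟨hv, hvt⟩
          refine ⟨W.mul_mem hu hv, ?_⟩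
          have h1 := congrArg Subtype.val (hmulpow ⟨u, hu⟩ ⟨v, hv⟩)
          simp only [Subgroup.coe_mul, Subgroup.coe_pow] at h1
          rw [h1, hut, hvt, one_mul]
        inv_mem' := by
          rintro u ⟨hu, hut⟩
          exact ⟨W.inv_mem hu, by rw [inv_pow, hut, inv_one]⟩ }
    have hΩ₁mem : ∀ w, w ∈ Ω₁ ↔ w ∈ W ∧ w ^ t = 1 := fun w => Iff.rfl
    have hle : ⁅W, Q⁆ ≤ Ω₁ := by
      rw [Subgroup.commutator_le]
      intro a ha s hs
      have hb : s * a⁻¹ * s⁻¹ ∈ W := ((hQW hs) a⁻¹).mp (W.inv_mem ha)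
      have e : ⁅a, s⁆ = a * (s * a⁻¹ * s⁻¹) := by rw [commutatorElement_def]; group
      rw [hΩ₁mem]
      refine ⟨by rw [e]; exact W.mul_mem ha hb, ?_⟩
      have h1 := congrArg Subtype.val (hmulpow ⟨a, ha⟩ ⟨s * a⁻¹ * s⁻¹, hb⟩)
      simp only [Subgroup.coe_mul, Subgroup.coe_pow] at h1
      rw [e, h1, conj_pow, inv_pow]
      have h2 : a ^ t ∈ Subgroup.centralizer (Q : Set G) := hYC (hpowY a ha)
      have h3 := Subgroup.mem_centralizer_iff.mp (Subgroup.inv_mem _ h2) s hs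
      rw [h3]
      group
    intro w hw
    exact ((hΩ₁mem w).mp (hle (hWQ hw))).2
  -- (g) the contradiction
  obtain ⟨hYD, c, hcW, hcCR, hcD⟩ :=
    frob_section hr htq htr W Q R hWt hW1 hQ hRc hQW hRW hRQ hreg hWQ
  have hc1 : c ≠ 1 := by
    rintro rfl
    exact hcD (Subgroup.one_mem _)
  have hct : c ^ t = 1 := hexp c hcW
  obtain ⟨Z₀, hZ₀⟩ : ∃ Z₀ : Subgroup G, Z₀ = T ⊓ Subgroup.centralizer (Q : Set G) ⊓
      Subgroup.centralizer (R : Set G) := ⟨_, rfl⟩
  have hZ₀t : IsPGroup t Z₀ := by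
    rw [hZ₀]; exact hT.to_le (inf_le_left.trans inf_le_left)
  have hdvd : t ∣ Nat.card Z₀ := by
    obtain ⟨k, hk⟩ := IsPGroup.iff_card.mp hZ₀t
    have hk0 : k ≠ 0 := by
      rintro rfl
      rw [pow_zero] at hk
      apply hne
      rw [← hZ₀]
      exact Subgroup.card_eq_one.mp hk
    rw [hk]
    exact dvd_pow_self t hk0
  obtain ⟨z, hz⟩ := exists_prime_orderOf_dvd_card' t hdvd
  have hzmem : (z : G) ∈ T ⊓ Subgroup.centralizer (Q : Set G) ⊓
      Subgroup.centralizer (R : Set G) := by rw [← hZ₀]; exact z.2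
  have hcS : Subgroup.zpowers c ≤ T ⊓ Subgroup.centralizer (R : Set G) := by
    rw [Subgroup.zpowers_le]
    exact ⟨hWT hcW, hcCR⟩
  have hzS : Subgroup.zpowers (z : G) ≤ T ⊓ Subgroup.centralizer (R : Set G) := by
    rw [Subgroup.zpowers_le]
    exact ⟨hzmem.1.1, hzmem.2⟩
  have hcard_c : Nat.card (Subgroup.zpowers c) = t := by
    rw [Nat.card_zpowers]
    exact orderOf_eq_prime hct hc1
  have hcard_z : Nat.card (Subgroup.zpowers (z : G)) = t := by
    rw [Nat.card_zpowers, Subgroup.orderOf_coe, hz]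
  have heq := Cfsg.Agent.Lib.Helper10.SigmaJsubA.eq_of_card_eq_of_le_cyclic hcR hcS hzS
    (hcard_c.trans hcard_z.symm)
  have hcQ' : c ∈ Subgroup.centralizer (Q : Set G) := by
    have h1 : c ∈ Subgroup.zpowers (z : G) := heq ▸ Subgroup.mem_zpowers c
    exact (Subgroup.zpowers_le.mpr hzmem.1.2) h1
  apply hcD
  apply hYD
  exact ⟨hcW, hcQ'⟩

end Cfsg.Agent.Lib.Helper28.BGt
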