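import Mathlib
import Cfsg.Agent.Lib.Helper28.BGtN
import Cfsg.Agent.Lib.Helper28.BGtJ
import Cfsg.Agent.Lib.Helper11.BenderF
import Cfsg.Agent.Lib.Helper11.BenderQ
import Cfsg.Agent.Lib.Helper11.BenderB
import Cfsg.Agent.S1406
import Cfsg.Agent.S1407
import Cfsg.Agent.Lib.Helper1.BG12.TwelveFourMain

/-!
# B & G, Lemma 12.12(a) (helper28)

`K` maximal, `r ∈ τ₁(K)`, `R ≤ K` of order `r`, `Q ≤ K` an `R`-invariant `q`-subgroup with
`C_Q(R) = 1`, `q ∉ α(K)`, `K_α ≠ 1` and `N_G(Q)` inside a maximal subgroup other than `K`.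
Then `C_{K_α}(R) ≠ 1` and `C_{K_α}(QR) = 1`.
-/

set_option autoImplicit false
open scoped commutatorElement

namespace Cfsg.Agent.Lib.Helper28.BGt

open Cfsg Cfsg.Agent.Lib.Helper18

variable {G : Type*} [Group G] [Finite G]

/-- nontrivial Sylow subgroups of `K_α` have rank at least three -/
theorem sylow_alphaCore_rank (hG : Cfsg.IsMinSimpleOddOrder G) {K : Subgroup G} (hK : IsCoatom K)
    {t : ℕ} [ht : Fact t.Prime] {T : Subgroup G} (hT : IsSylowIn t T (Cfsg.alphaCore K))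
    (hT1 : T ≠ ⊥) : ¬ Cfsg.PRankLE t 2 ↥T := by
  obtain ⟨hαH, -, -, -, -⟩ := Cfsg.Agent.Lib.Helper11.BenderN.alpha_hall hG K hK
  have hdT : t ∣ Nat.card T := by
    obtain ⟨k, hk⟩ := IsPGroup.iff_card.mp hT.isPGroup
    have hk0 : k ≠ 0 := by
      rintro rfl
      rw [pow_zero] at hk
      exact hT1 (Subgroup.card_eq_one.mp hk)
    rw [hk]
    exact dvd_pow_self t hk0
  have hα : t ∈ Cfsg.alpha K := hαH.2.1 t ht.out (hdT.trans (Subgroup.card_dvd_of_le hT.le))
  obtain ⟨A₀, hA₀K, hA₀e, hA₀c⟩ :=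
    Cfsg.Agent.Lib.Helper11.BenderF.exists_elemAb_of_not_pRankLE t K hα.2
  have hA₀α : A₀ ≤ Cfsg.alphaCore K :=
    Cfsg.Agent.Lib.Helper1.BG12.pgroup_le_alphaCore hG K hK t hα A₀ hA₀K
      (Cfsg.Agent.Lib.Helper1.BG10.elemAb_isPGroup hA₀e)
  obtain ⟨x, -, hle⟩ := hT.exists_conj_le hA₀α (Cfsg.Agent.Lib.Helper1.BG10.elemAb_isPGroup hA₀e)
  exact Cfsg.Agent.Lib.Helper11.BenderB.not_pRankLE_of_le t (conjSub x A₀) T hle
    (Cfsg.Agent.Lib.Helper11.BenderF.elemAb_conjSub t x hA₀e) (by rw [card_conjSub]; exact hA₀c)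

/-- **B & G, Lemma 12.12(a)** -/
theorem twelve_twelve_a (hG : Cfsg.IsMinSimpleOddOrder G) {K : Subgroup G} (hK : IsCoatom K)
    {r : ℕ} (hr : r ∈ Cfsg.tau1 K) {R : Subgroup G} (hRK : R ≤ K) (hRc : Nat.card R = r)
    {q : ℕ} [hq : Fact q.Prime] (hqα : q ∉ Cfsg.alpha K) {Q : Subgroup G} (hQ : IsPGroup q Q)
    (hQK : Q ≤ K) (hRQ : R ≤ Subgroup.normalizer (Q : Set G))
    (hreg : Q ⊓ Subgroup.centralizer (R : Set G) = ⊥) (hKα : Cfsg.alphaCore K ≠ ⊥)
    {L : Subgroup G} (hL : IsCoatom L) (hLK : L ≠ K)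
    (hNQ : Subgroup.normalizer (Q : Set G) ≤ L) :
    Cfsg.alphaCore K ⊓ Subgroup.centralizer (R : Set G) ≠ ⊥ ∧
      Cfsg.alphaCore K ⊓ Subgroup.centralizer (Q : Set G) ⊓
        Subgroup.centralizer (R : Set G) = ⊥ := by
  classical
  have hrp : r.Prime := hr.1
  haveI : Fact r.Prime := ⟨hrp⟩
  have hrσ : r ∉ Cfsg.sigma K := hr.2.1
  have hrK : r ∣ Nat.card K := hr.2.2.1
  have hr1 : Cfsg.PRankLE r 1 K := hr.2.2.2.2
  have hr2 : r ≠ 2 := Cfsg.Agent.Lib.Helper1.BG10.prime_ne_two hG r K hrK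
  obtain ⟨hαH, -, -, -, -⟩ := Cfsg.Agent.Lib.Helper11.BenderN.alpha_hall hG K hK
  have hrα : r ∉ Cfsg.alpha K := fun h =>
    hrσ (Cfsg.Agent.Lib.Helper11.BenderN.alpha_sub_sigma hG K hK r h)
  obtain ⟨Ka, hKa⟩ : ∃ Ka : Subgroup G, Ka = Cfsg.alphaCore K := ⟨_, rfl⟩
  rw [← hKa] at hαH hKα ⊢
  have hKaK : Ka ≤ K := hαH.1
  have hKan : K ≤ Subgroup.normalizer (Ka : Set G) := by
    rw [hKa]; exact Cfsg.Agent.Lib.Helper1.BG12.le_normalizer_alphaCore K
  -- (U) `C_{K_α}(Q)` has rank at most one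
  have hU : Cfsg.RankLE 1 ↥(Ka ⊓ Subgroup.centralizer (Q : Set G)) := by
    by_contra h
    rw [hKa] at h
    have h1 := Cfsg.Agent.S1406.result hG K hK Q hQK (fun p hp hd => ?_) h
    · obtain ⟨M₀, -, huniq⟩ := h1
      have e1 : K = M₀ := huniq K ⟨hK, inf_le_left⟩
      have e2 : L = M₀ :=
        huniq L ⟨hL, inf_le_right.trans ((Subgroup.centralizer_le_normalizer _).trans hNQ)⟩
      exact hLK (e2.trans e1.symm)
    · obtain ⟨k, hk⟩ := IsPGroup.iff_card.mp hQ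
      rw [hk] at hd
      have := (Nat.prime_dvd_prime_iff_eq hp hq.out).mp (hp.dvd_of_dvd_pow hd)
      rw [this]
      exact hqα
  -- (Z) `C_{K_α}(R)` is a Z-group
  have hRp : IsPGroup r R := IsPGroup.of_card (n := 1) (by rw [hRc, pow_one])
  have hZ : IsZGroup ↥(Ka ⊓ Subgroup.centralizer (R : Set G)) := by
    obtain ⟨P, hRP⟩ := Cfsg.Agent.Lib.Helper1.BG10.exists_sylow_map_ge r K R hRK hRp
    have hKα' : Cfsg.alphaCore K ≠ ⊥ := by rw [← hKa]; exact hKα
    obtain ⟨x, hx, hxo, hxZ, -⟩ := Cfsg.Agent.S1407.result hG K hK hKα' r hrK hrσ P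
    have hxS : x ∈ (P : Subgroup K).map K.subtype := by
      obtain ⟨y, hy, hyx⟩ := hx
      obtain ⟨z, -, hzy⟩ := hy
      refine ⟨(z : ↥K), z.2, ?_⟩
      rw [← hyx, ← hzy]
      rfl
    obtain ⟨S, hS⟩ : ∃ S : Subgroup G, S = (P : Subgroup K).map K.subtype := ⟨_, rfl⟩
    rw [← hS] at hxS hRP
    have hSK : S ≤ K := by rw [hS]; exact Subgroup.map_subtype_le _
    have hSp : IsPGroup r S := by rw [hS]; exact P.isPGroup'.map _
    have hScyc : IsCyclic ↥S :=
      Cfsg.Agent.Lib.Helper11.BenderQ.isCyclic_of_pRankLE_one r hr2 hSp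
        (Cfsg.Agent.Lib.Helper1.BG12.pRankLE_of_le hSK hr1)
    have hx1 : x ≠ 1 := by
      intro h
      rw [h, orderOf_one] at hxo
      exact hrp.one_lt.ne hxo
    have hzx : Subgroup.zpowers x = R :=
      Cfsg.Agent.Lib.Helper10.SigmaJsubA.eq_of_card_eq_of_le_cyclic hScyc
        (Subgroup.zpowers_le.mpr hxS) hRP (by rw [Nat.card_zpowers, hxo, hRc])
    have hxR : x ∈ R := hzx ▸ Subgroup.mem_zpowers x
    have hCeq : Subgroup.centralizer ({x} : Set G) = Subgroup.centralizer (R : Set G) := by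
      ext c
      constructor
      · intro hc
        exact mem_centralizer_of_prime_card hrp R hRc hxR hx1
          ((Subgroup.mem_centralizer_iff.mp hc) x rfl).symm
      · intro hc
        rw [Subgroup.mem_centralizer_iff]
        intro y hy
        rw [Set.mem_singleton_iff] at hy
        rw [hy]
        exact Subgroup.mem_centralizer_iff.mp hc x hxR
    rw [← hCeq, hKa]
    exact hxZ
  have hcycR : ∀ (t : ℕ) [Fact t.Prime] (T : Subgroup G), T ≤ Ka → IsPGroup t T →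
      IsCyclic ↥(T ⊓ Subgroup.centralizer (R : Set G)) := by
    intro t _ T hTK hTp
    have hXZ : T ⊓ Subgroup.centralizer (R : Set G) ≤ Ka ⊓ Subgroup.centralizer (R : Set G) :=
      inf_le_inf_right _ hTK
    haveI := hZ
    have h1 : IsPGroup t ↥((T ⊓ Subgroup.centralizer (R : Set G)).subgroupOf
        (Ka ⊓ Subgroup.centralizer (R : Set G))) := (hTp.to_le inf_le_left).comap_subtype
    have h2 := h1.isCyclic_of_isZGroup
    exact (Subgroup.subgroupOfEquivOfLe hXZ).isCyclic.mp h2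
  -- the acting group `F = QR`
  obtain ⟨F, hF⟩ : ∃ F : Subgroup G, F = Q ⊔ R := ⟨_, rfl⟩
  have hQF : Q ≤ F := by rw [hF]; exact le_sup_left
  have hRF : R ≤ F := by rw [hF]; exact le_sup_right
  have hFK : F ≤ K := by rw [hF]; exact sup_le hQK hRK
  have hFs : Group.IsSolvable ↥F := by
    haveI := Cfsg.Agent.Lib.Helper11.MaxSubB.coatom_solvable hG K hK
    exact solvable_of_solvable_injective (Subgroup.inclusion_injective hFK)
  have hRcomm : R ≤ Subgroup.centralizer (R : Set G) := by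
    intro a ha
    by_cases ha1 : a = 1
    · rw [ha1]; exact Subgroup.one_mem _
    · exact mem_centralizer_of_prime_card hrp R hRc ha ha1 rfl
  have hQR : Q ⊓ R = ⊥ := by
    rw [eq_bot_iff, ← hreg]
    exact le_inf inf_le_left (inf_le_right.trans hRcomm)
  have hFcard : Nat.card ↥F = Nat.card Q * Nat.card R := by
    rw [hF]; exact Cfsg.Agent.Lib.Helper10.card_sup_of_inf_eq_bot Q R hRQ hQR
  have hcop : (Nat.card ↥F).Coprime (Nat.card ↥Ka) := by
    rw [hFcard, hRc]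
    obtain ⟨j, hj⟩ := IsPGroup.iff_card.mp hQ
    rw [hj]
    apply Nat.Coprime.mul_left
    · apply Nat.Coprime.pow_left
      exact (Nat.Prime.coprime_iff_not_dvd hq.out).mpr (fun h => hqα (hαH.2.1 q hq.out h))
    · exact (Nat.Prime.coprime_iff_not_dvd hrp).mpr (fun h => hrα (hαH.2.1 r hrp h))
  have hFn : F ≤ Subgroup.normalizer (Ka : Set G) := hFK.trans hKan
  -- an invariant Sylow subgroup of `K_α` is never centralized by `Q`
  have key : ∀ (t : ℕ) [Fact t.Prime] (T : Subgroup G), IsSylowIn t T Ka → T ≠ ⊥ →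
      ¬ T ≤ Subgroup.centralizer (Q : Set G) := by
    intro t ht T hT hT1 hTC
    have hT' : IsSylowIn t T (Cfsg.alphaCore K) := by rw [← hKa]; exact hT
    apply sylow_alphaCore_rank hG hK hT' hT1
    have h2 : Cfsg.PRankLE t 1 ↥(Ka ⊓ Subgroup.centralizer (Q : Set G)) := hU t ht.out
    have h3 : Cfsg.PRankLE t 1 ↥T :=
      Cfsg.Agent.Lib.Helper1.BG12.pRankLE_of_le (le_inf hT.le hTC) h2
    intro A hA hAe
    exact (h3 A hA hAe).trans (Nat.pow_le_pow_right ht.out.pos (by norm_num))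
  have hprimes : ∀ (t : ℕ) [Fact t.Prime] (T : Subgroup G), IsSylowIn t T Ka → T ≠ ⊥ →
      t ≠ q ∧ t ≠ r ∧ t ≠ 2 := by
    intro t ht T hT hT1
    have hdT : t ∣ Nat.card T := by
      obtain ⟨k, hk⟩ := IsPGroup.iff_card.mp hT.isPGroup
      have hk0 : k ≠ 0 := by
        rintro rfl
        rw [pow_zero] at hk
        exact hT1 (Subgroup.card_eq_one.mp hk)
      rw [hk]
      exact dvd_pow_self t hk0
    have hα : t ∈ Cfsg.alpha K := hαH.2.1 t ht.out (hdT.trans (Subgroup.card_dvd_of_le hT.le))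
    refine ⟨?_, ?_, ?_⟩
    · rintro rfl; exact hqα hα
    · rintro rfl; exact hrα hα
    · exact Cfsg.Agent.Lib.Helper11.BenderD.odd_prime_of_pgroup hG t T hT1 hT.isPGroup
  constructor
  · -- `C_{K_α}(R) ≠ 1`
    intro hbot
    obtain ⟨t, htp, htd⟩ := Nat.exists_prime_and_dvd (show Nat.card ↥Ka ≠ 1 from
      fun h => hKα (Subgroup.card_eq_one.mp h))
    haveI : Fact t.Prime := ⟨htp⟩
    obtain ⟨T, hT, hFT, -⟩ := Cfsg.Agent.Lib.Helper11.BenderP.exists_inv_sylow_ge F Ka hFn hcop hFs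
      t ⊥ bot_le IsPGroup.of_bot (by intro x _; rw [Subgroup.mem_normalizer_iff]; intro y; simp)
    have hT1 : T ≠ ⊥ := by
      rintro rfl
      apply hT.not_dvd
      rw [Subgroup.relIndex_bot_left]
      exact htd
    obtain ⟨htq, htr, -⟩ := hprimes t T hT hT1
    apply key t T hT hT1
    apply frob_centralizes_of_fpf hrp htq htr T Q R hT.isPGroup hQ hRc (hQF.trans hFT)
      (hRF.trans hFT) hRQ hreg
    rw [eq_bot_iff, ← hbot]
    exact inf_le_inf_right _ hT.le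
  · -- `C_{K_α}(QR) = 1`
    by_contra hne
    obtain ⟨Z₀, hZ₀⟩ : ∃ Z₀ : Subgroup G, Z₀ = Ka ⊓ Subgroup.centralizer (Q : Set G) ⊓
        Subgroup.centralizer (R : Set G) := ⟨_, rfl⟩
    rw [← hZ₀] at hne
    obtain ⟨t, htp, htd⟩ := Nat.exists_prime_and_dvd (show Nat.card ↥Z₀ ≠ 1 from
      fun h => hne (Subgroup.card_eq_one.mp h))
    haveI : Fact t.Prime := ⟨htp⟩
    obtain ⟨z, hz⟩ := exists_prime_orderOf_dvd_card' t htd
    have hzmem : (z : G) ∈ Ka ⊓ Subgroup.centralizer (Q : Set G) ⊓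
        Subgroup.centralizer (R : Set G) := by rw [← hZ₀]; exact z.2
    have hzo : orderOf (z : G) = t := by rw [Subgroup.orderOf_coe, hz]
    have hz1 : (z : G) ≠ 1 := by
      intro h
      rw [h, orderOf_one] at hzo
      exact htp.one_lt.ne hzo
    have hEp : IsPGroup t ↥(Subgroup.zpowers (z : G)) :=
      IsPGroup.of_card (n := 1) (by rw [Nat.card_zpowers, hzo, pow_one])
    have hFE : F ≤ Subgroup.normalizer ((Subgroup.zpowers (z : G) : Subgroup G) : Set G) := by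
      refine le_trans ?_ (Cfsg.Agent.Lib.Helper1.BG12.centralizer_singleton_le_normalizer_zpowers (z : G))
      rw [hF]
      apply sup_le
      · intro a ha
        rw [Subgroup.mem_centralizer_iff]
        rintro _ rfl
        exact (Subgroup.mem_centralizer_iff.mp hzmem.1.2 a ha).symm
      · intro a ha
        rw [Subgroup.mem_centralizer_iff]
        rintro _ rfl
        exact (Subgroup.mem_centralizer_iff.mp hzmem.2 a ha).symm
    obtain ⟨T, hT, hFT, hET⟩ := Cfsg.Agent.Lib.Helper11.BenderP.exists_inv_sylow_ge F Ka hFn hcop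
      hFs t (Subgroup.zpowers (z : G)) (Subgroup.zpowers_le.mpr hzmem.1.1) hEp hFE
    have hzT : (z : G) ∈ T := hET (Subgroup.mem_zpowers _)
    have hT1 : T ≠ ⊥ := by
      rintro rfl
      exact hz1 (Subgroup.mem_bot.mp hzT)
    obtain ⟨htq, htr, ht2⟩ := hprimes t T hT hT1
    apply key t T hT hT1
    apply frob_centralizes_of_cyclic hrp htq htr ht2 T Q R hT.isPGroup hQ hRc (hQF.trans hFT)
      (hRF.trans hFT) hRQ hreg (hcycR t T hT.le hT.isPGroup)
    intro hb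
    have : (z : G) ∈ T ⊓ Subgroup.centralizer (Q : Set G) ⊓ Subgroup.centralizer (R : Set G) :=
      ⟨⟨hzT, hzmem.1.2⟩, hzmem.2⟩
    rw [hb, Subgroup.mem_bot] at this
    exact hz1 this

end Cfsg.Agent.Lib.Helper28.BGt
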