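import Mathlib
import Cfsg.Agent.Lib.Helper21.BG13t
import Cfsg.Agent.Lib.Helper21.BG13z
import Cfsg.Agent.S1404
import Cfsg.Agent.S1420

set_option autoImplicit false

/-! A weak form of B & G Lemma 13.5 (helper28): if `P ≤ M` of prime order `p ∈ κ(M)` centralizes
`X ≤ M_σ` of prime order, then `M` is the only maximal subgroup containing `N_G(X)`. -/

namespace Cfsg.Agent.Lib.Helper28.BGt

open Cfsg Cfsg.Agent.Lib.Helper18

variable {G : Type*} [Group G]

omit [Group G] in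
theorem ne_bot_of_card_prime' {G : Type*} [Group G] {X : Subgroup G} {q : ℕ} (hq : q.Prime)
    (hXc : Nat.card X = q) : X ≠ ⊥ := by
  intro h
  rw [h, Subgroup.card_bot] at hXc
  exact hq.one_lt.ne hXc

omit [Group G] in
theorem exists_ne_one_of_ne_bot' {G : Type*} [Group G] {X : Subgroup G} (hX : X ≠ ⊥) :
    ∃ x ∈ X, x ≠ 1 := by
  by_contra h
  push Not at h
  exact hX (eq_bot_iff.mpr fun z hz => Subgroup.mem_bot.mpr (h z hz))

/-- **weak 13.5**: `p ∉ σ(M)`, `M` of `p`-rank one, `|P| = p`, `P ≤ M`, `X ≤ M_σ ∩ C(P)` of prime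
order `q`, `L` maximal with `N_G(X) ≤ L` ⟹ `L = M` -/
theorem eq_of_normalizer_le_of_kappa_cent [Finite G] (hG : Cfsg.IsMinSimpleOddOrder G)
    {M : Subgroup G} (hM : IsCoatom M) {p : ℕ} [hp : Fact p.Prime] (hpσ : p ∉ Cfsg.sigma M)
    (hr1 : Cfsg.PRankLE p 1 ↥M) {P : Subgroup G} (hPc : Nat.card P = p) (hPM : P ≤ M)
    {q : ℕ} [hq : Fact q.Prime] {X : Subgroup G} (hXc : Nat.card X = q)
    (hXσ : X ≤ Cfsg.sigmaCore M) (hXP : X ≤ Subgroup.centralizer (P : Set G))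
    {L : Subgroup G} (hL : IsCoatom L) (hNL : Subgroup.normalizer (X : Set G) ≤ L) : L = M := by
  classical
  haveI : IsSimpleGroup G := hG.2.1
  have hX1 : X ≠ ⊥ := ne_bot_of_card_prime' hq.out hXc
  have hP1 : P ≠ ⊥ := ne_bot_of_card_prime' hp.out hPc
  have hXq : IsPGroup q X := IsPGroup.of_card (n := 1) (by rw [hXc, pow_one])
  have hXM : X ≤ M := hXσ.trans (sigmaCore_le M)
  have hqσM : q ∈ Cfsg.sigma M := by
    apply prime_sigmaCore hG hM hq.out
    rw [← hXc]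
    exact Subgroup.card_dvd_of_le hXσ
  have hK : Cfsg.sigmaCore M ⊓ Subgroup.centralizer (P : Set G) ≠ ⊥ := by
    intro h
    apply hX1
    rw [eq_bot_iff, ← h]
    exact le_inf hXσ hXP
  -- the maximal subgroup `H` over `N(P)`
  have hPtop : P ≠ ⊤ := fun h => hM.1 (top_le_iff.mp (h ▸ hPM))
  obtain ⟨H, hH, hNP⟩ := Cfsg.Agent.Lib.Helper11.BenderE.exists_coatom_ge _
    (Cfsg.Agent.Lib.Helper11.normalizer_ne_top_of_simple hP1 hPtop)
  obtain ⟨hnc, hpσH, hPσH⟩ :=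
    Cfsg.Agent.Lib.Helper21.BG13t.le_sigmaCore_of_normalizer_le hG hM hH hpσ hr1 hPc hPM hNP hK
  have hXH : X ≤ H := (hXP.trans (Subgroup.centralizer_le_normalizer _)).trans hNP
  have hqσH : q ∉ Cfsg.sigma H :=
    Cfsg.Agent.Lib.Helper21.BG13z.not_sigma_of_nonconj hG hM hH hnc hqσM
  have hHM : H ≠ M := by
    intro h
    apply hnc 1
    rw [conjSub_one]
    exact h
  -- `P` centralizes `X`
  have hPX : P ≤ Subgroup.centralizer (X : Set G) := by
    intro y hy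
    rw [Subgroup.mem_centralizer_iff]
    intro x hx
    exact ((Subgroup.mem_centralizer_iff.mp (hXP hx)) y hy).symm
  have hK' : Cfsg.sigmaCore H ⊓ Subgroup.centralizer (X : Set G) ≠ ⊥ := by
    intro h
    apply hP1
    rw [eq_bot_iff, ← h]
    exact le_inf hPσH hPX
  by_cases hr : Cfsg.PRankLE q 1 ↥H
  · -- `q ∈ κ(H)`: STAR for `H`
    obtain ⟨-, hqσL, -⟩ :=
      Cfsg.Agent.Lib.Helper21.BG13t.le_sigmaCore_of_normalizer_le hG hH hL hqσH hr hXc hXH hNL hK'
    obtain ⟨g, hg⟩ := (Cfsg.Agent.S1378.result hG).2 M L hM hL ⟨q, hqσM, hqσL⟩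
    have hXL : X ≤ L := Subgroup.le_normalizer.trans hNL
    -- `g⁻¹ X g ≤ M`
    have h1 : X.map (MulAut.conj g⁻¹).toMonoidHom ≤ M := by
      have h2 : conjSub g⁻¹ X ≤ conjSub g⁻¹ L := conjSub_mono hXL
      have h3 : conjSub g⁻¹ L = M := by
        rw [hg]
        show conjSub g⁻¹ (conjSub g M) = M
        rw [conjSub_mul, inv_mul_cancel, conjSub_one]
      rw [h3] at h2
      exact h2
    obtain ⟨m, hm, c, hc, hgmc⟩ := (Cfsg.Agent.S1404.result hG M hM q hqσM X hXq hX1 hXM).1 g⁻¹ h1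
    -- `L = c⁻¹ M c`
    have hgc : g = c⁻¹ * m⁻¹ := by
      have : g = (g⁻¹)⁻¹ := (inv_inv g).symm
      rw [this, hgmc, mul_inv_rev]
    have hLc : L = conjSub c⁻¹ M := by
      rw [hg]
      show conjSub g M = conjSub c⁻¹ M
      rw [hgc, ← conjSub_mul]
      congr 1
      exact conjSub_eq_of_mem_normalizer (Subgroup.le_normalizer (M.inv_mem hm))
    have hcL : c⁻¹ ∈ L :=
      L.inv_mem (hNL ((Subgroup.centralizer_le_normalizer _) hc))
    rw [hLc, mem_conjSub] at hcL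
    have hcM : c⁻¹ ∈ M := by
      have : (c⁻¹)⁻¹ * c⁻¹ * c⁻¹ = c⁻¹ := by group
      rw [this] at hcL
      exact hcL
    rw [hLc]
    exact conjSub_eq_of_mem_normalizer (Subgroup.le_normalizer hcM)
  · -- `q ∈ τ₂(H)`
    exfalso
    have hqτ : q ∈ Cfsg.tau2 H := by
      refine ⟨hq.out, hqσH, ?_, hr⟩
      by_contra h
      exact hqσH (Cfsg.Agent.Lib.Helper11.BenderN.alpha_sub_sigma hG H hH q ⟨hq.out, h⟩)
    obtain ⟨x, hxX, hx1⟩ := exists_ne_one_of_ne_bot' hX1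
    have hzx : Subgroup.zpowers x = X := zpowers_eq_of_card_prime hXc hxX hx1
    have hox : orderOf x = q := by
      rw [← Nat.card_zpowers, hzx, hXc]
    obtain ⟨y, hyP, hy1⟩ := exists_ne_one_of_ne_bot' hP1
    have hxy : x * y = y * x := ((Subgroup.mem_centralizer_iff.mp (hXP hxX)) y hyP).symm
    obtain ⟨E, hE, -⟩ := exists_compl_ge hG hH (Y := ⊥) bot_le (by
      intro t ht htd
      rw [Subgroup.card_bot] at htd
      exact absurd (Nat.dvd_one.mp htd) ht.one_lt.ne')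
    obtain ⟨-, hu⟩ := (Cfsg.Agent.S1420.result hG H hH E hE).2.2.2 x (hXH hxX) hx1
      (by
        intro t ht htd
        rw [hox] at htd
        rw [(Nat.prime_dvd_prime_iff_eq ht hq.out).mp htd]
        exact hqτ)
      ⟨hXH hxX, y, hPσH hyP, hy1, hxy⟩
    have hCx : Subgroup.centralizer ({x} : Set G) ≤ Subgroup.centralizer (X : Set G) := by
      intro c hc
      rw [Subgroup.mem_centralizer_iff] at hc ⊢
      intro z hz
      rw [← hzx] at hz
      obtain ⟨k, rfl⟩ := Subgroup.mem_zpowers_iff.mp hz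
      have h1 : x * c = c * x := hc x (Set.mem_singleton x)
      exact ((Commute.zpow_left (show Commute x c from h1) k).eq)
    have hLH : L = H := hu L hL ((hCx.trans (Subgroup.centralizer_le_normalizer _)).trans hNL)
    rw [hLH] at hNL
    obtain ⟨S, hXS, hSM, hSH, -, -⟩ :=
      (Cfsg.Agent.Lib.Helper11.LemLB.t1424 hG).apply hM hH hqσM hXq hX1 hXM hHM hNL
    obtain ⟨B₀, hB₀H, hB₀e, hB₀c⟩ :=
      Cfsg.Agent.Lib.Helper1.BG10.exists_elemAb_sq_of_not_pRankLE_one q H hr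
    obtain ⟨h, hhH, hle⟩ := hSH.exists_conj_le hB₀H (IsPGroup.of_card hB₀c)
    have hAe : Cfsg.IsElementaryAbelian q (conjSub h B₀) :=
      Cfsg.Agent.Lib.Helper11.BenderF.elemAb_conjSub q h hB₀e
    have hAc : Nat.card (conjSub h B₀) = q ^ 2 := by rw [card_conjSub, hB₀c]
    have hAH : conjSub h B₀ ≤ H := hle.trans hSH.le
    have hbot := (Cfsg.Agent.S1417.result hG H hH q hqτ (conjSub h B₀) ⟨hAH, hAe, hAc⟩).2.2.2.2.1
      M hM hHM.symm (hle.trans hSM)
    apply hP1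
    rw [eq_bot_iff, ← hbot]
    exact le_inf hPσH hPM

end Cfsg.Agent.Lib.Helper28.BGt
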