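import Mathlib
import Cfsg.Agent.Lib.Helper28.BGtP
import Cfsg.Agent.S1415

/-!
# B & G, Corollary 13.2(a) and Corollary 13.3(b) (helper28)

* `nonconj_of_normalizer_le`: for `p ∉ σ(M)` of `p`-rank one in `M` and `P ≤ M` of order `p`, a
  maximal subgroup containing `N_G(P)` is not conjugate to `M`.
* `thirteen_two_a`: in that situation every `p`-element of `M ∩ H` centralizes `M_σ ∩ H`, and
  `M_σ ∩ H = C_{M_σ}(P)`.
* `thirteen_three_b`: a Hall `τ₃(M)`-subgroup `E₃` of a complement `E` acts "semiprimely" on `M_σ`: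
  `C_{M_σ}(x) ≤ C(E₃)` for every `x ∈ E₃ - 1`.
-/

set_option autoImplicit false
open scoped commutatorElement

namespace Cfsg.Agent.Lib.Helper28.BGt

open Cfsg Cfsg.Agent.Lib.Helper18

variable {G : Type*} [Group G] [Finite G]

/-- the rank dichotomy for `H ≥ N_G(P)`, `|P| = p` -/
theorem rank_two_of_normalizer_le (hG : Cfsg.IsMinSimpleOddOrder G) {H : Subgroup G}
    (hH : IsCoatom H) {p : ℕ} [hp : Fact p.Prime] {P : Subgroup G} (hPc : Nat.card P = p)
    (hNP : Subgroup.normalizer (P : Set G) ≤ H) (hσ : p ∉ Cfsg.sigma H) :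
    Cfsg.PRankLE p 2 H ∧ ¬ Cfsg.PRankLE p 1 H :=
  (Cfsg.Agent.Lib.Helper1.BG10.ten_six hG H hH p hσ P hPc hNP).1

theorem nonconj_of_normalizer_le (hG : Cfsg.IsMinSimpleOddOrder G) {M H : Subgroup G}
    (hH : IsCoatom H) {p : ℕ} [hp : Fact p.Prime] (hpσ : p ∉ Cfsg.sigma M)
    (hr1 : Cfsg.PRankLE p 1 M) {P : Subgroup G} (hPc : Nat.card P = p)
    (hNP : Subgroup.normalizer (P : Set G) ≤ H) : ∀ g : G, H ≠ conjSub g M := by
  intro g hg
  by_cases hσ : p ∈ Cfsg.sigma H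
  · rw [hg] at hσ
    have h1 := Cfsg.Agent.Lib.Helper1.BG12.sigma_conjSub (conjSub g M) p hσ g⁻¹
    rw [conjSub_mul, inv_mul_cancel, conjSub_one] at h1
    exact hpσ h1
  · obtain ⟨A, hAH, hAe, hA2⟩ :=
      Cfsg.Agent.Lib.Helper1.BG10.exists_elemAb_sq_of_not_pRankLE_one p H
        (rank_two_of_normalizer_le hG hH hPc hNP hσ).2
    have hAM : conjSub g⁻¹ A ≤ M := by
      rw [conjSub_le_iff, inv_inv, ← hg]
      exact hAH
    have h1 := Cfsg.Agent.Lib.Helper1.BG10.pRankLE_card_le hr1 hAM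
      (Cfsg.Agent.Lib.Helper11.BenderF.elemAb_conjSub p g⁻¹ hAe)
    rw [card_conjSub, hA2, pow_one] at h1
    have h2 : p < p ^ 2 := by
      calc p = p ^ 1 := (pow_one p).symm
        _ < p ^ 2 := Nat.pow_lt_pow_right hp.out.one_lt (by norm_num)
    omega

/-- **B & G, Corollary 13.2(a)** for subgroups of prime order -/
theorem thirteen_two_a (hG : Cfsg.IsMinSimpleOddOrder G) {M H : Subgroup G} (hM : IsCoatom M)
    (hH : IsCoatom H) {p : ℕ} [hp : Fact p.Prime] (hpσ : p ∉ Cfsg.sigma M)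
    (hr1 : Cfsg.PRankLE p 1 M) {P : Subgroup G} (hPM : P ≤ M) (hPc : Nat.card P = p)
    (hNP : Subgroup.normalizer (P : Set G) ≤ H) :
    (∀ x ∈ M ⊓ H, (∃ k : ℕ, x ^ p ^ k = 1) → ∀ d ∈ Cfsg.sigmaCore M ⊓ H, x * d = d * x) ∧
      Cfsg.sigmaCore M ⊓ H = Cfsg.sigmaCore M ⊓ Subgroup.centralizer (P : Set G) := by
  have hnc := nonconj_of_normalizer_le hG hH hpσ hr1 hPc hNP
  have hPH : P ≤ H := Subgroup.le_normalizer.trans hNP
  have hpM : p ∣ Nat.card M := by rw [← hPc]; exact Subgroup.card_dvd_of_le hPM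
  have hpH : p ∣ Nat.card H := by rw [← hPc]; exact Subgroup.card_dvd_of_le hPH
  have hpτ1 : p ∉ Cfsg.tau1 H := fun h =>
    (rank_two_of_normalizer_le hG hH hPc hNP h.2.1).2 h.2.2.2.2
  have h1 := Cfsg.Agent.Lib.Helper11.ThirteenB.thirteen_one_a hG hM hH hnc hpM hpσ hpH hpτ1
  refine ⟨h1, le_antisymm (le_inf inf_le_left ?_)
    (inf_le_inf_left _ ((Subgroup.centralizer_le_normalizer _).trans hNP))⟩
  intro d hd
  rw [Subgroup.mem_centralizer_iff]
  intro x hx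
  apply h1 x ⟨hPM hx, hPH hx⟩ ⟨1, ?_⟩ d hd
  rw [pow_one, ← hPc]
  exact pow_card_eq_one_of_mem hx

/-- **B & G, Corollary 13.3(b)** (`tau3_primact_Msigma`) -/
theorem thirteen_three_b (hG : Cfsg.IsMinSimpleOddOrder G) {M E : Subgroup G} (hM : IsCoatom M)
    (hE : Cfsg.IsComplIn E (Cfsg.sigmaCore M) M) {E₃ : Subgroup G}
    (hE₃ : Cfsg.IsPiHallOf (Cfsg.tau3 M) E₃ E) {x : G} (hx : x ∈ E₃) (hx1 : x ≠ 1) :
    Cfsg.sigmaCore M ⊓ Subgroup.centralizer ({x} : Set G) ≤ Subgroup.centralizer (E₃ : Set G) := by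
  obtain ⟨-, -, h3⟩ := Cfsg.Agent.S1415.result hG M hM E hE
  obtain ⟨hcyc, hder, hnorm⟩ := h3 E₃ hE₃
  -- a power of `x` of prime order
  obtain ⟨p, hpp, hpd⟩ := Nat.exists_prime_and_dvd (show orderOf x ≠ 1 from
    fun h => hx1 (orderOf_eq_one_iff.mp h))
  haveI : Fact p.Prime := ⟨hpp⟩
  obtain ⟨m, hm⟩ := hpd
  obtain ⟨y, hy⟩ : ∃ y : G, y = x ^ m := ⟨_, rfl⟩
  have hyo : orderOf y = p := by
    rw [hy]
    have hpos : 0 < orderOf x := orderOf_pos x
    have hm0 : m ≠ 0 := by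
      rintro rfl
      rw [mul_zero] at hm
      omega
    rw [orderOf_pow' x hm0, hm, Nat.gcd_eq_right (Dvd.intro_left p rfl),
      Nat.mul_div_cancel _ (Nat.pos_of_ne_zero hm0)]
  have hyE₃ : y ∈ E₃ := by rw [hy]; exact Subgroup.pow_mem _ hx m
  have hy1 : y ≠ 1 := by
    intro h
    rw [h, orderOf_one] at hyo
    exact hpp.one_lt.ne hyo
  obtain ⟨P, hP⟩ : ∃ P : Subgroup G, P = Subgroup.zpowers y := ⟨_, rfl⟩
  have hPc : Nat.card P = p := by rw [hP, Nat.card_zpowers, hyo]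
  have hPE₃ : P ≤ E₃ := by rw [hP, Subgroup.zpowers_le]; exact hyE₃
  have hEM : E ≤ M := hE.1
  have hPM : P ≤ M := hPE₃.trans (hE₃.1.trans hEM)
  have hpτ : p ∈ Cfsg.tau3 M :=
    hE₃.2.1 p hpp (by rw [← hPc]; exact Subgroup.card_dvd_of_le hPE₃)
  have hpσ : p ∉ Cfsg.sigma M := hpτ.2.1
  have hr1 : Cfsg.PRankLE p 1 M := hpτ.2.2.2
  have hP1 : P ≠ ⊥ := by
    intro h
    rw [h, Subgroup.card_bot] at hPc
    exact hpp.one_lt.ne hPc
  have hPtop : P ≠ ⊤ := by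
    rintro h
    rw [h] at hPM
    exact hM.1 (eq_top_iff.mpr hPM)
  obtain ⟨H, hH, hNP⟩ := Cfsg.Agent.Lib.Helper11.BenderE.exists_coatom_ge _
    (Cfsg.Agent.Lib.Helper1.BG10.normalizer_ne_top hG hP1 hPtop)
  have hEH : E ≤ H :=
    (hnorm.trans (Cfsg.Agent.Lib.Helper10.SigmaJsubA.normalizer_le_of_cyclic hcyc hPE₃)).trans hNP
  have hnc := nonconj_of_normalizer_le hG hH hpσ hr1 hPc hNP
  have hCN : Subgroup.centralizer (P : Set G) ≤ H :=
    (Subgroup.centralizer_le_normalizer _).trans hNP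
  -- `C({x}) ≤ C(P)`
  have hCx : Subgroup.centralizer ({x} : Set G) ≤ Subgroup.centralizer (P : Set G) := by
    intro c hc
    have hcx : x * c = c * x := Subgroup.mem_centralizer_iff.mp hc x rfl
    rw [Subgroup.mem_centralizer_iff]
    intro z hz
    rw [hP] at hz
    obtain ⟨k, rfl⟩ := Subgroup.mem_zpowers_iff.mp hz
    rw [hy]
    exact ((Commute.pow_left (show Commute x c from hcx) m).zpow_left k).eq
  -- each Sylow subgroup of `E₃` centralizes `M_σ ∩ H`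
  have hE₃D : E₃ ≤ Subgroup.centralizer ((Cfsg.sigmaCore M ⊓ H : Subgroup G) : Set G) := by
    apply Cfsg.Agent.Lib.Helper1.sylow_le_imp_le
    intro r hr
    obtain ⟨S⟩ : Nonempty (Sylow r ↥E₃) := inferInstance
    refine ⟨S, ?_⟩
    rintro _ ⟨s, hs, rfl⟩
    by_cases hs1 : s = 1
    · rw [hs1]; exact Subgroup.one_mem _
    obtain ⟨k, hk⟩ := S.isPGroup' ⟨s, hs⟩
    have hk' : s ^ r ^ k = 1 := by
      have := congrArg Subtype.val hk
      simpa using this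
    have hsG : (s : G) ^ r ^ k = 1 := by
      have := congrArg Subtype.val hk'
      simpa using this
    have hsG1 : (s : G) ≠ 1 := fun h => hs1 (Subtype.ext h)
    have hrd : r ∣ Nat.card E₃ := by
      have ho : orderOf (s : G) ∣ r ^ k := orderOf_dvd_of_pow_eq_one hsG
      obtain ⟨j, -, hj⟩ := (Nat.dvd_prime_pow hr.out).mp ho
      have hj0 : j ≠ 0 := by
        rintro rfl
        rw [pow_zero] at hj
        exact hsG1 (orderOf_eq_one_iff.mp hj)
      have h1 : r ∣ orderOf (s : G) := by rw [hj]; exact dvd_pow_self r hj0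
      have h2 : orderOf (s : G) ∣ Nat.card E₃ := by
        rw [Subgroup.orderOf_coe s]
        exact orderOf_dvd_natCard s
      exact h1.trans h2
    have hrτ : r ∈ Cfsg.tau3 M := hE₃.2.1 r hr.out hrd
    have hrM : r ∣ Nat.card M := hrd.trans (Subgroup.card_dvd_of_le (hE₃.1.trans hEM))
    have hrH : r ∣ Nat.card H := hrd.trans (Subgroup.card_dvd_of_le (hE₃.1.trans hEH))
    have hrH' : r ∣ Nat.card ↥⁅H, H⁆ :=
      hrd.trans (Subgroup.card_dvd_of_le (hder.trans (Subgroup.commutator_mono hEH hEH)))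
    have hrτ1 : r ∉ Cfsg.tau1 H := fun h => h.2.2.2.1 hrH'
    have h1 := Cfsg.Agent.Lib.Helper11.ThirteenB.thirteen_one_a hG hM hH hnc hrM hrτ.2.1 hrH hrτ1
      (s : G) ⟨hEM (hE₃.1 s.2), hEH (hE₃.1 s.2)⟩ ⟨k, hsG⟩
    show ((E₃.subtype s : G)) ∈ _
    rw [Subgroup.mem_centralizer_iff]
    intro d hd
    exact (h1 d hd).symm
  intro d hd
  rw [Subgroup.mem_centralizer_iff]
  intro z hz
  have h1 := Subgroup.mem_centralizer_iff.mp (hE₃D hz) d ⟨hd.1, hCN (hCx hd.2)⟩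
  exact h1.symm

end Cfsg.Agent.Lib.Helper28.BGt
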