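import Mathlib
import Cfsg.Agent.Lib.helper7.BR.Defs
import Cfsg.Agent.Lib.Helper27.BRPERM1

/-!
# Project BR, piece LSTR3 (core, with LSTR1 as hypotheses) : `π(h) = |L| / q` for `h ∈ H ∖ 1`
-/

set_option autoImplicit false
set_option linter.unusedVariables false
set_option linter.unusedSectionVars false

namespace Cfsg.Agent.Lib.helper7.BR

open Classical
open Cfsg.Agent.Lib.Helper25

universe u

variable {G : Type u} [Group G] [Fintype G] {p : ℕ} [Fact p.Prime] {P : Sylow p G} {q t : ℕ}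
  {Xp Xm Y : Finset (Cfsg.IrrCharacter G)} {H : Subgroup G}

/-- the fixed points of `h ∈ H ∖ 1` on `G / N` are counted by `L × P` -/
theorem brlstr3_card_fix (hS : Setting p P q t) (hH : Compl P q H) (h : G) (hh : h ∈ H)
    (hh1 : h ≠ 1)
    (hinf : ∀ x : G, x ∈ nrmH H → x ∈ (P : Subgroup G) → x = 1)
    (hfix : ∀ x : G, x⁻¹ * h * x ∈ nrm P → ∃ l ∈ nrmH H, ∃ y ∈ (P : Subgroup G), x = l * y) :
    Nat.card {x : G // x⁻¹ * h * x ∈ nrm P} = Nat.card ↥(nrmH H) * p := by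
  have hPN : (P : Subgroup G) ≤ nrm P := Subgroup.le_normalizer
  have hprod : Nat.card (↥(nrmH H) × ↥(P : Subgroup G)) = Nat.card ↥(nrmH H) * p := by
    rw [Nat.card_prod, hS.cardP]
  rw [← hprod]
  symm
  apply Nat.card_congr
  refine Equiv.ofBijective
    (fun lp : ↥(nrmH H) × ↥(P : Subgroup G) => ⟨(lp.1 : G) * (lp.2 : G), ?_⟩) ⟨?_, ?_⟩
  · -- membership
    obtain ⟨⟨l, hl⟩, ⟨y, hy⟩⟩ := lp
    show (l * y)⁻¹ * h * (l * y) ∈ nrm P
    have hl' : l⁻¹ ∈ nrmH H := Subgroup.inv_mem _ hl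
    have h1 : l⁻¹ * h * l ∈ H := by
      have := (Subgroup.mem_normalizer_iff.mp hl' h).mp hh
      simpa using this
    have h2 : l⁻¹ * h * l ∈ nrm P := hH.le h1
    have h3 : (l * y)⁻¹ * h * (l * y) = y⁻¹ * (l⁻¹ * h * l) * y := by group
    rw [h3]
    exact Subgroup.mul_mem _ (Subgroup.mul_mem _ (Subgroup.inv_mem _ (hPN hy)) h2) (hPN hy)
  · -- injectivity
    rintro ⟨⟨l, hl⟩, ⟨y, hy⟩⟩ ⟨⟨l', hl'⟩, ⟨y', hy'⟩⟩ heq
    have heq' : l * y = l' * y' := congrArg Subtype.val heq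
    have h1 : l'⁻¹ * l = y' * y⁻¹ := by
      have : l'⁻¹ * (l * y) * y⁻¹ = l'⁻¹ * (l' * y') * y⁻¹ := by rw [heq']
      simpa [mul_assoc] using this
    have h2 : l'⁻¹ * l ∈ nrmH H := Subgroup.mul_mem _ (Subgroup.inv_mem _ hl') hl
    have h3 : l'⁻¹ * l ∈ (P : Subgroup G) := by
      rw [h1]; exact Subgroup.mul_mem _ hy' (Subgroup.inv_mem _ hy)
    have h4 : l'⁻¹ * l = 1 := hinf _ h2 h3
    have h5 : l = l' := by
      have := congrArg (fun z => l' * z) h4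
      simpa using this
    subst h5
    have h6 : y = y' := mul_left_cancel heq'
    subst h6
    rfl
  · -- surjectivity
    rintro ⟨x, hx⟩
    obtain ⟨l, hl, y, hy, rfl⟩ := hfix x hx
    exact ⟨(⟨l, hl⟩, ⟨y, hy⟩), rfl⟩

/-- LSTR3 (core) : `π(h) = |L| / q` for `h ∈ H ∖ 1`, given `L ∩ P = 1` and LSTR2 as hypotheses. -/
theorem brlstr3_core (hS : Setting p P q t) (hH : Compl P q H) (h : G) (hh : h ∈ H)
    (hh1 : h ≠ 1)
    (hinf : ∀ x : G, x ∈ nrmH H → x ∈ (P : Subgroup G) → x = 1)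
    (hfix : ∀ x : G, x⁻¹ * h * x ∈ nrm P → ∃ l ∈ nrmH H, ∃ y ∈ (P : Subgroup G), x = l * y) :
    permChar P h = (Nat.card ↥(nrmH H) : ℂ) / (q : ℂ) := by
  rw [permChar_apply, hS.cardN, brlstr3_card_fix hS hH h hh hh1 hinf hfix]
  have hp0 : (p : ℂ) ≠ 0 := by exact_mod_cast hS.prime.ne_zero
  have hq0 : (q : ℂ) ≠ 0 := by
    have := hS.hq
    exact_mod_cast (by omega : q ≠ 0)
  push_cast
  field_simp

end Cfsg.Agent.Lib.helper7.BR
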