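import Mathlib
import Cfsg.Agent.Lib.helper7.BR.Defs
import Cfsg.Agent.Lib.helper7.Induction
import Cfsg.Agent.Lib.Helper13.BRFROB0
import Cfsg.Agent.Lib.Helper1.BRFROB1
import Cfsg.Agent.Lib.Helper27.BRPERM1
import Cfsg.Agent.Lib.Helper27.BRPERM2

/-!
# Project BR, piece LSTR4 (core, with DEC4 and LSTR3 as hypotheses) : `|L| = t q`
-/

set_option autoImplicit false
set_option linter.unusedVariables false
set_option linter.unusedSectionVars false

namespace Cfsg.Agent.Lib.helper7.BR

open Classical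
open Cfsg.Agent.Lib.Helper25
open Cfsg.Agent.Lib.helper7

universe u

variable {G : Type u} [Group G] [Fintype G] {p : ℕ} [Fact p.Prime] {P : Sylow p G} {q t : ℕ}
  {Xp Xm Y : Finset (Cfsg.IrrCharacter G)} {H : Subgroup G}

/-- the permutation character is real-valued -/
theorem brlstr4_conj_perm (P : Sylow p G) (g : G) :
    (starRingEnd ℂ) (permChar P g) = permChar P g := by
  rw [permChar_apply]
  simp

/-- the permutation character is a class function -/
theorem brlstr4_perm_class (P : Sylow p G) : Cfsg.IsClassFunction G (permChar P) :=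
  h7_indFun_isClassFunction _ _

/-- `∑_{h ∈ N} π(h) = |N| ⟨π, π⟩` -/
theorem brlstr4_sum_N (P : Sylow p G) :
    ∑ h : ↥(nrm P), permChar P (h : G) =
      (Nat.card ↥(nrm P) : ℂ) * Cfsg.classInner (permChar P) (permChar P) := by
  have hfr := h7_frobenius_reciprocity (nrm P) (fun _ => (1 : ℂ)) (permChar P)
    (brlstr4_perm_class P)
  change Cfsg.classInner (permChar P) (permChar P) = _ at hfr
  rw [hfr]
  unfold Cfsg.classInner
  have hN : (Nat.card ↥(nrm P) : ℂ) ≠ 0 := by exact_mod_cast Nat.card_pos.ne'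
  rw [← mul_assoc, mul_inv_cancel₀ hN, one_mul]
  apply Finset.sum_congr rfl
  intro h _
  rw [one_mul, brlstr4_conj_perm]

/-- the value of `π` on `N ∖ P` -/
theorem brlstr4_val (hS : Setting p P q t) (hH : Compl P q H)
    (hval : ∀ h : G, h ∈ H → h ≠ 1 → permChar P h = (Nat.card ↥(nrmH H) : ℂ) / (q : ℂ))
    (g : G) (hg : g ∈ nrm P) (hgP : g ∉ (P : Subgroup G)) :
    permChar P g = (Nat.card ↥(nrmH H) : ℂ) / (q : ℂ) := by
  obtain ⟨y, hy, k, hk, rfl⟩ := frob_prod hS hH g hg
  have hk1 : k ≠ 1 := by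
    rintro rfl
    apply hgP
    simpa using hy
  have hkP : k ∉ (P : Subgroup G) := fun hkP => hk1 (compl_inf hS hH k hk hkP)
  obtain ⟨y', hy', heq⟩ := frob_coset hS k (hH.le hk) hkP y hy
  rw [heq, brlstr4_perm_class P k y']
  exact hval k hk hk1

/-- LSTR4 (core) : `|L| = t q`, given `⟨π, π⟩ = t` (DEC4) and the values of `π` on `H ∖ 1` (LSTR3). -/
theorem brlstr4_core (hS : Setting p P q t) (hH : Compl P q H)
    (hpp : Cfsg.classInner (permChar P) (permChar P) = (t : ℂ))
    (hval : ∀ h : G, h ∈ H → h ≠ 1 → permChar P h = (Nat.card ↥(nrmH H) : ℂ) / (q : ℂ)) :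
    Nat.card ↥(nrmH H) = t * q := by
  have hPN : (P : Subgroup G) ≤ nrm P := Subgroup.le_normalizer
  have hsum := brlstr4_sum_N P
  rw [hpp, hS.cardN] at hsum
  set ℓ : ℂ := (Nat.card ↥(nrmH H) : ℂ) / (q : ℂ) with hℓ
  -- rewrite the sum over `N` as a sum over `G`
  have h1 : ∑ h : ↥(nrm P), permChar P (h : G) =
      ∑ g : G, (if g ∈ nrm P then permChar P g else 0) :=
    (h7_sum_subgroup (nrm P) (fun g => permChar P g)).symm
  have h2 : ∀ g : G, (if g ∈ nrm P then permChar P g else 0) =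
      (if g ∈ nrm P then ℓ else 0) +
        (if g ∈ (P : Subgroup G) then (permChar P g - ℓ) else 0) := by
    intro g
    by_cases hgP : g ∈ (P : Subgroup G)
    · rw [if_pos (hPN hgP), if_pos (hPN hgP), if_pos hgP]; ring
    · by_cases hgN : g ∈ nrm P
      · rw [if_pos hgN, if_pos hgN, if_neg hgP, add_zero]
        exact brlstr4_val hS hH hval g hgN hgP
      · rw [if_neg hgN, if_neg hgN, if_neg hgP, add_zero]
  have h3 : ∑ g : G, (if g ∈ nrm P then ℓ else 0) = ((p * q : ℕ) : ℂ) * ℓ := by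
    rw [h7_sum_subgroup (nrm P) (fun _ => ℓ), Finset.sum_const, Finset.card_univ,
      ← Nat.card_eq_fintype_card, hS.cardN, nsmul_eq_mul]
  have h4 : ∑ g : G, (if g ∈ (P : Subgroup G) then (permChar P g - ℓ) else 0) =
      ∑ x : ↥(P : Subgroup G), (permChar P (x : G) - ℓ) :=
    h7_sum_subgroup (P : Subgroup G) (fun g => permChar P g - ℓ)
  have h5 : ∀ x : ↥(P : Subgroup G), permChar P (x : G) - ℓ =
      (1 - ℓ) + (if x = 1 then (((nrm P).index : ℂ) - 1) else 0) := by
    intro x
    by_cases hx : x = 1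
    · subst hx
      rw [if_pos rfl, Subgroup.coe_one, permChar_one]; ring
    · rw [if_neg hx, add_zero, permChar_P hS x x.2 (fun h => hx (Subtype.ext h))]
  have h6 : ∑ x : ↥(P : Subgroup G), (permChar P (x : G) - ℓ) =
      (p : ℂ) * (1 - ℓ) + (((nrm P).index : ℂ) - 1) := by
    rw [Finset.sum_congr rfl (fun x _ => h5 x), Finset.sum_add_distrib, Finset.sum_const,
      Finset.card_univ, ← Nat.card_eq_fintype_card, hS.cardP, nsmul_eq_mul,
      Finset.sum_ite_eq' Finset.univ (1 : ↥(P : Subgroup G))]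
    simp
  rw [h1, Finset.sum_congr rfl (fun g _ => h2 g), Finset.sum_add_distrib, h3, h4, h6,
    hS.index] at hsum
  -- arithmetic
  have hp0 : (p : ℂ) ≠ 0 := by exact_mod_cast hS.prime.ne_zero
  have hq2 := hS.hq
  have ht3 := hS.ht
  have hq0 : (q : ℂ) ≠ 0 := by exact_mod_cast (by omega : q ≠ 0)
  have hq1 : (q : ℂ) - 1 ≠ 0 := by
    intro h
    have : (q : ℂ) = 1 := by linear_combination h
    have : q = 1 := by exact_mod_cast this
    omega
  have ht1 : ((t - 1 : ℕ) : ℂ) = (t : ℂ) - 1 := by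
    rw [Nat.cast_sub (by omega)]; simp
  push_cast at hsum
  rw [ht1] at hsum
  have hL : (Nat.card ↥(nrmH H) : ℂ) = ℓ * q := by
    rw [hℓ]; field_simp
  have hkey : ℓ * q = (t : ℂ) * q := by
    have e1 : (p : ℂ) * ((q : ℂ) - 1) * (ℓ - t) = 0 := by linear_combination hsum
    have e2 : ℓ - t = 0 := by
      rcases mul_eq_zero.mp e1 with h | h
      · rcases mul_eq_zero.mp h with h | h
        · exact absurd h hp0
        · exact absurd h hq1
      · exact h
    have : ℓ = t := by linear_combination e2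
    rw [this]
  rw [hkey] at hL
  exact_mod_cast hL

end Cfsg.Agent.Lib.helper7.BR
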