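import Mathlib
import Cfsg.Agent.Lib.helper7.BR.Defs
import Cfsg.Agent.Lib.Helper13.BRDEC4
import Cfsg.Agent.Lib.Helper28.BRLSTR3
import Cfsg.Agent.Lib.Helper28.BRLSTR4core

/-!
# Project BR, piece LSTR4 : `|L| = t q`
-/

set_option autoImplicit false
set_option linter.unusedVariables false
set_option linter.unusedSectionVars false

namespace Cfsg.Agent.Lib.helper7.BR

open Classical
open Cfsg.Agent.Lib.Helper25

universe u

variable {G : Type u} [Group G] [Fintype G] {p : ℕ} [Fact p.Prime] {P : Sylow p G} {q t : ℕ}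
  {Xp Xm Y : Finset (Cfsg.IrrCharacter G)} {H : Subgroup G}

/-- LSTR4 : `|L| = t q`. -/
theorem card_nrmH [Fintype (Cfsg.IrrCharacter G)] (hS : Setting p P q t)
    (hD : CharData p P q t Xp Xm Y) (hH : Compl P q H) : Nat.card ↥(nrmH H) = t * q :=
  brlstr4_core hS hH (perm_decomp hS hD).2.1
    (fun h hh hh1 => permChar_H hS hD hH h hh hh1)

end Cfsg.Agent.Lib.helper7.BR
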