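import Mathlib
import Cfsg.Agent.Lib.helper15.PSL.Defs

/-!
# Project PSL, piece CARDG
-/

set_option autoImplicit false
set_option linter.unusedVariables false
set_option linter.unusedSectionVars false
open scoped ComplexConjugate
open Classical

namespace Cfsg.Agent.Lib.helper15.PSL

open Cfsg.Agent.Lib.helper7 Cfsg.Agent.Lib.helper7.BR Cfsg.Agent.Lib.helper2 Cfsg.Agent.Lib.Helper25
  Cfsg.Agent.Lib.Helper29 Cfsg.Agent.Lib.helper15.BH

universe u

variable {G : Type u} [Group G] [Fintype G] {p : ℕ} [Fact p.Prime]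

/-- CARDG : the order of `G` -/
theorem card_G {f : ℕ} {P : Sylow p G} (hL : Loc p f P) :
    Nat.card G = (nrm P).index * f * p * Nat.card ↥(Subgroup.center G) := by
  have hCN : cen P ≤ nrm P := Subgroup.centralizer_le_normalizer _
  have h1 := Subgroup.card_mul_index (cen P)
  have h2 := Subgroup.relIndex_mul_index hCN
  rw [← h1, ← h2, hL.relIndex, hL.cardC]
  ring

end Cfsg.Agent.Lib.helper15.PSL
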