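import Mathlib
import Cfsg.Agent.Lib.helper7.BR.Defs

/-!
# Project BR, piece N1a : the kernel of the action on the Sylow `p`-subgroups
-/

set_option autoImplicit false
set_option linter.unusedVariables false
set_option linter.unusedSectionVars false

namespace Cfsg.Agent.Lib.helper7.BR

open Classical

universe u

variable {G : Type u} [Group G] [Fintype G] {p : ℕ} [Fact p.Prime]

/-- N1a : the kernel of the action on the Sylow `p`-subgroups is a `p'`-subgroup of `N_G(P)`
(if `p ∣ |K|` then `K ⊴ G` contains every Sylow `p`-subgroup, so `P` normalizes, hence equals, each of them). -/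
theorem sylow_kernel (P : Sylow p G) (hP : Nat.card ↥(P : Subgroup G) = p)
    (hPn : ¬ (P : Subgroup G).Normal) :
    (MulAction.toPermHom G (Sylow p G)).ker ≤ nrm P ∧
      ¬ p ∣ Nat.card ↥(MulAction.toPermHom G (Sylow p G)).ker := by
  have hpp : p.Prime := Fact.out
  have hfix : ∀ k ∈ (MulAction.toPermHom G (Sylow p G)).ker, ∀ Q : Sylow p G, k • Q = Q := by
    intro k hk Q
    rw [MonoidHom.mem_ker] at hk
    have := congrArg (fun σ : Equiv.Perm (Sylow p G) => σ Q) hk
    simpa using this
  refine ⟨?_, ?_⟩
  · intro k hk
    exact Sylow.smul_eq_iff_mem_normalizer.mp (hfix k hk P)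
  · intro hdvd
    -- an element of order `p` in the kernel
    obtain ⟨x, hx⟩ := exists_prime_orderOf_dvd_card' p hdvd
    have hxk : (x : G) ∈ (MulAction.toPermHom G (Sylow p G)).ker := x.2
    have hxo : orderOf (x : G) = p := (Subgroup.orderOf_coe x).trans hx
    -- the subgroup it generates is a `p`-group fixing every Sylow subgroup
    have hZ : IsPGroup p (Subgroup.zpowers (x : G)) := by
      apply IsPGroup.of_card (n := 1)
      rw [Nat.card_zpowers, hxo, pow_one]
    have hle : ∀ Q : Sylow p G, Subgroup.zpowers (x : G) ≤ (Q : Subgroup G) := by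
      intro Q
      rw [← hZ.sylow_mem_fixedPoints_iff]
      intro z
      obtain ⟨z, hz⟩ := z
      obtain ⟨m, rfl⟩ := Subgroup.mem_zpowers_iff.mp hz
      have : (x : G) ^ m ∈ (MulAction.toPermHom G (Sylow p G)).ker := Subgroup.zpow_mem _ hxk m
      exact hfix _ this Q
    -- it equals `P`
    have hPZ : (P : Subgroup G) = Subgroup.zpowers (x : G) := by
      symm
      apply Subgroup.eq_of_le_of_card_ge (hle P)
      rw [Nat.card_zpowers, hxo, hP]
    -- hence `P` lies in, and equals, every Sylow subgroup
    have hall : ∀ Q : Sylow p G, Q = P := by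
      intro Q
      apply Sylow.ext
      have h1 : (P : Subgroup G) ≤ (Q : Subgroup G) := by rw [hPZ]; exact hle Q
      exact P.is_maximal' Q.isPGroup' h1
    apply hPn
    have : Subsingleton (Sylow p G) := ⟨fun A B => by rw [hall A, hall B]⟩
    exact Sylow.normal_of_subsingleton P

end Cfsg.Agent.Lib.helper7.BR
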