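import Mathlib
import Cfsg.Agent.Lib.helper7.BR.Defs

/-!
# Project BR, piece N1b : `PGL(2, p)` is not perfect for an odd prime `p`
-/

set_option autoImplicit false
set_option linter.unusedVariables false
set_option linter.unusedSectionVars false

namespace Cfsg.Agent.Lib.helper7.BR

open Classical

universe u

variable {p : ℕ} [Fact p.Prime]

/-- the subgroup of squares of the units of `ZMod p` -/
def brn1b_sq (p : ℕ) : Subgroup (ZMod p)ˣ := (powMonoidHom 2 : (ZMod p)ˣ →* (ZMod p)ˣ).range

/-- determinant modulo squares on `GL(2, p)` -/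
noncomputable def brn1b_detq (p : ℕ) : GL (Fin 2) (ZMod p) →* (ZMod p)ˣ ⧸ brn1b_sq p :=
  (QuotientGroup.mk' (brn1b_sq p)).comp Matrix.GeneralLinearGroup.det

theorem brn1b_center_le (p : ℕ) : Subgroup.center (GL (Fin 2) (ZMod p)) ≤ (brn1b_detq p).ker := by
  intro g hg
  rw [Matrix.GeneralLinearGroup.center_eq_range_scalar] at hg
  obtain ⟨u, rfl⟩ := hg
  rw [MonoidHom.mem_ker, brn1b_detq, MonoidHom.comp_apply, QuotientGroup.mk'_apply,
    QuotientGroup.eq_one_iff]
  refine ⟨u, ?_⟩
  apply Units.ext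
  simp [Matrix.GeneralLinearGroup.scalar, Matrix.det_diagonal, pow_two]

/-- N1b : `PGL(2, p)` is not perfect for an odd prime `p` (determinant modulo squares). -/
theorem pgl_not_perfect (hp2 : p ≠ 2) :
    commutator (Matrix.ProjGenLinGroup (Fin 2) (ZMod p)) ≠ ⊤ := by
  intro htop
  -- every element of `GL` is a commutator product times a central element
  have hmap : (commutator (GL (Fin 2) (ZMod p))).map
      (Matrix.ProjGenLinGroup.mk (n := Fin 2) (R := ZMod p)) =
      commutator (Matrix.ProjGenLinGroup (Fin 2) (ZMod p)) := by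
    rw [commutator_def, commutator_def, Subgroup.map_commutator]
    have : (⊤ : Subgroup (GL (Fin 2) (ZMod p))).map
        (Matrix.ProjGenLinGroup.mk (n := Fin 2) (R := ZMod p)) = ⊤ := by
      rw [← MonoidHom.range_eq_map, MonoidHom.range_eq_top]
      exact Matrix.ProjGenLinGroup.mk_surjective
    rw [this]
  have hall : ∀ g : GL (Fin 2) (ZMod p), brn1b_detq p g = 1 := by
    intro g
    have hg : Matrix.ProjGenLinGroup.mk g ∈
        (commutator (GL (Fin 2) (ZMod p))).map
          (Matrix.ProjGenLinGroup.mk (n := Fin 2) (R := ZMod p)) := by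
      rw [hmap, htop]; exact Subgroup.mem_top _
    obtain ⟨c, hc, hcg⟩ := Subgroup.mem_map.mp hg
    obtain ⟨z, hz, hzc⟩ := Matrix.ProjGenLinGroup.mk_eq_mk_iff'.mp hcg
    have h1 : brn1b_detq p c = 1 := by
      have hle : commutator (GL (Fin 2) (ZMod p)) ≤ (brn1b_detq p).ker := by
        rw [commutator_def, Subgroup.commutator_le]
        intro x _ y _
        rw [MonoidHom.mem_ker, map_commutatorElement, commutatorElement_eq_one_iff_commute]
        obtain ⟨a, ha⟩ := QuotientGroup.mk_surjective (brn1b_detq p x)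
        obtain ⟨b, hb⟩ := QuotientGroup.mk_surjective (brn1b_detq p y)
        rw [← ha, ← hb]
        show (a : (ZMod p)ˣ ⧸ brn1b_sq p) * b = b * a
        rw [← QuotientGroup.mk_mul, ← QuotientGroup.mk_mul, mul_comm]
      exact hle hc
    have h2 : brn1b_detq p z = 1 := brn1b_center_le p hz
    rw [← hzc, map_mul, h1, h2, one_mul]
  -- a non-square
  have hchar : ringChar (ZMod p) ≠ 2 := by
    rw [ZMod.ringChar_zmod_n]; exact hp2
  obtain ⟨a, ha⟩ := FiniteField.exists_nonsquare hchar
  have ha0 : a ≠ 0 := by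
    rintro rfl
    exact ha ⟨0, by simp⟩
  -- the matrix `diag(a, 1)`
  let D : Matrix (Fin 2) (Fin 2) (ZMod p) := Matrix.diagonal ![a, 1]
  have hD : D.det = a := by
    simp [D, Matrix.det_diagonal]
  let g : GL (Fin 2) (ZMod p) := Matrix.GeneralLinearGroup.mkOfDetNeZero D (by rw [hD]; exact ha0)
  have hg' : brn1b_detq p g = 1 := hall g
  rw [brn1b_detq, MonoidHom.comp_apply, QuotientGroup.mk'_apply, QuotientGroup.eq_one_iff] at hg'
  obtain ⟨v, hv⟩ := hg'
  apply ha
  refine ⟨(v : ZMod p), ?_⟩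
  have h1 : ((Matrix.GeneralLinearGroup.det g : (ZMod p)ˣ) : ZMod p) = a := by
    rw [Matrix.GeneralLinearGroup.val_det_apply]
    exact hD
  rw [← h1, ← hv]
  simp [pow_two]

end Cfsg.Agent.Lib.helper7.BR
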