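import Mathlib
import Cfsg.Prelude.Def_Perm
import Cfsg.Agent.Lib.helper7.BR.Defs

/-!
# Project BR, piece N1c : a perfect subgroup of the semi-affine group of a finite field is trivial
-/

set_option autoImplicit false
set_option linter.unusedVariables false
set_option linter.unusedSectionVars false

namespace Cfsg.Agent.Lib.helper7.BR

open Classical

/-- ring automorphisms of a finite field commute -/
theorem brn1c_ringAut_comm {F : Type} [Field F] [Finite F] (φ ψ : F ≃+* F) (x : F) :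
    φ (ψ x) = ψ (φ x) := by
  haveI := Fintype.ofFinite F
  obtain ⟨g, hg⟩ := IsCyclic.exists_generator (α := Fˣ)
  -- images of the generator are powers of it
  have hφ : ∃ a : ℤ, φ (g : F) = ((g ^ a : Fˣ) : F) := by
    have hu : IsUnit (φ (g : F)) := (g.isUnit).map φ
    obtain ⟨u, hu'⟩ := hu
    obtain ⟨a, ha⟩ := Subgroup.mem_zpowers_iff.mp (hg u)
    exact ⟨a, by rw [← hu', ← ha]⟩
  have hψ : ∃ b : ℤ, ψ (g : F) = ((g ^ b : Fˣ) : F) := by
    have hu : IsUnit (ψ (g : F)) := (g.isUnit).map ψ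
    obtain ⟨u, hu'⟩ := hu
    obtain ⟨b, hb⟩ := Subgroup.mem_zpowers_iff.mp (hg u)
    exact ⟨b, by rw [← hu', ← hb]⟩
  obtain ⟨a, ha⟩ := hφ
  obtain ⟨b, hb⟩ := hψ
  by_cases hx : x = 0
  · subst hx; simp
  · obtain ⟨u, rfl⟩ : ∃ u : Fˣ, (u : F) = x := ⟨Units.mk0 x hx, rfl⟩
    obtain ⟨k, rfl⟩ := Subgroup.mem_zpowers_iff.mp (hg u)
    have e1 : ∀ (θ : F ≃+* F) (m : ℤ), θ ((g ^ m : Fˣ) : F) = (((Units.map (θ : F →* F) g) ^ m : Fˣ) : F) := by
      intro θ m
      have : θ ((g ^ m : Fˣ) : F) = ((Units.map (θ : F →* F) (g ^ m) : Fˣ) : F) := rfl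
      rw [this, map_zpow]
    have hφg : Units.map (φ : F →* F) g = g ^ a := by
      apply Units.ext; exact ha
    have hψg : Units.map (ψ : F →* F) g = g ^ b := by
      apply Units.ext; exact hb
    rw [e1 ψ k, hψg, ← zpow_mul, e1 φ (b * k), hφg, ← zpow_mul, e1 φ k, hφg, ← zpow_mul,
      e1 ψ (a * k), hψg, ← zpow_mul]
    congr 2
    ring

/-- `σ` has linear part `a` and field-automorphism part `φ` -/
def brn1c_R1 {F : Type} [Field F] (σ : Equiv.Perm F) (φ : F ≃+* F) : Prop :=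
  ∃ a : Fˣ, ∃ b : F, ∀ x, σ x = (a : F) * φ x + b

theorem brn1c_R1_mul {F : Type} [Field F] {σ τ : Equiv.Perm F} {φ ψ : F ≃+* F}
    (h1 : brn1c_R1 σ φ) (h2 : brn1c_R1 τ ψ) : brn1c_R1 (σ * τ) (ψ.trans φ) := by
  obtain ⟨a, b, hσ⟩ := h1
  obtain ⟨c, d, hτ⟩ := h2
  refine ⟨a * Units.map (φ : F →* F) c, (a : F) * φ d + b, fun x => ?_⟩
  simp only [Equiv.Perm.coe_mul, Function.comp_apply, hτ, hσ, Units.val_mul, Units.coe_map,
    MonoidHom.coe_coe, RingEquiv.coe_trans, map_add, map_mul, mul_add, mul_assoc, add_assoc]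

theorem brn1c_R1_inv {F : Type} [Field F] {σ : Equiv.Perm F} {φ : F ≃+* F}
    (h1 : brn1c_R1 σ φ) : brn1c_R1 σ⁻¹ φ.symm := by
  obtain ⟨a, b, hσ⟩ := h1
  refine ⟨Units.map (φ.symm : F →* F) a⁻¹, -(φ.symm (((a⁻¹ : Fˣ) : F) * b)), fun x => ?_⟩
  apply σ.injective
  rw [Equiv.Perm.inv_def, Equiv.apply_symm_apply, hσ]
  simp only [Units.coe_map, MonoidHom.coe_coe, ← map_mul, ← map_neg, ← map_add,
    RingEquiv.apply_symm_apply, mul_add, ← mul_assoc, Units.mul_inv, one_mul, mul_neg,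
    neg_add_cancel_right]

/-- `σ` is affine with linear part `a` -/
def brn1c_R2 {F : Type} [Field F] (σ : Equiv.Perm F) (a : Fˣ) : Prop :=
  ∃ b : F, ∀ x, σ x = (a : F) * x + b

theorem brn1c_R2_mul {F : Type} [Field F] {σ τ : Equiv.Perm F} {a c : Fˣ}
    (h1 : brn1c_R2 σ a) (h2 : brn1c_R2 τ c) : brn1c_R2 (σ * τ) (a * c) := by
  obtain ⟨b, hσ⟩ := h1
  obtain ⟨d, hτ⟩ := h2
  refine ⟨(a : F) * d + b, fun x => ?_⟩
  simp only [Equiv.Perm.coe_mul, Function.comp_apply, hτ, hσ, Units.val_mul]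
  ring

theorem brn1c_R2_inv {F : Type} [Field F] {σ : Equiv.Perm F} {a : Fˣ}
    (h1 : brn1c_R2 σ a) : brn1c_R2 σ⁻¹ a⁻¹ := by
  obtain ⟨b, hσ⟩ := h1
  refine ⟨-(((a⁻¹ : Fˣ) : F) * b), fun x => ?_⟩
  apply σ.injective
  rw [Equiv.Perm.inv_def, Equiv.apply_symm_apply, hσ]
  have : (a : F) * ((a⁻¹ : Fˣ) : F) = 1 := by rw [← Units.val_mul, mul_inv_cancel, Units.val_one]
  linear_combination (-(x - b)) * this

/-- `σ` is the translation by `b` -/
def brn1c_R3 {F : Type} [Field F] (σ : Equiv.Perm F) (b : F) : Prop :=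
  ∀ x, σ x = x + b

theorem brn1c_R3_mul {F : Type} [Field F] {σ τ : Equiv.Perm F} {b d : F}
    (h1 : brn1c_R3 σ b) (h2 : brn1c_R3 τ d) : brn1c_R3 (σ * τ) (d + b) := by
  intro x
  simp only [Equiv.Perm.coe_mul, Function.comp_apply, h2 x, h1 (x + d)]
  ring

theorem brn1c_R3_inv {F : Type} [Field F] {σ : Equiv.Perm F} {b : F}
    (h1 : brn1c_R3 σ b) : brn1c_R3 σ⁻¹ (-b) := by
  intro x
  apply σ.injective
  rw [Equiv.Perm.inv_def, Equiv.apply_symm_apply, h1]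
  ring

/-- general principle: a perfect group lies in every subgroup containing all commutators -/
theorem brn1c_le_of_comm {Γ : Type*} [Group Γ] (H S : Subgroup Γ) (hperf : commutator ↥H = ⊤)
    (hS : ∀ x ∈ H, ∀ y ∈ H, x * y * x⁻¹ * y⁻¹ ∈ S) : H ≤ S := by
  have h1 : commutator ↥H ≤ S.subgroupOf H := by
    rw [commutator_def, Subgroup.commutator_le]
    intro x _ y _
    rw [Subgroup.mem_subgroupOf]
    have := hS x x.2 y y.2
    simpa [commutatorElement_def] using this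
  rw [hperf] at h1
  intro x hx
  have := h1 (Subgroup.mem_top (⟨x, hx⟩ : ↥H))
  rwa [Subgroup.mem_subgroupOf] at this

/-- N1c : a perfect subgroup of the semi-affine group of a finite field is trivial
(`σ ↦ φ_σ` is a homomorphism onto a group of field automorphisms, abelian for a finite field,
with kernel the affine group; `σ ↦ a_σ` on the affine group has kernel the translations). -/
theorem semiaffine_perfect_bot {F : Type} [Field F] [Finite F] (H : Subgroup (Equiv.Perm F))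
    (hH : H ≤ Cfsg.semiaffineGroup F) (hperf : commutator ↥H = ⊤) : H = ⊥ := by
  -- the subgroups of affine maps and of translations
  let A : Subgroup (Equiv.Perm F) :=
    { carrier := {σ | ∃ a : Fˣ, brn1c_R2 σ a}
      one_mem' := ⟨1, 0, fun x => by simp⟩
      mul_mem' := by
        rintro σ τ ⟨a, h1⟩ ⟨c, h2⟩
        exact ⟨a * c, brn1c_R2_mul h1 h2⟩
      inv_mem' := by
        rintro σ ⟨a, h1⟩
        exact ⟨a⁻¹, brn1c_R2_inv h1⟩ }
  let T : Subgroup (Equiv.Perm F) :=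
    { carrier := {σ | ∃ b : F, brn1c_R3 σ b}
      one_mem' := ⟨0, fun x => by simp⟩
      mul_mem' := by
        rintro σ τ ⟨b, h1⟩ ⟨d, h2⟩
        exact ⟨d + b, brn1c_R3_mul h1 h2⟩
      inv_mem' := by
        rintro σ ⟨b, h1⟩
        exact ⟨-b, brn1c_R3_inv h1⟩ }
  have hsemi : ∀ σ ∈ H, ∃ φ : F ≃+* F, brn1c_R1 σ φ := by
    intro σ hσ
    obtain ⟨a, b, φ, h⟩ := hH hσ
    exact ⟨φ, a, b, h⟩
  -- step 1 : `H ≤ A`
  have h1 : H ≤ A := by
    apply brn1c_le_of_comm H A hperf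
    intro x hx y hy
    obtain ⟨φ, hφ⟩ := hsemi x hx
    obtain ⟨ψ, hψ⟩ := hsemi y hy
    have hc := brn1c_R1_mul (brn1c_R1_mul (brn1c_R1_mul hφ hψ) (brn1c_R1_inv hφ)) (brn1c_R1_inv hψ)
    obtain ⟨a, b, hab⟩ := hc
    refine ⟨a, b, fun z => ?_⟩
    rw [hab z]
    congr 2
    simp only [RingEquiv.coe_trans, Function.comp_apply]
    rw [← brn1c_ringAut_comm ψ φ, RingEquiv.apply_symm_apply, RingEquiv.apply_symm_apply]
  -- step 2 : `H ≤ T`
  have h2 : H ≤ T := by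
    apply brn1c_le_of_comm H T hperf
    intro x hx y hy
    obtain ⟨a, ha⟩ := h1 hx
    obtain ⟨c, hc⟩ := h1 hy
    have hcm := brn1c_R2_mul (brn1c_R2_mul (brn1c_R2_mul ha hc) (brn1c_R2_inv ha)) (brn1c_R2_inv hc)
    have e : a * c * a⁻¹ * c⁻¹ = 1 := by
      rw [mul_comm a c, mul_assoc c a, mul_inv_cancel, mul_one, mul_inv_cancel]
    rw [e] at hcm
    obtain ⟨b, hb⟩ := hcm
    exact ⟨b, fun z => by rw [hb z, Units.val_one, one_mul]⟩
  -- step 3 : `H ≤ ⊥`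
  have h3 : H ≤ ⊥ := by
    apply brn1c_le_of_comm H ⊥ hperf
    intro x hx y hy
    obtain ⟨b, hb⟩ := h2 hx
    obtain ⟨d, hd⟩ := h2 hy
    have hcm := brn1c_R3_mul (brn1c_R3_mul (brn1c_R3_mul hb hd) (brn1c_R3_inv hb)) (brn1c_R3_inv hd)
    rw [Subgroup.mem_bot]
    ext z
    rw [hcm z, Equiv.Perm.coe_one, id]
    ring
  exact le_bot_iff.mp h3

end Cfsg.Agent.Lib.helper7.BR
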