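import Mathlib
import Cfsg.Agent.Lib.helper15.PSL.Defs
import Cfsg.Agent.Lib.Helper25.CharOrth
import Cfsg.Agent.Lib.Helper21.PSLFOUR
import Cfsg.Agent.Lib.helper23.BRCLS

/-!
# Project PSL, piece COMPLETE
-/

set_option autoImplicit false
set_option linter.unusedVariables false
set_option linter.unusedSectionVars false
open scoped ComplexConjugate
open Classical

namespace Cfsg.Agent.Lib.helper15.PSL

open Cfsg.Agent.Lib.helper7 Cfsg.Agent.Lib.helper7.BR Cfsg.Agent.Lib.helper2 Cfsg.Agent.Lib.Helper25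
  Cfsg.Agent.Lib.Helper29 Cfsg.Agent.Lib.helper15.BH

universe u

variable {G : Type u} [Group G] [Fintype G] {p : ℕ} [Fact p.Prime]

/-- the centre is a `p'`-group -/
theorem pslcomplete_center_p' {f : ℕ} {P : Sylow p G} (hL : Loc p f P) :
    ¬ p ∣ Nat.card ↥(Subgroup.center G) := by
  intro hdvd
  -- an element of order `p` in the centre
  obtain ⟨z, hz⟩ := exists_prime_orderOf_dvd_card' (G := ↥(Subgroup.center G)) p hdvd
  -- `zpowers z` is a `p`-subgroup of `G`, contained in a conjugate of `P`; being central it is in `P`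
  have hzG : orderOf (z : G) = p := by
    rw [← hz]; exact Subgroup.orderOf_coe z
  have hpg : IsPGroup p (Subgroup.zpowers (z : G)) := by
    apply IsPGroup.of_card (n := 1)
    rw [Nat.card_zpowers, hzG, pow_one]
  obtain ⟨g, hg⟩ := hpg.exists_le_sylow
  obtain ⟨k, hk⟩ := MulAction.exists_smul_eq G g P
  have hzP : (z : G) ∈ (P : Subgroup G) := by
    have h1 : (z : G) ∈ (g : Subgroup G) := hg (Subgroup.mem_zpowers _)
    have h2 : (z : G) ∈ ((k • g : Sylow p G) : Subgroup G) := by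
      rw [Sylow.coe_subgroup_smul, Subgroup.mem_pointwise_smul_iff_inv_smul_mem]
      have : (MulAut.conj k)⁻¹ • (z : G) = (z : G) := by
        rw [MulAut.smul_def, MulAut.conj_inv_apply]
        have := Subgroup.mem_center_iff.mp z.2 k⁻¹
        rw [this]; group
      rw [this]; exact h1
    rw [hk] at h2
    exact h2
  -- `P = zpowers z` is central, hence normal
  have hPz : (P : Subgroup G) = Subgroup.zpowers (z : G) := by
    symm
    apply Subgroup.eq_of_le_of_card_ge
    · rw [Subgroup.zpowers_le]; exact hzP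
    · rw [hL.cardP, Nat.card_zpowers, hzG]
  apply hL.not_normal
  rw [hPz]
  constructor
  intro n hn g
  obtain ⟨m, rfl⟩ := Subgroup.mem_zpowers_iff.mp hn
  have hc : (z : G) ^ m ∈ Subgroup.center G := Subgroup.zpow_mem _ z.2 m
  have := Subgroup.mem_center_iff.mp hc g
  rw [this]
  simp [Subgroup.mem_zpowers_iff]

/-- `a ζ ~ a` forces `ζ = 1` -/
theorem pslcomplete_conj {f : ℕ} {P : Sylow p G} (hL : Loc p f P) (a : G)
    (ha : a ∈ (P : Subgroup G)) (ζ : G) (hζ : ζ ∈ Subgroup.center G) (hc : IsConj (a * ζ) a) :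
    ζ = 1 := by
  have hap : a ^ p = 1 := by
    have h1 : (⟨a, ha⟩ : ↥(P : Subgroup G)) ^ Nat.card ↥(P : Subgroup G) = 1 := pow_card_eq_one'
    rw [hL.cardP] at h1
    have := congrArg Subtype.val h1
    simpa using this
  obtain ⟨g, hg⟩ := isConj_iff.mp hc
  -- `(a ζ)^p = ζ^p` and `(a ζ)^p` is conjugate to `a^p = 1`
  have h1 : (a * ζ) ^ p = ζ ^ p := by
    have hcomm : Commute a ζ := Subgroup.mem_center_iff.mp hζ a
    rw [hcomm.mul_pow, hap, one_mul]
  have h2 : (a * ζ) ^ p = 1 := by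
    have : g * (a * ζ) ^ p * g⁻¹ = a ^ p := by
      rw [← conj_pow, hg]
    rw [hap] at this
    have h3 : (a * ζ) ^ p = g⁻¹ * 1 * g := by
      rw [← this]; group
    rw [h3]; group
  rw [h1] at h2
  -- `ζ` is a `p'`-element with `ζ^p = 1`
  have hcop := pslcomplete_center_p' hL
  have hord : orderOf ζ ∣ p := orderOf_dvd_of_pow_eq_one h2
  have hord2 : orderOf ζ ∣ Nat.card ↥(Subgroup.center G) := by
    have := orderOf_dvd_natCard (⟨ζ, hζ⟩ : ↥(Subgroup.center G))
    rwa [← Subgroup.orderOf_coe] at this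
  rcases (Nat.dvd_prime (Fact.out : p.Prime)).mp hord with h | h
  · exact orderOf_eq_one_iff.mp h
  · exfalso; apply hcop; rw [← h]; exact hord2

/-- COMPLETE : column orthogonality for the characters with a given central character -/
theorem complete [Fintype (Cfsg.IrrCharacter G)] {f : ℕ} {P : Sylow p G} (hL : Loc p f P)
    (χ₀ : Cfsg.IrrCharacter G) (a : G) (ha : a ∈ (P : Subgroup G)) (ha1 : a ≠ 1) :
    ∑ ξ ∈ Finset.univ.filter (SameCC χ₀), (ξ : G → ℂ) a * conj ((ξ : G → ℂ) a) = (p : ℂ) := by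
  set v : ℂ := (Nat.card ↥(Subgroup.center G) : ℂ) with hv
  have hv0 : v ≠ 0 := by
    rw [hv]; exact_mod_cast Nat.card_pos.ne'
  -- the double sum, computed in two ways
  have hcol : ∀ ζ : ↥(Subgroup.center G),
      ∑ ξ : Cfsg.IrrCharacter G, (ξ : G → ℂ) a * conj ((ξ : G → ℂ) (a * (ζ : G))) =
        if ζ = 1 then (p : ℂ) * v else 0 := by
    intro ζ
    rw [irr_column_orthogonality a (a * (ζ : G))]
    by_cases hζ : ζ = 1
    · rw [if_pos hζ, hζ, Subgroup.coe_one, mul_one, if_pos (IsConj.refl a),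
        centralizer_eq_cen P hL.cardP a ha ha1, hL.cardC]
      push_cast
      rfl
    · rw [if_neg hζ, if_neg]
      intro hc
      apply hζ
      apply Subtype.ext
      rw [Subgroup.coe_one]
      exact pslcomplete_conj hL a ha (ζ : G) ζ.2 hc
  have h1 : ∑ ζ : ↥(Subgroup.center G), ((χ₀ : G → ℂ) (ζ : G) / (χ₀ : G → ℂ) 1) *
      ∑ ξ : Cfsg.IrrCharacter G, (ξ : G → ℂ) a * conj ((ξ : G → ℂ) (a * (ζ : G))) = (p : ℂ) * v := by
    simp only [hcol, mul_ite, mul_zero, Finset.sum_ite_eq', Finset.mem_univ, if_true]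
    rw [Subgroup.coe_one, div_self (irr_one_ne_zero χ₀), one_mul]
  have h2 : ∑ ζ : ↥(Subgroup.center G), ((χ₀ : G → ℂ) (ζ : G) / (χ₀ : G → ℂ) 1) *
      ∑ ξ : Cfsg.IrrCharacter G, (ξ : G → ℂ) a * conj ((ξ : G → ℂ) (a * (ζ : G))) =
      v * ∑ ξ ∈ Finset.univ.filter (SameCC χ₀), (ξ : G → ℂ) a * conj ((ξ : G → ℂ) a) := by
    simp only [Finset.mul_sum]
    rw [Finset.sum_comm]
    rw [Finset.sum_filter]
    refine Finset.sum_congr rfl fun ξ _ => ?_
    have := center_fourier χ₀ ξ a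
    calc ∑ ζ : ↥(Subgroup.center G), (χ₀ : G → ℂ) (ζ : G) / (χ₀ : G → ℂ) 1 *
          ((ξ : G → ℂ) a * conj ((ξ : G → ℂ) (a * (ζ : G))))
        = (ξ : G → ℂ) a * ∑ ζ : ↥(Subgroup.center G), (χ₀ : G → ℂ) (ζ : G) / (χ₀ : G → ℂ) 1 *
          conj ((ξ : G → ℂ) (a * (ζ : G))) := by
          rw [Finset.mul_sum]
          refine Finset.sum_congr rfl fun ζ _ => ?_
          ring
      _ = _ := by
          rw [this]
          split_ifs
          · ring
          · simp
  rw [h1] at h2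
  have h3 : v * (p : ℂ) = v * ∑ ξ ∈ Finset.univ.filter (SameCC χ₀),
      (ξ : G → ℂ) a * conj ((ξ : G → ℂ) a) := by
    rw [← h2]; ring
  exact (mul_left_cancel₀ hv0 h3).symm

end Cfsg.Agent.Lib.helper15.PSL
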