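import Mathlib
import Cfsg.Agent.Lib.helper15.PSL.Defs
import Cfsg.Agent.Lib.Helper28.PSLCOMPLETE

/-!
# Project PSL, piece VANISH
-/

set_option autoImplicit false
set_option linter.unusedVariables false
set_option linter.unusedSectionVars false
open scoped ComplexConjugate
open Classical

namespace Cfsg.Agent.Lib.helper15.PSL

open Cfsg.Agent.Lib.helper7 Cfsg.Agent.Lib.helper7.BR Cfsg.Agent.Lib.helper2 Cfsg.Agent.Lib.Helper25
  Cfsg.Agent.Lib.Helper29 Cfsg.Agent.Lib.helper15.BH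

universe u

variable {G : Type u} [Group G] [Fintype G] {p : ℕ} [Fact p.Prime]

/-- VANISH : a set of characters which exhausts the column sum -/
theorem vanish_of_complete [Fintype (Cfsg.IrrCharacter G)] {f : ℕ} {P : Sylow p G}
    (hL : Loc p f P) (χ₀ : Cfsg.IrrCharacter G) (a : G) (ha : a ∈ (P : Subgroup G)) (ha1 : a ≠ 1)
    (S : Finset (Cfsg.IrrCharacter G)) (hS : ∀ ξ ∈ S, SameCC χ₀ ξ)
    (hsum : ∑ ξ ∈ S, (ξ : G → ℂ) a * conj ((ξ : G → ℂ) a) = (p : ℂ)) :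
    ∀ ξ : Cfsg.IrrCharacter G, SameCC χ₀ ξ → ξ ∉ S → (ξ : G → ℂ) a = 0 := by
  intro ξ₀ hξ₀ hξ₀S
  have hsub : S ⊆ Finset.univ.filter (SameCC χ₀) := by
    intro ξ hξ
    rw [Finset.mem_filter]
    exact ⟨Finset.mem_univ _, hS ξ hξ⟩
  have hc := complete hL χ₀ a ha ha1
  rw [← Finset.sum_sdiff hsub, hsum] at hc
  have h0 : ∑ ξ ∈ Finset.univ.filter (SameCC χ₀) \ S,
      (ξ : G → ℂ) a * conj ((ξ : G → ℂ) a) = 0 := by
    have := add_eq_right.mp hc
    exact this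
  -- real version
  have h1 : ∑ ξ ∈ Finset.univ.filter (SameCC χ₀) \ S, Complex.normSq ((ξ : G → ℂ) a) = 0 := by
    have h2 : ((∑ ξ ∈ Finset.univ.filter (SameCC χ₀) \ S,
        Complex.normSq ((ξ : G → ℂ) a) : ℝ) : ℂ) = 0 := by
      rw [Complex.ofReal_sum, ← h0]
      refine Finset.sum_congr rfl fun ξ _ => ?_
      rw [Complex.mul_conj]
    exact_mod_cast h2
  have hmem : ξ₀ ∈ Finset.univ.filter (SameCC χ₀) \ S := by
    rw [Finset.mem_sdiff, Finset.mem_filter]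
    exact ⟨⟨Finset.mem_univ _, hξ₀⟩, hξ₀S⟩
  have h3 : Complex.normSq ((ξ₀ : G → ℂ) a) = 0 :=
    (Finset.sum_eq_zero_iff_of_nonneg (s := Finset.univ.filter (SameCC χ₀) \ S)
      (f := fun ξ : Cfsg.IrrCharacter G => Complex.normSq ((ξ : G → ℂ) a))
      (fun ξ _ => Complex.normSq_nonneg ((ξ : G → ℂ) a))).mp h1 ξ₀ hmem
  exact Complex.normSq_eq_zero.mp h3

end Cfsg.Agent.Lib.helper15.PSL
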