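import Mathlib
import Cfsg.Agent.Lib.helper15.PSL.Defs

/-!
# Project PSL, piece MOMFIN
-/

set_option autoImplicit false
set_option linter.unusedVariables false
set_option linter.unusedSectionVars false
open scoped ComplexConjugate
open Classical

namespace Cfsg.Agent.Lib.helper15.PSL

open Cfsg.Agent.Lib.helper7 Cfsg.Agent.Lib.helper7.BR Cfsg.Agent.Lib.helper2 Cfsg.Agent.Lib.Helper25
  Cfsg.Agent.Lib.Helper29 Cfsg.Agent.Lib.helper15.BH

universe u

variable {G : Type u} [Group G] [Fintype G] {p : ℕ} [Fact p.Prime]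

/-- the index of the normalizer of a non-normal Sylow `p`-subgroup is at least `p + 1` -/
theorem pslmomfin_index_ge (P : Sylow p G) (hnn : ¬ (P : Subgroup G).Normal) :
    p + 1 ≤ (nrm P).index := by
  have h1 : Nat.card (Sylow p G) = (nrm P).index := Sylow.card_eq_index_normalizer P
  have h2 : Nat.card (Sylow p G) ≡ 1 [MOD p] := card_sylow_modEq_one p G
  rw [h1] at h2
  have h3 : (nrm P).index ≠ 1 := by
    intro h
    apply hnn
    rw [Subgroup.index_eq_one] at h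
    exact Subgroup.normalizer_eq_top_iff.mp h
  have h4 : 0 < (nrm P).index := Nat.pos_of_ne_zero (Subgroup.index_ne_zero_of_finite)
  have hp : 1 < p := (Fact.out : p.Prime).one_lt
  -- n ≡ 1 mod p, n ≥ 2 → n ≥ p + 1
  have h5 : p ∣ (nrm P).index - 1 := (Nat.modEq_iff_dvd' h4).mp h2.symm
  have h6 : 0 < (nrm P).index - 1 := by omega
  have h7 := Nat.le_of_dvd h6 h5
  omega

/-- MOMFIN : the index of `N_G(P)` is `p + 1` -/
theorem index_of_moment {f : ℕ} {P : Sylow p G} (hL : Loc p f P) (χ : Cfsg.IrrCharacter G)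
    (hmom : 2 * ∑ g : G, (if ¬ p ∣ orderOf g ∧ g ∉ Subgroup.center G then
        (χ : G → ℂ) g * conj ((χ : G → ℂ) g) * ((χ : G → ℂ) g * conj ((χ : G → ℂ) g) - 1) else 0) =
      (Nat.card ↥(Subgroup.center G) : ℂ) * (f : ℂ) ^ 2 * ((f : ℂ) - 1) *
        (((nrm P).index : ℂ) - ((p : ℂ) + 1)))
    (hle : ∀ z : G, ¬ p ∣ orderOf z → z ∉ Subgroup.center G →
      Complex.normSq ((χ : G → ℂ) z) ≤ 1) :
    (nrm P).index = p + 1 := by
  have hge := pslmomfin_index_ge P hL.not_normal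
  -- rewrite the left side as a real number
  have hsum : ∑ g : G, (if ¬ p ∣ orderOf g ∧ g ∉ Subgroup.center G then
        (χ : G → ℂ) g * conj ((χ : G → ℂ) g) * ((χ : G → ℂ) g * conj ((χ : G → ℂ) g) - 1) else 0) =
      ((∑ g : G, (if ¬ p ∣ orderOf g ∧ g ∉ Subgroup.center G then
        Complex.normSq ((χ : G → ℂ) g) * (Complex.normSq ((χ : G → ℂ) g) - 1) else 0) : ℝ) : ℂ) := by
    rw [Complex.ofReal_sum]
    refine Finset.sum_congr rfl fun g _ => ?_
    split_ifs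
    · rw [Complex.mul_conj]
      push_cast
      ring
    · simp
  have hnonpos : ∑ g : G, (if ¬ p ∣ orderOf g ∧ g ∉ Subgroup.center G then
        Complex.normSq ((χ : G → ℂ) g) * (Complex.normSq ((χ : G → ℂ) g) - 1) else 0) ≤ 0 := by
    apply Finset.sum_nonpos
    intro g _
    split_ifs with h
    · have h1 := hle g h.1 h.2
      have h0 := Complex.normSq_nonneg ((χ : G → ℂ) g)
      nlinarith
    · exact le_refl 0
  have hR : (Nat.card ↥(Subgroup.center G) : ℂ) * (f : ℂ) ^ 2 * ((f : ℂ) - 1) *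
        (((nrm P).index : ℂ) - ((p : ℂ) + 1)) =
      (((Nat.card ↥(Subgroup.center G) : ℝ) * (f : ℝ) ^ 2 * ((f : ℝ) - 1) *
        (((nrm P).index : ℝ) - ((p : ℝ) + 1)) : ℝ) : ℂ) := by
    push_cast
    ring
  rw [hsum, hR] at hmom
  have hreal : 2 * ∑ g : G, (if ¬ p ∣ orderOf g ∧ g ∉ Subgroup.center G then
        Complex.normSq ((χ : G → ℂ) g) * (Complex.normSq ((χ : G → ℂ) g) - 1) else 0) =
      (Nat.card ↥(Subgroup.center G) : ℝ) * (f : ℝ) ^ 2 * ((f : ℝ) - 1) *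
        (((nrm P).index : ℝ) - ((p : ℝ) + 1)) := by
    have h2 : ((2 * ∑ g : G, (if ¬ p ∣ orderOf g ∧ g ∉ Subgroup.center G then
        Complex.normSq ((χ : G → ℂ) g) * (Complex.normSq ((χ : G → ℂ) g) - 1) else 0) : ℝ) : ℂ) =
      (((Nat.card ↥(Subgroup.center G) : ℝ) * (f : ℝ) ^ 2 * ((f : ℝ) - 1) *
        (((nrm P).index : ℝ) - ((p : ℝ) + 1)) : ℝ) : ℂ) := by
      rw [← hmom]
      push_cast
      ring
    exact Complex.ofReal_injective h2
  have hZ : (1 : ℝ) ≤ (Nat.card ↥(Subgroup.center G) : ℝ) := by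
    exact_mod_cast Nat.card_pos
  have hf : (2 : ℝ) ≤ (f : ℝ) := by exact_mod_cast hL.f_ge
  have hn : ((p : ℝ) + 1) ≤ ((nrm P).index : ℝ) := by exact_mod_cast hge
  have hpos : 0 < (Nat.card ↥(Subgroup.center G) : ℝ) * (f : ℝ) ^ 2 * ((f : ℝ) - 1) := by
    have h1 : (0 : ℝ) < (f : ℝ) ^ 2 := by positivity
    have h2 : (0 : ℝ) < (f : ℝ) - 1 := by linarith
    have h3 : (0 : ℝ) < (Nat.card ↥(Subgroup.center G) : ℝ) := by linarith
    positivity
  have hle0 : (Nat.card ↥(Subgroup.center G) : ℝ) * (f : ℝ) ^ 2 * ((f : ℝ) - 1) *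
        (((nrm P).index : ℝ) - ((p : ℝ) + 1)) ≤ 0 := by
    rw [← hreal]
    linarith
  have hfin : ((nrm P).index : ℝ) - ((p : ℝ) + 1) ≤ 0 := by
    by_contra hcon
    push Not at hcon
    have := mul_pos hpos hcon
    linarith
  have : ((nrm P).index : ℝ) = (p : ℝ) + 1 := by linarith
  exact_mod_cast this

end Cfsg.Agent.Lib.helper15.PSL
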