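import Mathlib
import Cfsg.Agent.Lib.helper15.PSL.Defs
import Cfsg.Agent.Lib.helper15.BH.Main
import Cfsg.Agent.Lib.helper15.PSL.BT4le

/-!
# Project PSL (S4504), piece E1CASE: `N = C` forces `P` to be normal
(the second branch of `core` in `helper15/BH/Main.lean`, with `small_degree_orbit_le`).
-/

set_option autoImplicit false
set_option linter.unusedVariables false
set_option linter.unusedSectionVars false
set_option linter.style.haveILetI false
open scoped ComplexConjugate
open Classical

namespace Cfsg.Agent.Lib.helper15.PSL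

open Cfsg.Agent.Lib.helper7 Cfsg.Agent.Lib.helper7.BR Cfsg.Agent.Lib.helper2 Cfsg.Agent.Lib.Helper25
  Cfsg.Agent.Lib.Helper29 Cfsg.Agent.Lib.helper15.BH

universe u

section concrete

variable {G : Type u} [Group G] [Fintype G] {p : ℕ} [Fact p.Prime]

/-- E1CASE : `N = C` forces `P` to be normal -/
theorem index_one_normal (P : Sylow p G) (hP : Nat.card ↥(P : Subgroup G) = p) (χ : G → ℂ)
    (hχ : Cfsg.IsCharacter G χ) (hfaith : ∀ g : G, χ g = χ 1 → g = 1) (d : ℕ)
    (hd : χ 1 = (d : ℂ)) (hdeg : 2 * d + 1 ≤ p)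
    (hf1 : (cen P).relIndex (nrm P) = 1) : (P : Subgroup G).Normal := by
  have hpp := (Fact.out : p.Prime)
  haveI : Fintype (Cfsg.IrrCharacter G) := Fintype.ofFinite _
  obtain ⟨mm, hmm, hexp⟩ := isCharacter_expansion hχ
  have hdegη : ∀ η : Cfsg.IrrCharacter G, mm η ≠ 0 → 2 * leoDeg η + 1 ≤ p := by
    intro η hη
    have hdη := isCharacter_degree_ge hχ η (mm η) d (leoDeg η) (hmm η) hd (leoDeg_spec η)
    have hle : leoDeg η ≤ d := by
      have : leoDeg η ≤ mm η * leoDeg η := Nat.le_mul_of_pos_left _ (Nat.pos_of_ne_zero hη)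
      omega
    omega
  have hstar := leoStar_of_card P hP
  obtain ⟨π, hπ⟩ := leoc_exists_pi hstar
  set h := leoc_setup hstar π hπ with hh
  have hNC : Nat.card ↥(Subgroup.normalizer ((P : Subgroup G) : Set G)) =
      Nat.card ↥(Subgroup.centralizer ((P : Subgroup G) : Set G)) := by
    have hle : Subgroup.normalizer ((P : Subgroup G) : Set G) ≤
        Subgroup.centralizer ((P : Subgroup G) : Set G) := Subgroup.relIndex_eq_one.mp hf1
    rw [le_antisymm hle (Subgroup.centralizer_le_normalizer _)]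
  have hcomm : ∀ x ∈ (P : Subgroup G), ∀ g : G, x * g * x⁻¹ * g⁻¹ = 1 := by
    intro x hx g
    apply hfaith
    have h1 := congrFun hexp (x * g * x⁻¹ * g⁻¹)
    have h2 := congrFun hexp 1
    rw [h1, h2]
    simp only [Finset.sum_apply, Pi.smul_apply, smul_eq_mul]
    apply Finset.sum_congr rfl
    intro η _
    by_cases hη : mm η = 0
    · rw [hη]
      simp
    · congr 1
      by_cases hnt : ∃ y ∈ (P : Subgroup G), (η : G → ℂ) y ≠ (η : G → ℂ) 1
      · obtain ⟨θ₁, hθ₁, hval⟩ := small_degree_orbit_le P hP hstar π hπ η (hdegη η hη) hnt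
        have hmult := ext_orbit h η (by rw [hP]; have := hdegη η hη; omega) θ₁ hθ₁ hval
        exact central_of_index_one h hNC η θ₁ hθ₁ hmult x hx g
      · push Not at hnt
        rw [← mem_irrKer]
        have hxk : x ∈ irrKer η := (mem_irrKer η x).mpr (hnt x hx)
        have hn : (irrKer η).Normal := inferInstance
        have h3 : g * x⁻¹ * g⁻¹ ∈ irrKer η := hn.conj_mem _ (Subgroup.inv_mem _ hxk) g
        have h4 : x * g * x⁻¹ * g⁻¹ = x * (g * x⁻¹ * g⁻¹) := by group
        rw [h4]
        exact Subgroup.mul_mem _ hxk h3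
  constructor
  intro x hx g
  have h1 := hcomm x hx g⁻¹
  have h2 : g * x * g⁻¹ = x := by
    have : g * x * g⁻¹ = g * (x * g⁻¹ * x⁻¹ * g⁻¹⁻¹) * g⁻¹ * x := by group
    rw [this, h1]
    group
  rw [h2]
  exact hx

end concrete

end Cfsg.Agent.Lib.helper15.PSL
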