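import Mathlib

set_option autoImplicit false

namespace Cfsg.Agent.Lib.Helper28.P2

/-- if `p ^ n - 1` divides `2 (p ^ m - 1)` then `n ∣ m` -/
theorem dvd_of_pow_sub_one_dvd (p n : ℕ) (hp : 2 ≤ p) (hn : 1 ≤ n) :
    ∀ m : ℕ, p ^ n - 1 ∣ 2 * (p ^ m - 1) → n ∣ m := by
  intro m
  induction m using Nat.strong_induction_on with
  | _ m ih =>
    intro h
    have hpn : 1 ≤ p ^ n := Nat.one_le_pow _ _ (by omega)
    by_cases hmn : m < n
    · -- 2 (p^m - 1) < p^n - 1 unless m = 0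
      rcases Nat.eq_zero_or_pos m with h0 | h0
      · rw [h0]; exact dvd_zero n
      · exfalso
        have hpm : 1 ≤ p ^ m := Nat.one_le_pow _ _ (by omega)
        have hpm2 : 2 ≤ p ^ m := by
          calc 2 ≤ p := hp
            _ = p ^ 1 := (pow_one p).symm
            _ ≤ p ^ m := Nat.pow_le_pow_right (by omega) h0
        have h1 : p ^ (m + 1) ≤ p ^ n := Nat.pow_le_pow_right (by omega) hmn
        have h2 : p ^ (m + 1) = p * p ^ m := by rw [pow_succ, mul_comm]
        have h3 : 2 * p ^ m ≤ p * p ^ m := Nat.mul_le_mul_right _ hp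
        have hpos : 0 < 2 * (p ^ m - 1) := by omega
        have := Nat.le_of_dvd hpos h
        omega
    · push Not at hmn
      have hsplit : p ^ m = p ^ (m - n) * p ^ n := by
        rw [← pow_add]; congr 1; omega
      have hpmn : 1 ≤ p ^ (m - n) := Nat.one_le_pow _ _ (by omega)
      have key : p ^ n - 1 ∣ 2 * (p ^ (m - n) - 1) := by
        have e : 2 * (p ^ m - 1) = 2 * (p ^ (m - n) - 1) + 2 * p ^ (m - n) * (p ^ n - 1) := by
          rw [hsplit]
          obtain ⟨a, ha⟩ : ∃ a, p ^ n = a + 1 := ⟨p ^ n - 1, by omega⟩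
          obtain ⟨b, hb⟩ : ∃ b, p ^ (m - n) = b + 1 := ⟨p ^ (m - n) - 1, by omega⟩
          rw [ha, hb]
          have e1 : (b + 1) * (a + 1) - 1 = b * a + b + a := by
            have : (b + 1) * (a + 1) = b * a + b + a + 1 := by ring
            omega
          rw [e1]
          simp only [Nat.add_sub_cancel]
          ring
        rw [e] at h
        exact (Nat.dvd_add_left (Dvd.intro_left _ rfl)).mp h
      have := ih (m - n) (by omega) key
      have e : m = (m - n) + n := by omega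
      rw [e]
      exact dvd_add this (dvd_refl n)

/-- exponent bookkeeping for subfields of prime degree -/
theorem exp_cases (a b r m : ℕ) (hr : r.Prime) (ha : 1 ≤ a) (hab : a ∣ b) (h : b * m = a * r) :
    b = a ∨ b = a * r := by
  obtain ⟨c, rfl⟩ := hab
  have h1 : c * m = r := by
    have : a * (c * m) = a * r := by rw [← h]; ring
    exact Nat.eq_of_mul_eq_mul_left (by omega) this
  have hc : c ∣ r := Dvd.intro _ h1
  rcases (Nat.dvd_prime hr).mp hc with h2 | h2
  · left; rw [h2, mul_one]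
  · right; rw [h2]

/-- the key divisibility consequence: `p^a (p^(2a) - 1) ∣ 2 p^b (p^(2b) - 1)` forces `a ∣ b` -/
theorem dvd_of_order_dvd (p a b : ℕ) (hp : p.Prime) (ha : 1 ≤ a)
    (h : p ^ a * ((p ^ a) ^ 2 - 1) ∣ 2 * (p ^ b * ((p ^ b) ^ 2 - 1))) : a ∣ b := by
  have h1 : (p ^ a) ^ 2 - 1 ∣ 2 * (p ^ b * ((p ^ b) ^ 2 - 1)) :=
    dvd_trans (Dvd.intro_left _ rfl) h
  have e1 : (p ^ a) ^ 2 = p ^ (2 * a) := by rw [← pow_mul, mul_comm]
  have e2 : (p ^ b) ^ 2 = p ^ (2 * b) := by rw [← pow_mul, mul_comm]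
  rw [e1, e2] at h1
  have hcop : Nat.Coprime (p ^ (2 * a) - 1) (p ^ b) := by
    apply Nat.Coprime.pow_right
    rw [Nat.coprime_comm, Nat.Prime.coprime_iff_not_dvd hp]
    intro hd
    have h3 : p ∣ p ^ (2 * a) := dvd_pow_self p (by omega)
    have h4 : 1 ≤ p ^ (2 * a) := Nat.one_le_pow _ _ hp.pos
    have h5 : p ∣ p ^ (2 * a) - (p ^ (2 * a) - 1) := Nat.dvd_sub h3 hd
    have h6 : p ^ (2 * a) - (p ^ (2 * a) - 1) = 1 := by omega
    rw [h6] at h5
    have := Nat.le_of_dvd (by norm_num) h5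
    have := hp.two_le
    omega
  have h2 : p ^ (2 * a) - 1 ∣ p ^ b * (2 * (p ^ (2 * b) - 1)) := by
    have e : 2 * (p ^ b * (p ^ (2 * b) - 1)) = p ^ b * (2 * (p ^ (2 * b) - 1)) := by ring
    rw [e] at h1; exact h1
  have h3 : p ^ (2 * a) - 1 ∣ 2 * (p ^ (2 * b) - 1) := hcop.dvd_of_dvd_mul_left h2
  have h4 := dvd_of_pow_sub_one_dvd p (2 * a) hp.two_le (by omega) (2 * b) h3
  exact (Nat.mul_dvd_mul_iff_left (by norm_num : 0 < 2)).mp h4

end Cfsg.Agent.Lib.Helper28.P2
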