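import Cfsg.Agent.S0805
import Cfsg.Agent.Lib.Helper28.P2Arith

set_option autoImplicit false

namespace Cfsg.Agent.Lib.Helper28.P2

open Matrix

section
variable {F : Type*} [Field F] [Fintype F]

theorem two_le_card : 2 ≤ Fintype.card F := Fintype.one_lt_card

theorem poly_id (q : ℕ) (hq : 1 ≤ q) : (q ^ 2 - 1) * (q ^ 2 - q) = (q - 1) * (q * (q ^ 2 - 1)) := by
  obtain ⟨a, rfl⟩ : ∃ a, q = a + 1 := ⟨q - 1, by omega⟩
  have e1 : (a + 1) ^ 2 - (a + 1) = (a + 1) * a := by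
    have : (a + 1) ^ 2 = (a + 1) * a + (a + 1) := by ring
    omega
  rw [e1]
  simp only [Nat.add_sub_cancel]
  ring

/-- `gcd(2, q - 1) |PSL₂(q)| = q (q² - 1)` -/
theorem card_psl2 : Nat.gcd 2 (Fintype.card F - 1) *
    Nat.card (Matrix.ProjectiveSpecialLinearGroup (Fin 2) F) =
      Fintype.card F * (Fintype.card F ^ 2 - 1) := by
  have h := Cfsg.Agent.S0243.result (F := F) (q := Fintype.card F) rfl 2 (le_refl 2)
  rw [Fin.prod_univ_two] at h
  simp only [Fin.val_zero, pow_zero, Fin.val_one, pow_one] at h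
  have hq : 2 ≤ Fintype.card F := two_le_card
  rw [poly_id _ (by omega)] at h
  have h2 : (Fintype.card F - 1) * (Nat.gcd 2 (Fintype.card F - 1) *
      Nat.card (Matrix.ProjectiveSpecialLinearGroup (Fin 2) F)) =
      (Fintype.card F - 1) * (Fintype.card F * (Fintype.card F ^ 2 - 1)) := by
    rw [← h]; ring
  exact Nat.eq_of_mul_eq_mul_left (by omega) h2

/-- `|PGL₂(q)| = q (q² - 1)` -/
theorem card_pgl2 : Nat.card (Matrix.ProjGenLinGroup (Fin 2) F) =
      Fintype.card F * (Fintype.card F ^ 2 - 1) := by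
  have h := Cfsg.Agent.S0805.card_PGL2 (K := F)
  have hq : 2 ≤ Fintype.card F := two_le_card
  rw [poly_id _ (by omega)] at h
  have h2 : (Fintype.card F - 1) * Nat.card (Matrix.ProjGenLinGroup (Fin 2) F) =
      (Fintype.card F - 1) * (Fintype.card F * (Fintype.card F ^ 2 - 1)) := by
    rw [← h]; ring
  exact Nat.eq_of_mul_eq_mul_left (by omega) h2

theorem gcd_two_dvd_two (n : ℕ) : Nat.gcd 2 n ∣ 2 := Nat.gcd_dvd_left 2 n

theorem gcd_two_pos (n : ℕ) : 0 < Nat.gcd 2 n := Nat.gcd_pos_of_pos_left _ (by norm_num)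

/-- `|PSL₂(q)|` divides `q (q² - 1)` -/
theorem card_psl2_dvd : Nat.card (Matrix.ProjectiveSpecialLinearGroup (Fin 2) F) ∣
      Fintype.card F * (Fintype.card F ^ 2 - 1) :=
  Dvd.intro_left _ card_psl2

/-- `q (q² - 1)` divides `2 |PSL₂(q)|` -/
theorem dvd_two_card_psl2 : Fintype.card F * (Fintype.card F ^ 2 - 1) ∣
      2 * Nat.card (Matrix.ProjectiveSpecialLinearGroup (Fin 2) F) := by
  rw [← card_psl2]
  exact Nat.mul_dvd_mul_right (gcd_two_dvd_two _) _

end

end Cfsg.Agent.Lib.Helper28.P2
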