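import Cfsg.Agent.S5631
import Cfsg.Agent.S0755

set_option autoImplicit false

open Cfsg

namespace Cfsg.Agent.Lib.Helper28.UForm

open Matrix Cfsg.Agent.S5632 Cfsg.Agent.S5631

variable {n : ℕ} {F : Type*} [Field F] {σ : F ≃+* F} {f : (Fin n → F) → (Fin n → F) → F}

theorem f_add_right (hf : Cfsg.Geo.IsUnitaryForm σ f) (v x y : Fin n → F) :
    f v (x + y) = f v x + f v y := by
  rw [hf.herm, hf.add_left, map_add, ← hf.herm, ← hf.herm]

theorem f_smul_right (hf : Cfsg.Geo.IsUnitaryForm σ f) (c : F) (v x : Fin n → F) :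
    f v (c • x) = σ c * f v x := by
  rw [hf.herm, hf.smul_left, map_mul, ← hf.herm]

theorem f_zero_left (hf : Cfsg.Geo.IsUnitaryForm σ f) (v : Fin n → F) : f 0 v = 0 := by
  have := hf.smul_left 0 0 v
  simpa using this

theorem f_zero_right (hf : Cfsg.Geo.IsUnitaryForm σ f) (v : Fin n → F) : f v 0 = 0 := by
  rw [hf.herm, f_zero_left hf, map_zero]

theorem f_neg_left (hf : Cfsg.Geo.IsUnitaryForm σ f) (x v : Fin n → F) : f (-x) v = - f x v := by
  have := hf.smul_left (-1) x v
  simpa using this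

theorem f_neg_right (hf : Cfsg.Geo.IsUnitaryForm σ f) (x v : Fin n → F) : f v (-x) = - f v x := by
  rw [hf.herm, f_neg_left hf, map_neg, ← hf.herm]

theorem f_sub_left (hf : Cfsg.Geo.IsUnitaryForm σ f) (x y v : Fin n → F) :
    f (x - y) v = f x v - f y v := by
  rw [sub_eq_add_neg, hf.add_left, f_neg_left hf, sub_eq_add_neg]

theorem f_sub_right (hf : Cfsg.Geo.IsUnitaryForm σ f) (x y v : Fin n → F) :
    f v (x - y) = f v x - f v y := by
  rw [sub_eq_add_neg, f_add_right hf, f_neg_right hf, sub_eq_add_neg]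

theorem f_sum_left (hf : Cfsg.Geo.IsUnitaryForm σ f) {ι : Type*} (s : Finset ι)
    (g : ι → (Fin n → F)) (v : Fin n → F) : f (∑ i ∈ s, g i) v = ∑ i ∈ s, f (g i) v := by
  classical
  induction s using Finset.induction_on with
  | empty => simp [f_zero_left hf]
  | insert a s ha ih => rw [Finset.sum_insert ha, Finset.sum_insert ha, hf.add_left, ih]

theorem f_self_fixed (hf : Cfsg.Geo.IsUnitaryForm σ f) (x : Fin n → F) : σ (f x x) = f x x :=
  (hf.herm x x).symm

theorem f_swap_zero (hf : Cfsg.Geo.IsUnitaryForm σ f) {x y : Fin n → F} (h : f x y = 0) :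
    f y x = 0 := by
  rw [hf.herm, h, map_zero]

theorem f_swap_ne (hf : Cfsg.Geo.IsUnitaryForm σ f) {x y : Fin n → F} (h : f x y ≠ 0) :
    f y x ≠ 0 := fun h0 => h (f_swap_zero hf h0)

def rho (f : (Fin n → F) → (Fin n → F) → F) (u : Fin n → F) : Fin n → F :=
  fun i => f (Pi.single i 1) u

theorem f_eq_dot (hf : Cfsg.Geo.IsUnitaryForm σ f) (x u : Fin n → F) :
    f x u = rho f u ⬝ᵥ x := by
  have hx : x = ∑ i, x i • (Pi.single i (1 : F) : Fin n → F) := by
    ext j
    simp [Finset.sum_apply, Pi.single_apply]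
  conv_lhs => rw [hx]
  rw [f_sum_left hf]
  unfold rho dotProduct
  apply Finset.sum_congr rfl
  intro i _
  rw [hf.smul_left]
  ring

theorem rho_surj (hf : Cfsg.Geo.IsUnitaryForm σ f) (r : Fin n → F) :
    ∃ u, ∀ x, f x u = r ⬝ᵥ x := by
  let L : (Fin n → F) →ₗ[F] (Fin n → F) :=
    { toFun := fun u i => f u (Pi.single i 1)
      map_add' := by
        intro a b
        funext i
        simp only [Pi.add_apply]
        exact hf.add_left a b _
      map_smul' := by
        intro c a
        funext i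
        simp only [Pi.smul_apply, RingHom.id_apply, smul_eq_mul]
        exact hf.smul_left c a _ }
  have hinj : Function.Injective L := by
    rw [← LinearMap.ker_eq_bot, Submodule.eq_bot_iff]
    intro u hu
    by_contra hu0
    obtain ⟨x, hx⟩ := (hf.nondegenerate u hu0).1
    apply hx
    rw [f_eq_dot hf]
    have h1 : ∀ i, f u (Pi.single i 1) = 0 := fun i => congrFun hu i
    have : rho f u = 0 := by
      funext i
      unfold rho
      rw [hf.herm, h1 i, map_zero]
      rfl
    rw [this, zero_dotProduct]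
  have hsurj : Function.Surjective L := LinearMap.injective_iff_surjective.mp hinj
  obtain ⟨u, hu⟩ := hsurj (fun i => σ (r i))
  refine ⟨u, fun x => ?_⟩
  rw [f_eq_dot hf]
  have : rho f u = r := by
    funext i
    unfold rho
    have h1 : f u (Pi.single i 1) = σ (r i) := congrFun hu i
    rw [hf.herm, h1, hf.involutive]
  rw [this]

theorem riesz (hf : Cfsg.Geo.IsUnitaryForm σ f) (ψ : (Fin n → F) →ₗ[F] F) :
    ∃ u, ∀ x, f x u = ψ x := by
  obtain ⟨u, hu⟩ := rho_surj hf (fun i => ψ (Pi.single i 1))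
  refine ⟨u, fun x => ?_⟩
  rw [hu]
  have hx : x = ∑ i, x i • (Pi.single i (1 : F) : Fin n → F) := by
    ext j
    simp [Finset.sum_apply, Pi.single_apply]
  conv_rhs => rw [hx]
  rw [map_sum]
  unfold dotProduct
  apply Finset.sum_congr rfl
  intro i _
  rw [map_smul, smul_eq_mul, mul_comm]

theorem lin_solve (hf : Cfsg.Geo.IsUnitaryForm σ f) {k : ℕ} (x : Fin k → (Fin n → F))
    (hx : LinearIndependent F x) (α : Fin k → F) : ∃ z, ∀ i, f z (x i) = α i := by
  have hinj := linearIndependent_iff_injective_fintypeLinearCombination.mp hx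
  obtain ⟨Ψ, hΨ⟩ := LinearMap.exists_leftInverse_of_injective (Fintype.linearCombination F x)
    (LinearMap.ker_eq_bot.mpr hinj)
  let ψ : (Fin n → F) →ₗ[F] F :=
    { toFun := fun v => ∑ i, σ (α i) * (Ψ v) i
      map_add' := by
        intro a b
        simp only [map_add, Pi.add_apply, mul_add, Finset.sum_add_distrib]
      map_smul' := by
        intro c a
        simp only [map_smul, Pi.smul_apply, smul_eq_mul, RingHom.id_apply, Finset.mul_sum]
        apply Finset.sum_congr rfl
        intro i _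
        ring }
  obtain ⟨z, hz⟩ := riesz hf ψ
  refine ⟨z, fun j => ?_⟩
  have h1 : Ψ (x j) = Pi.single j 1 := by
    have := congrArg (fun l => l (Pi.single j (1 : F))) hΨ
    simp only [LinearMap.comp_apply, LinearMap.id_apply] at this
    rw [← this]
    congr 1
    rw [Fintype.linearCombination_apply]
    simp [Pi.single_apply]
  have h2 : f (x j) z = σ (α j) := by
    rw [hz]
    show ∑ i, σ (α i) * (Ψ (x j)) i = σ (α j)
    rw [h1]
    simp [Pi.single_apply]
  rw [hf.herm, h2, hf.involutive]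

theorem exists_moved (hf : Cfsg.Geo.IsUnitaryForm σ f) : ∃ a : F, σ a ≠ a := by
  by_contra hcon
  push Not at hcon
  exact hf.ne_refl (RingEquiv.ext hcon)

theorem exists_K0 (hf : Cfsg.Geo.IsUnitaryForm σ f) : ∃ c : F, c ≠ 0 ∧ σ c = -c := by
  obtain ⟨a, ha⟩ := exists_moved hf
  refine ⟨a - σ a, fun h => ha (sub_eq_zero.mp h).symm, ?_⟩
  rw [map_sub, hf.involutive]
  ring

theorem trace_surj (hf : Cfsg.Geo.IsUnitaryForm σ f) (b : F) (hb : σ b = b) :
    ∃ a : F, a + σ a = b := by
  by_cases h2 : (2 : F) = 0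
  · obtain ⟨x, hx⟩ := exists_moved hf
    have ht : x + σ x ≠ 0 := by
      intro h
      apply hx
      have h1 : σ x = -x := by linear_combination h
      have h3 : -x = x := by linear_combination (-x) * h2
      rw [h1, h3]
    refine ⟨b * x / (x + σ x), ?_⟩
    rw [map_div₀, map_mul, map_add, hf.involutive, hb, add_comm (σ x) x]
    field_simp
  · refine ⟨b / 2, ?_⟩
    rw [map_div₀, hb, map_ofNat]
    field_simp
    ring

theorem norm_surj [Finite F] (hf : Cfsg.Geo.IsUnitaryForm σ f) (c : F) (hc : σ c = c) :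
    ∃ a : F, a * σ a = c := by
  have hσ : (σ : F →+* F) ≠ RingHom.id F := by
    intro h
    apply hf.ne_refl
    ext a
    exact congrArg (fun φ : F →+* F => φ a) h
  obtain ⟨a, ha⟩ := Cfsg.Agent.S0755.norm_surj (σ : F →+* F) hσ hf.involutive c hc
  exact ⟨a, by rw [mul_comm]; exact ha⟩

theorem ti_of_iso (hf : Cfsg.Geo.IsUnitaryForm σ f) (S : Submodule F (Fin n → F))
    (h : ∀ y ∈ S, f y y = 0) : ∀ x ∈ S, ∀ y ∈ S, f x y = 0 := by
  intro x hx y hy
  have key : ∀ a : F, σ a * f x y + a * f y x = 0 := by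
    intro a
    have := h (x + a • y) (S.add_mem hx (S.smul_mem a hy))
    rw [hf.add_left, f_add_right hf, f_add_right hf, hf.smul_left, hf.smul_left, f_smul_right hf,
      f_smul_right hf, h x hx, h y hy] at this
    linear_combination this
  have h1 := key 1
  rw [map_one, one_mul, one_mul] at h1
  obtain ⟨a, ha⟩ := exists_moved hf
  have h2 := key a
  have h3 : (σ a - a) * f x y = 0 := by linear_combination h2 - a * h1
  rcases mul_eq_zero.mp h3 with h4 | h4
  · exact absurd (sub_eq_zero.mp h4) ha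
  · exact h4

def perpMap (hf : Cfsg.Geo.IsUnitaryForm σ f) {k : ℕ} (x : Fin k → (Fin n → F)) :
    (Fin n → F) →ₗ[F] (Fin k → F) where
  toFun v i := f v (x i)
  map_add' a b := by
    funext i
    exact hf.add_left a b _
  map_smul' c a := by
    funext i
    exact hf.smul_left c a _

theorem mem_ker_perpMap (hf : Cfsg.Geo.IsUnitaryForm σ f) {k : ℕ} (x : Fin k → (Fin n → F))
    (v : Fin n → F) : v ∈ LinearMap.ker (perpMap hf x) ↔ ∀ i, f v (x i) = 0 := by
  rw [LinearMap.mem_ker]
  constructor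
  · intro h i
    exact congrFun h i
  · intro h
    funext i
    exact h i

theorem finrank_ker_ge (hf : Cfsg.Geo.IsUnitaryForm σ f) {k : ℕ} (x : Fin k → (Fin n → F)) :
    n ≤ Module.finrank F (LinearMap.ker (perpMap hf x)) + k := by
  have h1 := LinearMap.finrank_range_add_finrank_ker (perpMap hf x)
  rw [Module.finrank_fin_fun] at h1
  have h2 : Module.finrank F (LinearMap.range (perpMap hf x)) ≤ k := by
    have := Submodule.finrank_le (LinearMap.range (perpMap hf x))
    rwa [Module.finrank_fin_fun] at this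
  omega

theorem finrank_ker_eq (hf : Cfsg.Geo.IsUnitaryForm σ f) {k : ℕ} (x : Fin k → (Fin n → F))
    (hx : LinearIndependent F x) :
    Module.finrank F (LinearMap.ker (perpMap hf x)) + k = n := by
  have h1 := LinearMap.finrank_range_add_finrank_ker (perpMap hf x)
  rw [Module.finrank_fin_fun] at h1
  have hsurj : LinearMap.range (perpMap hf x) = ⊤ := by
    rw [LinearMap.range_eq_top]
    intro α
    obtain ⟨z, hz⟩ := lin_solve hf x hx α
    exact ⟨z, funext hz⟩
  rw [hsurj, finrank_top, Module.finrank_fin_fun] at h1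
  omega

theorem ti_bound (hf : Cfsg.Geo.IsUnitaryForm σ f) (S : Submodule F (Fin n → F))
    (h : ∀ x ∈ S, ∀ y ∈ S, f x y = 0) : 2 * Module.finrank F S ≤ n := by
  let b := Module.finBasis F S
  have hli : LinearIndependent F (fun i => ((b i : S) : Fin n → F)) :=
    b.linearIndependent.map' S.subtype S.ker_subtype
  have h1 := finrank_ker_eq hf _ hli
  have hle : S ≤ LinearMap.ker (perpMap hf (fun i => ((b i : S) : Fin n → F))) := by
    intro v hv
    rw [mem_ker_perpMap]
    intro i
    exact h v hv _ (b i).2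
  have h2 := Submodule.finrank_mono hle
  omega

theorem exists_noniso (hf : Cfsg.Geo.IsUnitaryForm σ f) (S : Submodule F (Fin n → F))
    (hS : n < 2 * Module.finrank F S) : ∃ y ∈ S, f y y ≠ 0 := by
  by_contra hcon
  push Not at hcon
  have := ti_bound hf S (ti_of_iso hf S hcon)
  omega

theorem exists_iso [Finite F] (hf : Cfsg.Geo.IsUnitaryForm σ f) {k : ℕ}
    (x : Fin k → (Fin n → F)) (hx : LinearIndependent F x) (α : Fin k → F)
    (hk : 2 * (k + 1) < n) : ∃ z, f z z = 0 ∧ ∀ i, f z (x i) = α i := by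
  obtain ⟨z0, hz0⟩ := lin_solve hf x hx α
  have hdim := finrank_ker_ge hf (Fin.cons z0 x : Fin (k + 1) → (Fin n → F))
  obtain ⟨y, hyS, hy⟩ := exists_noniso hf
    (LinearMap.ker (perpMap hf (Fin.cons z0 x : Fin (k + 1) → (Fin n → F)))) (by omega)
  rw [mem_ker_perpMap] at hyS
  have hy0 : f y z0 = 0 := by
    have := hyS 0
    simpa using this
  have hyx : ∀ i, f y (x i) = 0 := by
    intro i
    have := hyS i.succ
    simpa using this
  have hfix : σ (-(f z0 z0) / f y y) = -(f z0 z0) / f y y := by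
    rw [map_div₀, map_neg, f_self_fixed hf, f_self_fixed hf]
  obtain ⟨a, ha⟩ := norm_surj hf _ hfix
  refine ⟨z0 + a • y, ?_, fun i => ?_⟩
  · rw [hf.add_left, f_add_right hf, f_add_right hf, hf.smul_left, hf.smul_left, f_smul_right hf,
      f_smul_right hf, hy0, f_swap_zero hf hy0]
    have : a * (σ a * f y y) = -(f z0 z0) := by
      rw [← mul_assoc, ha]
      field_simp
    rw [this]
    ring
  · rw [hf.add_left, hf.smul_left, hyx i, hz0 i]
    ring

theorem li2 (a b : Fin n → F) (ha : a ≠ 0) (hb : b ∉ Submodule.span F {a}) :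
    LinearIndependent F ![a, b] := by
  rw [LinearIndependent.pair_iff' ha]
  intro c hc
  apply hb
  rw [Submodule.mem_span_singleton]
  exact ⟨c, hc⟩

theorem li3 (a b c : Fin n → F) (ha : a ≠ 0) (hb : b ∉ Submodule.span F {a})
    (hc : c ∉ Submodule.span F {a, b}) : LinearIndependent F ![c, a, b] := by
  have h : LinearIndependent F (Fin.cons c ![a, b] : Fin 3 → (Fin n → F)) := by
    rw [linearIndependent_finCons]
    refine ⟨li2 a b ha hb, ?_⟩
    rw [Matrix.range_cons_cons_empty]
    exact hc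
  exact h

theorem ex1 [Finite F] (hf : Cfsg.Geo.IsUnitaryForm σ f) (hn : 4 < n) (a : Fin n → F)
    (ha : a ≠ 0) (α : F) : ∃ z, f z z = 0 ∧ f z a = α := by
  have hli : LinearIndependent F ![a] := by
    rw [linearIndependent_unique_iff]
    simpa using ha
  obtain ⟨z, hz, h⟩ := exists_iso hf ![a] hli ![α] (by omega)
  refine ⟨z, hz, ?_⟩
  have := h 0
  simpa using this

theorem ex2 [Finite F] (hf : Cfsg.Geo.IsUnitaryForm σ f) (hn : 6 < n) (a b : Fin n → F)
    (ha : a ≠ 0) (hb : b ∉ Submodule.span F {a}) (α β : F) :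
    ∃ z, f z z = 0 ∧ f z a = α ∧ f z b = β := by
  obtain ⟨z, hz, h⟩ := exists_iso hf ![a, b] (li2 a b ha hb) ![α, β] (by omega)
  refine ⟨z, hz, ?_, ?_⟩
  · have := h 0
    simpa using this
  · have := h 1
    simpa using this

theorem ex3 [Finite F] (hf : Cfsg.Geo.IsUnitaryForm σ f) (hn : 8 < n) (a b c : Fin n → F)
    (ha : a ≠ 0) (hb : b ∉ Submodule.span F {a}) (hc : c ∉ Submodule.span F {a, b})
    (α β γ : F) : ∃ z, f z z = 0 ∧ f z a = α ∧ f z b = β ∧ f z c = γ := by
  obtain ⟨z, hz, h⟩ := exists_iso hf ![c, a, b] (li3 a b c ha hb hc) ![γ, α, β] (by omega)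
  refine ⟨z, hz, ?_, ?_, ?_⟩
  · have := h 1
    simpa using this
  · have := h 2
    simpa using this
  · have := h 0
    simpa using this

theorem ne_zero_of_f_ne (hf : Cfsg.Geo.IsUnitaryForm σ f) {x y : Fin n → F} (h : f x y ≠ 0) :
    x ≠ 0 ∧ y ≠ 0 := by
  constructor
  · intro h0
    rw [h0, f_zero_left hf] at h
    exact h rfl
  · intro h0
    rw [h0, f_zero_right hf] at h
    exact h rfl

theorem not_span1 (hf : Cfsg.Geo.IsUnitaryForm σ f) {a b p : Fin n → F}
    (hap : f a p = 0) (hbp : f b p ≠ 0) : b ∉ Submodule.span F {a} := by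
  intro hmem
  rw [Submodule.mem_span_singleton] at hmem
  obtain ⟨c, rfl⟩ := hmem
  rw [hf.smul_left, hap, mul_zero] at hbp
  exact hbp rfl

theorem not_span2 (hf : Cfsg.Geo.IsUnitaryForm σ f) {a b c p : Fin n → F}
    (hap : f a p = 0) (hbp : f b p = 0) (hcp : f c p ≠ 0) :
    c ∉ Submodule.span F {a, b} := by
  intro hmem
  rw [Submodule.mem_span_pair] at hmem
  obtain ⟨s, t, rfl⟩ := hmem
  rw [hf.add_left, hf.smul_left, hf.smul_left, hap, hbp, mul_zero, mul_zero, add_zero] at hcp
  exact hcp rfl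

end Cfsg.Agent.Lib.Helper28.UForm
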