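import Cfsg.Agent.S0779

set_option autoImplicit false

open Cfsg

namespace Cfsg.Agent.Lib.Helper28.Herm

open Matrix

theorem herm_add_left {F : Type*} [Field F] (n q : ℕ) (x y z : Fin n → F) :
    Cfsg.hermForm n F q (x + y) z = Cfsg.hermForm n F q x z + Cfsg.hermForm n F q y z := by
  unfold Cfsg.hermForm
  rw [← Finset.sum_add_distrib]
  apply Finset.sum_congr rfl
  intro i _
  simp only [Pi.add_apply]
  ring

theorem herm_smul_left {F : Type*} [Field F] (n q : ℕ) (c : F) (x z : Fin n → F) :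
    Cfsg.hermForm n F q (c • x) z = c * Cfsg.hermForm n F q x z := by
  unfold Cfsg.hermForm
  rw [Finset.mul_sum]
  apply Finset.sum_congr rfl
  intro i _
  simp only [Pi.smul_apply, smul_eq_mul]
  ring

theorem herm_zero_left {F : Type*} [Field F] (n q : ℕ) (z : Fin n → F) :
    Cfsg.hermForm n F q 0 z = 0 := by
  unfold Cfsg.hermForm
  simp

theorem herm_zero_right {F : Type*} [Field F] (n q : ℕ) (hq : q ≠ 0) (z : Fin n → F) :
    Cfsg.hermForm n F q z 0 = 0 := by
  unfold Cfsg.hermForm
  simp [hq]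

theorem herm_smul_right {F : Type*} [Field F] (n q : ℕ) (c : F) (x z : Fin n → F) :
    Cfsg.hermForm n F q x (c • z) = c ^ q * Cfsg.hermForm n F q x z := by
  unfold Cfsg.hermForm
  rw [Finset.mul_sum]
  apply Finset.sum_congr rfl
  intro i _
  simp only [Pi.smul_apply, smul_eq_mul, mul_pow]
  ring

theorem herm_add_right {F : Type*} [Field F] [Fintype F] {q : ℕ} (hF : Fintype.card F = q ^ 2)
    (n : ℕ) (x y z : Fin n → F) :
    Cfsg.hermForm n F q x (y + z) = Cfsg.hermForm n F q x y + Cfsg.hermForm n F q x z := by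
  obtain ⟨φ, hφ, _⟩ := Cfsg.Agent.S0779.exists_frob hF
  rw [Cfsg.Agent.S0779.herm_eq φ hφ, Cfsg.Agent.S0779.herm_eq φ hφ, Cfsg.Agent.S0779.herm_eq φ hφ,
    ← Finset.sum_add_distrib]
  apply Finset.sum_congr rfl
  intro i _
  simp only [Pi.add_apply, map_add]
  ring

theorem herm_symm {F : Type*} [Field F] [Fintype F] {q : ℕ} (hF : Fintype.card F = q ^ 2)
    (n : ℕ) (x y : Fin n → F) :
    Cfsg.hermForm n F q y x = (Cfsg.hermForm n F q x y) ^ q := by
  obtain ⟨φ, hφ, hφ2⟩ := Cfsg.Agent.S0779.exists_frob hF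
  rw [← hφ, Cfsg.Agent.S0779.herm_eq φ hφ, Cfsg.Agent.S0779.herm_eq φ hφ, map_sum]
  apply Finset.sum_congr rfl
  intro i _
  rw [map_mul, hφ2, mul_comm]

theorem herm_sum_left {F : Type*} [Field F] (n q : ℕ) {ι : Type*} (s : Finset ι)
    (g : ι → (Fin n → F)) (z : Fin n → F) :
    Cfsg.hermForm n F q (∑ i ∈ s, g i) z = ∑ i ∈ s, Cfsg.hermForm n F q (g i) z := by
  classical
  induction s using Finset.induction_on with
  | empty => simp [herm_zero_left]
  | insert a s ha ih => rw [Finset.sum_insert ha, Finset.sum_insert ha, herm_add_left, ih]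

theorem herm_sum_right {F : Type*} [Field F] [Fintype F] {q : ℕ} (hF : Fintype.card F = q ^ 2)
    (n : ℕ) {ι : Type*} (s : Finset ι) (g : ι → (Fin n → F)) (z : Fin n → F) :
    Cfsg.hermForm n F q z (∑ i ∈ s, g i) = ∑ i ∈ s, Cfsg.hermForm n F q z (g i) := by
  classical
  have hq : q ≠ 0 := by
    intro h
    rw [h] at hF
    have : 0 < Fintype.card F := Fintype.card_pos
    simp at hF
  induction s using Finset.induction_on with
  | empty => simp [herm_zero_right n q hq]
  | insert a s ha ih => rw [Finset.sum_insert ha, Finset.sum_insert ha, herm_add_right hF, ih]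

theorem herm_eq_dot {F : Type*} [Field F] (n q : ℕ) (x v : Fin n → F) :
    Cfsg.hermForm n F q x v = (fun j => (v j) ^ q) ⬝ᵥ x := by
  unfold Cfsg.hermForm dotProduct
  apply Finset.sum_congr rfl
  intro i _
  ring

theorem utv_det {F : Type*} [Field F] (n q : ℕ) (v : Fin n → F) (c : F)
    (hv : Cfsg.hermForm n F q v v = 0) : (Cfsg.unitaryTransvection n q v c).det = 1 := by
  unfold Cfsg.unitaryTransvection
  have h1 : c • Matrix.vecMulVec v (fun j => (v j) ^ q) =
      Matrix.vecMulVec v (fun j => c * (v j) ^ q) := by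
    ext i j
    simp [Matrix.vecMulVec_apply]
    ring
  rw [h1, Matrix.vecMulVec_eq Unit, Matrix.det_one_add_replicateCol_mul_replicateRow]
  have h2 : (fun j => c * (v j) ^ q) ⬝ᵥ v = c * Cfsg.hermForm n F q v v := by
    unfold Cfsg.hermForm dotProduct
    rw [Finset.mul_sum]
    apply Finset.sum_congr rfl
    intro i _
    ring
  rw [h2, hv, mul_zero, add_zero]

end Cfsg.Agent.Lib.Helper28.Herm
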