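import Cfsg.Agent.Lib.Helper28.UGen
import Cfsg.Agent.Lib.Helper28.Herm

set_option autoImplicit false

open Cfsg

namespace Cfsg.Agent.Lib.Helper28.UHerm

open Matrix Cfsg.Agent.Lib.Helper28.UForm Cfsg.Agent.Lib.Helper28.UGen

theorem two_le_q {F : Type*} [Field F] [Fintype F] {q : ℕ} (hF : Fintype.card F = q ^ 2) :
    2 ≤ q := by
  have h1 : 1 < Fintype.card F := Fintype.one_lt_card
  rw [hF] at h1
  by_contra h
  push Not at h
  interval_cases q <;> simp at h1

theorem herm_unitary {F : Type*} [Field F] [Fintype F] {q : ℕ} (hF : Fintype.card F = q ^ 2)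
    (n : ℕ) : ∃ σ : F ≃+* F, (∀ x, σ x = x ^ q) ∧
      Cfsg.Geo.IsUnitaryForm σ (Cfsg.hermForm n F q) := by
  classical
  obtain ⟨φ, hφ, hφ2⟩ := Cfsg.Agent.S0779.exists_frob hF
  have hq2 := two_le_q hF
  let σ : F ≃+* F := { φ with invFun := φ, left_inv := hφ2, right_inv := hφ2 }
  have hσ : ∀ x, σ x = x ^ q := hφ
  refine ⟨σ, hσ, ?_, ?_, ?_, ?_, ?_, ?_⟩
  · intro h
    obtain ⟨g, hg⟩ := IsCyclic.exists_generator (α := Fˣ)
    have hord : orderOf g = q ^ 2 - 1 := by
      rw [orderOf_eq_card_of_forall_mem_zpowers hg, Nat.card_eq_fintype_card, Fintype.card_units,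
        hF]
    have h1 : (g : F) ^ q = (g : F) := by
      rw [← hσ, h]
      rfl
    have h2 : g ^ (q - 1) = 1 := by
      apply Units.ext
      rw [Units.val_pow_eq_pow_val, Units.val_one]
      have hg0 : (g : F) ≠ 0 := g.ne_zero
      have : (g : F) ^ (q - 1) * (g : F) = 1 * (g : F) := by
        rw [← pow_succ, Nat.sub_add_cancel (by omega), h1, one_mul]
      exact mul_right_cancel₀ hg0 this
    have h3 := orderOf_dvd_of_pow_eq_one h2
    rw [hord] at h3
    have h4 := Nat.le_of_dvd (by omega) h3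
    have h5 : q ≤ q ^ 2 := by nlinarith
    have h6 : q * 2 ≤ q ^ 2 := by nlinarith
    omega
  · intro a
    exact hφ2 a
  · exact Cfsg.Agent.Lib.Helper28.Herm.herm_add_left n q
  · exact Cfsg.Agent.Lib.Helper28.Herm.herm_smul_left n q
  · intro v w
    rw [hσ]
    exact Cfsg.Agent.Lib.Helper28.Herm.herm_symm hF n w v
  · intro v hv
    obtain ⟨i, hi⟩ : ∃ i, v i ≠ 0 := by
      by_contra hcon
      push Not at hcon
      exact hv (funext hcon)
    have hq0 : q ≠ 0 := by omega
    refine ⟨⟨Pi.single i 1, ?_⟩, ⟨Pi.single i 1, ?_⟩⟩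
    · unfold Cfsg.hermForm
      rw [Finset.sum_eq_single i]
      · simp [hi]
      · intro j _ hji
        simp [hji]
      · intro h
        exact absurd (Finset.mem_univ _) h
    · unfold Cfsg.hermForm
      rw [Finset.sum_eq_single i]
      · simp [hi]
      · intro j _ hji
        simp [hji, hq0]
      · intro h
        exact absurd (Finset.mem_univ _) h

end Cfsg.Agent.Lib.Helper28.UHerm
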