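import Mathlib
import Cfsg.Agent.Lib.helper3.CEUO.Defs2
import Cfsg.Agent.Lib.Helper24.STCI1
import Cfsg.Agent.Lib.Helper18.CEUOA2

/-!
# Project CEUO (helper3, odd case of S2089), rows K1 (`Kb_map Kb_eq Kb_cj`), K2a (`Kb_mul_left`), K2b (`Kb_mul_right`), K3 (`Kb_v`), by helper28;
verbatim vs `helper3/CEUO/Skel.lean.txt` (extras prefixed `ceuok1_`)
-/

set_option autoImplicit false

namespace Cfsg.Agent.Lib.helper3.CEUO

open Cfsg.Agent.Lib.helper15.St2 Cfsg.Agent.Lib.helper7.Ce Cfsg.Agent.Lib.helper3.STC Cfsg.Agent.Lib.Helper27.STU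
  Cfsg.Agent.Lib.helper7.CEU

open Cfsg.Agent.Lib.helper7.CEC (I2 I3 I4 U2 U3)

section K

variable {F : Type*} [Field F] [StarRing F] {od : Prop} {ι : Type*} {Γ G : Type*} [Group Γ] [Group G] {S : SysU F od ι G} {σ : Γ →* G}

/-- `ab a ≠ ab b` unpacked. -/
theorem ceuok1_ne {a b : ι ⊕ ι} (hab : ab a ≠ ab b) : a ≠ b ∧ a ≠ ng b := by
  constructor
  · intro e
    exact hab (ab_eq_iff.2 (Or.inl e))
  · intro e
    exact hab (ab_eq_iff.2 (Or.inr e))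

/-- the relation `hh` for the pair `(a, ng b)` in the form `cm`. -/
theorem ceuok1_cm_hh (S : SysU F od ι G) {a b : ι ⊕ ι} (hab : ab a ≠ ab b) (ξ η : Lam F od) :
    cm (S.xl a ξ) (S.xl (ng b) η) = S.xs a b (-(ξ.v * star η.v)) := by
  have h := S.hh a (ng b) (ceuok1_ne hab).2 (by rw [ng_ng]; exact (ceuok1_ne hab).1) ξ η
  rw [ng_ng] at h
  exact h

/-- K1 [S]  `map_cm`, `map_lf`, `S.hh a (ng b)`, `ng_ng`. -/
theorem Kb_map (h : IsCE σ) {a b : ι ⊕ ι} (hab : ab a ≠ ab b) (ξ η : Lam F od) :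
    σ (Kb S h a b ξ η) = S.xs a b (-(ξ.v * star η.v)) := by
  unfold Kb
  rw [map_cm, map_lf, map_lf, ceuok1_cm_hh S hab]

/-- K1 [S]  `IsCE.cm_congr`, `map_lf`. -/
theorem Kb_eq (h : IsCE σ) {a b : ι ⊕ ι} {ξ η : Lam F od} {p q : Γ} (hp : σ p = S.xl a ξ) (hq : σ q = S.xl (ng b) η) :
    cm p q = Kb S h a b ξ η := by
  unfold Kb
  exact h.cm_congr (by rw [hp, map_lf]) (by rw [hq, map_lf])

/-- K1 [S]  `cj_cm`, `Kb_eq`, `map_cj`, `hg.2.2`, `hg.1.pi_ng`. -/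
theorem Kb_cj (h : IsCE σ) {g : G} {π : Equiv.Perm (ι ⊕ ι)} {d : ι ⊕ ι → F} {d0 : F} (hg : S.IsMon g π d d0) {e : Γ} (he : σ e = g)
    (a b : ι ⊕ ι) (ξ η : Lam F od) :
    cj e (Kb S h a b ξ η) = Kb S h (π a) (π b) (Lam.act (d a * d0⁻¹) ξ) (Lam.act (d (ng b) * d0⁻¹) η) := by
  have e1 : cj e (Kb S h a b ξ η) = cm (cj e (lf h (S.xl a ξ))) (cj e (lf h (S.xl (ng b) η))) :=
    cj_cm e _ _
  rw [e1]
  apply Kb_eq h
  · rw [map_cj, he, map_lf]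
    exact hg.2.2 a ξ
  · rw [map_cj, he, map_lf, ← hg.1.pi_ng b]
    exact hg.2.2 (ng b) η

/-- K2 [M]  `p := lf h (xl a ξ)`, `p' := lf h (xl a ξ')`, `q := lf h (xl (ng b) η)`: `cm (p * p') q = Kb (ξ * ξ') η` (`Kb_eq`, `S.addl`), and `cm (p * p') q = p * cm p' q * p⁻¹ * cm p q` (`cm_mul_left`);
`cm p' q = Kb ξ' η` is a lift of `xs a b _` (`Kb_map`) and commutes with `p` by `hCl a a b`; the two factors `Kb ξ' η`, `Kb ξ η` commute by `hCs a b a b`. -/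
theorem Kb_mul_left (h : IsCE σ) (hCs : HCs S σ) (hCl : HCl S σ) {a b : ι ⊕ ι} (hab : ab a ≠ ab b) (ξ ξ' η : Lam F od) :
    Kb S h a b (ξ * ξ') η = Kb S h a b ξ η * Kb S h a b ξ' η := by
  obtain ⟨hab1, hab2⟩ := ceuok1_ne hab
  have e1 : cm (lf h (S.xl a ξ) * lf h (S.xl a ξ')) (lf h (S.xl (ng b) η)) = Kb S h a b (ξ * ξ') η :=
    Kb_eq h (by rw [map_mul, map_lf, map_lf, S.addl]) (map_lf h _)
  rw [← e1, cm_mul_left]
  have c1 : lf h (S.xl a ξ) * Kb S h a b ξ' η = Kb S h a b ξ' η * lf h (S.xl a ξ) :=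
    hCl a a b hab1 hab2 (ne_ng a) hab1.symm ξ (-(ξ'.v * star η.v)) _ _ (map_lf h _) (Kb_map h hab ξ' η)
  have c2 : Kb S h a b ξ' η * Kb S h a b ξ η = Kb S h a b ξ η * Kb S h a b ξ' η :=
    hCs a b a b hab1 hab2 hab1 hab2 hab1.symm hab1 (ne_ng b) (ne_ng a) _ _ _ _ (Kb_map h hab ξ' η) (Kb_map h hab ξ η)
  show lf h (S.xl a ξ) * Kb S h a b ξ' η * (lf h (S.xl a ξ))⁻¹ * Kb S h a b ξ η = _
  rw [c1, mul_inv_cancel_right, c2]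

/-- K2 [M]  `cm_mul_right`: `cm p (q * q') = cm p q * (q * cm p q' * q⁻¹)`; `q` is a lift of `xl (ng b) η` and commutes with the lift `cm p q'` of `xs a b _` by `hCl (ng b) a b`. -/
theorem Kb_mul_right (h : IsCE σ) (hCs : HCs S σ) (hCl : HCl S σ) {a b : ι ⊕ ι} (hab : ab a ≠ ab b) (ξ η η' : Lam F od) :
    Kb S h a b ξ (η * η') = Kb S h a b ξ η * Kb S h a b ξ η' := by
  have _ := hCs
  obtain ⟨hab1, hab2⟩ := ceuok1_ne hab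
  have e1 : cm (lf h (S.xl a ξ)) (lf h (S.xl (ng b) η) * lf h (S.xl (ng b) η')) = Kb S h a b ξ (η * η') :=
    Kb_eq h (map_lf h _) (by rw [map_mul, map_lf, map_lf, S.addl])
  rw [← e1, cm_mul_right]
  have c1 : lf h (S.xl (ng b) η) * Kb S h a b ξ η' = Kb S h a b ξ η' * lf h (S.xl (ng b) η) :=
    hCl (ng b) a b hab1 hab2 (by rw [ng_ng]; exact hab1) (ng_ne b).symm η (-(ξ.v * star η'.v)) _ _ (map_lf h _) (Kb_map h hab ξ η')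
  show Kb S h a b ξ η * (lf h (S.xl (ng b) η) * Kb S h a b ξ η' * (lf h (S.xl (ng b) η))⁻¹) = _
  rw [c1, mul_inv_cancel_right]

/-- K3 [S-M]  `eq_of_v` twice, for `fun ξ => Kb S h a b ξ η` (`Kb_mul_left`) and `fun η => Kb S h a b ξ' η` (`Kb_mul_right`); the values commute by `hCs a b a b` and `Kb_map`. -/
theorem Kb_v (h : IsCE σ) (hF : Hyp F) (hod : od) (hCs : HCs S σ) (hCl : HCl S σ) {a b : ι ⊕ ι} (hab : ab a ≠ ab b) {ξ ξ' η η' : Lam F od}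
    (hξ : ξ.v = ξ'.v) (hη : η.v = η'.v) : Kb S h a b ξ η = Kb S h a b ξ' η' := by
  obtain ⟨hab1, hab2⟩ := ceuok1_ne hab
  have hc : ∀ ξ₁ η₁ ξ₂ η₂ : Lam F od, Kb S h a b ξ₁ η₁ * Kb S h a b ξ₂ η₂ = Kb S h a b ξ₂ η₂ * Kb S h a b ξ₁ η₁ :=
    fun ξ₁ η₁ ξ₂ η₂ =>
      hCs a b a b hab1 hab2 hab1 hab2 hab1.symm hab1 (ne_ng b) (ne_ng a) _ _ _ _ (Kb_map h hab ξ₁ η₁) (Kb_map h hab ξ₂ η₂)
  have s1 : Kb S h a b ξ η = Kb S h a b ξ' η :=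
    eq_of_v hF hod (fun ζ => Kb S h a b ζ η) (fun ζ ζ' => Kb_mul_left h hCs hCl hab ζ ζ' η)
      (fun ζ ζ' => hc ζ η ζ' η) hξ
  have s2 : Kb S h a b ξ' η = Kb S h a b ξ' η' :=
    eq_of_v hF hod (fun ζ => Kb S h a b ξ' ζ) (fun ζ ζ' => Kb_mul_right h hCs hCl hab ξ' ζ ζ')
      (fun ζ ζ' => hc ξ' ζ ξ' ζ') hη
  rw [s1, s2]

end K

end Cfsg.Agent.Lib.helper3.CEUO
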