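import Mathlib
import Cfsg.Agent.Lib.helper3.CEUO.Defs2
import Cfsg.Agent.Lib.Helper24.STCI1
import Cfsg.Agent.Lib.helper8.STULA1
import Cfsg.Agent.Lib.Helper28.CEUOK1

/-!
# Project CEUO (helper3, odd case of S2089), row K4 (`Kb_B`), by helper28; verbatim vs `helper3/CEUO/Skel.lean.txt` (extras prefixed `ceuok4_`)
-/

set_option autoImplicit false

namespace Cfsg.Agent.Lib.helper3.CEUO

open Cfsg.Agent.Lib.helper15.St2 Cfsg.Agent.Lib.helper7.Ce Cfsg.Agent.Lib.helper3.STC Cfsg.Agent.Lib.Helper27.STU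
  Cfsg.Agent.Lib.helper7.CEU

open Cfsg.Agent.Lib.helper7.CEC (I2 I3 I4 U2 U3)

section K

variable {F : Type*} [Field F] [StarRing F] {od : Prop} {ι : Type*} {Γ G : Type*} [Group Γ] [Group G] {S : SysU F od ι G} {σ : Γ →* G}

omit [StarRing F] in
/-- the scalar identity of the torus trick -/
theorem ceuok4_scal {l : F} (hl : l - 1 ≠ 0) (x : F) : l * ((l - 1)⁻¹ * x) + -((l - 1)⁻¹ * x) = x := by
  have e : l * ((l - 1)⁻¹ * x) + -((l - 1)⁻¹ * x) = (l - 1) * (l - 1)⁻¹ * x := by ring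
  rw [e, mul_inv_cancel₀ hl, one_mul]

/-- `Kb 1 η = 1` -/
theorem ceuok4_one_left (h : IsCE σ) (hCs : HCs S σ) (hCl : HCl S σ) {a b : ι ⊕ ι} (hab : ab a ≠ ab b) (η : Lam F od) :
    Kb S h a b 1 η = 1 := by
  have e := Kb_mul_left h hCs hCl hab 1 1 η
  rw [mul_one] at e
  exact (mul_eq_left.1 e.symm)

/-- `Kb ξ⁻¹ η = (Kb ξ η)⁻¹` -/
theorem ceuok4_inv_left (h : IsCE σ) (hCs : HCs S σ) (hCl : HCl S σ) {a b : ι ⊕ ι} (hab : ab a ≠ ab b) (ξ η : Lam F od) :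
    Kb S h a b ξ⁻¹ η = (Kb S h a b ξ η)⁻¹ := by
  have e := Kb_mul_left h hCs hCl hab ξ⁻¹ ξ η
  rw [inv_mul_cancel, ceuok4_one_left h hCs hCl hab] at e
  exact eq_inv_of_mul_eq_one_left e.symm

/-- the commutator of a lift of a torus element (scaling `xl a` by `lam`, fixing `xl (ng b)`) with `Kb ξ η` -/
theorem ceuok4_cm_tor (h : IsCE σ) (hCs : HCs S σ) (hCl : HCl S σ) {a b : ι ⊕ ι} (hab : ab a ≠ ab b)
    {g : G} {d : ι ⊕ ι → F} {d0 : F} (hg : S.IsMon g 1 d d0) (hd : d (ng b) * d0⁻¹ = 1) {e : Γ} (he : σ e = g) (ξ η : Lam F od) :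
    cm e (Kb S h a b ξ η) = Kb S h a b (Lam.act (d a * d0⁻¹) ξ * ξ⁻¹) η := by
  have h1 := Kb_cj h hg he a b ξ η
  rw [hd, Lam.act_one, Equiv.Perm.one_apply, Equiv.Perm.one_apply] at h1
  rw [Kb_mul_left h hCs hCl hab, ceuok4_inv_left h hCs hCl hab, ← h1]
  unfold cm cj
  rfl

/-- K4 [M]  the relation `B` by the torus trick.  `g, d, d0` from `htb a (ng b)`: `lam := d a * d0⁻¹ ≠ 1`, `d (ng b) * d0⁻¹ = 1`; `e := lf h g`.  By `Kb_cj` (`π = 1`, `Lam.act_one`):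
`cj e (Kb ξ' η') = Kb (act lam ξ') η'`, so `cm e (Kb ξ' η') = cj e (Kb ξ' η') * (Kb ξ' η')⁻¹ = Kb (act lam ξ' * ξ'⁻¹) η'` (`Kb_mul_left`; `Kb ξ'⁻¹ η' = (Kb ξ' η')⁻¹` from `Kb_mul_left` and `Kb 1 η' = 1`).
Take `ξ₀ := ofV ((lam - 1)⁻¹ * ξ.v)` and `ξ₁ := ofV (ξ₀.v * star η.v)`: `Kb ξ₀ η` and `Kb ξ₁ (ofV 1)` are lifts of the same element (`Kb_map`), so `cm e (Kb ξ₀ η) = cm e (Kb ξ₁ (ofV 1))` (`IsCE.cm_congr`);
the left side is `Kb (act lam ξ₀ * ξ₀⁻¹) η = Kb ξ η` (`Kb_v`: the `v`-part is `(lam - 1) * ξ₀.v = ξ.v`), the right side is `Kb (act lam ξ₁ * ξ₁⁻¹) (ofV 1) = Kb (ofV (-(-(ξ.v * star η.v)))) (ofV 1)` (`Kb_v`, `neg_neg`),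
which is `Xo S h hF hod a b (-(ξ.v * star η.v))` by definition. -/
theorem Kb_B (h : IsCE σ) (hF : Hyp F) (hod : od) (hCs : HCs S σ) (hCl : HCl S σ) (htb : TorB S) {a b : ι ⊕ ι} (hab : ab a ≠ ab b)
    (ξ η : Lam F od) : Kb S h a b ξ η = Xo S h hF hod a b (-(ξ.v * star η.v)) := by
  obtain ⟨g, d, d0, hg, hlam, hd⟩ := htb a (ng b) (by rw [ab_ng]; exact hab)
  have hl1 : d a * d0⁻¹ - 1 ≠ 0 := sub_ne_zero.2 hlam
  have he : σ (lf h g) = g := map_lf h g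
  obtain ⟨ξ₀, hξ₀⟩ : ∃ ξ₀ : Lam F od, ξ₀.v = (d a * d0⁻¹ - 1)⁻¹ * ξ.v := ⟨ofV hF hod _, ofV_v hF hod _⟩
  obtain ⟨ξ₁, hξ₁⟩ : ∃ ξ₁ : Lam F od, ξ₁.v = ξ₀.v * star η.v := ⟨ofV hF hod _, ofV_v hF hod _⟩
  have hmap : σ (Kb S h a b ξ₀ η) = σ (Kb S h a b ξ₁ (ofV hF hod 1)) := by
    rw [Kb_map h hab, Kb_map h hab, hξ₁, ofV_v, star_one, mul_one]
  have hcm : cm (lf h g) (Kb S h a b ξ₀ η) = cm (lf h g) (Kb S h a b ξ₁ (ofV hF hod 1)) := h.cm_congr rfl hmap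
  rw [ceuok4_cm_tor h hCs hCl hab hg hd he, ceuok4_cm_tor h hCs hCl hab hg hd he] at hcm
  have hv0 : (Lam.act (d a * d0⁻¹) ξ₀ * ξ₀⁻¹).v = ξ.v := by
    rw [Lam.mul_v, Lam.act_v, Lam.inv_v, hξ₀]
    exact ceuok4_scal hl1 ξ.v
  have hv1 : (Lam.act (d a * d0⁻¹) ξ₁ * ξ₁⁻¹).v = (ofV hF hod (-(-(ξ.v * star η.v))) : Lam F od).v := by
    rw [Lam.mul_v, Lam.act_v, Lam.inv_v, hξ₁, hξ₀, ofV_v, neg_neg]
    have e := ceuok4_scal hl1 (ξ.v * star η.v)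
    rw [← e]
    ring
  have e0 : Kb S h a b (Lam.act (d a * d0⁻¹) ξ₀ * ξ₀⁻¹) η = Kb S h a b ξ η := Kb_v h hF hod hCs hCl hab hv0 rfl
  have e1 : Kb S h a b (Lam.act (d a * d0⁻¹) ξ₁ * ξ₁⁻¹) (ofV hF hod 1) =
      Kb S h a b (ofV hF hod (-(-(ξ.v * star η.v)))) (ofV hF hod 1) := Kb_v h hF hod hCs hCl hab hv1 rfl
  rw [e0, e1] at hcm
  exact hcm

end K

end Cfsg.Agent.Lib.helper3.CEUO
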