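import Cfsg.Agent.Lib.Helper28.OIwaQ

set_option autoImplicit false

open Cfsg

namespace Cfsg.Agent.Lib.Helper28.OPlane

open Matrix Cfsg.Agent.Lib.Lead Cfsg.Agent.Lib.Helper28.HForm Cfsg.Agent.Lib.Helper28.OGen
  Cfsg.Agent.Lib.Helper28.OMax Cfsg.Agent.Lib.Helper28.OMaxQ Cfsg.Agent.Lib.Helper28.OIwa
  Cfsg.Agent.Lib.Helper28.OIwaQ Cfsg.Agent.Lib.Helper28.OTrans Cfsg.Agent.S0795

theorem card3 {F : Type*} [Field F] [Fintype F] (hq : Fintype.card F = 3) (a : F) :
    a = 0 ∨ a = 1 ∨ a = -1 := by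
  have h1 : a ^ 3 = a := by
    rw [← hq]
    exact FiniteField.pow_card a
  have h3 : a * ((a - 1) * (a + 1)) = 0 := by linear_combination h1
  rcases mul_eq_zero.1 h3 with h | h
  · left
    exact h
  · rcases mul_eq_zero.1 h with h | h
    · right
      left
      exact sub_eq_zero.1 h
    · right
      right
      exact eq_neg_of_add_eq_zero_left h

theorem two_ne_zero3 {F : Type*} [Field F] [Fintype F] (hq : Fintype.card F = 3) :
    (2 : F) ≠ 0 := by
  intro h
  have hchar : ringChar F = 2 := by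
    have : CharP F 2 := CharTwo.of_one_ne_zero_of_two_eq_zero one_ne_zero h
    exact ringChar.eq F 2
  have := FiniteField.even_card_of_char_two hchar
  rw [hq] at this
  omega

theorem plus_plane_abs {n : ℕ} {F : Type*} [Field F] [Fintype F]
    {f : (Fin n → F) → (Fin n → F) → F} (hq : Fintype.card F = 3) (hf : SymF f) (hn : 6 ≤ n)
    {G : Subgroup (Matrix.GeneralLinearGroup (Fin n) F)} (hG : SgGroup f G)
    (W : Submodule F (Fin n → F)) (e₁ f₁ : Fin n → F) (he : f e₁ e₁ = 0) (hf₁ : f f₁ f₁ = 0)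
    (hef : f e₁ f₁ = 1) (hW : W = Submodule.span F {e₁, f₁}) :
    ∃ K : Subgroup (Matrix.GeneralLinearGroup (Fin n) F),
      Cfsg.Geo.subspaceStabilizer W ⊓ G < K ∧ K < G := by
  have h2 := two_ne_zero3 hq
  have hfe : f f₁ e₁ = 1 := by rw [s_symm hf, hef]
  obtain ⟨p, hp⟩ : ∃ p, p = e₁ + f₁ := ⟨_, rfl⟩
  obtain ⟨p', hp'⟩ : ∃ p', p' = e₁ - f₁ := ⟨_, rfl⟩
  have he₁W : e₁ ∈ W := by
    rw [hW]
    exact Submodule.subset_span (by simp)
  have hf₁W : f₁ ∈ W := by
    rw [hW]
    exact Submodule.subset_span (by simp)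
  have hpW : p ∈ W := by
    rw [hp]
    exact W.add_mem he₁W hf₁W
  have hp'W : p' ∈ W := by
    rw [hp']
    exact W.sub_mem he₁W hf₁W
  have hpp : f p p = 2 := by
    rw [hp, hf.add_left, f_add_right hf, f_add_right hf, he, hf₁, hef, hfe]
    ring
  have hp'p' : f p' p' = -2 := by
    rw [hp', f_sub_left hf, f_sub_right hf, f_sub_right hf, he, hf₁, hef, hfe]
    ring
  have hp'p : f p' p = 0 := by
    rw [hp', hp, f_sub_left hf, f_add_right hf, f_add_right hf, he, hf₁, hef, hfe]
    ring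
  have hpp' : f p p' = 0 := by rw [s_symm hf, hp'p]
  have hpp0 : f p p ≠ 0 := by
    rw [hpp]
    exact h2
  have hp'p'0 : f p' p' ≠ 0 := by
    rw [hp'p']
    exact neg_ne_zero.2 h2
  have hnd1 := nd_cons1 hf e0 nd_e0 p (perp_e0 p) hpp0
  have hnd2 := nd_cons1 hf _ hnd1 p' ((perp_cons _ _ _).2 ⟨hp'p, perp_e0 _⟩) hp'p'0
  obtain ⟨v, hva, hvv, hv0⟩ := ex_sing hf h2 _ hnd2 (by omega)
  obtain ⟨v', hv'v', hv'v, hv'a⟩ := partner hf h2 _ hnd2 v hv0 hva hvv
  have hnd4 := nd_cons2 hf _ hnd2 v' v hv'a hva hv'v' hvv (by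
    rw [s_symm hf, hv'v]
    exact one_ne_zero)
  rw [perp_cons, perp_cons] at hva hv'a
  obtain ⟨hvp', hvp, _⟩ := hva
  obtain ⟨hv'p', hv'p, _⟩ := hv'a
  have hvW : v ∉ W := by
    intro h
    rw [hW] at h
    obtain ⟨a, b, hab⟩ := Submodule.mem_span_pair.1 h
    have h1 : f v e₁ = 0 := by
      have e : e₁ = (1 / 2 : F) • (p + p') := by
        rw [hp, hp']
        have : e₁ + f₁ + (e₁ - f₁) = (2 : F) • e₁ := by module
        rw [this, smul_smul]
        have : (1 / 2 : F) * 2 = 1 := by field_simp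
        rw [this, one_smul]
      rw [e, s_smul_right hf, f_add_right hf, hvp, hvp']
      ring
    have h3 : f v f₁ = 0 := by
      have e : f₁ = (1 / 2 : F) • (p - p') := by
        rw [hp, hp']
        have : e₁ + f₁ - (e₁ - f₁) = (2 : F) • f₁ := by module
        rw [this, smul_smul]
        have : (1 / 2 : F) * 2 = 1 := by field_simp
        rw [this, one_smul]
      rw [e, s_smul_right hf, f_sub_right hf, hvp, hvp']
      ring
    rw [← hab, hf.add_left, hf.smul_left, hf.smul_left, he, hfe] at h1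
    rw [← hab, hf.add_left, hf.smul_left, hf.smul_left, hf₁, hef] at h3
    have hb : b = 0 := by linear_combination h1
    have ha : a = 0 := by linear_combination h3
    rw [ha, hb, zero_smul, zero_smul, add_zero] at hab
    exact hv0 hab.symm
  refine ⟨Cfsg.Geo.subspaceStabilizer (Submodule.span F {p}) ⊓ G, ?_, ?_⟩
  · rw [SetLike.lt_iff_le_and_exists]
    constructor
    · rintro g ⟨hgS, hgG⟩
      refine ⟨?_, hgG⟩
      apply Cfsg.Agent.Lib.Helper28.UMax.stab_of_maps
      intro x hx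
      obtain ⟨c, rfl⟩ := Submodule.mem_span_singleton.1 hx
      rw [Matrix.mulVec_smul]
      apply Submodule.smul_mem
      have h1 := ((Cfsg.Agent.Lib.Helper28.UMax.mem_stab_iff W g).1 hgS p).1 hpW
      rw [hW] at h1
      obtain ⟨a, b, hab⟩ := Submodule.mem_span_pair.1 h1
      have h3 := hG.iso g hgG p p
      rw [← hab, hpp] at h3
      simp only [hf.add_left, f_add_right hf, hf.smul_left, s_smul_right hf, he, hf₁, hef, hfe] at h3
      have h4 : a * b = 1 := by
        have : 2 * (a * b) = 2 * 1 := by linear_combination h3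
        exact mul_left_cancel₀ h2 this
      rw [← hab, Submodule.mem_span_singleton]
      rcases card3 hq a with ha | ha | ha
      · rw [ha, zero_mul] at h4
        exact absurd h4 zero_ne_one
      · rw [ha, one_mul] at h4
        refine ⟨1, ?_⟩
        rw [ha, h4, hp]
        module
      · have hb : b = -1 := by
          rw [ha] at h4
          linear_combination -h4
        refine ⟨-1, ?_⟩
        rw [ha, hb, hp]
        module
    · obtain ⟨t, htv', htv, htp', htp, htt⟩ : ∃ t, f t v' = 0 ∧ f t v = 0 ∧ f t p' = 0 ∧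
          f t p = 0 ∧ f t t = 2 := by
        obtain ⟨t, hta, htt⟩ := rep_value hf h2 _ hnd4 (by omega) 2
        rw [perp_cons, perp_cons, perp_cons, perp_cons] at hta
        exact ⟨t, hta.1, hta.2.1, hta.2.2.1, hta.2.2.2.1, htt⟩
      obtain ⟨u, hu⟩ : ∃ u, u = p' + t := ⟨_, rfl⟩
      have huu : f u u = 0 := by
        rw [hu, hf.add_left, f_add_right hf, f_add_right hf, hp'p', htp', s_symm hf p' t, htp', htt]
        ring
      have hup : f u p = 0 := by rw [hu, hf.add_left, hp'p, htp, add_zero]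
      have huv : f u v = 0 := by rw [hu, hf.add_left, s_symm hf p' v, hvp', htv, add_zero]
      have hup' : f u p' = -2 := by rw [hu, hf.add_left, hp'p', htp', add_zero]
      obtain ⟨T, hT⟩ := hG.ex u v 1 huu hvv huv
      have hTG : T ∈ G := hG.sg T u v 1 huu hvv huv hT
      refine ⟨T, ⟨?_, hTG⟩, ?_⟩
      · apply Cfsg.Agent.Lib.Helper28.UMax.stab_of_maps
        intro x hx
        obtain ⟨c, rfl⟩ := Submodule.mem_span_singleton.1 hx
        rw [Matrix.mulVec_smul]
        apply Submodule.smul_mem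
        rw [hT p]
        unfold Tv
        rw [hup, hvp, zero_smul, zero_smul, sub_zero, smul_zero, add_zero]
        exact Submodule.mem_span_singleton_self p
      · rintro ⟨hTS, _⟩
        have h1 := ((Cfsg.Agent.Lib.Helper28.UMax.mem_stab_iff W T).1 hTS p').1 hp'W
        rw [hT p'] at h1
        unfold Tv at h1
        rw [hup', hvp', zero_smul, sub_zero, one_smul] at h1
        have h3 := W.sub_mem h1 hp'W
        rw [add_sub_cancel_left] at h3
        have h4 := W.smul_mem (-2 : F)⁻¹ h3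
        rw [smul_smul, inv_mul_cancel₀ (neg_ne_zero.2 h2), one_smul] at h4
        exact hvW h4
  · rw [SetLike.lt_iff_le_and_exists]
    refine ⟨inf_le_right, ?_⟩
    have hnd3 := nd_cons2 hf _ hnd1 v' v ((perp_cons _ _ _).2 ⟨hv'p, perp_e0 _⟩)
      ((perp_cons _ _ _).2 ⟨hvp, perp_e0 _⟩) hv'v' hvv (by
      rw [s_symm hf, hv'v]
      exact one_ne_zero)
    obtain ⟨t, htv', htv, htp, htt⟩ : ∃ t, f t v' = 0 ∧ f t v = 0 ∧ f t p = 0 ∧ f t t = -2 := by
      obtain ⟨t, hta, htt⟩ := rep_value hf h2 _ hnd3 (by omega) (-2)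
      rw [perp_cons, perp_cons, perp_cons] at hta
      exact ⟨t, hta.1, hta.2.1, hta.2.2.1, htt⟩
    obtain ⟨u, hu⟩ : ∃ u, u = p + t := ⟨_, rfl⟩
    have huu : f u u = 0 := by
      rw [hu, hf.add_left, f_add_right hf, f_add_right hf, hpp, htp, s_symm hf p t, htp, htt]
      ring
    have huv : f u v = 0 := by rw [hu, hf.add_left, s_symm hf p v, hvp, htv, add_zero]
    have hup : f u p = 2 := by rw [hu, hf.add_left, hpp, htp, add_zero]
    obtain ⟨T, hT⟩ := hG.ex u v 1 huu hvv huv
    have hTG : T ∈ G := hG.sg T u v 1 huu hvv huv hT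
    refine ⟨T, hTG, ?_⟩
    rintro ⟨hTS, _⟩
    have h1 := ((Cfsg.Agent.Lib.Helper28.UMax.mem_stab_iff _ T).1 hTS p).1
      (Submodule.mem_span_singleton_self p)
    rw [hT p] at h1
    unfold Tv at h1
    rw [hup, hvp, zero_smul, sub_zero, one_smul] at h1
    obtain ⟨a, ha⟩ := Submodule.mem_span_singleton.1 h1
    have h3 : (2 : F) • v = (a - 1) • p := by
      rw [sub_smul, one_smul, ha]
      module
    have h4 : f ((2 : F) • v) ((2 : F) • v) = f ((a - 1) • p) ((a - 1) • p) := by rw [h3]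
    rw [hf.smul_left, s_smul_right hf, hvv, hf.smul_left, s_smul_right hf, hpp] at h4
    have h5 : (a - 1) * (a - 1) = 0 := by
      have : 2 * ((a - 1) * (a - 1)) = 2 * 0 := by linear_combination -h4
      exact mul_left_cancel₀ h2 this
    have h6 : a - 1 = 0 := mul_self_eq_zero.1 h5
    rw [h6, zero_smul] at h3
    have h7 := congrArg (fun y => (2 : F)⁻¹ • y) h3
    simp only [smul_smul, inv_mul_cancel₀ h2, one_smul, smul_zero] at h7
    exact hv0 h7

end Cfsg.Agent.Lib.Helper28.OPlane
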