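import Cfsg.Agent.Lib.Helper28.ONdW
import Cfsg.Agent.Lib.Helper28.OPlane

set_option autoImplicit false

open Cfsg

namespace Cfsg.Agent.Lib.Helper28.OFrame

open Matrix Cfsg.Agent.Lib.Helper28.HForm Cfsg.Agent.Lib.Helper28.OGen
  Cfsg.Agent.Lib.Helper28.OMax Cfsg.Agent.Lib.Helper28.OQ
  Cfsg.Agent.Lib.Helper28.OMax2 Cfsg.Agent.Lib.Helper28.OIwa Cfsg.Agent.Lib.Helper28.ONd

variable {n : ℕ} {F : Type*} [Field F] {Q : (Fin n → F) → F}
  {f : (Fin n → F) → (Fin n → F) → F}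

theorem frame_nonmax {J : Type*} (hq : QF Q f) (h2 : (2 : F) ≠ 0) (h3 : (3 : F) = 0)
    {G : Subgroup (Matrix.GeneralLinearGroup (Fin n) F)} (hG : SgGroupQ Q f G)
    (hRP : ∀ w o : Fin n → F, Q w ≠ 0 → Q o = Q w → f w o = 0 → ∃ h ∈ G, ∀ x,
      (h : Matrix (Fin n) (Fin n) F) *ᵥ x = x - (f x w / Q w) • w - (f x o / Q w) • o)
    (a : J → (Fin n → F)) (ε : F) (hε : ε ≠ 0) (haQ : ∀ j, Q (a j) = ε)
    (hao : ∀ i j, i ≠ j → f (a i) (a j) = 0)
    {t : ℕ} (D : Fin t → Submodule F (Fin n → F))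
    (hDdisj : ∀ i j, i ≠ j → ∀ x, x ∈ D i → x ∈ D j → x = 0)
    (hP : ∀ i, ∀ v ∈ D i, Q v = ε → ∃ j, v = a j ∨ v = -a j)
    (haD : ∀ j, ∃ i, a j ∈ D i)
    (i₁ : Fin t) (j₁ j₂ j₃ j₄ j₅ j₆ : J)
    (h12 : j₁ ≠ j₂) (h13 : j₁ ≠ j₃) (h14 : j₁ ≠ j₄) (h15 : j₁ ≠ j₅) (h16 : j₁ ≠ j₆)
    (h23 : j₂ ≠ j₃) (h24 : j₂ ≠ j₄) (h25 : j₂ ≠ j₅) (h26 : j₂ ≠ j₆)
    (h34 : j₃ ≠ j₄) (h35 : j₃ ≠ j₅) (h36 : j₃ ≠ j₆) (h45 : j₄ ≠ j₅) (h46 : j₄ ≠ j₆)
    (h56 : j₅ ≠ j₆)
    (hm1 : a j₁ ∈ D i₁) (hm5 : a j₅ ∈ D i₁) (hm2 : a j₂ ∉ D i₁) :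
    ∃ K : Subgroup (Matrix.GeneralLinearGroup (Fin n) F),
      Cfsg.Geo.decompositionStabilizer D ⊓ G < K ∧ K < G := by
  classical
  have hf := hq.sym
  obtain ⟨S, hS⟩ : ∃ S : Set (Fin n → F), S = {v | ∃ j, v = a j ∨ v = -a j} := ⟨_, rfl⟩
  have hSmem : ∀ v, v ∈ S ↔ ∃ j, v = a j ∨ v = -a j := by
    intro v
    rw [hS]
    rfl
  have haa : ∀ j, f (a j) (a j) = 2 * ε := fun j => by rw [f_self hq, haQ]
  have h2ε : 2 * ε ≠ 0 := mul_ne_zero h2 hε
  have ha0 : ∀ j, a j ≠ 0 := by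
    intro j h
    have := haQ j
    rw [h, Q_zero hq] at this
    exact hε this.symm
  refine ⟨Cfsg.stabilizing (Cfsg.glToMat (Fin n) F) S ⊓ G, ?_, ?_⟩
  · have hmapS : ∀ g ∈ Cfsg.Geo.decompositionStabilizer D ⊓ G, ∀ v ∈ S,
        (g : Matrix (Fin n) (Fin n) F) *ᵥ v ∈ S := by
      rintro g ⟨⟨σ, hσ⟩, hgG⟩ v hv
      obtain ⟨j, hj⟩ := (hSmem v).1 hv
      obtain ⟨i, hi⟩ := haD j
      have hvD : v ∈ D i := by
        rcases hj with rfl | rfl
        · exact hi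
        · exact (D i).neg_mem hi
      have hvQ : Q v = ε := by
        rcases hj with rfl | rfl
        · exact haQ j
        · rw [Q_neg hq, haQ j]
      have hgv : (g : Matrix (Fin n) (Fin n) F) *ᵥ v ∈ D (σ i) := by
        rw [← hσ i]
        exact ⟨v, hvD, by rw [Matrix.toLin'_apply]⟩
      have hgQ : Q ((g : Matrix (Fin n) (Fin n) F) *ᵥ v) = ε := by rw [hG.iso g hgG, hvQ]
      exact (hSmem _).2 (hP (σ i) _ hgv hgQ)
    refine lt_of_le_of_ne ?_ ?_
    · intro g hg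
      refine ⟨?_, hg.2⟩
      intro v
      constructor
      · exact hmapS g hg v
      · intro hgv
        have h1 := hmapS g⁻¹ (Subgroup.inv_mem _ hg) _ hgv
        show v ∈ S
        have e : ((g⁻¹ : Matrix.GeneralLinearGroup (Fin n) F) : Matrix (Fin n) (Fin n) F) *ᵥ
            ((Cfsg.glToMat (Fin n) F) g *ᵥ v) = v := Cfsg.Agent.S5643.inv_mv g v
        rw [e] at h1
        exact h1
    · intro heq
      obtain ⟨w, hw⟩ : ∃ w, w = a j₁ - a j₂ := ⟨_, rfl⟩
      obtain ⟨o, ho⟩ : ∃ o, o = a j₃ - a j₄ := ⟨_, rfl⟩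
      have hQw : Q w = 2 * ε := by
        rw [hw, Q_sub hq, haQ, haQ, hao j₁ j₂ h12]
        ring
      have hQo : Q o = Q w := by
        rw [hQw, ho, Q_sub hq, haQ, haQ, hao j₃ j₄ h34]
        ring
      have hwo : f w o = 0 := by
        rw [hw, ho, f_sub_left hf, f_sub_right hf, f_sub_right hf, hao j₁ j₃ h13, hao j₁ j₄ h14,
          hao j₂ j₃ h23, hao j₂ j₄ h24]
        ring
      obtain ⟨c, hcG, hc⟩ := hRP w o (by rw [hQw]; exact h2ε) hQo hwo
      have hfw : ∀ j, f (a j) w = f (a j) (a j₁) - f (a j) (a j₂) := fun j => by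
        rw [hw, f_sub_right hf]
      have hfo : ∀ j, f (a j) o = f (a j) (a j₃) - f (a j) (a j₄) := fun j => by
        rw [ho, f_sub_right hf]
      have hc1 : (c : Matrix (Fin n) (Fin n) F) *ᵥ a j₁ = a j₂ := by
        rw [hc, hfw, hfo, haa, hao j₁ j₂ h12, hao j₁ j₃ h13, hao j₁ j₄ h14, hQw, hw]
        have e : (2 * ε - 0) / (2 * ε) = 1 := by
          rw [sub_zero, div_self h2ε]
        rw [e]
        simp
      have hc2 : (c : Matrix (Fin n) (Fin n) F) *ᵥ a j₂ = a j₁ := by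
        rw [hc, hfw, hfo, haa, hao j₂ j₁ h12.symm, hao j₂ j₃ h23, hao j₂ j₄ h24, hQw, hw]
        have e : (0 - 2 * ε) / (2 * ε) = -1 := by
          rw [zero_sub, neg_div, div_self h2ε]
        rw [e]
        simp
      have hc3 : (c : Matrix (Fin n) (Fin n) F) *ᵥ a j₃ = a j₄ := by
        rw [hc, hfw, hfo, haa, hao j₃ j₁ h13.symm, hao j₃ j₂ h23.symm, hao j₃ j₄ h34, hQw, ho]
        have e : (2 * ε - 0) / (2 * ε) = 1 := by
          rw [sub_zero, div_self h2ε]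
        rw [e]
        simp
      have hc4 : (c : Matrix (Fin n) (Fin n) F) *ᵥ a j₄ = a j₃ := by
        rw [hc, hfw, hfo, haa, hao j₄ j₁ h14.symm, hao j₄ j₂ h24.symm, hao j₄ j₃ h34.symm, hQw, ho]
        have e : (0 - 2 * ε) / (2 * ε) = -1 := by
          rw [zero_sub, neg_div, div_self h2ε]
        rw [e]
        simp
      have hcj : ∀ j, j ≠ j₁ → j ≠ j₂ → j ≠ j₃ → j ≠ j₄ →
          (c : Matrix (Fin n) (Fin n) F) *ᵥ a j = a j := by
        intro j n1 n2 n3 n4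
        rw [hc, hfw, hfo, hao j j₁ n1, hao j j₂ n2, hao j j₃ n3, hao j j₄ n4]
        simp
      have hcS : ∀ v ∈ S, (c : Matrix (Fin n) (Fin n) F) *ᵥ v ∈ S := by
        intro v hv
        obtain ⟨j, hj⟩ := (hSmem v).1 hv
        have hcaj : ∃ j', (c : Matrix (Fin n) (Fin n) F) *ᵥ a j = a j' := by
          by_cases n1 : j = j₁
          · exact ⟨j₂, by rw [n1, hc1]⟩
          by_cases n2 : j = j₂
          · exact ⟨j₁, by rw [n2, hc2]⟩
          by_cases n3 : j = j₃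
          · exact ⟨j₄, by rw [n3, hc3]⟩
          by_cases n4 : j = j₄
          · exact ⟨j₃, by rw [n4, hc4]⟩
          exact ⟨j, hcj j n1 n2 n3 n4⟩
        obtain ⟨j', hj'⟩ := hcaj
        rw [hSmem]
        rcases hj with rfl | rfl
        · exact ⟨j', Or.inl hj'⟩
        · exact ⟨j', Or.inr (by rw [Matrix.mulVec_neg, hj'])⟩
      have hcc : ∀ x, (c : Matrix (Fin n) (Fin n) F) *ᵥ ((c : Matrix (Fin n) (Fin n) F) *ᵥ x) = x := by
        intro x
        rw [hc ((c : Matrix (Fin n) (Fin n) F) *ᵥ x), hc x]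
        have hww : f w w = 2 * Q w := f_self hq w
        have hoo : f o o = 2 * Q w := by rw [f_self hq, hQo]
        have how : f o w = 0 := by rw [s_symm hf, hwo]
        have hQw0 : Q w ≠ 0 := by
          rw [hQw]
          exact h2ε
        simp only [f_sub_left hf, hf.smul_left, hww, hoo, how, hwo]
        match_scalars <;> field_simp <;> ring
      have hcK : c ∈ Cfsg.stabilizing (Cfsg.glToMat (Fin n) F) S ⊓ G := by
        refine ⟨?_, hcG⟩
        intro v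
        constructor
        · exact hcS v
        · intro hcv
          have h1 := hcS _ hcv
          have e : (c : Matrix (Fin n) (Fin n) F) *ᵥ ((Cfsg.glToMat (Fin n) F) c *ᵥ v) = v :=
            hcc v
          rw [e] at h1
          exact h1
      rw [← heq] at hcK
      obtain ⟨⟨σ, hσ⟩, -⟩ := hcK
      have h5 : (c : Matrix (Fin n) (Fin n) F) *ᵥ a j₅ ∈ D (σ i₁) := by
        rw [← hσ i₁]
        exact ⟨a j₅, hm5, by rw [Matrix.toLin'_apply]⟩
      rw [hcj j₅ h15.symm h25.symm h35.symm h45.symm] at h5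
      have hσi : σ i₁ = i₁ := by
        by_contra hne
        exact ha0 j₅ (hDdisj (σ i₁) i₁ hne _ h5 hm5)
      have h1 : (c : Matrix (Fin n) (Fin n) F) *ᵥ a j₁ ∈ D (σ i₁) := by
        rw [← hσ i₁]
        exact ⟨a j₁, hm1, by rw [Matrix.toLin'_apply]⟩
      rw [hc1, hσi] at h1
      exact hm2 h1
  · refine lt_of_le_of_ne inf_le_right ?_
    intro heq
    obtain ⟨u, hu⟩ : ∃ u, u = a j₁ + a j₂ + a j₃ := ⟨_, rfl⟩
    obtain ⟨v, hv⟩ : ∃ v, v = a j₄ + a j₅ + a j₆ := ⟨_, rfl⟩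
    have h3ε : ε + ε + ε = 0 := by
      have : ε + ε + ε = 3 * ε := by ring
      rw [this, h3, zero_mul]
    have hQu : Q u = 0 := by
      rw [hu, hq.polar, hq.polar, haQ, haQ, haQ, hf.add_left, hao j₁ j₂ h12, hao j₁ j₃ h13,
        hao j₂ j₃ h23]
      linear_combination h3ε
    have hQv : Q v = 0 := by
      rw [hv, hq.polar, hq.polar, haQ, haQ, haQ, hf.add_left, hao j₄ j₅ h45, hao j₄ j₆ h46,
        hao j₅ j₆ h56]
      linear_combination h3ε
    have hfua : ∀ j, f u (a j) = f (a j₁) (a j) + f (a j₂) (a j) + f (a j₃) (a j) := fun j => by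
      rw [hu, hf.add_left, hf.add_left]
    have hfva : ∀ j, f v (a j) = f (a j₄) (a j) + f (a j₅) (a j) + f (a j₆) (a j) := fun j => by
      rw [hv, hf.add_left, hf.add_left]
    have huv : f u v = 0 := by
      rw [hv, f_add_right hf, f_add_right hf, hfua, hfua, hfua, hao j₁ j₄ h14, hao j₂ j₄ h24,
        hao j₃ j₄ h34, hao j₁ j₅ h15, hao j₂ j₅ h25, hao j₃ j₅ h35, hao j₁ j₆ h16, hao j₂ j₆ h26,
        hao j₃ j₆ h36]
      ring
    obtain ⟨T, hT⟩ := hG.ex u v 1 hQu hQv huv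
    have hTG : T ∈ G := hG.sg T u v 1 hQu hQv huv hT
    rw [← heq] at hTG
    have h4S : a j₄ ∈ S := (hSmem _).2 ⟨j₄, Or.inl rfl⟩
    have hT4 : (T : Matrix (Fin n) (Fin n) F) *ᵥ a j₄ ∈ S := (hTG.1 (a j₄)).1 h4S
    obtain ⟨j, hj⟩ := (hSmem _).1 hT4
    have hT4v : (T : Matrix (Fin n) (Fin n) F) *ᵥ a j₄ = a j₄ - (2 * ε) • u := by
      rw [hT (a j₄)]
      unfold Tv
      rw [hfua, hfva, hao j₁ j₄ h14, hao j₂ j₄ h24, hao j₃ j₄ h34, haa, hao j₅ j₄ h45.symm,
        hao j₆ j₄ h46.symm]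
      module
    have hkey : ∀ j', j' = j₁ ∨ j' = j₂ → j = j' := by
      intro j' hj'
      by_contra hne
      have h5 : f ((T : Matrix (Fin n) (Fin n) F) *ᵥ a j₄) (a j') = -(2 * ε) * (2 * ε) := by
        rw [hT4v, f_sub_left hf, hf.smul_left, hfua]
        rcases hj' with rfl | rfl
        · rw [hao j₄ j' h14.symm, haa, hao j₂ j' h12.symm, hao j₃ j' h13.symm]
          ring
        · rw [hao j₄ j' h24.symm, haa, hao j₁ j' h12, hao j₃ j' h23.symm]
          ring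
      have h6 : f ((T : Matrix (Fin n) (Fin n) F) *ᵥ a j₄) (a j') = 0 := by
        rcases hj with h | h
        · rw [h, hao j j' hne]
        · rw [h, f_neg_left hf, hao j j' hne, neg_zero]
      rw [h6] at h5
      have : (2 * ε) * (2 * ε) = 0 := by linear_combination h5
      exact mul_ne_zero h2ε h2ε this
    exact h12 ((hkey j₁ (Or.inl rfl)).symm.trans (hkey j₂ (Or.inr rfl)))


theorem three_eq_zero3 {K : Type*} [Field K] [Fintype K] (hq : Fintype.card K = 3) :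
    (3 : K) = 0 := by
  have h := FiniteField.cast_card_eq_zero K
  rw [hq] at h
  exact_mod_cast h

theorem pm_one3 {K : Type*} [Field K] [Fintype K] (hq : Fintype.card K = 3) {a : K}
    (ha : a ≠ 0) : a = 1 ∨ a = -1 := by
  rcases Cfsg.Agent.Lib.Helper28.OPlane.card3 hq a with h | h | h
  · exact absurd h ha
  · exact Or.inl h
  · exact Or.inr h

theorem neg_of_ne3 {K : Type*} [Field K] [Fintype K] (hq : Fintype.card K = 3) {a b : K}
    (ha : a ≠ 0) (hb : b ≠ 0) (hab : a ≠ b) : b = -a := by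
  rcases pm_one3 hq ha with h | h <;> rcases pm_one3 hq hb with h' | h'
  · exact absurd (h.trans h'.symm) hab
  · rw [h, h']
  · rw [h, h', neg_neg]
  · exact absurd (h.trans h'.symm) hab

structure Orth3 (Q : (Fin n → F) → F) (f : (Fin n → F) → (Fin n → F) → F)
    (B : Submodule F (Fin n → F)) (x y z : Fin n → F) : Prop where
  hx : x ∈ B
  hy : y ∈ B
  hz : z ∈ B
  xy : f x y = 0
  xz : f x z = 0
  yz : f y z = 0
  qx : Q x ≠ 0
  qy : Q y ≠ 0
  qz : Q z ≠ 0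
  zero : ∀ v ∈ B, f v x = 0 → f v y = 0 → f v z = 0 → v = 0

theorem orth3_ex (hq : QF Q f) (h2 : (2 : F) ≠ 0) {B O : Submodule F (Fin n → F)}
    (sp : Split f B O) (hB : Module.finrank F B = 3) :
    ∃ x y z, Orth3 Q f B x y z := by
  have hf := hq.sym
  have sps := sp.symm hf
  have hfr := sp.finrank hf
  obtain ⟨b, hb, hspan⟩ := sps.nd hf
  obtain ⟨x, hxb, hxx⟩ := exists_noniso_perp_s hf h2 b hb (by omega)
  have nd1 := nd_cons1 hf b hb x hxb hxx
  obtain ⟨y, hyc, hyy⟩ := exists_noniso_perp_s hf h2 _ nd1 (by omega)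
  have nd2 := nd_cons1 hf _ nd1 y hyc hyy
  obtain ⟨z, hzc, hzz⟩ := exists_noniso_perp_s hf h2 _ nd2 (by omega)
  have nd3 := nd_cons1 hf _ nd2 z hzc hzz
  rw [perp_cons] at hyc
  rw [perp_cons, perp_cons] at hzc
  obtain ⟨hyx, hyb⟩ := hyc
  obtain ⟨hzy, hzx, hzb⟩ := hzc
  have hQ : ∀ v, f v v ≠ 0 → Q v ≠ 0 := by
    intro v hv h
    apply hv
    rw [f_self hq, h, mul_zero]
  refine ⟨x, y, z, ⟨(sps.perp_iff hf b hspan x).1 hxb, (sps.perp_iff hf b hspan y).1 hyb,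
    (sps.perp_iff hf b hspan z).1 hzb, by rw [s_symm hf, hyx], by rw [s_symm hf, hzx],
    by rw [s_symm hf, hzy], hQ x hxx, hQ y hyy, hQ z hzz, ?_⟩⟩
  intro v hvB hvx hvy hvz
  have hp : Perp f (Fin.cons z (Fin.cons y (Fin.cons x b))) v := by
    rw [perp_cons, perp_cons, perp_cons]
    exact ⟨hvz, hvy, hvx, (sps.perp_iff hf b hspan v).2 hvB⟩
  have h1 := finrank_ker_eq hf _ nd3.li
  have h3 : Module.finrank F (LinearMap.ker (perpMap hf
      (Fin.cons z (Fin.cons y (Fin.cons x b)) : Fin (Module.finrank F O + 1 + 1 + 1) → _))) = 0 := by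
    omega
  have h4 := Submodule.finrank_eq_zero.1 h3
  have h5 : v ∈ LinearMap.ker (perpMap hf
      (Fin.cons z (Fin.cons y (Fin.cons x b)) : Fin (Module.finrank F O + 1 + 1 + 1) → _)) := by
    rw [mem_ker_perpMap]
    exact hp
  rw [h4, Submodule.mem_bot] at h5
  exact h5

theorem orth3_coords (hq : QF Q f) {B : Submodule F (Fin n → F)} {x y z : Fin n → F}
    (h : Orth3 Q f B x y z) (h2 : (2 : F) ≠ 0) (v : Fin n → F) (hv : v ∈ B) :
    v = (f v x / f x x) • x + (f v y / f y y) • y + (f v z / f z z) • z := by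
  have hf := hq.sym
  have hxx : f x x ≠ 0 := by
    rw [f_self hq]
    exact mul_ne_zero h2 h.qx
  have hyy : f y y ≠ 0 := by
    rw [f_self hq]
    exact mul_ne_zero h2 h.qy
  have hzz : f z z ≠ 0 := by
    rw [f_self hq]
    exact mul_ne_zero h2 h.qz
  have hyx : f y x = 0 := by rw [s_symm hf, h.xy]
  have hzx : f z x = 0 := by rw [s_symm hf, h.xz]
  have hzy : f z y = 0 := by rw [s_symm hf, h.yz]
  have key := h.zero (v - ((f v x / f x x) • x + (f v y / f y y) • y + (f v z / f z z) • z))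
    (B.sub_mem hv (B.add_mem (B.add_mem (B.smul_mem _ h.hx) (B.smul_mem _ h.hy))
      (B.smul_mem _ h.hz)))
    (by
      rw [f_sub_left hf, hf.add_left, hf.add_left, hf.smul_left, hf.smul_left, hf.smul_left, hyx,
        hzx]
      field_simp
      ring)
    (by
      rw [f_sub_left hf, hf.add_left, hf.add_left, hf.smul_left, hf.smul_left, hf.smul_left, h.xy,
        hzy]
      field_simp
      ring)
    (by
      rw [f_sub_left hf, hf.add_left, hf.add_left, hf.smul_left, hf.smul_left, hf.smul_left, h.xz,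
        h.yz]
      field_simp
      ring)
  exact sub_eq_zero.1 key

theorem orth3_fix (hq : QF Q f) (h2 : (2 : F) ≠ 0) (h3 : (3 : F) = 0)
    {B : Submodule F (Fin n → F)} {x y z : Fin n → F}
    (h : Orth3 Q f B x y z) (hxy : Q x = Q y) (hz : Q z = -Q x) :
    Orth3 Q f B (x + y) (x - y) z ∧ Q (x + y) = Q z ∧ Q (x - y) = Q z := by
  have hf := hq.sym
  have hyx : f y x = 0 := by rw [s_symm hf, h.xy]
  have h3x : Q x + Q x + Q x = 0 := by
    have : Q x + Q x + Q x = 3 * Q x := by ring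
    rw [this, h3, zero_mul]
  have e1 : Q (x + y) = Q z := by
    rw [hq.polar, h.xy, ← hxy, hz]
    linear_combination h3x
  have e2 : Q (x - y) = Q z := by
    rw [Q_sub hq, h.xy, ← hxy, hz]
    linear_combination h3x
  refine ⟨⟨B.add_mem h.hx h.hy, B.sub_mem h.hx h.hy, h.hz, ?_, ?_, ?_, ?_, ?_, h.qz, ?_⟩, e1, e2⟩
  · rw [hf.add_left, f_sub_right hf, f_sub_right hf, h.xy, hyx, f_self hq, f_self hq, hxy]
    ring
  · rw [hf.add_left, h.xz, h.yz, add_zero]
  · rw [f_sub_left hf, h.xz, h.yz, sub_zero]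
  · rw [e1]
    exact h.qz
  · rw [e2]
    exact h.qz
  · intro v hv h1 h2' h3'
    rw [f_add_right hf] at h1
    rw [f_sub_right hf] at h2'
    have hvx : f v x = 0 := by
      have : 2 * f v x = 0 := by linear_combination h1 + h2'
      rcases mul_eq_zero.1 this with h' | h'
      · exact absurd h' h2
      · exact h'
    have hvy : f v y = 0 := by
      have : 2 * f v y = 0 := by linear_combination h1 - h2'
      rcases mul_eq_zero.1 this with h' | h'
      · exact absurd h' h2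
      · exact h'
    exact h.zero v hv hvx hvy h3'

theorem orth3_perm1 {B : Submodule F (Fin n → F)} {x y z : Fin n → F} (hf : SymF f)
    (h : Orth3 Q f B x y z) : Orth3 Q f B y z x :=
  ⟨h.hy, h.hz, h.hx, h.yz, by rw [s_symm hf, h.xy], by rw [s_symm hf, h.xz], h.qy, h.qz, h.qx,
    fun v hv h1 h2 h3 => h.zero v hv h3 h1 h2⟩

theorem orth3_normal [Fintype F] (hq : QF Q f) (hc : Fintype.card F = 3)
    {B O : Submodule F (Fin n → F)} (sp : Split f B O) (hB : Module.finrank F B = 3) :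
    ∃ x y z, Orth3 Q f B x y z ∧ Q y = Q x ∧ Q z = Q x := by
  have hf := hq.sym
  have h2 := Cfsg.Agent.Lib.Helper28.OPlane.two_ne_zero3 hc
  have h3 := three_eq_zero3 hc
  obtain ⟨x, y, z, h⟩ := orth3_ex hq h2 sp hB
  by_cases hxy : Q x = Q y
  · by_cases hyz : Q y = Q z
    · exact ⟨x, y, z, h, hxy.symm, by rw [← hyz, hxy]⟩
    · have hz : Q z = -Q x := by
        rw [hxy]
        exact neg_of_ne3 hc h.qy h.qz hyz
      obtain ⟨h', e1, e2⟩ := orth3_fix hq h2 h3 h hxy hz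
      exact ⟨x + y, x - y, z, h', by rw [e1, e2], by rw [e1]⟩
  · by_cases hyz : Q y = Q z
    · have hx : Q x = -Q y := by
        have := neg_of_ne3 hc h.qx h.qy hxy
        rw [this, neg_neg]
      have h' := orth3_perm1 hf h
      obtain ⟨h'', e1, e2⟩ := orth3_fix hq h2 h3 h' hyz hx
      exact ⟨y + z, y - z, x, h'', by rw [e1, e2], by rw [e1]⟩
    · have hy1 : Q y = -Q x := neg_of_ne3 hc h.qx h.qy hxy
      have hz1 : Q z = -Q y := neg_of_ne3 hc h.qy h.qz hyz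
      have hzx : Q z = Q x := by rw [hz1, hy1, neg_neg]
      have h' := orth3_perm1 hf (orth3_perm1 hf h)
      obtain ⟨h'', e1, e2⟩ := orth3_fix hq h2 h3 h' hzx (by rw [hy1, hzx])
      exact ⟨z + x, z - x, y, h'', by rw [e1, e2], by rw [e1]⟩

theorem orth3_P [Fintype F] (hq : QF Q f) (hc : Fintype.card F = 3)
    {B : Submodule F (Fin n → F)} {x y z : Fin n → F} (h : Orth3 Q f B x y z)
    (hy : Q y = Q x) (hz : Q z = Q x) (v : Fin n → F) (hv : v ∈ B) (hvQ : Q v = Q x) :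
    v = x ∨ v = -x ∨ v = y ∨ v = -y ∨ v = z ∨ v = -z := by
  have hf := hq.sym
  have h2 := Cfsg.Agent.Lib.Helper28.OPlane.two_ne_zero3 hc
  have h3 := three_eq_zero3 hc
  have hco := orth3_coords hq h h2 v hv
  obtain ⟨α, hα⟩ : ∃ α, α = f v x / f x x := ⟨_, rfl⟩
  obtain ⟨β, hβ⟩ : ∃ β, β = f v y / f y y := ⟨_, rfl⟩
  obtain ⟨γ, hγ⟩ : ∃ γ, γ = f v z / f z z := ⟨_, rfl⟩
  rw [← hα, ← hβ, ← hγ] at hco
  have hyx : f y x = 0 := by rw [s_symm hf, h.xy]
  have hQv : Q v = (α * α + β * β + γ * γ) * Q x := by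
    rw [hco, hq.polar, hq.polar, hq.smul, hq.smul, hq.smul, hf.add_left, hf.smul_left,
      hf.smul_left, hf.smul_left, s_smul_right hf, s_smul_right hf, s_smul_right hf, h.xy, h.xz,
      h.yz, hy, hz]
    ring
  rw [hvQ] at hQv
  have hsum : α * α + β * β + γ * γ = 1 := by
    have : (α * α + β * β + γ * γ - 1) * Q x = 0 := by linear_combination -hQv
    rcases mul_eq_zero.1 this with h' | h'
    · exact sub_eq_zero.1 h'
    · exact absurd h' h.qx
  have h10 : (1 : F) ≠ 0 := one_ne_zero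
  rw [hco]
  rcases Cfsg.Agent.Lib.Helper28.OPlane.card3 hc α with rfl | rfl | rfl <;>
  rcases Cfsg.Agent.Lib.Helper28.OPlane.card3 hc β with rfl | rfl | rfl <;>
  rcases Cfsg.Agent.Lib.Helper28.OPlane.card3 hc γ with rfl | rfl | rfl <;>
  first
    | (exfalso; exact h10 (by linear_combination -hsum))
    | (exfalso; exact h10 (by linear_combination hsum))
    | (exfalso; exact h10 (by linear_combination h3 - hsum))
    | simp


theorem frame_blocks {k : ℕ} (hq : QF Q f) (h2 : (2 : F) ≠ 0) (h3 : (3 : F) = 0)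
    {G : Subgroup (Matrix.GeneralLinearGroup (Fin n) F)} (hG : SgGroupQ Q f G)
    (hRP : ∀ w o : Fin n → F, Q w ≠ 0 → Q o = Q w → f w o = 0 → ∃ h ∈ G, ∀ x,
      (h : Matrix (Fin n) (Fin n) F) *ᵥ x = x - (f x w / Q w) • w - (f x o / Q w) • o)
    {t : ℕ} (D : Fin t → Submodule F (Fin n → F))
    (hnd : ∀ i, Cfsg.Geo.IsNondegenerateOn f (D i))
    (horth : ∀ i j, i ≠ j → Cfsg.Geo.AreOrthogonalFor f (D i) (D j))
    (hiso : ∀ i j, Cfsg.Geo.AreIsometricFor Q (D i) (D j))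
    (i0 : Fin t) (b : Fin k → (Fin n → F)) (hbD : ∀ j, b j ∈ D i0) (ε : F) (hε : ε ≠ 0)
    (hbQ : ∀ j, Q (b j) = ε) (hbo : ∀ j j', j ≠ j' → f (b j) (b j') = 0)
    (hbP : ∀ v ∈ D i0, Q v = ε → ∃ j, v = b j ∨ v = -b j)
    (j₁ j₂ j₃ j₄ j₅ j₆ : Fin t × Fin k)
    (h12 : j₁ ≠ j₂) (h13 : j₁ ≠ j₃) (h14 : j₁ ≠ j₄) (h15 : j₁ ≠ j₅) (h16 : j₁ ≠ j₆)
    (h23 : j₂ ≠ j₃) (h24 : j₂ ≠ j₄) (h25 : j₂ ≠ j₅) (h26 : j₂ ≠ j₆)
    (h34 : j₃ ≠ j₄) (h35 : j₃ ≠ j₅) (h36 : j₃ ≠ j₆) (h45 : j₄ ≠ j₅) (h46 : j₄ ≠ j₆)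
    (h56 : j₅ ≠ j₆)
    (hm1 : j₁.1 = i0) (hm5 : j₅.1 = i0) (hm2 : j₂.1 ≠ i0) :
    ∃ K : Subgroup (Matrix.GeneralLinearGroup (Fin n) F),
      Cfsg.Geo.decompositionStabilizer D ⊓ G < K ∧ K < G := by
  classical
  have hf := hq.sym
  choose e he using fun i => hiso i0 i
  have hpol : ∀ i (u v : D i0), f (e i u : Fin n → F) (e i v : Fin n → F) =
      f (u : Fin n → F) (v : Fin n → F) := by
    intro i u v
    have e1 := hq.polar (e i u : Fin n → F) (e i v : Fin n → F)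
    have e2 := hq.polar (u : Fin n → F) (v : Fin n → F)
    have e3 : ((e i (u + v) : D i) : Fin n → F) = (e i u : Fin n → F) + (e i v : Fin n → F) := by
      rw [map_add]
      rfl
    have e4 := he i (u + v)
    rw [e3] at e4
    have e5 : ((u + v : D i0) : Fin n → F) = (u : Fin n → F) + v := rfl
    rw [e5] at e4
    rw [he i u, he i v] at e1
    linear_combination e2 - e1 + e4
  obtain ⟨a, ha⟩ : ∃ a : Fin t × Fin k → (Fin n → F),
      a = fun p => ((e p.1 ⟨b p.2, hbD p.2⟩ : D p.1) : Fin n → F) := ⟨_, rfl⟩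
  have haD : ∀ p, a p ∈ D p.1 := by
    intro p
    rw [ha]
    exact (e p.1 ⟨b p.2, hbD p.2⟩).2
  have haQ : ∀ p, Q (a p) = ε := by
    intro p
    rw [ha]
    show Q ((e p.1 ⟨b p.2, hbD p.2⟩ : D p.1) : Fin n → F) = ε
    rw [he]
    exact hbQ p.2
  have hDdisj : ∀ i j, i ≠ j → ∀ x, x ∈ D i → x ∈ D j → x = 0 := by
    intro i j hij x hxi hxj
    by_contra hx0
    obtain ⟨⟨w, hw, hwx⟩, _⟩ := hnd i x hxi hx0
    exact hwx (horth i j hij w hw x hxj)
  have hao : ∀ p p', p ≠ p' → f (a p) (a p') = 0 := by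
    intro p p' hpp
    by_cases h1 : p.1 = p'.1
    · have h2' : p.2 ≠ p'.2 := fun h => hpp (Prod.ext h1 h)
      obtain ⟨i, j⟩ := p
      obtain ⟨i', j'⟩ := p'
      simp only at h1 h2'
      subst h1
      rw [ha]
      show f ((e i ⟨b j, hbD j⟩ : D i) : Fin n → F) ((e i ⟨b j', hbD j'⟩ : D i) : Fin n → F) = 0
      rw [hpol]
      exact hbo j j' h2'
    · exact horth p.1 p'.1 h1 _ (haD p) _ (haD p')
  have hε0 : ∀ p, a p ≠ 0 := by
    intro p h
    have := haQ p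
    rw [h, Q_zero hq] at this
    exact hε this.symm
  have hP : ∀ i, ∀ v ∈ D i, Q v = ε → ∃ p, v = a p ∨ v = -a p := by
    intro i v hv hvQ
    obtain ⟨v', hv'⟩ : ∃ v' : D i0, v' = (e i).symm ⟨v, hv⟩ := ⟨_, rfl⟩
    have hev : e i v' = ⟨v, hv⟩ := by
      rw [hv', LinearEquiv.apply_symm_apply]
    have hQv' : Q (v' : Fin n → F) = ε := by
      rw [← he i v', hev]
      exact hvQ
    obtain ⟨j, hj⟩ := hbP (v' : Fin n → F) v'.2 hQv'
    refine ⟨(i, j), ?_⟩
    rcases hj with hj | hj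
    · left
      have : v' = ⟨b j, hbD j⟩ := Subtype.ext hj
      rw [ha]
      show v = ((e i ⟨b j, hbD j⟩ : D i) : Fin n → F)
      rw [← this, hev]
    · right
      have : v' = -⟨b j, hbD j⟩ := Subtype.ext hj
      rw [ha]
      show v = -((e i ⟨b j, hbD j⟩ : D i) : Fin n → F)
      have h5 : ((e i (-⟨b j, hbD j⟩) : D i) : Fin n → F) =
          -((e i ⟨b j, hbD j⟩ : D i) : Fin n → F) := by
        rw [map_neg]
        rfl
      rw [← h5, ← this, hev]
  refine frame_nonmax hq h2 h3 hG hRP a ε hε haQ hao D hDdisj hP (fun p => ⟨p.1, haD p⟩) i0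
    j₁ j₂ j₃ j₄ j₅ j₆ h12 h13 h14 h15 h16 h23 h24 h25 h26 h34 h35 h36 h45 h46 h56 ?_ ?_ ?_
  · rw [← hm1]
    exact haD j₁
  · rw [← hm5]
    exact haD j₅
  · intro h
    exact hε0 j₂ (hDdisj j₂.1 i0 hm2 _ (haD j₂) h)


theorem frame3_nonmax [Fintype F] (hq : QF Q f) (hc : Fintype.card F = 3)
    {G : Subgroup (Matrix.GeneralLinearGroup (Fin n) F)} (hG : SgGroupQ Q f G)
    (hRP : ∀ w o : Fin n → F, Q w ≠ 0 → Q o = Q w → f w o = 0 → ∃ h ∈ G, ∀ x,
      (h : Matrix (Fin n) (Fin n) F) *ᵥ x = x - (f x w / Q w) • w - (f x o / Q w) • o)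
    {t : ℕ} (D : Fin t → Submodule F (Fin n → F)) (ht : 2 ≤ t)
    (hnd : ∀ i, Cfsg.Geo.IsNondegenerateOn f (D i))
    (hfr : ∀ i, Module.finrank F (D i) = 3)
    (horth : ∀ i j, i ≠ j → Cfsg.Geo.AreOrthogonalFor f (D i) (D j))
    (hiso : ∀ i j, Cfsg.Geo.AreIsometricFor Q (D i) (D j)) :
    ∃ K : Subgroup (Matrix.GeneralLinearGroup (Fin n) F),
      Cfsg.Geo.decompositionStabilizer D ⊓ G < K ∧ K < G := by
  have hf := hq.sym
  have h2 := Cfsg.Agent.Lib.Helper28.OPlane.two_ne_zero3 hc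
  have h3 := three_eq_zero3 hc
  obtain ⟨i0, hi0⟩ : ∃ i0 : Fin t, i0 = ⟨0, by omega⟩ := ⟨_, rfl⟩
  obtain ⟨i1, hi1⟩ : ∃ i1 : Fin t, i1 = ⟨1, by omega⟩ := ⟨_, rfl⟩
  have h01 : i1 ≠ i0 := by
    rw [hi0, hi1]
    intro h
    simpa using congrArg Fin.val h
  have h10 : i0 ≠ i1 := fun h => h01 h.symm
  have sp := Cfsg.Agent.Lib.Helper28.ONdW.split_perp hf (D i0) (hnd i0)
  obtain ⟨x, y, z, h, hy, hz⟩ := orth3_normal hq hc sp (hfr i0)
  have hyx : f y x = 0 := by rw [s_symm hf, h.xy]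
  have hzx : f z x = 0 := by rw [s_symm hf, h.xz]
  have hzy : f z y = 0 := by rw [s_symm hf, h.yz]
  refine frame_blocks (k := 3) hq h2 h3 hG hRP D hnd horth hiso i0 ![x, y, z] ?_ (Q x) h.qx ?_ ?_ ?_
    (i0, 0) (i1, 0) (i0, 2) (i1, 1) (i0, 1) (i1, 2)
    (fun e => h10 (congrArg Prod.fst e)) (fun e => absurd (congrArg Prod.snd e) (by simp))
    (fun e => h10 (congrArg Prod.fst e)) (fun e => absurd (congrArg Prod.snd e) (by simp))
    (fun e => h10 (congrArg Prod.fst e))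
    (fun e => h01 (congrArg Prod.fst e)) (fun e => absurd (congrArg Prod.snd e) (by simp))
    (fun e => h01 (congrArg Prod.fst e)) (fun e => absurd (congrArg Prod.snd e) (by simp))
    (fun e => h10 (congrArg Prod.fst e)) (fun e => absurd (congrArg Prod.snd e) (by simp))
    (fun e => h10 (congrArg Prod.fst e))
    (fun e => h01 (congrArg Prod.fst e)) (fun e => absurd (congrArg Prod.snd e) (by simp))
    (fun e => h10 (congrArg Prod.fst e)) rfl rfl h01
  · intro j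
    fin_cases j
    · exact h.hx
    · exact h.hy
    · exact h.hz
  · intro j
    fin_cases j
    · rfl
    · exact hy
    · exact hz
  · intro j j' hjj
    fin_cases j <;> fin_cases j'
    · exact absurd rfl hjj
    · exact h.xy
    · exact h.xz
    · exact hyx
    · exact absurd rfl hjj
    · exact h.yz
    · exact hzx
    · exact hzy
    · exact absurd rfl hjj
  · intro v hv hvQ
    rcases orth3_P hq hc h hy hz v hv hvQ with e | e | e | e | e | e
    · exact ⟨0, Or.inl e⟩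
    · exact ⟨0, Or.inr e⟩
    · exact ⟨1, Or.inl e⟩
    · exact ⟨1, Or.inr e⟩
    · exact ⟨2, Or.inl e⟩
    · exact ⟨2, Or.inr e⟩


structure Orth2 (Q : (Fin n → F) → F) (f : (Fin n → F) → (Fin n → F) → F)
    (B : Submodule F (Fin n → F)) (x y : Fin n → F) : Prop where
  hx : x ∈ B
  hy : y ∈ B
  xy : f x y = 0
  qx : Q x ≠ 0
  qy : Q y ≠ 0
  zero : ∀ v ∈ B, f v x = 0 → f v y = 0 → v = 0

theorem orth2_ex (hq : QF Q f) (h2 : (2 : F) ≠ 0) {B O : Submodule F (Fin n → F)}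
    (sp : Split f B O) (hB : Module.finrank F B = 2) :
    ∃ x y, Orth2 Q f B x y := by
  have hf := hq.sym
  have sps := sp.symm hf
  have hfr := sp.finrank hf
  obtain ⟨b, hb, hspan⟩ := sps.nd hf
  obtain ⟨x, hxb, hxx⟩ := exists_noniso_perp_s hf h2 b hb (by omega)
  have nd1 := nd_cons1 hf b hb x hxb hxx
  obtain ⟨y, hyc, hyy⟩ := exists_noniso_perp_s hf h2 _ nd1 (by omega)
  have nd2 := nd_cons1 hf _ nd1 y hyc hyy
  rw [perp_cons] at hyc
  obtain ⟨hyx, hyb⟩ := hyc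
  have hQ : ∀ v, f v v ≠ 0 → Q v ≠ 0 := by
    intro v hv h
    apply hv
    rw [f_self hq, h, mul_zero]
  refine ⟨x, y, ⟨(sps.perp_iff hf b hspan x).1 hxb, (sps.perp_iff hf b hspan y).1 hyb,
    by rw [s_symm hf, hyx], hQ x hxx, hQ y hyy, ?_⟩⟩
  intro v hvB hvx hvy
  have hp : Perp f (Fin.cons y (Fin.cons x b)) v := by
    rw [perp_cons, perp_cons]
    exact ⟨hvy, hvx, (sps.perp_iff hf b hspan v).2 hvB⟩
  have h1 := finrank_ker_eq hf _ nd2.li
  have h3 : Module.finrank F (LinearMap.ker (perpMap hf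
      (Fin.cons y (Fin.cons x b) : Fin (Module.finrank F O + 1 + 1) → _))) = 0 := by
    omega
  have h4 := Submodule.finrank_eq_zero.1 h3
  have h5 : v ∈ LinearMap.ker (perpMap hf
      (Fin.cons y (Fin.cons x b) : Fin (Module.finrank F O + 1 + 1) → _)) := by
    rw [mem_ker_perpMap]
    exact hp
  rw [h4, Submodule.mem_bot] at h5
  exact h5

theorem orth2_coords (hq : QF Q f) {B : Submodule F (Fin n → F)} {x y : Fin n → F}
    (h : Orth2 Q f B x y) (h2 : (2 : F) ≠ 0) (v : Fin n → F) (hv : v ∈ B) :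
    v = (f v x / f x x) • x + (f v y / f y y) • y := by
  have hf := hq.sym
  have hxx : f x x ≠ 0 := by
    rw [f_self hq]
    exact mul_ne_zero h2 h.qx
  have hyy : f y y ≠ 0 := by
    rw [f_self hq]
    exact mul_ne_zero h2 h.qy
  have hyx : f y x = 0 := by rw [s_symm hf, h.xy]
  have key := h.zero (v - ((f v x / f x x) • x + (f v y / f y y) • y))
    (B.sub_mem hv (B.add_mem (B.smul_mem _ h.hx) (B.smul_mem _ h.hy)))
    (by
      rw [f_sub_left hf, hf.add_left, hf.smul_left, hf.smul_left, hyx]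
      field_simp
      ring)
    (by
      rw [f_sub_left hf, hf.add_left, hf.smul_left, hf.smul_left, h.xy]
      field_simp
      ring)
  exact sub_eq_zero.1 key

theorem orth2_P [Fintype F] (hq : QF Q f) (hc : Fintype.card F = 3)
    {B : Submodule F (Fin n → F)} {x y : Fin n → F} (h : Orth2 Q f B x y)
    (hy : Q y = Q x) (v : Fin n → F) (hv : v ∈ B) (hvQ : Q v = Q x) :
    v = x ∨ v = -x ∨ v = y ∨ v = -y := by
  have hf := hq.sym
  have h2 := Cfsg.Agent.Lib.Helper28.OPlane.two_ne_zero3 hc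
  have h3 := three_eq_zero3 hc
  have hco := orth2_coords hq h h2 v hv
  obtain ⟨α, hα⟩ : ∃ α, α = f v x / f x x := ⟨_, rfl⟩
  obtain ⟨β, hβ⟩ : ∃ β, β = f v y / f y y := ⟨_, rfl⟩
  rw [← hα, ← hβ] at hco
  have hQv : Q v = (α * α + β * β) * Q x := by
    rw [hco, hq.polar, hq.smul, hq.smul, hf.smul_left, s_smul_right hf, h.xy, hy]
    ring
  rw [hvQ] at hQv
  have hsum : α * α + β * β = 1 := by
    have : (α * α + β * β - 1) * Q x = 0 := by linear_combination -hQv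
    rcases mul_eq_zero.1 this with h' | h'
    · exact sub_eq_zero.1 h'
    · exact absurd h' h.qx
  have h10 : (1 : F) ≠ 0 := one_ne_zero
  rw [hco]
  rcases Cfsg.Agent.Lib.Helper28.OPlane.card3 hc α with rfl | rfl | rfl <;>
  rcases Cfsg.Agent.Lib.Helper28.OPlane.card3 hc β with rfl | rfl | rfl <;>
  first
    | (exfalso; exact h10 (by linear_combination -hsum))
    | (exfalso; exact h10 (by linear_combination hsum))
    | simp

theorem frame2_nonmax [Fintype F] (hq : QF Q f) (hc : Fintype.card F = 3)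
    {G : Subgroup (Matrix.GeneralLinearGroup (Fin n) F)} (hG : SgGroupQ Q f G)
    (hRP : ∀ w o : Fin n → F, Q w ≠ 0 → Q o = Q w → f w o = 0 → ∃ h ∈ G, ∀ x,
      (h : Matrix (Fin n) (Fin n) F) *ᵥ x = x - (f x w / Q w) • w - (f x o / Q w) • o)
    {t : ℕ} (D : Fin t → Submodule F (Fin n → F)) (ht : 3 ≤ t)
    (hnd : ∀ i, Cfsg.Geo.IsNondegenerateOn f (D i))
    (hfr : ∀ i, Module.finrank F (D i) = 2)
    (horth : ∀ i j, i ≠ j → Cfsg.Geo.AreOrthogonalFor f (D i) (D j))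
    (hiso : ∀ i j, Cfsg.Geo.AreIsometricFor Q (D i) (D j))
    (hani : ∀ v ∈ D ⟨0, by omega⟩, Q v = 0 → v = 0) :
    ∃ K : Subgroup (Matrix.GeneralLinearGroup (Fin n) F),
      Cfsg.Geo.decompositionStabilizer D ⊓ G < K ∧ K < G := by
  have hf := hq.sym
  have h2 := Cfsg.Agent.Lib.Helper28.OPlane.two_ne_zero3 hc
  have h3 := three_eq_zero3 hc
  obtain ⟨i0, hi0⟩ : ∃ i0 : Fin t, i0 = ⟨0, by omega⟩ := ⟨_, rfl⟩
  obtain ⟨i1, hi1⟩ : ∃ i1 : Fin t, i1 = ⟨1, by omega⟩ := ⟨_, rfl⟩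
  obtain ⟨i2, hi2⟩ : ∃ i2 : Fin t, i2 = ⟨2, by omega⟩ := ⟨_, rfl⟩
  have h01 : i1 ≠ i0 := by
    rw [hi0, hi1]
    intro h
    simpa using congrArg Fin.val h
  have h10 : i0 ≠ i1 := fun h => h01 h.symm
  have h02 : i2 ≠ i0 := by
    rw [hi0, hi2]
    intro h
    simpa using congrArg Fin.val h
  have h20 : i0 ≠ i2 := fun h => h02 h.symm
  have h12 : i2 ≠ i1 := by
    rw [hi1, hi2]
    intro h
    simpa using congrArg Fin.val h
  have h21 : i1 ≠ i2 := fun h => h12 h.symm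
  rw [← hi0] at hani
  have sp := Cfsg.Agent.Lib.Helper28.ONdW.split_perp hf (D i0) (hnd i0)
  obtain ⟨x, y, h⟩ := orth2_ex hq h2 sp (hfr i0)
  have hyx : f y x = 0 := by rw [s_symm hf, h.xy]
  have hy : Q y = Q x := by
    by_contra hne
    have hneg : Q y = -Q x := neg_of_ne3 hc h.qx h.qy (fun e => hne e.symm)
    have hs : Q (x + y) = 0 := by
      rw [hq.polar, h.xy, hneg]
      ring
    have h0 := hani (x + y) ((D i0).add_mem h.hx h.hy) hs
    have h5 : f (x + y) x = 0 := by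
      rw [h0]
      exact f_zero_left hf x
    rw [hf.add_left, hyx, add_zero, f_self hq] at h5
    exact mul_ne_zero h2 h.qx h5
  refine frame_blocks (k := 2) hq h2 h3 hG hRP D hnd horth hiso i0 ![x, y] ?_ (Q x) h.qx ?_ ?_ ?_
    (i0, 0) (i1, 0) (i1, 1) (i2, 0) (i0, 1) (i2, 1)
    (fun e => h10 (congrArg Prod.fst e)) (fun e => h10 (congrArg Prod.fst e))
    (fun e => h20 (congrArg Prod.fst e)) (fun e => absurd (congrArg Prod.snd e) (by simp))
    (fun e => h20 (congrArg Prod.fst e))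
    (fun e => absurd (congrArg Prod.snd e) (by simp)) (fun e => h21 (congrArg Prod.fst e))
    (fun e => h01 (congrArg Prod.fst e)) (fun e => h21 (congrArg Prod.fst e))
    (fun e => h21 (congrArg Prod.fst e)) (fun e => h01 (congrArg Prod.fst e))
    (fun e => h21 (congrArg Prod.fst e))
    (fun e => h02 (congrArg Prod.fst e)) (fun e => absurd (congrArg Prod.snd e) (by simp))
    (fun e => h20 (congrArg Prod.fst e)) rfl rfl h01
  · intro j
    fin_cases j
    · exact h.hx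
    · exact h.hy
  · intro j
    fin_cases j
    · rfl
    · exact hy
  · intro j j' hjj
    fin_cases j <;> fin_cases j'
    · exact absurd rfl hjj
    · exact h.xy
    · exact hyx
    · exact absurd rfl hjj
  · intro v hv hvQ
    rcases orth2_P hq hc h hy v hv hvQ with e | e | e | e
    · exact ⟨0, Or.inl e⟩
    · exact ⟨0, Or.inr e⟩
    · exact ⟨1, Or.inl e⟩
    · exact ⟨1, Or.inr e⟩

end Cfsg.Agent.Lib.Helper28.OFrame
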