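import Cfsg.Agent.Lib.Helper28.DecGen
import Cfsg.Agent.Lib.Helper28.OFrame

set_option autoImplicit false

open Cfsg

namespace Cfsg.Agent.Lib.Helper28.OTens

open Matrix Kronecker

variable {F : Type*} [Field F]

section Bil

variable {κ : Type} {f : (κ → F) → (κ → F) → F}

theorem bil_zero_left (hf : Cfsg.Geo.IsBilinearForm f) (v : κ → F) : f 0 v = 0 := by
  have := hf.smul_left 0 0 v
  simpa using this

theorem bil_zero_right (hf : Cfsg.Geo.IsBilinearForm f) (v : κ → F) : f v 0 = 0 := by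
  have := hf.smul_right 0 v 0
  simpa using this

theorem bil_neg_left (hf : Cfsg.Geo.IsBilinearForm f) (x v : κ → F) : f (-x) v = - f x v := by
  have := hf.smul_left (-1) x v
  simpa using this

theorem bil_neg_right (hf : Cfsg.Geo.IsBilinearForm f) (x v : κ → F) : f v (-x) = - f v x := by
  have := hf.smul_right (-1) v x
  simpa using this

theorem bil_sum_left (hf : Cfsg.Geo.IsBilinearForm f) {J : Type*} (s : Finset J)
    (g : J → (κ → F)) (v : κ → F) : f (∑ i ∈ s, g i) v = ∑ i ∈ s, f (g i) v := by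
  classical
  induction s using Finset.induction_on with
  | empty => simp [bil_zero_left hf]
  | insert a s ha ih => rw [Finset.sum_insert ha, Finset.sum_insert ha, hf.add_left, ih]

theorem bil_sum_right (hf : Cfsg.Geo.IsBilinearForm f) {J : Type*} (s : Finset J)
    (g : J → (κ → F)) (v : κ → F) : f v (∑ i ∈ s, g i) = ∑ i ∈ s, f v (g i) := by
  classical
  induction s using Finset.induction_on with
  | empty => simp [bil_zero_right hf]
  | insert a s ha ih => rw [Finset.sum_insert ha, Finset.sum_insert ha, hf.add_right, ih]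

theorem bil_gram [Fintype κ] [DecidableEq κ] (hf : Cfsg.Geo.IsBilinearForm f) (x y : κ → F) :
    f x y = ∑ a, ∑ b, x a * Cfsg.Geo.gramMatrix f a b * y b := by
  conv_lhs => rw [pi_eq_sum_univ' x, pi_eq_sum_univ' y]
  rw [bil_sum_left hf]
  apply Finset.sum_congr rfl
  intro a _
  rw [hf.smul_left, bil_sum_right hf, Finset.mul_sum]
  apply Finset.sum_congr rfl
  intro b _
  rw [hf.smul_right]
  unfold Cfsg.Geo.gramMatrix
  ring

end Bil

variable {n₁ n₂ : ℕ}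

def pt (α : Fin n₁ → F) (v : Fin n₂ → F) : Fin n₁ × Fin n₂ → F := fun ab => α ab.1 * v ab.2

theorem pt_form (G₁ : Matrix (Fin n₁) (Fin n₁) F) (G₂ : Matrix (Fin n₂) (Fin n₂) F)
    (α α' : Fin n₁ → F) (v v' : Fin n₂ → F) :
    Cfsg.Geo.formOfGram id (G₁ ⊗ₖ G₂) (pt α v) (pt α' v') =
      (∑ a, ∑ a', α a * G₁ a a' * α' a') * (∑ b, ∑ b', v b * G₂ b b' * v' b') := by
  unfold Cfsg.Geo.formOfGram pt
  rw [Fintype.sum_prod_type, Finset.sum_mul]
  apply Finset.sum_congr rfl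
  intro a _
  simp only [Fintype.sum_prod_type, Matrix.kroneckerMap_apply, id]
  rw [Finset.sum_comm, Finset.sum_mul]
  apply Finset.sum_congr rfl
  intro a' _
  rw [Finset.mul_sum]
  apply Finset.sum_congr rfl
  intro b _
  rw [Finset.mul_sum]
  apply Finset.sum_congr rfl
  intro b' _
  ring


theorem pt_add_right (α : Fin n₁ → F) (v v' : Fin n₂ → F) :
    pt α (v + v') = pt α v + pt α v' := by
  funext ab
  simp [pt, mul_add]

theorem pt_smul_right (c : F) (α : Fin n₁ → F) (v : Fin n₂ → F) :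
    pt α (c • v) = c • pt α v := by
  funext ab
  simp only [pt, Pi.smul_apply, smul_eq_mul]
  ring

theorem pt_add_left (α α' : Fin n₁ → F) (v : Fin n₂ → F) :
    pt (α + α') v = pt α v + pt α' v := by
  funext ab
  simp [pt, add_mul]

theorem pt_smul_left (c : F) (α : Fin n₁ → F) (v : Fin n₂ → F) :
    pt (c • α) v = c • pt α v := by
  funext ab
  simp only [pt, Pi.smul_apply, smul_eq_mul]
  ring

theorem pt_eq {α α' : Fin n₁ → F} {v v' : Fin n₂ → F} (h : pt α v = pt α' v') (i : Fin n₁)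
    (hi : α i ≠ 0) : v = (α' i / α i) • v' := by
  funext j
  have := congrFun h (i, j)
  simp only [pt] at this
  simp only [Pi.smul_apply, smul_eq_mul]
  field_simp
  linear_combination this

theorem kron_mulVec_pt (a : Matrix (Fin n₁) (Fin n₁) F) (b : Matrix (Fin n₂) (Fin n₂) F)
    (α : Fin n₁ → F) (v : Fin n₂ → F) :
    (a ⊗ₖ b) *ᵥ pt α v = pt (a *ᵥ α) (b *ᵥ v) := by
  funext ij
  obtain ⟨i, j⟩ := ij
  simp only [Matrix.mulVec, dotProduct, pt, Fintype.sum_prod_type, Matrix.kroneckerMap_apply]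
  rw [Finset.sum_mul_sum]
  apply Finset.sum_congr rfl
  intro i' _
  apply Finset.sum_congr rfl
  intro j' _
  ring

variable {ι : Type} [Fintype ι] [DecidableEq ι]

def tau (e : ι ≃ Fin n₁ × Fin n₂) (P : Matrix.GeneralLinearGroup ι F) (α : Fin n₁ → F)
    (v : Fin n₂ → F) : ι → F :=
  (P : Matrix ι ι F) *ᵥ (pt α v ∘ e)

variable (e : ι ≃ Fin n₁ × Fin n₂) (P : Matrix.GeneralLinearGroup ι F)

theorem tau_add_right (α : Fin n₁ → F) (v v' : Fin n₂ → F) :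
    tau e P α (v + v') = tau e P α v + tau e P α v' := by
  unfold tau
  rw [pt_add_right, ← Matrix.mulVec_add]
  rfl

theorem tau_smul_right (c : F) (α : Fin n₁ → F) (v : Fin n₂ → F) :
    tau e P α (c • v) = c • tau e P α v := by
  unfold tau
  rw [pt_smul_right, ← Matrix.mulVec_smul]
  rfl

theorem tau_add_left (α α' : Fin n₁ → F) (v : Fin n₂ → F) :
    tau e P (α + α') v = tau e P α v + tau e P α' v := by
  unfold tau
  rw [pt_add_left, ← Matrix.mulVec_add]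
  rfl

theorem tau_smul_left (c : F) (α : Fin n₁ → F) (v : Fin n₂ → F) :
    tau e P (c • α) v = c • tau e P α v := by
  unfold tau
  rw [pt_smul_left, ← Matrix.mulVec_smul]
  rfl

theorem tau_neg_left (α : Fin n₁ → F) (v : Fin n₂ → F) :
    tau e P (-α) v = tau e P α (-v) := by
  have h1 := tau_smul_left e P (-1) α v
  have h2 := tau_smul_right e P (-1) α v
  rw [neg_one_smul] at h1 h2
  rw [h1, h2]

theorem tau_pt {α α' : Fin n₁ → F} {v v' : Fin n₂ → F}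
    (h : tau e P α v = tau e P α' v') : pt α v = pt α' v' := by
  unfold tau at h
  have h1 : pt α v ∘ e = pt α' v' ∘ e := by
    apply Cfsg.Agent.Lib.Helper28.DecGen.gl_inj P
    rw [Matrix.toLin'_apply, Matrix.toLin'_apply]
    exact h
  funext ab
  have := congrFun h1 (e.symm ab)
  simpa using this

theorem tau_inj {α : Fin n₁ → F} (hα : α ≠ 0) {v v' : Fin n₂ → F}
    (h : tau e P α v = tau e P α v') : v = v' := by
  obtain ⟨i, hi⟩ : ∃ i, α i ≠ 0 := by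
    by_contra hcon
    push Not at hcon
    exact hα (funext hcon)
  have := pt_eq (tau_pt e P h) i hi
  rw [div_self hi, one_smul] at this
  exact this

def tauLin (α : Fin n₁ → F) : (Fin n₂ → F) →ₗ[F] (ι → F) where
  toFun v := tau e P α v
  map_add' := tau_add_right e P α
  map_smul' := fun c v => tau_smul_right e P c α v

def blk (α : Fin n₁ → F) : Submodule F (ι → F) := LinearMap.range (tauLin e P α)

theorem mem_blk (α : Fin n₁ → F) (w : ι → F) : w ∈ blk e P α ↔ ∃ v, tau e P α v = w :=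
  Iff.rfl

theorem blk_finrank {α : Fin n₁ → F} (hα : α ≠ 0) : Module.finrank F (blk e P α) = n₂ := by
  unfold blk
  rw [LinearMap.finrank_range_of_inj, Module.finrank_fin_fun]
  intro v v' h
  exact tau_inj e P hα h

theorem tens_act (g : Matrix.GeneralLinearGroup ι F)
    (hg : g ∈ Cfsg.Geo.tensorProductSubgroup n₁ n₂ e P) :
    ∃ (a : Matrix.GeneralLinearGroup (Fin n₁) F) (b : Matrix.GeneralLinearGroup (Fin n₂) F),
      ∀ α v, (g : Matrix ι ι F) *ᵥ tau e P α v =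
        tau e P ((a : Matrix (Fin n₁) (Fin n₁) F) *ᵥ α) ((b : Matrix (Fin n₂) (Fin n₂) F) *ᵥ v) := by
  obtain ⟨k', ⟨k, ⟨a, b, hk⟩, rfl⟩, rfl⟩ := hg
  refine ⟨a, b, fun α v => ?_⟩
  unfold tau
  have h1 : ((MulAut.conj P).toMonoidHom ((Cfsg.Geo.glReindex e.symm).toMonoidHom k) :
      Matrix.GeneralLinearGroup ι F) =
      P * (Cfsg.Geo.glReindex e.symm k) * P⁻¹ := rfl
  rw [h1, Units.val_mul, Units.val_mul, ← Matrix.mulVec_mulVec, ← Matrix.mulVec_mulVec,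
    Cfsg.Agent.Lib.Helper28.DecGen.gl_cancel]
  congr 1
  have h2 : ((Cfsg.Geo.glReindex e.symm k : Matrix.GeneralLinearGroup ι F) : Matrix ι ι F) =
      (k : Matrix (Fin n₁ × Fin n₂) (Fin n₁ × Fin n₂) F).submatrix e e := rfl
  rw [h2, hk, Matrix.submatrix_mulVec_equiv, ← kron_mulVec_pt]
  congr 2
  funext ab
  simp


theorem tform {f : (ι → F) → (ι → F) → F} {f₁ : (Fin n₁ → F) → (Fin n₁ → F) → F}
    {f₂ : (Fin n₂ → F) → (Fin n₂ → F) → F} (hf₁ : Cfsg.Geo.IsBilinearForm f₁)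
    (hf₂ : Cfsg.Geo.IsBilinearForm f₂) {c : F}
    (hT : ∀ x y : Fin n₁ × Fin n₂ → F,
      f ((P : Matrix ι ι F) *ᵥ (x ∘ e)) ((P : Matrix ι ι F) *ᵥ (y ∘ e)) =
        c * Cfsg.Geo.formOfGram id (Cfsg.Geo.gramMatrix f₁ ⊗ₖ Cfsg.Geo.gramMatrix f₂) x y)
    (α α' : Fin n₁ → F) (v v' : Fin n₂ → F) :
    f (tau e P α v) (tau e P α' v') = c * (f₁ α α' * f₂ v v') := by
  unfold tau
  rw [hT, pt_form, ← bil_gram hf₁, ← bil_gram hf₂]

theorem sim_of_iso {f : (ι → F) → (ι → F) → F} {f₁ : (Fin n₁ → F) → (Fin n₁ → F) → F}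
    {f₂ : (Fin n₂ → F) → (Fin n₂ → F) → F} (hf₁ : Cfsg.Geo.IsBilinearForm f₁)
    (hf₂ : Cfsg.Geo.IsBilinearForm f₂) {c : F} (hc : c ≠ 0)
    (hT : ∀ x y : Fin n₁ × Fin n₂ → F,
      f ((P : Matrix ι ι F) *ᵥ (x ∘ e)) ((P : Matrix ι ι F) *ᵥ (y ∘ e)) =
        c * Cfsg.Geo.formOfGram id (Cfsg.Geo.gramMatrix f₁ ⊗ₖ Cfsg.Geo.gramMatrix f₂) x y)
    (hnd₁ : ∃ α α', f₁ α α' ≠ 0) (hnd₂ : ∃ v v', f₂ v v' ≠ 0)
    (g : Matrix.GeneralLinearGroup ι F)
    (a : Matrix (Fin n₁) (Fin n₁) F) (b : Matrix (Fin n₂) (Fin n₂) F)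
    (hact : ∀ α v, (g : Matrix ι ι F) *ᵥ tau e P α v = tau e P (a *ᵥ α) (b *ᵥ v))
    (hiso : ∀ x y, f ((g : Matrix ι ι F) *ᵥ x) ((g : Matrix ι ι F) *ᵥ y) = f x y) :
    ∃ l : F, l ≠ 0 ∧ ∀ α α', f₁ (a *ᵥ α) (a *ᵥ α') = l * f₁ α α' := by
  have key : ∀ α α' v v', f₁ (a *ᵥ α) (a *ᵥ α') * f₂ (b *ᵥ v) (b *ᵥ v') =
      f₁ α α' * f₂ v v' := by
    intro α α' v v'
    have h1 := hiso (tau e P α v) (tau e P α' v')
    rw [hact, hact, tform e P hf₁ hf₂ hT, tform e P hf₁ hf₂ hT] at h1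
    exact mul_left_cancel₀ hc h1
  obtain ⟨α₀, α₀', hα⟩ := hnd₁
  obtain ⟨v₀, v₀', hv⟩ := hnd₂
  have h0 := key α₀ α₀' v₀ v₀'
  have hμ : f₂ (b *ᵥ v₀) (b *ᵥ v₀') ≠ 0 := by
    intro h
    rw [h, mul_zero] at h0
    exact mul_ne_zero hα hv h0.symm
  refine ⟨f₂ v₀ v₀' / f₂ (b *ᵥ v₀) (b *ᵥ v₀'), div_ne_zero hv hμ, fun α α' => ?_⟩
  have h1 := key α α' v₀ v₀'
  field_simp
  linear_combination h1

theorem gram_det_ne_zero {k : ℕ} {f₁ : (Fin k → F) → (Fin k → F) → F}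
    (hf₁ : Cfsg.Geo.IsBilinearForm f₁) (hnd : Cfsg.Geo.IsNondegenerateForm f₁) :
    (Cfsg.Geo.gramMatrix f₁).det ≠ 0 := by
  intro h0
  obtain ⟨v, hv0, hv⟩ := Matrix.exists_mulVec_eq_zero_iff.2 h0
  obtain ⟨x, hx⟩ := (hnd v hv0).1
  apply hx
  rw [bil_gram hf₁]
  apply Finset.sum_eq_zero
  intro a _
  have h1 := congrFun hv a
  simp only [Matrix.mulVec, dotProduct, Pi.zero_apply] at h1
  have e1 : ∑ b, x a * Cfsg.Geo.gramMatrix f₁ a b * v b =
      x a * ∑ b, Cfsg.Geo.gramMatrix f₁ a b * v b := by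
    rw [Finset.mul_sum]
    apply Finset.sum_congr rfl
    intro b _
    ring
  rw [e1, h1, mul_zero]

theorem sim_gram {k : ℕ} {f₁ : (Fin k → F) → (Fin k → F) → F}
    (hf₁ : Cfsg.Geo.IsBilinearForm f₁) (a : Matrix (Fin k) (Fin k) F) (l : F)
    (h : ∀ α α', f₁ (a *ᵥ α) (a *ᵥ α') = l * f₁ α α') :
    a.transpose * Cfsg.Geo.gramMatrix f₁ * a = l • Cfsg.Geo.gramMatrix f₁ := by
  ext i j
  have h1 := h (Pi.single i 1) (Pi.single j 1)
  rw [bil_gram hf₁] at h1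
  simp only [Matrix.mulVec_single_one] at h1
  rw [Matrix.smul_apply, smul_eq_mul]
  have e1 : Cfsg.Geo.gramMatrix f₁ i j = f₁ (Pi.single i 1) (Pi.single j 1) := rfl
  rw [e1, ← h1, Matrix.mul_apply]
  simp only [Matrix.mul_apply, Matrix.transpose_apply, Matrix.col_apply, Finset.sum_mul]
  rw [Finset.sum_comm]

theorem sim_one3 [Fintype F] (hc3 : Fintype.card F = 3)
    {f₁ : (Fin 3 → F) → (Fin 3 → F) → F}
    (hf₁ : Cfsg.Geo.IsBilinearForm f₁) (hnd : Cfsg.Geo.IsNondegenerateForm f₁)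
    (a : Matrix.GeneralLinearGroup (Fin 3) F) (l : F) (hl : l ≠ 0)
    (h : ∀ α α', f₁ ((a : Matrix (Fin 3) (Fin 3) F) *ᵥ α) ((a : Matrix (Fin 3) (Fin 3) F) *ᵥ α') =
      l * f₁ α α') : l = 1 := by
  have h1 := congrArg Matrix.det (sim_gram hf₁ (a : Matrix (Fin 3) (Fin 3) F) l h)
  rw [Matrix.det_mul, Matrix.det_mul, Matrix.det_transpose, Matrix.det_smul, Fintype.card_fin] at h1
  have hG := gram_det_ne_zero hf₁ hnd
  have hd : (a : Matrix (Fin 3) (Fin 3) F).det ≠ 0 := by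
    have := Matrix.GeneralLinearGroup.det_ne_zero a
    exact this
  have h2 : (a : Matrix (Fin 3) (Fin 3) F).det * (a : Matrix (Fin 3) (Fin 3) F).det = l ^ 3 := by
    have : ((a : Matrix (Fin 3) (Fin 3) F).det * (a : Matrix (Fin 3) (Fin 3) F).det - l ^ 3) *
        (Cfsg.Geo.gramMatrix f₁).det = 0 := by linear_combination h1
    rcases mul_eq_zero.1 this with h' | h'
    · exact sub_eq_zero.1 h'
    · exact absurd h' hG
  rcases Cfsg.Agent.Lib.Helper28.OFrame.pm_one3 hc3 hd with e1 | e1 <;>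
  rcases Cfsg.Agent.Lib.Helper28.OFrame.pm_one3 hc3 hl with e2 | e2
  · exact e2
  · rw [e1, e2] at h2
    exfalso
    have h3 := Cfsg.Agent.Lib.Helper28.OPlane.two_ne_zero3 hc3
    apply h3
    linear_combination h2
  · exact e2
  · rw [e1, e2] at h2
    exfalso
    have h3 := Cfsg.Agent.Lib.Helper28.OPlane.two_ne_zero3 hc3
    apply h3
    linear_combination h2


theorem symF_of {k : ℕ} {f₁ : (Fin k → F) → (Fin k → F) → F}
    (hf₁ : Cfsg.Geo.IsSymmetricForm f₁) : Cfsg.Agent.Lib.Helper28.OGen.SymF f₁ where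
  involutive := fun _ => rfl
  add_left := hf₁.bilinear.add_left
  smul_left := hf₁.bilinear.smul_left
  herm := fun v w => hf₁.symm v w
  nondegenerate := hf₁.nondegenerate

theorem qf_of_sym {k : ℕ} {f₁ : (Fin k → F) → (Fin k → F) → F}
    (hf₁ : Cfsg.Geo.IsSymmetricForm f₁) (h2 : (2 : F) ≠ 0) :
    Cfsg.Agent.Lib.Helper28.OQ.QF (fun v => 2⁻¹ * f₁ v v) f₁ where
  sym := symF_of hf₁
  polar := by
    intro x y
    show 2⁻¹ * f₁ (x + y) (x + y) = 2⁻¹ * f₁ x x + 2⁻¹ * f₁ y y + f₁ x y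
    rw [hf₁.bilinear.add_left, hf₁.bilinear.add_right, hf₁.bilinear.add_right, hf₁.symm y x]
    field_simp
    ring
  smul := by
    intro c x
    show 2⁻¹ * f₁ (c • x) (c • x) = c * c * (2⁻¹ * f₁ x x)
    rw [hf₁.bilinear.smul_left, hf₁.bilinear.smul_right]
    ring

theorem frame3 [Fintype F] (hc : Fintype.card F = 3) {f₁ : (Fin 3 → F) → (Fin 3 → F) → F}
    (hf₁ : Cfsg.Geo.IsSymmetricForm f₁) :
    ∃ (X : Fin 3 → (Fin 3 → F)) (δ : F), δ ≠ 0 ∧ (∀ i, f₁ (X i) (X i) = δ) ∧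
      (∀ i j, i ≠ j → f₁ (X i) (X j) = 0) ∧
      (∀ v, f₁ v v = δ → ∃ i, v = X i ∨ v = -X i) := by
  have h2 := Cfsg.Agent.Lib.Helper28.OPlane.two_ne_zero3 hc
  have hq := qf_of_sym hf₁ h2
  have hf := hq.sym
  have sp : Cfsg.Agent.Lib.Helper28.ONd.Split f₁ (⊤ : Submodule F (Fin 3 → F)) ⊥ :=
    ⟨fun w _ o ho => by
      rw [(Submodule.mem_bot F).1 ho]
      exact bil_zero_right hf₁.bilinear w, sup_bot_eq _⟩
  obtain ⟨x, y, z, h, hy, hz⟩ := Cfsg.Agent.Lib.Helper28.OFrame.orth3_normal hq hc sp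
    (by rw [finrank_top, Module.finrank_fin_fun])
  have hyx : f₁ y x = 0 := by rw [hf₁.symm, h.xy]
  have hzx : f₁ z x = 0 := by rw [hf₁.symm, h.xz]
  have hzy : f₁ z y = 0 := by rw [hf₁.symm, h.yz]
  have hyy : f₁ y y = f₁ x x := by
    have : (2 : F)⁻¹ * f₁ y y = 2⁻¹ * f₁ x x := hy
    exact mul_left_cancel₀ (inv_ne_zero h2) this
  have hzz : f₁ z z = f₁ x x := by
    have : (2 : F)⁻¹ * f₁ z z = 2⁻¹ * f₁ x x := hz
    exact mul_left_cancel₀ (inv_ne_zero h2) this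
  have hxx : f₁ x x ≠ 0 := by
    intro h0
    apply h.qx
    show (2 : F)⁻¹ * f₁ x x = 0
    rw [h0, mul_zero]
  refine ⟨![x, y, z], f₁ x x, hxx, ?_, ?_, ?_⟩
  · intro i
    fin_cases i
    · rfl
    · exact hyy
    · exact hzz
  · intro i j hij
    fin_cases i <;> fin_cases j
    · exact absurd rfl hij
    · exact h.xy
    · exact h.xz
    · exact hyx
    · exact absurd rfl hij
    · exact h.yz
    · exact hzx
    · exact hzy
    · exact absurd rfl hij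
  · intro v hv
    have hvQ : (fun v => 2⁻¹ * f₁ v v) v = (fun v => 2⁻¹ * f₁ v v) x := by
      show (2 : F)⁻¹ * f₁ v v = 2⁻¹ * f₁ x x
      rw [hv]
    rcases Cfsg.Agent.Lib.Helper28.OFrame.orth3_P hq hc h hy hz v Submodule.mem_top hvQ with
      e | e | e | e | e | e
    · exact ⟨0, Or.inl e⟩
    · exact ⟨0, Or.inr e⟩
    · exact ⟨1, Or.inl e⟩
    · exact ⟨1, Or.inr e⟩
    · exact ⟨2, Or.inl e⟩
    · exact ⟨2, Or.inr e⟩


theorem tens_stab [Fintype F] (hc3 : Fintype.card F = 3) {f : (ι → F) → (ι → F) → F}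
    {f₁ : (Fin 3 → F) → (Fin 3 → F) → F} {f₂ : (Fin n₂ → F) → (Fin n₂ → F) → F}
    (e : ι ≃ Fin 3 × Fin n₂) (P : Matrix.GeneralLinearGroup ι F)
    (hf₁ : Cfsg.Geo.IsSymmetricForm f₁) (hf₂ : Cfsg.Geo.IsBilinearForm f₂)
    (hnd₂ : ∃ v v', f₂ v v' ≠ 0) {c : F} (hc : c ≠ 0)
    (hT : ∀ x y : Fin 3 × Fin n₂ → F,
      f ((P : Matrix ι ι F) *ᵥ (x ∘ e)) ((P : Matrix ι ι F) *ᵥ (y ∘ e)) =
        c * Cfsg.Geo.formOfGram id (Cfsg.Geo.gramMatrix f₁ ⊗ₖ Cfsg.Geo.gramMatrix f₂) x y)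
    (X : Fin 3 → (Fin 3 → F)) (δ : F) (hδ : δ ≠ 0) (hXX : ∀ i, f₁ (X i) (X i) = δ)
    (hXP : ∀ v, f₁ v v = δ → ∃ i, v = X i ∨ v = -X i)
    (hXo : ∀ i j, i ≠ j → f₁ (X i) (X j) = 0)
    (g : Matrix.GeneralLinearGroup ι F) (hg : g ∈ Cfsg.Geo.tensorProductSubgroup 3 n₂ e P)
    (hiso : ∀ x y, f ((g : Matrix ι ι F) *ᵥ x) ((g : Matrix ι ι F) *ᵥ y) = f x y) :
    g ∈ Cfsg.Geo.decompositionStabilizer (fun i => blk e P (X i)) := by
  obtain ⟨a, b, hact⟩ := tens_act e P g hg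
  obtain ⟨l, hl, hsim⟩ := sim_of_iso e P hf₁.bilinear hf₂ hc hT
    ⟨X 0, X 0, by rw [hXX]; exact hδ⟩ hnd₂ g _ _ hact hiso
  have hl1 := sim_one3 hc3 hf₁.bilinear hf₁.nondegenerate a l hl hsim
  rw [hl1] at hsim
  have haX : ∀ i, ∃ j, (a : Matrix (Fin 3) (Fin 3) F) *ᵥ X i = X j ∨
      (a : Matrix (Fin 3) (Fin 3) F) *ᵥ X i = -X j := fun i =>
    hXP _ (by rw [hsim, one_mul, hXX])
  choose σ₀ hσ₀ using haX
  have hinj : Function.Injective σ₀ := by
    intro i i' hii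
    by_contra hne
    have h1 := hsim (X i) (X i')
    rw [one_mul, hXo i i' hne] at h1
    have h2 := hσ₀ i
    have h3 := hσ₀ i'
    rw [← hii] at h3
    rcases h2 with h2 | h2 <;> rcases h3 with h3 | h3
    · rw [h2, h3, hXX] at h1
      exact hδ h1
    · rw [h2, h3, bil_neg_right hf₁.bilinear, hXX] at h1
      exact hδ (neg_eq_zero.1 h1)
    · rw [h2, h3, bil_neg_left hf₁.bilinear, hXX] at h1
      exact hδ (neg_eq_zero.1 h1)
    · rw [h2, h3, bil_neg_left hf₁.bilinear, bil_neg_right hf₁.bilinear, neg_neg, hXX] at h1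
      exact hδ h1
  refine ⟨Equiv.ofBijective σ₀ (Finite.injective_iff_bijective.1 hinj), fun i => ?_⟩
  show (blk e P (X i)).map (Matrix.toLin' (g : Matrix ι ι F)) = blk e P (X (σ₀ i))
  ext w
  constructor
  · rintro ⟨w₀, ⟨v, rfl⟩, rfl⟩
    rw [Matrix.toLin'_apply]
    show (g : Matrix ι ι F) *ᵥ tau e P (X i) v ∈ _
    rw [hact]
    rcases hσ₀ i with h | h
    · rw [h]
      exact (mem_blk e P _ _).2 ⟨_, rfl⟩
    · rw [h, tau_neg_left]
      exact (mem_blk e P _ _).2 ⟨_, rfl⟩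
  · rintro ⟨v', rfl⟩
    show tau e P (X (σ₀ i)) v' ∈ _
    have hbb : ∀ v, (b : Matrix (Fin n₂) (Fin n₂) F) *ᵥ
        (((b⁻¹ : Matrix.GeneralLinearGroup (Fin n₂) F) : Matrix (Fin n₂) (Fin n₂) F) *ᵥ v) = v :=
      fun v => Cfsg.Agent.Lib.Helper28.DecGen.gl_cancel' b v
    rcases hσ₀ i with h | h
    · refine ⟨tau e P (X i) (((b⁻¹ : Matrix.GeneralLinearGroup (Fin n₂) F) :
        Matrix (Fin n₂) (Fin n₂) F) *ᵥ v'), (mem_blk e P _ _).2 ⟨_, rfl⟩, ?_⟩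
      rw [Matrix.toLin'_apply, hact, h, hbb]
    · refine ⟨tau e P (X i) (((b⁻¹ : Matrix.GeneralLinearGroup (Fin n₂) F) :
        Matrix (Fin n₂) (Fin n₂) F) *ᵥ (-v')), (mem_blk e P _ _).2 ⟨_, rfl⟩, ?_⟩
      rw [Matrix.toLin'_apply, hact, h, hbb, tau_neg_left, neg_neg]

theorem tens_scalar (g : Matrix.GeneralLinearGroup ι F)
    (hg : g ∈ Cfsg.Geo.tensorProductSubgroup n₁ n₂ e P) (α β : Fin n₁ → F) (hα : α ≠ 0)
    (hβ : β ≠ 0) (hfix : ∀ w ∈ blk e P β, (g : Matrix ι ι F) *ᵥ w = w)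
    (w : ι → F) (hw : w ∈ blk e P α) (hgw : (g : Matrix ι ι F) *ᵥ w ∈ blk e P α) :
    ∃ μ : F, (g : Matrix ι ι F) *ᵥ w = μ • w := by
  obtain ⟨a, b, hact⟩ := tens_act e P g hg
  obtain ⟨i, hi⟩ : ∃ i, β i ≠ 0 := by
    by_contra hcon
    push Not at hcon
    exact hβ (funext hcon)
  obtain ⟨i', hi'⟩ : ∃ i, α i ≠ 0 := by
    by_contra hcon
    push Not at hcon
    exact hα (funext hcon)
  obtain ⟨κ, hκ⟩ : ∃ κ, κ = ((a : Matrix (Fin n₁) (Fin n₁) F) *ᵥ β) i / β i := ⟨_, rfl⟩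
  have hb : ∀ v, v = κ • ((b : Matrix (Fin n₂) (Fin n₂) F) *ᵥ v) := by
    intro v
    have h1 := hfix (tau e P β v) ((mem_blk e P _ _).2 ⟨_, rfl⟩)
    rw [hact] at h1
    have h2 := pt_eq (tau_pt e P h1.symm) i hi
    rw [← hκ] at h2
    exact h2
  obtain ⟨v, rfl⟩ := (mem_blk e P _ _).1 hw
  obtain ⟨v', hv'⟩ := (mem_blk e P _ _).1 hgw
  by_cases hv0 : v = 0
  · refine ⟨0, ?_⟩
    rw [hv0]
    have : tau e P α (0 : Fin n₂ → F) = 0 := by
      have := tau_smul_right e P 0 α 0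
      rw [zero_smul, zero_smul] at this
      exact this
    rw [this, Matrix.mulVec_zero, smul_zero]
  · have hκ0 : κ ≠ 0 := by
      intro h
      apply hv0
      have := hb v
      rw [h, zero_smul] at this
      exact this
    have hbv : (b : Matrix (Fin n₂) (Fin n₂) F) *ᵥ v = κ⁻¹ • v := by
      conv_rhs => rw [hb v]
      rw [smul_smul, inv_mul_cancel₀ hκ0, one_smul]
    rw [hact] at hv'
    have h2 := pt_eq (tau_pt e P hv') i' hi'
    rw [hbv] at h2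
    refine ⟨((a : Matrix (Fin n₁) (Fin n₁) F) *ᵥ α) i' / α i' * κ⁻¹, ?_⟩
    rw [hact, ← hv', h2, tau_smul_right, tau_smul_right, smul_smul]

end Cfsg.Agent.Lib.Helper28.OTens
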