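import Mathlib

set_option autoImplicit false
open commutatorElement
open scoped IsMulCommutative

namespace Cfsg.Agent.Lib.Helper28.S3

/-- additive bookkeeping for the nine commutators `c_ij`. -/
theorem add_calc {A : Type*} [AddCommGroup A] (c00 c01 c10 c11 c12 c20 c21 c22 : A)
    (r0 : c00 + c10 + c20 = 0) (r1 : c01 + c11 + c21 = 0) (k1 : c10 + c11 + c12 = 0)
    (k2 : c20 + c21 + c22 = 0) (s : c00 + c11 + c22 = 0) :
    c11 + -c12 + -(c21 + -c22) = -(3 • c00) := by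
  have e20 : c20 = -(c00 + c10) := by
    rw [eq_neg_iff_add_eq_zero, ← r0]; abel
  have e21 : c21 = -(c01 + c11) := by
    rw [eq_neg_iff_add_eq_zero, ← r1]; abel
  have e12 : c12 = -(c10 + c11) := by
    rw [eq_neg_iff_add_eq_zero, ← k1]; abel
  have e22 : c22 = -(c20 + c21) := by
    rw [eq_neg_iff_add_eq_zero, ← k2]; abel
  subst e20 e21 e12
  subst e22
  have e01 : c01 = -(2 • c00 + 2 • c11 + c10) := by
    rw [eq_neg_iff_add_eq_zero, ← s]; abel
  subst e01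
  abel

theorem mul_calc {Z : Type*} [CommGroup Z] (c00 c01 c10 c11 c12 c20 c21 c22 : Z)
    (r0 : c00 * c10 * c20 = 1) (r1 : c01 * c11 * c21 = 1) (k1 : c10 * c11 * c12 = 1)
    (k2 : c20 * c21 * c22 = 1) (s : c00 * c11 * c22 = 1) :
    c11 * c12⁻¹ * (c21 * c22⁻¹)⁻¹ = (c00 ^ 3)⁻¹ :=
  add_calc (A := Additive Z) (Additive.ofMul c00) (Additive.ofMul c01) (Additive.ofMul c10)
    (Additive.ofMul c11) (Additive.ofMul c12) (Additive.ofMul c20) (Additive.ofMul c21)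
    (Additive.ofMul c22) r0 r1 k1 k2 s


variable {Y : Type*} [Group Y]

/-- the subgroup `[Y, ξ]`, generated by all `ξ y * y⁻¹`. -/
def comSub (ξ : MulAut Y) : Subgroup Y := Subgroup.closure (Set.range fun y => ξ y * y⁻¹)

theorem gen_mem_comSub (ξ : MulAut Y) (y : Y) : ξ y * y⁻¹ ∈ comSub ξ :=
  Subgroup.subset_closure ⟨y, rfl⟩

instance comSub_normal (ξ : MulAut Y) : (comSub ξ).Normal := ⟨fun n hn g => by
  unfold comSub at hn
  induction hn using Subgroup.closure_induction with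
  | mem z hz =>
    obtain ⟨y, rfl⟩ := hz
    have e : g * (ξ y * y⁻¹) * g⁻¹ = (ξ g * g⁻¹)⁻¹ * (ξ (g * y) * (g * y)⁻¹) := by
      rw [map_mul]; group
    rw [e]
    exact mul_mem (inv_mem (gen_mem_comSub ξ g)) (gen_mem_comSub ξ (g * y))
  | one => simp
  | mul a b _ _ ha hb =>
    have e : g * (a * b) * g⁻¹ = (g * a * g⁻¹) * (g * b * g⁻¹) := by group
    rw [e]; exact mul_mem ha hb
  | inv a _ ha =>
    have e : g * a⁻¹ * g⁻¹ = (g * a * g⁻¹)⁻¹ := by group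
    rw [e]; exact inv_mem ha⟩

theorem mem_of_pow_mem [Finite Y] (N : Subgroup Y) {k : ℕ} (hk : (Nat.card Y).Coprime k) (g : Y)
    (h : g ^ k ∈ N) : g ∈ N := by
  have := (powCoprime hk).left_inv g
  rw [← this]
  exact N.zpow_mem h _

/-- commutators in a class-two group, as elements of the centre. -/
def cz (hc : ∀ a b c : Y, ⁅a, b⁆ * c = c * ⁅a, b⁆) (u w : Y) : Subgroup.center Y :=
  ⟨⁅u, w⁆, Subgroup.mem_center_iff.mpr fun c => (hc u w c).symm⟩

section cz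
variable (hc : ∀ a b c : Y, ⁅a, b⁆ * c = c * ⁅a, b⁆)

theorem cz_mul_left (u v w : Y) : cz hc (u * v) w = cz hc u w * cz hc v w := by
  apply Subtype.ext
  show ⁅u * v, w⁆ = ⁅u, w⁆ * ⁅v, w⁆
  have h1 : ⁅u * v, w⁆ = u * ⁅v, w⁆ * w * u⁻¹ * w⁻¹ := by
    simp only [commutatorElement_def]; group
  rw [h1, ← hc v w u, hc u w ⁅v, w⁆]
  simp only [commutatorElement_def]; group

theorem cz_mul_right (u v w : Y) : cz hc u (v * w) = cz hc u v * cz hc u w := by
  apply Subtype.ext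
  show ⁅u, v * w⁆ = ⁅u, v⁆ * ⁅u, w⁆
  have h1 : ⁅u, v * w⁆ = u * v * u⁻¹ * ⁅u, w⁆ * v⁻¹ := by
    simp only [commutatorElement_def]; group
  rw [h1, mul_assoc (u * v * u⁻¹), hc u w v⁻¹]
  simp only [commutatorElement_def]; group

theorem cz_one_left (w : Y) : cz hc 1 w = 1 := by
  apply Subtype.ext
  show ⁅(1 : Y), w⁆ = 1
  simp

theorem cz_one_right (u : Y) : cz hc u 1 = 1 := by
  apply Subtype.ext
  show ⁅u, (1 : Y)⁆ = 1
  simp

theorem cz_inv_left (u w : Y) : cz hc u⁻¹ w = (cz hc u w)⁻¹ := by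
  rw [eq_inv_iff_mul_eq_one, ← cz_mul_left, inv_mul_cancel, cz_one_left]

theorem cz_inv_right (u w : Y) : cz hc u w⁻¹ = (cz hc u w)⁻¹ := by
  rw [eq_inv_iff_mul_eq_one, ← cz_mul_right, inv_mul_cancel, cz_one_right]

theorem cz_central_left (t w : Y) (ht : ∀ c, t * c = c * t) : cz hc t w = 1 := by
  apply Subtype.ext
  show ⁅t, w⁆ = 1
  rw [commutatorElement_def, ht w]; group

theorem cz_central_right (u t : Y) (ht : ∀ c, t * c = c * t) : cz hc u t = 1 := by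
  apply Subtype.ext
  show ⁅u, t⁆ = 1
  rw [commutatorElement_def, ← ht u]; group

end cz


/-- **Class two case**: `Y' ≤ [Y, ξ]` for a group of class at most two with a fixed point free
action of `S₃ = ⟨φ, ξ⟩` (`|Y|` prime to 6), fixed point freeness on `Y / Y'` being assumed. -/
theorem class_two [Finite Y] (φ ξ : MulAut Y)
    (h3 : ∀ y, φ (φ (φ y)) = y) (h2 : ∀ y, ξ (ξ y) = y) (hξφ : ∀ y, ξ (φ y) = φ (φ (ξ y)))
    (hcop : (Nat.card Y).Coprime 6)
    (hc : ∀ a b c : Y, ⁅a, b⁆ * c = c * ⁅a, b⁆)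
    (hfix : ∀ y, φ y = y → ξ y = y → y = 1)
    (hfix2 : ∀ y, y⁻¹ * φ y ∈ commutator Y → y⁻¹ * ξ y ∈ commutator Y → y ∈ commutator Y) :
    commutator Y ≤ comSub ξ := by
  have hcop2 : (Nat.card Y).Coprime 2 := Nat.Coprime.coprime_dvd_right (by norm_num) hcop
  have hcop3 : (Nat.card Y).Coprime 3 := Nat.Coprime.coprime_dvd_right (by norm_num) hcop
  have hcomle : commutator Y ≤ Subgroup.center Y := by
    rw [commutator_eq_closure, Subgroup.closure_le]
    rintro _ ⟨a, b, rfl⟩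
    exact Subgroup.mem_center_iff.mpr fun c => (hc a b c).symm
  have hcen : ∀ z ∈ commutator Y, ∀ c, z * c = c * z := fun z hz c =>
    (Subgroup.mem_center_iff.mp (hcomle hz) c).symm
  have hcm : ∀ u v : Y, ⁅u, v⁆ ∈ commutator Y := by
    intro u v
    rw [commutator_def]
    exact Subgroup.commutator_mem_commutator (Subgroup.mem_top _) (Subgroup.mem_top _)
  have hor1 : ∀ a : Y, ξ a = a → ξ (φ a) = φ (φ a) := by
    intro a ha; rw [hξφ, ha]
  have hor2 : ∀ a : Y, ξ a = a → ξ (φ (φ a)) = φ a := by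
    intro a ha; rw [hξφ, hξφ, ha, h3]
  have htriple : ∀ a : Y, ξ a = a →
      ∀ c, (a * φ a * φ (φ a)) * c = c * (a * φ a * φ (φ a)) := by
    intro a ha
    apply hcen
    apply hfix2
    · have e : (a * φ a * φ (φ a))⁻¹ * φ (a * φ a * φ (φ a)) = ⁅(φ a * φ (φ a))⁻¹, a⁻¹⁆ := by
        rw [map_mul, map_mul, h3, commutatorElement_def]; group
      rw [e]; exact hcm _ _
    · have e : (a * φ a * φ (φ a))⁻¹ * ξ (a * φ a * φ (φ a)) = ⁅(φ (φ a))⁻¹, (φ a)⁻¹⁆ := by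
        rw [map_mul, map_mul, hor1 a ha, hor2 a ha, ha, commutatorElement_def]; group
      rw [e]; exact hcm _ _
  have key : ∀ a b : Y, ξ a = a → ξ b = b → ⁅a, b⁆ ∈ comSub ξ := by
    intro a b ha hb
    have hta := htriple a ha
    have htb := htriple b hb
    have r0 : cz hc a b * cz hc (φ a) b * cz hc (φ (φ a)) b = 1 := by
      rw [← cz_mul_left, ← cz_mul_left]; exact cz_central_left hc _ _ hta
    have r1 : cz hc a (φ b) * cz hc (φ a) (φ b) * cz hc (φ (φ a)) (φ b) = 1 := by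
      rw [← cz_mul_left, ← cz_mul_left]; exact cz_central_left hc _ _ hta
    have k1 : cz hc (φ a) b * cz hc (φ a) (φ b) * cz hc (φ a) (φ (φ b)) = 1 := by
      rw [← cz_mul_right, ← cz_mul_right]; exact cz_central_right hc _ _ htb
    have k2 : cz hc (φ (φ a)) b * cz hc (φ (φ a)) (φ b) * cz hc (φ (φ a)) (φ (φ b)) = 1 := by
      rw [← cz_mul_right, ← cz_mul_right]; exact cz_central_right hc _ _ htb
    have s : cz hc a b * cz hc (φ a) (φ b) * cz hc (φ (φ a)) (φ (φ b)) = 1 := by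
      apply Subtype.ext
      show ⁅a, b⁆ * ⁅φ a, φ b⁆ * ⁅φ (φ a), φ (φ b)⁆ = 1
      apply hfix
      · rw [map_mul, map_mul, map_commutatorElement, map_commutatorElement,
          map_commutatorElement, h3, h3, ← hc a b, mul_assoc]
      · rw [map_mul, map_mul, map_commutatorElement, map_commutatorElement,
          map_commutatorElement, ha, hb, hor1 a ha, hor1 b hb, hor2 a ha, hor2 b hb,
          mul_assoc, mul_assoc, hc (φ (φ a)) (φ (φ b))]
    have hα : φ a * (φ (φ a))⁻¹ ∈ comSub ξ := by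
      apply mem_of_pow_mem _ hcop2
      have e : ξ (φ a * (φ (φ a))⁻¹) * (φ a * (φ (φ a))⁻¹)⁻¹
          = ((φ a * (φ (φ a))⁻¹) ^ 2)⁻¹ := by
        rw [map_mul, map_inv, hor1 a ha, hor2 a ha, pow_two]; group
      have := gen_mem_comSub ξ (φ a * (φ (φ a))⁻¹)
      rw [e] at this; exact inv_mem_iff.mp this
    have hβ : φ b * (φ (φ b))⁻¹ ∈ comSub ξ := by
      apply mem_of_pow_mem _ hcop2
      have e : ξ (φ b * (φ (φ b))⁻¹) * (φ b * (φ (φ b))⁻¹)⁻¹
          = ((φ b * (φ (φ b))⁻¹) ^ 2)⁻¹ := by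
        rw [map_mul, map_inv, hor1 b hb, hor2 b hb, pow_two]; group
      have := gen_mem_comSub ξ (φ b * (φ (φ b))⁻¹)
      rw [e] at this; exact inv_mem_iff.mp this
    have hcomm : ⁅φ a * (φ (φ a))⁻¹, φ b * (φ (φ b))⁻¹⁆ ∈ comSub ξ := by
      rw [commutatorElement_def]
      exact mul_mem (mul_mem (mul_mem hα hβ) (inv_mem hα)) (inv_mem hβ)
    have e : cz hc (φ a * (φ (φ a))⁻¹) (φ b * (φ (φ b))⁻¹) = (cz hc a b ^ 3)⁻¹ := by
      rw [cz_mul_left, cz_inv_left, cz_mul_right, cz_mul_right, cz_inv_right, cz_inv_right]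
      exact mul_calc (Z := ↥(Subgroup.center Y)) _ _ _ _ _ _ _ _ r0 r1 k1 k2 s
    have e' : ⁅φ a * (φ (φ a))⁻¹, φ b * (φ (φ b))⁻¹⁆ = (⁅a, b⁆ ^ 3)⁻¹ :=
      congrArg Subtype.val e
    rw [e'] at hcomm
    exact mem_of_pow_mem _ hcop3 _ (inv_mem_iff.mp hcomm)
  have dec : ∀ u : Y, ∃ c n, u = c * n ∧ ξ c = c ∧ n ∈ comSub ξ := by
    intro u
    obtain ⟨w, hw⟩ : ∃ w, w = u⁻¹ * ξ u := ⟨_, rfl⟩
    have hwN : w ∈ comSub ξ := by
      have := gen_mem_comSub ξ u⁻¹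
      have e : ξ u⁻¹ * u⁻¹⁻¹ = w⁻¹ := by rw [hw, map_inv]; group
      rw [e] at this; exact inv_mem_iff.mp this
    have hξw : ξ w = w⁻¹ := by rw [hw, map_mul, map_inv, h2]; group
    obtain ⟨z, hz⟩ : ∃ z : ℤ, (w ^ z) ^ 2 = w := ⟨_, (powCoprime hcop2).right_inv w⟩
    refine ⟨u * w ^ z, (w ^ z)⁻¹, by group, ?_, inv_mem (Subgroup.zpow_mem _ hwN z)⟩
    rw [map_mul, map_zpow, hξw]
    have : ξ u = u * (w ^ z) ^ 2 := by rw [hz, hw]; group
    rw [this, inv_zpow, pow_two]; group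
  rw [commutator_eq_closure, Subgroup.closure_le]
  rintro _ ⟨u, u', rfl⟩
  obtain ⟨c, n, rfl, hc1, hn⟩ := dec u
  obtain ⟨c', n', rfl, hc1', hn'⟩ := dec u'
  have hn1 : (n : Y ⧸ comSub ξ) = 1 := (QuotientGroup.eq_one_iff n).mpr hn
  have hn1' : (n' : Y ⧸ comSub ξ) = 1 := (QuotientGroup.eq_one_iff n').mpr hn'
  have e : ((⁅c * n, c' * n'⁆ : Y) : Y ⧸ comSub ξ) = ((⁅c, c'⁆ : Y) : Y ⧸ comSub ξ) := by
    simp only [commutatorElement_def, QuotientGroup.mk_mul, QuotientGroup.mk_inv, hn1, hn1',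
      mul_one]
  show ⁅c * n, c' * n'⁆ ∈ comSub ξ
  rw [← QuotientGroup.eq_one_iff, e, QuotientGroup.eq_one_iff]
  exact key c c' hc1 hc1'

end Cfsg.Agent.Lib.Helper28.S3
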