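import Mathlib
import Cfsg.Agent.Lib.Lead.Coprime
import Cfsg.Agent.Lib.Helper28.S3A

set_option autoImplicit false
open commutatorElement
open scoped IsMulCommutative

namespace Cfsg.Agent.Lib.Helper28.S3

open Cfsg.Agent.Lib.Lead

variable {G : Type*} [Group G]

/-- the elements `b` normalising `D` with `z⁻¹ * (b z b⁻¹) ∈ D` form a subgroup. -/
def liftSub (D : Subgroup G) (z : G) : Subgroup G where
  carrier := {b | b ∈ Subgroup.normalizer (D : Set G) ∧ z⁻¹ * (b * z * b⁻¹) ∈ D}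
  one_mem' := ⟨Subgroup.one_mem _, by simp⟩
  mul_mem' := by
    rintro a b ⟨ha, ha'⟩ ⟨hb, hb'⟩
    refine ⟨Subgroup.mul_mem _ ha hb, ?_⟩
    have e : z⁻¹ * (a * b * z * (a * b)⁻¹)
        = z⁻¹ * (a * z * a⁻¹) * (a * (z⁻¹ * (b * z * b⁻¹)) * a⁻¹) := by group
    rw [e]
    exact D.mul_mem ha' ((Subgroup.mem_normalizer_iff.mp ha _).mp hb')
  inv_mem' := by
    rintro a ⟨ha, ha'⟩
    refine ⟨Subgroup.inv_mem _ ha, ?_⟩
    have e : z⁻¹ * (a⁻¹ * z * a⁻¹⁻¹) = a⁻¹ * (z⁻¹ * (a * z * a⁻¹))⁻¹ * a⁻¹⁻¹ := by group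
    rw [e]
    exact (Subgroup.mem_normalizer_iff.mp (Subgroup.inv_mem _ ha) _).mp (D.inv_mem ha')

theorem lift_zpowers (D : Subgroup G) (a z : G) (ha : a ∈ Subgroup.normalizer (D : Set G))
    (h : z⁻¹ * (a * z * a⁻¹) ∈ D) : ∀ b ∈ Subgroup.zpowers a, z⁻¹ * (b * z * b⁻¹) ∈ D := by
  intro b hb
  have : Subgroup.zpowers a ≤ liftSub D z := by
    rw [Subgroup.zpowers_le]; exact ⟨ha, h⟩
  exact (this hb).2

/-- Coprime lifting of fixed points for `⟨f, x⟩ ≅ S₃` in the ambient form. -/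
theorem amb_lift [Finite G] (R : Subgroup G) (f x : G)
    (hf : f ^ 3 = 1) (hx : x ^ 2 = 1) (hxf : x * f * x⁻¹ = f⁻¹)
    (hcop : (Nat.card R).Coprime 6)
    (hfix : ∀ y ∈ R, f * y = y * f → x * y = y * x → y = 1)
    (N : Subgroup G) (hNR : N ≤ R) (hfN : f ∈ Subgroup.normalizer (N : Set G))
    (hxN : x ∈ Subgroup.normalizer (N : Set G))
    (y : G) (hy : y ∈ R) (h1 : y⁻¹ * (f * y * f⁻¹) ∈ N) (h2 : y⁻¹ * (x * y * x⁻¹) ∈ N) :
    y ∈ N := by
  have hcopN : (Nat.card N).Coprime 6 :=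
    Nat.Coprime.coprime_dvd_left (Subgroup.card_dvd_of_le hNR) hcop
  have cop1 : (Nat.card (Subgroup.zpowers f)).Coprime (Nat.card N) := by
    rw [Nat.card_zpowers]
    have h3 : orderOf f ∣ 6 := (orderOf_dvd_of_pow_eq_one hf).trans (by norm_num)
    exact (Nat.Coprime.coprime_dvd_right h3 hcopN).symm
  obtain ⟨d, hd, hc1⟩ := coset_fixed (Subgroup.zpowers f) N (Subgroup.zpowers_le.mpr hfN) cop1
    (Or.inl (Group.isSolvable_of_comm (fun a b => mul_comm' a b))) y (lift_zpowers N f y hfN h1)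
  have hy1f : f * (y * d) = (y * d) * f :=
    (Subgroup.mem_centralizer_iff.mp hc1) f (Subgroup.mem_zpowers f)
  -- second step
  have hxf' : x⁻¹ * f * x = f⁻¹ := by
    have : f = x⁻¹ * f⁻¹ * x := by rw [← hxf]; group
    calc x⁻¹ * f * x = (x⁻¹ * f⁻¹ * x)⁻¹ := by group
      _ = f⁻¹ := by rw [← this]
  have hxC : x ∈ Subgroup.normalizer ((Subgroup.centralizer ({f} : Set G) : Subgroup G) : Set G) := by
    rw [Subgroup.mem_normalizer_iff]
    intro g
    rw [Subgroup.mem_centralizer_singleton_iff, Subgroup.mem_centralizer_singleton_iff]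
    constructor
    · intro h
      have h' : g * f⁻¹ = f⁻¹ * g := by
        calc g * f⁻¹ = f⁻¹ * (f * g) * f⁻¹ := by group
          _ = f⁻¹ * (g * f) * f⁻¹ := by rw [h]
          _ = f⁻¹ * g := by group
      calc x * g * x⁻¹ * f = x * (g * (x⁻¹ * f * x)) * x⁻¹ := by group
        _ = x * (g * f⁻¹) * x⁻¹ := by rw [hxf']
        _ = x * ((x⁻¹ * f * x) * g) * x⁻¹ := by rw [h', hxf']
        _ = f * (x * g * x⁻¹) := by group
    · intro h
      have h' : g * (x⁻¹ * f * x) = (x⁻¹ * f * x) * g := by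
        calc g * (x⁻¹ * f * x) = x⁻¹ * (x * g * x⁻¹ * f) * x := by group
          _ = x⁻¹ * (f * (x * g * x⁻¹)) * x := by rw [h]
          _ = (x⁻¹ * f * x) * g := by group
      rw [hxf'] at h'
      calc g * f = f * (f⁻¹ * g) * f := by group
        _ = f * (g * f⁻¹) * f := by rw [h']
        _ = f * g := by group
  have hxD : x ∈ Subgroup.normalizer ((N ⊓ Subgroup.centralizer ({f} : Set G) : Subgroup G) : Set G) := by
    rw [Subgroup.mem_normalizer_iff]
    intro g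
    rw [Subgroup.mem_inf, Subgroup.mem_inf, ← Subgroup.mem_normalizer_iff.mp hxN g,
      ← Subgroup.mem_normalizer_iff.mp hxC g]
  have hy1C : y * d ∈ Subgroup.centralizer ({f} : Set G) :=
    Subgroup.mem_centralizer_singleton_iff.mpr hy1f.symm
  have h2' : (y * d)⁻¹ * (x * (y * d) * x⁻¹) ∈ N ⊓ Subgroup.centralizer ({f} : Set G) := by
    refine ⟨?_, ?_⟩
    · have e : (y * d)⁻¹ * (x * (y * d) * x⁻¹) = d⁻¹ * (y⁻¹ * (x * y * x⁻¹)) * (x * d * x⁻¹) := by
        group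
      rw [e]
      exact N.mul_mem (N.mul_mem (N.inv_mem hd) h2) ((Subgroup.mem_normalizer_iff.mp hxN d).mp hd)
    · exact Subgroup.mul_mem _ (Subgroup.inv_mem _ hy1C)
        ((Subgroup.mem_normalizer_iff.mp hxC _).mp hy1C)
  have cop2 : (Nat.card (Subgroup.zpowers x)).Coprime
      (Nat.card (N ⊓ Subgroup.centralizer ({f} : Set G) : Subgroup G)) := by
    rw [Nat.card_zpowers]
    have h3 : orderOf x ∣ 6 := (orderOf_dvd_of_pow_eq_one hx).trans (by norm_num)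
    have h4 : (Nat.card (N ⊓ Subgroup.centralizer ({f} : Set G) : Subgroup G)).Coprime 6 :=
      Nat.Coprime.coprime_dvd_left (Subgroup.card_dvd_of_le inf_le_left) hcopN
    exact (Nat.Coprime.coprime_dvd_right h3 h4).symm
  obtain ⟨d₂, hd₂, hc2⟩ := coset_fixed (Subgroup.zpowers x) (N ⊓ Subgroup.centralizer ({f} : Set G))
    (Subgroup.zpowers_le.mpr hxD) cop2
    (Or.inl (Group.isSolvable_of_comm (fun a b => mul_comm' a b))) (y * d)
    (lift_zpowers _ x (y * d) hxD h2')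
  have hcx : x * (y * d * d₂) = (y * d * d₂) * x :=
    (Subgroup.mem_centralizer_iff.mp hc2) x (Subgroup.mem_zpowers x)
  have hcf : f * (y * d * d₂) = (y * d * d₂) * f := by
    have h5 : d₂ * f = f * d₂ := Subgroup.mem_centralizer_singleton_iff.mp hd₂.2
    calc f * (y * d * d₂) = (f * (y * d)) * d₂ := by group
      _ = (y * d) * (f * d₂) := by rw [hy1f]; group
      _ = (y * d * d₂) * f := by rw [← h5]; group
  have hcR : y * d * d₂ ∈ R := R.mul_mem (R.mul_mem hy (hNR hd)) (hNR hd₂.1)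
  have h6 := hfix _ hcR hcf hcx
  have e : y = d₂⁻¹ * d⁻¹ := by
    calc y = (y * d * d₂) * d₂⁻¹ * d⁻¹ := by group
      _ = d₂⁻¹ * d⁻¹ := by rw [h6, one_mul]
  rw [e]
  exact N.mul_mem (N.inv_mem hd₂.1) (N.inv_mem hd)

end Cfsg.Agent.Lib.Helper28.S3
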