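import Mathlib
import Cfsg.Agent.Lib.Helper28.S3A

set_option autoImplicit false
open commutatorElement

namespace Cfsg.Agent.Lib.Helper28.S3

variable {Y : Type*} [Group Y]

theorem sup_commutator_le (N H : Subgroup Y) [N.Normal] :
    ⁅N ⊔ H, (⊤ : Subgroup Y)⁆ ≤ N ⊔ ⁅H, (⊤ : Subgroup Y)⁆ := by
  rw [Subgroup.commutator_le]
  intro g₁ hg₁ g₂ _
  obtain ⟨n, hn, h, hh, rfl⟩ := Subgroup.mem_sup_of_normal_left.mp hg₁
  have e : ⁅n * h, g₂⁆ = n * ⁅h, g₂⁆ * (g₂ * n⁻¹ * g₂⁻¹) := by
    simp only [commutatorElement_def]; group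
  rw [e]
  refine Subgroup.mul_mem _ (Subgroup.mul_mem _ (Subgroup.mem_sup_left hn) ?_) ?_
  · exact Subgroup.mem_sup_right (Subgroup.commutator_mem_commutator hh (Subgroup.mem_top _))
  · exact Subgroup.mem_sup_left (Subgroup.Normal.conj_mem inferInstance _ (N.inv_mem hn) g₂)

/-- **Nilpotent case** (abstract form), the lifting of fixed points being a hypothesis. -/
theorem nilp_case [Finite Y] (φ ξ : MulAut Y)
    (h3 : ∀ y, φ (φ (φ y)) = y) (h2 : ∀ y, ξ (ξ y) = y) (hξφ : ∀ y, ξ (φ y) = φ (φ (ξ y)))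
    (hcop : (Nat.card Y).Coprime 6) (hnil : Group.IsNilpotent Y)
    (hl : ∀ N : Subgroup Y, N.Normal → (∀ n ∈ N, φ n ∈ N) → (∀ n ∈ N, ξ n ∈ N) →
      ∀ y, y⁻¹ * φ y ∈ N → y⁻¹ * ξ y ∈ N → y ∈ N) :
    commutator Y ≤ comSub ξ := by
  obtain ⟨K, hK⟩ : ∃ K : Subgroup Y, K = (⊤ : Subgroup Y).lowerCentralSeries 2 := ⟨_, rfl⟩
  have hKc : K.Characteristic := by rw [hK]; infer_instance
  have hKn : K.Normal := inferInstance
  have hKφ : K.map (φ : Y →* Y) = K := Subgroup.characteristic_iff_map_eq.mp hKc φ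
  have hKξ : K.map (ξ : Y →* Y) = K := Subgroup.characteristic_iff_map_eq.mp hKc ξ
  have hKcom : K ≤ commutator Y := by
    rw [hK]; exact Subgroup.lowerCentralSeries_antitone _ (by norm_num : 1 ≤ 2)
  have hinv : ∀ (C : Subgroup Y) [C.Characteristic] (θ : MulAut Y), ∀ n ∈ C, θ n ∈ C := by
    intro C hC θ n hn
    have := Subgroup.characteristic_iff_map_eq.mp hC θ
    rw [← this]; exact ⟨n, hn, rfl⟩
  obtain ⟨φ', hφ'⟩ : ∃ φ' : MulAut (Y ⧸ K), ∀ y : Y, φ' (y : Y ⧸ K) = ((φ y : Y) : Y ⧸ K) :=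
    ⟨QuotientGroup.congr K K φ hKφ, fun y => QuotientGroup.congr_mk K K φ hKφ y⟩
  obtain ⟨ξ', hξ'⟩ : ∃ ξ' : MulAut (Y ⧸ K), ∀ y : Y, ξ' (y : Y ⧸ K) = ((ξ y : Y) : Y ⧸ K) :=
    ⟨QuotientGroup.congr K K ξ hKξ, fun y => QuotientGroup.congr_mk K K ξ hKξ y⟩
  -- membership in the commutator subgroup of the quotient
  have hcomq : commutator (Y ⧸ K) = (commutator Y).map (QuotientGroup.mk' K) := by
    rw [commutator_def, commutator_def, Subgroup.map_commutator,
      Subgroup.map_top_of_surjective _ (QuotientGroup.mk'_surjective K)]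
  have hmem : ∀ z : Y, (z : Y ⧸ K) ∈ commutator (Y ⧸ K) ↔ z ∈ commutator Y := by
    intro z
    rw [hcomq]
    constructor
    · rintro ⟨c, hc, hcz⟩
      have h1 : c⁻¹ * z ∈ K := QuotientGroup.eq.mp hcz
      have e : z = c * (c⁻¹ * z) := by group
      rw [e]; exact Subgroup.mul_mem _ hc (hKcom h1)
    · intro hz; exact ⟨z, hz, rfl⟩
  have base : commutator (Y ⧸ K) ≤ comSub ξ' := by
    apply class_two φ' ξ'
    · intro y; induction y using QuotientGroup.induction_on with
      | H y => rw [hφ', hφ', hφ', h3]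
    · intro y; induction y using QuotientGroup.induction_on with
      | H y => rw [hξ', hξ', h2]
    · intro y; induction y using QuotientGroup.induction_on with
      | H y => rw [hφ', hξ', hξ', hφ', hφ', hξφ]
    · exact Nat.Coprime.coprime_dvd_left (Subgroup.card_quotient_dvd_card K) hcop
    · intro a b c
      induction a using QuotientGroup.induction_on with
      | H a =>
      induction b using QuotientGroup.induction_on with
      | H b =>
      induction c using QuotientGroup.induction_on with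
      | H c =>
      rw [← commutatorElement_eq_one_iff_mul_comm]
      have e : ⁅⁅(a : Y ⧸ K), (b : Y ⧸ K)⁆, (c : Y ⧸ K)⁆ = ((⁅⁅a, b⁆, c⁆ : Y) : Y ⧸ K) := by
        simp only [commutatorElement_def, QuotientGroup.mk_mul, QuotientGroup.mk_inv]
      rw [e, QuotientGroup.eq_one_iff, hK]
      exact Subgroup.commutator_mem_commutator
        (Subgroup.commutator_mem_commutator (Subgroup.mem_top a) (Subgroup.mem_top b))
        (Subgroup.mem_top c)
    · intro y; induction y using QuotientGroup.induction_on with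
      | H y =>
      intro h1 h2
      rw [hφ'] at h1
      rw [hξ'] at h2
      have h1' : (y : Y ⧸ K) = ((φ y : Y) : Y ⧸ K) := h1.symm
      have h2' : (y : Y ⧸ K) = ((ξ y : Y) : Y ⧸ K) := h2.symm
      rw [QuotientGroup.eq_one_iff]
      exact hl K hKn (hinv K φ) (hinv K ξ) y (QuotientGroup.eq.mp h1') (QuotientGroup.eq.mp h2')
    · intro y; induction y using QuotientGroup.induction_on with
      | H y =>
      intro h1 h2
      rw [hφ', ← QuotientGroup.mk_inv, ← QuotientGroup.mk_mul, hmem] at h1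
      rw [hξ', ← QuotientGroup.mk_inv, ← QuotientGroup.mk_mul, hmem] at h2
      rw [hmem]
      exact hl (commutator Y) inferInstance (hinv (commutator Y) φ) (hinv (commutator Y) ξ) y h1 h2
  have base' : commutator Y ≤ comSub ξ ⊔ K := by
    intro z hz
    have h1 : (z : Y ⧸ K) ∈ comSub ξ' := base ((hmem z).mpr hz)
    have h2 : comSub ξ' ≤ (comSub ξ).map (QuotientGroup.mk' K) := by
      unfold comSub
      rw [Subgroup.closure_le]
      rintro _ ⟨y, rfl⟩
      induction y using QuotientGroup.induction_on with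
      | H y =>
      refine ⟨ξ y * y⁻¹, Subgroup.subset_closure ⟨y, rfl⟩, ?_⟩
      simp only [QuotientGroup.mk'_apply, QuotientGroup.mk_mul, QuotientGroup.mk_inv, hξ']
    obtain ⟨n, hn, hnz⟩ := h2 h1
    have h3 : n⁻¹ * z ∈ K := QuotientGroup.eq.mp hnz
    have e : z = n * (n⁻¹ * z) := by group
    rw [e]
    exact Subgroup.mul_mem _ (Subgroup.mem_sup_left hn) (Subgroup.mem_sup_right h3)
  have climb : ∀ k : ℕ, commutator Y ≤ comSub ξ ⊔ (⊤ : Subgroup Y).lowerCentralSeries (k + 2) := by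
    intro k
    induction k with
    | zero => rw [← hK]; exact base'
    | succ k ih =>
      have h1 : (⊤ : Subgroup Y).lowerCentralSeries 2
          ≤ comSub ξ ⊔ (⊤ : Subgroup Y).lowerCentralSeries (k + 1 + 2) := by
        calc (⊤ : Subgroup Y).lowerCentralSeries 2 = ⁅commutator Y, (⊤ : Subgroup Y)⁆ := rfl
          _ ≤ ⁅comSub ξ ⊔ (⊤ : Subgroup Y).lowerCentralSeries (k + 2), (⊤ : Subgroup Y)⁆ :=
            Subgroup.commutator_mono ih le_rfl
          _ ≤ comSub ξ ⊔ ⁅(⊤ : Subgroup Y).lowerCentralSeries (k + 2), (⊤ : Subgroup Y)⁆ :=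
            sup_commutator_le _ _
          _ = comSub ξ ⊔ (⊤ : Subgroup Y).lowerCentralSeries (k + 1 + 2) := rfl
      calc commutator Y ≤ comSub ξ ⊔ K := base'
        _ ≤ comSub ξ ⊔ (⊤ : Subgroup Y).lowerCentralSeries (k + 1 + 2) := by
          rw [hK]; exact sup_le le_sup_left h1
  obtain ⟨n, hn⟩ := Subgroup.nilpotent_iff_lowerCentralSeries.mp hnil
  have h4 : (⊤ : Subgroup Y).lowerCentralSeries (n + 2) = ⊥ := by
    apply le_bot_iff.mp
    rw [← hn]
    exact Subgroup.lowerCentralSeries_antitone _ (by omega)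
  have h5 := climb n
  rw [h4, sup_bot_eq] at h5
  exact h5

end Cfsg.Agent.Lib.Helper28.S3
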