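import Mathlib
import Cfsg.Agent.Lib.Lead.Coprime
import Cfsg.Agent.Lib.Helper28.S3B
import Cfsg.Agent.Lib.Helper28.S3C

set_option autoImplicit false
open commutatorElement

namespace Cfsg.Agent.Lib.Helper28

open Cfsg.Agent.Lib.Lead

/-- helper1's piece P1 for S4305: `S₃ = ⟨f, x⟩` acting fixed point freely on the nilpotent
group `R` of order prime to 6 gives `R' ≤ [R, ⟨x⟩]`. -/
theorem s3_class_two {G : Type*} [Group G] [Finite G] (R : Subgroup G) (f x : G)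
    (hfR : f ∈ Subgroup.normalizer (R : Set G)) (hxR : x ∈ Subgroup.normalizer (R : Set G))
    (hf : f ^ 3 = 1) (hx : x ^ 2 = 1) (hxf : x * f * x⁻¹ = f⁻¹)
    (hcop : (Nat.card R).Coprime 6) (hnil : Group.IsNilpotent R)
    (hfix : ∀ y ∈ R, f * y = y * f → x * y = y * x → y = 1) :
    ⁅R, R⁆ ≤ ⁅R, Subgroup.zpowers x⁆ := by
  obtain ⟨φ, hφ⟩ : ∃ φ : MulAut R, ∀ y : R, ((φ y : R) : G) = f * y * f⁻¹ :=
    ⟨conjAut R f hfR, fun y => rfl⟩
  obtain ⟨ξ, hξ⟩ : ∃ ξ : MulAut R, ∀ y : R, ((ξ y : R) : G) = x * y * x⁻¹ :=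
    ⟨conjAut R x hxR, fun y => rfl⟩
  have hf3 : f * f * f = 1 := by rw [← hf, pow_succ, pow_succ, pow_one]
  have hx2 : x * x = 1 := by rw [← hx, pow_two]
  have h3 : ∀ y, φ (φ (φ y)) = y := by
    intro y; apply Subtype.ext; rw [hφ, hφ, hφ]
    calc f * (f * (f * (y : G) * f⁻¹) * f⁻¹) * f⁻¹ = (f * f * f) * y * (f * f * f)⁻¹ := by group
      _ = y := by rw [hf3]; group
  have h2 : ∀ y, ξ (ξ y) = y := by
    intro y; apply Subtype.ext; rw [hξ, hξ]
    calc x * (x * (y : G) * x⁻¹) * x⁻¹ = (x * x) * y * (x * x)⁻¹ := by group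
      _ = y := by rw [hx2]; group
  have hxf2 : x * f = f * f * x := by
    have e1 : f⁻¹ = f * f := by
      calc f⁻¹ = f⁻¹ * (f * f * f) := by rw [hf3, mul_one]
        _ = f * f := by group
    calc x * f = (x * f * x⁻¹) * x := by group
      _ = f * f * x := by rw [hxf, e1]
  have hξφ : ∀ y, ξ (φ y) = φ (φ (ξ y)) := by
    intro y; apply Subtype.ext; rw [hξ, hφ, hφ, hφ, hξ]
    calc x * (f * (y : G) * f⁻¹) * x⁻¹ = (x * f) * y * (x * f)⁻¹ := by group
      _ = (f * f * x) * y * (f * f * x)⁻¹ := by rw [hxf2]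
      _ = f * (f * (x * (y : G) * x⁻¹) * f⁻¹) * f⁻¹ := by group
  have main : commutator R ≤ S3.comSub ξ := by
    apply S3.nilp_case φ ξ h3 h2 hξφ hcop hnil
    intro N _ hNφ hNξ y h1 h2'
    have hnorm : ∀ (a : G) (θ : MulAut R), (∀ y : R, ((θ y : R) : G) = a * y * a⁻¹) →
        (∀ n ∈ N, θ n ∈ N) → (∀ n ∈ N, θ.symm n ∈ N) →
        a ∈ Subgroup.normalizer ((N.map R.subtype : Subgroup G) : Set G) := by
      intro a θ hθ hN1 hN2
      rw [Subgroup.mem_normalizer_iff]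
      intro g
      constructor
      · rintro ⟨n, hn, rfl⟩
        exact ⟨θ n, hN1 n hn, hθ n⟩
      · rintro ⟨n, hn, hng⟩
        refine ⟨θ.symm n, hN2 n hn, ?_⟩
        have h4 : ((θ (θ.symm n) : R) : G) = a * (θ.symm n : R) * a⁻¹ := hθ _
        rw [MulEquiv.apply_symm_apply] at h4
        have h5 : (n : G) = a * g * a⁻¹ := hng
        have h6 : a * ((θ.symm n : R) : G) * a⁻¹ = a * g * a⁻¹ := by rw [← h4, h5]
        exact mul_left_cancel (mul_right_cancel h6)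
    have hφs : ∀ n, φ.symm n = φ (φ n) := by
      intro n; rw [MulEquiv.symm_apply_eq, h3]
    have hξs : ∀ n, ξ.symm n = ξ n := by
      intro n; rw [MulEquiv.symm_apply_eq, h2]
    have hfN := hnorm f φ hφ hNφ (fun n hn => by rw [hφs]; exact hNφ _ (hNφ _ hn))
    have hxN := hnorm x ξ hξ hNξ (fun n hn => by rw [hξs]; exact hNξ _ hn)
    have key := S3.amb_lift R f x hf hx hxf hcop hfix (N.map R.subtype)
      (by rintro _ ⟨n, _, rfl⟩; exact n.2) hfN hxN (y : G) y.2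
      ⟨y⁻¹ * φ y, h1, by simp [hφ]⟩ ⟨y⁻¹ * ξ y, h2', by simp [hξ]⟩
    obtain ⟨n, hn, hny⟩ := key
    have : n = y := Subtype.ext hny
    rw [← this]; exact hn
  rw [← Subgroup.map_subtype_commutator]
  refine (Subgroup.map_mono main).trans ?_
  unfold S3.comSub
  rw [Subgroup.map_le_iff_le_comap, Subgroup.closure_le]
  rintro _ ⟨y, rfl⟩
  show R.subtype (ξ y * y⁻¹) ∈ ⁅R, Subgroup.zpowers x⁆
  have e : R.subtype (ξ y * y⁻¹) = ⁅x, (y : G)⁆ := by
    rw [map_mul, map_inv, commutatorElement_def]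
    show ((ξ y : R) : G) * (y : G)⁻¹ = _
    rw [hξ]
  rw [e, Subgroup.commutator_comm]
  exact Subgroup.commutator_mem_commutator (Subgroup.mem_zpowers x) y.2

end Cfsg.Agent.Lib.Helper28
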