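import Mathlib
import Cfsg.Agent.Lib.Helper1.O9L.Defs
import Cfsg.Agent.Lib.Helper16.OHelp
import Cfsg.Agent.Lib.Helper16.SumQF2
import Cfsg.Agent.Lib.Helper18.O9ADETM

set_option autoImplicit false
set_option linter.unusedVariables false
set_option linter.unusedSectionVars false

/-!
# Project O9L, row DETFREE (helper28): an isometry without fixed vectors of a nondegenerate space of even
dimension has determinant `1` (from helper18's `det_fpf`).
-/

namespace Cfsg.Agent.Lib.Helper1.O9L

open Matrix Module Polynomial Cfsg.Agent.Lib.Helper13.OTS Cfsg.Agent.Lib.Helper16 Cfsg.Agent.Lib.Helper19.O9U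

theorem free_det {F : Type*} [Field F] (h2 : (2 : F) ≠ 0) {ι : Type} [Fintype ι] [DecidableEq ι]
    (Qs : QuadraticForm F (ι → F)) (hQ : (QuadraticMap.polarBilin Qs).Nondegenerate) (hcard : Even (Fintype.card ι))
    (g : ↥(Cfsg.isometryGroup F (⇑Qs))) (hfix : ∀ v : ι → F, ((g : GL ι F) : Matrix ι ι F) *ᵥ v = v → v = 0) :
    ((g : GL ι F) : Matrix ι ι F).det = 1 := by
  have hy : ∀ v, Qs (Matrix.toLin' ((g : GL ι F) : Matrix ι ι F) v) = Qs v := by
    intro v
    rw [Matrix.toLin'_apply]
    exact iso_pres (⇑Qs) g v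
  have hker : LinearMap.ker (Matrix.toLin' ((g : GL ι F) : Matrix ι ι F) - 1) = ⊥ := by
    rw [LinearMap.ker_eq_bot']
    intro v hv
    apply hfix v
    have : Matrix.toLin' ((g : GL ι F) : Matrix ι ι F) v - v = 0 := by
      simpa using hv
    rw [← Matrix.toLin'_apply]
    exact sub_eq_zero.1 this
  have h := Cfsg.Agent.Lib.helper3.O9A.det_fpf Qs hQ (Matrix.toLin' ((g : GL ι F) : Matrix ι ι F)) hy hker
  rw [LinearMap.det_toLin', Module.finrank_fintype_fun_eq_card, hcard.neg_one_pow] at h
  exact h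

end Cfsg.Agent.Lib.Helper1.O9L
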