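import Mathlib
import Cfsg.Agent.Lib.Helper1.O9L.Defs
import Cfsg.Agent.Lib.Helper16.OHelp
import Cfsg.Agent.Lib.Helper16.SumQF2

set_option autoImplicit false
set_option linter.unusedVariables false
set_option linter.unusedSectionVars false

/-!
# Project O9L, row DIAG (helper28): every nondegenerate quadratic space of dimension `n + 1` over a finite
field of odd characteristic is `⟨1, …, 1, t⟩`.

Route: Mathlib's orthogonal basis; then normalise the first `n` basis vectors one at a time against the
last one (`a x² + c y² = 1` is solvable): `u = x b_k + y b_n`, `w = c y b_k - a x b_n`.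
-/

namespace Cfsg.Agent.Lib.Helper1.O9L

open Matrix Module Polynomial Cfsg.Agent.Lib.Helper13.OTS Cfsg.Agent.Lib.Helper16 Cfsg.Agent.Lib.Helper19.O9U

/-- a solution of `c x² + e y² = c'` over a finite field of odd characteristic -/
theorem o9ldiag_solve {F : Type*} [Field F] [Fintype F] (h2 : (2 : F) ≠ 0) (c e c' : F) (hc : c ≠ 0)
    (he : e ≠ 0) : ∃ x y : F, c * x ^ 2 + e * y ^ 2 = c' := by
  have hchar : ringChar F ≠ 2 := by
    intro h
    apply h2
    have h3 := CharP.cast_eq_zero F (ringChar F)
    rw [h] at h3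
    exact_mod_cast h3
  have hcard : Fintype.card F % 2 = 1 := FiniteField.odd_card_of_char_ne_two hchar
  have hf : (Polynomial.C c * Polynomial.X ^ 2 : Polynomial F).degree = 2 :=
    Polynomial.degree_C_mul_X_pow 2 hc
  have hg : (Polynomial.C e * Polynomial.X ^ 2 - Polynomial.C c' : Polynomial F).degree = 2 := by
    rw [Polynomial.degree_sub_C]
    · exact Polynomial.degree_C_mul_X_pow 2 he
    · rw [Polynomial.degree_C_mul_X_pow 2 he]
      norm_num
  obtain ⟨x, y, hxy⟩ := FiniteField.exists_root_sum_quadratic hf hg hcard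
  refine ⟨x, y, ?_⟩
  simp only [Polynomial.eval_mul, Polynomial.eval_C, Polynomial.eval_pow, Polynomial.eval_X,
    Polynomial.eval_sub] at hxy
  linear_combination hxy

section abs

variable {F : Type*} [Field F] {V : Type*} [AddCommGroup V] [Module F V]

theorem o9ldiag_polar_pair_left (Q : QuadraticForm F V) (v w z : V) (x y : F) :
    QuadraticMap.polar Q (x • v + y • w) z =
      x * QuadraticMap.polar Q v z + y * QuadraticMap.polar Q w z := by
  rw [QuadraticMap.polar_add_left, QuadraticMap.polar_smul_left, QuadraticMap.polar_smul_left,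
    smul_eq_mul, smul_eq_mul]

theorem o9ldiag_polar_pair_right (Q : QuadraticForm F V) (v w z : V) (x y : F) :
    QuadraticMap.polar Q z (x • v + y • w) =
      x * QuadraticMap.polar Q z v + y * QuadraticMap.polar Q z w := by
  rw [QuadraticMap.polar_comm, o9ldiag_polar_pair_left, QuadraticMap.polar_comm _ v z,
    QuadraticMap.polar_comm _ w z]

theorem o9ldiag_pair (Q : QuadraticForm F V) (v w : V) (x y : F) :
    Q (x • v + y • w) = x ^ 2 * Q v + y ^ 2 * Q w + x * y * QuadraticMap.polar Q v w := by
  rw [QuadraticMap.map_add Q, QuadraticMap.map_smul, QuadraticMap.map_smul,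
    QuadraticMap.polar_smul_left, QuadraticMap.polar_smul_right, smul_eq_mul, smul_eq_mul,
    smul_eq_mul, smul_eq_mul]
  ring

/-- the value of `Q` on a combination of an orthogonal family -/
theorem o9ldiag_sum {ι : Type*} (Q : QuadraticForm F V) (b : ι → V)
    (ho : ∀ i j, i ≠ j → QuadraticMap.polar Q (b i) (b j) = 0) (x : ι → F) (s : Finset ι) :
    Q (∑ i ∈ s, x i • b i) = ∑ i ∈ s, x i ^ 2 * Q (b i) := by
  classical
  induction s using Finset.induction_on with
  | empty => simp
  | insert a s ha ih =>
    rw [Finset.sum_insert ha, Finset.sum_insert ha, QuadraticMap.map_add Q, ih,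
      QuadraticMap.map_smul, smul_eq_mul]
    have h0 : QuadraticMap.polar Q (x a • b a) (∑ i ∈ s, x i • b i) = 0 := by
      rw [← QuadraticMap.polarBilin_apply_apply, map_sum]
      apply Finset.sum_eq_zero
      intro i hi
      rw [QuadraticMap.polarBilin_apply_apply, QuadraticMap.polar_smul_left,
        QuadraticMap.polar_smul_right, ho a i (fun h => ha (h ▸ hi))]
      simp
    rw [h0]
    ring

/-- the inductive statement: an orthogonal family of `n + 1` nonsingular vectors, the first `k` of value `1` -/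
def o9ldiag_P (Q : QuadraticForm F V) (n k : ℕ) : Prop :=
  ∃ b : Fin (n + 1) → V, (∀ i j, i ≠ j → QuadraticMap.polar Q (b i) (b j) = 0) ∧ (∀ i, Q (b i) ≠ 0) ∧
    ∀ i : Fin (n + 1), i.val < k → Q (b i) = 1

theorem o9ldiag_step [Fintype F] (h2 : (2 : F) ≠ 0) (Q : QuadraticForm F V) (n k : ℕ) (hk : k < n)
    (h : o9ldiag_P Q n k) : o9ldiag_P Q n (k + 1) := by
  classical
  obtain ⟨b, ho, hne, h1⟩ := h
  set ik : Fin (n + 1) := ⟨k, by omega⟩ with hik
  set il : Fin (n + 1) := Fin.last n with hil
  have hkl : ik ≠ il := by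
    intro h
    have := congrArg Fin.val h
    simp [hik, hil] at this
    omega
  set a := Q (b ik) with ha
  set c := Q (b il) with hc
  obtain ⟨x, y, hxy⟩ := o9ldiag_solve h2 a c 1 (hne ik) (hne il)
  set u : V := x • b ik + y • b il with hu
  set w : V := (c * y) • b ik + (-(a * x)) • b il with hw
  have hp : QuadraticMap.polar Q (b ik) (b il) = 0 := ho ik il hkl
  have hp' : QuadraticMap.polar Q (b il) (b ik) = 0 := ho il ik hkl.symm
  have hkk : QuadraticMap.polar Q (b ik) (b ik) = 2 * a := by
    rw [QuadraticMap.polar_self, ha]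
    simp
  have hll : QuadraticMap.polar Q (b il) (b il) = 2 * c := by
    rw [QuadraticMap.polar_self, hc]
    simp
  have hQu : Q u = 1 := by
    rw [hu, o9ldiag_pair, hp, ← ha, ← hc]
    linear_combination hxy
  have hQw : Q w = a * c := by
    rw [hw, o9ldiag_pair, hp, ← ha, ← hc]
    linear_combination (a * c) * hxy
  have huw : QuadraticMap.polar Q u w = 0 := by
    rw [hu, hw, o9ldiag_polar_pair_left, o9ldiag_polar_pair_right, o9ldiag_polar_pair_right, hp, hp',
      hkk, hll]
    ring
  have huz : ∀ j, j ≠ ik → j ≠ il → QuadraticMap.polar Q u (b j) = 0 := by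
    intro j hj1 hj2
    rw [hu, o9ldiag_polar_pair_left, ho ik j (Ne.symm hj1), ho il j (Ne.symm hj2)]
    ring
  have hwz : ∀ j, j ≠ ik → j ≠ il → QuadraticMap.polar Q w (b j) = 0 := by
    intro j hj1 hj2
    rw [hw, o9ldiag_polar_pair_left, ho ik j (Ne.symm hj1), ho il j (Ne.symm hj2)]
    ring
  set b' : Fin (n + 1) → V := Function.update (Function.update b ik u) il w with hb'
  have e1 : b' ik = u := by
    rw [hb', Function.update_of_ne hkl, Function.update_self]
  have e2 : b' il = w := by
    rw [hb', Function.update_self]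
  have e3 : ∀ j, j ≠ ik → j ≠ il → b' j = b j := by
    intro j hj1 hj2
    rw [hb', Function.update_of_ne hj2, Function.update_of_ne hj1]
  refine ⟨b', ?_, ?_, ?_⟩
  · intro i j hij
    by_cases hi1 : i = ik
    · by_cases hj2 : j = il
      · rw [hi1, hj2, e1, e2, huw]
      · have hj1 : j ≠ ik := fun h => hij (hi1.trans h.symm)
        rw [hi1, e1, e3 j hj1 hj2, huz j hj1 hj2]
    · by_cases hi2 : i = il
      · by_cases hj1 : j = ik
        · rw [hi2, hj1, e1, e2, QuadraticMap.polar_comm, huw]
        · have hj2 : j ≠ il := fun h => hij (hi2.trans h.symm)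
          rw [hi2, e2, e3 j hj1 hj2, hwz j hj1 hj2]
      · rw [e3 i hi1 hi2]
        by_cases hj1 : j = ik
        · rw [hj1, e1, QuadraticMap.polar_comm, huz i hi1 hi2]
        · by_cases hj2 : j = il
          · rw [hj2, e2, QuadraticMap.polar_comm, hwz i hi1 hi2]
          · rw [e3 j hj1 hj2, ho i j hij]
  · intro i
    by_cases hi1 : i = ik
    · rw [hi1, e1, hQu]
      exact one_ne_zero
    · by_cases hi2 : i = il
      · rw [hi2, e2, hQw]
        exact mul_ne_zero (hne ik) (hne il)
      · rw [e3 i hi1 hi2]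
        exact hne i
  · intro i hi
    by_cases hi1 : i = ik
    · rw [hi1, e1, hQu]
    · have hi2 : i ≠ il := by
        intro h
        have := congrArg Fin.val h
        simp [hil] at this
        omega
      have hlt : i.val < k := by
        have : i.val ≠ k := by
          intro h
          apply hi1
          apply Fin.ext
          simp [hik, h]
        omega
      rw [e3 i hi1 hi2]
      exact h1 i hlt

theorem o9ldiag_iter [Fintype F] (h2 : (2 : F) ≠ 0) (Q : QuadraticForm F V) (n : ℕ)
    (h : o9ldiag_P Q n 0) : ∀ k, k ≤ n → o9ldiag_P Q n k := by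
  intro k
  induction k with
  | zero => intro _; exact h
  | succ k ih =>
    intro hk
    exact o9ldiag_step h2 Q n k (by omega) (ih (by omega))

theorem o9ldiag_start [FiniteDimensional F V] (h2 : (2 : F) ≠ 0) (Q : QuadraticForm F V)
    (hQ : (QuadraticMap.polarBilin Q).Nondegenerate) (n : ℕ) (hfr : finrank F V = n + 1) :
    o9ldiag_P Q n 0 := by
  have : Invertible (2 : F) := invertibleOfNonzero h2
  have hsymm : LinearMap.IsSymm (QuadraticMap.polarBilin Q) := by
    constructor
    intro u v
    simp only [QuadraticMap.polarBilin_apply_apply, RingHom.id_apply]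
    exact QuadraticMap.polar_comm _ _ _
  obtain ⟨v0, hv0⟩ := LinearMap.BilinForm.exists_orthogonal_basis hsymm
  let v : Basis (Fin (n + 1)) F V := v0.reindex (finCongr hfr)
  have hv : LinearMap.BilinForm.iIsOrtho (QuadraticMap.polarBilin Q) ⇑v := by
    intro i j hij
    simp only [Function.onFun, v, Basis.reindex_apply]
    apply hv0
    intro h
    exact hij ((finCongr hfr).symm.injective h)
  refine ⟨⇑v, ?_, ?_, ?_⟩
  · intro i j hij
    have := hv hij
    simpa [Function.onFun] using this
  · intro i h0
    have h := LinearMap.BilinForm.iIsOrtho.not_isOrtho_basis_self_of_nondegenerate hv hQ i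
    apply h
    rw [QuadraticMap.polarBilin_apply_apply, QuadraticMap.polar_self, h0]
    simp
  · intro i hi
    omega

/-- abstract form of DIAG -/
theorem o9ldiag_abs [Fintype F] [FiniteDimensional F V] (h2 : (2 : F) ≠ 0) (Q : QuadraticForm F V)
    (hQ : (QuadraticMap.polarBilin Q).Nondegenerate) (n : ℕ) (hfr : finrank F V = n + 1) :
    ∃ (ψ : (Fin (n + 1) → F) ≃ₗ[F] V) (t : F), t ≠ 0 ∧
      ∀ x : Fin (n + 1) → F,
        Q (ψ x) = (∑ i : Fin n, x (Fin.castSucc i) ^ 2) + t * x (Fin.last n) ^ 2 := by
  obtain ⟨b, ho, hne, h1⟩ := o9ldiag_iter h2 Q n (o9ldiag_start h2 Q hQ n hfr) n le_rfl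
  have hortho : LinearMap.BilinForm.iIsOrtho (QuadraticMap.polarBilin Q) b := by
    intro i j hij
    show (QuadraticMap.polarBilin Q) (b i) (b j) = 0
    rw [QuadraticMap.polarBilin_apply_apply]
    exact ho i j hij
  have hself : ∀ i, (QuadraticMap.polarBilin Q) (b i) (b i) ≠ 0 := by
    intro i h
    rw [QuadraticMap.polarBilin_apply_apply, QuadraticMap.polar_self] at h
    have h' : (2 : F) * Q (b i) = 0 := by simpa using h
    rcases mul_eq_zero.1 h' with h3 | h3
    · exact h2 h3
    · exact hne i h3
  have hli : LinearIndependent F b :=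
    LinearMap.BilinForm.linearIndependent_of_iIsOrtho hortho hself
  have hc : Fintype.card (Fin (n + 1)) = finrank F V := by
    rw [Fintype.card_fin, hfr]
  let bas : Basis (Fin (n + 1)) F V := basisOfLinearIndependentOfCardEqFinrank hli hc
  have hbas : ⇑bas = b := coe_basisOfLinearIndependentOfCardEqFinrank hli hc
  refine ⟨bas.equivFun.symm, Q (b (Fin.last n)), hne _, ?_⟩
  intro x
  rw [Basis.equivFun_symm_apply, hbas, o9ldiag_sum Q b ho x Finset.univ, Fin.sum_univ_castSucc]
  congr 1
  · apply Finset.sum_congr rfl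
    intro i _
    rw [h1 (Fin.castSucc i) (by simp), mul_one]
  · ring

end abs

theorem q_diag {F : Type*} [Field F] [Fintype F] (h2 : (2 : F) ≠ 0) {ι : Type} [Fintype ι] [DecidableEq ι]
    (Qs : QuadraticForm F (ι → F)) (hQ : (QuadraticMap.polarBilin Qs).Nondegenerate) (n : ℕ)
    (hcard : Fintype.card ι = n + 1) :
    ∃ (ψ : (Fin (n + 1) → F) ≃ₗ[F] (ι → F)) (t : F), t ≠ 0 ∧
      ∀ x : Fin (n + 1) → F, Qs (ψ x) = (∑ i : Fin n, x (Fin.castSucc i) ^ 2) + t * x (Fin.last n) ^ 2 := by
  apply o9ldiag_abs h2 Qs hQ n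
  rw [Module.finrank_fintype_fun_eq_card, hcard]

end Cfsg.Agent.Lib.Helper1.O9L
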