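import Mathlib

set_option autoImplicit false

/-!
# Orders of elements of a split extension `V ⋊ G` of a vector space in characteristic `p` (helper28)

`G` acts on the `F`-vector space `V` through `h : G →* LinearMap.GeneralLinearGroup F V`; the semidirect product is written
exactly as in the frozen statement S2517 (`MulAutMultiplicative`, `DistribMulAction.toAddAut`).
For `x = (v, g)`, `n = orderOf g`, `w = ∑_{i<n} g^i v`: the order of `x` is `n` if `w = 0` and `p n` otherwise.
-/

namespace Cfsg.Agent.Lib.Helper28.O9AFF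

variable {F : Type*} [Field F] {V : Type*} [AddCommGroup V] [Module F V] {G : Type*} [Group G]

/-- the action of `G` on `Multiplicative V`, in the shape of S2517 -/
abbrev phi (h : G →* LinearMap.GeneralLinearGroup F V) : G →* MulAut (Multiplicative V) :=
  (MulAutMultiplicative V).symm.toMonoidHom.comp
    ((DistribMulAction.toAddAut (LinearMap.GeneralLinearGroup F V) V).comp h)

theorem phi_apply (h : G →* LinearMap.GeneralLinearGroup F V) (g : G) (w : Multiplicative V) :
    phi h g w = Multiplicative.ofAdd ((h g : V →ₗ[F] V) (Multiplicative.toAdd w)) := rfl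

/-- `∑_{i<k} g^i v` -/
def geo (h : G →* LinearMap.GeneralLinearGroup F V) (g : G) (k : ℕ) : V →ₗ[F] V :=
  ∑ i ∈ Finset.range k, ((h g : V →ₗ[F] V)) ^ i

theorem geo_zero (h : G →* LinearMap.GeneralLinearGroup F V) (g : G) : geo h g 0 = 0 := by
  unfold geo
  simp

theorem geo_succ (h : G →* LinearMap.GeneralLinearGroup F V) (g : G) (k : ℕ) :
    geo h g (k + 1) = geo h g k + ((h g : V →ₗ[F] V)) ^ k := by
  unfold geo
  rw [Finset.sum_range_succ]

theorem coe_pow (h : G →* LinearMap.GeneralLinearGroup F V) (g : G) (k : ℕ) :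
    ((h (g ^ k) : LinearMap.GeneralLinearGroup F V) : V →ₗ[F] V) = ((h g : V →ₗ[F] V)) ^ k := by
  rw [map_pow, Units.val_pow_eq_pow_val]

/-- powers in `V ⋊ G` -/
theorem o9aff_pow (h : G →* LinearMap.GeneralLinearGroup F V) (x : Multiplicative V ⋊[phi h] G) (k : ℕ) :
    x ^ k = ⟨Multiplicative.ofAdd (geo h x.right k (Multiplicative.toAdd x.left)), x.right ^ k⟩ := by
  induction k with
  | zero =>
    rw [pow_zero, geo_zero, pow_zero]
    rfl
  | succ k ih =>
    rw [pow_succ, ih]
    refine SemidirectProduct.ext ?_ ?_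
    · rw [SemidirectProduct.mul_left]
      show Multiplicative.ofAdd _ * (phi h (x.right ^ k)) x.left = _
      rw [phi_apply, coe_pow, geo_succ, LinearMap.add_apply, ofAdd_add]
    · rw [SemidirectProduct.mul_right, pow_succ]

theorem o9aff_pow_order (h : G →* LinearMap.GeneralLinearGroup F V) (x : Multiplicative V ⋊[phi h] G) :
    x ^ orderOf x.right =
      ⟨Multiplicative.ofAdd (geo h x.right (orderOf x.right) (Multiplicative.toAdd x.left)), 1⟩ := by
  rw [o9aff_pow, pow_orderOf_eq_one]

theorem o9aff_right_dvd (h : G →* LinearMap.GeneralLinearGroup F V) (x : Multiplicative V ⋊[phi h] G) :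
    orderOf x.right ∣ orderOf x := by
  have := orderOf_map_dvd (SemidirectProduct.rightHom (N := Multiplicative V) (G := G) (φ := phi h)) x
  rwa [SemidirectProduct.rightHom_eq_right] at this

/-- powers of an element with trivial right component -/
theorem o9aff_pow_left (h : G →* LinearMap.GeneralLinearGroup F V) (w : V) (k : ℕ) :
    ((⟨Multiplicative.ofAdd w, 1⟩ : Multiplicative V ⋊[phi h] G)) ^ k = ⟨Multiplicative.ofAdd (k • w), 1⟩ := by
  induction k with
  | zero =>
    rw [pow_zero, zero_smul]
    rfl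
  | succ k ih =>
    rw [pow_succ, ih]
    refine SemidirectProduct.ext ?_ ?_
    · rw [SemidirectProduct.mul_left]
      show Multiplicative.ofAdd (k • w) * (phi h 1) (Multiplicative.ofAdd w) = _
      rw [map_one, MulAut.one_apply, ← ofAdd_add, succ_nsmul]
    · rw [SemidirectProduct.mul_right]
      exact one_mul _

theorem o9aff_orderOf_left (p : ℕ) [hp : Fact p.Prime] [CharP F p]
    (h : G →* LinearMap.GeneralLinearGroup F V) (w : V) (hw : w ≠ 0) :
    orderOf ((⟨Multiplicative.ofAdd w, 1⟩ : Multiplicative V ⋊[phi h] G)) = p := by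
  apply orderOf_eq_prime
  · rw [o9aff_pow_left]
    have : (p : ℕ) • w = 0 := by
      rw [← Nat.cast_smul_eq_nsmul F, CharP.cast_eq_zero, zero_smul]
    rw [this]
    rfl
  · intro h1
    have h2 := congrArg SemidirectProduct.left h1
    exact hw h2

/-- the order of `(v, g)` -/
theorem o9aff_order (p : ℕ) [hp : Fact p.Prime] [CharP F p] [Finite G]
    (h : G →* LinearMap.GeneralLinearGroup F V) (x : Multiplicative V ⋊[phi h] G) :
    (geo h x.right (orderOf x.right) (Multiplicative.toAdd x.left) = 0 → orderOf x = orderOf x.right) ∧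
      (geo h x.right (orderOf x.right) (Multiplicative.toAdd x.left) ≠ 0 →
        orderOf x = p * orderOf x.right) := by
  have hdvd := o9aff_right_dvd h x
  have hpow := o9aff_pow_order h x
  have hpos : 0 < orderOf x.right := orderOf_pos x.right
  have key : orderOf x = orderOf x.right * orderOf (x ^ orderOf x.right) := by
    rw [orderOf_pow_of_dvd hpos.ne' hdvd, Nat.mul_div_cancel' hdvd]
  constructor
  · intro h0
    rw [key, hpow, h0]
    have : orderOf ((⟨Multiplicative.ofAdd (0 : V), 1⟩ : Multiplicative V ⋊[phi h] G)) = 1 := by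
      rw [orderOf_eq_one_iff]
      rfl
    rw [this, mul_one]
  · intro h0
    rw [key, hpow, o9aff_orderOf_left p h _ h0, mul_comm]

/-- the element orders of `V ⋊ G` -/
theorem o9aff_range (p : ℕ) [hp : Fact p.Prime] [CharP F p] [Finite G]
    (h : G →* LinearMap.GeneralLinearGroup F V) (n : ℕ) :
    n ∈ Set.range (orderOf : Multiplicative V ⋊[phi h] G → ℕ) ↔
      (∃ g : G, orderOf g = n) ∨ (∃ g : G, p * orderOf g = n ∧ geo h g (orderOf g) ≠ 0) := by
  constructor
  · rintro ⟨x, rfl⟩
    obtain ⟨h1, h2⟩ := o9aff_order p h x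
    by_cases h0 : geo h x.right (orderOf x.right) (Multiplicative.toAdd x.left) = 0
    · exact Or.inl ⟨x.right, (h1 h0).symm⟩
    · refine Or.inr ⟨x.right, (h2 h0).symm, ?_⟩
      intro hz
      apply h0
      rw [hz, LinearMap.zero_apply]
  · rintro (⟨g, rfl⟩ | ⟨g, rfl, hne⟩)
    · refine ⟨⟨Multiplicative.ofAdd 0, g⟩, ?_⟩
      obtain ⟨h1, -⟩ := o9aff_order p h (⟨Multiplicative.ofAdd 0, g⟩ : Multiplicative V ⋊[phi h] G)
      exact h1 (map_zero _)
    · obtain ⟨v, hv⟩ : ∃ v : V, geo h g (orderOf g) v ≠ 0 := by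
        by_contra hcon
        push Not at hcon
        exact hne (LinearMap.ext hcon)
      refine ⟨⟨Multiplicative.ofAdd v, g⟩, ?_⟩
      obtain ⟨-, h2⟩ := o9aff_order p h (⟨Multiplicative.ofAdd v, g⟩ : Multiplicative V ⋊[phi h] G)
      exact h2 hv

end Cfsg.Agent.Lib.Helper28.O9AFF
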