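import Mathlib
import Cfsg.Prelude.Def_Classical
import Cfsg.Agent.Lib.Helper28.O9AFF

set_option autoImplicit false

/-!
# The element orders of the frozen group `F^8 ⋊ Ω⁻₈(F)` of S2517 (helper28): instance of `O9AFF`.
-/

namespace Cfsg.Agent.Lib.Helper28.O9AFF

/-- the index type of the `8`-dimensional minus-type space -/
abbrev I8 := (Fin 3 ⊕ Fin 3) ⊕ Fin 2

/-- the natural action of `Ω⁻₈(F)`, as in S2517 -/
noncomputable abbrev h8 (F : Type*) [Field F] (a b : F) :
    ↥(Cfsg.Omega F (Cfsg.quadFormMinus 3 F a b)) →* LinearMap.GeneralLinearGroup F (I8 → F) :=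
  Matrix.GeneralLinearGroup.toLin.toMonoidHom.comp
    ((Cfsg.isometryGroup F (Cfsg.quadFormMinus 3 F a b)).subtype.comp
      (Cfsg.Omega F (Cfsg.quadFormMinus 3 F a b)).subtype)

theorem h8_apply {F : Type*} [Field F] (a b : F) (g : ↥(Cfsg.Omega F (Cfsg.quadFormMinus 3 F a b)))
    (v : I8 → F) :
    ((h8 F a b g : LinearMap.GeneralLinearGroup F (I8 → F)) : (I8 → F) →ₗ[F] (I8 → F)) v =
      (((g : ↥(Cfsg.isometryGroup F (Cfsg.quadFormMinus 3 F a b))) : Matrix.GeneralLinearGroup I8 F) :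
        Matrix I8 I8 F).mulVec v := rfl

/-- the element orders of the right-hand group of S2517 -/
theorem o9aff_range_frozen {F : Type*} [Field F] [Fintype F] (p : ℕ) [Fact p.Prime] [CharP F p] (a b : F) (n : ℕ) :
    n ∈ Set.range (orderOf :
        (Multiplicative (((Fin 3 ⊕ Fin 3) ⊕ Fin 2) → F)) ⋊[
          (MulAutMultiplicative (((Fin 3 ⊕ Fin 3) ⊕ Fin 2) → F)).symm.toMonoidHom.comp
           ((DistribMulAction.toAddAut (LinearMap.GeneralLinearGroup F (((Fin 3 ⊕ Fin 3) ⊕ Fin 2) → F))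
              (((Fin 3 ⊕ Fin 3) ⊕ Fin 2) → F)).comp
            (Matrix.GeneralLinearGroup.toLin.toMonoidHom.comp
              ((Cfsg.isometryGroup F (Cfsg.quadFormMinus 3 F a b)).subtype.comp
                (Cfsg.Omega F (Cfsg.quadFormMinus 3 F a b)).subtype)))]
          ↥(Cfsg.Omega F (Cfsg.quadFormMinus 3 F a b)) → ℕ) ↔
      (∃ g : ↥(Cfsg.Omega F (Cfsg.quadFormMinus 3 F a b)), orderOf g = n) ∨
        (∃ g : ↥(Cfsg.Omega F (Cfsg.quadFormMinus 3 F a b)),
          p * orderOf g = n ∧ geo (h8 F a b) g (orderOf g) ≠ 0) := by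
  have hfin : Finite ↥(Cfsg.Omega F (Cfsg.quadFormMinus 3 F a b)) := inferInstance
  exact o9aff_range p (h8 F a b) n

end Cfsg.Agent.Lib.Helper28.O9AFF
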