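import Cfsg.Prelude.Def_GeometricClasses
import Cfsg.Agent.Lib.Lead.Reindex

set_option autoImplicit false

open Cfsg

namespace Cfsg.Agent.Lib.Helper28.OTrans

open Matrix Cfsg.Agent.Lib.Lead

variable {ι κ : Type} [Fintype ι] [DecidableEq ι] [Fintype κ] [DecidableEq κ]
  {F : Type*} [Field F]

theorem omegaGL_eq (Q : (ι → F) → F) :
    Cfsg.Geo.omegaGL Q = ⁅Cfsg.isometryGroup F Q, Cfsg.isometryGroup F Q⁆ := by
  unfold Cfsg.Geo.omegaGL Cfsg.Omega
  rw [commutator_def, Subgroup.map_commutator, ← MonoidHom.range_eq_map, Subgroup.range_subtype]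

theorem map_omegaGL (e : ι ≃ κ) (Q : (ι → F) → F) :
    (Cfsg.Geo.omegaGL Q).map (RI.glReindex (F := F) e).toMonoidHom =
      Cfsg.Geo.omegaGL (fun x : κ → F => Q (x ∘ e)) := by
  rw [omegaGL_eq, omegaGL_eq, Subgroup.map_commutator, RI.map_iso]

theorem mem_stab_iff' (W : Submodule F (ι → F)) (g : Matrix.GeneralLinearGroup ι F) :
    g ∈ Cfsg.Geo.subspaceStabilizer W ↔
      ∀ v, v ∈ W ↔ (g : Matrix ι ι F) *ᵥ v ∈ W := Iff.rfl

theorem map_stab (e : ι ≃ κ) (W : Submodule F (ι → F)) :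
    (Cfsg.Geo.subspaceStabilizer W).map (RI.glReindex (F := F) e).toMonoidHom =
      Cfsg.Geo.subspaceStabilizer (W.comap (LinearMap.funLeft F F e)) := by
  ext h
  rw [Subgroup.mem_map_equiv, mem_stab_iff', mem_stab_iff']
  have hh : ((h : Matrix.GeneralLinearGroup κ F) : Matrix κ κ F) =
      Matrix.reindex e e (((RI.glReindex (F := F) e).symm h : Matrix.GeneralLinearGroup ι F) :
        Matrix ι ι F) := by
    rw [← RI.glReindex_coe, MulEquiv.apply_symm_apply]
  have key : ∀ x : κ → F, ((h : Matrix κ κ F) *ᵥ x) ∘ e =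
      (((RI.glReindex (F := F) e).symm h : Matrix.GeneralLinearGroup ι F) : Matrix ι ι F) *ᵥ
        (x ∘ e) := by
    intro x
    rw [hh, RI.reindex_mulVec]
    funext i
    simp
  constructor
  · intro H x
    rw [Submodule.mem_comap, Submodule.mem_comap]
    show x ∘ e ∈ W ↔ ((h : Matrix κ κ F) *ᵥ x) ∘ e ∈ W
    rw [key]
    exact H (x ∘ e)
  · intro H y
    have h1 := H (y ∘ e.symm)
    rw [Submodule.mem_comap, Submodule.mem_comap] at h1
    have h2 : (y ∘ e.symm) ∘ e = y := by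
      funext i
      simp
    have h3 : (LinearMap.funLeft F F e) (y ∘ e.symm) = y := h2
    have h4 : (LinearMap.funLeft F F e) ((h : Matrix κ κ F) *ᵥ (y ∘ e.symm)) =
        (((RI.glReindex (F := F) e).symm h : Matrix.GeneralLinearGroup ι F) : Matrix ι ι F) *ᵥ y := by
      show ((h : Matrix κ κ F) *ᵥ (y ∘ e.symm)) ∘ e = _
      rw [key, h2]
    rw [h3, h4] at h1
    exact h1

theorem isMaximalIn_of_map {G G' : Type*} [Group G] [Group G'] (φ : G ≃* G')
    (K H : Subgroup G)
    (h : Cfsg.Geo.IsMaximalIn (K.map φ.toMonoidHom) (H.map φ.toMonoidHom)) :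
    Cfsg.Geo.IsMaximalIn K H := by
  have hinj : Function.Injective φ.toMonoidHom := φ.injective
  constructor
  · exact (Subgroup.map_lt_map_iff_of_injective hinj).1 h.1
  · intro M hHM hMK
    rcases h.2 (M.map φ.toMonoidHom) (Subgroup.map_mono hHM) (Subgroup.map_mono hMK) with h1 | h1
    · left
      exact Subgroup.map_injective hinj h1
    · right
      exact Subgroup.map_injective hinj h1

end Cfsg.Agent.Lib.Helper28.OTrans
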