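import Cfsg.Agent.Lib.Helper28.OGenQ

set_option autoImplicit false

open Cfsg

namespace Cfsg.Agent.Lib.Helper28.OAll

open Matrix Cfsg.Agent.Lib.Lead Cfsg.Agent.Lib.helper6 Cfsg.Agent.Lib.helper6.CD
  Cfsg.Agent.Lib.Helper28.HForm Cfsg.Agent.Lib.Helper28.OGen Cfsg.Agent.Lib.Helper28.OMax
  Cfsg.Agent.Lib.Helper28.OMaxQ Cfsg.Agent.Lib.Helper28.OIwa Cfsg.Agent.Lib.Helper28.OQ
  Cfsg.Agent.Lib.Helper28.OMax2 Cfsg.Agent.Lib.Helper28.OIwa2 Cfsg.Agent.Lib.Helper28.OGenQ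
  Cfsg.Agent.Lib.Helper28.OTrans Cfsg.Agent.Lib.Helper28.OIwaQ Cfsg.Agent.S0794 Cfsg.Agent.S0795

theorem pomega_simple_all {ι : Type} [Fintype ι] [DecidableEq ι] {F : Type*} [Field F] [Fintype F]
    (hn : 7 ≤ Fintype.card ι) (Q : QuadraticForm F (ι → F))
    (hQ : (QuadraticMap.polarBilin Q).Nondegenerate) :
    IsSimpleGroup (Cfsg.POmega F (⇑Q)) := by
  obtain ⟨e, he⟩ : ∃ e : ι ≃ Fin (Fintype.card ι), e = Fintype.equivFin ι := ⟨_, rfl⟩
  have hQ' := RI.qReindex_nondeg e Q hQ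
  have hsg := sgGroupQ_quad hn (RI.qReindex e Q) hQ'
  have h1 := iwasawa_q (qf_of_quad _ hQ') (vfacts_quad hn _ hQ') (by omega) hsg
  let φ₁ : ↥(Cfsg.Omega F (⇑Q)) ≃* ↥(Cfsg.Geo.omegaGL (⇑Q)) :=
    Subgroup.equivMapOfInjective (Cfsg.Omega F (⇑Q)) (Cfsg.isometryGroup F (⇑Q)).subtype
      (Subgroup.subtype_injective _)
  let φ₂ : ↥(Cfsg.Geo.omegaGL (⇑Q)) ≃*
      ↥((Cfsg.Geo.omegaGL (⇑Q)).map (RI.glReindex (F := F) e).toMonoidHom) :=
    (RI.glReindex (F := F) e).subgroupMap (Cfsg.Geo.omegaGL (⇑Q))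
  let φ₃ : ↥((Cfsg.Geo.omegaGL (⇑Q)).map (RI.glReindex (F := F) e).toMonoidHom) ≃*
      ↥(Cfsg.Geo.omegaGL (⇑(RI.qReindex e Q))) :=
    MulEquiv.subgroupCongr (map_omegaGL e (⇑Q))
  exact simple_transfer ((φ₁.trans φ₂).trans φ₃) h1

theorem comap_ne_bot {ι κ : Type} [Fintype ι] [Fintype κ] {F : Type*} [Field F] (e : ι ≃ κ)
    (W : Submodule F (ι → F)) (hW0 : W ≠ ⊥) : W.comap (LinearMap.funLeft F F e) ≠ ⊥ := by
  obtain ⟨w, hwW, hw0⟩ := Submodule.exists_mem_ne_zero_of_ne_bot hW0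
  intro h
  have h1 : w ∘ e.symm ∈ W.comap (LinearMap.funLeft F F e) := by
    rw [Submodule.mem_comap]
    show (w ∘ e.symm) ∘ e ∈ W
    have : (w ∘ e.symm) ∘ e = w := by
      funext i
      simp
    rw [this]
    exact hwW
  rw [h, Submodule.mem_bot] at h1
  apply hw0
  funext i
  have := congrFun h1 (e i)
  simpa using this

theorem comap_finrank {ι κ : Type} [Fintype ι] [Fintype κ] {F : Type*} [Field F] (e : ι ≃ κ)
    (W : Submodule F (ι → F)) :
    Module.finrank F (W.comap (LinearMap.funLeft F F e)) = Module.finrank F W := by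
  have hsurj : Function.Surjective (LinearMap.funLeft F F e) :=
    LinearMap.funLeft_surjective_of_injective F F e e.injective
  have h1 := Submodule.map_comap_eq_of_surjective hsurj W
  have h3 := LinearEquiv.finrank_map_eq (LinearEquiv.funCongrLeft F F e)
    (W.comap (LinearMap.funLeft F F e))
  have h4 : Submodule.map (LinearEquiv.funCongrLeft F F e : (κ → F) →ₗ[F] (ι → F))
      (W.comap (LinearMap.funLeft F F e)) =
      Submodule.map (LinearMap.funLeft F F e) (W.comap (LinearMap.funLeft F F e)) := rfl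
  rw [← h3, h4, h1]

theorem ts_max_all {ι : Type} [Fintype ι] [DecidableEq ι] {F : Type*} [Field F] [Fintype F]
    (hn : 7 ≤ Fintype.card ι) (Q : QuadraticForm F (ι → F))
    (hQ : (QuadraticMap.polarBilin Q).Nondegenerate)
    (W : Submodule F (ι → F)) (hW0 : W ≠ ⊥) (hW : ∀ w ∈ W, Q w = 0)
    (hk : Odd (Fintype.card ι) ∨ 2 * Module.finrank F W + 3 ≤ Fintype.card ι ∨
      (∀ z : ι → F, Q z = 0 → (∀ w ∈ W, QuadraticMap.polar (⇑Q) z w = 0) → z ∈ W)) :
    Cfsg.Geo.IsMaximalIn (Cfsg.Geo.omegaGL (⇑Q))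
      (Cfsg.Geo.subspaceStabilizer W ⊓ Cfsg.Geo.omegaGL (⇑Q)) := by
  obtain ⟨e, he⟩ : ∃ e : ι ≃ Fin (Fintype.card ι), e = Fintype.equivFin ι := ⟨_, rfl⟩
  apply isMaximalIn_of_map (RI.glReindex (F := F) e)
  rw [Subgroup.map_inf (Cfsg.Geo.subspaceStabilizer W) (Cfsg.Geo.omegaGL ⇑Q)
    (RI.glReindex (F := F) e).toMonoidHom (RI.glReindex (F := F) e).injective, map_omegaGL, map_stab]
  have hQ' := RI.qReindex_nondeg e Q hQ
  have hsg := sgGroupQ_quad hn (RI.qReindex e Q) hQ'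
  have := ts_max_q (qf_of_quad _ hQ') (vfacts_quad hn _ hQ') _ hsg
    (W.comap (LinearMap.funLeft F F e)) (comap_ne_bot e W hW0) (fun x hx => hW _ hx) (by
      rw [comap_finrank]
      rcases hk with hk | hk | hk
      · exact Or.inl hk
      · exact Or.inr (Or.inl hk)
      · refine Or.inr (Or.inr ?_)
        intro z hz hzW
        rw [Submodule.mem_comap]
        apply hk _ hz
        intro w hw
        have h1 := hzW (w ∘ e.symm) (by
          rw [Submodule.mem_comap]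
          show (w ∘ e.symm) ∘ e ∈ W
          have : (w ∘ e.symm) ∘ e = w := by
            funext i
            simp
          rw [this]
          exact hw)
        have h2 : pf (RI.qReindex e Q) z (w ∘ e.symm) =
            QuadraticMap.polar (⇑Q) (z ∘ e) ((w ∘ e.symm) ∘ e) := by
          unfold pf QuadraticMap.polar
          rfl
        rw [h2] at h1
        have : (w ∘ e.symm) ∘ e = w := by
          funext i
          simp
        rw [this] at h1
        exact h1)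
  exact this

end Cfsg.Agent.Lib.Helper28.OAll
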