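import Cfsg.Agent.Lib.Helper28.ONdW
import Cfsg.Agent.Lib.Helper28.OAll

set_option autoImplicit false

open Cfsg

namespace Cfsg.Agent.Lib.Helper28.ONdA

open Matrix Cfsg.Agent.Lib.Lead
  Cfsg.Agent.Lib.Helper28.HForm Cfsg.Agent.Lib.Helper28.OGen
  Cfsg.Agent.Lib.Helper28.OMax Cfsg.Agent.Lib.Helper28.OQ
  Cfsg.Agent.Lib.Helper28.OMax2 Cfsg.Agent.Lib.Helper28.OGenQ
  Cfsg.Agent.Lib.Helper28.OTrans Cfsg.Agent.Lib.Helper28.OAll
  Cfsg.Agent.Lib.Helper28.ONdW Cfsg.Agent.S0795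

theorem comp_symm_comp {ι κ : Type} {F : Type*} (e : ι ≃ κ) (w : ι → F) :
    (w ∘ e.symm) ∘ e = w := by
  funext i
  simp

theorem comp_comp_symm {ι κ : Type} {F : Type*} (e : ι ≃ κ) (w : κ → F) :
    (w ∘ e) ∘ e.symm = w := by
  funext i
  simp

theorem nd_max_any {ι : Type} [Fintype ι] [DecidableEq ι] {F : Type*} [Field F] [Fintype F]
    (hn : 13 ≤ Fintype.card ι) (Q : QuadraticForm F (ι → F))
    (hQ : (QuadraticMap.polarBilin Q).Nondegenerate)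
    (W : Submodule F (ι → F)) (hW0 : W ≠ ⊥) (hW1 : W ≠ ⊤)
    (hW : Cfsg.Geo.IsNondegenerateOn (QuadraticMap.polar (⇑Q)) W)
    (hdim : 2 * Module.finrank F W ≠ Fintype.card ι)
    (hexW : Module.finrank F W = 2 → (∃ e ∈ W, e ≠ 0 ∧ Q e = 0) → 4 ≤ Fintype.card F)
    (hexO : Module.finrank F W + 2 = Fintype.card ι →
      (∃ e, (∀ w ∈ W, QuadraticMap.polar (⇑Q) w e = 0) ∧ e ≠ 0 ∧ Q e = 0) →
      4 ≤ Fintype.card F) :
    Cfsg.Geo.IsMaximalIn (Cfsg.Geo.omegaGL (⇑Q))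
      (Cfsg.Geo.subspaceStabilizer W ⊓ Cfsg.Geo.omegaGL (⇑Q)) := by
  obtain ⟨e, he⟩ : ∃ e : ι ≃ Fin (Fintype.card ι), e = Fintype.equivFin ι := ⟨_, rfl⟩
  apply isMaximalIn_of_map (RI.glReindex (F := F) e)
  rw [Subgroup.map_inf (Cfsg.Geo.subspaceStabilizer W) (Cfsg.Geo.omegaGL ⇑Q)
    (RI.glReindex (F := F) e).toMonoidHom (RI.glReindex (F := F) e).injective, map_omegaGL, map_stab]
  have hQ' := RI.qReindex_nondeg e Q hQ
  have hpf : ∀ x y : Fin (Fintype.card ι) → F, pf (RI.qReindex e Q) x y =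
      QuadraticMap.polar (⇑Q) (x ∘ e) (y ∘ e) := by
    intro x y
    unfold pf QuadraticMap.polar
    rfl
  have hmem : ∀ x : Fin (Fintype.card ι) → F,
      x ∈ W.comap (LinearMap.funLeft F F e) ↔ x ∘ e ∈ W := fun x => Iff.rfl
  have hfr := comap_finrank e W
  have hW1' : W.comap (LinearMap.funLeft F F e) ≠ ⊤ := by
    intro h
    apply hW1
    apply Submodule.eq_top_of_finrank_eq
    rw [← hfr, h, finrank_top, Module.finrank_fin_fun, Module.finrank_fintype_fun_eq_card]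
  have hne0 : ∀ x : Fin (Fintype.card ι) → F, x ≠ 0 → x ∘ e ≠ 0 := by
    intro x hx h
    apply hx
    rw [← comp_comp_symm e x, h]
    rfl
  have := nd_max_fin hn (RI.qReindex e Q) hQ' (W.comap (LinearMap.funLeft F F e))
    (comap_ne_bot e W hW0) hW1' ?_ ?_ ?_ ?_
  · exact this
  · intro w' hw' hw'0
    obtain ⟨⟨x, hxW, hx⟩, ⟨y, hyW, hy⟩⟩ := hW (w' ∘ e) ((hmem w').1 hw') (hne0 w' hw'0)
    refine ⟨⟨x ∘ e.symm, ?_, ?_⟩, ⟨y ∘ e.symm, ?_, ?_⟩⟩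
    · rw [hmem, comp_symm_comp]
      exact hxW
    · rw [hpf, comp_symm_comp]
      exact hx
    · rw [hmem, comp_symm_comp]
      exact hyW
    · rw [hpf, comp_symm_comp]
      exact hy
  · intro h
    rw [hfr] at h
    exact absurd h hdim
  · intro h2 hs
    rw [hfr] at h2
    apply hexW h2
    obtain ⟨e', he'W, he'0, he'e'⟩ := hs
    exact ⟨e' ∘ e, (hmem e').1 he'W, hne0 e' he'0, he'e'⟩
  · intro h2 hs
    rw [hfr] at h2
    apply hexO h2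
    obtain ⟨e', he'W, he'0, he'e'⟩ := hs
    refine ⟨e' ∘ e, ?_, hne0 e' he'0, he'e'⟩
    intro w hw
    have h1 := he'W (w ∘ e.symm) (by rw [hmem, comp_symm_comp]; exact hw)
    rw [hpf, comp_symm_comp] at h1
    exact h1

end Cfsg.Agent.Lib.Helper28.ONdA
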