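import Cfsg.Agent.Lib.Helper28.OFrame
import Cfsg.Agent.Lib.Helper28.ONdA

set_option autoImplicit false

open Cfsg

namespace Cfsg.Agent.Lib.Helper28.OFrameT

open Matrix Cfsg.Agent.Lib.Lead
  Cfsg.Agent.Lib.Helper28.HForm Cfsg.Agent.Lib.Helper28.OGen
  Cfsg.Agent.Lib.Helper28.OMax Cfsg.Agent.Lib.Helper28.OQ
  Cfsg.Agent.Lib.Helper28.OMax2 Cfsg.Agent.Lib.Helper28.OGenQ
  Cfsg.Agent.Lib.Helper28.OTrans Cfsg.Agent.Lib.Helper28.OAll
  Cfsg.Agent.Lib.Helper28.ONdW Cfsg.Agent.Lib.Helper28.ONdR Cfsg.Agent.Lib.Helper28.ONdA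
  Cfsg.Agent.Lib.Helper28.OFrame Cfsg.Agent.Lib.Helper28.OPlane Cfsg.Agent.S0795

theorem frame3_fin {n : ℕ} {F : Type*} [Field F] [Fintype F] (hc : Fintype.card F = 3)
    (hn : 7 ≤ n) (Q : QuadraticForm F (Fin n → F))
    (hQ : (QuadraticMap.polarBilin Q).Nondegenerate)
    {t : ℕ} (D : Fin t → Submodule F (Fin n → F)) (ht : 2 ≤ t)
    (hnd : ∀ i, Cfsg.Geo.IsNondegenerateOn (QuadraticMap.polar (⇑Q)) (D i))
    (hfr : ∀ i, Module.finrank F (D i) = 3)
    (horth : ∀ i j, i ≠ j → Cfsg.Geo.AreOrthogonalFor (QuadraticMap.polar (⇑Q)) (D i) (D j))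
    (hiso : ∀ i j, Cfsg.Geo.AreIsometricFor (⇑Q) (D i) (D j)) :
    ∃ K : Subgroup (Matrix.GeneralLinearGroup (Fin n) F),
      Cfsg.Geo.decompositionStabilizer D ⊓ Cfsg.Geo.omegaGL (⇑Q) < K ∧
        K < Cfsg.Geo.omegaGL (⇑Q) := by
  have hq := qf_of_quad Q hQ
  have hG := sgGroupQ_quad hn Q hQ
  have h2 := two_ne_zero3 hc
  exact frame3_nonmax hq hc hG (fun w o hw hoo hwo => rp_odd h2 Q w o hw hoo hwo) D
    ht hnd hfr horth hiso

theorem frame2_fin {n : ℕ} {F : Type*} [Field F] [Fintype F] (hc : Fintype.card F = 3)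
    (hn : 7 ≤ n) (Q : QuadraticForm F (Fin n → F))
    (hQ : (QuadraticMap.polarBilin Q).Nondegenerate)
    {t : ℕ} (D : Fin t → Submodule F (Fin n → F)) (ht : 3 ≤ t)
    (hnd : ∀ i, Cfsg.Geo.IsNondegenerateOn (QuadraticMap.polar (⇑Q)) (D i))
    (hfr : ∀ i, Module.finrank F (D i) = 2)
    (horth : ∀ i j, i ≠ j → Cfsg.Geo.AreOrthogonalFor (QuadraticMap.polar (⇑Q)) (D i) (D j))
    (hiso : ∀ i j, Cfsg.Geo.AreIsometricFor (⇑Q) (D i) (D j))
    (hani : ∀ v ∈ D ⟨0, by omega⟩, Q v = 0 → v = 0) :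
    ∃ K : Subgroup (Matrix.GeneralLinearGroup (Fin n) F),
      Cfsg.Geo.decompositionStabilizer D ⊓ Cfsg.Geo.omegaGL (⇑Q) < K ∧
        K < Cfsg.Geo.omegaGL (⇑Q) := by
  have hq := qf_of_quad Q hQ
  have hG := sgGroupQ_quad hn Q hQ
  have h2 := two_ne_zero3 hc
  exact frame2_nonmax hq hc hG (fun w o hw hoo hwo => rp_odd h2 Q w o hw hoo hwo) D ht
    hnd hfr horth hiso hani

theorem nonmax_map {G G' : Type*} [Group G] [Group G'] (φ : G ≃* G') (H S : Subgroup G)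
    (h : ∃ K' : Subgroup G', H.map φ.toMonoidHom ⊓ S.map φ.toMonoidHom < K' ∧
      K' < S.map φ.toMonoidHom) :
    ∃ K : Subgroup G, H ⊓ S < K ∧ K < S := by
  obtain ⟨K', h1, h2⟩ := h
  refine ⟨K'.comap φ.toMonoidHom, ?_, ?_⟩
  · have h3 := (Subgroup.comap_lt_comap_of_surjective (f := φ.toMonoidHom) φ.surjective).2 h1
    rwa [Subgroup.comap_inf, Subgroup.comap_map_eq_self_of_injective (f := φ.toMonoidHom) φ.injective,
      Subgroup.comap_map_eq_self_of_injective (f := φ.toMonoidHom) φ.injective] at h3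
  · have h3 := (Subgroup.comap_lt_comap_of_surjective (f := φ.toMonoidHom) φ.surjective).2 h2
    rwa [Subgroup.comap_map_eq_self_of_injective (f := φ.toMonoidHom) φ.injective] at h3

section

variable {ι κ : Type} [Fintype ι] [DecidableEq ι] [Fintype κ] [DecidableEq κ]
  {F : Type*} [Field F]

theorem reindex_key (e : ι ≃ κ) (g : Matrix.GeneralLinearGroup ι F) (x : κ → F) :
    (((RI.glReindex (F := F) e g : Matrix.GeneralLinearGroup κ F) : Matrix κ κ F) *ᵥ x) ∘ e =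
      (g : Matrix ι ι F) *ᵥ (x ∘ e) := by
  rw [RI.glReindex_coe, RI.reindex_mulVec]
  funext i
  simp

theorem map_comap_reindex (e : ι ≃ κ) (g : Matrix.GeneralLinearGroup ι F)
    (A B : Submodule F (ι → F))
    (h : A.map (Matrix.toLin' (g : Matrix ι ι F)) = B) :
    (A.comap (LinearMap.funLeft F F e)).map (Matrix.toLin'
      ((RI.glReindex (F := F) e g : Matrix.GeneralLinearGroup κ F) : Matrix κ κ F)) =
      B.comap (LinearMap.funLeft F F e) := by
  ext y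
  constructor
  · rintro ⟨x, hx, rfl⟩
    rw [Submodule.mem_comap, Matrix.toLin'_apply]
    show (_ *ᵥ x) ∘ e ∈ B
    rw [reindex_key, ← h]
    exact ⟨x ∘ e, hx, by rw [Matrix.toLin'_apply]⟩
  · intro hy
    have hy' : y ∘ e ∈ B := hy
    rw [← h] at hy'
    obtain ⟨u, hu, hgu⟩ := hy'
    rw [Matrix.toLin'_apply] at hgu
    refine ⟨u ∘ e.symm, ?_, ?_⟩
    · show (u ∘ e.symm) ∘ e ∈ A
      rw [comp_symm_comp]
      exact hu
    · rw [Matrix.toLin'_apply]
      have h1 := reindex_key e g (u ∘ e.symm)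
      rw [comp_symm_comp, hgu] at h1
      rw [← comp_comp_symm e y, ← h1, comp_comp_symm]

theorem map_decomp (e : ι ≃ κ) {t : ℕ} (D : Fin t → Submodule F (ι → F)) :
    (Cfsg.Geo.decompositionStabilizer D).map (RI.glReindex (F := F) e).toMonoidHom =
      Cfsg.Geo.decompositionStabilizer (fun i => (D i).comap (LinearMap.funLeft F F e)) := by
  ext h
  rw [Subgroup.mem_map_equiv]
  constructor
  · rintro ⟨σ, hσ⟩
    refine ⟨σ, fun i => ?_⟩
    have := map_comap_reindex e _ _ _ (hσ i)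
    rw [MulEquiv.apply_symm_apply] at this
    exact this
  · rintro ⟨σ, hσ⟩
    refine ⟨σ, fun i => ?_⟩
    have hcc : ∀ A : Submodule F (ι → F),
        (A.comap (LinearMap.funLeft F F e)).comap (LinearMap.funLeft F F e.symm) = A := by
      intro A
      ext x
      show (x ∘ e.symm) ∘ e ∈ A ↔ x ∈ A
      rw [comp_symm_comp]
    have h1 := map_comap_reindex e.symm h _ _ (hσ i)
    rw [hcc, hcc] at h1
    have h2 : RI.glReindex (F := F) e.symm h = (RI.glReindex (F := F) e).symm h := by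
      apply Units.ext
      rfl
    rw [← h2]
    exact h1


omit [Fintype ι] [DecidableEq ι] [Fintype κ] [DecidableEq κ] in
theorem iso_comap (e : ι ≃ κ) (Q : QuadraticForm F (ι → F)) (A B : Submodule F (ι → F))
    (h : Cfsg.Geo.AreIsometricFor (⇑Q) A B) :
    Cfsg.Geo.AreIsometricFor (⇑(RI.qReindex e Q)) (A.comap (LinearMap.funLeft F F e))
      (B.comap (LinearMap.funLeft F F e)) := by
  obtain ⟨φ, hφ⟩ := h
  obtain ⟨fc, hfc⟩ : ∃ fc : (κ → F) ≃ₗ[F] (ι → F), fc = LinearEquiv.funCongrLeft F F e :=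
    ⟨_, rfl⟩
  have hfcA : A.comap (LinearMap.funLeft F F e) = A.comap (fc : (κ → F) →ₗ[F] (ι → F)) := by
    rw [hfc]
    rfl
  have hfcB : B.comap (LinearMap.funLeft F F e) = B.comap (fc : (κ → F) →ₗ[F] (ι → F)) := by
    rw [hfc]
    rfl
  rw [hfcA, hfcB]
  refine ⟨(LinearEquiv.ofSubmodule' fc A).trans (φ.trans (LinearEquiv.ofSubmodule' fc B).symm), ?_⟩
  intro w
  have hQ' : ∀ x : κ → F, (RI.qReindex e Q) x = Q (fc x) := by
    intro x
    rw [hfc]
    rfl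
  rw [hQ', hQ']
  have h1 : fc ((((LinearEquiv.ofSubmodule' fc A).trans
      (φ.trans (LinearEquiv.ofSubmodule' fc B).symm)) w : B.comap (fc : (κ → F) →ₗ[F] (ι → F))) :
        κ → F) = ((φ (LinearEquiv.ofSubmodule' fc A w) : B) : ι → F) := by
    rw [LinearEquiv.trans_apply, LinearEquiv.trans_apply]
    have := LinearEquiv.ofSubmodule'_apply fc B
      ((LinearEquiv.ofSubmodule' fc B).symm (φ ((LinearEquiv.ofSubmodule' fc A) w)))
    rw [LinearEquiv.apply_symm_apply] at this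
    exact this.symm
  rw [h1, hφ]
  rfl

theorem frame3_any {ι : Type} [Fintype ι] [DecidableEq ι] {F : Type*} [Field F] [Fintype F]
    (hc : Fintype.card F = 3) (hn : 7 ≤ Fintype.card ι) (Q : QuadraticForm F (ι → F))
    (hQ : (QuadraticMap.polarBilin Q).Nondegenerate)
    {t : ℕ} (D : Fin t → Submodule F (ι → F))
    (hD : Cfsg.Geo.IsOrthogonalMDecomposition (⇑Q) 3 D) :
    ∃ K : Subgroup (Matrix.GeneralLinearGroup ι F),
      Cfsg.Geo.decompositionStabilizer D ⊓ Cfsg.Geo.omegaGL (⇑Q) < K ∧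
        K < Cfsg.Geo.omegaGL (⇑Q) := by
  obtain ⟨e, he⟩ : ∃ e : ι ≃ Fin (Fintype.card ι), e = Fintype.equivFin ι := ⟨_, rfl⟩
  apply nonmax_map (RI.glReindex (F := F) e)
  rw [map_omegaGL, map_decomp]
  have hQ' := RI.qReindex_nondeg e Q hQ
  have hpf : ∀ x y : Fin (Fintype.card ι) → F, QuadraticMap.polar (⇑(RI.qReindex e Q)) x y =
      QuadraticMap.polar (⇑Q) (x ∘ e) (y ∘ e) := by
    intro x y
    unfold QuadraticMap.polar
    rfl
  have hne0 : ∀ x : Fin (Fintype.card ι) → F, x ≠ 0 → x ∘ e ≠ 0 := by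
    intro x hx h
    apply hx
    rw [← comp_comp_symm e x, h]
    rfl
  refine frame3_fin hc hn (RI.qReindex e Q) hQ' _ hD.decomp.decomp.two_le ?_ ?_ ?_ ?_
  · intro i w' hw' hw'0
    obtain ⟨⟨x, hxW, hx⟩, ⟨y, hyW, hy⟩⟩ := hD.decomp.nondegenerate i (w' ∘ e) hw' (hne0 w' hw'0)
    refine ⟨⟨x ∘ e.symm, ?_, ?_⟩, ⟨y ∘ e.symm, ?_, ?_⟩⟩
    · show (x ∘ e.symm) ∘ e ∈ D i
      rw [comp_symm_comp]
      exact hxW
    · rw [hpf, comp_symm_comp]
      exact hx
    · show (y ∘ e.symm) ∘ e ∈ D i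
      rw [comp_symm_comp]
      exact hyW
    · rw [hpf, comp_symm_comp]
      exact hy
  · intro i
    rw [comap_finrank]
    exact hD.decomp.decomp.finrank_eq i
  · intro i j hij u hu v hv
    rw [hpf]
    exact hD.decomp.orthogonal i j hij _ hu _ hv
  · intro i j
    exact iso_comap e Q _ _ (hD.isometric i j)

end

end Cfsg.Agent.Lib.Helper28.OFrameT
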