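import Cfsg.Agent.Lib.Helper28.OQ

set_option autoImplicit false

open Cfsg

namespace Cfsg.Agent.Lib.Helper28.OChar2

open Matrix Cfsg.Agent.Lib.Helper28.HForm Cfsg.Agent.Lib.Helper28.OGen
  Cfsg.Agent.Lib.Helper28.OMax Cfsg.Agent.Lib.Helper28.OQ

variable {n : ℕ} {F : Type*} [Field F] {Q : (Fin n → F) → F}
  {f : (Fin n → F) → (Fin n → F) → F}

theorem c2_f_self (hq : QF Q f) (h2 : (2 : F) = 0) (x : Fin n → F) : f x x = 0 := by
  rw [f_self hq, h2, zero_mul]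

theorem c2_sqrt [Finite F] (h2 : (2 : F) = 0) (a : F) : ∃ b : F, b * b = a := by
  have hinj : Function.Injective (fun x : F => x * x) := by
    intro x y hxy
    have h1 : (x - y) * (x - y) = 0 := by
      have h3 : x * x = y * y := hxy
      linear_combination h3 - (x * y - y * y) * h2
    have := mul_self_eq_zero.1 h1
    exact sub_eq_zero.1 this
  exact Finite.surjective_of_injective hinj a

theorem c2_nd_pair (hq : QF Q f) (h2 : (2 : F) = 0) {m : ℕ} (a : Fin m → (Fin n → F))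
    (ha : Nd f a) (u v : Fin n → F) (hu : Perp f a u) (hv : Perp f a v) (hvu : f v u ≠ 0) :
    Nd f (Fin.cons u (Fin.cons v a) : Fin (m + 1 + 1) → (Fin n → F)) :=
  nd_cons2 hq.sym a ha u v hu hv (c2_f_self hq h2 u) (c2_f_self hq h2 v) hvu

theorem c2_nonsing_perp (hq : QF Q f) {m : ℕ} (a : Fin m → (Fin n → F)) (ha : Nd f a)
    (hm : m < n) : ∃ s, Perp f a s ∧ Q s ≠ 0 := by
  have hf := hq.sym
  by_contra hcon
  push Not at hcon
  have h1 := finrank_ker_eq hf a ha.li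
  have hiso : ∀ y ∈ LinearMap.ker (perpMap hf a), Q y = 0 := by
    intro y hy
    rw [mem_ker_perpMap] at hy
    exact hcon y hy
  have h3 := rb hf a ha (LinearMap.ker (perpMap hf a)) (ts_ti hq _ hiso) (by
    intro x hx
    rw [mem_ker_perpMap] at hx
    exact hx)
  omega

theorem c2_rep [Finite F] (hq : QF Q f) (h2 : (2 : F) = 0) {m : ℕ} (a : Fin m → (Fin n → F))
    (ha : Nd f a) (hm : m + 1 ≤ n) (M : F) : ∃ t, Perp f a t ∧ Q t = M := by
  obtain ⟨s, hsa, hs⟩ := c2_nonsing_perp hq a ha (by omega)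
  obtain ⟨b, hb⟩ := c2_sqrt h2 (M / Q s)
  refine ⟨b • s, perp_smul hq.sym a _ _ hsa, ?_⟩
  rw [hq.smul, hb]
  field_simp

theorem c2_partner (hq : QF Q f) {m : ℕ} (a : Fin m → (Fin n → F))
    (ha : Nd f a) (w : Fin n → F) (hw0 : w ≠ 0) (hwa : Perp f a w) (hww : Q w = 0) :
    ∃ w', Q w' = 0 ∧ f w' w = 1 ∧ Perp f a w' := by
  have hf := hq.sym
  obtain ⟨z, hzw, hza⟩ := ex_dual hf a ha w hw0 hwa
  refine ⟨z - Q z • w, ?_, ?_, perp_sub hf a _ _ hza (perp_smul hf a _ _ hwa)⟩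
  · rw [Q_sub hq, hq.smul, hww, s_smul_right hf, hzw]
    ring
  · rw [f_sub_left hf, hf.smul_left, f_sing hq hww, hzw]
    ring

theorem c2_ex_sing [Finite F] (hq : QF Q f) (h2 : (2 : F) = 0) {m : ℕ}
    (a : Fin m → (Fin n → F)) (ha : Nd f a) (hm : m + 3 ≤ n) :
    ∃ s, Perp f a s ∧ Q s = 0 ∧ s ≠ 0 := by
  have hf := hq.sym
  obtain ⟨s₁, hs₁a, hs₁⟩ := c2_nonsing_perp hq a ha (by omega)
  have hs₁0 : s₁ ≠ 0 := by
    rintro rfl
    exact hs₁ (Q_zero hq)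
  obtain ⟨s₂, hs₂s₁, hs₂a⟩ := ex_dual hf a ha s₁ hs₁0 hs₁a
  have hnd := c2_nd_pair hq h2 a ha s₂ s₁ hs₂a hs₁a (by
    rw [s_symm hf, hs₂s₁]
    exact one_ne_zero)
  obtain ⟨t, hta, htt⟩ := c2_rep hq h2 _ hnd (by omega) (Q s₁)
  rw [perp_cons, perp_cons] at hta
  obtain ⟨hts₂, hts₁, hta⟩ := hta
  refine ⟨s₁ + t, perp_add hf a _ _ hs₁a hta, ?_, ?_⟩
  · rw [hq.polar, htt, s_symm hf, hts₁]
    linear_combination Q s₁ * h2
  · intro h
    have h1 : f (s₁ + t) s₂ = 1 := by rw [hf.add_left, hts₂, add_zero, s_symm hf, hs₂s₁]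
    rw [h, f_zero_left hf] at h1
    exact zero_ne_one h1

theorem c2_vfacts [Finite F] (hq : QF Q f) (h2 : (2 : F) = 0) (hn : 7 ≤ n) : VFacts Q f where
  hyp_perp := by
    intro z w hz hw hzw
    have hf := hq.sym
    have hnd2 := c2_nd_pair hq h2 e0 nd_e0 z w (perp_e0 z) (perp_e0 w) (by
      rw [s_symm hf]
      exact hzw)
    obtain ⟨s, hsa, hss, hs0⟩ := c2_ex_sing hq h2 _ hnd2 (by omega)
    obtain ⟨s', hs's', hs's, hs'a⟩ := c2_partner hq _ hnd2 s hs0 hsa hss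
    rw [perp_cons, perp_cons] at hsa hs'a
    exact ⟨s, s', hss, hs's', hsa.1, hsa.2.1, hs'a.1, hs'a.2.1, hs's⟩
  decomp := by
    intro w y hw hw0 hyw
    have hf := hq.sym
    by_cases hyy : Q y = 0
    · exact ⟨y, 0, add_zero y, hyy, Q_zero hq, hyw, f_zero_left hf w⟩
    have hys : y ∉ Submodule.span F {w} := by
      intro h
      obtain ⟨b, rfl⟩ := Submodule.mem_span_singleton.1 h
      apply hyy
      rw [hq.smul, hw, mul_zero]
    have hli : LinearIndependent F ![w, y] := li2 w y hw0 hys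
    obtain ⟨y', hy'⟩ := lin_solve hf _ hli ![0, 1]
    have hy'w : f y' w = 0 := by
      have := hy' 0
      simpa using this
    have hy'y : f y' y = 1 := by
      have := hy' 1
      simpa using this
    have hnd2 := c2_nd_pair hq h2 e0 nd_e0 y' y (perp_e0 y') (perp_e0 y) (by
      rw [s_symm hf, hy'y]
      exact one_ne_zero)
    have hwy : f w y = 0 := by rw [s_symm hf, hyw]
    have hwy' : f w y' = 0 := by rw [s_symm hf, hy'w]
    have hwa : Perp f (Fin.cons y' (Fin.cons y e0) : Fin (0 + 1 + 1) → (Fin n → F)) w :=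
      (perp_cons _ _ _).2 ⟨hwy', (perp_cons _ _ _).2 ⟨hwy, perp_e0 _⟩⟩
    obtain ⟨w', hw'w', hw'w, hw'a⟩ := c2_partner hq _ hnd2 w hw0 hwa hw
    have hnd4 := c2_nd_pair hq h2 _ hnd2 w' w hw'a hwa (by
      rw [s_symm hf, hw'w]
      exact one_ne_zero)
    obtain ⟨t, hta, htt⟩ := c2_rep hq h2 _ hnd4 (by omega) (Q y')
    rw [perp_cons, perp_cons, perp_cons, perp_cons] at hta
    obtain ⟨_, htw, hty', hty, _⟩ := hta
    obtain ⟨s, hs⟩ : ∃ s, s = y' + t := ⟨_, rfl⟩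
    have hss : Q s = 0 := by
      rw [hs, hq.polar, htt, s_symm hf, hty']
      linear_combination Q y' * h2
    have hsy : f s y = 1 := by rw [hs, hf.add_left, hty, add_zero, hy'y]
    have hsw : f s w = 0 := by rw [hs, hf.add_left, htw, add_zero, hy'w]
    refine ⟨Q y • s, y - Q y • s, by abel, ?_, ?_, ?_, ?_⟩
    · rw [hq.smul, hss, mul_zero]
    · rw [Q_sub hq, hq.smul, hss, s_smul_right hf, s_symm hf y s, hsy]
      ring
    · rw [hf.smul_left, hsw, mul_zero]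
    · rw [f_sub_left hf, hf.smul_left, hsw, hyw]
      ring
  sing := by
    obtain ⟨s, _, hs, hs0⟩ := c2_ex_sing hq h2 (e0 : Fin 0 → (Fin n → F)) nd_e0 (by omega)
    exact ⟨s, hs, hs0⟩
  perfect := by
    intro u v hu hv huv hu0 hs
    have hf := hq.sym
    obtain ⟨u', hu'u', hu'u⟩ := hyp_partner_q hq u hu0 hu
    have huu' : f u u' = 1 := by rw [s_symm hf, hu'u]
    have hnd2 := c2_nd_pair hq h2 e0 nd_e0 u' u (perp_e0 u') (perp_e0 u) (by
      rw [huu']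
      exact one_ne_zero)
    obtain ⟨v₁, hv₁⟩ : ∃ v₁, v₁ = v - f v u' • u := ⟨_, rfl⟩
    have hvu : f v u = 0 := by rw [s_symm hf, huv]
    have hv₁u : f v₁ u = 0 := by
      rw [hv₁, f_sub_left hf, hf.smul_left, hvu, f_sing hq hu, mul_zero, sub_zero]
    have hv₁u' : f v₁ u' = 0 := by
      rw [hv₁, f_sub_left hf, hf.smul_left, huu', mul_one, sub_self]
    have hv₁v₁ : Q v₁ = 0 := by
      rw [hv₁, Q_sub hq, hq.smul, hv, hu, s_smul_right hf, hvu]
      ring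
    have hv₁0 : v₁ ≠ 0 := by
      intro h
      apply hs
      rw [Submodule.mem_span_singleton]
      refine ⟨f v u', ?_⟩
      rw [hv₁, sub_eq_zero] at h
      exact h.symm
    have hv₁a : Perp f (Fin.cons u' (Fin.cons u e0) : Fin (0 + 1 + 1) → (Fin n → F)) v₁ :=
      (perp_cons _ _ _).2 ⟨hv₁u', (perp_cons _ _ _).2 ⟨hv₁u, perp_e0 _⟩⟩
    obtain ⟨v₁', hv₁'v₁', hv₁'v₁, hv₁'a⟩ := c2_partner hq _ hnd2 v₁ hv₁0 hv₁a hv₁v₁
    have hnd4 := c2_nd_pair hq h2 _ hnd2 v₁' v₁ hv₁'a hv₁a (by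
      rw [s_symm hf, hv₁'v₁]
      exact one_ne_zero)
    obtain ⟨z, hza, hzz, hz0⟩ := c2_ex_sing hq h2 _ hnd4 (by omega)
    obtain ⟨w₀, hw₀w₀, hw₀z, hw₀a⟩ := c2_partner hq _ hnd4 z hz0 hza hzz
    rw [perp_cons, perp_cons, perp_cons, perp_cons] at hza hw₀a
    obtain ⟨_, hzv₁, _, hzu, _⟩ := hza
    obtain ⟨_, hwv₁, _, hwu, _⟩ := hw₀a
    have hv' : v = v₁ + f v u' • u := by
      rw [hv₁]
      abel
    refine ⟨z, -w₀, hzz, ?_, hzu, ?_, ?_, ?_, ?_⟩
    · rw [Q_neg hq, hw₀w₀]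
    · rw [hv', f_add_right hf, s_smul_right hf, hzv₁, hzu]
      ring
    · rw [f_neg_left hf, hwu, neg_zero]
    · rw [f_neg_left hf, hv', f_add_right hf, s_smul_right hf, hwv₁, hwu]
      ring
    · rw [f_neg_right hf, s_symm hf z w₀, hw₀z]

section rel

variable (Rel : (Fin n → F) → (Fin n → F) → Prop)

theorem c2_one_step [Finite F] (hq : QF Q f) (h2 : (2 : F) = 0) (hn : 5 ≤ n)
    (hrefl : ∀ x, Rel x x)
    (hstep : ∀ x u w c, Q u = 0 → Q w = 0 → f u w = 0 →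
      Rel x (x + (c * f x u) • w - (c * f x w) • u))
    (x d : Fin n → F) (hxx : Q x ≠ 0) (hdd : Q d = 0) (hdx : f d x = 0) : Rel x (x + d) := by
  have hf := hq.sym
  by_cases hd0 : d = 0
  · rw [hd0, add_zero]
    exact hrefl x
  have hxs : x ∉ Submodule.span F {d} := by
    intro h
    obtain ⟨b, rfl⟩ := Submodule.mem_span_singleton.1 h
    apply hxx
    rw [hq.smul, hdd, mul_zero]
  have hli : LinearIndependent F ![d, x] := li2 d x hd0 hxs
  obtain ⟨y₀, hy₀⟩ := lin_solve hf _ hli ![0, 1]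
  have hy₀d : f y₀ d = 0 := by
    have := hy₀ 0
    simpa using this
  have hy₀x : f y₀ x = 1 := by
    have := hy₀ 1
    simpa using this
  have hnd2 := c2_nd_pair hq h2 e0 nd_e0 y₀ x (perp_e0 y₀) (perp_e0 x) (by
    rw [s_symm hf, hy₀x]
    exact one_ne_zero)
  have hdy₀ : f d y₀ = 0 := by rw [s_symm hf, hy₀d]
  have hda : Perp f (Fin.cons y₀ (Fin.cons x e0) : Fin (0 + 1 + 1) → (Fin n → F)) d :=
    (perp_cons _ _ _).2 ⟨hdy₀, (perp_cons _ _ _).2 ⟨hdx, perp_e0 _⟩⟩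
  obtain ⟨d', hd'd', hd'd, hd'a⟩ := c2_partner hq _ hnd2 d hd0 hda hdd
  have hnd4 := c2_nd_pair hq h2 _ hnd2 d' d hd'a hda (by
    rw [s_symm hf, hd'd]
    exact one_ne_zero)
  obtain ⟨t, hta, htt⟩ := c2_rep hq h2 _ hnd4 (by omega) (Q y₀)
  rw [perp_cons, perp_cons, perp_cons, perp_cons] at hta
  obtain ⟨_, htd, hty₀, htx, _⟩ := hta
  obtain ⟨u, hu⟩ : ∃ u, u = y₀ + t := ⟨_, rfl⟩
  have huu : Q u = 0 := by
    rw [hu, hq.polar, htt, s_symm hf, hty₀]
    linear_combination Q y₀ * h2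
  have hud : f u d = 0 := by rw [hu, hf.add_left, hy₀d, htd, add_zero]
  have hxu : f x u = 1 := by
    rw [hu, f_add_right hf, s_symm hf x y₀, hy₀x, s_symm hf x t, htx, add_zero]
  have h := hstep x u d 1 huu hdd hud
  rw [hxu, s_symm hf x d, hdx, mul_zero, zero_smul, sub_zero, mul_one, one_smul] at h
  exact h

theorem c2_trans_rel [Finite F] (hq : QF Q f) (h2 : (2 : F) = 0) (hn : 5 ≤ n)
    (hrefl : ∀ x, Rel x x) (htrans : ∀ x y z, Rel x y → Rel y z → Rel x z)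
    (hstep : ∀ x u w c, Q u = 0 → Q w = 0 → f u w = 0 →
      Rel x (x + (c * f x u) • w - (c * f x w) • u))
    (x y : Fin n → F) (hxx : Q x ≠ 0) (hyy : Q y = Q x) : Rel x y := by
  have hf := hq.sym
  have key : ∀ x y : Fin n → F, Q x ≠ 0 → Q y = Q x → f x y = 0 → Rel x y := by
    intro x y hxx hyy hxy
    have h := c2_one_step Rel hq h2 hn hrefl hstep x (y - x) hxx (by
      rw [Q_sub hq, hyy, s_symm hf, hxy]
      linear_combination Q x * h2) (by
      rw [f_sub_left hf, c2_f_self hq h2, s_symm hf, hxy, sub_zero])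
    have e : x + (y - x) = y := by abel
    rw [e] at h
    exact h
  by_cases hxy : f x y = 0
  · exact key x y hxx hyy hxy
  have hnd2 := c2_nd_pair hq h2 e0 nd_e0 x y (perp_e0 x) (perp_e0 y) (by
    rw [s_symm hf]
    exact hxy)
  obtain ⟨z, hza, hzz⟩ := c2_rep hq h2 _ hnd2 (by omega) (Q x)
  rw [perp_cons, perp_cons] at hza
  obtain ⟨hzx, hzy, _⟩ := hza
  have r1 := key x z hxx hzz (by rw [s_symm hf, hzx])
  have r2 := key z y (by rw [hzz]; exact hxx) (by rw [hyy, hzz]) hzy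
  exact htrans x z y r1 r2

end rel

end Cfsg.Agent.Lib.Helper28.OChar2
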