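import Cfsg.Agent.Lib.Helper28.HForm

set_option autoImplicit false

namespace Cfsg.Agent.Lib.Helper28.OGen

open Matrix Polynomial Cfsg.Agent.Lib.Helper28.HForm

variable {n : ℕ} {F : Type*} [Field F] {f : (Fin n → F) → (Fin n → F) → F}

abbrev SymF (f : (Fin n → F) → (Fin n → F) → F) : Prop := IsHerm (RingEquiv.refl F) f

theorem s_symm (hf : SymF f) (x y : Fin n → F) : f x y = f y x := hf.herm x y

theorem s_smul_right (hf : SymF f) (c : F) (v x : Fin n → F) : f v (c • x) = c * f v x :=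
  f_smul_right hf c v x

theorem ti_of_iso_s (hf : SymF f) (h2 : (2 : F) ≠ 0) (S : Submodule F (Fin n → F))
    (h : ∀ y ∈ S, f y y = 0) : ∀ x ∈ S, ∀ y ∈ S, f x y = 0 := by
  intro x hx y hy
  have h1 := h (x + y) (S.add_mem hx hy)
  rw [hf.add_left, f_add_right hf, f_add_right hf, h x hx, h y hy, s_symm hf y x] at h1
  have h3 : (2 : F) * f x y = 0 := by linear_combination h1
  rcases mul_eq_zero.1 h3 with h4 | h4
  · exact absurd h4 h2
  · exact h4

theorem exists_noniso_perp_s (hf : SymF f) (h2 : (2 : F) ≠ 0) {m : ℕ}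
    (a : Fin m → (Fin n → F)) (ha : Nd f a) (hm : m < n) : ∃ s, Perp f a s ∧ f s s ≠ 0 := by
  by_contra hcon
  push Not at hcon
  have h1 := finrank_ker_eq hf a ha.li
  have hiso : ∀ y ∈ LinearMap.ker (perpMap hf a), f y y = 0 := by
    intro y hy
    rw [mem_ker_perpMap] at hy
    exact hcon y hy
  have h3 := rb hf a ha (LinearMap.ker (perpMap hf a)) (ti_of_iso_s hf h2 _ hiso) (by
    intro x hx
    rw [mem_ker_perpMap] at hx
    exact hx)
  omega

theorem card_odd [Fintype F] (h2 : (2 : F) ≠ 0) : Fintype.card F % 2 = 1 := by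
  apply FiniteField.odd_card_of_char_ne_two
  intro h
  have : CharP F 2 := by
    rw [← h]
    exact ringChar.charP F
  apply h2
  have := CharP.cast_eq_zero F 2
  exact_mod_cast this

theorem solve2 [Fintype F] (h2 : (2 : F) ≠ 0) (c₁ c₂ M : F) (h1 : c₁ ≠ 0) (h1' : c₂ ≠ 0) :
    ∃ α β : F, c₁ * α ^ 2 + c₂ * β ^ 2 = M := by
  have hd1 : degree (C c₁ * X ^ 2 + C 0 * X + C (-M)) = 2 := degree_quadratic h1
  have hd2 : degree (C c₂ * X ^ 2 + C 0 * X + C (0 : F)) = 2 := degree_quadratic h1'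
  obtain ⟨α, β, h⟩ := FiniteField.exists_root_sum_quadratic hd1 hd2 (card_odd h2)
  refine ⟨α, β, ?_⟩
  simp only [eval_add, eval_mul, eval_C, eval_pow, eval_X] at h
  linear_combination h

theorem rep_value [Fintype F] (hf : SymF f) (h2 : (2 : F) ≠ 0) {m : ℕ}
    (a : Fin m → (Fin n → F)) (ha : Nd f a) (hm : m + 2 ≤ n) (M : F) :
    ∃ t, Perp f a t ∧ f t t = M := by
  obtain ⟨s₁, hs₁a, hs₁⟩ := exists_noniso_perp_s hf h2 a ha (by omega)
  have hnd1 := nd_cons1 hf a ha s₁ hs₁a hs₁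
  obtain ⟨s₂, hs₂a, hs₂⟩ := exists_noniso_perp_s hf h2 _ hnd1 (by omega)
  rw [perp_cons] at hs₂a
  obtain ⟨h21, hs₂a⟩ := hs₂a
  have h12 : f s₁ s₂ = 0 := by rw [s_symm hf, h21]
  obtain ⟨α, β, hαβ⟩ := solve2 h2 (f s₁ s₁) (f s₂ s₂) M hs₁ hs₂
  refine ⟨α • s₁ + β • s₂, perp_add hf a _ _ (perp_smul hf a _ _ hs₁a) (perp_smul hf a _ _ hs₂a),
    ?_⟩
  simp only [hf.add_left, f_add_right hf, hf.smul_left, s_smul_right hf, h12, h21]
  linear_combination hαβ

theorem partner (hf : SymF f) (h2 : (2 : F) ≠ 0) {m : ℕ} (a : Fin m → (Fin n → F))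
    (ha : Nd f a) (w : Fin n → F) (hw0 : w ≠ 0) (hwa : Perp f a w) (hww : f w w = 0) :
    ∃ w', f w' w' = 0 ∧ f w' w = 1 ∧ Perp f a w' := by
  obtain ⟨z, hzw, hza⟩ := ex_dual hf a ha w hw0 hwa
  refine ⟨z - (f z z / 2) • w, ?_, ?_, perp_sub hf a _ _ hza (perp_smul hf a _ _ hwa)⟩
  · rw [f_sub_left hf, f_sub_right hf, f_sub_right hf, hf.smul_left, hf.smul_left,
      s_smul_right hf, s_smul_right hf, hww, hzw, s_symm hf w z, hzw]
    field_simp
    ring
  · rw [f_sub_left hf, hf.smul_left, hww, hzw]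
    ring

section rel

variable (Rel : (Fin n → F) → (Fin n → F) → Prop)

theorem one_step [Fintype F] (hf : SymF f) (h2 : (2 : F) ≠ 0) (hn : 5 ≤ n)
    (hrefl : ∀ x, Rel x x)
    (hstep : ∀ x u w c, f u u = 0 → f w w = 0 → f u w = 0 →
      Rel x (x + (c * f x u) • w - (c * f x w) • u))
    (x w : Fin n → F) (hxx : f x x ≠ 0) (hww : f w w = 0) (hxw : f x w = 0) : Rel x (x + w) := by
  by_cases hw0 : w = 0
  · rw [hw0, add_zero]
    exact hrefl x
  have hnd1 := nd_cons1 hf e0 nd_e0 x (perp_e0 x) hxx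
  have hwx : f w x = 0 := by rw [s_symm hf, hxw]
  have hwa : Perp f (Fin.cons x e0 : Fin (0 + 1) → (Fin n → F)) w :=
    (perp_cons _ _ _).2 ⟨hwx, perp_e0 _⟩
  obtain ⟨w', hw'w', hw'w, hw'a⟩ := partner hf h2 _ hnd1 w hw0 hwa hww
  have hnd3 := nd_cons2 hf _ hnd1 w w' hwa hw'a hww hw'w' (by rw [hw'w]; exact one_ne_zero)
  obtain ⟨t, hta, htt⟩ := rep_value hf h2 _ hnd3 (by omega) (-(f x x))
  rw [perp_cons, perp_cons, perp_cons] at hta
  obtain ⟨htw, _, htx, _⟩ := hta
  have hxt : f x t = 0 := by rw [s_symm hf, htx]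
  have huu : f (x + t) (x + t) = 0 := by
    rw [hf.add_left, f_add_right hf, f_add_right hf, htx, hxt, htt]
    ring
  have huw : f (x + t) w = 0 := by rw [hf.add_left, hxw, htw, add_zero]
  have hxu : f x (x + t) = f x x := by rw [f_add_right hf, hxt, add_zero]
  have h := hstep x (x + t) w (1 / f x x) huu hww huw
  rw [hxu, hxw, mul_zero, zero_smul, sub_zero] at h
  have e : 1 / f x x * f x x = 1 := by field_simp
  rw [e, one_smul] at h
  exact h

theorem two_step [Fintype F] (hf : SymF f) (h2 : (2 : F) ≠ 0) (hn : 5 ≤ n)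
    (hrefl : ∀ x, Rel x x) (htrans : ∀ x y z, Rel x y → Rel y z → Rel x z)
    (hstep : ∀ x u w c, f u u = 0 → f w w = 0 → f u w = 0 →
      Rel x (x + (c * f x u) • w - (c * f x w) • u))
    (x y : Fin n → F) (hxx : f x x ≠ 0) (hyy : f y y = f x x)
    (hD : f x x * f x x - f x y * f x y ≠ 0) : Rel x y := by
  have hyx : f y x = f x y := s_symm hf y x
  have hnd1 := nd_cons1 hf e0 nd_e0 x (perp_e0 x) hxx
  obtain ⟨y', hy'⟩ : ∃ y', y' = y - (f x y / f x x) • x := ⟨_, rfl⟩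
  have hy'x : f y' x = 0 := by
    rw [hy', f_sub_left hf, hf.smul_left, hyx]
    field_simp
    ring
  have hy'y' : f y' y' ≠ 0 := by
    have h1 : f y' y' = (f x x * f x x - f x y * f x y) / f x x := by
      rw [hy']
      simp only [f_sub_left hf, f_sub_right hf, hf.smul_left, s_smul_right hf, hyx, hyy]
      field_simp
      ring
    rw [h1]
    exact div_ne_zero hD hxx
  have hnd2 := nd_cons1 hf _ hnd1 y' ((perp_cons _ _ _).2 ⟨hy'x, perp_e0 _⟩) hy'y'
  have hs : f x x + f x y ≠ 0 := by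
    intro h
    apply hD
    have : f x y = -(f x x) := by linear_combination h
    rw [this]
    ring
  obtain ⟨lam, hlam⟩ : ∃ lam, lam = f x x / (f x x + f x y) := ⟨_, rfl⟩
  have hlam1 : lam * (f x x + f x y) = f x x := by
    rw [hlam, div_mul_cancel₀ _ hs]
  obtain ⟨t, hta, htt⟩ := rep_value hf h2 _ hnd2 (by omega) (f x x - 2 * lam * f x x)
  rw [perp_cons, perp_cons] at hta
  obtain ⟨hty', htx, _⟩ := hta
  have hty : f t y = 0 := by
    have h1 : y = y' + (f x y / f x x) • x := by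
      rw [hy']
      abel
    rw [h1, f_add_right hf, s_smul_right hf, hty', htx]
    ring
  have hxt : f x t = 0 := by rw [s_symm hf, htx]
  have hyt : f y t = 0 := by rw [s_symm hf, hty]
  obtain ⟨z, hz⟩ : ∃ z, z = lam • (x + y) + t := ⟨_, rfl⟩
  have hzx : f z x = f x x := by
    rw [hz, hf.add_left, hf.smul_left, hf.add_left, htx, hyx]
    linear_combination hlam1
  have hzy : f z y = f x x := by
    rw [hz, hf.add_left, hf.smul_left, hf.add_left, hty, hyy]
    linear_combination hlam1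
  have hzz : f z z = f x x := by
    have h1 : f z z = lam * (f x z + f y z) + f t z := by
      have h0 : f z z = f (lam • (x + y) + t) z := by rw [← hz]
      rw [h0, hf.add_left, hf.smul_left, hf.add_left]
    have htz : f t z = f t t := by
      rw [hz, f_add_right hf, s_smul_right hf, f_add_right hf, htx, hty]
      ring
    rw [h1, s_symm hf x z, s_symm hf y z, hzx, hzy, htz, htt]
    ring
  have hxz : f x z = f x x := by rw [s_symm hf, hzx]
  have hyz : f y z = f x x := by rw [s_symm hf, hzy]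
  have r1 : Rel x (x + (z - x)) := one_step Rel hf h2 hn hrefl hstep x (z - x) hxx (by
    rw [f_sub_left hf, f_sub_right hf, f_sub_right hf, hzz, hzx, hxz]
    ring) (by rw [f_sub_right hf, hxz, sub_self])
  have r2 : Rel z (z + (y - z)) := one_step Rel hf h2 hn hrefl hstep z (y - z) (by
    rw [hzz]; exact hxx) (by
    rw [f_sub_left hf, f_sub_right hf, f_sub_right hf, hzz, hzy, hyz, hyy]
    ring) (by rw [f_sub_right hf, hzy, hzz, sub_self])
  have e1 : x + (z - x) = z := by abel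
  have e2 : z + (y - z) = y := by abel
  rw [e1] at r1
  rw [e2] at r2
  exact htrans x z y r1 r2

theorem connector [Fintype F] (hf : SymF f) (h2 : (2 : F) ≠ 0) (hn : 5 ≤ n)
    (x y : Fin n → F) (hxx : f x x ≠ 0) :
    ∃ z, f z z = f x x ∧ f z x = 0 ∧ f z y = 0 := by
  have hnd1 := nd_cons1 hf e0 nd_e0 x (perp_e0 x) hxx
  obtain ⟨y₁, hy₁⟩ : ∃ y₁, y₁ = y - (f y x / f x x) • x := ⟨_, rfl⟩
  have hy₁x : f y₁ x = 0 := by
    rw [hy₁, f_sub_left hf, hf.smul_left]
    field_simp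
    ring
  have hy₁a : Perp f (Fin.cons x e0 : Fin (0 + 1) → (Fin n → F)) y₁ :=
    (perp_cons _ _ _).2 ⟨hy₁x, perp_e0 _⟩
  have hy : y = y₁ + (f y x / f x x) • x := by
    rw [hy₁]
    abel
  have fin : ∀ z, f z x = 0 → f z y₁ = 0 → f z y = 0 := by
    intro z h1 h2'
    rw [hy, f_add_right hf, s_smul_right hf, h1, h2']
    ring
  by_cases hc1 : f y₁ y₁ = 0
  · by_cases hc2 : y₁ = 0
    · obtain ⟨t, hta, htt⟩ := rep_value hf h2 _ hnd1 (by omega) (f x x)
      rw [perp_cons] at hta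
      refine ⟨t, htt, hta.1, fin t hta.1 ?_⟩
      rw [hc2, f_zero_right hf]
    · obtain ⟨y₂, hy₂y₂, hy₂y₁, hy₂a⟩ := partner hf h2 _ hnd1 y₁ hc2 hy₁a hc1
      have hnd3 := nd_cons2 hf _ hnd1 y₁ y₂ hy₁a hy₂a hc1 hy₂y₂ (by
        rw [hy₂y₁]; exact one_ne_zero)
      obtain ⟨t, hta, htt⟩ := rep_value hf h2 _ hnd3 (by omega) (f x x)
      rw [perp_cons, perp_cons, perp_cons] at hta
      exact ⟨t, htt, hta.2.2.1, fin t hta.2.2.1 hta.1⟩
  · have hnd2 := nd_cons1 hf _ hnd1 y₁ hy₁a hc1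
    obtain ⟨t, hta, htt⟩ := rep_value hf h2 _ hnd2 (by omega) (f x x)
    rw [perp_cons, perp_cons] at hta
    exact ⟨t, htt, hta.2.1, fin t hta.2.1 hta.1⟩

theorem trans_rel [Fintype F] (hf : SymF f) (h2 : (2 : F) ≠ 0) (hn : 5 ≤ n)
    (hrefl : ∀ x, Rel x x) (htrans : ∀ x y z, Rel x y → Rel y z → Rel x z)
    (hstep : ∀ x u w c, f u u = 0 → f w w = 0 → f u w = 0 →
      Rel x (x + (c * f x u) • w - (c * f x w) • u))
    (x y : Fin n → F) (hxx : f x x ≠ 0) (hyy : f y y = f x x) : Rel x y := by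
  obtain ⟨z, hzz, hzx, hzy⟩ := connector hf h2 hn x y hxx
  have hxz : f x z = 0 := by rw [s_symm hf, hzx]
  have r1 := two_step Rel hf h2 hn hrefl htrans hstep x z hxx hzz (by
    rw [hxz, mul_zero, sub_zero]
    exact mul_ne_zero hxx hxx)
  have r2 := two_step Rel hf h2 hn hrefl htrans hstep z y (by rw [hzz]; exact hxx)
    (by rw [hzz, hyy]) (by
    rw [hzz, hzy, mul_zero, sub_zero]
    exact mul_ne_zero hxx hxx)
  exact htrans x z y r1 r2

end rel

end Cfsg.Agent.Lib.Helper28.OGen
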