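import Cfsg.Agent.Lib.Helper28.OMax
import Cfsg.Agent.S0795

set_option autoImplicit false

open Cfsg

namespace Cfsg.Agent.Lib.Helper28.OMaxQ

open Matrix Cfsg.Agent.Lib.helper6 Cfsg.Agent.Lib.helper6.CD Cfsg.Agent.Lib.Helper28.HForm
  Cfsg.Agent.Lib.Helper28.OGen Cfsg.Agent.Lib.Helper28.OMax Cfsg.Agent.S0794 Cfsg.Agent.S0795

variable {n : ℕ} {F : Type*} [Field F]

theorem sing_of_pf (h2 : (2 : F) ≠ 0) (Q : QuadraticForm F (Fin n → F)) {u : Fin n → F}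
    (h : pf Q u u = 0) : Q u = 0 := by
  rw [pf_self] at h
  exact (mul_eq_zero.1 h).resolve_left h2

theorem mem_omegaGL_iff (Q : QuadraticForm F (Fin n → F))
    (t : Matrix.GeneralLinearGroup (Fin n) F) :
    t ∈ Cfsg.Geo.omegaGL (⇑Q) ↔ ∃ g : ↥(Cfsg.isometryGroup F ⇑Q), g ∈ Cfsg.Omega F ⇑Q ∧
      (g : Matrix.GeneralLinearGroup (Fin n) F) = t := by
  unfold Cfsg.Geo.omegaGL
  rw [Subgroup.mem_map]
  rfl

theorem isSg_matrix (Q : QuadraticForm F (Fin n → F))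
    (t : Matrix.GeneralLinearGroup (Fin n) F) (u v : Fin n → F) (c : F)
    (ht : IsSg (pf Q) t u v c) :
    (t : Matrix (Fin n) (Fin n) F) = Cfsg.siegelMatrix ⇑Q u v c := by
  rw [Matrix.ext_iff_mulVec]
  intro x
  rw [ht x, siegelMatrix_mulVec]
  rfl

theorem isSg_of_matrix (Q : QuadraticForm F (Fin n → F))
    (t : Matrix.GeneralLinearGroup (Fin n) F) (u v : Fin n → F) (c : F)
    (ht : (t : Matrix (Fin n) (Fin n) F) = Cfsg.siegelMatrix ⇑Q u v c) :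
    IsSg (pf Q) t u v c := by
  intro x
  rw [ht, siegelMatrix_mulVec]
  rfl

theorem sg_mem [Fintype F] (h2 : (2 : F) ≠ 0) (hn : 5 ≤ n) (Q : QuadraticForm F (Fin n → F))
    (hQ : (QuadraticMap.polarBilin Q).Nondegenerate)
    (t : Matrix.GeneralLinearGroup (Fin n) F) (u v : Fin n → F) (c : F)
    (hu : pf Q u u = 0) (hv : pf Q v v = 0) (huv : pf Q u v = 0) (ht : IsSg (pf Q) t u v c) :
    t ∈ Cfsg.Geo.omegaGL (⇑Q) := by
  have hu' := sing_of_pf h2 Q hu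
  have hv' := sing_of_pf h2 Q hv
  have huv' : QuadraticMap.polar (⇑Q) u v = 0 := huv
  rw [mem_omegaGL_iff]
  refine ⟨siegelElt Q u v hu' hv' huv' c,
    (Cfsg.Agent.S0794.result h2 hn Q hQ u v hu' hv' huv' c _ rfl).2, ?_⟩
  apply Units.ext
  rw [isSg_matrix Q t u v c ht]
  rfl

theorem ts_max_Q [Fintype F] (h2 : (2 : F) ≠ 0) (hn : 5 ≤ n) (Q : QuadraticForm F (Fin n → F))
    (hQ : (QuadraticMap.polarBilin Q).Nondegenerate)
    (W : Submodule F (Fin n → F)) (hW0 : W ≠ ⊥) (hW : ∀ w ∈ W, Q w = 0)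
    (hk : Odd n ∨ 2 * Module.finrank F W + 3 ≤ n) :
    Cfsg.Geo.IsMaximalIn (Cfsg.Geo.omegaGL (⇑Q))
      (Cfsg.Geo.subspaceStabilizer W ⊓ Cfsg.Geo.omegaGL (⇑Q)) := by
  have hf := pf_symF Q hQ
  apply ts_max_orth hf h2 hn (Cfsg.Geo.omegaGL (⇑Q))
  · intro g hg x y
    rw [mem_omegaGL_iff] at hg
    obtain ⟨g', _, rfl⟩ := hg
    exact polar_iso Q g' x y
  · intro t u v c hu hv huv ht
    exact sg_mem h2 hn Q hQ t u v c hu hv huv ht
  · intro u v c hu hv huv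
    have hu' := sing_of_pf h2 Q hu
    have hv' := sing_of_pf h2 Q hv
    have huv' : QuadraticMap.polar (⇑Q) u v = 0 := huv
    exact ⟨(siegelElt Q u v hu' hv' huv' c : Matrix.GeneralLinearGroup (Fin n) F),
      isSg_of_matrix Q _ u v c rfl⟩
  · intro M hM
    unfold Cfsg.Geo.omegaGL
    rw [Cfsg.Agent.S0795.result h2 hn Q hQ, MonoidHom.map_closure, Subgroup.closure_le]
    rintro _ ⟨g, ⟨u, v, c, hu, hv, huv, hg⟩, rfl⟩
    refine hM _ u v c ?_ ?_ huv (isSg_of_matrix Q _ u v c hg)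
    · rw [pf_self, hu, mul_zero]
    · rw [pf_self, hv, mul_zero]
  · exact hW0
  · intro x hx y hy
    show QuadraticMap.polar (⇑Q) x y = 0
    unfold QuadraticMap.polar
    rw [hW x hx, hW y hy, hW (x + y) (W.add_mem hx hy)]
    ring
  · exact hk

end Cfsg.Agent.Lib.Helper28.OMaxQ
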