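import Cfsg.Agent.Lib.Helper28.OIwa
import Cfsg.Agent.Lib.Helper28.OMaxQ
import Cfsg.Agent.Lib.Helper28.OTrans

set_option autoImplicit false

open Cfsg

namespace Cfsg.Agent.Lib.Helper28.OIwaQ

open Matrix Cfsg.Agent.Lib.Lead Cfsg.Agent.Lib.helper6 Cfsg.Agent.Lib.helper6.CD
  Cfsg.Agent.Lib.Helper28.HForm Cfsg.Agent.Lib.Helper28.OGen Cfsg.Agent.Lib.Helper28.OMax
  Cfsg.Agent.Lib.Helper28.OMaxQ Cfsg.Agent.Lib.Helper28.OIwa Cfsg.Agent.Lib.Helper28.OTrans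
  Cfsg.Agent.S0794 Cfsg.Agent.S0795

theorem sgGroup_omegaGL {n : ℕ} {F : Type*} [Field F] [Fintype F] (h2 : (2 : F) ≠ 0) (hn : 5 ≤ n)
    (Q : QuadraticForm F (Fin n → F)) (hQ : (QuadraticMap.polarBilin Q).Nondegenerate) :
    SgGroup (pf Q) (Cfsg.Geo.omegaGL (⇑Q)) where
  iso := by
    intro g hg x y
    rw [mem_omegaGL_iff] at hg
    obtain ⟨g', _, rfl⟩ := hg
    exact polar_iso Q g' x y
  sg := fun t u v c hu hv huv ht => sg_mem h2 hn Q hQ t u v c hu hv huv ht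
  ex := by
    intro u v c hu hv huv
    have hu' := sing_of_pf h2 Q hu
    have hv' := sing_of_pf h2 Q hv
    have huv' : QuadraticMap.polar (⇑Q) u v = 0 := huv
    exact ⟨(siegelElt Q u v hu' hv' huv' c : Matrix.GeneralLinearGroup (Fin n) F),
      isSg_of_matrix Q _ u v c rfl⟩
  gen := by
    intro M hM
    unfold Cfsg.Geo.omegaGL
    rw [Cfsg.Agent.S0795.result h2 hn Q hQ, MonoidHom.map_closure, Subgroup.closure_le]
    rintro _ ⟨g, ⟨u, v, c, hu, hv, huv, hg⟩, rfl⟩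
    refine hM _ u v c ?_ ?_ huv (isSg_of_matrix Q _ u v c hg)
    · rw [pf_self, hu, mul_zero]
    · rw [pf_self, hv, mul_zero]

theorem map_center {A B : Type*} [Group A] [Group B] (φ : A ≃* B) :
    (Subgroup.center A).map φ.toMonoidHom = Subgroup.center B := by
  ext x
  rw [Subgroup.mem_map_equiv, Subgroup.mem_center_iff, Subgroup.mem_center_iff]
  constructor
  · intro h b
    have h1 := congrArg φ (h (φ.symm b))
    simpa using h1
  · intro h a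
    have h1 := h (φ a)
    apply φ.injective
    simpa using h1

theorem simple_transfer {A B : Type*} [Group A] [Group B] (φ : A ≃* B)
    (h : IsSimpleGroup (B ⧸ Subgroup.center B)) : IsSimpleGroup (A ⧸ Subgroup.center A) :=
  (QuotientGroup.congr (Subgroup.center A) (Subgroup.center B) φ (map_center φ)).isSimpleGroup

theorem pomega_simple_any {ι : Type} [Fintype ι] [DecidableEq ι] {F : Type*} [Field F] [Fintype F]
    (h2 : (2 : F) ≠ 0) (hn : 7 ≤ Fintype.card ι) (Q : QuadraticForm F (ι → F))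
    (hQ : (QuadraticMap.polarBilin Q).Nondegenerate) :
    IsSimpleGroup (Cfsg.POmega F (⇑Q)) := by
  obtain ⟨e, he⟩ : ∃ e : ι ≃ Fin (Fintype.card ι), e = Fintype.equivFin ι := ⟨_, rfl⟩
  have hsg := sgGroup_omegaGL h2 (by omega) (RI.qReindex e Q) (RI.qReindex_nondeg e Q hQ)
  have h1 := iwasawa_orth (pf_symF _ (RI.qReindex_nondeg e Q hQ)) h2 hn hsg
  let φ₁ : ↥(Cfsg.Omega F (⇑Q)) ≃* ↥(Cfsg.Geo.omegaGL (⇑Q)) :=
    Subgroup.equivMapOfInjective (Cfsg.Omega F (⇑Q)) (Cfsg.isometryGroup F (⇑Q)).subtype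
      (Subgroup.subtype_injective _)
  let φ₂ : ↥(Cfsg.Geo.omegaGL (⇑Q)) ≃*
      ↥((Cfsg.Geo.omegaGL (⇑Q)).map (RI.glReindex (F := F) e).toMonoidHom) :=
    (RI.glReindex (F := F) e).subgroupMap (Cfsg.Geo.omegaGL (⇑Q))
  let φ₃ : ↥((Cfsg.Geo.omegaGL (⇑Q)).map (RI.glReindex (F := F) e).toMonoidHom) ≃*
      ↥(Cfsg.Geo.omegaGL (⇑(RI.qReindex e Q))) :=
    MulEquiv.subgroupCongr (map_omegaGL e (⇑Q))
  exact simple_transfer ((φ₁.trans φ₂).trans φ₃) h1

end Cfsg.Agent.Lib.Helper28.OIwaQ
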