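import Cfsg.Agent.Lib.Helper28.OQ

set_option autoImplicit false

open Cfsg

namespace Cfsg.Agent.Lib.Helper28.OOdd

open Matrix Cfsg.Agent.Lib.Helper28.HForm Cfsg.Agent.Lib.Helper28.OGen
  Cfsg.Agent.Lib.Helper28.OMax Cfsg.Agent.Lib.Helper28.OIwa Cfsg.Agent.Lib.Helper28.OQ

variable {n : ℕ} {F : Type*} [Field F] {Q : (Fin n → F) → F}
  {f : (Fin n → F) → (Fin n → F) → F}

theorem sing_of_f (hq : QF Q f) (h2 : (2 : F) ≠ 0) {u : Fin n → F} (h : f u u = 0) : Q u = 0 := by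
  rw [f_self hq] at h
  exact (mul_eq_zero.1 h).resolve_left h2

theorem odd_vfacts [Fintype F] (hq : QF Q f) (h2 : (2 : F) ≠ 0) (hn : 7 ≤ n) : VFacts Q f where
  hyp_perp := by
    intro z w hz hw hzw
    have hf := hq.sym
    have hnd2 := nd_cons2 hf e0 nd_e0 z w (perp_e0 z) (perp_e0 w) (f_sing hq hz) (f_sing hq hw) (by
      rw [s_symm hf]
      exact hzw)
    obtain ⟨s, hsa, hss, hs0⟩ := ex_sing hf h2 _ hnd2 (by omega)
    obtain ⟨s', hs's', hs's, hs'a⟩ := partner hf h2 _ hnd2 s hs0 hsa hss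
    rw [perp_cons, perp_cons] at hsa hs'a
    exact ⟨s, s', sing_of_f hq h2 hss, sing_of_f hq h2 hs's', hsa.1, hsa.2.1, hs'a.1, hs'a.2.1,
      hs's⟩
  decomp := by
    intro w y hw hw0 hyw
    obtain ⟨y₁, y₂, hsum, h11, h22, h1w, h2w⟩ := decomp hq.sym h2 (by omega) w y (f_sing hq hw)
      hw0 hyw
    exact ⟨y₁, y₂, hsum, sing_of_f hq h2 h11, sing_of_f hq h2 h22, h1w, h2w⟩
  sing := by
    obtain ⟨s, _, hs, hs0⟩ := ex_sing hq.sym h2 (e0 : Fin 0 → (Fin n → F)) nd_e0 (by omega)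
    exact ⟨s, sing_of_f hq h2 hs, hs0⟩
  perfect := by
    intro u v hu hv huv hu0 hs
    obtain ⟨z, w, hz, hw, h1, h3, h4, h5, h6⟩ := perfect_aux hq.sym h2 hn u v (f_sing hq hu)
      (f_sing hq hv) huv hu0 hs
    exact ⟨z, w, sing_of_f hq h2 hz, sing_of_f hq h2 hw, h1, h3, h4, h5, h6⟩

end Cfsg.Agent.Lib.Helper28.OOdd
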