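import Cfsg.Agent.Lib.Helper28.OIwa2
import Cfsg.Agent.Lib.Helper28.OChar2
import Cfsg.Agent.Lib.Helper28.OOdd
import Cfsg.Agent.Lib.Helper28.OIwaQ

set_option autoImplicit false

open Cfsg

namespace Cfsg.Agent.Lib.Helper28.OGenQ

open Matrix Cfsg.Agent.Lib.Lead Cfsg.Agent.Lib.helper6 Cfsg.Agent.Lib.helper6.CD
  Cfsg.Agent.Lib.Helper28.HForm Cfsg.Agent.Lib.Helper28.OGen Cfsg.Agent.Lib.Helper28.OMax
  Cfsg.Agent.Lib.Helper28.OMaxQ Cfsg.Agent.Lib.Helper28.OIwa Cfsg.Agent.Lib.Helper28.OQ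
  Cfsg.Agent.Lib.Helper28.OMax2 Cfsg.Agent.Lib.Helper28.OIwa2 Cfsg.Agent.Lib.Helper28.OChar2
  Cfsg.Agent.Lib.Helper28.OOdd Cfsg.Agent.Lib.Helper28.OTrans Cfsg.Agent.S0794 Cfsg.Agent.S0795

variable {n : ℕ} {F : Type*} [Field F]

theorem qf_of_quad (Q : QuadraticForm F (Fin n → F))
    (hQ : (QuadraticMap.polarBilin Q).Nondegenerate) : QF (⇑Q) (pf Q) where
  sym := pf_symF Q hQ
  polar := by
    intro x y
    show Q (x + y) = Q x + Q y + QuadraticMap.polar (⇑Q) x y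
    unfold QuadraticMap.polar
    ring
  smul := by
    intro c x
    rw [QuadraticMap.map_smul, smul_eq_mul]

theorem sg_mem_q (Q : QuadraticForm F (Fin n → F))
    (hQ : (QuadraticMap.polarBilin Q).Nondegenerate) (vf : VFacts (⇑Q) (pf Q))
    (t : Matrix.GeneralLinearGroup (Fin n) F) (u v : Fin n → F) (c : F)
    (hu : Q u = 0) (hv : Q v = 0) (huv : pf Q u v = 0) (ht : IsSg (pf Q) t u v c) :
    t ∈ Cfsg.Geo.omegaGL (⇑Q) := by
  have hq := qf_of_quad Q hQ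
  have hf := hq.sym
  by_cases hu0 : u = 0
  · rw [hu0] at ht
    rw [isSg_one_of_zero hf ht]
    exact Subgroup.one_mem _
  by_cases hs : v ∈ Submodule.span F {u}
  · obtain ⟨b, rfl⟩ := Submodule.mem_span_singleton.1 hs
    rw [isSg_one_of_dep hf ht]
    exact Subgroup.one_mem _
  obtain ⟨z, w, hz, hw, hzu, hzv, hwu, hwv, hzw⟩ := vf.perfect u v hu hv huv hu0 hs
  have hvz : QuadraticMap.polar (⇑Q) v z = 0 := by
    have : pf Q v z = 0 := by rw [s_symm hf, hzv]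
    exact this
  have huw : QuadraticMap.polar (⇑Q) u w = 0 := by
    have : pf Q u w = 0 := by rw [s_symm hf, hwu]
    exact this
  obtain ⟨h, hh⟩ : ∃ h : ↥(Cfsg.isometryGroup F ⇑Q), h = siegelElt Q v z hv hz hvz 1 := ⟨_, rfl⟩
  obtain ⟨t', ht'⟩ : ∃ t' : ↥(Cfsg.isometryGroup F ⇑Q), t' = siegelElt Q u w hu hw huw c :=
    ⟨_, rfl⟩
  have hhS : IsSg (pf Q) (h : Matrix.GeneralLinearGroup (Fin n) F) v z 1 := by
    rw [hh]
    exact isSg_of_matrix Q _ v z 1 rfl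
  have ht'S : IsSg (pf Q) (t' : Matrix.GeneralLinearGroup (Fin n) F) u w c := by
    rw [ht']
    exact isSg_of_matrix Q _ u w c rfl
  have h5 := isSg_commutator' hf (fun x y => polar_iso Q h x y) (f_sing hq hu) (f_sing hq hw) huv
    hzu hwu hwv hzw hhS ht'S
  have h6 := Subgroup.commutator_mem_commutator (Subgroup.mem_top h) (Subgroup.mem_top t')
  rw [commutatorElement_def, ← commutator_def] at h6
  rw [mem_omegaGL_iff]
  refine ⟨h * t' * h⁻¹ * t'⁻¹, h6, ?_⟩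
  apply gl_ext
  intro x
  rw [ht x]
  exact h5 x

theorem rel_step_q (Q : QuadraticForm F (Fin n → F)) (x u w : Fin n → F) (c : F)
    (hu : Q u = 0) (hw : Q w = 0) (huw : pf Q u w = 0) :
    Rel Q x (x + (c * pf Q x u) • w - (c * pf Q x w) • u) := by
  have huw' : QuadraticMap.polar (⇑Q) u w = 0 := huw
  refine ⟨siegelElt Q u w hu hw huw' c,
    Subgroup.subset_closure ⟨u, w, c, hu, hw, huw', rfl⟩, ?_⟩
  rw [siegelElt_coe, siegelMatrix_mulVec]
  show _ = x + (c * QuadraticMap.polar (⇑Q) x u) • w - (c * QuadraticMap.polar (⇑Q) x w) • u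
  rw [QuadraticMap.polar_comm (⇑Q) x u, QuadraticMap.polar_comm (⇑Q) x w]
  module

theorem omega_le_of_trans [Fintype F] (hn : 5 ≤ n) (Q : QuadraticForm F (Fin n → F))
    (hQ : (QuadraticMap.polarBilin Q).Nondegenerate)
    (htr : ∀ x y : Fin n → F, Q x ≠ 0 → Q y = Q x → Rel Q x y) :
    Cfsg.Omega F ⇑Q ≤ Subgroup.closure (Sset Q) := by
  have hN := closure_normal Q
  have hgen : Subgroup.closure (Rset Q) = ⊤ :=
    Cfsg.Agent.S0786.result Q hQ (Or.inr (by omega))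
  have hcomm : ∀ (h r : ↥(Cfsg.isometryGroup F ⇑Q)), r ∈ Rset Q →
      h * r * h⁻¹ * r⁻¹ ∈ Subgroup.closure (Sset Q) := by
    intro h r hr
    obtain ⟨a, ha, hra⟩ := hr
    have hiso := (mem_iso Q h.1).mp h.2
    obtain ⟨s, hs, hsa⟩ := htr a
      (((h : Matrix.GeneralLinearGroup (Fin n) F) : Matrix (Fin n) (Fin n) F) *ᵥ a) ha (hiso a)
    have e : h * r * h⁻¹ = s * r * s⁻¹ := by
      apply iso_ext
      rw [conj_refl Q h r a hra, conj_refl Q s r a hra, hsa]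
    rw [e]
    have h1 := hN.conj_mem s⁻¹ (inv_mem hs) r
    have e2 : s * r * s⁻¹ * r⁻¹ = s * (r * s⁻¹ * r⁻¹) := by group
    rw [e2]
    exact mul_mem hs h1
  have hcen : ∀ a : ↥(Cfsg.isometryGroup F ⇑Q),
      (QuotientGroup.mk' (Subgroup.closure (Sset Q))) a
        ∈ Subgroup.center (↥(Cfsg.isometryGroup F ⇑Q) ⧸ Subgroup.closure (Sset Q)) := by
    have h1 : Subgroup.closure (Rset Q) ≤ (Subgroup.center
        (↥(Cfsg.isometryGroup F ⇑Q) ⧸ Subgroup.closure (Sset Q))).comap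
        (QuotientGroup.mk' (Subgroup.closure (Sset Q))) := by
      rw [Subgroup.closure_le]
      intro r hr
      show (QuotientGroup.mk' (Subgroup.closure (Sset Q))) r ∈ Subgroup.center _
      rw [Subgroup.mem_center_iff]
      intro g
      obtain ⟨k, rfl⟩ := QuotientGroup.mk'_surjective (Subgroup.closure (Sset Q)) g
      rw [← map_mul, ← map_mul]
      show (QuotientGroup.mk (k * r) : ↥(Cfsg.isometryGroup F ⇑Q) ⧸ Subgroup.closure (Sset Q))
        = QuotientGroup.mk (r * k)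
      rw [QuotientGroup.eq]
      have h3 := hcomm k⁻¹ r hr
      have h4 := hN.conj_mem _ h3 r⁻¹
      have e : (k * r)⁻¹ * (r * k) = r⁻¹ * (k⁻¹ * r * k⁻¹⁻¹ * r⁻¹) * r⁻¹⁻¹ := by group
      rw [e]
      exact h4
    intro a
    have : a ∈ Subgroup.closure (Rset Q) := by
      rw [hgen]
      exact Subgroup.mem_top a
    exact h1 this
  show commutator _ ≤ _
  rw [commutator_eq_closure, Subgroup.closure_le]
  rintro _ ⟨a, b, rfl⟩
  suffices h7 : a * b * a⁻¹ * b⁻¹ ∈ Subgroup.closure (Sset Q) from h7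
  rw [← QuotientGroup.eq_one_iff]
  have h5 := (Subgroup.mem_center_iff.1 (hcen b)) ((QuotientGroup.mk' (Subgroup.closure (Sset Q))) a)
  have h6 : (QuotientGroup.mk (a * b) :
      ↥(Cfsg.isometryGroup F ⇑Q) ⧸ Subgroup.closure (Sset Q)) = QuotientGroup.mk (b * a) := h5
  rw [QuotientGroup.mk_mul, QuotientGroup.mk_mul, h6, QuotientGroup.mk_mul, QuotientGroup.mk_inv,
    QuotientGroup.mk_inv]
  group

theorem sgGroupQ_of_le [Fintype F] (Q : QuadraticForm F (Fin n → F))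
    (hQ : (QuadraticMap.polarBilin Q).Nondegenerate) (vf : VFacts (⇑Q) (pf Q))
    (hle : Cfsg.Omega F ⇑Q ≤ Subgroup.closure (Sset Q)) :
    SgGroupQ (⇑Q) (pf Q) (Cfsg.Geo.omegaGL (⇑Q)) where
  iso := by
    intro g hg x
    rw [mem_omegaGL_iff] at hg
    obtain ⟨g', _, rfl⟩ := hg
    exact (mem_iso Q g'.1).mp g'.2 x
  sg := fun t u v c hu hv huv ht => sg_mem_q Q hQ vf t u v c hu hv huv ht
  ex := by
    intro u v c hu hv huv
    have huv' : QuadraticMap.polar (⇑Q) u v = 0 := huv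
    exact ⟨(siegelElt Q u v hu hv huv' c : Matrix.GeneralLinearGroup (Fin n) F),
      isSg_of_matrix Q _ u v c rfl⟩
  gen := by
    intro M hM
    unfold Cfsg.Geo.omegaGL
    refine le_trans (Subgroup.map_mono hle) ?_
    rw [MonoidHom.map_closure, Subgroup.closure_le]
    rintro _ ⟨g, ⟨u, v, c, hu, hv, huv, hg⟩, rfl⟩
    exact hM _ u v c hu hv huv (isSg_of_matrix Q _ u v c hg)

theorem vfacts_quad [Fintype F] (hn : 7 ≤ n) (Q : QuadraticForm F (Fin n → F))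
    (hQ : (QuadraticMap.polarBilin Q).Nondegenerate) : VFacts (⇑Q) (pf Q) := by
  by_cases h2 : (2 : F) = 0
  · exact c2_vfacts (qf_of_quad Q hQ) h2 hn
  · exact odd_vfacts (qf_of_quad Q hQ) h2 hn

theorem sgGroupQ_quad [Fintype F] (hn : 7 ≤ n) (Q : QuadraticForm F (Fin n → F))
    (hQ : (QuadraticMap.polarBilin Q).Nondegenerate) :
    SgGroupQ (⇑Q) (pf Q) (Cfsg.Geo.omegaGL (⇑Q)) := by
  have hq := qf_of_quad Q hQ
  apply sgGroupQ_of_le Q hQ (vfacts_quad hn Q hQ)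
  by_cases h2 : (2 : F) = 0
  · apply omega_le_of_trans (by omega) Q hQ
    intro x y hx hxy
    exact c2_trans_rel (Rel Q) hq h2 (by omega) (rel_refl Q) (rel_trans Q)
      (fun x u w c hu hw huw => rel_step_q Q x u w c hu hw huw) x y hx hxy
  · exact omega_le h2 (by omega) Q hQ

end Cfsg.Agent.Lib.Helper28.OGenQ
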