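import Cfsg.Agent.Lib.Helper28.ONd

set_option autoImplicit false

open Cfsg

namespace Cfsg.Agent.Lib.Helper28.ONd2

open Matrix Cfsg.Agent.Lib.Helper28.HForm Cfsg.Agent.Lib.Helper28.OGen
  Cfsg.Agent.Lib.Helper28.OMax Cfsg.Agent.Lib.Helper28.OQ Cfsg.Agent.Lib.Helper28.OChar2
  Cfsg.Agent.Lib.Helper28.OHull Cfsg.Agent.Lib.Helper28.OMax2 Cfsg.Agent.Lib.Helper28.OIwa
  Cfsg.Agent.Lib.Helper28.ONd

variable {n : ℕ} {F : Type*} [Field F] {Q : (Fin n → F) → F}
  {f : (Fin n → F) → (Fin n → F) → F}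

theorem split_rep [Fintype F] (hq : QF Q f) {W O : Submodule F (Fin n → F)} (sp : Split f W O)
    (h4 : Module.finrank F W + 4 ≤ n) {s u : Fin n → F} (hsO : s ∈ O) (huO : u ∈ O)
    (hss : Q s = 0) (huu : Q u = 0) (hsu : f s u ≠ 0) (c : F) :
    ∃ o ∈ O, f o s = 0 ∧ f o u = 0 ∧ Q o = c := by
  have hf := hq.sym
  obtain ⟨a, ha, hspan⟩ := sp.nd hf
  have hsa := (sp.perp_iff hf a hspan s).2 hsO
  have hua := (sp.perp_iff hf a hspan u).2 huO
  have hnd := nd_cons2 hf a ha u s hua hsa (f_sing hq huu) (f_sing hq hss) hsu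
  by_cases h2 : (2 : F) = 0
  · obtain ⟨t, htc, htt⟩ := c2_rep hq h2 _ hnd (by omega) c
    rw [perp_cons, perp_cons] at htc
    obtain ⟨htu, hts, hta⟩ := htc
    exact ⟨t, (sp.perp_iff hf a hspan t).1 hta, hts, htu, htt⟩
  · obtain ⟨t, htc, htt⟩ := rep_value hf h2 _ hnd (by omega) (2 * c)
    rw [perp_cons, perp_cons] at htc
    obtain ⟨htu, hts, hta⟩ := htc
    refine ⟨t, (sp.perp_iff hf a hspan t).1 hta, hts, htu, ?_⟩
    rw [f_self hq] at htt
    exact mul_left_cancel₀ h2 htt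

theorem sg_in_H (hq : QF Q f)
    {G : Subgroup (Matrix.GeneralLinearGroup (Fin n) F)} (hG : SgGroupQ Q f G)
    {W O : Submodule F (Fin n → F)} (sp : Split f W O)
    {t : Matrix.GeneralLinearGroup (Fin n) F} {a b : Fin n → F} {c : F}
    (haO : a ∈ O) (hbO : b ∈ O) (ha : Q a = 0) (hb : Q b = 0) (hab : f a b = 0)
    (ht : IsSg f t a b c) :
    t ∈ Cfsg.Geo.subspaceStabilizer W ⊓ G ∧
      ∀ x ∈ W, (t : Matrix (Fin n) (Fin n) F) *ᵥ x = x := by
  have hf := hq.sym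
  have hfix : ∀ x ∈ W, (t : Matrix (Fin n) (Fin n) F) *ᵥ x = x := by
    intro x hx
    rw [ht x]
    unfold Tv
    rw [s_symm hf a x, s_symm hf b x, sp.orth x hx a haO, sp.orth x hx b hbO]
    simp
  refine ⟨⟨Cfsg.Agent.Lib.Helper28.UMax.stab_of_maps W t (fun x hx => ?_),
    hG.sg t a b c ha hb hab ht⟩, hfix⟩
  rw [hfix x hx]
  exact hx

theorem nd_torus [Fintype F] (hq : QF Q f)
    {G : Subgroup (Matrix.GeneralLinearGroup (Fin n) F)} (hG : SgGroupQ Q f G)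
    {W O : Submodule F (Fin n → F)} (sp : Split f W O) (h7 : Module.finrank F W + 7 ≤ n)
    {u : Fin n → F} (huO : u ∈ O) (hu : Q u = 0) (hu0 : u ≠ 0) (t : F) (ht : t ≠ 0) :
    ∃ h ∈ Cfsg.Geo.subspaceStabilizer W ⊓ G, (h : Matrix (Fin n) (Fin n) F) *ᵥ u = t • u ∧
      ∀ x ∈ W, (h : Matrix (Fin n) (Fin n) F) *ᵥ x = x := by
  have hf := hq.sym
  obtain ⟨u', hu'O, hu'u', hu'u⟩ := split_partner hq sp huO hu0 hu
  obtain ⟨s, hsO, hss, hs0, hsx, hsn⟩ := split_sing hq sp 2 ![u, u'] (by omega)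
  have hus : f u s = 0 := hsx 0
  have hu's : f u' s = 0 := hsx 1
  have hsS : ∀ x ∈ W ⊔ Submodule.span F (Set.range ![u, u']), f x s = 0 := by
    intro x hx
    obtain ⟨w, hw, y, hy, rfl⟩ := Submodule.mem_sup.1 hx
    rw [hf.add_left, sp.orth w hw s hsO, zero_add]
    have hp : Perp f ![u, u'] s := by
      intro i
      rw [s_symm hf]
      exact hsx i
    exact perp_span' hf _ s hp y hy
  obtain ⟨s', hs's', hs's, hs'S⟩ := rel_partner hq _ s hss hsS hsn
  have hs'O : s' ∈ O := sp.mem_O hf (fun w hw => hs'S w (Submodule.mem_sup_left hw))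
  have hus' : f u s' = 0 :=
    hs'S u (Submodule.mem_sup_right (Submodule.subset_span ⟨0, rfl⟩))
  have hu's' : f u' s' = 0 :=
    hs'S u' (Submodule.mem_sup_right (Submodule.subset_span ⟨1, rfl⟩))
  have hfuu := f_sing hq hu
  have hfs's' := f_sing hq hs's'
  have hxu : ∀ (c : F) (g : Matrix.GeneralLinearGroup (Fin n) F), IsSg f g u s c →
      (g : Matrix (Fin n) (Fin n) F) *ᵥ u = u := by
    intro c g hg
    rw [hg u]
    unfold Tv
    rw [hfuu, s_symm hf s u, hus]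
    simp
  have hxs' : ∀ (c : F) (g : Matrix.GeneralLinearGroup (Fin n) F), IsSg f g u s c →
      (g : Matrix (Fin n) (Fin n) F) *ᵥ s' = s' - c • u := by
    intro c g hg
    rw [hg s']
    unfold Tv
    rw [hus', s_symm hf s s', hs's]
    module
  have hyu : ∀ (c : F) (g : Matrix.GeneralLinearGroup (Fin n) F), IsSg f g u' s' c →
      (g : Matrix (Fin n) (Fin n) F) *ᵥ u = u + c • s' := by
    intro c g hg
    rw [hg u]
    unfold Tv
    rw [hu'u, s_symm hf s' u, hus']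
    module
  have hys' : ∀ (c : F) (g : Matrix.GeneralLinearGroup (Fin n) F), IsSg f g u' s' c →
      (g : Matrix (Fin n) (Fin n) F) *ᵥ s' = s' := by
    intro c g hg
    rw [hg s']
    unfold Tv
    rw [hu's', hfs's']
    simp
  obtain ⟨X1, hX1⟩ := hG.ex u s 1 hu hss hus
  obtain ⟨Y1, hY1⟩ := hG.ex u' s' 1 hu'u' hs's' hu's'
  obtain ⟨X2, hX2⟩ := hG.ex u s (-t) hu hss hus
  obtain ⟨Y2, hY2⟩ := hG.ex u' s' (-t⁻¹) hu'u' hs's' hu's'
  obtain ⟨hX1H, hX1W⟩ := sg_in_H hq hG sp huO hsO hu hss hus hX1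
  obtain ⟨hY1H, hY1W⟩ := sg_in_H hq hG sp hu'O hs'O hu'u' hs's' hu's' hY1
  obtain ⟨hX2H, hX2W⟩ := sg_in_H hq hG sp huO hsO hu hss hus hX2
  obtain ⟨hY2H, hY2W⟩ := sg_in_H hq hG sp hu'O hs'O hu'u' hs's' hu's' hY2
  refine ⟨X2 * Y2 * X2 * X1 * Y1 * X1, ?_, ?_, ?_⟩
  · exact Subgroup.mul_mem _ (Subgroup.mul_mem _ (Subgroup.mul_mem _ (Subgroup.mul_mem _
      (Subgroup.mul_mem _ hX2H hY2H) hX2H) hX1H) hY1H) hX1H
  · simp only [Cfsg.Agent.S5643.mul_mv]
    rw [hxu 1 X1 hX1, hyu 1 Y1 hY1, Matrix.mulVec_add, Matrix.mulVec_smul, hxu 1 X1 hX1,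
      hxs' 1 X1 hX1]
    have e1 : u + (1 : F) • (s' - (1 : F) • u) = s' := by module
    rw [e1, hxs' (-t) X2 hX2]
    have e2 : s' - (-t) • u = s' + t • u := by module
    rw [e2, Matrix.mulVec_add, Matrix.mulVec_smul, hys' _ Y2 hY2, hyu _ Y2 hY2]
    have e3 : s' + t • (u + (-t⁻¹) • s') = t • u := by
      have : t * t⁻¹ = 1 := mul_inv_cancel₀ ht
      match_scalars <;> simp [this]
    rw [e3, Matrix.mulVec_smul, hxu (-t) X2 hX2]
  · intro x hx
    simp only [Cfsg.Agent.S5643.mul_mv]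
    rw [hX1W x hx, hY1W x hx, hX1W x hx, hX2W x hx, hY2W x hx, hX2W x hx]

theorem ZZ_zero (hq : QF Q f) (M : Subgroup (Matrix.GeneralLinearGroup (Fin n) F))
    (W : Submodule F (Fin n → F)) (u : Fin n → F) : ZZ Q f M W u 0 :=
  ⟨W.zero_mem, 1, M.one_mem, isRho_one hq u⟩

theorem ZZ_scale [Fintype F] (hq : QF Q f)
    {G : Subgroup (Matrix.GeneralLinearGroup (Fin n) F)} (hG : SgGroupQ Q f G)
    {W O : Submodule F (Fin n → F)} (sp : Split f W O) (h7 : Module.finrank F W + 7 ≤ n)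
    (M : Subgroup (Matrix.GeneralLinearGroup (Fin n) F))
    (hHM : Cfsg.Geo.subspaceStabilizer W ⊓ G ≤ M)
    {u : Fin n → F} (huO : u ∈ O) (hu : Q u = 0) (hu0 : u ≠ 0)
    {z : Fin n → F} (hz : ZZ Q f M W u z) (t : F) : ZZ Q f M W u (t • z) := by
  by_cases ht : t = 0
  · rw [ht, zero_smul]
    exact ZZ_zero hq M W u
  obtain ⟨h, hhH, hhu, hhW⟩ := nd_torus hq hG sp h7 huO hu hu0 t ht
  obtain ⟨hzW, r, hrM, hr⟩ := hz
  have hhM := hHM hhH
  have h1 := isRho_conj hq (hG.iso h hhH.2) hr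
  rw [hhu, hhW z hzW] at h1
  exact ⟨W.smul_mem t hzW, h * r * h⁻¹, M.mul_mem (M.mul_mem hhM hrM) (M.inv_mem hhM),
    isRho_smul hq t h1⟩

theorem nd_max1 [Fintype F] (hq : QF Q f) (vf : VFacts Q f) (hn : 13 ≤ n)
    {G : Subgroup (Matrix.GeneralLinearGroup (Fin n) F)} (hG : SgGroupQ Q f G)
    {W O : Submodule F (Fin n → F)} (sp : Split f W O) (hd : Module.finrank F W = 1) :
    Cfsg.Geo.IsMaximalIn G (Cfsg.Geo.subspaceStabilizer W ⊓ G) := by
  have hf := hq.sym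
  have hW0 : W ≠ ⊥ := by
    rintro rfl
    rw [finrank_bot] at hd
    omega
  have hfr := sp.finrank hf
  apply nd_max_of hq vf hn hG sp hW0 (by omega)
  · intro g _ hle
    have h1 := Submodule.finrank_mono hle
    rw [Cfsg.Agent.Lib.Helper28.OPair.finrank_map_gl] at h1
    omega
  intro M hHM _ u huO hu hu0 z hz0 hz w hw
  have hzW := hz.1
  have h1 := (finrank_eq_one_iff_of_nonzero' (⟨z, hzW⟩ : W) (by
    intro h
    exact hz0 (congrArg Subtype.val h))).1 hd ⟨w, hw⟩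
  obtain ⟨c, hc⟩ := h1
  have hc' : c • z = w := congrArg Subtype.val hc
  rw [← hc']
  exact ZZ_scale hq hG sp (by omega) M hHM huO hu hu0 hz c


theorem two_good {K : Type*} [Fintype K] (h4 : 4 ≤ Fintype.card K) (a b : K) :
    ∃ y₁ y₂ : K, y₁ ≠ y₂ ∧ y₁ ≠ a ∧ y₁ ≠ b ∧ y₂ ≠ a ∧ y₂ ≠ b := by
  classical
  have h1 := Finset.card_le_card_sdiff_add_card (s := (Finset.univ : Finset K)) (t := {a, b})
  have h2 : ({a, b} : Finset K).card ≤ 2 := Finset.card_le_two
  rw [Finset.card_univ] at h1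
  have h3 : 1 < ((Finset.univ : Finset K) \ {a, b}).card := by omega
  obtain ⟨y₁, hy₁, y₂, hy₂, hne⟩ := Finset.one_lt_card.1 h3
  rw [Finset.mem_sdiff, Finset.mem_insert, Finset.mem_singleton] at hy₁ hy₂
  push Not at hy₁ hy₂
  exact ⟨y₁, y₂, hne, hy₁.2.1, hy₁.2.2, hy₂.2.1, hy₂.2.2⟩

theorem span_pair_top (W : Submodule F (Fin n → F)) (hd : Module.finrank F W = 2)
    (a b : Fin n → F) (ha : a ∈ W) (hb : b ∈ W) (ha0 : a ≠ 0)
    (hbn : b ∉ Submodule.span F {a}) : Submodule.span F (Set.range ![a, b]) = W := by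
  have hli : LinearIndependent F ![a, b] := li2 a b ha0 hbn
  apply Submodule.eq_of_le_of_finrank_eq
  · rw [Submodule.span_le]
    rintro _ ⟨i, rfl⟩
    fin_cases i
    · exact ha
    · exact hb
  · rw [finrank_span_eq_card hli, Fintype.card_fin, hd]

theorem nd_refl_step [Fintype F] (hq : QF Q f)
    {G : Subgroup (Matrix.GeneralLinearGroup (Fin n) F)} (hG : SgGroupQ Q f G)
    {W O : Submodule F (Fin n → F)} (sp : Split f W O) (h7 : Module.finrank F W + 7 ≤ n)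
    (M : Subgroup (Matrix.GeneralLinearGroup (Fin n) F))
    (hHM : Cfsg.Geo.subspaceStabilizer W ⊓ G ≤ M)
    (hRP : ∀ w o : Fin n → F, Q w ≠ 0 → Q o = Q w → f w o = 0 → ∃ h ∈ G, ∀ x,
      (h : Matrix (Fin n) (Fin n) F) *ᵥ x = x - (f x w / Q w) • w - (f x o / Q w) • o)
    {u : Fin n → F} (huO : u ∈ O) (hu : Q u = 0) (hu0 : u ≠ 0)
    {z : Fin n → F} (hz : ZZ Q f M W u z) {w : Fin n → F} (hwW : w ∈ W) (hww : Q w ≠ 0)
    (hzw : f z w ≠ 0) : ZZ Q f M W u w := by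
  have hf := hq.sym
  obtain ⟨u', hu'O, hu'u', hu'u⟩ := split_partner hq sp huO hu0 hu
  obtain ⟨o, hoO, hou', hou, hoo⟩ := split_rep hq sp (by omega) hu'O huO hu'u' hu
    (by rw [hu'u]; exact one_ne_zero) (Q w)
  obtain ⟨h, hhG, hh⟩ := hRP w o hww hoo (sp.orth w hwW o hoO)
  have hhW : ∀ x ∈ W, (h : Matrix (Fin n) (Fin n) F) *ᵥ x ∈ W := by
    intro x hx
    rw [hh x, sp.orth x hx o hoO, zero_div, zero_smul, sub_zero]
    exact W.sub_mem hx (W.smul_mem _ hwW)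
  have hhM : h ∈ M := hHM ⟨Cfsg.Agent.Lib.Helper28.UMax.stab_of_maps W h hhW, hhG⟩
  have hhu : (h : Matrix (Fin n) (Fin n) F) *ᵥ u = u := by
    rw [hh u, s_symm hf u w, sp.orth w hwW u huO, s_symm hf u o, hou]
    simp
  have h1 := ZZ_act hq hhM (hG.iso h hhG) hhu hhW hz
  have h2 := ZZ_sub hq sp huO hu hz h1
  rw [hh z, sp.orth z hz.1 o hoO, zero_div, zero_smul, sub_zero] at h2
  have e : z - (z - (f z w / Q w) • w) = (f z w / Q w) • w := by abel
  rw [e] at h2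
  have h3 := ZZ_scale hq hG sp h7 M hHM huO hu hu0 h2 (Q w / f z w)
  rw [smul_smul] at h3
  have e2 : Q w / f z w * (f z w / Q w) = 1 := by field_simp
  rw [e2, one_smul] at h3
  exact h3

theorem nd_max2 [Fintype F] (hq : QF Q f) (vf : VFacts Q f) (hn : 13 ≤ n)
    {G : Subgroup (Matrix.GeneralLinearGroup (Fin n) F)} (hG : SgGroupQ Q f G)
    {W O : Submodule F (Fin n → F)} (sp : Split f W O) (hd : Module.finrank F W = 2)
    (hRP : ∀ w o : Fin n → F, Q w ≠ 0 → Q o = Q w → f w o = 0 → ∃ h ∈ G, ∀ x,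
      (h : Matrix (Fin n) (Fin n) F) *ᵥ x = x - (f x w / Q w) • w - (f x o / Q w) • o)
    (hex : (∃ e ∈ W, e ≠ 0 ∧ Q e = 0) → 4 ≤ Fintype.card F) :
    Cfsg.Geo.IsMaximalIn G (Cfsg.Geo.subspaceStabilizer W ⊓ G) := by
  have hf := hq.sym
  have hW0 : W ≠ ⊥ := by
    rintro rfl
    rw [finrank_bot] at hd
    omega
  have hfr := sp.finrank hf
  apply nd_max_of hq vf hn hG sp hW0 (by omega)
  · intro g _ hle
    have h1 := Submodule.finrank_mono hle
    rw [Cfsg.Agent.Lib.Helper28.OPair.finrank_map_gl] at h1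
    omega
  intro M hHM _ u huO hu hu0 z hz0 hz
  have hzW := hz.1
  have h7 : Module.finrank F W + 7 ≤ n := by omega
  obtain ⟨Zs, hZs⟩ : ∃ Zs : Submodule F (Fin n → F), ∀ w, w ∈ Zs ↔ ZZ Q f M W u w :=
    ⟨{ carrier := {w | ZZ Q f M W u w}
       add_mem' := fun h1 h2 => ZZ_add hq sp huO hu h1 h2
       zero_mem' := ZZ_zero hq M W u
       smul_mem' := fun c _ h1 => ZZ_scale hq hG sp h7 M hHM huO hu hu0 h1 c }, fun w => Iff.rfl⟩
  have hstep : ∀ w ∈ W, Q w ≠ 0 → f z w ≠ 0 → w ∈ Zs := fun w hwW hww hzw =>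
    (hZs w).2 (nd_refl_step hq hG sp h7 M hHM hRP huO hu hu0 hz hwW hww hzw)
  have hfin : ∀ a b : Fin n → F, a ∈ W → b ∈ W → a ≠ 0 → b ∉ Submodule.span F {a} → a ∈ Zs →
      b ∈ Zs → ∀ w ∈ W, ZZ Q f M W u w := by
    intro a b ha hb ha0 hbn haZ hbZ w hw
    rw [← hZs]
    have h1 := span_pair_top W hd a b ha hb ha0 hbn
    rw [← h1] at hw
    refine (Submodule.span_le.2 ?_) hw
    rintro _ ⟨i, rfl⟩
    fin_cases i
    · exact haZ
    · exact hbZ
  by_cases hs : ∃ e ∈ W, e ≠ 0 ∧ Q e = 0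
  · have h4 := hex hs
    obtain ⟨e, heW, he0, hee⟩ := hs
    obtain ⟨e', he'W, he'e', he'e⟩ := split_partner hq (sp.symm hf) heW he0 hee
    have hee' : f e e' = 1 := by rw [s_symm hf, he'e]
    have he'n : e' ∉ Submodule.span F {e} := by
      intro h
      obtain ⟨c, rfl⟩ := Submodule.mem_span_singleton.1 h
      rw [hf.smul_left, f_sing hq hee, mul_zero] at he'e
      exact zero_ne_one he'e
    have hspan := span_pair_top W hd e e' heW he'W he0 he'n
    have hne : f z e' ≠ 0 ∨ f z e ≠ 0 := by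
      by_contra hcon
      push Not at hcon
      apply hz0
      apply sp.inf hf hzW
      apply sp.mem_O hf
      intro w hw
      have hp : Perp f ![e, e'] z := by
        intro i
        fin_cases i
        · exact hcon.2
        · exact hcon.1
      exact perp_span' hf _ z hp w (by rw [hspan]; exact hw)
    have hgood : ∀ y : F, y ≠ 0 → f z e + y * f z e' ≠ 0 → e + y • e' ∈ Zs := by
      intro y hy0 hy
      apply hstep _ (W.add_mem heW (W.smul_mem y he'W))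
      · rw [hq.polar, hq.smul, hee, he'e', s_smul_right hf, hee']
        simpa using hy0
      · rw [f_add_right hf, s_smul_right hf]
        exact hy
    obtain ⟨y₁, y₂, hy₁₂, h1, h2⟩ : ∃ y₁ y₂ : F, y₁ ≠ y₂ ∧ e + y₁ • e' ∈ Zs ∧
        e + y₂ • e' ∈ Zs := by
      by_cases hα : f z e' = 0
      · have hβ : f z e ≠ 0 := hne.resolve_left (fun h => h hα)
        obtain ⟨y₁, y₂, hy₁₂, h1, -, h2, -⟩ := two_good h4 (0 : F) 0
        refine ⟨y₁, y₂, hy₁₂, hgood y₁ h1 ?_, hgood y₂ h2 ?_⟩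
        · rw [hα, mul_zero, add_zero]
          exact hβ
        · rw [hα, mul_zero, add_zero]
          exact hβ
      · obtain ⟨y₁, y₂, hy₁₂, h1, h1', h2, h2'⟩ := two_good h4 (0 : F) (-(f z e) / f z e')
        refine ⟨y₁, y₂, hy₁₂, hgood y₁ h1 ?_, hgood y₂ h2 ?_⟩
        · intro h
          apply h1'
          field_simp
          linear_combination h
        · intro h
          apply h2'
          field_simp
          linear_combination h
    have h3 := Zs.sub_mem h1 h2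
    have e1 : e + y₁ • e' - (e + y₂ • e') = (y₁ - y₂) • e' := by module
    rw [e1] at h3
    have h4' := Zs.smul_mem (y₁ - y₂)⁻¹ h3
    rw [smul_smul, inv_mul_cancel₀ (sub_ne_zero.2 hy₁₂), one_smul] at h4'
    have h5 := Zs.sub_mem h1 (Zs.smul_mem y₁ h4')
    rw [add_sub_cancel_right] at h5
    exact hfin e e' heW he'W he0 he'n h5 h4'
  · push Not at hs
    have haniso : ∀ w ∈ W, w ≠ 0 → Q w ≠ 0 := fun w hw hw0 h => hw0 (by
      by_contra h0
      exact hs w hw h0 h)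
    obtain ⟨w₁, hw₁W, hzw₁⟩ : ∃ w₁ ∈ W, f z w₁ ≠ 0 := by
      by_contra hcon
      push Not at hcon
      apply hz0
      apply sp.inf hf hzW
      apply sp.mem_O hf
      intro w hw
      rw [s_symm hf]
      exact hcon w hw
    have hw₁0 : w₁ ≠ 0 := by
      rintro rfl
      exact hzw₁ (f_zero_right hf z)
    have hw₁Z := hstep w₁ hw₁W (haniso w₁ hw₁W hw₁0) hzw₁
    obtain ⟨y, hyW, hyn⟩ : ∃ y ∈ W, y ∉ Submodule.span F {w₁} := by
      by_contra hcon
      push Not at hcon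
      have hle : W ≤ Submodule.span F {w₁} := fun y hy => hcon y hy
      have h1 := Submodule.finrank_mono hle
      rw [finrank_span_singleton hw₁0] at h1
      omega
    by_cases hzy : f z y = 0
    · have hy' : w₁ + y ∉ Submodule.span F {w₁} := by
        intro h
        apply hyn
        have := Submodule.sub_mem _ h (Submodule.mem_span_singleton_self w₁)
        rwa [add_sub_cancel_left] at this
      have hy'0 : w₁ + y ≠ 0 := by
        intro h
        apply hy'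
        rw [h]
        exact Submodule.zero_mem _
      have hy'W := W.add_mem hw₁W hyW
      have hy'Z := hstep (w₁ + y) hy'W (haniso _ hy'W hy'0)
        (by rw [f_add_right hf, hzy, add_zero]; exact hzw₁)
      exact hfin w₁ (w₁ + y) hw₁W hy'W hw₁0 hy' hw₁Z hy'Z
    · have hy0 : y ≠ 0 := by
        rintro rfl
        exact hzy (f_zero_right hf z)
      exact hfin w₁ y hw₁W hyW hw₁0 hyn hw₁Z (hstep y hyW (haniso y hyW hy0) hzy)

end Cfsg.Agent.Lib.Helper28.ONd2
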