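import Cfsg.Agent.Lib.Helper28.SAP6b

/-!
# `A_n` and `S_n` (`n ≥ 5`) on 2 generators and at most 6 relators (helper28)
-/

namespace Cfsg.Agent.Lib.Helper28.SAP6

open Equiv Cfsg.Agent.Lib.helper7.SAP

universe u

/-- `A_{p+2+k}` on 2 generators and 6 relators -/
theorem sap6_presA (p k l : ℕ) [Fact p.Prime] (hp : 3 ≤ p) (hkl : k + 1 ≤ l) (hlp : l + 1 ≤ p)
    (hodd : Odd (l + k)) (h3 : ¬ 3 ∣ (l + k)) :
    ∃ rels : Finset (FreeGroup (Fin 2)), rels.card ≤ 6 ∧
      Nonempty (PresentedGroup (↑rels : Set (FreeGroup (Fin 2))) ≃* alternatingGroup (Pt p k)) := by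
  classical
  obtain ⟨ez, et, Ww, rels, hcard, hz3, hzm, ht3, hzt, hWw, hW, hrelP, hkill0, hg3, hH⟩ :=
    sap6_data p k l hp hkl hlp h3 (fun T W => T⁻¹ * W) (th p k l) (th_mem p k l hlp hodd)
      (fun T W hT hW => by rw [map_mul, map_inv, hT, hW, inv_mul_cancel])
  refine ⟨rels, hcard, ?_⟩
  set ψ : PresentedGroup (↑rels : Set (FreeGroup (Fin 2))) →* Perm (Pt p k) :=
    PresentedGroup.toGroup hrelP with hψdef
  have hψa : ψ (PresentedGroup.of 0) = ah p k := by
    rw [hψdef, PresentedGroup.toGroup.of]; rfl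
  have hψg : ψ (PresentedGroup.of 1) = zh (Sum.inl 0) * th p k l := by
    rw [hψdef, PresentedGroup.toGroup.of]; rfl
  obtain ⟨H, ha, hz, hτ, hψ⟩ := hH ψ hψa hψg
  have hmkA : PresentedGroup.mk (↑rels : Set (FreeGroup (Fin 2))) wA = H.a := by rw [ha]; rfl
  have hmkZ : PresentedGroup.mk (↑rels : Set (FreeGroup (Fin 2))) (wG ^ ez) = H.z := by
    rw [hz, map_pow]; rfl
  have hmkT : PresentedGroup.mk (↑rels : Set (FreeGroup (Fin 2))) (wG ^ et) = H.τ := by
    rw [hτ, map_pow]; rfl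
  have hWmem : PresentedGroup.mk (↑rels : Set (FreeGroup (Fin 2))) Ww ∈
      Subgroup.closure (Set.range (zx H.a H.z H.τ l : Ix p k → _)) := by
    refine sappres7_map_mem (PresentedGroup.mk _) _ _ (fun y => ?_) Ww hWw
    rw [sappres7_map_zx, hmkA, hmkZ, hmkT]
  have hkill : H.τ = PresentedGroup.mk (↑rels : Set (FreeGroup (Fin 2))) Ww := by
    have h1 := hkill0
    rw [map_mul, map_inv, hmkT, inv_mul_eq_one] at h1
    exact h1
  have hgen : Subgroup.closure ({H.a, H.z, H.τ} : Set _) = ⊤ := by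
    rw [eq_top_iff, ← PresentedGroup.closure_range_of, Subgroup.closure_le]
    rintro _ ⟨i, rfl⟩
    have hg : PresentedGroup.of (rels := (↑rels : Set (FreeGroup (Fin 2)))) 1 = H.z * H.τ := by
      have h2 := hg3
      rw [map_pow] at h2
      have h4 := (merged (PresentedGroup.mk (↑rels : Set (FreeGroup (Fin 2))) wG) (l + k) ez et h2 hzm ht3 hzt).2.2.2
      rw [hz, hτ]
      exact h4.symm
    fin_cases i
    · exact Subgroup.subset_closure (by rw [ha]; simp)
    · change PresentedGroup.of 1 ∈ _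
      rw [hg]
      exact mul_mem (Subgroup.subset_closure (by simp)) (Subgroup.subset_closure (by simp))
  obtain ⟨hinj, hrange⟩ := glue_final_A hp H _ hWmem hkill hgen
  rw [hψ] at hinj hrange
  exact ⟨(MonoidHom.ofInjective hinj).trans (MulEquiv.subgroupCongr hrange)⟩

/-- `S_{p+2+k}` on 2 generators and 6 relators -/
theorem sap6_presS (p k l : ℕ) [Fact p.Prime] (hp : 3 ≤ p) (hkl : k + 1 ≤ l) (hlp : l + 1 ≤ p)
    (heven : Even (l + k)) (h3 : ¬ 3 ∣ (l + k)) :
    ∃ rels : Finset (FreeGroup (Fin 2)), rels.card ≤ 6 ∧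
      Nonempty (PresentedGroup (↑rels : Set (FreeGroup (Fin 2))) ≃* Perm (Pt p k)) := by
  classical
  obtain ⟨ez, et, Ww, rels, hcard, hz3, hzm, ht3, hzt, hWw, hW, hrelP, hkill0, hg3, hH⟩ :=
    sap6_data p k l hp hkl hlp h3 (fun T W => (T ^ 2)⁻¹ * W) ((th p k l) ^ 2) (th_sq_mem p k l)
      (fun T W hT hW => by rw [map_mul, map_inv, map_pow, hT, hW, inv_mul_cancel])
  refine ⟨rels, hcard, ?_⟩
  set ψ : PresentedGroup (↑rels : Set (FreeGroup (Fin 2))) →* Perm (Pt p k) :=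
    PresentedGroup.toGroup hrelP with hψdef
  have hψa : ψ (PresentedGroup.of 0) = ah p k := by
    rw [hψdef, PresentedGroup.toGroup.of]; rfl
  have hψg : ψ (PresentedGroup.of 1) = zh (Sum.inl 0) * th p k l := by
    rw [hψdef, PresentedGroup.toGroup.of]; rfl
  obtain ⟨H, ha, hz, hτ, hψ⟩ := hH ψ hψa hψg
  have hmkA : PresentedGroup.mk (↑rels : Set (FreeGroup (Fin 2))) wA = H.a := by rw [ha]; rfl
  have hmkZ : PresentedGroup.mk (↑rels : Set (FreeGroup (Fin 2))) (wG ^ ez) = H.z := by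
    rw [hz, map_pow]; rfl
  have hmkT : PresentedGroup.mk (↑rels : Set (FreeGroup (Fin 2))) (wG ^ et) = H.τ := by
    rw [hτ, map_pow]; rfl
  have hWmem : PresentedGroup.mk (↑rels : Set (FreeGroup (Fin 2))) Ww ∈
      Subgroup.closure (Set.range (zx H.a H.z H.τ l : Ix p k → _)) := by
    refine sappres7_map_mem (PresentedGroup.mk _) _ _ (fun y => ?_) Ww hWw
    rw [sappres7_map_zx, hmkA, hmkZ, hmkT]
  have hkill : H.τ ^ 2 = PresentedGroup.mk (↑rels : Set (FreeGroup (Fin 2))) Ww := by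
    have h1 := hkill0
    rw [map_mul, map_inv, map_pow, hmkT, inv_mul_eq_one] at h1
    exact h1
  have hgen : Subgroup.closure ({H.a, H.z, H.τ} : Set _) = ⊤ := by
    rw [eq_top_iff, ← PresentedGroup.closure_range_of, Subgroup.closure_le]
    rintro _ ⟨i, rfl⟩
    have hg : PresentedGroup.of (rels := (↑rels : Set (FreeGroup (Fin 2)))) 1 = H.z * H.τ := by
      have h2 := hg3
      rw [map_pow] at h2
      have h4 := (merged (PresentedGroup.mk (↑rels : Set (FreeGroup (Fin 2))) wG) (l + k) ez et h2 hzm ht3 hzt).2.2.2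
      rw [hz, hτ]
      exact h4.symm
    fin_cases i
    · exact Subgroup.subset_closure (by rw [ha]; simp)
    · change PresentedGroup.of 1 ∈ _
      rw [hg]
      exact mul_mem (Subgroup.subset_closure (by simp)) (Subgroup.subset_closure (by simp))
  have hbij := glue_final_S hp H _ hWmem hkill heven hgen
  rw [hψ] at hbij
  exact ⟨MulEquiv.ofBijective ψ hbij⟩

/-- `A_6` on 2 generators and 5 relators (helper16's list) -/
theorem sap6_A6 : ∃ rels : Finset (FreeGroup (Fin 2)), rels.card ≤ 6 ∧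
    Nonempty (PresentedGroup (↑rels : Set (FreeGroup (Fin 2))) ≃* alternatingGroup (Fin 6)) := by
  obtain ⟨rels, hc, he⟩ := sapsix_pres (fun a z => sapsix_relsA a z)
    (fun φ a z => sapsix_map_relsA φ a z) sapsix_aA sapsix_z sapsix_relsA_perm
    (alternatingGroup (Fin 6)) (sapsix_closureA (altgen (4 : Fin 6) 5 (by decide))) (fun a z hgen hrel => by
      obtain ⟨hf, hc⟩ := sapsix_boundA a z hgen hrel (fun a x ε => cyc4_carRel a x ε)
      exact ⟨hf, hc.trans sapsix_card_A6.ge⟩)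
  exact ⟨rels, hc.trans (by simp [sapsix_relsA]), he⟩

/-- `S_6` on 2 generators and 5 relators (helper16's list) -/
theorem sap6_S6 : ∃ rels : Finset (FreeGroup (Fin 2)), rels.card ≤ 6 ∧
    Nonempty (PresentedGroup (↑rels : Set (FreeGroup (Fin 2))) ≃* Perm (Fin 6)) := by
  obtain ⟨rels, hc, ⟨e⟩⟩ := sapsix_pres (fun a z => sapsix_relsS a z)
    (fun φ a z => sapsix_map_relsS φ a z) sapsix_aS sapsix_z sapsix_relsS_perm
    ⊤ (sapsix_closureS (altgen (4 : Fin 6) 5 (by decide))) (fun a z hgen hrel => by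
      obtain ⟨hf, hc⟩ := sapsix_boundS a z hgen hrel (fun a x ε => cyc4_carRel a x ε)
        (fun N _ t => index_two_bound N t)
      exact ⟨hf, hc.trans sapsix_card_S6.ge⟩)
  exact ⟨rels, hc.trans (by simp [sapsix_relsS]), ⟨e.trans Subgroup.topEquiv⟩⟩

/-- **`A_n` (`n ≥ 5`) has a presentation with 2 generators and at most 6 relators.** -/
theorem sap6_alt (n : ℕ) (hn : 5 ≤ n) :
    ∃ rels : Finset (FreeGroup (Fin 2)), rels.card ≤ 6 ∧
      Nonempty (PresentedGroup (↑rels : Set (FreeGroup (Fin 2))) ≃* alternatingGroup (Fin n)) := by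
  by_cases h6 : n = 6
  · subst h6; exact sap6_A6
  obtain ⟨p, k, l, hpp, hp, hpk, hkl, hlp, hodd, h3⟩ := sap_goodA n hn h6
  haveI : Fact p.Prime := ⟨hpp⟩
  obtain ⟨rels, hc, ⟨e⟩⟩ := sap6_presA p k l hp hkl hlp hodd h3
  obtain ⟨f⟩ := card_Pt p k
  subst hpk
  exact ⟨rels, hc, ⟨e.trans (Equiv.altCongrHom f)⟩⟩

/-- **`S_n` (`n ≥ 5`) has a presentation with 2 generators and at most 6 relators.** -/
theorem sap6_sym (n : ℕ) (hn : 5 ≤ n) :
    ∃ rels : Finset (FreeGroup (Fin 2)), rels.card ≤ 6 ∧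
      Nonempty (PresentedGroup (↑rels : Set (FreeGroup (Fin 2))) ≃* Perm (Fin n)) := by
  by_cases h6 : n = 6
  · subst h6; exact sap6_S6
  obtain ⟨p, k, l, hpp, hp, hpk, hkl, hlp, heven, h3⟩ := sap_goodS n hn h6
  haveI : Fact p.Prime := ⟨hpp⟩
  obtain ⟨rels, hc, ⟨e⟩⟩ := sap6_presS p k l hp hkl hlp heven h3
  obtain ⟨f⟩ := card_Pt p k
  subst hpk
  exact ⟨rels, hc, ⟨e.trans f.permCongrHom⟩⟩

end Cfsg.Agent.Lib.Helper28.SAP6
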