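import Mathlib
import Cfsg.Agent.Lib.helper17.SLP.Defs
import Cfsg.Agent.Lib.helper17.SL3.Defs
import Cfsg.Agent.Lib.helper17.SL3.Defs2

/-!
# Project SL3, row D6 (core): the rank-one decompositions `r1`, `r2` of the root datum, from the
statements of K2 (`rank1_all`) and T4 (`tor_rel`).
-/

set_option autoImplicit false

namespace Cfsg.Agent.Lib.helper17.SL3

open Cfsg.Agent.Lib.helper17.SLP

universe u v

section D6core

variable {F : Type u} [Field F] {G : Type v} [Group G]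

/-- elements of the root group of an additive map are values of the map. -/
theorem sl3d6_rg_exists (X : F → G) (hX : ∀ s t, X (s + t) = X s * X t) (g : G) (hg : g ∈ RG X) :
    ∃ t, g = X t := by
  have h0 : X 0 = 1 := by
    have := hX 0 0
    rw [add_zero] at this
    exact (mul_eq_left.mp this.symm)
  have hneg : ∀ t, X (-t) = (X t)⁻¹ := by
    intro t
    have := hX (-t) t
    rw [neg_add_cancel, h0] at this
    exact eq_inv_of_mul_eq_one_left this.symm
  unfold RG at hg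
  induction hg using Subgroup.closure_induction with
  | mem g hg => obtain ⟨t, rfl⟩ := hg; exact ⟨t, rfl⟩
  | one => exact ⟨0, h0.symm⟩
  | mul a b _ _ ha hb =>
    obtain ⟨s, rfl⟩ := ha
    obtain ⟨t, rfl⟩ := hb
    exact ⟨s + t, (hX s t).symm⟩
  | inv a _ ha =>
    obtain ⟨s, rfl⟩ := ha
    exact ⟨-s, (hneg s).symm⟩

omit [Field F] in
theorem sl3d6_mem_rg (X : F → G) (t : F) : X t ∈ RG X := Subgroup.subset_closure ⟨t, rfl⟩

/-- additivity of `x10`. -/
theorem sl3d6_add10 (x : F → G) (w : G) (hadd : ∀ s t, x (s + t) = x s * x t) (s t : F) :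
    x10 x w (s + t) = x10 x w s * x10 x w t := by
  unfold x10
  rw [neg_add, hadd]; group

/-- additivity of `x21`. -/
theorem sl3d6_add21 (x : F → G) (w c : G) (hadd : ∀ s t, x (s + t) = x s * x t) (s t : F) :
    x21 x w c (s + t) = x21 x w c s * x21 x w c t := by
  unfold x21
  rw [sl3d6_add10 x w hadd]; group

theorem sl3d6_x10_zero (x : F → G) (w : G) (hadd : ∀ s t, x (s + t) = x s * x t) :
    x10 x w 0 = 1 := by
  have := sl3d6_add10 x w hadd 0 0
  rw [add_zero] at this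
  exact (mul_eq_left.mp this.symm)

/-- D6 core: from the statements of K2 and T4. -/
theorem sl3d6_core (x : F → G) (d w c : G) (hadd : ∀ s t, x (s + t) = x s * x t)
    (hK2 : ∀ t : F, t ≠ 0 → ∃ i : ℤ, x10 x w t = x t⁻¹ * (d ^ i * (d3 d c) ^ i) * w * x t⁻¹)
    (hT4 : c * d2 d c * c⁻¹ = d3 d c ∧ c * d3 d c * c⁻¹ = d ∧ Commute d (d2 d c) ∧
      Commute d (d3 d c) ∧ Commute (d2 d c) (d3 d c) ∧ d * d2 d c * d3 d c = 1) :
    (∀ g ∈ RG (x10 x w), g = 1 ∨ ∃ a ∈ RG x, ∃ τ ∈ TT d c, ∃ a' ∈ RG x, g = a * τ * w * a') ∧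
      ∀ g ∈ RG (x21 x w c), g = 1 ∨ ∃ b ∈ RG (x12 x c), ∃ τ ∈ TT d c, ∃ b' ∈ RG (x12 x c),
        g = b * τ * (c * w * c⁻¹) * b' := by
  obtain ⟨-, hcd3, -, -, -, hprod⟩ := hT4
  have hdT : d ∈ TT d c := Subgroup.subset_closure (Or.inl rfl)
  have hd2T : d2 d c ∈ TT d c := Subgroup.subset_closure (Or.inr rfl)
  have hd3T : d3 d c ∈ TT d c := by
    have : d3 d c = (d * d2 d c)⁻¹ := eq_inv_of_mul_eq_one_right hprod
    rw [this]
    exact inv_mem (mul_mem hdT hd2T)
  constructor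
  · intro g hg
    obtain ⟨t, rfl⟩ := sl3d6_rg_exists (x10 x w) (sl3d6_add10 x w hadd) g hg
    by_cases ht : t = 0
    · left; rw [ht]; exact sl3d6_x10_zero x w hadd
    · right
      obtain ⟨i, hi⟩ := hK2 t ht
      exact ⟨x t⁻¹, sl3d6_mem_rg x _, d ^ i * (d3 d c) ^ i,
        mul_mem (zpow_mem hdT i) (zpow_mem hd3T i), x t⁻¹, sl3d6_mem_rg x _, hi⟩
  · intro g hg
    obtain ⟨t, rfl⟩ := sl3d6_rg_exists (x21 x w c) (sl3d6_add21 x w c hadd) g hg
    by_cases ht : t = 0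
    · left
      rw [ht]; unfold x21
      rw [sl3d6_x10_zero x w hadd]; group
    · right
      obtain ⟨i, hi⟩ := hK2 t ht
      refine ⟨x12 x c t⁻¹, sl3d6_mem_rg _ _, (d2 d c) ^ i * d ^ i,
        mul_mem (zpow_mem hd2T i) (zpow_mem hdT i), x12 x c t⁻¹, sl3d6_mem_rg _ _, ?_⟩
      have h1 : c * d ^ i * c⁻¹ = (d2 d c) ^ i := by
        unfold d2; rw [conj_zpow]
      have h2 : c * (d3 d c) ^ i * c⁻¹ = d ^ i := by
        rw [← hcd3, conj_zpow, hcd3]
      unfold x21 x12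
      rw [hi, ← h1, ← h2]; group
  
end D6core

end Cfsg.Agent.Lib.helper17.SL3
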