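import Mathlib
import Cfsg.Agent.Lib.helper17.SLP.Defs
import Cfsg.Agent.Lib.helper17.SL3.Defs
import Cfsg.Agent.Lib.helper17.SL3.Defs2

/-!
# Project SL3, row D7 (core): braid relation modulo the torus and generation, from the statement of D4.
-/

set_option autoImplicit false

namespace Cfsg.Agent.Lib.helper17.SL3

open Cfsg.Agent.Lib.helper17.SLP

universe u v

section D7core

variable {G : Type v} [Group G]

/-- `c³ = 1` and `(w c⁻¹)² = 1` give `c w c⁻¹ = c⁻¹ w⁻¹`. -/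
theorem sl3d7_n2_eq (w c : G) (hc3 : c ^ 3 = 1) (hE2 : relE2 w c = 1) :
    c * w * c⁻¹ = c⁻¹ * w⁻¹ := by
  have h1 : w * c⁻¹ * (w * c⁻¹) = 1 := by
    have := hE2
    unfold relE2 at this
    rwa [pow_two] at this
  have h2 : c * c * c = 1 := by
    rw [← hc3, pow_succ, pow_two]
  -- c⁻¹ w c⁻¹ = w⁻¹
  have h3 : c⁻¹ * w * c⁻¹ = w⁻¹ := by
    have : w * (c⁻¹ * w * c⁻¹) = 1 := by
      rw [← h1]; group
    exact (eq_inv_of_mul_eq_one_right this)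
  have h4 : c = c⁻¹ * c⁻¹ := by
    have : c * (c * c) = 1 := by rw [← h2]; group
    have h5 : c * c = c⁻¹ := eq_inv_of_mul_eq_one_right this
    calc c = (c * c) * c⁻¹ := by group
      _ = c⁻¹ * c⁻¹ := by rw [h5]
  calc c * w * c⁻¹ = (c⁻¹ * c⁻¹) * w * c⁻¹ := by rw [← h4]
    _ = c⁻¹ * (c⁻¹ * w * c⁻¹) := by group
    _ = c⁻¹ * w⁻¹ := by rw [h3]

/-- `(n1 n2)³ = 1` for `n1 = w`, `n2 = c w c⁻¹`. -/
theorem sl3d7_cube (w c : G) (hc3 : c ^ 3 = 1) (hE2 : relE2 w c = 1) :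
    (w * (c * w * c⁻¹)) ^ 3 = 1 := by
  rw [sl3d7_n2_eq w c hc3 hE2]
  have h2 : c⁻¹ ^ 3 = 1 := by rw [inv_pow, hc3, inv_one]
  have : w * (c⁻¹ * w⁻¹) = w * c⁻¹ * w⁻¹ := by group
  rw [this, conj_pow, h2]; group

/-- D7 core: from the statement of D4 (`rd_weylT`). -/
theorem sl3d7_core {F : Type u} [Field F] (x : F → G) (d w c : G) (hc3 : c ^ 3 = 1)
    (hE2 : relE2 w c = 1)
    (hD4 : (∀ τ ∈ TT d c, w * τ * w⁻¹ ∈ TT d c) ∧
      (∀ τ ∈ TT d c, (c * w * c⁻¹) * τ * (c * w * c⁻¹)⁻¹ ∈ TT d c) ∧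
      w ^ 2 ∈ TT d c ∧ (c * w * c⁻¹) ^ 2 ∈ TT d c)
    (hgen : Subgroup.closure {x 1, d, w, c} = ⊤) :
    (∃ τ ∈ TT d c, (c * w * c⁻¹) * w * (c * w * c⁻¹) = τ * (w * (c * w * c⁻¹) * w)) ∧
      Subgroup.closure (((TT d c : Subgroup G) : Set G) ∪ (RG x : Set G) ∪ (RG (x12 x c) : Set G) ∪
        {w, c * w * c⁻¹}) = ⊤ := by
  obtain ⟨hw, hn, hw2, hn2⟩ := hD4
  constructor
  · -- braid
    set n1 := w with hn1
    set n2 := c * w * c⁻¹ with hn2def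
    have hcube : (n1 * n2) ^ 3 = 1 := sl3d7_cube w c hc3 hE2
    have hbr : n2 * n1 * n2 = n1⁻¹ * n2⁻¹ * n1⁻¹ := by
      have h : n1 * n2 * (n1 * n2) * (n1 * n2) = 1 := by
        rw [← hcube, pow_succ, pow_two]
      have h' : n1 * (n2 * n1 * n2) * (n1 * n2) = 1 := by rw [← h]; group
      calc n2 * n1 * n2 = n1⁻¹ * (n1 * (n2 * n1 * n2) * (n1 * n2)) * (n1 * n2)⁻¹ := by group
        _ = n1⁻¹ * n2⁻¹ * n1⁻¹ := by rw [h']; group
    set t1 := (n1 ^ 2)⁻¹ with ht1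
    set t2 := (n2 ^ 2)⁻¹ with ht2
    have ht1m : t1 ∈ TT d c := inv_mem hw2
    have ht2m : t2 ∈ TT d c := inv_mem hn2
    have hi1 : n1⁻¹ = t1 * n1 := by rw [ht1, pow_two]; group
    have hi2 : n2⁻¹ = t2 * n2 := by rw [ht2, pow_two]; group
    refine ⟨t1 * (n1 * t2 * n1⁻¹) * (n1 * (n2 * t1 * n2⁻¹) * n1⁻¹), ?_, ?_⟩
    · exact mul_mem (mul_mem ht1m (hw _ ht2m)) (hw _ (hn _ ht1m))
    · rw [hbr]
      calc n1⁻¹ * n2⁻¹ * n1⁻¹ = (t1 * n1) * (t2 * n2) * (t1 * n1) := by rw [← hi1, ← hi2]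
        _ = t1 * (n1 * t2 * n1⁻¹) * (n1 * (n2 * t1 * n2⁻¹) * n1⁻¹) * (n1 * n2 * n1) := by group
  · -- generation
    rw [eq_top_iff, ← hgen, Subgroup.closure_le]
    set S := Subgroup.closure (((TT d c : Subgroup G) : Set G) ∪ (RG x : Set G) ∪
      (RG (x12 x c) : Set G) ∪ {w, c * w * c⁻¹}) with hS
    have hwS : w ∈ S := Subgroup.subset_closure (Or.inr (Or.inl rfl))
    have hnS : c * w * c⁻¹ ∈ S := Subgroup.subset_closure (Or.inr (Or.inr rfl))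
    have hxS : x 1 ∈ S := by
      apply Subgroup.subset_closure
      refine Or.inl (Or.inl (Or.inr ?_))
      exact Subgroup.subset_closure ⟨1, rfl⟩
    have hdS : d ∈ S := by
      apply Subgroup.subset_closure
      refine Or.inl (Or.inl (Or.inl ?_))
      exact Subgroup.subset_closure (Or.inl rfl)
    have hcS : c ∈ S := by
      have hc : c = w⁻¹ * (c * w * c⁻¹)⁻¹ := by
        rw [sl3d7_n2_eq w c hc3 hE2]; group
      rw [hc]
      exact mul_mem (inv_mem hwS) (inv_mem hnS)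
    intro g hg
    rcases hg with rfl | rfl | rfl | rfl
    · exact hxS
    · exact hdS
    · exact hwS
    · exact hcS

end D7core

end Cfsg.Agent.Lib.helper17.SL3
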