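import Mathlib
import Cfsg.Agent.Lib.helper17.SLP.Defs
import Cfsg.Agent.Lib.helper17.SL3.Defs
import Cfsg.Agent.Lib.helper17.SL3.Defs2
import Cfsg.Agent.Lib.Helper27.SLPK1

/-!
# Project SL3, rows K1 K2 K3 (cores): the rank-one relation for all parameters, from the statements
of T5 (`tor_w`, first component) and T10 (`act10`, third component).
-/

set_option autoImplicit false

namespace Cfsg.Agent.Lib.helper17.SL3

open Cfsg.Agent.Lib.helper17.SLP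

universe u v

section Kcore

variable {F : Type u} [Field F] {G : Type v} [Group G]

/-- `x 0 = 1`. -/
theorem sl3k_x_zero (x : F → G) (hadd : ∀ s t, x (s + t) = x s * x t) : x 0 = 1 := by
  have := hadd 0 0
  rw [add_zero] at this
  exact (mul_eq_left.mp this.symm)

/-- `x (-t) = (x t)⁻¹`. -/
theorem sl3k_x_neg (x : F → G) (hadd : ∀ s t, x (s + t) = x s * x t) (t : F) :
    x (-t) = (x t)⁻¹ := by
  have := hadd (-t) t
  rw [neg_add_cancel, sl3k_x_zero x hadd] at this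
  exact eq_inv_of_mul_eq_one_left this.symm

/-- the rank-one relation at `t = 1`. -/
theorem sl3k_rank1_one (x : F → G) (w : G) (hK1 : relK1 (x 1) w = 1) :
    x 1 * x10 x w (-1) * x 1 = w := by
  unfold relK1 at hK1
  unfold x10
  rw [neg_neg]
  calc x 1 * (w * x 1 * w⁻¹) * x 1 = (x 1 * w * x 1 * w⁻¹ * x 1 * w⁻¹) * w := by group
    _ = w := by rw [hK1, one_mul]

/-- K1 core: from `w d w⁻¹ = d₃⁻¹` (T5) and `Act ζ d x₁₀ (-1)` (T10). -/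
theorem sl3k1_core (ζ : Fˣ) (x : F → G) (d w c : G) (H : Hyp ζ x d w c)
    (hT5 : w * d * w⁻¹ = (d3 d c)⁻¹) (hT10 : Act ζ d (x10 x w) (-1)) (i : ℤ) :
    x ((ζ ^ i : Fˣ) : F) * x10 x w (-((ζ ^ (-i) : Fˣ) : F)) * x ((ζ ^ i : Fˣ) : F) =
      d ^ i * (d3 d c) ^ i * w := by
  have hζ0 : (ζ : F) ≠ 0 := ζ.ne_zero
  -- conjugation of `x` by `d ^ i`
  have hx : ∀ t : F, d ^ i * x t * d ^ (-i) = x (((ζ ^ i : Fˣ) : F) * t) := by
    intro t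
    have := slpk1_conj_zpow (ζ : F) hζ0 x d H.dconj i t
    rw [this, Units.val_zpow_eq_zpow_val]
  -- conjugation of `x10` by `d ^ i`
  have hlam : (((ζ ^ (-1 : ℤ) : Fˣ) : F)) ≠ 0 := (ζ ^ (-1 : ℤ)).ne_zero
  have hx10 : ∀ t : F, d ^ i * x10 x w t * d ^ (-i) = x10 x w (((ζ ^ (-i) : Fˣ) : F) * t) := by
    intro t
    have := slpk1_conj_zpow (((ζ ^ (-1 : ℤ) : Fˣ) : F)) hlam (x10 x w) d hT10 i t
    rw [this]
    congr 2
    rw [← Units.val_zpow_eq_zpow_val, ← zpow_mul]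
    congr 2
    ring
  -- conjugation of `w` by `d ^ i`
  have hw : d ^ i * w * d ^ (-i) = d ^ i * (d3 d c) ^ i * w := by
    have h1 : w * d ^ (-i) * w⁻¹ = (d3 d c) ^ i := by
      rw [← conj_zpow, hT5, inv_zpow, zpow_neg, inv_inv]
    calc d ^ i * w * d ^ (-i) = d ^ i * (w * d ^ (-i) * w⁻¹) * w := by group
      _ = d ^ i * (d3 d c) ^ i * w := by rw [h1]
  have h0 := sl3k_rank1_one x w H.K1
  have h1 : d ^ i * (x 1 * x10 x w (-1) * x 1) * d ^ (-i) = d ^ i * w * d ^ (-i) := by rw [h0]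
  have h2 : d ^ i * (x 1 * x10 x w (-1) * x 1) * d ^ (-i) =
      (d ^ i * x 1 * d ^ (-i)) * (d ^ i * x10 x w (-1) * d ^ (-i)) * (d ^ i * x 1 * d ^ (-i)) := by
    rw [zpow_neg]; group
  rw [h2, hx, hx10, hw, mul_one, mul_neg, mul_one] at h1
  exact h1

/-- K2 core: from the statement of K1. -/
theorem sl3k2_core (ζ : Fˣ) (hζ : ∀ y : Fˣ, y ∈ Subgroup.zpowers ζ) (x : F → G) (d w c : G)
    (hadd : ∀ s t, x (s + t) = x s * x t)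
    (hK1 : ∀ i : ℤ, x ((ζ ^ i : Fˣ) : F) * x10 x w (-((ζ ^ (-i) : Fˣ) : F)) * x ((ζ ^ i : Fˣ) : F) =
      d ^ i * (d3 d c) ^ i * w) (t : F) (ht : t ≠ 0) :
    ∃ i : ℤ, x10 x w t = x t⁻¹ * (d ^ i * (d3 d c) ^ i) * w * x t⁻¹ := by
  have hne : -t⁻¹ ≠ 0 := neg_ne_zero.mpr (inv_ne_zero ht)
  obtain ⟨i, hi⟩ := Subgroup.mem_zpowers_iff.mp (hζ (Units.mk0 (-t⁻¹) hne))
  refine ⟨i, ?_⟩
  have h1 : ((ζ ^ i : Fˣ) : F) = -t⁻¹ := by rw [hi]; rfl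
  have h2 : ((ζ ^ (-i) : Fˣ) : F) = -t := by
    rw [zpow_neg, Units.val_inv_eq_inv_val, h1, inv_neg, inv_inv]
  have h := hK1 i
  rw [h1, h2, neg_neg, sl3k_x_neg x hadd] at h
  calc x10 x w t = x t⁻¹ * ((x t⁻¹)⁻¹ * x10 x w t * (x t⁻¹)⁻¹) * x t⁻¹ := by group
    _ = x t⁻¹ * (d ^ i * (d3 d c) ^ i) * w * x t⁻¹ := by rw [h]; group

/-- K3 core: from the statement of K1. -/
theorem sl3k3_core (ζ : Fˣ) (hζ : ∀ y : Fˣ, y ∈ Subgroup.zpowers ζ) (x : F → G) (d w c : G)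
    (hadd : ∀ s t, x (s + t) = x s * x t) (hrel : relK1 (x 1) w = 1)
    (hK1 : ∀ i : ℤ, x ((ζ ^ i : Fˣ) : F) * x10 x w (-((ζ ^ (-i) : Fˣ) : F)) * x ((ζ ^ i : Fˣ) : F) =
      d ^ i * (d3 d c) ^ i * w) :
    ∃ i : ℤ, ((ζ ^ i : Fˣ) : F) = -1 ∧ w ^ 2 = (d ^ i * (d3 d c) ^ i)⁻¹ := by
  obtain ⟨i, hi⟩ := Subgroup.mem_zpowers_iff.mp (hζ (-1))
  have h1 : ((ζ ^ i : Fˣ) : F) = -1 := by rw [hi]; simp
  refine ⟨i, h1, ?_⟩
  have h2 : ((ζ ^ (-i) : Fˣ) : F) = -1 := by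
    rw [zpow_neg, Units.val_inv_eq_inv_val, h1, inv_neg, inv_one]
  have h := hK1 i
  rw [h1, h2, neg_neg] at h
  -- `x (-1) * x10 1 * x (-1) = w⁻¹`
  have h0 := sl3k_rank1_one x w hrel
  have h3 : x (-1) * x10 x w 1 * x (-1) = w⁻¹ := by
    have e1 : x (-1) = (x 1)⁻¹ := sl3k_x_neg x hadd 1
    have e2 : x10 x w 1 = (x10 x w (-1))⁻¹ := by
      unfold x10
      rw [neg_neg, e1]; group
    have e3 : w⁻¹ = (x 1)⁻¹ * (x10 x w (-1))⁻¹ * (x 1)⁻¹ := by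
      conv_lhs => rw [← h0]
      group
    rw [e1, e2, e3]
  rw [h3] at h
  -- `w⁻¹ = τ w`
  have h4 : d ^ i * (d3 d c) ^ i = w⁻¹ * w⁻¹ := by
    calc d ^ i * (d3 d c) ^ i = (d ^ i * (d3 d c) ^ i * w) * w⁻¹ := by group
      _ = w⁻¹ * w⁻¹ := by rw [← h]
  rw [h4, pow_two, mul_inv_rev, inv_inv]

end Kcore

end Cfsg.Agent.Lib.helper17.SL3
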