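import Mathlib
import Cfsg.Agent.Lib.helper17.SLP.Defs
import Cfsg.Agent.Lib.helper17.SL3.Defs
import Cfsg.Agent.Lib.helper17.SL3.Defs2
import Cfsg.Agent.Lib.helper4.SL3T1
import Cfsg.Agent.Lib.helper15.SL3T3
import Cfsg.Agent.Lib.helper2.SL3T4
import Cfsg.Agent.Lib.helper2.SL3T5
import Cfsg.Agent.Lib.Helper18.SL3T6
import Cfsg.Agent.Lib.Helper9.SL3T8
import Cfsg.Agent.Lib.Helper25.SL3T7core

/-!
# Project SL3, spares for rows T9 (`act01`) and T10 (`act10`) under own names (helper28).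
-/

set_option autoImplicit false

namespace Cfsg.Agent.Lib.helper17.SL3

open Cfsg.Agent.Lib.helper17.SLP
open Polynomial

universe u v

section T

variable {F : Type u} [Field F] {G : Type v} [Group G]

/-- spare for T9 (`act01`), exact Skel statement. -/
theorem sl3t9_h28_act01 (ζ : Fˣ) (hζ : ∀ y : Fˣ, y ∈ Subgroup.zpowers ζ) (x : F → G) (d w c : G)
    (H : Hyp ζ x d w c) : Act ζ d x 1 ∧ Act ζ (d2 d c) x (-2) ∧ Act ζ (d3 d c) x 1 := by
  obtain ⟨-, -, hdd2, -, -, hprod⟩ := tor_rel ζ x d w c H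
  have hconj := (hyp_basic ζ x d w c H).2.2.2
  have h1 : Act ζ d x 1 := by
    intro t
    rw [zpow_one]
    exact H.dconj t
  -- `z = d² d₂` centralises all `x t`
  have hz1 : Commute (d ^ 2 * d2 d c) (x 1) := by
    have := H.T3
    unfold relT3 at this
    exact (cm_eq_one_iff _ _).mp this
  have hzd : Commute (d ^ 2 * d2 d c) d :=
    ((Commute.refl d).pow_left 2).mul_left hdd2.symm
  have hz : ∀ t, Commute (d ^ 2 * d2 d c) (x t) :=
    comm_all_of ζ hζ x d w c H _ hzd hz1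
  have h2 : Act ζ (d2 d c) x (-2) := by
    intro t
    have e1 : d2 d c * x t * (d2 d c)⁻¹ =
        d ^ (-2 : ℤ) * ((d ^ 2 * d2 d c) * x t * (d ^ 2 * d2 d c)⁻¹) * d ^ (-(-2 : ℤ)) := by
      rw [neg_neg, zpow_neg]
      have : d ^ (2 : ℤ) = d ^ 2 := by norm_cast
      rw [this]; group
    have e2 : (d ^ 2 * d2 d c) * x t * (d ^ 2 * d2 d c)⁻¹ = x t := by
      rw [(hz t).eq, mul_inv_cancel_right]
    rw [e1, e2, hconj]
  have h3 : Act ζ (d3 d c) x 1 := by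
    have e : d3 d c = (d * d2 d c)⁻¹ := eq_inv_of_mul_eq_one_right hprod
    have h12 := act_inv ζ _ x _ (act_mul ζ d (d2 d c) x 1 (-2) h1 h2)
    rw [e]
    have : (-(1 + -2) : ℤ) = 1 := by norm_num
    rw [this] at h12
    exact h12
  exact ⟨h1, h2, h3⟩

/-- transport of a torus action from `x` to `x₁₀` along `w`. -/
theorem sl3t10_h28_transport (ζ : Fˣ) (x : F → G) (w g g' : G) (e : ℤ) (hg : w⁻¹ * g * w = g')
    (h : Act ζ g' x e) : Act ζ g (x10 x w) e := by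
  intro t
  unfold x10
  have e1 : g * (w * x (-t) * w⁻¹) * g⁻¹ = w * (g' * x (-t) * g'⁻¹) * w⁻¹ := by
    rw [← hg]; group
  rw [e1, h (-t), mul_neg]

/-- spare for T10 (`act10`), exact Skel statement. -/
theorem sl3t10_h28_act10 (ζ : Fˣ) (hζ : ∀ y : Fˣ, y ∈ Subgroup.zpowers ζ) (x : F → G) (d w c : G)
    (H : Hyp ζ x d w c) :
    (∀ s t, x10 x w (s + t) = x10 x w s * x10 x w t) ∧ (∀ t, w * x10 x w t * w⁻¹ = x (-t)) ∧
      Act ζ d (x10 x w) (-1) ∧ Act ζ (d2 d c) (x10 x w) 2 ∧ Act ζ (d3 d c) (x10 x w) (-1) := by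
  obtain ⟨hT5a, -, hT5c, hw1, hw2, hw3⟩ := tor_w ζ x d w c H
  obtain ⟨a1, a2, a3⟩ := sl3t9_h28_act01 ζ hζ x d w c H
  have hT7 := sl3t7_core ζ x d w c H (fun g hd h1 => comm_all_of ζ hζ x d w c H g hd h1) hT5a hT5c
    (braid_of_K1 (x 1) w H.K1).2
  refine ⟨?_, ?_, ?_, ?_, ?_⟩
  · intro s t
    unfold x10
    rw [neg_add, H.add]; group
  · intro t
    unfold x10
    have e1 : w * (w * x (-t) * w⁻¹) * w⁻¹ = w ^ 2 * x (-t) * (w ^ 2)⁻¹ := by
      rw [pow_two]; group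
    rw [e1, (hT7.2 (-t)).eq, mul_inv_cancel_right]
  · exact sl3t10_h28_transport ζ x w d _ (-1) hw1 (act_inv ζ _ x 1 a3)
  · have h := act_inv ζ _ x (-2) a2
    rw [neg_neg] at h
    exact sl3t10_h28_transport ζ x w (d2 d c) _ 2 hw2 h
  · exact sl3t10_h28_transport ζ x w (d3 d c) _ (-1) hw3 (act_inv ζ _ x 1 a1)

end T

end Cfsg.Agent.Lib.helper17.SL3
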