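import Mathlib
import Cfsg.Agent.Lib.helper17.SLP.Defs
import Cfsg.Agent.Lib.helper17.SL3.Defs
import Cfsg.Agent.Lib.helper17.SL3.Defs2
import Cfsg.Agent.Lib.helper2.SL3T5
import Cfsg.Agent.Lib.Helper28.SL3Kcore
import Cfsg.Agent.Lib.Helper28.SL3T910h28

/-!
# Project SL3, rows K1 (`rank1`), K2 (`rank1_all`), K3 (`wsq_mem`): verbatim statements (helper28).
-/

set_option autoImplicit false

namespace Cfsg.Agent.Lib.helper17.SL3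

open Cfsg.Agent.Lib.helper17.SLP
open Polynomial

universe u v

section K

variable {F : Type u} [Field F] {G : Type v} [Group G]

/-- K1. -/
theorem rank1 (ζ : Fˣ) (hζ : ∀ y : Fˣ, y ∈ Subgroup.zpowers ζ) (x : F → G) (d w c : G)
    (H : Hyp ζ x d w c) (i : ℤ) :
    x ((ζ ^ i : Fˣ) : F) * x10 x w (-((ζ ^ (-i) : Fˣ) : F)) * x ((ζ ^ i : Fˣ) : F) =
      d ^ i * (d3 d c) ^ i * w :=
  sl3k1_core ζ x d w c H (tor_w ζ x d w c H).1 (sl3t10_h28_act10 ζ hζ x d w c H).2.2.1 i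

/-- K2. -/
theorem rank1_all (ζ : Fˣ) (hζ : ∀ y : Fˣ, y ∈ Subgroup.zpowers ζ) (x : F → G) (d w c : G)
    (H : Hyp ζ x d w c) (t : F) (ht : t ≠ 0) :
    ∃ i : ℤ, x10 x w t = x t⁻¹ * (d ^ i * (d3 d c) ^ i) * w * x t⁻¹ :=
  sl3k2_core ζ hζ x d w c H.add (fun i => rank1 ζ hζ x d w c H i) t ht

/-- K3. -/
theorem wsq_mem (ζ : Fˣ) (hζ : ∀ y : Fˣ, y ∈ Subgroup.zpowers ζ) (x : F → G) (d w c : G)
    (H : Hyp ζ x d w c) :
    ∃ i : ℤ, ((ζ ^ i : Fˣ) : F) = -1 ∧ w ^ 2 = (d ^ i * (d3 d c) ^ i)⁻¹ :=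
  sl3k3_core ζ hζ x d w c H.add H.K1 (fun i => rank1 ζ hζ x d w c H i)

end K

end Cfsg.Agent.Lib.helper17.SL3
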