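import Mathlib
import Cfsg.Agent.Lib.helper17.SLP.Defs
import Cfsg.Agent.Lib.helper17.SL3.Defs
import Cfsg.Agent.Lib.helper17.SL3.Defs2
import Cfsg.Agent.Lib.helper2.SL3T4
import Cfsg.Agent.Lib.helper2.SL3D4core
import Cfsg.Agent.Lib.Helper28.SL3K1
import Cfsg.Agent.Lib.Helper28.SL3D6core
import Cfsg.Agent.Lib.Helper28.SL3D7core

/-!
# Project SL3, rows D6 (`rd_rank1`) and D7 (`rd_braid_gen`): verbatim statements (helper28).
-/

set_option autoImplicit false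

namespace Cfsg.Agent.Lib.helper17.SL3

open Cfsg.Agent.Lib.helper17.SLP
open Polynomial

universe u v

section D

variable {F : Type u} [Field F] [Fintype F] {G : Type v} [Group G]

/-- D6. -/
theorem rd_rank1 (ζ : Fˣ) (hζ : ∀ y : Fˣ, y ∈ Subgroup.zpowers ζ) (x : F → G) (d w c : G)
    (H : Hyp ζ x d w c) :
    (∀ g ∈ RG (x10 x w), g = 1 ∨ ∃ a ∈ RG x, ∃ τ ∈ TT d c, ∃ a' ∈ RG x, g = a * τ * w * a') ∧
      ∀ g ∈ RG (x21 x w c), g = 1 ∨ ∃ b ∈ RG (x12 x c), ∃ τ ∈ TT d c, ∃ b' ∈ RG (x12 x c),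
        g = b * τ * (c * w * c⁻¹) * b' :=
  sl3d6_core x d w c H.add (fun t ht => rank1_all ζ hζ x d w c H t ht) (tor_rel ζ x d w c H)

/-- D7. -/
theorem rd_braid_gen (ζ : Fˣ) (hζ : ∀ y : Fˣ, y ∈ Subgroup.zpowers ζ) (x : F → G) (d w c : G)
    (H : Hyp ζ x d w c) (hgen : Subgroup.closure {x 1, d, w, c} = ⊤) :
    (∃ τ ∈ TT d c, (c * w * c⁻¹) * w * (c * w * c⁻¹) = τ * (w * (c * w * c⁻¹) * w)) ∧
      Subgroup.closure (((TT d c : Subgroup G) : Set G) ∪ (RG x : Set G) ∪ (RG (x12 x c) : Set G) ∪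
        {w, c * w * c⁻¹}) = ⊤ :=
  sl3d7_core x d w c H.c3 H.E2 (sl3d4_core ζ x d w c H (wsq_mem ζ hζ x d w c H)) hgen

end D

end Cfsg.Agent.Lib.helper17.SL3
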