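import Cfsg.Agent.S5646

set_option autoImplicit false

open Cfsg

namespace Cfsg.Agent.Lib.Helper28.DecGen

open Matrix

variable {ι : Type} [Fintype ι] [DecidableEq ι] {F : Type*} [Field F]

theorem gl_cancel (g : Matrix.GeneralLinearGroup ι F) (x : ι → F) :
    ((g⁻¹ : Matrix.GeneralLinearGroup ι F) : Matrix ι ι F) *ᵥ
      ((g : Matrix ι ι F) *ᵥ x) = x := by
  rw [Matrix.mulVec_mulVec, ← Units.val_mul, inv_mul_cancel, Units.val_one, Matrix.one_mulVec]

theorem gl_cancel' (g : Matrix.GeneralLinearGroup ι F) (x : ι → F) :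
    (g : Matrix ι ι F) *ᵥ
      (((g⁻¹ : Matrix.GeneralLinearGroup ι F) : Matrix ι ι F) *ᵥ x) = x := by
  rw [Matrix.mulVec_mulVec, ← Units.val_mul, mul_inv_cancel, Units.val_one, Matrix.one_mulVec]

theorem gl_inj (g : Matrix.GeneralLinearGroup ι F) :
    Function.Injective (Matrix.toLin' (g : Matrix ι ι F)) := by
  intro x y hxy
  rw [Matrix.toLin'_apply, Matrix.toLin'_apply] at hxy
  have := congrArg (fun z => ((g⁻¹ : Matrix.GeneralLinearGroup ι F) : Matrix ι ι F) *ᵥ z) hxy
  simp only [gl_cancel] at this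
  exact this

theorem gl_ne_zero (g : Matrix.GeneralLinearGroup ι F) (x : ι → F)
    (hx : x ≠ 0) : (g : Matrix ι ι F) *ᵥ x ≠ 0 := by
  intro h0
  apply hx
  have := gl_cancel g x
  rw [h0, Matrix.mulVec_zero] at this
  exact this.symm

theorem glx (g1 g2 : Matrix.GeneralLinearGroup ι F)
    (h : ∀ x, (g1 : Matrix ι ι F) *ᵥ x = (g2 : Matrix ι ι F) *ᵥ x) : g1 = g2 :=
  Units.ext (Matrix.ext_iff_mulVec.mpr h)

theorem map_eq {t k : ℕ} (D : Fin t → Submodule F (ι → F))
    (hfr : ∀ i, Module.finrank F (D i) = k)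
    (g : Matrix.GeneralLinearGroup ι F) (i c : Fin t)
    (h : ∀ x ∈ D i, (g : Matrix ι ι F) *ᵥ x ∈ D c) :
    (D i).map (Matrix.toLin' (g : Matrix ι ι F)) = D c := by
  apply Submodule.eq_of_le_of_finrank_eq
  · rintro _ ⟨x, hx, rfl⟩
    rw [Matrix.toLin'_apply]
    exact h x hx
  · rw [hfr, ← (Submodule.equivMapOfInjective _ (gl_inj g) (D i)).finrank_eq, hfr]

theorem stab_of_maps {t k : ℕ} (D : Fin t → Submodule F (ι → F))
    (hfr : ∀ i, Module.finrank F (D i) = k)
    (g : Matrix.GeneralLinearGroup ι F) (σ : Equiv.Perm (Fin t))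
    (h : ∀ i, ∀ x ∈ D i, (g : Matrix ι ι F) *ᵥ x ∈ D (σ i)) :
    g ∈ Cfsg.Geo.decompositionStabilizer D :=
  ⟨σ, fun i => map_eq D hfr g i (σ i) (h i)⟩

theorem exists_ne_zero {k : ℕ} (W : Submodule F (ι → F))
    (hdim : Module.finrank F W = k) (hk : 0 < k) : ∃ a ∈ W, a ≠ 0 := by
  apply Submodule.exists_mem_ne_zero_of_ne_bot
  intro h
  rw [h, finrank_bot] at hdim
  omega

theorem two_comp {t : ℕ} (D : Fin t → Submodule F (ι → F)) (hind : iSupIndep D)
    (i j c : Fin t) (hij : i ≠ j) (x y : ι → F) (hx : x ∈ D i) (hy : y ∈ D j)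
    (hxy : x + y ∈ D c) : x = 0 ∨ y = 0 := by
  by_cases hcj : c = j
  · left
    subst hcj
    have h1 : x ∈ D c := by
      have := (D c).sub_mem hxy hy
      simpa using this
    have hdis : Disjoint (D i) (D c) := hind.pairwiseDisjoint hij
    exact (Submodule.disjoint_def.mp hdis) x hx h1
  · right
    have h1 : y ∈ ⨆ (l) (_ : l ≠ j), D l := by
      have : y = (x + y) - x := by abel
      rw [this]
      exact Submodule.sub_mem _
        (Submodule.mem_iSup_of_mem c (Submodule.mem_iSup_of_mem hcj hxy))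
        (Submodule.mem_iSup_of_mem i (Submodule.mem_iSup_of_mem hij hx))
    exact (Submodule.disjoint_def.mp (hind j)) y hy h1

theorem exists_spread {t k : ℕ} (D : Fin t → Submodule F (ι → F))
    (hD : Cfsg.Geo.IsMDecomposition k D)
    (g : Matrix.GeneralLinearGroup ι F)
    (hg : g ∉ Cfsg.Geo.decompositionStabilizer D) :
    ∃ i, ∃ v ∈ D i, ∀ c, (g : Matrix ι ι F) *ᵥ v ∉ D c := by
  classical
  by_contra hcon
  push Not at hcon
  have hne : ∀ i, ∃ d ∈ D i, d ≠ 0 := fun i => exists_ne_zero (D i) (hD.finrank_eq i) hD.pos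
  choose d hd hd0 using hne
  have hσ : ∀ i, ∃ c, (g : Matrix ι ι F) *ᵥ d i ∈ D c :=
    fun i => hcon i (d i) (hd i)
  choose σ hσ using hσ
  have hmaps : ∀ i, ∀ x ∈ D i, (g : Matrix ι ι F) *ᵥ x ∈ D (σ i) := by
    intro i
    have hdisj : (⨆ (l) (_ : l ≠ σ i), D l) ⊓ D (σ i) = ⊥ := by
      rw [inf_comm]
      exact disjoint_iff.mp (hD.indep (σ i))
    apply Cfsg.Agent.S5646.all_into (g : Matrix ι ι F) (D i)
      (⨆ (l) (_ : l ≠ σ i), D l) (D (σ i)) hdisj
    · intro x hx
      obtain ⟨c, hc⟩ := hcon i x hx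
      by_cases hcs : c = σ i
      · right
        rw [← hcs]
        exact hc
      · left
        exact Submodule.mem_iSup_of_mem c (Submodule.mem_iSup_of_mem hcs hc)
    · exact hd i
    · intro hmem
      exact gl_ne_zero g (d i) (hd0 i)
        ((Submodule.disjoint_def.mp (hD.indep (σ i))) _ (hσ i) hmem)
  have hinj : Function.Injective σ := by
    intro i j hij
    have h1 := map_eq D hD.finrank_eq g i (σ i) (hmaps i)
    have h2 := map_eq D hD.finrank_eq g j (σ j) (hmaps j)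
    rw [← hij] at h2
    have h3 : D i = D j := Submodule.map_injective_of_injective (gl_inj g) (h1.trans h2.symm)
    refine hD.indep.injective (fun l hl => ?_) h3
    have := hd l
    rw [hl] at this
    exact hd0 l ((Submodule.mem_bot F).mp this)
  apply hg
  exact stab_of_maps D hD.finrank_eq g
    (Equiv.ofBijective σ (Finite.injective_iff_bijective.mp hinj))
    (fun i x hx => hmaps i x hx)

theorem fin2_cases (i j k : Fin 2) (hij : i ≠ j) : k = i ∨ k = j := by
  omega

theorem fin2_other (i : Fin 2) : ∃ j : Fin 2, i ≠ j := by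
  by_cases h : i = 0
  · exact ⟨1, by rw [h]; decide⟩
  · exact ⟨0, h⟩

theorem top_ij {k : ℕ} (D : Fin 2 → Submodule F (ι → F)) (hD : Cfsg.Geo.IsMDecomposition k D)
    (i j : Fin 2) (hij : i ≠ j) : D i ⊔ D j = ⊤ := by
  rw [eq_top_iff, ← hD.iSup_eq_top]
  apply iSup_le
  intro l
  rcases fin2_cases i j l hij with h | h
  · rw [h]
    exact le_sup_left
  · rw [h]
    exact le_sup_right

theorem split_ij {k : ℕ} (D : Fin 2 → Submodule F (ι → F))
    (hD : Cfsg.Geo.IsMDecomposition k D) (i j : Fin 2) (hij : i ≠ j)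
    (x : ι → F) : ∃ y ∈ D i, ∃ z ∈ D j, x = y + z := by
  have hx : x ∈ D i ⊔ D j := by
    rw [top_ij D hD i j hij]
    exact Submodule.mem_top
  obtain ⟨y, hy, z, hz, hyz⟩ := Submodule.mem_sup.mp hx
  exact ⟨y, hy, z, hz, hyz.symm⟩

theorem avoid {V : Type*} [AddCommGroup V] [Module F V] [FiniteDimensional F V] {k : ℕ}
    (W S : Submodule F V) (φ : Fin k → (V →ₗ[F] F))
    (h : Module.finrank F S + k < Module.finrank F W) :
    ∃ w ∈ W, (∀ i, φ i w = 0) ∧ w ∉ S := by
  obtain ⟨Φ, hΦ⟩ : ∃ Φ : W →ₗ[F] (Fin k → F), ∀ w i, Φ w i = φ i w :=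
    ⟨(LinearMap.pi φ).domRestrict W, fun w i => rfl⟩
  have h1 := LinearMap.finrank_range_add_finrank_ker Φ
  have h2 : Module.finrank F (LinearMap.range Φ) ≤ k := by
    have := Submodule.finrank_le (LinearMap.range Φ)
    rw [Module.finrank_fin_fun] at this
    exact this
  have h3 : Module.finrank F ((LinearMap.ker Φ).map W.subtype) =
      Module.finrank F (LinearMap.ker Φ) :=
    (Submodule.equivMapOfInjective W.subtype W.injective_subtype (LinearMap.ker Φ)).finrank_eq.symm
  have hnot : ¬ (LinearMap.ker Φ).map W.subtype ≤ S := by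
    intro hle
    have := Submodule.finrank_mono hle
    omega
  obtain ⟨x, hx, hxS⟩ := SetLike.not_le_iff_exists.mp hnot
  obtain ⟨w, hw, rfl⟩ := hx
  refine ⟨w, w.2, ?_, hxS⟩
  intro i
  have := congrFun (LinearMap.mem_ker.mp hw) i
  rw [hΦ] at this
  exact this

theorem finrank_pair_le {V : Type*} [AddCommGroup V] [Module F V] (a b : V) :
    Module.finrank F (Submodule.span F ({a, b} : Set V)) ≤ 2 := by
  classical
  have h := finrank_span_finset_le_card (R := F) ({a, b} : Finset V)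
  rw [Finset.coe_insert, Finset.coe_singleton] at h
  exact h.trans Finset.card_le_two

end Cfsg.Agent.Lib.Helper28.DecGen
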