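import Cfsg.Agent.Lib.Helper28.OEven
import Cfsg.Agent.Lib.Helper28.DecGen

set_option autoImplicit false

open Cfsg

namespace Cfsg.Agent.Lib.Helper28.OPair

open Matrix Cfsg.Agent.Lib.Helper28.HForm Cfsg.Agent.Lib.Helper28.OGen
  Cfsg.Agent.Lib.Helper28.OMax Cfsg.Agent.Lib.Helper28.OQ Cfsg.Agent.Lib.Helper28.OMax2
  Cfsg.Agent.Lib.Helper28.OIwa Cfsg.Agent.Lib.Helper28.DecGen

variable {n : ℕ} {F : Type*} [Field F] {Q : (Fin n → F) → F}
  {f : (Fin n → F) → (Fin n → F) → F}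

theorem dual_ij (hf : SymF f) {k : ℕ}
    (D : Fin 2 → Submodule F (Fin n → F)) (hD : Cfsg.Geo.IsMDecomposition k D)
    (hts : ∀ i, ∀ x ∈ D i, ∀ y ∈ D i, f x y = 0)
    (i j : Fin 2) (hij : i ≠ j) (A : Submodule F (Fin n → F)) (hA : A ≤ D i)
    (u : Fin n → F) (hu : u ∈ D i) (huA : u ∉ A) :
    ∃ v ∈ D j, (∀ a ∈ A, f a v = 0) ∧ f u v = 1 := by
  obtain ⟨y0, hy0A, hy0u⟩ := dperp_s hf A u huA
  obtain ⟨y, hy⟩ : ∃ y : Fin n → F, y = (f u y0)⁻¹ • y0 := ⟨_, rfl⟩
  have hyA : ∀ a ∈ A, f a y = 0 := by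
    intro a ha
    rw [hy, s_smul_right hf, hy0A a ha, mul_zero]
  have hyu : f u y = 1 := by
    rw [hy, s_smul_right hf, inv_mul_cancel₀ hy0u]
  obtain ⟨y1, hy1, y2, hy2, hsplit⟩ := split_ij D hD i j hij y
  refine ⟨y2, hy2, ?_, ?_⟩
  · intro a ha
    have := hyA a ha
    rw [hsplit, f_add_right hf, hts i a (hA ha) y1 hy1, zero_add] at this
    exact this
  · rw [hsplit, f_add_right hf, hts i u hu y1 hy1, zero_add] at hyu
    exact hyu

theorem dual0 (hf : SymF f) {k : ℕ}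
    (D : Fin 2 → Submodule F (Fin n → F)) (hD : Cfsg.Geo.IsMDecomposition k D)
    (hts : ∀ i, ∀ x ∈ D i, ∀ y ∈ D i, f x y = 0)
    (i j : Fin 2) (hij : i ≠ j)
    (u : Fin n → F) (hu : u ∈ D i) (hu0 : u ≠ 0) :
    ∃ v ∈ D j, f u v = 1 := by
  obtain ⟨v, hv, _, h⟩ := dual_ij hf D hD hts i j hij ⊥ bot_le u hu
    (fun h => hu0 ((Submodule.mem_bot F).mp h))
  exact ⟨v, hv, h⟩

theorem sg_mem_stab {k : ℕ}
    (D : Fin 2 → Submodule F (Fin n → F)) (hD : Cfsg.Geo.IsMDecomposition k D)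
    (hts : ∀ i, ∀ x ∈ D i, ∀ y ∈ D i, f x y = 0)
    (i j : Fin 2) (hij : i ≠ j) (u v : Fin n → F) (hu : u ∈ D i) (hv : v ∈ D j)
    (c : F) (t : Matrix.GeneralLinearGroup (Fin n) F) (ht : IsSg f t u v c) :
    t ∈ Cfsg.Geo.decompositionStabilizer D := by
  apply stab_of_maps D hD.finrank_eq t 1
  intro l x hx
  rw [ht x, Equiv.Perm.one_apply]
  unfold Tv
  rcases fin2_cases i j l hij with h | h
  · subst h
    rw [hts l u hu x hx, zero_smul, zero_sub]
    exact (D l).add_mem hx ((D l).smul_mem _ ((D l).neg_mem ((D l).smul_mem _ hu)))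
  · subst h
    rw [hts l v hv x hx, zero_smul, sub_zero]
    exact (D l).add_mem hx ((D l).smul_mem _ ((D l).smul_mem _ hv))

def SRO (f : (Fin n → F) → (Fin n → F) → F)
    (M : Subgroup (Matrix.GeneralLinearGroup (Fin n) F)) (u v : Fin n → F) : Prop :=
  ∀ (c : F) (t : Matrix.GeneralLinearGroup (Fin n) F), IsSg f t u v c → t ∈ M

theorem SRO_of_H (hq : QF Q f) {k : ℕ}
    (D : Fin 2 → Submodule F (Fin n → F)) (hD : Cfsg.Geo.IsMDecomposition k D)
    (htsQ : ∀ i, ∀ x ∈ D i, Q x = 0)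
    (G : Subgroup (Matrix.GeneralLinearGroup (Fin n) F)) (hG : SgGroupQ Q f G)
    (M : Subgroup (Matrix.GeneralLinearGroup (Fin n) F))
    (hHM : Cfsg.Geo.decompositionStabilizer D ⊓ G ≤ M)
    (i j : Fin 2) (hij : i ≠ j) (u v : Fin n → F) (hu : u ∈ D i) (hv : v ∈ D j)
    (huv : f u v = 0) : SRO f M u v := by
  intro c t ht
  exact hHM (Subgroup.mem_inf.mpr
    ⟨sg_mem_stab D hD (fun l => ts_ti hq (D l) (htsQ l)) i j hij u v hu hv c t ht,
      hG.sg t u v c (htsQ i u hu) (htsQ j v hv) huv ht⟩)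

theorem SRO_conj (hq : QF Q f)
    (G : Subgroup (Matrix.GeneralLinearGroup (Fin n) F)) (hG : SgGroupQ Q f G)
    (M : Subgroup (Matrix.GeneralLinearGroup (Fin n) F))
    {u v : Fin n → F} (hu : Q u = 0) (hv : Q v = 0) (huv : f u v = 0)
    (h : SRO f M u v) (g : Matrix.GeneralLinearGroup (Fin n) F) (hg : g ∈ M)
    (hgQ : ∀ x, Q ((g : Matrix (Fin n) (Fin n) F) *ᵥ x) = Q x) :
    SRO f M ((g : Matrix (Fin n) (Fin n) F) *ᵥ u) ((g : Matrix (Fin n) (Fin n) F) *ᵥ v) := by
  intro c t ht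
  obtain ⟨t0, ht0⟩ := hG.ex u v c hu hv huv
  have ht0M : t0 ∈ M := h c t0 ht0
  have hconj := isSg_conj (iso_f hq g hgQ) ht0
  have : t = g * t0 * g⁻¹ := by
    apply gl_ext
    intro x
    rw [ht x, hconj x]
  rw [this]
  exact M.mul_mem (M.mul_mem hg ht0M) (M.inv_mem hg)

theorem comm1 (hf : SymF f)
    (A B S : Matrix.GeneralLinearGroup (Fin n) F)
    (u v p q : Fin n → F) (t : F)
    (huu : f u u = 0) (hpp : f p p = 0)
    (huv : f u v = 0) (hpq : f p q = 0)
    (hup : f u p = 0) (huq : f u q = 0) (hvp : f v p = 0)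
    (hA : IsSg f A u v 1) (hB : IsSg f B p q t) (hS : IsSg f S p u (-(t * f v q))) :
    B * S * A = A * B := by
  apply gl_ext
  intro x
  have hvu : f v u = 0 := by rw [s_symm hf, huv]
  have hqp : f q p = 0 := by rw [s_symm hf, hpq]
  have hpu : f p u = 0 := by rw [s_symm hf, hup]
  have hqu : f q u = 0 := by rw [s_symm hf, huq]
  have hpv : f p v = 0 := by rw [s_symm hf, hvp]
  have hqv : f q v = f v q := s_symm hf q v
  rw [Units.val_mul, Units.val_mul, Units.val_mul, ← Matrix.mulVec_mulVec, ← Matrix.mulVec_mulVec,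
    ← Matrix.mulVec_mulVec, hA x, hS, hB, hB x, hA]
  unfold Tv
  simp only [f_add_right hf, f_sub_right hf, s_smul_right hf, huu, hpp, huv, hup, huq, hvp,
    hqp, hpu, hqu, hpv, hqv, mul_zero, sub_zero, add_zero, one_smul]
  module

theorem comm2 (hf : SymF f)
    (C S T : Matrix.GeneralLinearGroup (Fin n) F)
    (u w v p : Fin n → F) (s : F)
    (huu : f u u = 0) (hww : f w w = 0) (huw : f u w = 0)
    (hwv : f w v = 0) (huv : f u v = 0) (hpw : f p w = 0) (hpu : f p u = 0)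
    (hC : IsSg f C w v 1) (hS : IsSg f S p u s) (hT : IsSg f T u w (s * f p v)) :
    C * S = S * T * C := by
  apply gl_ext
  intro x
  have hwu : f w u = 0 := by rw [s_symm hf, huw]
  have hvw : f v w = 0 := by rw [s_symm hf, hwv]
  have hvu : f v u = 0 := by rw [s_symm hf, huv]
  have hwp : f w p = 0 := by rw [s_symm hf, hpw]
  have hup : f u p = 0 := by rw [s_symm hf, hpu]
  have hvp : f v p = f p v := s_symm hf v p
  rw [Units.val_mul, Units.val_mul, Units.val_mul, ← Matrix.mulVec_mulVec, ← Matrix.mulVec_mulVec,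
    ← Matrix.mulVec_mulVec, hS x, hC, hC x, hT, hS]
  unfold Tv
  simp only [f_add_right hf, f_sub_right hf, s_smul_right hf, huu, hww, huw, hwv, huv, hpw, hpu,
    hwu, hvu, hwp, hvp, mul_zero, sub_zero, add_zero, zero_sub, one_smul]
  module

def fL (hf : SymF f) (a : Fin n → F) : (Fin n → F) →ₗ[F] F where
  toFun x := f x a
  map_add' x y := hf.add_left x y a
  map_smul' c x := hf.smul_left c x a

theorem core (hq : QF Q f) {k : ℕ} (hk : 5 ≤ k)
    (D : Fin 2 → Submodule F (Fin n → F)) (hD : Cfsg.Geo.IsMDecomposition k D)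
    (htsQ : ∀ i, ∀ x ∈ D i, Q x = 0)
    (G : Subgroup (Matrix.GeneralLinearGroup (Fin n) F)) (hG : SgGroupQ Q f G)
    (M : Subgroup (Matrix.GeneralLinearGroup (Fin n) F))
    (hHM : Cfsg.Geo.decompositionStabilizer D ⊓ G ≤ M)
    (a b : Fin 2) (hab : a ≠ b) (p q pa pb qa qb : Fin n → F)
    (hpa : pa ∈ D a) (hpb : pb ∈ D b) (hqa : qa ∈ D a) (hqb : qb ∈ D b)
    (hp : p = pa + pb) (hq' : q = qa + qb) (hQp : Q p = 0) (hQq : Q q = 0) (hpq : f p q = 0)
    (hpa0 : pa ≠ 0) (hqa' : qa ∉ Submodule.span F {pa}) (hSR : SRO f M p q) :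
    ∃ u ∈ D a, ∃ w ∈ D a, u ≠ 0 ∧ w ∉ Submodule.span F {u} ∧ SRO f M u w := by
  have hf := hq.sym
  have hts : ∀ i, ∀ x ∈ D i, ∀ y ∈ D i, f x y = 0 := fun l => ts_ti hq (D l) (htsQ l)
  obtain ⟨u, hu, hφ, huS⟩ := avoid (D a) (Submodule.span F {pa, qa}) ![fL hf pb, fL hf qb] (by
    have := finrank_pair_le (F := F) pa qa
    rw [hD.finrank_eq a]
    omega)
  have h0 : f u pb = 0 := hφ 0
  have h1 : f u qb = 0 := hφ 1
  have hu0 : u ≠ 0 := by
    rintro rfl
    exact huS (Submodule.zero_mem _)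
  have hQu : Q u = 0 := htsQ a u hu
  have huu : f u u = 0 := hts a u hu u hu
  have hpp : f p p = 0 := by rw [f_self hq, hQp, mul_zero]
  have hup : f u p = 0 := by
    rw [hp, f_add_right hf, hts a u hu pa hpa, h0, add_zero]
  have huq : f u q = 0 := by
    rw [hq', f_add_right hf, hts a u hu qa hqa, h1, add_zero]
  have hnot : qa ∉ Submodule.span F {u, pa} := by
    intro h
    obtain ⟨α, β, hαβ⟩ := Submodule.mem_span_pair.mp h
    by_cases hα : α = 0
    · subst hα
      rw [zero_smul, zero_add] at hαβ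
      exact hqa' (Submodule.mem_span_singleton.mpr ⟨β, hαβ⟩)
    · apply huS
      rw [Submodule.mem_span_pair]
      refine ⟨-(α⁻¹ * β), α⁻¹, ?_⟩
      rw [← hαβ, smul_add, smul_smul, smul_smul, inv_mul_cancel₀ hα, one_smul, neg_smul]
      abel
  obtain ⟨v, hv, hvA, hvq⟩ := dual_ij hf D hD hts a b hab (Submodule.span F {u, pa}) (by
    rw [Submodule.span_le]
    intro x hx
    rcases hx with rfl | rfl
    · exact hu
    · exact hpa) qa hqa hnot
  have huv : f u v = 0 := hvA u (Submodule.subset_span (Set.mem_insert _ _))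
  have hpav : f pa v = 0 := hvA pa (Submodule.subset_span (Set.mem_insert_of_mem _ rfl))
  have hpv : f p v = 0 := by
    rw [hp, hf.add_left, hpav, hts b pb hpb v hv, add_zero]
  have hqv : f q v = 1 := by
    rw [hq', hf.add_left, hvq, hts b qb hqb v hv, add_zero]
  have hvp : f v p = 0 := by rw [s_symm hf, hpv]
  have hvq' : f v q = 1 := by rw [s_symm hf, hqv]
  obtain ⟨w, hw, hψ, hwS⟩ := avoid (D a) (Submodule.span F {u, pa}) ![fL hf pb] (by
    have := finrank_pair_le (F := F) u pa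
    rw [hD.finrank_eq a]
    omega)
  have hwpb : f w pb = 0 := hψ 0
  have hpw : f p w = 0 := by
    rw [hp, hf.add_left, hts a pa hpa w hw, s_symm hf pb w, hwpb, add_zero]
  have hwu : w ∉ Submodule.span F {u} := by
    intro h
    apply hwS
    obtain ⟨α, hα⟩ := Submodule.mem_span_singleton.mp h
    rw [Submodule.mem_span_pair]
    exact ⟨α, 0, by rw [hα, zero_smul, add_zero]⟩
  have hnot' : pa ∉ Submodule.span F {w, u} := by
    intro h
    obtain ⟨α, β, hαβ⟩ := Submodule.mem_span_pair.mp h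
    by_cases hα : α = 0
    · subst hα
      rw [zero_smul, zero_add] at hαβ
      have hβ0 : β ≠ 0 := by
        rintro rfl
        rw [zero_smul] at hαβ
        exact hpa0 hαβ.symm
      apply huS
      rw [Submodule.mem_span_pair]
      refine ⟨β⁻¹, 0, ?_⟩
      rw [← hαβ, smul_smul, inv_mul_cancel₀ hβ0, one_smul, zero_smul, add_zero]
    · apply hwS
      rw [Submodule.mem_span_pair]
      refine ⟨-(α⁻¹ * β), α⁻¹, ?_⟩
      rw [← hαβ, smul_add, smul_smul, smul_smul, inv_mul_cancel₀ hα, one_smul, neg_smul]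
      abel
  obtain ⟨v', hv', hvA', hvp'⟩ := dual_ij hf D hD hts a b hab (Submodule.span F {w, u}) (by
    rw [Submodule.span_le]
    intro x hx
    rcases hx with rfl | rfl
    · exact hw
    · exact hu) pa hpa hnot'
  have hwv' : f w v' = 0 := hvA' w (Submodule.subset_span (Set.mem_insert _ _))
  have huv' : f u v' = 0 := hvA' u (Submodule.subset_span (Set.mem_insert_of_mem _ rfl))
  have hpv' : f p v' = 1 := by
    rw [hp, hf.add_left, hvp', hts b pb hpb v' hv', add_zero]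
  have hSRuv : SRO f M u v := SRO_of_H hq D hD htsQ G hG M hHM a b hab u v hu hv huv
  have hSRwv' : SRO f M w v' := SRO_of_H hq D hD htsQ G hG M hHM a b hab w v' hw hv' hwv'
  have hQv : Q v = 0 := htsQ b v hv
  have hQv' : Q v' = 0 := htsQ b v' hv'
  have hQw : Q w = 0 := htsQ a w hw
  have hpu : f p u = 0 := by rw [s_symm hf, hup]
  have hSRpu : SRO f M p u := by
    intro c S hS
    obtain ⟨A, hA⟩ := hG.ex u v 1 hQu hQv huv
    have hAM : A ∈ M := hSRuv 1 A hA
    obtain ⟨B, hB⟩ := hG.ex p q (-c) hQp hQq hpq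
    have hBM : B ∈ M := hSR (-c) B hB
    have hc := comm1 hf A B S u v p q (-c) huu hpp huv hpq hup huq hvp hA hB (by
      rw [hvq', mul_one, neg_neg]
      exact hS)
    have : S = B⁻¹ * (A * B) * A⁻¹ := by
      rw [← hc]
      group
    rw [this]
    exact M.mul_mem (M.mul_mem (M.inv_mem hBM) (M.mul_mem hAM hBM)) (M.inv_mem hAM)
  refine ⟨u, hu, w, hw, hu0, hwu, ?_⟩
  intro c T hT
  obtain ⟨C, hC⟩ := hG.ex w v' 1 hQw hQv' hwv'
  have hCM : C ∈ M := hSRwv' 1 C hC
  obtain ⟨S, hS⟩ := hG.ex p u c hQp hQu hpu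
  have hSM : S ∈ M := hSRpu c S hS
  have hcc := comm2 hf C S T u w v' p c huu (hts a w hw w hw) (hts a u hu w hw) hwv' huv' hpw hpu
    hC hS (by
      rw [hpv', mul_one]
      exact hT)
  have : T = S⁻¹ * (C * S) * C⁻¹ := by
    rw [hcc]
    group
  rw [this]
  exact M.mul_mem (M.mul_mem (M.inv_mem hSM) (M.mul_mem hCM hSM)) (M.inv_mem hCM)

theorem start (hq : QF Q f) {k : ℕ} (hk : 5 ≤ k)
    (D : Fin 2 → Submodule F (Fin n → F)) (hD : Cfsg.Geo.IsMDecomposition k D)
    (htsQ : ∀ i, ∀ x ∈ D i, Q x = 0)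
    (G : Subgroup (Matrix.GeneralLinearGroup (Fin n) F)) (hG : SgGroupQ Q f G)
    (M : Subgroup (Matrix.GeneralLinearGroup (Fin n) F)) (hM : M ≤ G)
    (hHM : Cfsg.Geo.decompositionStabilizer D ⊓ G ≤ M)
    (g : Matrix.GeneralLinearGroup (Fin n) F) (hgM : g ∈ M)
    (hg : g ∉ Cfsg.Geo.decompositionStabilizer D) :
    ∃ a, ∃ u ∈ D a, ∃ w ∈ D a, u ≠ 0 ∧ w ∉ Submodule.span F {u} ∧ SRO f M u w := by
  have hf := hq.sym
  have hts : ∀ i, ∀ x ∈ D i, ∀ y ∈ D i, f x y = 0 := fun l => ts_ti hq (D l) (htsQ l)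
  have hgQ := hG.iso g (hM hgM)
  have hiso := iso_f hq g hgQ
  obtain ⟨i, p0, hp0, hspread⟩ := exists_spread D hD g hg
  obtain ⟨j, hij⟩ := fin2_other i
  obtain ⟨pi, hpi, pj, hpj, hp⟩ := split_ij D hD i j hij
    ((g : Matrix (Fin n) (Fin n) F) *ᵥ p0)
  have hpi0 : pi ≠ 0 := by
    rintro rfl
    rw [zero_add] at hp
    apply hspread j
    rw [hp]
    exact hpj
  have hpj0 : pj ≠ 0 := by
    rintro rfl
    rw [add_zero] at hp
    apply hspread i
    rw [hp]
    exact hpi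
  obtain ⟨q0, hq0, hφ, hq0S⟩ := avoid (D j)
    (Submodule.span F {((g⁻¹ : Matrix.GeneralLinearGroup (Fin n) F) :
        Matrix (Fin n) (Fin n) F) *ᵥ pi,
      ((g⁻¹ : Matrix.GeneralLinearGroup (Fin n) F) :
        Matrix (Fin n) (Fin n) F) *ᵥ pj}) ![fL hf p0] (by
    have := finrank_pair_le (F := F)
      (((g⁻¹ : Matrix.GeneralLinearGroup (Fin n) F) :
        Matrix (Fin n) (Fin n) F) *ᵥ pi)
      (((g⁻¹ : Matrix.GeneralLinearGroup (Fin n) F) :
        Matrix (Fin n) (Fin n) F) *ᵥ pj)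
    rw [hD.finrank_eq j]
    omega)
  have hq0p0 : f q0 p0 = 0 := hφ 0
  have hp0q0 : f p0 q0 = 0 := by rw [s_symm hf, hq0p0]
  have hq_not : (g : Matrix (Fin n) (Fin n) F) *ᵥ q0 ∉ Submodule.span F {pi, pj} := by
    intro h
    obtain ⟨α, β, hαβ⟩ := Submodule.mem_span_pair.mp h
    apply hq0S
    rw [Submodule.mem_span_pair]
    refine ⟨α, β, ?_⟩
    rw [← Matrix.mulVec_smul, ← Matrix.mulVec_smul, ← Matrix.mulVec_add, hαβ, gl_cancel]
  obtain ⟨qi, hqi, qj, hqj, hq'⟩ := split_ij D hD i j hij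
    ((g : Matrix (Fin n) (Fin n) F) *ᵥ q0)
  have hpq : f ((g : Matrix (Fin n) (Fin n) F) *ᵥ p0)
      ((g : Matrix (Fin n) (Fin n) F) *ᵥ q0) = 0 := by
    rw [hiso, hp0q0]
  have hQp : Q ((g : Matrix (Fin n) (Fin n) F) *ᵥ p0) = 0 := by
    rw [hgQ, htsQ i p0 hp0]
  have hQq : Q ((g : Matrix (Fin n) (Fin n) F) *ᵥ q0) = 0 := by
    rw [hgQ, htsQ j q0 hq0]
  have hSR : SRO f M ((g : Matrix (Fin n) (Fin n) F) *ᵥ p0)
      ((g : Matrix (Fin n) (Fin n) F) *ᵥ q0) :=
    SRO_conj hq G hG M (htsQ i p0 hp0) (htsQ j q0 hq0) hp0q0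
      (SRO_of_H hq D hD htsQ G hG M hHM i j hij p0 q0 hp0 hq0 hp0q0) g hgM hgQ
  by_cases hqi' : qi ∈ Submodule.span F {pi}
  · have hqj' : qj ∉ Submodule.span F {pj} := by
      intro h
      apply hq_not
      obtain ⟨α, hα⟩ := Submodule.mem_span_singleton.mp hqi'
      obtain ⟨β, hβ⟩ := Submodule.mem_span_singleton.mp h
      rw [Submodule.mem_span_pair]
      exact ⟨α, β, by rw [hα, hβ, hq']⟩
    exact ⟨j, core hq hk D hD htsQ G hG M hHM j i hij.symm _ _ pj pi qj qi hpj hpi hqj hqi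
      (by rw [hp, add_comm]) (by rw [hq', add_comm]) hQp hQq hpq hpj0 hqj' hSR⟩
  · exact ⟨i, core hq hk D hD htsQ G hG M hHM i j hij _ _ pi pj qi qj hpi hpj hqi hqj
      hp hq' hQp hQq hpq hpi0 hqi' hSR⟩

theorem SRO_symm (M : Subgroup (Matrix.GeneralLinearGroup (Fin n) F)) {u w : Fin n → F}
    (h : SRO f M u w) : SRO f M w u :=
  fun c t ht => h (-c) t (isSg_swap ht)

theorem SRO_smul (hf : SymF f) (M : Subgroup (Matrix.GeneralLinearGroup (Fin n) F))
    {u w : Fin n → F} (a : F) (h : SRO f M u w) : SRO f M u (a • w) := by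
  intro c t ht
  apply h (c * a) t
  intro x
  rw [ht x]
  unfold Tv
  rw [hf.smul_left]
  module

theorem SRO_self (M : Subgroup (Matrix.GeneralLinearGroup (Fin n) F))
    (u : Fin n → F) : SRO f M u u := by
  intro c t ht
  have : t = 1 := by
    apply gl_ext
    intro x
    rw [ht x, Units.val_one, Matrix.one_mulVec]
    unfold Tv
    rw [sub_self, smul_zero, add_zero]
  rw [this]
  exact M.one_mem

theorem SRO_add (hq : QF Q f)
    (G : Subgroup (Matrix.GeneralLinearGroup (Fin n) F)) (hG : SgGroupQ Q f G)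
    (M : Subgroup (Matrix.GeneralLinearGroup (Fin n) F))
    {u w w' : Fin n → F} (hu : Q u = 0) (hw : Q w = 0) (hw' : Q w' = 0)
    (huw : f u w = 0) (huw' : f u w' = 0) (hww' : f w w' = 0)
    (h1 : SRO f M u w) (h2 : SRO f M u w') : SRO f M u (w + w') := by
  have hf := hq.sym
  intro c t ht
  obtain ⟨t1, ht1⟩ := hG.ex u w c hu hw huw
  obtain ⟨t2, ht2⟩ := hG.ex u w' c hu hw' huw'
  have huu : f u u = 0 := by rw [f_self hq, hu, mul_zero]
  have hwu : f w u = 0 := by rw [s_symm hf, huw]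
  have : t = t1 * t2 := by
    apply gl_ext
    intro x
    rw [ht x, Units.val_mul, ← Matrix.mulVec_mulVec, ht2 x, ht1]
    unfold Tv
    simp only [f_add_right hf, f_sub_right hf, s_smul_right hf, hf.add_left, huu, huw', hww', hwu,
      mul_zero, sub_zero, add_zero]
    module
  rw [this]
  exact M.mul_mem (h1 c t1 ht1) (h2 c t2 ht2)

theorem stepA (hq : QF Q f) {k : ℕ}
    (D : Fin 2 → Submodule F (Fin n → F)) (hD : Cfsg.Geo.IsMDecomposition k D)
    (htsQ : ∀ i, ∀ x ∈ D i, Q x = 0)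
    (G : Subgroup (Matrix.GeneralLinearGroup (Fin n) F)) (hG : SgGroupQ Q f G)
    (M : Subgroup (Matrix.GeneralLinearGroup (Fin n) F))
    (hHM : Cfsg.Geo.decompositionStabilizer D ⊓ G ≤ M)
    (a b : Fin 2) (hab : a ≠ b) (u w : Fin n → F) (hu : u ∈ D a) (hw : w ∈ D a)
    (hwu : w ∉ Submodule.span F {u}) (hSR : SRO f M u w) (y : Fin n → F) (hy : y ∈ D a) :
    SRO f M u y := by
  have hf := hq.sym
  have hts : ∀ i, ∀ x ∈ D i, ∀ y ∈ D i, f x y = 0 := fun l => ts_ti hq (D l) (htsQ l)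
  by_cases hwy : w ∈ Submodule.span F {u, y}
  · obtain ⟨α, β, hαβ⟩ := Submodule.mem_span_pair.mp hwy
    have hβ : β ≠ 0 := by
      rintro rfl
      rw [zero_smul, add_zero] at hαβ
      exact hwu (Submodule.mem_span_singleton.mpr ⟨α, hαβ⟩)
    have hy' : y = β⁻¹ • w + (-(β⁻¹ * α)) • u := by
      rw [← hαβ, smul_add, smul_smul, smul_smul, inv_mul_cancel₀ hβ, one_smul, neg_smul]
      abel
    rw [hy']
    apply SRO_add hq G hG M (htsQ a u hu) (htsQ a _ ((D a).smul_mem _ hw))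
      (htsQ a _ ((D a).smul_mem _ hu)) (hts a u hu _ ((D a).smul_mem _ hw))
      (hts a u hu _ ((D a).smul_mem _ hu))
      (hts a _ ((D a).smul_mem _ hw) _ ((D a).smul_mem _ hu))
    · exact SRO_smul hf M _ hSR
    · exact SRO_smul hf M _ (SRO_self M u)
  · obtain ⟨v, hv, hvA, hvw⟩ := dual_ij hf D hD hts a b hab (Submodule.span F {u, y}) (by
      rw [Submodule.span_le]
      intro x hx
      rcases hx with rfl | rfl
      · exact hu
      · exact hy) w hw hwy
    have huv : f u v = 0 := hvA u (Submodule.subset_span (Set.mem_insert _ _))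
    have hyv : f y v = 0 := hvA y (Submodule.subset_span (Set.mem_insert_of_mem _ rfl))
    obtain ⟨h, hh⟩ := hG.ex y v (-1) (htsQ a y hy) (htsQ b v hv) hyv
    have hhM : h ∈ M := SRO_of_H hq D hD htsQ G hG M hHM a b hab y v hy hv hyv (-1) h hh
    have hhG : h ∈ G := hG.sg h y v (-1) (htsQ a y hy) (htsQ b v hv) hyv hh
    have h1 := SRO_conj hq G hG M (htsQ a u hu) (htsQ a w hw) (hts a u hu w hw) hSR h hhM
      (hG.iso h hhG)
    have e1 : (h : Matrix (Fin n) (Fin n) F) *ᵥ u = u := by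
      rw [hh u]
      unfold Tv
      rw [hts a y hy u hu, s_symm hf v u, huv, zero_smul, zero_smul, sub_zero, smul_zero, add_zero]
    have e2 : (h : Matrix (Fin n) (Fin n) F) *ᵥ w = w + y := by
      rw [hh w]
      unfold Tv
      rw [hts a y hy w hw, s_symm hf v w, hvw, zero_smul, one_smul, zero_sub, neg_smul, one_smul,
        neg_neg]
    rw [e1, e2] at h1
    have hy' : y = (w + y) + (-1 : F) • w := by
      rw [neg_smul, one_smul]
      abel
    rw [hy']
    apply SRO_add hq G hG M (htsQ a u hu) (htsQ a _ ((D a).add_mem hw hy))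
      (htsQ a _ ((D a).smul_mem _ hw)) (hts a u hu _ ((D a).add_mem hw hy))
      (hts a u hu _ ((D a).smul_mem _ hw))
      (hts a _ ((D a).add_mem hw hy) _ ((D a).smul_mem _ hw))
    · exact h1
    · exact SRO_smul hf M _ hSR

theorem stepB (hq : QF Q f) {k : ℕ}
    (D : Fin 2 → Submodule F (Fin n → F)) (hD : Cfsg.Geo.IsMDecomposition k D)
    (htsQ : ∀ i, ∀ x ∈ D i, Q x = 0)
    (G : Subgroup (Matrix.GeneralLinearGroup (Fin n) F)) (hG : SgGroupQ Q f G)
    (M : Subgroup (Matrix.GeneralLinearGroup (Fin n) F))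
    (hHM : Cfsg.Geo.decompositionStabilizer D ⊓ G ≤ M)
    (a b : Fin 2) (hab : a ≠ b) (u w : Fin n → F) (hu : u ∈ D a) (hw : w ∈ D a) (hu0 : u ≠ 0)
    (hwu : w ∉ Submodule.span F {u}) (hSR : SRO f M u w) (x y : Fin n → F) (hx : x ∈ D a)
    (hy : y ∈ D a) : SRO f M x y := by
  have hf := hq.sym
  have hA := stepA hq D hD htsQ G hG M hHM a b hab u w hu hw hwu hSR
  by_cases hxu : x ∈ Submodule.span F {u}
  · obtain ⟨α, rfl⟩ := Submodule.mem_span_singleton.mp hxu
    exact SRO_symm M (SRO_smul hf M α (SRO_symm M (hA y hy)))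
  · have hux : u ∉ Submodule.span F {x} := by
      intro h
      obtain ⟨β, hβ⟩ := Submodule.mem_span_singleton.mp h
      have hβ0 : β ≠ 0 := by
        rintro rfl
        rw [zero_smul] at hβ
        exact hu0 hβ.symm
      apply hxu
      rw [Submodule.mem_span_singleton]
      exact ⟨β⁻¹, by rw [← hβ, smul_smul, inv_mul_cancel₀ hβ0, one_smul]⟩
    exact stepA hq D hD htsQ G hG M hHM a b hab x u hx hu hux (SRO_symm M (hA x hx)) y hy

theorem finrank_map_gl (g : Matrix.GeneralLinearGroup (Fin n) F) (W : Submodule F (Fin n → F)) :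
    Module.finrank F (W.map (Matrix.toLin' (g : Matrix (Fin n) (Fin n) F))) =
      Module.finrank F W :=
  (Submodule.equivMapOfInjective _ (gl_inj g) W).finrank_eq.symm

theorem finrank_sup_singleton (W : Submodule F (Fin n → F)) (z : Fin n → F) (hz : z ∉ W) :
    Module.finrank F (W ⊔ Submodule.span F {z} : Submodule F (Fin n → F)) =
      Module.finrank F W + 1 := by
  have h1 := Submodule.finrank_sup_add_finrank_inf_eq W (Submodule.span F {z})
  have hz0 : z ≠ 0 := by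
    rintro rfl
    exact hz W.zero_mem
  have h2 : Module.finrank F (Submodule.span F ({z} : Set (Fin n → F))) = 1 :=
    finrank_span_singleton hz0
  have h3 : W ⊓ Submodule.span F {z} = ⊥ := by
    rw [eq_bot_iff]
    intro v hv
    rw [Submodule.mem_bot]
    obtain ⟨a, rfl⟩ := Submodule.mem_span_singleton.1 (Submodule.mem_inf.1 hv).2
    by_cases ha : a = 0
    · rw [ha, zero_smul]
    · exfalso
      apply hz
      have := W.smul_mem a⁻¹ (Submodule.mem_inf.1 hv).1
      rwa [smul_smul, inv_mul_cancel₀ ha, one_smul] at this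
  rw [h3, finrank_bot, add_zero, h2] at h1
  exact h1

theorem par_base {k : ℕ}
    (D : Fin 2 → Submodule F (Fin n → F)) (hD : Cfsg.Geo.IsMDecomposition k D)
    (a b : Fin 2) (hab : a ≠ b) (g : Matrix.GeneralLinearGroup (Fin n) F)
    (hga : ∀ x ∈ D a, (g : Matrix (Fin n) (Fin n) F) *ᵥ x ∈ D a)
    (hX : (D b).map (Matrix.toLin' (g : Matrix (Fin n) (Fin n) F)) ≤ D b) :
    g ∈ Cfsg.Geo.decompositionStabilizer D := by
  apply stab_of_maps D hD.finrank_eq g 1
  intro l x hx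
  rw [Equiv.Perm.one_apply]
  rcases fin2_cases a b l hab with h | h
  · subst h
    exact hga x hx
  · subst h
    exact hX ⟨x, hx, by rw [Matrix.toLin'_apply]⟩

theorem par_le (hq : QF Q f) {k : ℕ}
    (D : Fin 2 → Submodule F (Fin n → F)) (hD : Cfsg.Geo.IsMDecomposition k D)
    (htsQ : ∀ i, ∀ x ∈ D i, Q x = 0)
    (G : Subgroup (Matrix.GeneralLinearGroup (Fin n) F)) (hG : SgGroupQ Q f G)
    (M : Subgroup (Matrix.GeneralLinearGroup (Fin n) F))
    (hHM : Cfsg.Geo.decompositionStabilizer D ⊓ G ≤ M)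
    (a b : Fin 2) (hab : a ≠ b)
    (hall : ∀ x ∈ D a, ∀ y ∈ D a, SRO f M x y) :
    ∀ d : ℕ, ∀ g ∈ G, (∀ x ∈ D a, (g : Matrix (Fin n) (Fin n) F) *ᵥ x ∈ D a) →
      k ≤ Module.finrank F ((D b).map (Matrix.toLin' (g : Matrix (Fin n) (Fin n) F)) ⊓ D b :
        Submodule F (Fin n → F)) + d → g ∈ M := by
  have hf := hq.sym
  have hts : ∀ i, ∀ x ∈ D i, ∀ y ∈ D i, f x y = 0 := fun l => ts_ti hq (D l) (htsQ l)
  intro d
  induction d with
  | zero =>
    intro g hgG hga hfr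
    apply hHM
    refine Subgroup.mem_inf.mpr ⟨par_base D hD a b hab g hga ?_, hgG⟩
    have h1 : (D b).map (Matrix.toLin' (g : Matrix (Fin n) (Fin n) F)) ⊓ D b =
        (D b).map (Matrix.toLin' (g : Matrix (Fin n) (Fin n) F)) := by
      apply Submodule.eq_of_le_of_finrank_le inf_le_left
      rw [finrank_map_gl, hD.finrank_eq b]
      omega
    rw [← h1]
    exact inf_le_right
  | succ d ih =>
    intro g hgG hga hfr
    by_cases hX : (D b).map (Matrix.toLin' (g : Matrix (Fin n) (Fin n) F)) ≤ D b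
    · exact hHM (Subgroup.mem_inf.mpr ⟨par_base D hD a b hab g hga hX, hgG⟩)
    · obtain ⟨z0, hz0X, hz0b⟩ := SetLike.not_le_iff_exists.mp hX
      have hgQ := hG.iso g hgG
      have hgiso := iso_f hq g hgQ
      have hXQ : ∀ z ∈ (D b).map (Matrix.toLin' (g : Matrix (Fin n) (Fin n) F)), Q z = 0 := by
        rintro _ ⟨z', hz', rfl⟩
        rw [Matrix.toLin'_apply, hgQ]
        exact htsQ b z' hz'
      have hXti := ts_ti hq _ hXQ
      obtain ⟨w, hw, zb, hzb, hz0⟩ := split_ij D hD a b hab z0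
      have hw0 : w ≠ 0 := by
        rintro rfl
        rw [zero_add] at hz0
        exact hz0b (hz0 ▸ hzb)
      obtain ⟨v, hv, hwv⟩ := dual0 hf D hD hts a b hab w hw hw0
      obtain ⟨a', ha', b', hb', hsplit⟩ := split_ij D hD a b hab
        (((g⁻¹ : Matrix.GeneralLinearGroup (Fin n) F) : Matrix (Fin n) (Fin n) F) *ᵥ v)
      obtain ⟨y, hydef⟩ : ∃ y : Fin n → F, y = (g : Matrix (Fin n) (Fin n) F) *ᵥ b' := ⟨_, rfl⟩
      obtain ⟨u, hudef⟩ : ∃ u : Fin n → F, u = -((g : Matrix (Fin n) (Fin n) F) *ᵥ a') :=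
        ⟨_, rfl⟩
      have hyX : y ∈ (D b).map (Matrix.toLin' (g : Matrix (Fin n) (Fin n) F)) :=
        ⟨b', hb', by rw [Matrix.toLin'_apply, hydef]⟩
      have huD : u ∈ D a := by
        rw [hudef]
        exact (D a).neg_mem (hga a' ha')
      have hyv : y = u + v := by
        have h1 := congrArg (fun z => (g : Matrix (Fin n) (Fin n) F) *ᵥ z) hsplit
        simp only [gl_cancel', Matrix.mulVec_add] at h1
        rw [hydef, hudef, h1]
        abel
      have hu_eq : u = y - v := by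
        rw [hyv]
        abel
      have hw_eq : w = z0 - zb := by
        rw [hz0]
        abel
      have hQw : Q w = 0 := htsQ a w hw
      have hQu : Q u = 0 := htsQ a u huD
      have hwu : f w u = 0 := hts a w hw u huD
      obtain ⟨E, hE⟩ := hG.ex w u (-1) hQw hQu hwu
      have hEM : E ∈ M := hall w hw u huD (-1) E hE
      have hEG : E ∈ G := hG.sg E w u (-1) hQw hQu hwu hE
      have hEa : ∀ x ∈ D a, (E : Matrix (Fin n) (Fin n) F) *ᵥ x = x := by
        intro x hx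
        rw [hE x]
        unfold Tv
        rw [hts a w hw x hx, hts a u huD x hx, zero_smul, zero_smul, sub_zero, smul_zero,
          add_zero]
      have hEfix : ∀ z ∈ (D b).map (Matrix.toLin' (g : Matrix (Fin n) (Fin n) F)) ⊓ D b,
          (E : Matrix (Fin n) (Fin n) F) *ᵥ z = z := by
        intro z hz
        obtain ⟨hzX, hzb'⟩ := Submodule.mem_inf.mp hz
        have e1 : f w z = 0 := by
          rw [hw_eq, f_sub_left hf, hXti z0 hz0X z hzX, hts b zb hzb z hzb', sub_zero]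
        have e2 : f u z = 0 := by
          rw [hu_eq, f_sub_left hf, hXti y hyX z hzX, hts b v hv z hzb', sub_zero]
        rw [hE z]
        unfold Tv
        rw [e1, e2, zero_smul, zero_smul, sub_zero, smul_zero, add_zero]
      have hEz0 : (E : Matrix (Fin n) (Fin n) F) *ᵥ z0 = zb := by
        have e1 : f w z0 = 0 := by
          have h1 := hq.polar w zb
          rw [← hz0, hXQ z0 hz0X, hQw, htsQ b zb hzb] at h1
          rw [hz0, f_add_right hf, hts a w hw w hw]
          linear_combination -h1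
        have e2 : f u z0 = -1 := by
          rw [hu_eq, f_sub_left hf, hXti y hyX z0 hz0X, hz0, f_add_right hf, s_symm hf v w, hwv,
            hts b v hv zb hzb]
          ring
        rw [hE z0]
        unfold Tv
        rw [e1, e2, hz0]
        module
      have hmapEg : (D b).map (Matrix.toLin' ((E * g : Matrix.GeneralLinearGroup (Fin n) F) :
          Matrix (Fin n) (Fin n) F)) =
          ((D b).map (Matrix.toLin' (g : Matrix (Fin n) (Fin n) F))).map
            (Matrix.toLin' (E : Matrix (Fin n) (Fin n) F)) := by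
        rw [Units.val_mul, Matrix.toLin'_mul, Submodule.map_comp]
      have hz0not : z0 ∉ (D b).map (Matrix.toLin' (g : Matrix (Fin n) (Fin n) F)) ⊓ D b :=
        fun h => hz0b (Submodule.mem_inf.mp h).2
      have hYle : (((D b).map (Matrix.toLin' (g : Matrix (Fin n) (Fin n) F)) ⊓ D b) ⊔
          Submodule.span F {z0}).map (Matrix.toLin' (E : Matrix (Fin n) (Fin n) F)) ≤
          (D b).map (Matrix.toLin' ((E * g : Matrix.GeneralLinearGroup (Fin n) F) :
            Matrix (Fin n) (Fin n) F)) ⊓ D b := by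
        rw [hmapEg]
        rintro _ ⟨z, hz, rfl⟩
        rw [Matrix.toLin'_apply]
        obtain ⟨z1, hz1, z2, hz2, rfl⟩ := Submodule.mem_sup.mp hz
        obtain ⟨c, rfl⟩ := Submodule.mem_span_singleton.mp hz2
        refine Submodule.mem_inf.mpr ⟨?_, ?_⟩
        · refine ⟨z1 + c • z0, ?_, by rw [Matrix.toLin'_apply]⟩
          exact Submodule.add_mem _ (Submodule.mem_inf.mp hz1).1 (Submodule.smul_mem _ _ hz0X)
        · rw [Matrix.mulVec_add, Matrix.mulVec_smul, hEfix z1 hz1, hEz0]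
          exact (D b).add_mem (Submodule.mem_inf.mp hz1).2 ((D b).smul_mem _ hzb)
      have hfr2 := Submodule.finrank_mono hYle
      rw [finrank_map_gl, finrank_sup_singleton _ z0 hz0not] at hfr2
      have hEgM : E * g ∈ M := by
        apply ih (E * g) (G.mul_mem hEG hgG)
        · intro x hx
          rw [Units.val_mul, ← Matrix.mulVec_mulVec, hEa _ (hga x hx)]
          exact hga x hx
        · omega
      have : g = E⁻¹ * (E * g) := by group
      rw [this]
      exact M.mul_mem (M.inv_mem hEM) hEgM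

theorem quad (hq : QF Q f)
    (G : Subgroup (Matrix.GeneralLinearGroup (Fin n) F)) (hG : SgGroupQ Q f G)
    (b1 b2 c1 c2 : Fin n → F) (hb1 : Q b1 = 0) (hb2 : Q b2 = 0) (hc1 : Q c1 = 0) (hc2 : Q c2 = 0)
    (h11 : f b1 c1 = 1) (h22 : f b2 c2 = 1) (h12 : f b1 c2 = 0) (h21 : f b2 c1 = 0)
    (hbb : f b1 b2 = 0) (hcc : f c1 c2 = 0) :
    ∃ s ∈ G, ∀ x, (s : Matrix (Fin n) (Fin n) F) *ᵥ x =
      x - (f (b1 + c1) x • (b1 + c1) + f (b2 + c2) x • (b2 + c2)) := by
  have hf := hq.sym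
  have e11 : f c1 b1 = 1 := by rw [s_symm hf, h11]
  have e22 : f c2 b2 = 1 := by rw [s_symm hf, h22]
  have e12 : f c2 b1 = 0 := by rw [s_symm hf, h12]
  have e21 : f c1 b2 = 0 := by rw [s_symm hf, h21]
  have ebb : f b2 b1 = 0 := by rw [s_symm hf, hbb]
  have ecc : f c2 c1 = 0 := by rw [s_symm hf, hcc]
  have d1 : f b1 b1 = 0 := by rw [f_self hq, hb1, mul_zero]
  have d2 : f b2 b2 = 0 := by rw [f_self hq, hb2, mul_zero]
  have d3 : f c1 c1 = 0 := by rw [f_self hq, hc1, mul_zero]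
  have d4 : f c2 c2 = 0 := by rw [f_self hq, hc2, mul_zero]
  obtain ⟨t1, ht1⟩ := hG.ex b1 b2 1 hb1 hb2 hbb
  obtain ⟨t2, ht2⟩ := hG.ex c1 c2 1 hc1 hc2 hcc
  obtain ⟨t3, ht3⟩ := hG.ex b1 c2 1 hb1 hc2 h12
  obtain ⟨t4, ht4⟩ := hG.ex c1 b2 1 hc1 hb2 e21
  have m1 := hG.sg t1 b1 b2 1 hb1 hb2 hbb ht1
  have m2 := hG.sg t2 c1 c2 1 hc1 hc2 hcc ht2
  have m3 := hG.sg t3 b1 c2 1 hb1 hc2 h12 ht3
  have m4 := hG.sg t4 c1 b2 1 hc1 hb2 e21 ht4
  have hw1 : ∀ x, ((t1 * t2 * t1 : Matrix.GeneralLinearGroup (Fin n) F) :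
      Matrix (Fin n) (Fin n) F) *ᵥ x =
      x + (f c1 x • (c2 - b1) + f c2 x • (-c1 - b2) + f b1 x • (b2 - c1) + f b2 x • (-b1 - c2)) := by
    intro x
    rw [Units.val_mul, Units.val_mul, ← Matrix.mulVec_mulVec, ← Matrix.mulVec_mulVec, ht1 x, ht2, ht1]
    unfold Tv
    simp only [f_add_right hf, f_sub_right hf, s_smul_right hf, h11, h22, h12, h21, hbb, hcc,
      e11, e22, e12, e21, ebb, ecc, d1, d2, d3, d4, one_smul, mul_zero, mul_one, sub_zero, add_zero,
      zero_sub, zero_add]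
    module
  have hw2 : ∀ x, ((t3 * t4 * t3 : Matrix.GeneralLinearGroup (Fin n) F) :
      Matrix (Fin n) (Fin n) F) *ᵥ x =
      x + (f c1 x • (b2 - b1) + f c2 x • (-b1 - b2) + f b1 x • (c2 - c1) + f b2 x • (-c1 - c2)) := by
    intro x
    rw [Units.val_mul, Units.val_mul, ← Matrix.mulVec_mulVec, ← Matrix.mulVec_mulVec, ht3 x, ht4, ht3]
    unfold Tv
    simp only [f_add_right hf, f_sub_right hf, s_smul_right hf, h11, h22, h12, h21, hbb, hcc,
      e11, e22, e12, e21, ebb, ecc, d1, d2, d3, d4, one_smul, mul_zero, mul_one, sub_zero, add_zero,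
      zero_sub, zero_add]
    module
  refine ⟨(t1 * t2 * t1) * (t3 * t4 * t3),
    G.mul_mem (G.mul_mem (G.mul_mem m1 m2) m1) (G.mul_mem (G.mul_mem m3 m4) m3), ?_⟩
  intro x
  rw [Units.val_mul, ← Matrix.mulVec_mulVec, hw2, hw1]
  simp only [f_add_right hf, f_sub_right hf, s_smul_right hf, f_neg_right hf, hf.add_left,
    h11, h22, h12, h21, hbb, hcc,
    e11, e22, e12, e21, ebb, ecc, d1, d2, d3, d4, one_smul, mul_zero, mul_one, sub_zero, add_zero,
    zero_sub, zero_add]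
  module

def RR (f : (Fin n → F) → (Fin n → F) → F) (e1 e2 x : Fin n → F) : Fin n → F :=
  f e1 x • e1 + f e2 x • e2

theorem RR_add (hf : SymF f) (e1 e2 x y : Fin n → F) :
    RR f e1 e2 (x + y) = RR f e1 e2 x + RR f e1 e2 y := by
  unfold RR
  rw [f_add_right hf, f_add_right hf]
  module

theorem RR_neg (hf : SymF f) (e1 e2 x : Fin n → F) :
    RR f e1 e2 (-x) = -RR f e1 e2 x := by
  unfold RR
  rw [f_neg_right hf, f_neg_right hf]
  module

theorem RR_perp (hf : SymF f) (e1 e2 d1 d2 x : Fin n → F)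
    (h11 : f e1 d1 = 0) (h12 : f e1 d2 = 0) (h21 : f e2 d1 = 0) (h22 : f e2 d2 = 0) :
    RR f e1 e2 (RR f d1 d2 x) = 0 := by
  unfold RR
  simp only [f_add_right hf, s_smul_right hf, h11, h12, h21, h22, mul_zero, add_zero, zero_smul]

theorem quad_prod (hq : QF Q f)
    (G : Subgroup (Matrix.GeneralLinearGroup (Fin n) F)) (hG : SgGroupQ Q f G) {k' : ℕ}
    (b c : Fin k' ⊕ Fin k' → (Fin n → F))
    (hbQ : ∀ i, Q (b i) = 0) (hcQ : ∀ i, Q (c i) = 0)
    (hbb : ∀ i l, f (b i) (b l) = 0) (hcc : ∀ i l, f (c i) (c l) = 0)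
    (hδ : ∀ i l, f (b i) (c l) = if i = l then 1 else 0) (T : Finset (Fin k')) :
    ∃ s ∈ G, ∀ x, (s : Matrix (Fin n) (Fin n) F) *ᵥ x =
      x - ∑ j ∈ T, RR f (b (Sum.inl j) + c (Sum.inl j)) (b (Sum.inr j) + c (Sum.inr j)) x := by
  classical
  have hf := hq.sym
  have hδ' : ∀ i l, f (c i) (b l) = if i = l then 1 else 0 := by
    intro i l
    rw [s_symm hf, hδ]
    by_cases hil : i = l
    · rw [if_pos hil, if_pos hil.symm]
    · rw [if_neg hil, if_neg (Ne.symm hil)]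
  have hee : ∀ i l : Fin k' ⊕ Fin k', i ≠ l → f (b i + c i) (b l + c l) = 0 := by
    intro i l hil
    rw [hf.add_left, f_add_right hf, f_add_right hf, hbb, hcc, hδ, hδ', if_neg hil]
    ring
  induction T using Finset.induction_on with
  | empty =>
    refine ⟨1, G.one_mem, fun x => ?_⟩
    rw [Units.val_one, Matrix.one_mulVec, Finset.sum_empty, sub_zero]
  | insert a T ha ih =>
    obtain ⟨s, hsG, hs⟩ := ih
    obtain ⟨w, hwG, hw⟩ := quad hq G hG (b (Sum.inl a)) (b (Sum.inr a)) (c (Sum.inl a))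
      (c (Sum.inr a)) (hbQ _) (hbQ _) (hcQ _) (hcQ _) (by rw [hδ, if_pos rfl])
      (by rw [hδ, if_pos rfl]) (by rw [hδ, if_neg (by simp)]) (by rw [hδ, if_neg (by simp)])
      (hbb _ _) (hcc _ _)
    refine ⟨s * w, G.mul_mem hsG hwG, ?_⟩
    intro x
    rw [Units.val_mul, ← Matrix.mulVec_mulVec, hs, hw, Finset.sum_insert ha]
    have e : (f (b (Sum.inl a) + c (Sum.inl a)) x • (b (Sum.inl a) + c (Sum.inl a)) +
        f (b (Sum.inr a) + c (Sum.inr a)) x • (b (Sum.inr a) + c (Sum.inr a))) =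
        RR f (b (Sum.inl a) + c (Sum.inl a)) (b (Sum.inr a) + c (Sum.inr a)) x := rfl
    rw [e]
    have hNN : ∀ j ∈ T, RR f (b (Sum.inl j) + c (Sum.inl j)) (b (Sum.inr j) + c (Sum.inr j))
        (x - RR f (b (Sum.inl a) + c (Sum.inl a)) (b (Sum.inr a) + c (Sum.inr a)) x) =
        RR f (b (Sum.inl j) + c (Sum.inl j)) (b (Sum.inr j) + c (Sum.inr j)) x := by
      intro j hj
      have hja : j ≠ a := fun h => ha (h ▸ hj)
      rw [sub_eq_add_neg, RR_add hf, RR_neg hf, RR_perp hf, neg_zero, add_zero]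
      · exact hee _ _ (by simp [hja])
      · exact hee _ _ (by simp)
      · exact hee _ _ (by simp)
      · exact hee _ _ (by simp [hja])
    rw [Finset.sum_congr rfl hNN]
    abel

theorem dual_basis (hf : SymF f) {k : ℕ} {ι : Type} [Fintype ι] [DecidableEq ι]
    (D : Fin 2 → Submodule F (Fin n → F)) (hD : Cfsg.Geo.IsMDecomposition k D)
    (hts : ∀ i, ∀ x ∈ D i, ∀ y ∈ D i, f x y = 0) (β : Module.Basis ι F (D 0)) :
    ∃ (b c : ι → (Fin n → F)), (∀ i, b i ∈ D 0) ∧ (∀ i, c i ∈ D 1) ∧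
      (∀ i l, f (b i) (c l) = if i = l then 1 else 0) ∧
      (∀ x, x = ∑ i, (f (c i) x • b i + f (b i) x • c i)) := by
  classical
  obtain ⟨b, hb⟩ : ∃ b : ι → (Fin n → F), ∀ i, b i = ((β i : D 0) : Fin n → F) :=
    ⟨fun i => ((β i : D 0) : Fin n → F), fun i => rfl⟩
  have hbmem : ∀ i, b i ∈ D 0 := by
    intro i
    rw [hb]
    exact (β i).2
  have hli : LinearIndependent F b := by
    have := β.linearIndependent.map' (D 0).subtype (Submodule.ker_subtype _)
    have hfun : b = (D 0).subtype ∘ β := funext (fun i => hb i)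
    rw [hfun]
    exact this
  have h01 : (0 : Fin 2) ≠ 1 := by decide
  have hex : ∀ l, ∃ v ∈ D 1, (∀ a ∈ Submodule.span F (b '' {i | i ≠ l}), f a v = 0) ∧
      f (b l) v = 1 := by
    intro l
    apply dual_ij hf D hD hts 0 1 h01 _ _ (b l) (hbmem l)
    · exact hli.notMem_span_image (by simp)
    · rw [Submodule.span_le]
      rintro _ ⟨i, _, rfl⟩
      exact hbmem i
  choose c hc hcA hc1 using hex
  have hδ : ∀ i l, f (b i) (c l) = if i = l then 1 else 0 := by
    intro i l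
    by_cases hil : i = l
    · rw [if_pos hil, hil]
      exact hc1 l
    · rw [if_neg hil]
      exact hcA l _ (Submodule.subset_span ⟨i, hil, rfl⟩)
  have hδ' : ∀ i l, f (c i) (b l) = if i = l then 1 else 0 := by
    intro i l
    rw [s_symm hf, hδ]
    by_cases hil : i = l
    · rw [if_pos hil, if_pos hil.symm]
    · rw [if_neg hil, if_neg (Ne.symm hil)]
  have hE1 : ∀ x ∈ D 0, x = ∑ i, f (c i) x • b i := by
    intro x hx
    have h1 : x = ∑ i, β.repr ⟨x, hx⟩ i • b i := by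
      have h := congrArg Subtype.val (β.sum_repr ⟨x, hx⟩)
      rw [Submodule.coe_sum] at h
      refine (h.symm : x = _).trans ?_
      apply Finset.sum_congr rfl
      intro i _
      rw [hb]
      rfl
    have h2 : ∀ l, f (c l) x = β.repr ⟨x, hx⟩ l := by
      intro l
      rw [s_symm hf]
      conv_lhs => rw [h1]
      rw [f_sum_left hf]
      simp only [hf.smul_left, hδ, mul_ite, mul_one, mul_zero]
      rw [Finset.sum_ite_eq' Finset.univ l]
      simp
    conv_lhs => rw [h1]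
    apply Finset.sum_congr rfl
    intro i _
    rw [h2]
  have hE2 : ∀ x ∈ D 1, x = ∑ i, f (b i) x • c i := by
    intro x hx
    have hy : x - ∑ i, f (b i) x • c i ∈ D 1 :=
      (D 1).sub_mem hx (Submodule.sum_mem _ (fun i _ => (D 1).smul_mem _ (hc i)))
    have hyb : ∀ l, f (x - ∑ i, f (b i) x • c i) (b l) = 0 := by
      intro l
      rw [f_sub_left hf, f_sum_left hf]
      simp only [hf.smul_left, hδ', mul_ite, mul_one, mul_zero]
      rw [Finset.sum_ite_eq' Finset.univ l]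
      simp only [Finset.mem_univ, if_true]
      rw [s_symm hf x (b l), sub_self]
    have hy0 : x - ∑ i, f (b i) x • c i = 0 := by
      by_contra hne
      obtain ⟨v, hv, hv1⟩ := dual0 hf D hD hts 1 0 h01.symm _ hy hne
      have hv0 : f v (x - ∑ i, f (b i) x • c i) = 0 := by
        rw [hE1 v hv, f_sum_left hf]
        apply Finset.sum_eq_zero
        intro i _
        rw [hf.smul_left, s_symm hf (b i), hyb i, mul_zero]
      rw [s_symm hf, hv0] at hv1
      exact zero_ne_one hv1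
    exact sub_eq_zero.mp hy0
  refine ⟨b, c, hbmem, hc, hδ, ?_⟩
  intro x
  obtain ⟨x0, hx0, x1, hx1, rfl⟩ := split_ij D hD 0 1 h01 x
  have e1 : ∀ i, f (c i) (x0 + x1) = f (c i) x0 := by
    intro i
    rw [f_add_right hf, hts 1 (c i) (hc i) x1 hx1, add_zero]
  have e2 : ∀ i, f (b i) (x0 + x1) = f (b i) x1 := by
    intro i
    rw [f_add_right hf, hts 0 (b i) (hbmem i) x0 hx0, zero_add]
  simp only [e1, e2]
  rw [Finset.sum_add_distrib, ← hE1 x0 hx0, ← hE2 x1 hx1]

theorem swap_ex (hq : QF Q f) {k k' : ℕ} (hk2 : k = k' + k')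
    (D : Fin 2 → Submodule F (Fin n → F)) (hD : Cfsg.Geo.IsMDecomposition k D)
    (htsQ : ∀ i, ∀ x ∈ D i, Q x = 0)
    (G : Subgroup (Matrix.GeneralLinearGroup (Fin n) F)) (hG : SgGroupQ Q f G) :
    ∃ s : Matrix.GeneralLinearGroup (Fin n) F,
      s ∈ Cfsg.Geo.decompositionStabilizer D ⊓ G ∧
      ∀ l, ∀ x ∈ D l, (s : Matrix (Fin n) (Fin n) F) *ᵥ x ∈ D (Equiv.swap 0 1 l) := by
  classical
  have hf := hq.sym
  have hts : ∀ i, ∀ x ∈ D i, ∀ y ∈ D i, f x y = 0 := fun l => ts_ti hq (D l) (htsQ l)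
  obtain ⟨β⟩ : Nonempty (Module.Basis (Fin k' ⊕ Fin k') F (D 0)) :=
    ⟨(Module.finBasisOfFinrankEq F (D 0) (hD.finrank_eq 0)).reindex
      ((finCongr hk2).trans finSumFinEquiv.symm)⟩
  obtain ⟨b, c, hb, hc, hδ, hE⟩ := dual_basis hf D hD hts β
  obtain ⟨s, hsG, hs⟩ := quad_prod hq G hG b c (fun i => htsQ 0 _ (hb i)) (fun i => htsQ 1 _ (hc i))
    (fun i l => hts 0 _ (hb i) _ (hb l)) (fun i l => hts 1 _ (hc i) _ (hc l)) hδ Finset.univ
  have hsum : ∀ x, ∑ j, RR f (b (Sum.inl j) + c (Sum.inl j)) (b (Sum.inr j) + c (Sum.inr j)) x =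
      ∑ i, f (b i + c i) x • (b i + c i) := by
    intro x
    rw [Fintype.sum_sum_type, ← Finset.sum_add_distrib]
    rfl
  have hsx : ∀ x, (s : Matrix (Fin n) (Fin n) F) *ᵥ x =
      -∑ i, (f (b i) x • b i + f (c i) x • c i) := by
    intro x
    rw [hs, hsum]
    conv_lhs => rw [hE x]
    rw [← Finset.sum_sub_distrib, ← Finset.sum_neg_distrib]
    apply Finset.sum_congr rfl
    intro i _
    have e1 : f (c i) (∑ i, (f (c i) x • b i + f (b i) x • c i)) = f (c i) x := by rw [← hE x]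
    have e2 : f (b i) (∑ i, (f (c i) x • b i + f (b i) x • c i)) = f (b i) x := by rw [← hE x]
    rw [hf.add_left, e1, e2]
    module
  have hmaps : ∀ l, ∀ x ∈ D l, (s : Matrix (Fin n) (Fin n) F) *ᵥ x ∈
      D (Equiv.swap 0 1 l) := by
    intro l x hx
    rw [hsx]
    rcases fin2_cases 0 1 l (by decide) with h | h
    · subst h
      rw [Equiv.swap_apply_left]
      apply Submodule.neg_mem
      apply Submodule.sum_mem
      intro i _
      rw [hts 0 (b i) (hb i) x hx, zero_smul, zero_add]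
      exact (D 1).smul_mem _ (hc i)
    · subst h
      rw [Equiv.swap_apply_right]
      apply Submodule.neg_mem
      apply Submodule.sum_mem
      intro i _
      rw [hts 1 (c i) (hc i) x hx, zero_smul, add_zero]
      exact (D 0).smul_mem _ (hb i)
  exact ⟨s, Subgroup.mem_inf.mpr ⟨stab_of_maps D hD.finrank_eq s (Equiv.swap 0 1) hmaps, hsG⟩,
    hmaps⟩

theorem strict (hq : QF Q f) {k : ℕ} (hk : 2 ≤ k)
    (D : Fin 2 → Submodule F (Fin n → F)) (hD : Cfsg.Geo.IsMDecomposition k D)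
    (htsQ : ∀ i, ∀ x ∈ D i, Q x = 0)
    (G : Subgroup (Matrix.GeneralLinearGroup (Fin n) F)) (hG : SgGroupQ Q f G) :
    Cfsg.Geo.decompositionStabilizer D ⊓ G < G := by
  have hf := hq.sym
  have hts : ∀ i, ∀ x ∈ D i, ∀ y ∈ D i, f x y = 0 := fun l => ts_ti hq (D l) (htsQ l)
  rw [SetLike.lt_iff_le_and_exists]
  refine ⟨inf_le_right, ?_⟩
  have h01 : (0 : Fin 2) ≠ 1 := by decide
  obtain ⟨u', hu', hu0'⟩ := exists_ne_zero (D 0) (hD.finrank_eq 0) hD.pos
  obtain ⟨u, hu, _, huS⟩ := avoid (D 0) (Submodule.span F {u'}) (fun i : Fin 0 => Fin.elim0 i) (by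
    have h1 : Module.finrank F (Submodule.span F ({u'} : Set (Fin n → F))) = 1 :=
      finrank_span_singleton hu0'
    rw [hD.finrank_eq 0, h1]
    omega)
  obtain ⟨x, hx, hxA, hux⟩ := dual_ij hf D hD hts 0 1 h01 (Submodule.span F {u'}) (by
    rw [Submodule.span_le, Set.singleton_subset_iff]
    exact hu') u hu huS
  have hu'x : f u' x = 0 := hxA u' (Submodule.mem_span_singleton_self _)
  obtain ⟨g, hg⟩ := hG.ex u u' 1 (htsQ 0 u hu) (htsQ 0 u' hu') (hts 0 u hu u' hu')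
  refine ⟨g, hG.sg g u u' 1 (htsQ 0 u hu) (htsQ 0 u' hu') (hts 0 u hu u' hu') hg, ?_⟩
  rintro ⟨⟨τ, hτ⟩, _⟩
  have h1 : (g : Matrix (Fin n) (Fin n) F) *ᵥ x ∈ D (τ 1) := by
    rw [← hτ 1]
    exact ⟨x, hx, by rw [Matrix.toLin'_apply]⟩
  rw [hg x] at h1
  unfold Tv at h1
  rw [hux, hu'x, one_smul, zero_smul, sub_zero, one_smul, add_comm] at h1
  rcases two_comp D hD.indep 0 1 _ h01 _ _ hu' hx h1 with h | h
  · exact hu0' h
  · rw [h, f_zero_right hf] at hux
    exact zero_ne_one hux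

theorem main (hq : QF Q f) (vf : VFacts Q f) {k k' : ℕ} (hk : 5 ≤ k) (hk2 : k = k' + k')
    (D : Fin 2 → Submodule F (Fin n → F)) (hD : Cfsg.Geo.IsMDecomposition k D)
    (htsQ : ∀ i, ∀ x ∈ D i, Q x = 0)
    (G : Subgroup (Matrix.GeneralLinearGroup (Fin n) F)) (hG : SgGroupQ Q f G) :
    Cfsg.Geo.IsMaximalIn G (Cfsg.Geo.decompositionStabilizer D ⊓ G) := by
  have hf := hq.sym
  have hts : ∀ i, ∀ x ∈ D i, ∀ y ∈ D i, f x y = 0 := fun l => ts_ti hq (D l) (htsQ l)
  refine ⟨strict hq (by omega) D hD htsQ G hG, ?_⟩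
  intro M hHM hM
  by_cases hMH : M ≤ Cfsg.Geo.decompositionStabilizer D ⊓ G
  · left
    exact le_antisymm hMH hHM
  · right
    obtain ⟨g, hgM, hgH⟩ := SetLike.not_le_iff_exists.mp hMH
    have hg : g ∉ Cfsg.Geo.decompositionStabilizer D := fun h =>
      hgH (Subgroup.mem_inf.mpr ⟨h, hM hgM⟩)
    obtain ⟨a, u, hu, w, hw, hu0, hwu, hSR⟩ := start hq hk D hD htsQ G hG M hM hHM g hgM hg
    obtain ⟨b, hab⟩ := fin2_other a
    have hall : ∀ x ∈ D a, ∀ y ∈ D a, SRO f M x y := fun x hx y hy =>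
      stepB hq D hD htsQ G hG M hHM a b hab u w hu hw hu0 hwu hSR x y hx hy
    have hPM : Cfsg.Geo.subspaceStabilizer (D a) ⊓ G ≤ M := by
      intro g' hg'
      obtain ⟨hg'S, hg'G⟩ := Subgroup.mem_inf.mp hg'
      apply par_le hq D hD htsQ G hG M hHM a b hab hall k g' hg'G
      · intro x hx
        exact ((Cfsg.Agent.Lib.Helper28.UMax.mem_stab_iff (D a) g').1 hg'S x).1 hx
      · omega
    have hDa0 : D a ≠ ⊥ := by
      intro h
      rw [h, Submodule.mem_bot] at hu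
      exact hu0 hu
    have hmax := ts_max_q hq vf G hG (D a) hDa0 (htsQ a) (Or.inr (Or.inr (by
      intro z _ hzW
      obtain ⟨za, hza, zb, hzb, rfl⟩ := split_ij D hD a b hab z
      by_cases hzb0 : zb = 0
      · rw [hzb0, add_zero]
        exact hza
      · exfalso
        obtain ⟨v, hv, hv1⟩ := dual0 hf D hD hts b a hab.symm zb hzb hzb0
        have := hzW v hv
        rw [hf.add_left, hts a za hza v hv, zero_add, hv1] at this
        exact one_ne_zero this)))
    rcases hmax.2 M hPM hM with h | h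
    · exfalso
      obtain ⟨s, hsH, hs⟩ := swap_ex hq hk2 D hD htsQ G hG
      have hsM : s ∈ M := hHM hsH
      rw [h] at hsM
      have hsS := (Subgroup.mem_inf.mp hsM).1
      have h1 := ((Cfsg.Agent.Lib.Helper28.UMax.mem_stab_iff (D a) s).1 hsS u).1 hu
      have h2 := hs a u hu
      have hsw : Equiv.swap (0 : Fin 2) 1 a = b := by
        rcases fin2_cases 0 1 a (by decide) with h | h <;>
          rcases fin2_cases 0 1 b (by decide) with h' | h'
        · exact absurd (h.trans h'.symm) hab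
        · rw [h, h', Equiv.swap_apply_left]
        · rw [h, h', Equiv.swap_apply_right]
        · exact absurd (h.trans h'.symm) hab
      rw [hsw] at h2
      have h3 := (Submodule.disjoint_def.mp (hD.indep.pairwiseDisjoint hab)) _ h1 h2
      exact gl_ne_zero s u hu0 h3
    · exact h

end Cfsg.Agent.Lib.Helper28.OPair
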