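import Mathlib

set_option autoImplicit false

namespace Cfsg.Agent.Lib.Helper28.Os

open MvPolynomial

/-- Chevalley–Warning for a ternary quadratic form over a finite field -/
theorem cw_ternary {K : Type*} [Field K] [Fintype K] (q₁ q₂ q₃ f₁₂ f₁₃ f₂₃ : K) :
    ∃ x₁ x₂ x₃ : K, ¬ (x₁ = 0 ∧ x₂ = 0 ∧ x₃ = 0) ∧
      q₁ * x₁ * x₁ + q₂ * x₂ * x₂ + q₃ * x₃ * x₃ + f₁₂ * x₁ * x₂ + f₁₃ * x₁ * x₃ +
        f₂₃ * x₂ * x₃ = 0 := by
  classical
  obtain ⟨p, hp⟩ := CharP.exists K
  haveI : Fact p.Prime := ⟨CharP.char_is_prime K p⟩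
  set P : MvPolynomial (Fin 3) K :=
    C q₁ * X 0 * X 0 + C q₂ * X 1 * X 1 + C q₃ * X 2 * X 2 + C f₁₂ * X 0 * X 1 +
      C f₁₃ * X 0 * X 2 + C f₂₃ * X 1 * X 2 with hP
  have hmon : ∀ (a : K) (i j : Fin 3), (C a * X i * X j : MvPolynomial (Fin 3) K).totalDegree ≤ 2 := by
    intro a i j
    calc (C a * X i * X j : MvPolynomial (Fin 3) K).totalDegree
        ≤ (C a * X i : MvPolynomial (Fin 3) K).totalDegree +
          (X j : MvPolynomial (Fin 3) K).totalDegree := totalDegree_mul _ _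
      _ ≤ ((C a : MvPolynomial (Fin 3) K).totalDegree +
          (X i : MvPolynomial (Fin 3) K).totalDegree) +
          (X j : MvPolynomial (Fin 3) K).totalDegree := by
            gcongr
            exact totalDegree_mul _ _
      _ = 2 := by rw [totalDegree_C, totalDegree_X, totalDegree_X]
  have hdeg : P.totalDegree < Fintype.card (Fin 3) := by
    rw [Fintype.card_fin]
    have h5 : P.totalDegree ≤ 2 := by
      rw [hP]
      refine (totalDegree_add _ _).trans (max_le ?_ (hmon _ _ _))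
      refine (totalDegree_add _ _).trans (max_le ?_ (hmon _ _ _))
      refine (totalDegree_add _ _).trans (max_le ?_ (hmon _ _ _))
      refine (totalDegree_add _ _).trans (max_le ?_ (hmon _ _ _))
      refine (totalDegree_add _ _).trans (max_le (hmon _ _ _) (hmon _ _ _))
    omega
  have hdvd := char_dvd_card_solutions p hdeg
  have h0 : eval (0 : Fin 3 → K) P = 0 := by
    rw [hP]
    simp
  have hcard : 1 < Fintype.card {x : Fin 3 → K // eval x P = 0} := by
    have hpos : 0 < Fintype.card {x : Fin 3 → K // eval x P = 0} :=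
      Fintype.card_pos_iff.mpr ⟨⟨0, h0⟩⟩
    have h2 : 2 ≤ p := (Fact.out : p.Prime).two_le
    have := Nat.le_of_dvd hpos hdvd
    omega
  obtain ⟨⟨x, hx⟩, hne⟩ := Fintype.exists_ne_of_one_lt_card hcard ⟨0, h0⟩
  refine ⟨x 0, x 1, x 2, ?_, ?_⟩
  · rintro ⟨h1, h2, h3⟩
    apply hne
    apply Subtype.ext
    funext i
    fin_cases i
    · exact h1
    · exact h2
    · exact h3
  · rw [hP] at hx
    simpa using hx

end Cfsg.Agent.Lib.Helper28.Os
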