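import Mathlib
import Cfsg.Prelude.Def_OddOrderLocal
import Cfsg.Agent.S1430
import Cfsg.Agent.Lib.Helper1.BG14.KappaDerived
import Cfsg.Agent.Lib.Helper1.BG14.KappaCyc
import Cfsg.Agent.Lib.Helper1.BG14.SigmaATI
import Cfsg.Agent.Lib.Helper13.BG14P
import Cfsg.Agent.Lib.Helper11.ExcF
import Cfsg.Agent.Lib.Helper28.BGtT

set_option autoImplicit false

/-! The set `Ẑ = Z \ (K ∪ K*)` and `A₀(M) \ A(M)` (B&G 14.7(d), 15.?) — helper28. -/

namespace Cfsg.Agent.Lib.Helper28.BGt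

open Cfsg Cfsg.Agent.Lib.Helper18 Cfsg.Agent.Lib.Helper1.BG14 Cfsg.Agent.Lib.Helper1.BG12b

variable {G : Type*} [Group G] [Finite G]

/-- `|K|` and `|K*|` are coprime -/
theorem kstar_coprime (hG : Cfsg.IsMinSimpleOddOrder G) {M K : Subgroup G} (hM : IsCoatom M)
    (hK : ∀ q : ℕ, q.Prime → q ∣ Nat.card K → q ∈ Cfsg.kappa M) :
    (Nat.card K).Coprime
      (Nat.card ↥(Cfsg.sigmaCore M ⊓ Subgroup.centralizer (K : Set G))) := by
  apply Nat.coprime_of_dvd
  intro q hq h1 h2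
  have h3 : q ∣ Nat.card (Cfsg.sigmaCore M) := h2.trans (Subgroup.card_dvd_of_le inf_le_left)
  exact (hK q hq h1).2.2.1 (prime_sigmaCore hG hM hq h3)

/-- an element of prime order in `zpowers k` -/
theorem exists_prime_zpowers_le {k : G} (hk1 : k ≠ 1) :
    ∃ X : Subgroup G, X ≤ Subgroup.zpowers k ∧ (Nat.card X).Prime := by
  have hox : orderOf k ≠ 1 := by
    rw [Ne, orderOf_eq_one_iff]; exact hk1
  obtain ⟨p, hp, hpd⟩ := Nat.exists_prime_and_dvd hox
  obtain ⟨d, hd⟩ := hpd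
  have hd0 : d ≠ 0 := by
    rintro rfl
    rw [mul_zero] at hd
    exact (orderOf_pos k).ne' hd
  refine ⟨Subgroup.zpowers (k ^ d), ?_, ?_⟩
  · rw [Subgroup.zpowers_le]
    exact Subgroup.pow_mem _ (Subgroup.mem_zpowers k) d
  · rw [Nat.card_zpowers, orderOf_pow_of_dvd hd0 (Dvd.intro_left p hd.symm), hd,
      Nat.mul_div_cancel _ (Nat.pos_of_ne_zero hd0)]
    exact hp

/-- `C_M(k) ≤ K K*` for `k ∈ K#` -/
theorem inf_centralizer_le_sup (hG : Cfsg.IsMinSimpleOddOrder G) {M K : Subgroup G}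
    (hM : IsCoatom M) (hK : Cfsg.IsPiHallOf (Cfsg.kappa M) K M) {k : G} (hk : k ∈ K)
    (hk1 : k ≠ 1) :
    M ⊓ Subgroup.centralizer ({k} : Set G) ≤
      K ⊔ (Cfsg.sigmaCore M ⊓ Subgroup.centralizer (K : Set G)) := by
  have hK1 : K ≠ ⊥ := by
    intro h
    rw [h, Subgroup.mem_bot] at hk
    exact hk1 hk
  obtain ⟨X, hXk, hXp⟩ := exists_prime_zpowers_le hk1
  have hXK : X ≤ K := hXk.trans (Subgroup.zpowers_le.mpr hk)
  have h30 := ((Cfsg.Agent.S1430.result hG M hM K hK hK1).2.2 X hXK hXp).1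
  rw [← h30]
  intro c hc
  obtain ⟨hcM, hcC⟩ := Subgroup.mem_inf.mp hc
  refine Subgroup.mem_inf.mpr ⟨hcM, ?_⟩
  have hcomm : c * k = k * c := by
    have := Subgroup.mem_centralizer_iff.mp hcC k (Set.mem_singleton k)
    exact this.symm
  have hcz : ∀ y ∈ Subgroup.zpowers k, c * y * c⁻¹ = y := by
    intro y hy
    obtain ⟨n, rfl⟩ := Subgroup.mem_zpowers_iff.mp hy
    have : Commute c (k ^ n) := (show Commute c k from hcomm).zpow_right n
    rw [this.eq, mul_assoc, mul_inv_cancel, mul_one]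
  rw [Subgroup.mem_normalizer_iff]
  intro y
  constructor
  · intro hy
    rw [hcz y (hXk hy)]
    exact hy
  · intro hy
    have h1 : y = c⁻¹ * (c * y * c⁻¹) * c := by group
    have h2 : c * y * c⁻¹ ∈ Subgroup.zpowers k := hXk hy
    have h3 : c * (c * y * c⁻¹) * c⁻¹ = c * y * c⁻¹ := hcz _ h2
    have h4 : c * y * c⁻¹ = y := by
      have : c * (c * y * c⁻¹) * c⁻¹ = c * (y) * c⁻¹ → c * y * c⁻¹ = y := by
        intro h
        have := mul_left_cancel (mul_right_cancel h)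
        exact this
      apply this
      rw [h3]
    rw [← h4]
    exact hy


/-- the hypotheses package for `K`, `K*`, `W = U M_σ` -/
theorem zhat_mem_facts (hG : Cfsg.IsMinSimpleOddOrder G) {M K U : Subgroup G}
    (hM : IsCoatom M) (hKU : Cfsg.IsSigmaDecomposition M K U) {z : G}
    (hz : z ∈ K ⊔ (Cfsg.sigmaCore M ⊓ Subgroup.centralizer (K : Set G)))
    (hzK : z ∉ K) (hzs : z ∉ Cfsg.sigmaCore M ⊓ Subgroup.centralizer (K : Set G)) :
    ∃ k ∈ K, ∃ s ∈ Cfsg.sigmaCore M ⊓ Subgroup.centralizer (K : Set G),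
      z = k * s ∧ k ≠ 1 ∧ s ≠ 1 ∧ k * s = s * k := by
  have hN : Cfsg.sigmaCore M ⊓ Subgroup.centralizer (K : Set G) ≤
      Subgroup.normalizer (K : Set G) :=
    inf_le_right.trans (Subgroup.centralizer_le_normalizer (K : Set G))
  obtain ⟨k, hk, s, hs, rfl⟩ := Cfsg.Agent.Lib.Helper11.ExcF.exists_mul_of_mem_sup K _ hN z hz
  refine ⟨k, hk, s, hs, rfl, ?_, ?_, ?_⟩
  · rintro rfl
    rw [one_mul] at hzs
    exact hzs hs
  · rintro rfl
    rw [mul_one] at hzK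
    exact hzK hk
  · exact Subgroup.mem_centralizer_iff.mp (Subgroup.mem_inf.mp hs).2 k hk

/-- **B&G 14.7(d)/§15**: the `M`-conjugates of `Ẑ` are exactly `A₀(M) \ A(M)`. -/
theorem conj_zhat_eq (hG : Cfsg.IsMinSimpleOddOrder G) {M K U : Subgroup G}
    (hM : IsCoatom M) (hKU : Cfsg.IsSigmaDecomposition M K U) (hK1 : K ≠ ⊥) :
    {a : G | ∃ m ∈ M, ∃ z ∈ ((↑(K ⊔ (Cfsg.sigmaCore M ⊓ Subgroup.centralizer (K : Set G))) :
      Set G) \ ((K : Set G) ∪ ↑(Cfsg.sigmaCore M ⊓ Subgroup.centralizer (K : Set G)))),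
        a = m * z * m⁻¹} = Cfsg.sigmaA0 M K \ Cfsg.sigmaA M U := by
  have hK := hKU.hall
  have Hκ := kappa_sub_tau1_of_cyclic hG hM hK hKU.cyclic
  obtain ⟨W, hW⟩ := exists_kHall hG hM Hκ
  have hWeq : U ⊔ Cfsg.sigmaCore M = W := hW.decomp_sup_eq hG hM hKU
  have hWK : W ⊓ K = ⊥ := hW.inf_eq_bot hK.2.1
  have hKs : K ⊓ Cfsg.sigmaCore M = ⊥ :=
    Cfsg.Agent.Lib.Helper1.BG15.kappa_inf_sigmaCore hG hM hK.2.1
  have hcop := kstar_coprime hG hM hK.2.1
  have hKM : K ≤ M := hK.1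
  have hZM : K ⊔ (Cfsg.sigmaCore M ⊓ Subgroup.centralizer (K : Set G)) ≤ M :=
    sup_le hKM (inf_le_left.trans (sigmaCore_le M))
  ext a
  constructor
  · rintro ⟨m, hm, z, ⟨hz, hznot⟩, rfl⟩
    have hzK : z ∉ K := fun h => hznot (Or.inl h)
    have hzs : z ∉ Cfsg.sigmaCore M ⊓ Subgroup.centralizer (K : Set G) :=
      fun h => hznot (Or.inr h)
    obtain ⟨k, hk, s, hs, rfl, hk1, hs1, hks⟩ := zhat_mem_facts hG hM hKU hz hzK hzs
    have hsσ : s ∈ Cfsg.sigmaCore M := (Subgroup.mem_inf.mp hs).1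
    have haM : m * (k * s) * m⁻¹ ∈ M :=
      M.mul_mem (M.mul_mem hm (hZM hz)) (M.inv_mem hm)
    have hhat : m * (k * s) * m⁻¹ ∈ Cfsg.sigmaHat M := by
      refine ⟨haM, m * s * m⁻¹, conj_mem_of_le_normalizer (le_normalizer_sigmaCore M) hm hsσ,
        ?_, ?_⟩
      · intro h
        apply hs1
        have : s = m⁻¹ * (m * s * m⁻¹) * m := by group
        rw [this, h]; group
      · have e1 : m * (k * s) * m⁻¹ * (m * s * m⁻¹) = m * (k * s * s) * m⁻¹ := by group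
        have e2 : m * s * m⁻¹ * (m * (k * s) * m⁻¹) = m * (s * k * s) * m⁻¹ := by group
        rw [e1, e2, hks]
    refine ⟨⟨hhat, ?_⟩, ?_⟩
    · rintro ⟨k', hk', hk'1, m', hm', h⟩
      apply hs1
      set n := Nat.card K with hn
      have h1 : (m * (k * s) * m⁻¹) ^ n = m * s ^ n * m⁻¹ := by
        rw [conj_pow, (show Commute k s from hks).mul_pow]
        have : k ^ n = 1 :=
          orderOf_dvd_iff_pow_eq_one.mp (Subgroup.orderOf_dvd_natCard K hk)
        rw [this, one_mul]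
      have h2 : (m' * k' * m'⁻¹) ^ n = 1 := by
        rw [conj_pow]
        have : k' ^ n = 1 :=
          orderOf_dvd_iff_pow_eq_one.mp (Subgroup.orderOf_dvd_natCard K hk')
        rw [this, mul_one, mul_inv_cancel]
      rw [h, h2] at h1
      have h3 : s ^ n = 1 := by
        have : s ^ n = m⁻¹ * (m * s ^ n * m⁻¹) * m := by group
        rw [this, ← h1]; group
      have h4 : orderOf s ∣ n := orderOf_dvd_of_pow_eq_one h3
      have h5 : orderOf s ∣ Nat.card ↥(Cfsg.sigmaCore M ⊓ Subgroup.centralizer (K : Set G)) :=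
        Subgroup.orderOf_dvd_natCard _ hs
      have h6 : orderOf s ∣ 1 := by
        have := Nat.dvd_gcd h4 h5
        rwa [hcop] at this
      exact orderOf_eq_one_iff.mp (Nat.dvd_one.mp h6)
    · rintro ⟨-, haW⟩
      rw [SetLike.mem_coe, hWeq] at haW
      apply hk1
      have hzW : k * s ∈ W := by
        have h1 := conj_mem_of_le_normalizer hW.normal (M.inv_mem hm) haW
        have : m⁻¹ * (m * (k * s) * m⁻¹) * m⁻¹⁻¹ = k * s := by group
        rwa [this] at h1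
      have hkW : k ∈ W := by
        have : k = (k * s) * s⁻¹ := by group
        rw [this]
        exact W.mul_mem hzW (W.inv_mem (hW.sigma_le hsσ))
      have : k ∈ W ⊓ K := Subgroup.mem_inf.mpr ⟨hkW, hk⟩
      rw [hWK, Subgroup.mem_bot] at this
      exact this
  · rintro ⟨⟨hhat, hnc⟩, hnA⟩
    have haM : a ∈ M := hhat.1
    have haW : a ∉ W := by
      intro h
      apply hnA
      exact ⟨hhat, by rw [SetLike.mem_coe, hWeq]; exact h⟩
    have he : orderOf a ≠ 0 := (orderOf_pos a).ne'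
    obtain ⟨e₁, e₂, he12, hcop12, h1, h2⟩ := pi_split (Cfsg.kappa M) (orderOf a) he
    have he1 : e₁ ≠ 0 := by
      rintro rfl
      rw [zero_mul] at he12
      exact he he12
    have he2 : e₂ ≠ 0 := by
      rintro rfl
      rw [mul_zero] at he12
      exact he he12
    -- `b = a ^ e₂` has order `e₁` (a κ-number), `c = a ^ e₁` has order `e₂`
    have ho1 : orderOf (a ^ e₁) = e₂ := by
      rw [orderOf_pow_of_dvd he1 (Dvd.intro _ he12.symm), he12]
      exact Nat.mul_div_cancel_left e₂ (Nat.pos_of_ne_zero he1)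
    have ho2 : orderOf (a ^ e₂) = e₁ := by
      rw [orderOf_pow_of_dvd he2 (Dvd.intro_left _ he12.symm), he12]
      exact Nat.mul_div_cancel e₁ (Nat.pos_of_ne_zero he2)
    have hc : IsCoprime (e₁ : ℤ) (e₂ : ℤ) := Nat.isCoprime_iff_coprime.mpr hcop12
    obtain ⟨u, v, huv⟩ := hc
    have h4 : a = (a ^ e₁) ^ u * (a ^ e₂) ^ v := by
      rw [← zpow_natCast a e₁, ← zpow_natCast a e₂, ← zpow_mul, ← zpow_mul, ← zpow_add]
      have : (e₁ : ℤ) * u + (e₂ : ℤ) * v = 1 := by rw [← huv]; ring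
      rw [this, zpow_one]
    -- `a ^ e₁ ∈ W`
    have hcW : a ^ e₁ ∈ W := by
      have hle : Subgroup.zpowers (a ^ e₁) ≤ W := by
        apply hW.le_of_not_kappa (Subgroup.zpowers_le.mpr (M.pow_mem haM _))
        intro p hp hpd
        rw [Nat.card_zpowers, ho1] at hpd
        exact h2 p hp hpd
      exact hle (Subgroup.mem_zpowers _)
    -- conjugate `a ^ e₂` into `K`
    have hMs : Group.IsSolvable ↥M := hG.2.2.2 M hM.1
    have hcard : Nat.card M = Nat.card K * K.relIndex M :=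
      (Cfsg.Agent.Lib.Helper1.BG12.card_mul_relIndex_of_le hKM).symm
    have hcopK : (Nat.card K).Coprime (K.relIndex M) := by
      apply Nat.coprime_of_dvd
      intro p hp hp1 hp2
      exact hK.2.2 p hp (hK.2.1 p hp hp1) hp2
    have hY : (Nat.card (Subgroup.zpowers (a ^ e₂))).Coprime (K.relIndex M) := by
      rw [Nat.card_zpowers, ho2]
      apply Nat.coprime_of_dvd
      intro p hp hp1 hp2
      exact hK.2.2 p hp (h1 p hp hp1) hp2
    obtain ⟨w, hwM, hw⟩ := hall_conj_into hMs hKM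
      (Subgroup.zpowers_le.mpr (M.pow_mem haM e₂)) hcard hcopK hY
    -- the conjugated element
    set a' := w⁻¹ * a * w with ha'
    have ha'M : a' ∈ M := M.mul_mem (M.mul_mem (M.inv_mem hwM) haM) hwM
    have hpow : ∀ n : ℕ, a' ^ n = w⁻¹ * a ^ n * w := by
      intro n
      have : a' = w⁻¹ * a * w⁻¹⁻¹ := by rw [inv_inv]
      rw [this, conj_pow, inv_inv]
    have hbK : a' ^ e₂ ∈ K := by
      rw [hpow]
      exact hw _ (Subgroup.mem_zpowers _)
    have hcW' : a' ^ e₁ ∈ W := by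
      rw [hpow]
      have := conj_mem_of_le_normalizer hW.normal (M.inv_mem hwM) hcW
      rwa [inv_inv] at this
    have h4' : a' = (a' ^ e₁) ^ u * (a' ^ e₂) ^ v := by
      rw [← zpow_natCast a' e₁, ← zpow_natCast a' e₂, ← zpow_mul, ← zpow_mul, ← zpow_add]
      have : (e₁ : ℤ) * u + (e₂ : ℤ) * v = 1 := by rw [← huv]; ring
      rw [this, zpow_one]
    set k₀ := (a' ^ e₂) ^ v with hk₀
    set s₀ := (a' ^ e₁) ^ u with hs₀
    have hk₀K : k₀ ∈ K := K.zpow_mem hbK v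
    have hs₀W : s₀ ∈ W := W.zpow_mem hcW' u
    have hcomm : k₀ * s₀ = s₀ * k₀ := by
      have : Commute (a' ^ e₂) (a' ^ e₁) := (Commute.refl a').pow_pow e₂ e₁
      exact ((this.zpow_zpow v u)).eq
    have ha'eq : a' = k₀ * s₀ := by rw [hcomm]; exact h4'
    have haeq : a = w * a' * w⁻¹ := by rw [ha']; group
    have hk₀1 : k₀ ≠ 1 := by
      intro h
      apply haW
      rw [haeq, ha'eq, h, one_mul]
      exact conj_mem_of_le_normalizer hW.normal hwM hs₀W
    have hs₀M : s₀ ∈ M := hW.le hs₀W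
    have hs₀Z : s₀ ∈ K ⊔ (Cfsg.sigmaCore M ⊓ Subgroup.centralizer (K : Set G)) := by
      apply inf_centralizer_le_sup hG hM hK hk₀K hk₀1
      refine Subgroup.mem_inf.mpr ⟨hs₀M, ?_⟩
      rw [Subgroup.mem_centralizer_iff]
      intro y hy
      rw [Set.mem_singleton_iff] at hy
      rw [hy]
      exact hcomm
    have hN : Cfsg.sigmaCore M ⊓ Subgroup.centralizer (K : Set G) ≤
        Subgroup.normalizer (K : Set G) :=
      inf_le_right.trans (Subgroup.centralizer_le_normalizer (K : Set G))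
    obtain ⟨k₁, hk₁, s₁, hs₁, hs₀eq⟩ :=
      Cfsg.Agent.Lib.Helper11.ExcF.exists_mul_of_mem_sup K _ hN s₀ hs₀Z
    have hs₁σ : s₁ ∈ Cfsg.sigmaCore M := (Subgroup.mem_inf.mp hs₁).1
    have hk₁1 : k₁ = 1 := by
      have hk₁W : k₁ ∈ W := by
        have : k₁ = s₀ * s₁⁻¹ := by rw [hs₀eq]; group
        rw [this]
        exact W.mul_mem hs₀W (W.inv_mem (hW.sigma_le hs₁σ))
      have : k₁ ∈ W ⊓ K := Subgroup.mem_inf.mpr ⟨hk₁W, hk₁⟩
      rwa [hWK, Subgroup.mem_bot] at this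
    have hs₀s : s₀ ∈ Cfsg.sigmaCore M ⊓ Subgroup.centralizer (K : Set G) := by
      rw [hs₀eq, hk₁1, one_mul]; exact hs₁
    have hs₀1 : s₀ ≠ 1 := by
      intro h
      apply hnc
      refine ⟨k₀, hk₀K, hk₀1, w, hwM, ?_⟩
      rw [haeq, ha'eq, h, mul_one]
    have hbot : K ⊓ (Cfsg.sigmaCore M ⊓ Subgroup.centralizer (K : Set G)) = ⊥ := by
      rw [eq_bot_iff, ← hKs]
      exact inf_le_inf_left K inf_le_left
    refine ⟨w, hwM, k₀ * s₀, ⟨?_, ?_⟩, ?_⟩
    · exact Subgroup.mul_mem _ (Subgroup.mem_sup_left hk₀K) (Subgroup.mem_sup_right hs₀s)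
    · rintro (h | h)
      · apply hs₀1
        have h3 : s₀ ∈ K := by
          have : s₀ = k₀⁻¹ * (k₀ * s₀) := by group
          rw [this]
          exact K.mul_mem (K.inv_mem hk₀K) h
        have : s₀ ∈ K ⊓ (Cfsg.sigmaCore M ⊓ Subgroup.centralizer (K : Set G)) :=
          Subgroup.mem_inf.mpr ⟨h3, hs₀s⟩
        rwa [hbot, Subgroup.mem_bot] at this
      · apply hk₀1
        have h3 : k₀ ∈ Cfsg.sigmaCore M ⊓ Subgroup.centralizer (K : Set G) := by
          have : k₀ = (k₀ * s₀) * s₀⁻¹ := by group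
          rw [this]
          exact Subgroup.mul_mem _ h (Subgroup.inv_mem _ hs₀s)
        have : k₀ ∈ K ⊓ (Cfsg.sigmaCore M ⊓ Subgroup.centralizer (K : Set G)) :=
          Subgroup.mem_inf.mpr ⟨hk₀K, h3⟩
        rwa [hbot, Subgroup.mem_bot] at this
    · rw [haeq, ha'eq]


omit [Finite G] in
/-- the union of the `M`-conjugates of a TI-subset `S` (not containing `1`) whose normalizer
lies in `M` is again a TI-subset. -/
theorem conj_union_TI {M : Subgroup G} {S : Set G} (hS : Cfsg.IsTISubset S)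
    (hN : Subgroup.normalizer S ≤ M) (h1 : (1 : G) ∉ S) :
    Cfsg.IsTISubset {a : G | ∃ m ∈ M, ∃ z ∈ S, a = m * z * m⁻¹} := by
  intro g hg x hx hgx
  exfalso
  apply hg
  obtain ⟨m, hm, z, hz, rfl⟩ := hx
  obtain ⟨m', hm', z', hz', h⟩ := hgx
  -- `h := m'⁻¹ g m` conjugates `z` to `z'`
  have hconj : (m'⁻¹ * g * m) * z * (m'⁻¹ * g * m)⁻¹ = z' := by
    have : (m'⁻¹ * g * m) * z * (m'⁻¹ * g * m)⁻¹ = m'⁻¹ * (g * (m * z * m⁻¹) * g⁻¹) * m' := by
      group
    rw [this, h]; group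
  have hmem : m'⁻¹ * g * m ∈ Subgroup.normalizer S := by
    by_contra hcon
    have := hS _ hcon z hz (by rw [hconj]; exact hz')
    rw [this] at hz
    exact h1 hz
  have hgM : g ∈ M := by
    have h2 : m'⁻¹ * g * m ∈ M := hN hmem
    have : g = m' * (m'⁻¹ * g * m) * m⁻¹ := by group
    rw [this]
    exact M.mul_mem (M.mul_mem hm' h2) (M.inv_mem hm)
  -- `M` normalizes the union of conjugates
  have key : ∀ g ∈ M, ∀ n, n ∈ {a : G | ∃ m ∈ M, ∃ z ∈ S, a = m * z * m⁻¹} →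
      g * n * g⁻¹ ∈ {a : G | ∃ m ∈ M, ∃ z ∈ S, a = m * z * m⁻¹} := by
    rintro g hg n ⟨m, hm, z, hz, rfl⟩
    exact ⟨g * m, M.mul_mem hg hm, z, hz, by group⟩
  rw [Subgroup.mem_set_normalizer_iff]
  intro n
  constructor
  · exact key g hgM n
  · intro hn
    have := key g⁻¹ (M.inv_mem hgM) _ hn
    have e : g⁻¹ * (g * n * g⁻¹) * g⁻¹⁻¹ = n := by group
    rwa [e] at this

/-- **S1371 modulo S1370** -/
theorem sigmaA0_diff_of_TI (hG : Cfsg.IsMinSimpleOddOrder G) {M K U : Subgroup G}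
    (hM : IsCoatom M) (hKU : Cfsg.IsSigmaDecomposition M K U) (hK1 : K ≠ ⊥)
    (hTI : Cfsg.IsTISubset ((↑(K ⊔ (Cfsg.sigmaCore M ⊓ Subgroup.centralizer (K : Set G))) :
      Set G) \ ((K : Set G) ∪ ↑(Cfsg.sigmaCore M ⊓ Subgroup.centralizer (K : Set G)))))
    (hN : Subgroup.normalizer ((↑(K ⊔ (Cfsg.sigmaCore M ⊓ Subgroup.centralizer (K : Set G))) :
      Set G) \ ((K : Set G) ∪ ↑(Cfsg.sigmaCore M ⊓ Subgroup.centralizer (K : Set G)))) =
        K ⊔ (Cfsg.sigmaCore M ⊓ Subgroup.centralizer (K : Set G))) :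
    {a : G | ∃ m ∈ M, ∃ z ∈ ((↑(K ⊔ (Cfsg.sigmaCore M ⊓ Subgroup.centralizer (K : Set G))) :
      Set G) \ ((K : Set G) ∪ ↑(Cfsg.sigmaCore M ⊓ Subgroup.centralizer (K : Set G)))),
        a = m * z * m⁻¹} = Cfsg.sigmaA0 M K \ Cfsg.sigmaA M U ∧
      Cfsg.IsTISubset (Cfsg.sigmaA0 M K \ Cfsg.sigmaA M U) := by
  have heq := conj_zhat_eq hG hM hKU hK1
  refine ⟨heq, ?_⟩
  rw [← heq]
  apply conj_union_TI hTI
  · rw [hN]
    exact sup_le hKU.hall.1 (inf_le_left.trans (sigmaCore_le M))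
  · rintro ⟨-, h⟩
    exact h (Or.inl K.one_mem)

end Cfsg.Agent.Lib.Helper28.BGt
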