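import Mathlib
import Cfsg.Agent.Lib.Helper28.BGtT
import Cfsg.Agent.Lib.Helper11.AutRankTwo
import Cfsg.Agent.Lib.Helper1.AbelianSylowQuot
import Cfsg.Agent.S1414
import Cfsg.Agent.S1403
import Cfsg.Agent.S1422
import Cfsg.Agent.S1417

set_option autoImplicit false

/-! B & G Corollary 14.3(c) (helper28): Sylow subgroups of `M_σ` for primes dividing `|K*|`. -/

namespace Cfsg.Agent.Lib.Helper28.BGt

open Cfsg Cfsg.Agent.Lib.Helper18
open scoped commutatorElement

variable {G : Type*} [Group G]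

/-- in a group with a normal `q`-complement, the normalizer of an abelian Sylow `q`-subgroup
centralizes it -/
theorem mem_centralizer_of_npc [Finite G] {H S : Subgroup G} {q : ℕ} [hq : Fact q.Prime]
    (hnpc : Cfsg.HasNormalPComplement q ↥H) (hS : IsSylowIn q S H)
    (hSc : ∀ a ∈ S, ∀ b ∈ S, a * b = b * a) {g : G} (hgH : g ∈ H)
    (hgN : g ∈ Subgroup.normalizer (S : Set G)) : g ∈ Subgroup.centralizer (S : Set G) := by
  obtain ⟨P, T, hTn, hTP⟩ := hnpc
  obtain ⟨S', hS'⟩ := hS.exists_sylow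
  have hcardS : Nat.card (S' : Subgroup ↥H) = Nat.card (P : Subgroup ↥H) := by
    rw [Sylow.card_eq_multiplicity, Sylow.card_eq_multiplicity]
  have hmul : Nat.card T * Nat.card (S' : Subgroup ↥H) = Nat.card ↥H := by
    rw [hcardS]
    exact hTP.card_mul_card
  have hcop : (Nat.card T).Coprime (Nat.card (S' : Subgroup ↥H)) := by
    have h1 : Nat.card T = (S' : Subgroup ↥H).index := by
      have h2 := (S' : Subgroup ↥H).card_mul_index
      rw [← hmul] at h2
      have hpos : 0 < Nat.card (S' : Subgroup ↥H) := Nat.card_pos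
      nlinarith [Nat.eq_of_mul_eq_mul_left hpos (by rw [h2, mul_comm] : Nat.card (S' : Subgroup ↥H) * (S' : Subgroup ↥H).index = Nat.card (S' : Subgroup ↥H) * Nat.card T)]
    rw [h1]
    exact (S'.card_coprime_index).symm
  have hcompl : T.IsComplement' (S' : Subgroup ↥H) := Subgroup.isComplement'_of_coprime hmul hcop
  obtain ⟨⟨⟨t, ht⟩, ⟨s, hs⟩⟩, hts, -⟩ := hcompl.existsUnique ⟨g, hgH⟩
  simp only at hts
  have hsS : (s : G) ∈ S := by
    rw [hS'] at hs
    exact Subgroup.mem_subgroupOf.mp hs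
  have hg : g = (t : G) * (s : G) := by
    have := congrArg Subtype.val hts
    simpa using this.symm
  have htN : (t : G) ∈ Subgroup.normalizer (S : Set G) := by
    have : (t : G) = g * (s : G)⁻¹ := by rw [hg]; group
    rw [this]
    exact Subgroup.mul_mem _ hgN (Subgroup.inv_mem _ (Subgroup.le_normalizer hsS))
  rw [Subgroup.mem_centralizer_iff]
  intro a ha
  -- `t` commutes with `a`
  have hta : (t : G) * a * (t : G)⁻¹ ∈ S := (Subgroup.mem_normalizer_iff.mp htN a).mp ha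
  have hcomm1 : (t : G) * a * (t : G)⁻¹ * a⁻¹ ∈ S := S.mul_mem hta (S.inv_mem ha)
  have haH : a ∈ H := hS.le ha
  have hcomm2 : (⟨(t : G) * a * (t : G)⁻¹ * a⁻¹, H.mul_mem (H.mul_mem (H.mul_mem t.2 haH) (H.inv_mem t.2)) (H.inv_mem haH)⟩ : ↥H) ∈ T := by
    have h1 : (⟨a, haH⟩ : ↥H) * t⁻¹ * (⟨a, haH⟩ : ↥H)⁻¹ ∈ T := hTn.conj_mem _ (T.inv_mem ht) _
    have h2 := T.mul_mem ht h1
    convert h2 using 1
    apply Subtype.ext
    simp [mul_assoc]
  have hcomm3 : (⟨(t : G) * a * (t : G)⁻¹ * a⁻¹, H.mul_mem (H.mul_mem (H.mul_mem t.2 haH) (H.inv_mem t.2)) (H.inv_mem haH)⟩ : ↥H) ∈ (S' : Subgroup ↥H) := by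
    rw [hS']
    exact Subgroup.mem_subgroupOf.mpr hcomm1
  have hone := hcompl.disjoint.le_bot ⟨hcomm2, hcomm3⟩
  rw [Subgroup.mem_bot] at hone
  have hone' : (t : G) * a * (t : G)⁻¹ * a⁻¹ = 1 := congrArg Subtype.val hone
  have hta' : (t : G) * a = a * (t : G) := by
    have : (t : G) * a = ((t : G) * a * (t : G)⁻¹ * a⁻¹) * (a * (t : G)) := by group
    rw [this, hone', one_mul]
  rw [hg]
  calc a * ((t : G) * (s : G)) = (a * (t : G)) * s := by group
    _ = ((t : G) * a) * s := by rw [hta']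
    _ = (t : G) * (a * s) := by group
    _ = (t : G) * (s * a) := by rw [hSc a ha s hsS]
    _ = (t : G) * (s : G) * a := by group

/-- the derived subgroup of the normalizer of an abelian Sylow `q`-subgroup of rank at most two
(odd order, solvable normalizer) centralizes it -/
theorem commutator_normalizer_le_centralizer [Finite G] {q : ℕ} [hq : Fact q.Prime] (hq2 : q ≠ 2)
    {S : Subgroup G} (hS : IsSylowIn q S ⊤) (hSc : ∀ a ∈ S, ∀ b ∈ S, a * b = b * a)
    (hSr : Cfsg.PRankLE q 2 ↥S) (hodd : Odd (Nat.card ↥(Subgroup.normalizer (S : Set G))))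
    (hsol : Group.IsSolvable ↥(Subgroup.normalizer (S : Set G))) :
    ⁅Subgroup.normalizer (S : Set G), Subgroup.normalizer (S : Set G)⁆ ≤
      Subgroup.centralizer (S : Set G) := by
  classical
  obtain ⟨φ, hφ⟩ : ∃ φ : ↥(Subgroup.normalizer (S : Set G)) →* MulAut ↥S,
      φ = S.normalizerMonoidHom := ⟨_, rfl⟩
  have hφa : ∀ (a : ↥(Subgroup.normalizer (S : Set G))) (v : ↥S),
      ((φ a v : ↥S) : G) = a * v * (a : G)⁻¹ := by
    intro a v
    rw [hφ]
    rfl
  -- elements acting trivially are in the centralizer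
  have hcent : ∀ a : ↥(Subgroup.normalizer (S : Set G)), φ a = 1 →
      (a : G) ∈ Subgroup.centralizer (S : Set G) := by
    intro a ha
    rw [Subgroup.mem_centralizer_iff]
    intro v hv
    have h2 := hφa a ⟨v, hv⟩
    rw [ha] at h2
    simp only [MulAut.one_apply] at h2
    calc v * (a : G) = ((a : G) * v * (a : G)⁻¹) * a := by rw [← h2]
      _ = a * v := by group
  intro g hg
  rw [← Subgroup.map_subtype_commutator] at hg
  obtain ⟨g', hg', rfl⟩ := Subgroup.mem_map.mp hg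
  apply hcent
  obtain ⟨a, m, hqm, ham⟩ := Nat.exists_eq_pow_mul_and_not_dvd (orderOf_pos g').ne' q hq.out.ne_one
  -- the `q'`-part
  have h1 : φ (g' ^ q ^ a) = 1 := by
    apply Cfsg.Agent.Lib.Helper11.AutRankTwo.der_coprime_trivial_rank_two q hq2 hS.isPGroup hSr hodd φ
      (g' ^ q ^ a) (Subgroup.pow_mem _ hg' _) m _ hqm
    rw [← pow_mul, ← ham, pow_orderOf_eq_one]
  -- the `q`-part lies in `S`
  have h2 : φ (g' ^ m) = 1 := by
    have hmem : ((g' ^ m : ↥(Subgroup.normalizer (S : Set G))) : G) ∈ S := by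
      by_contra hyS
      have hyq : ∃ k : ℕ, ((g' ^ m : ↥(Subgroup.normalizer (S : Set G))) : G) ^ q ^ k = 1 := by
        refine ⟨a, ?_⟩
        rw [← Subgroup.coe_pow, ← pow_mul, mul_comm, ← ham, pow_orderOf_eq_one, Subgroup.coe_one]
      obtain ⟨h3, h4⟩ := Cfsg.Agent.Lib.Helper11.MaxSubD.sup_zpowers q S hS.isPGroup _
        (g' ^ m).2 hyS hyq
      exact h4.ne (hS.eq_of_le le_top h3 le_sup_left).symm
    ext v
    have h5 := hφa (g' ^ m) v
    rw [MulAut.one_apply, h5]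
    have := hSc _ hmem _ v.2
    rw [this]
    group
  -- combine
  have hcop : Nat.Coprime (q ^ a) m :=
    Nat.Coprime.pow_left _ ((Nat.Prime.coprime_iff_not_dvd hq.out).mpr hqm)
  have hbez := Nat.gcd_eq_gcd_ab (q ^ a) m
  rw [hcop] at hbez
  have hg'eq : g' = (g' ^ q ^ a) ^ (Nat.gcdA (q ^ a) m) * (g' ^ m) ^ (Nat.gcdB (q ^ a) m) := by
    rw [← zpow_natCast g' (q ^ a), ← zpow_natCast g' m, ← zpow_mul, ← zpow_mul, ← zpow_add]
    have : ((q ^ a : ℕ) : ℤ) * Nat.gcdA (q ^ a) m + (m : ℤ) * Nat.gcdB (q ^ a) m = 1 := by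
      rw [← hbez]; simp
    rw [this, zpow_one]
  rw [hg'eq, map_mul, map_zpow, map_zpow, h1, h2, one_zpow, one_zpow, one_mul]

/-- the `p`-rank of a subgroup is that of its Sylow `p`-subgroups -/
theorem pRankLE_of_isSylowIn [Finite G] {M S : Subgroup G} {p k : ℕ} [hp : Fact p.Prime]
    (hS : IsSylowIn p S M) (hr : Cfsg.PRankLE p k ↥S) : Cfsg.PRankLE p k ↥M := by
  intro A hAc hAp
  obtain ⟨A', hA'⟩ : ∃ A' : Subgroup G, A' = A.map M.subtype := ⟨_, rfl⟩
  have hA'M : A' ≤ M := by rw [hA']; exact Subgroup.map_subtype_le _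
  have hA'pow : ∀ a ∈ A', a ^ p = 1 := by
    rw [hA']
    rintro _ ⟨a, ha, rfl⟩
    have := hAp a ha
    simpa using congrArg Subtype.val this
  have hA'comm : ∀ a ∈ A', ∀ b ∈ A', a * b = b * a := by
    rw [hA']
    rintro _ ⟨a, ha, rfl⟩ _ ⟨b, hb, rfl⟩
    have := hAc.is_comm.comm ⟨a, ha⟩ ⟨b, hb⟩
    have h2 := congrArg Subtype.val this
    simp only [Subgroup.coe_mul] at h2
    simpa using congrArg Subtype.val h2
  have hA'p : IsPGroup p A' := by
    intro a
    refine ⟨1, ?_⟩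
    apply Subtype.ext
    simpa using hA'pow a a.2
  obtain ⟨m, -, hle⟩ := hS.exists_conj_le hA'M hA'p
  obtain ⟨B, hB⟩ : ∃ B : Subgroup ↥S, B = (conjSub m A').subgroupOf S := ⟨_, rfl⟩
  have hcard : Nat.card A = Nat.card B := by
    rw [hB, Cfsg.Agent.Lib.Helper5.card_subgroupOf_of_le hle, card_conjSub, hA',
      Subgroup.card_map_of_injective (Subgroup.subtype_injective _)]
  rw [hcard]
  apply hr B
  · refine ⟨⟨?_⟩⟩
    rintro ⟨x, hx⟩ ⟨y, hy⟩
    rw [hB, Subgroup.mem_subgroupOf, mem_conjSub] at hx hy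
    apply Subtype.ext
    apply Subtype.ext
    simp only [Subgroup.coe_mul]
    have h := hA'comm _ hx _ hy
    have e1 : (x : G) * y = m * ((m⁻¹ * x * m) * (m⁻¹ * y * m)) * m⁻¹ := by group
    have e2 : (y : G) * x = m * ((m⁻¹ * y * m) * (m⁻¹ * x * m)) * m⁻¹ := by group
    rw [e1, e2, h]
  · intro x hx
    rw [hB, Subgroup.mem_subgroupOf, mem_conjSub] at hx
    apply Subtype.ext
    have := hA'pow _ hx
    rw [Subgroup.coe_pow, Subgroup.coe_one]
    have e : (x : G) = m * (m⁻¹ * x * m) * m⁻¹ := by group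
    rw [e, conj_pow, this]; group

/-- **core of 14.3(c)**: `K` a Hall `κ(M)`-subgroup with `N_M(X) = K K*` for the subgroups `X ≤ K`
of prime order; a `K`-invariant Sylow `q`-subgroup `S` of `M_σ` containing a nontrivial subgroup
centralized by `K` is not abelian of rank at most two -/
theorem fourteen_three_core [Finite G] (hG : Cfsg.IsMinSimpleOddOrder G) {M K : Subgroup G}
    (hM : IsCoatom M) (hK : Cfsg.IsPiHallOf (Cfsg.kappa M) K M) (hK1 : K ≠ ⊥)
    (hN : ∀ X : Subgroup G, X ≤ K → (Nat.card X).Prime →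
      M ⊓ Subgroup.normalizer (X : Set G) =
        K ⊔ (Cfsg.sigmaCore M ⊓ Subgroup.centralizer (K : Set G)))
    {q : ℕ} [hq : Fact q.Prime] {S Q : Subgroup G} (hS : IsSylowIn q S (Cfsg.sigmaCore M))
    (hKS : K ≤ Subgroup.normalizer (S : Set G)) (hQS : Q ≤ S) (hQ1 : Q ≠ ⊥)
    (hQK : Q ≤ Subgroup.centralizer (K : Set G))
    (hSc : ∀ a ∈ S, ∀ b ∈ S, a * b = b * a) (hSr : Cfsg.PRankLE q 2 ↥S) : False := by
  classical
  haveI : IsSimpleGroup G := hG.2.1
  have hσM := sigmaCore_le M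
  have hS1 : S ≠ ⊥ := fun h => hQ1 (eq_bot_iff.mpr (h ▸ hQS))
  have hqS : q ∣ Nat.card S := by
    obtain ⟨k, hk⟩ := IsPGroup.iff_card.mp hS.isPGroup
    have hk0 : k ≠ 0 := by
      rintro rfl
      rw [pow_zero] at hk
      exact hS1 (Subgroup.card_eq_one.mp hk)
    rw [hk]
    exact dvd_pow_self q hk0
  have hqσ : q ∈ Cfsg.sigma M :=
    prime_sigmaCore hG hM hq.out (hqS.trans (Subgroup.card_dvd_of_le hS.le))
  have hqM : q ∣ Nat.card M := hqσ.2.1
  have hq2 : q ≠ 2 := Cfsg.Agent.Lib.Helper1.BG10.prime_ne_two hG q M hqM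
  obtain ⟨hσhall, -, -⟩ := Cfsg.Agent.Lib.Helper11.BenderO.sigma_hall hG M hM
  have hSM : IsSylowIn q S M := by
    refine ⟨hS.le.trans hσM, hS.isPGroup, ?_⟩
    rw [← Subgroup.relIndex_mul_relIndex _ _ _ hS.le hσM]
    intro hd
    rcases (Nat.Prime.dvd_mul hq.out).mp hd with h | h
    · exact hS.not_dvd h
    · exact hσhall.2.2 q hq.out hqσ h
  obtain ⟨S₀, hS₀⟩ := Cfsg.Agent.Lib.Helper11.BenderM.exists_good_of_sigma M q hqσ
  obtain ⟨m, hmM, hle⟩ := hSM.exists_conj_le hS₀.1.le hS₀.1.isPGroup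
  have heq : conjSub m S₀ = S := by
    apply Subgroup.eq_of_le_of_card_ge hle
    rw [card_conjSub]
    exact (hSM.card_eq hS₀.1).le
  have hgood : Cfsg.Agent.Lib.Helper11.BenderM.Good M q S :=
    heq ▸ Cfsg.Agent.Lib.Helper11.BenderM.good_conj hS₀ hmM
  have hNM : Subgroup.normalizer (S : Set G) ≤ M := hgood.2.1
  have hStop : IsSylowIn q S ⊤ := hgood.2.2
  have hodd : Odd (Nat.card ↥(Subgroup.normalizer (S : Set G))) :=
    Cfsg.Agent.Lib.Helper1.BG12.odd_card_subgroup hG _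
  have hsol : Group.IsSolvable ↥(Subgroup.normalizer (S : Set G)) := by
    haveI := Cfsg.Agent.Lib.Helper11.MaxSubB.coatom_solvable hG M hM
    exact solvable_of_solvable_injective (Subgroup.inclusion_injective hNM)
  have hder := commutator_normalizer_le_centralizer hq2 hStop hSc hSr hodd hsol
  have hrM : Cfsg.PRankLE q 2 ↥M := pRankLE_of_isSylowIn hSM hSr
  have hqβ : q ∉ Cfsg.beta M := fun h => h.1.2 hrM
  obtain ⟨-, hnpc, -⟩ := (Cfsg.Agent.S1414.result hG M hM).2.2.2.2 q hq.out hqM hqβ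
  have hσC : ∀ g ∈ Cfsg.sigmaCore M, g ∈ Subgroup.normalizer (S : Set G) →
      g ∈ Subgroup.centralizer (S : Set G) :=
    fun g hg hgN => mem_centralizer_of_npc hnpc hS hSc hg hgN
  -- a prime `p` dividing `|K|` and a Sylow `p`-subgroup `T` of `K`
  obtain ⟨p, hp, hpK⟩ := Nat.exists_prime_and_dvd
    (show Nat.card K ≠ 1 from fun h => hK1 (Subgroup.card_eq_one.mp h))
  haveI : Fact p.Prime := ⟨hp⟩
  have hpκ : p ∈ Cfsg.kappa M := hK.2.1 p hp hpK
  obtain ⟨T₀⟩ : Nonempty (Sylow p ↥K) := inferInstance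
  obtain ⟨T, hTdef⟩ : ∃ T : Subgroup G, T = (T₀ : Subgroup ↥K).map K.subtype := ⟨_, rfl⟩
  have hTK : IsSylowIn p T K := hTdef ▸ isSylowIn_of_sylow T₀
  have hTM : IsSylowIn p T M := by
    refine ⟨hTK.le.trans hK.1, hTK.isPGroup, ?_⟩
    rw [← Subgroup.relIndex_mul_relIndex _ _ _ hTK.le hK.1]
    intro hd
    rcases (Nat.Prime.dvd_mul hp).mp hd with h | h
    · exact hTK.not_dvd h
    · exact hK.2.2 p hp hpκ h
  obtain ⟨T', hT'⟩ := hTM.exists_sylow
  have hcyc' : IsCyclic (T' : Subgroup ↥M) := (hpκ.2.2.2 T').1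
  have hcyc : IsCyclic T := by
    rw [hT'] at hcyc'
    exact (Subgroup.subgroupOfEquivOfLe hTM.le).isCyclic.mp hcyc'
  -- a subgroup `X ≤ T` of order `p`
  have hpT : p ∣ Nat.card T := by
    have h1 : Nat.card K = Nat.card T * T.relIndex K := by
      have := Subgroup.relIndex_mul_relIndex ⊥ T K bot_le hTK.le
      rw [Subgroup.relIndex_bot_left, Subgroup.relIndex_bot_left] at this
      exact this.symm
    rw [h1] at hpK
    rcases (Nat.Prime.dvd_mul hp).mp hpK with h | h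
    · exact h
    · exact absurd h hTK.not_dvd
  obtain ⟨x, hx⟩ := exists_prime_orderOf_dvd_card' (G := ↥T) p hpT
  obtain ⟨X, hXdef⟩ : ∃ X : Subgroup G, X = Subgroup.zpowers (x : G) := ⟨_, rfl⟩
  have hXc : Nat.card X = p := by
    rw [hXdef, Nat.card_zpowers, Subgroup.orderOf_coe, hx]
  have hXT : X ≤ T := by
    rw [hXdef, Subgroup.zpowers_le]
    exact x.2
  have hXK : X ≤ K := hXT.trans hTK.le
  have hNX := hN X hXK (hXc ▸ hp)
  -- the centralizer of `Q`
  have hCZ : Subgroup.centralizer (S : Set G) ≤ Subgroup.centralizer (Q : Set G) :=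
    Subgroup.centralizer_le hQS
  have hKZ : K ≤ Subgroup.centralizer (Q : Set G) := by
    intro k hk
    rw [Subgroup.mem_centralizer_iff]
    intro y hy
    exact ((Subgroup.mem_centralizer_iff.mp (hQK hy)) k hk).symm
  have hCN : Subgroup.centralizer (S : Set G) ≤ Subgroup.normalizer (S : Set G) :=
    Subgroup.centralizer_le_normalizer _
  have hDN : Subgroup.centralizer (S : Set G) ⊔ T ≤ Subgroup.normalizer (S : Set G) :=
    sup_le hCN (hTK.le.trans hKS)
  have hDZ : Subgroup.centralizer (S : Set G) ⊔ T ≤ Subgroup.centralizer (Q : Set G) :=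
    sup_le hCZ (hTK.le.trans hKZ)
  have hmain : Subgroup.normalizer (S : Set G) ≤ Subgroup.centralizer (Q : Set G) := by
    intro n hn
    have h1 : conjSub n T ≤ Subgroup.centralizer (S : Set G) ⊔ T := by
      rintro _ ⟨t, ht, rfl⟩
      have htN : t ∈ Subgroup.normalizer (S : Set G) := hKS (hTK.le ht)
      have hc : ⁅n, t⁆ ∈ ⁅Subgroup.normalizer (S : Set G), Subgroup.normalizer (S : Set G)⁆ :=
        Subgroup.commutator_mem_commutator hn htN
      have e : (MulAut.conj n).toMonoidHom t = ⁅n, t⁆ * t := by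
        simp only [MulEquiv.toMonoidHom_eq_coe, MonoidHom.coe_coe, MulAut.conj_apply,
          commutatorElement_def]
        group
      rw [e]
      exact Subgroup.mul_mem _ (Subgroup.mem_sup_left (hder hc)) (Subgroup.mem_sup_right ht)
    have hTD : IsSylowIn p T (Subgroup.centralizer (S : Set G) ⊔ T) :=
      hTM.of_le le_sup_right (hDN.trans hNM)
    obtain ⟨d, hd, hle2⟩ := hTD.exists_conj_le h1 (conjSub_isPGroup hTK.isPGroup)
    rw [conjSub_mul] at hle2
    have hwT : d * n ∈ Subgroup.normalizer (T : Set G) := mem_normalizer_of_conjSub_le hle2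
    have hwTeq : conjSub (d * n) T = T := conjSub_eq_of_mem_normalizer hwT
    have hwX : d * n ∈ Subgroup.normalizer (X : Set G) := by
      apply mem_normalizer_of_conjSub_le
      apply le_of_eq
      apply Cfsg.Agent.Lib.Helper10.SigmaJsubA.eq_of_card_eq_of_le_cyclic hcyc _ hXT
        (card_conjSub _ _)
      rw [← hwTeq]
      exact conjSub_mono hXT
    have hwN : d * n ∈ Subgroup.normalizer (S : Set G) := Subgroup.mul_mem _ (hDN hd) hn
    have hwM : d * n ∈ M := hNM hwN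
    have hw : d * n ∈ K ⊔ (Cfsg.sigmaCore M ⊓ Subgroup.centralizer (K : Set G)) := by
      rw [← hNX]
      exact ⟨hwM, hwX⟩
    obtain ⟨k, hk, z, hz, hkz⟩ := Cfsg.Agent.Lib.Helper11.ExcF.exists_mul_of_mem_sup K _
      (inf_le_right.trans (Subgroup.centralizer_le_normalizer _)) _ hw
    have hzN : z ∈ Subgroup.normalizer (S : Set G) := by
      have : z = k⁻¹ * (d * n) := by rw [hkz]; group
      rw [this]
      exact Subgroup.mul_mem _ (Subgroup.inv_mem _ (hKS hk)) hwN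
    have hzC : z ∈ Subgroup.centralizer (S : Set G) := hσC z hz.1 hzN
    have hn' : n = d⁻¹ * (k * z) := by rw [← hkz]; group
    rw [hn']
    exact Subgroup.mul_mem _ (Subgroup.inv_mem _ (hDZ hd))
      (Subgroup.mul_mem _ (hKZ hk) (hCZ hzC))
  -- Burnside
  have hidx : ¬ q ∣ S.index := by
    have := hStop.not_dvd
    rwa [Subgroup.relIndex_top_right] at this
  obtain ⟨P, hP⟩ : ∃ P : Sylow q G, (P : Subgroup G) = S := ⟨hStop.isPGroup.toSylow hidx, rfl⟩
  have hPc : IsMulCommutative P := by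
    refine ⟨⟨?_⟩⟩
    rintro ⟨a, ha⟩ ⟨b, hb⟩
    apply Subtype.ext
    have ha' : a ∈ S := hP ▸ ha
    have hb' : b ∈ S := hP ▸ hb
    exact hSc a ha' b hb'
  obtain ⟨h1, -⟩ := Cfsg.Agent.Lib.Helper1.sylow_abelian_decomposition P hPc
  have hfoc := Subgroup.commutator_inf_eq_focalSubgroup P
  rw [Cfsg.Agent.Lib.Helper11.BenderN.commutator_eq_top hG, top_inf_eq] at hfoc
  rw [← hfoc, hP] at h1
  apply hQ1
  rw [eq_bot_iff, ← h1]
  refine le_inf (le_inf hQS ?_) hQS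
  intro y hy
  rw [Subgroup.mem_centralizer_iff]
  intro n hn
  exact ((Subgroup.mem_centralizer_iff.mp (hmain hn)) y hy).symm

/-- Sylow subgroups of `M_σ` are Sylow in `M` and in `G`, with normalizer in `M` -/
theorem good_of_sylow_sigmaCore [Finite G] (hG : Cfsg.IsMinSimpleOddOrder G) {M : Subgroup G}
    (hM : IsCoatom M) {q : ℕ} [hq : Fact q.Prime] {S : Subgroup G}
    (hS : IsSylowIn q S (Cfsg.sigmaCore M)) (hS1 : S ≠ ⊥) :
    q ∈ Cfsg.sigma M ∧ Cfsg.Agent.Lib.Helper11.BenderM.Good M q S := by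
  have hσM := sigmaCore_le M
  have hqS : q ∣ Nat.card S := by
    obtain ⟨k, hk⟩ := IsPGroup.iff_card.mp hS.isPGroup
    have hk0 : k ≠ 0 := by
      rintro rfl
      rw [pow_zero] at hk
      exact hS1 (Subgroup.card_eq_one.mp hk)
    rw [hk]
    exact dvd_pow_self q hk0
  have hqσ : q ∈ Cfsg.sigma M :=
    prime_sigmaCore hG hM hq.out (hqS.trans (Subgroup.card_dvd_of_le hS.le))
  obtain ⟨hσhall, -, -⟩ := Cfsg.Agent.Lib.Helper11.BenderO.sigma_hall hG M hM
  have hSM : IsSylowIn q S M := by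
    refine ⟨hS.le.trans hσM, hS.isPGroup, ?_⟩
    rw [← Subgroup.relIndex_mul_relIndex _ _ _ hS.le hσM]
    intro hd
    rcases (Nat.Prime.dvd_mul hq.out).mp hd with h | h
    · exact hS.not_dvd h
    · exact hσhall.2.2 q hq.out hqσ h
  obtain ⟨S₀, hS₀⟩ := Cfsg.Agent.Lib.Helper11.BenderM.exists_good_of_sigma M q hqσ
  obtain ⟨m, hmM, hle⟩ := hSM.exists_conj_le hS₀.1.le hS₀.1.isPGroup
  have heq : conjSub m S₀ = S := by
    apply Subgroup.eq_of_le_of_card_ge hle
    rw [card_conjSub]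
    exact (hSM.card_eq hS₀.1).le
  exact ⟨hqσ, heq ▸ Cfsg.Agent.Lib.Helper11.BenderM.good_conj hS₀ hmM⟩

/-- **B & G, Corollary 14.3(c)** in the form of the third clause of S1431, from the normalizer
clause of Theorem 14.2 (S1430) -/
theorem fourteen_three_c [Finite G] (hG : Cfsg.IsMinSimpleOddOrder G) {M K : Subgroup G}
    (hM : IsCoatom M) (hK : Cfsg.IsPiHallOf (Cfsg.kappa M) K M) (hK1 : K ≠ ⊥)
    (hN : ∀ X : Subgroup G, X ≤ K → (Nat.card X).Prime →
      M ⊓ Subgroup.normalizer (X : Set G) =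
        K ⊔ (Cfsg.sigmaCore M ⊓ Subgroup.centralizer (K : Set G)))
    (p : ℕ) (hp : p.Prime)
    (hpd : p ∣ Nat.card ↥(Cfsg.sigmaCore M ⊓ Subgroup.centralizer (K : Set G)))
    (S : Sylow p ↥(Cfsg.sigmaCore M)) :
    Cfsg.InUniqueMaximal ((S : Subgroup ↥(Cfsg.sigmaCore M)).map (Cfsg.sigmaCore M).subtype) ∧
      (S : Subgroup ↥(Cfsg.sigmaCore M)).map (Cfsg.sigmaCore M).subtype ≤ M ∧
      ¬ (S : Subgroup ↥(Cfsg.sigmaCore M)).map (Cfsg.sigmaCore M).subtype ≤
        (Cfsg.sigmaCore M ⊓ Subgroup.centralizer (K : Set G)) := by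
  classical
  haveI : Fact p.Prime := ⟨hp⟩
  haveI : IsSimpleGroup G := hG.2.1
  have hσM := sigmaCore_le M
  obtain ⟨S₁, hS₁def⟩ : ∃ S₁ : Subgroup G,
      S₁ = (S : Subgroup ↥(Cfsg.sigmaCore M)).map (Cfsg.sigmaCore M).subtype := ⟨_, rfl⟩
  rw [← hS₁def]
  have hS₁ : IsSylowIn p S₁ (Cfsg.sigmaCore M) := hS₁def ▸ isSylowIn_of_sylow S
  obtain ⟨Ks, hKsdef⟩ : ∃ Ks : Subgroup G,
      Ks = Cfsg.sigmaCore M ⊓ Subgroup.centralizer (K : Set G) := ⟨_, rfl⟩
  rw [← hKsdef] at hpd ⊢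
  have hKsσ : Ks ≤ Cfsg.sigmaCore M := hKsdef ▸ inf_le_left
  have hKsC : Ks ≤ Subgroup.centralizer (K : Set G) := hKsdef ▸ inf_le_right
  -- a subgroup `Q ≤ K*` of order `p`
  obtain ⟨y, hy⟩ := exists_prime_orderOf_dvd_card' (G := ↥Ks) p hpd
  obtain ⟨Q, hQdef⟩ : ∃ Q : Subgroup G, Q = Subgroup.zpowers (y : G) := ⟨_, rfl⟩
  have hQc : Nat.card Q = p := by
    rw [hQdef, Nat.card_zpowers, Subgroup.orderOf_coe, hy]
  have hQKs : Q ≤ Ks := by
    rw [hQdef, Subgroup.zpowers_le]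
    exact y.2
  have hQ1 : Q ≠ ⊥ := ne_bot_of_card_prime' hp hQc
  have hQp : IsPGroup p Q := IsPGroup.of_card (n := 1) (by rw [hQc, pow_one])
  have hQK : Q ≤ Subgroup.centralizer (K : Set G) := hQKs.trans hKsC
  have hKQ : K ≤ Subgroup.normalizer (Q : Set G) := by
    refine le_trans ?_ (Subgroup.centralizer_le_normalizer _)
    intro k hk
    rw [Subgroup.mem_centralizer_iff]
    intro z hz
    exact ((Subgroup.mem_centralizer_iff.mp (hQK hz)) k hk).symm
  -- `S₁ ≠ ⊥`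
  have hS₁1 : S₁ ≠ ⊥ := by
    intro h
    obtain ⟨m, -, hle⟩ := hS₁.exists_conj_le (hQKs.trans hKsσ) hQp
    rw [h, le_bot_iff] at hle
    apply hQ1
    rw [← Subgroup.card_eq_one] at hle ⊢
    rw [card_conjSub] at hle
    exact hle
  obtain ⟨hpσ, hgood⟩ := good_of_sylow_sigmaCore hG hM hS₁ hS₁1
  have hpM : p ∣ Nat.card M := hpσ.2.1
  have hp2 : p ≠ 2 := Cfsg.Agent.Lib.Helper1.BG10.prime_ne_two hG p M hpM
  -- coprimality of `K` and `M_σ`
  have hcop : (Nat.card K).Coprime (Nat.card (Cfsg.sigmaCore M)) := by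
    apply Nat.coprime_of_dvd
    intro r hr hrK hrσ
    exact (hK.2.1 r hr hrK).2.2.1 (prime_sigmaCore hG hM hr hrσ)
  have hKsol : Group.IsSolvable ↥K := by
    haveI := Cfsg.Agent.Lib.Helper11.MaxSubB.coatom_solvable hG M hM
    exact solvable_of_solvable_injective (Subgroup.inclusion_injective hK.1)
  -- (c0)
  have hc0 : (∀ a ∈ S₁, ∀ b ∈ S₁, a * b = b * a) → Cfsg.PRankLE p 2 ↥S₁ → False := by
    intro hSc hSr
    obtain ⟨S₂, hS₂, hKS₂, hQS₂⟩ := Cfsg.Agent.Lib.Helper11.BenderP.exists_inv_sylow_ge K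
      (Cfsg.sigmaCore M) (hK.1.trans (le_normalizer_sigmaCore M)) hcop hKsol p Q
      (hQKs.trans hKsσ) hQp hKQ
    obtain ⟨m, -, hle⟩ := hS₁.exists_conj_le hS₂.le hS₂.isPGroup
    have heq : conjSub m S₂ = S₁ := by
      apply Subgroup.eq_of_le_of_card_ge hle
      rw [card_conjSub]
      exact (hS₁.card_eq hS₂).le
    have heq' : S₂ = conjSub m⁻¹ S₁ := by
      rw [← heq, conjSub_mul, inv_mul_cancel, conjSub_one]
    have hSr₂ : Cfsg.PRankLE p 2 ↥S₂ :=
      heq' ▸ Cfsg.Agent.Lib.Helper10.ThirteenTwo.pRankLE_conjSub m⁻¹ hSr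
    have hSc₂ : ∀ a ∈ S₂, ∀ b ∈ S₂, a * b = b * a := by
      intro a ha b hb
      rw [heq', mem_conjSub] at ha hb
      have h := hSc _ ha _ hb
      have e1 : a * b = m⁻¹ * (((m⁻¹)⁻¹ * a * m⁻¹) * ((m⁻¹)⁻¹ * b * m⁻¹)) * (m⁻¹)⁻¹ := by group
      have e2 : b * a = m⁻¹ * (((m⁻¹)⁻¹ * b * m⁻¹) * ((m⁻¹)⁻¹ * a * m⁻¹)) * (m⁻¹)⁻¹ := by group
      rw [e1, e2, h]
    exact fourteen_three_core hG hM hK hK1 hN hS₂ hKS₂ hQS₂ hQ1 hQK hSc₂ hSr₂
  have hS₁M : S₁ ≤ M := hS₁.le.trans hσM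
  refine ⟨?_, hS₁M, ?_⟩
  · -- uniqueness
    by_cases hab : IsMulCommutative S₁
    · have hSc : ∀ a ∈ S₁, ∀ b ∈ S₁, a * b = b * a := by
        intro a ha b hb
        have := hab.is_comm.comm ⟨a, ha⟩ ⟨b, hb⟩
        exact congrArg Subtype.val this
      have hr2 : ¬ Cfsg.PRankLE p 2 ↥S₁ := fun h => hc0 hSc h
      apply Cfsg.Agent.S1403.result hG S₁ (fun h => hM.1 (top_le_iff.mp (h ▸ hS₁M)))
      · intro h
        apply hr2
        intro A hA hAp
        calc Nat.card A ≤ p ^ 1 := h p hp A hA hAp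
          _ ≤ p ^ 2 := Nat.pow_le_pow_right hp.pos (by norm_num)
      · left
        intro h
        exact hr2 (h p hp)
    · exact Cfsg.Agent.S1422.result hG p S₁ hS₁.isPGroup hab
  · -- `S₁ ≰ K*`
    intro hle
    -- a subgroup `X ≤ K` of prime order
    obtain ⟨r, hr, hrK⟩ := Nat.exists_prime_and_dvd
      (show Nat.card K ≠ 1 from fun h => hK1 (Subgroup.card_eq_one.mp h))
    haveI : Fact r.Prime := ⟨hr⟩
    have hrκ : r ∈ Cfsg.kappa M := hK.2.1 r hr hrK
    obtain ⟨x, hx⟩ := exists_prime_orderOf_dvd_card' (G := ↥K) r hrK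
    obtain ⟨X, hXdef⟩ : ∃ X : Subgroup G, X = Subgroup.zpowers (x : G) := ⟨_, rfl⟩
    have hXc : Nat.card X = r := by
      rw [hXdef, Nat.card_zpowers, Subgroup.orderOf_coe, hx]
    have hXK : X ≤ K := by
      rw [hXdef, Subgroup.zpowers_le]
      exact x.2
    have hX1 : X ≠ ⊥ := ne_bot_of_card_prime' hr hXc
    have hXM : X ≤ M := hXK.trans hK.1
    have hXtop : X ≠ ⊤ := fun h => hM.1 (top_le_iff.mp (h ▸ hXM))
    obtain ⟨H, hH, hNX⟩ := Cfsg.Agent.Lib.Helper11.BenderE.exists_coatom_ge _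
      (Cfsg.Agent.Lib.Helper11.normalizer_ne_top_of_simple hX1 hXtop)
    have hr1 : Cfsg.PRankLE r 1 ↥M := by
      obtain ⟨R⟩ : Nonempty (Sylow r M) := inferInstance
      apply pRankLE_one_of_cyclic_sylow (isSylowIn_of_sylow R)
      exact (MulEquiv.isCyclic ((R : Subgroup M).equivMapOfInjective M.subtype
        M.subtype_injective)).mp (hrκ.2.2.2 R).1
    have hCKX : Subgroup.centralizer (K : Set G) ≤ Subgroup.centralizer (X : Set G) :=
      Subgroup.centralizer_le hXK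
    have hKX : Cfsg.sigmaCore M ⊓ Subgroup.centralizer (X : Set G) ≠ ⊥ := by
      intro h
      apply hQ1
      rw [eq_bot_iff, ← h]
      exact le_inf (hQKs.trans hKsσ) (hQK.trans hCKX)
    obtain ⟨hnc, -, -⟩ := Cfsg.Agent.Lib.Helper21.BG13t.le_sigmaCore_of_normalizer_le hG hM hH
      hrκ.2.2.1 hr1 hXc hXM hNX hKX
    have hpσH : p ∉ Cfsg.sigma H :=
      Cfsg.Agent.Lib.Helper21.BG13z.not_sigma_of_nonconj hG hM hH hnc hpσ
    have hS₁H : S₁ ≤ H :=
      ((hle.trans hKsC).trans hCKX).trans ((Subgroup.centralizer_le_normalizer _).trans hNX)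
    have hS₁SH : IsSylowIn p S₁ H := hgood.2.2.of_le hS₁H le_top
    have hr2H : Cfsg.PRankLE p 2 ↥H := by
      by_contra h
      exact hpσH (Cfsg.Agent.Lib.Helper11.BenderN.alpha_sub_sigma hG H hH p ⟨hp, h⟩)
    have hSr : Cfsg.PRankLE p 2 ↥S₁ := Cfsg.Agent.Lib.Helper1.BG12.pRankLE_of_le hS₁H hr2H
    apply hc0 _ hSr
    by_cases hr1H : Cfsg.PRankLE p 1 ↥H
    · have hcyc : IsCyclic ↥S₁ :=
        Cfsg.Agent.Lib.Helper11.BenderQ.isCyclic_of_pRankLE_one p hp2 hS₁.isPGroup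
          (Cfsg.Agent.Lib.Helper1.BG12.pRankLE_of_le hS₁H hr1H)
      intro a ha b hb
      have := hcyc.isMulCommutative.is_comm.comm ⟨a, ha⟩ ⟨b, hb⟩
      exact congrArg Subtype.val this
    · have hpτ : p ∈ Cfsg.tau2 H := ⟨hp, hpσH, hr2H, hr1H⟩
      obtain ⟨A, hAH, hAe, hAc⟩ :=
        Cfsg.Agent.Lib.Helper1.BG10.exists_elemAb_sq_of_not_pRankLE_one p H hr1H
      obtain ⟨P, hP⟩ := hS₁SH.exists_sylow
      have hPc := ((Cfsg.Agent.S1417.result hG H hH p hpτ A ⟨hAH, hAe, hAc⟩).2.1 P).1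
      intro a ha b hb
      have haP : (⟨a, hS₁H ha⟩ : ↥H) ∈ (P : Subgroup ↥H) := by
        rw [hP]; exact Subgroup.mem_subgroupOf.mpr ha
      have hbP : (⟨b, hS₁H hb⟩ : ↥H) ∈ (P : Subgroup ↥H) := by
        rw [hP]; exact Subgroup.mem_subgroupOf.mpr hb
      have := hPc.is_comm.comm ⟨_, haP⟩ ⟨_, hbP⟩
      have h2 := congrArg Subtype.val this
      exact congrArg Subtype.val h2

end Cfsg.Agent.Lib.Helper28.BGt
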