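import Mathlib
import Cfsg.Prelude.Def_OddOrderLocal
import Cfsg.Agent.S1351
import Cfsg.Agent.S1365
import Cfsg.Agent.S1378
import Cfsg.Agent.S1430
import Cfsg.Agent.S1431
import Cfsg.Agent.Lib.Helper11.KappaTauFinal
import Cfsg.Agent.Lib.Helper13.BG14Z
import Cfsg.Agent.Lib.Helper18.KStarF
import Cfsg.Agent.Lib.Helper28.BGtV

set_option autoImplicit false

/-! B&G Theorem 14.7 (b),(c),(d) given the partner `M*` — helper28 (S1434). -/

namespace Cfsg.Agent.Lib.Helper28.BGt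

open Cfsg Cfsg.Agent.Lib.Helper18 Cfsg.Agent.Lib.Helper1.BG14 Cfsg.Agent.Lib.Helper1.BG12b

variable {G : Type*} [Group G] [Finite G]

/-- `κ(M) = τ₁(M)` when `K ≠ 1` -/
theorem kappa_eq_tau1 (hG : Cfsg.IsMinSimpleOddOrder G) {M K U : Subgroup G}
    (hM : IsCoatom M) (hKU : Cfsg.IsSigmaDecomposition M K U) (hK1 : K ≠ ⊥) :
    Cfsg.kappa M = Cfsg.tau1 M := by
  ext p
  constructor
  · exact Cfsg.Agent.Lib.Helper11.KappaTauFinal.kappa_sub_tau1 hG hM p
  · intro hp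
    by_contra hκ
    have hpp : p.Prime := hp.1
    have hD := (Cfsg.Agent.S1365.result hG M hM K U hKU hK1).1
    have hK := hKU.hall
    have hKs : K ⊓ Cfsg.sigmaCore M = ⊥ :=
      Cfsg.Agent.Lib.Helper1.BG15.kappa_inf_sigmaCore hG hM hK.2.1
    have h1 := Cfsg.Agent.Lib.Helper1.BG15.card_of_isComplIn hKU.compl
    have h2 : Nat.card (K ⊔ Cfsg.sigmaCore M : Subgroup G) =
        Nat.card K * Nat.card (Cfsg.sigmaCore M) :=
      card_sup_of_inf_eq_bot (hK.1.trans (le_normalizer_sigmaCore M)) hKs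
    rw [h2] at h1
    have h3 : p ∣ Nat.card U * (Nat.card K * Nat.card (Cfsg.sigmaCore M)) := by
      rw [← h1]; exact hp.2.2.1
    have hpU : p ∣ Nat.card U := by
      rcases (Nat.Prime.dvd_mul hpp).mp h3 with h | h
      · exact h
      · exfalso
        rcases (Nat.Prime.dvd_mul hpp).mp h with h | h
        · exact hκ (hK.2.1 p hpp h)
        · exact hp.2.1 (prime_sigmaCore hG hM hpp h)
    apply hp.2.2.2.1
    have hUD : U ≤ ⁅M, M⁆ := by rw [hD]; exact le_sup_left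
    exact hpU.trans (Subgroup.card_dvd_of_le hUD)

/-- `M_σ ∩ M* = K*` -/
theorem sigmaCore_inf_partner (hG : Cfsg.IsMinSimpleOddOrder G) {M K Mstar : Subgroup G}
    (hM : IsCoatom M) (hK : Cfsg.IsPiHallOf (Cfsg.kappa M) K M) (hK1 : K ≠ ⊥)
    (hMstar : IsCoatom Mstar)
    (hKst : K = Cfsg.sigmaCore Mstar ⊓ Subgroup.centralizer
      ((Cfsg.sigmaCore M ⊓ Subgroup.centralizer (K : Set G)) : Set G))
    (hKstH : Cfsg.IsPiHallOf (Cfsg.kappa Mstar)
      (Cfsg.sigmaCore M ⊓ Subgroup.centralizer (K : Set G)) Mstar) :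
    Cfsg.sigmaCore M ⊓ Mstar = Cfsg.sigmaCore M ⊓ Subgroup.centralizer (K : Set G) := by
  have hKs1 : Cfsg.sigmaCore M ⊓ Subgroup.centralizer (K : Set G) ≠ ⊥ :=
    Cfsg.Agent.Lib.Helper13.BG14.bg14_kstar_ne_bot hG hM hK hK1
  obtain ⟨k, hkK, hk1⟩ := exists_ne_one_of_ne_bot' hK1
  obtain ⟨p, hp, -, hpo⟩ := Cfsg.Agent.Lib.Helper18.KStar.exists_prime_pow hk1
  haveI : Fact p.Prime := ⟨hp⟩
  set x := k ^ (orderOf k / p) with hx
  have hxK : x ∈ K := K.pow_mem hkK _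
  have hx1 : x ≠ 1 := by
    intro h
    rw [h, orderOf_one] at hpo
    exact hp.one_lt.ne hpo
  have hXc : Nat.card (Subgroup.zpowers x) = p := by rw [Nat.card_zpowers, hpo]
  have hXK : Subgroup.zpowers x ≤ K := Subgroup.zpowers_le.mpr hxK
  have hpκ : p ∈ Cfsg.kappa M :=
    hK.2.1 p hp (by rw [← hXc]; exact Subgroup.card_dvd_of_le hXK)
  have hN : Subgroup.normalizer ((Subgroup.zpowers x : Subgroup G) : Set G) ≤ Mstar :=
    Cfsg.Agent.Lib.Helper18.KStar.normalizer_le_of_le_kstar hG hMstar hKstH hKs1 hXc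
      (le_of_le_of_eq hXK hKst)
  have hpg : IsPGroup p (Subgroup.zpowers x) := IsPGroup.of_card (n := 1) (by rw [hXc, pow_one])
  have hX1 : Subgroup.zpowers x ≠ ⊥ := by
    intro h
    rw [h, Subgroup.card_bot] at hXc
    exact hp.one_lt.ne hXc
  have h1 := Cfsg.Agent.Lib.Helper10.ThirteenTwo.inf_eq_cent hG hM hMstar hpκ.2.2.1
    (kappa_pRankLE_one hpκ) hpg hX1 (hXK.trans hK.1) hN
  rw [h1, centralizer_zpowers_eq]
  exact (Cfsg.Agent.S1430.result hG M hM K hK hK1).1 x hxK hx1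


/-- the `p`-torsion of an abelian subgroup -/
def omegaOf (p : ℕ) (A : Subgroup G) (hA : IsMulCommutative A) : Subgroup G where
  carrier := {u | u ∈ A ∧ u ^ p = 1}
  one_mem' := ⟨A.one_mem, one_pow p⟩
  mul_mem' := by
    rintro u v ⟨hu, hup⟩ ⟨hv, hvp⟩
    refine ⟨A.mul_mem hu hv, ?_⟩
    have hc : Commute u v := by
      have := hA.is_comm.comm (⟨u, hu⟩ : A) ⟨v, hv⟩
      exact congrArg Subtype.val this
    rw [hc.mul_pow, hup, hvp, one_mul]
  inv_mem' := by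
    rintro u ⟨hu, hup⟩
    exact ⟨A.inv_mem hu, by rw [inv_pow, hup, inv_one]⟩

omit [Finite G] in
theorem mem_omegaOf {p : ℕ} {A : Subgroup G} {hA : IsMulCommutative A} {u : G} :
    u ∈ omegaOf p A hA ↔ u ∈ A ∧ u ^ p = 1 := Iff.rfl

/-- `K*` is a Hall `σ(M)`-subgroup of `M*` -/
theorem kstar_sigma_hall (hG : Cfsg.IsMinSimpleOddOrder G) {M K Mstar : Subgroup G}
    (hM : IsCoatom M) (hK : Cfsg.IsPiHallOf (Cfsg.kappa M) K M) (hK1 : K ≠ ⊥)
    (hMstar : IsCoatom Mstar)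
    (hKst : K = Cfsg.sigmaCore Mstar ⊓ Subgroup.centralizer
      ((Cfsg.sigmaCore M ⊓ Subgroup.centralizer (K : Set G)) : Set G))
    (hKstH : Cfsg.IsPiHallOf (Cfsg.kappa Mstar)
      (Cfsg.sigmaCore M ⊓ Subgroup.centralizer (K : Set G)) Mstar) :
    Cfsg.IsPiHallOf (Cfsg.sigma M)
      (Cfsg.sigmaCore M ⊓ Subgroup.centralizer (K : Set G)) Mstar := by
  have hKs1 : Cfsg.sigmaCore M ⊓ Subgroup.centralizer (K : Set G) ≠ ⊥ :=
    Cfsg.Agent.Lib.Helper13.BG14.bg14_kstar_ne_bot hG hM hK hK1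
  refine ⟨hKstH.1, ?_, ?_⟩
  · intro p hp hpd
    exact prime_sigmaCore hG hM hp (hpd.trans (Subgroup.card_dvd_of_le inf_le_left))
  · intro p hp hpσ hpd
    haveI : Fact p.Prime := ⟨hp⟩
    have hpκ : p ∉ Cfsg.kappa Mstar := fun h => hKstH.2.2 p hp h hpd
    have hpσs : p ∉ Cfsg.sigma Mstar := by
      intro h
      obtain ⟨g, hg⟩ := (Cfsg.Agent.S1378.result hG).2 M Mstar hM hMstar ⟨p, hpσ, h⟩
      obtain ⟨r, R, hr, hRK, hRc⟩ := Cfsg.Agent.Lib.Helper18.KStar.exists_prime_card_le hK1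
      have hrκ : r ∈ Cfsg.kappa M :=
        hK.2.1 r hr (by rw [← hRc]; exact Subgroup.card_dvd_of_le hRK)
      have hKσ : K ≤ Cfsg.sigmaCore Mstar := by
        rw [hKst]; exact inf_le_left
      have hrσs : r ∈ Cfsg.sigma Mstar :=
        prime_sigmaCore hG hMstar hr
          (by rw [← hRc]; exact Subgroup.card_dvd_of_le (hRK.trans hKσ))
      rw [hg] at hrσs
      have h2 := Cfsg.Agent.Lib.Helper1.BG12.sigma_conjSub _ r hrσs g⁻¹
      rw [conjSub_mul, inv_mul_cancel, conjSub_one] at h2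
      exact hrκ.2.2.1 h2
    have hpMs : p ∣ Nat.card Mstar := hpd.trans (Subgroup.relIndex_dvd_card _ _)
    obtain ⟨Us, hUsc, hUsH, hKN, hreg⟩ :=
      (Cfsg.Agent.S1430.result hG Mstar hMstar _ hKstH hKs1).2.1
    have hpUs : p ∣ Nat.card Us := by
      have h1 := Cfsg.Agent.Lib.Helper1.BG12.card_mul_relIndex_of_le hUsH.1
      rw [← h1] at hpMs
      rcases (Nat.Prime.dvd_mul hp).mp hpMs with h | h
      · exact h
      · exact absurd h (hUsH.2.2 p hp ⟨hp, hpκ, hpσs⟩)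
    obtain ⟨⟨u₀, hu₀U⟩, hu₀⟩ := exists_prime_orderOf_dvd_card' p hpUs
    have hu₀o : orderOf u₀ = p := by
      rw [← hu₀, ← Subgroup.orderOf_coe]
    have hu₀p : u₀ ^ p = 1 := by rw [← hu₀o]; exact pow_orderOf_eq_one u₀
    have hu₀1 : u₀ ≠ 1 := by
      intro h
      rw [h, orderOf_one] at hu₀o
      exact hp.one_lt.ne hu₀o
    set Ω := omegaOf p Us hUsc with hΩ
    have hu₀Ω : u₀ ∈ Ω := ⟨hu₀U, hu₀p⟩
    -- a subgroup of prime order of `K*`
    obtain ⟨y₀, hy₀K, hy₀1⟩ := exists_ne_one_of_ne_bot' hKs1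
    obtain ⟨q, hq, -, hqo⟩ := Cfsg.Agent.Lib.Helper18.KStar.exists_prime_pow hy₀1
    set y := y₀ ^ (orderOf y₀ / q) with hy
    have hyK : y ∈ Cfsg.sigmaCore M ⊓ Subgroup.centralizer (K : Set G) :=
      Subgroup.pow_mem _ hy₀K _
    have hy1 : y ≠ 1 := by
      intro h
      rw [h, orderOf_one] at hqo
      exact hq.one_lt.ne hqo
    have hXc : Nat.card (Subgroup.zpowers y) = q := by rw [Nat.card_zpowers, hqo]
    have hXK : Subgroup.zpowers y ≤ Cfsg.sigmaCore M ⊓ Subgroup.centralizer (K : Set G) :=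
      Subgroup.zpowers_le.mpr hyK
    have hqσ : q ∈ Cfsg.sigma M :=
      prime_sigmaCore hG hM hq
        (by rw [← hXc]; exact Subgroup.card_dvd_of_le (hXK.trans inf_le_left))
    -- `K*` normalizes `Ω`
    have hNΩ : Cfsg.sigmaCore M ⊓ Subgroup.centralizer (K : Set G) ≤
        Subgroup.normalizer (Ω : Set G) := by
      intro c hc
      apply mem_normalizer_of_conjSub_le
      intro v hv
      rw [mem_conjSub] at hv
      obtain ⟨hvU, hvp⟩ := hv
      have hcU := conj_mem_of_le_normalizer hKN hc hvU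
      have e : c * (c⁻¹ * v * c) * c⁻¹ = v := by group
      rw [e] at hcU
      refine ⟨hcU, ?_⟩
      have e2 : v = c * (c⁻¹ * v * c) * c⁻¹ := e.symm
      rw [e2, conj_pow, hvp, mul_one, mul_inv_cancel]
    -- the group `Y = X* Ω`
    set Y := Subgroup.zpowers y ⊔ Ω with hYdef
    have hcardY := card_sup_of_le_normalizer (hXK.trans hNΩ)
    have hΩp : IsPGroup p Ω := by
      rintro ⟨v, hv⟩
      refine ⟨1, ?_⟩
      apply Subtype.ext
      rw [pow_one, Subgroup.coe_pow]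
      exact hv.2
    obtain ⟨n, hn⟩ := IsPGroup.iff_card.mp hΩp
    have hYσ : ∀ r : ℕ, r.Prime → r ∣ Nat.card Y → r ∈ Cfsg.sigma M := by
      intro r hr hrd
      rw [hYdef, hcardY, hXc] at hrd
      rcases (Nat.Prime.dvd_mul hr).mp hrd with h | h
      · rw [(Nat.prime_dvd_prime_iff_eq hr hq).mp h]; exact hqσ
      · have h2 : r ∣ p ^ n := by
          rw [← hn]; exact h.trans (Subgroup.relIndex_dvd_card _ _)
        rw [(Nat.prime_dvd_prime_iff_eq hr hp).mp (hr.dvd_of_dvd_pow h2)]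
        exact hpσ
    have hYK : Y ⊓ (Cfsg.sigmaCore M ⊓ Subgroup.centralizer (K : Set G)) ≠ ⊥ := by
      intro h
      have : y ∈ Y ⊓ (Cfsg.sigmaCore M ⊓ Subgroup.centralizer (K : Set G)) :=
        Subgroup.mem_inf.mpr ⟨Subgroup.mem_sup_left (Subgroup.mem_zpowers y), hyK⟩
      rw [h, Subgroup.mem_bot] at this
      exact hy1 this
    have hYle : Y ≤ Cfsg.sigmaCore M :=
      Cfsg.Agent.Lib.Helper18.KStar.clause_four hG hM hK hK1 Y hYσ hYK
    have hu₀σ : u₀ ∈ Cfsg.sigmaCore M := hYle (Subgroup.mem_sup_right hu₀Ω)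
    have hu₀Ks : u₀ ∈ Cfsg.sigmaCore M ⊓ Subgroup.centralizer (K : Set G) := by
      rw [← sigmaCore_inf_partner hG hM hK hK1 hMstar hKst hKstH]
      exact Subgroup.mem_inf.mpr ⟨hu₀σ, hUsH.1 hu₀U⟩
    apply hpκ
    apply hKstH.2.1 p hp
    rw [← hu₀o]
    exact Subgroup.orderOf_dvd_natCard _ hu₀Ks


omit [Finite G] in
theorem commute_of_isCyclic {H : Subgroup G} (hH : IsCyclic H) {a b : G} (ha : a ∈ H)
    (hb : b ∈ H) : a * b = b * a := by
  haveI := hH
  have := (IsCyclic.isMulCommutative (α := H)).is_comm.comm ⟨a, ha⟩ ⟨b, hb⟩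
  exact congrArg Subtype.val this

omit [Finite G] in
theorem centralizer_singleton_mono_pow (y : G) (n : ℕ) :
    Subgroup.centralizer ({y} : Set G) ≤ Subgroup.centralizer ({y ^ n} : Set G) := by
  intro c hc
  rw [Subgroup.mem_centralizer_iff] at hc ⊢
  intro b hb
  rw [Set.mem_singleton_iff] at hb
  rw [hb]
  have h0 : Commute y c := hc y (Set.mem_singleton y)
  exact (h0.pow_left n).eq

omit [Finite G] in
theorem mem_centralizer_singleton_iff {c y : G} :
    c ∈ Subgroup.centralizer ({y} : Set G) ↔ y * c = c * y := by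
  rw [Subgroup.mem_centralizer_iff]
  constructor
  · intro h; exact h y (Set.mem_singleton y)
  · intro h b hb
    rw [Set.mem_singleton_iff] at hb
    rw [hb]; exact h

/-- B&G 14.7(c): the centralizers. -/
theorem cent_eq_Z (hG : Cfsg.IsMinSimpleOddOrder G) {M K Mstar : Subgroup G}
    (hM : IsCoatom M) (hK : Cfsg.IsPiHallOf (Cfsg.kappa M) K M) (hKc : IsCyclic K)
    (hK1 : K ≠ ⊥) (hMstar : IsCoatom Mstar)
    (hKst : K = Cfsg.sigmaCore Mstar ⊓ Subgroup.centralizer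
      ((Cfsg.sigmaCore M ⊓ Subgroup.centralizer (K : Set G)) : Set G))
    (hKstH : Cfsg.IsPiHallOf (Cfsg.kappa Mstar)
      (Cfsg.sigmaCore M ⊓ Subgroup.centralizer (K : Set G)) Mstar)
    {x : G} (hx : x ∈ K) (hx1 : x ≠ 1) {y : G}
    (hy : y ∈ Cfsg.sigmaCore M ⊓ Subgroup.centralizer (K : Set G)) (hy1 : y ≠ 1) :
    M ⊓ Subgroup.centralizer ({x} : Set G) =
        K ⊔ (Cfsg.sigmaCore M ⊓ Subgroup.centralizer (K : Set G)) ∧
      Mstar ⊓ Subgroup.centralizer ({y} : Set G) =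
        K ⊔ (Cfsg.sigmaCore M ⊓ Subgroup.centralizer (K : Set G)) ∧
      Subgroup.centralizer ({x * y} : Set G) =
        K ⊔ (Cfsg.sigmaCore M ⊓ Subgroup.centralizer (K : Set G)) := by
  have hKs1 : Cfsg.sigmaCore M ⊓ Subgroup.centralizer (K : Set G) ≠ ⊥ :=
    Cfsg.Agent.Lib.Helper13.BG14.bg14_kstar_ne_bot hG hM hK hK1
  have hKsc : IsCyclic ↥(Cfsg.sigmaCore M ⊓ Subgroup.centralizer (K : Set G)) :=
    (Cfsg.Agent.S1351.result hG Mstar hMstar).2 _ hKstH
  -- elementwise commutation between `K` and `K*`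
  have hcomm : ∀ a ∈ K, ∀ b ∈ Cfsg.sigmaCore M ⊓ Subgroup.centralizer (K : Set G),
      a * b = b * a := fun a ha b hb =>
    Subgroup.mem_centralizer_iff.mp (Subgroup.mem_inf.mp hb).2 a ha
  have hKσ : K ≤ Cfsg.sigmaCore Mstar := by
    rw [hKst]; exact inf_le_left
  have hZM : K ⊔ (Cfsg.sigmaCore M ⊓ Subgroup.centralizer (K : Set G)) ≤ M :=
    sup_le hK.1 (inf_le_left.trans (sigmaCore_le M))
  have hZMs : K ⊔ (Cfsg.sigmaCore M ⊓ Subgroup.centralizer (K : Set G)) ≤ Mstar :=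
    sup_le (hKσ.trans (sigmaCore_le Mstar)) hKstH.1
  have hZx : K ⊔ (Cfsg.sigmaCore M ⊓ Subgroup.centralizer (K : Set G)) ≤
      Subgroup.centralizer ({x} : Set G) := by
    apply sup_le
    · intro a ha
      rw [mem_centralizer_singleton_iff]
      exact commute_of_isCyclic hKc hx ha
    · intro b hb
      rw [mem_centralizer_singleton_iff]
      exact hcomm x hx b hb
  have hZy : K ⊔ (Cfsg.sigmaCore M ⊓ Subgroup.centralizer (K : Set G)) ≤
      Subgroup.centralizer ({y} : Set G) := by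
    apply sup_le
    · intro a ha
      rw [mem_centralizer_singleton_iff]
      exact (hcomm a ha y hy).symm
    · intro b hb
      rw [mem_centralizer_singleton_iff]
      exact commute_of_isCyclic hKsc hy hb
  have h1 : M ⊓ Subgroup.centralizer ({x} : Set G) =
      K ⊔ (Cfsg.sigmaCore M ⊓ Subgroup.centralizer (K : Set G)) :=
    le_antisymm (inf_centralizer_le_sup hG hM hK hx hx1) (le_inf hZM hZx)
  have h2 : Mstar ⊓ Subgroup.centralizer ({y} : Set G) =
      K ⊔ (Cfsg.sigmaCore M ⊓ Subgroup.centralizer (K : Set G)) := by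
    apply le_antisymm _ (le_inf hZMs hZy)
    have := inf_centralizer_le_sup hG hMstar hKstH hy hy1
    have hKst' : K = Cfsg.sigmaCore Mstar ⊓ Subgroup.centralizer
        (((Cfsg.sigmaCore M ⊓ Subgroup.centralizer (K : Set G) : Subgroup G)) : Set G) := hKst
    rw [← hKst', sup_comm] at this
    exact this
  refine ⟨h1, h2, ?_⟩
  apply le_antisymm
  · -- `C(xy) ≤ C(x) ∩ C(y)`, `C(y) ≤ M`
    have hxy : Commute x y := hcomm x hx y hy
    have hcop : (orderOf x).Coprime (orderOf y) :=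
      Nat.Coprime.coprime_dvd_left (Subgroup.orderOf_dvd_natCard K hx)
        (Nat.Coprime.coprime_dvd_right (Subgroup.orderOf_dvd_natCard _ hy)
          (kstar_coprime hG hM hK.2.1))
    obtain ⟨m, hm⟩ := Cfsg.Agent.Lib.Helper13.BG14.bg14_exists_pow_eq_left hxy hcop
    obtain ⟨m', hm'⟩ := Cfsg.Agent.Lib.Helper13.BG14.bg14_exists_pow_eq_left hxy.symm hcop.symm
    rw [← hxy.eq] at hm'
    intro c hc
    have hcx : c ∈ Subgroup.centralizer ({x} : Set G) := by
      have := centralizer_singleton_mono_pow (x * y) m hc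
      rwa [hm] at this
    have hcy : c ∈ Subgroup.centralizer ({y} : Set G) := by
      have := centralizer_singleton_mono_pow (x * y) m' hc
      rwa [hm'] at this
    obtain ⟨n, hn1, hC⟩ := Cfsg.Agent.Lib.Helper18.KStar.centralizer_pow_le hG hM hK hK1 hy hy1
    have hcM : c ∈ M := hC (centralizer_singleton_mono_pow y n hcy)
    rw [← h1]
    exact Subgroup.mem_inf.mpr ⟨hcM, hcx⟩
  · intro c hc
    have hcx := hZx hc
    have hcy := hZy hc
    rw [mem_centralizer_singleton_iff] at hcx hcy ⊢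
    rw [mul_assoc, hcy, ← mul_assoc, hcx, mul_assoc]

/-- B&G 14.7(d): `Ẑ` misses the other conjugates of `M`. -/
theorem zhat_not_mem_conj (hG : Cfsg.IsMinSimpleOddOrder G) {M K : Subgroup G}
    (hM : IsCoatom M) (hK : Cfsg.IsPiHallOf (Cfsg.kappa M) K M)
    (hK1 : K ≠ ⊥) {g : G} (hg : g ∉ M) {z : G}
    (hz : z ∈ ((↑(K ⊔ (Cfsg.sigmaCore M ⊓ Subgroup.centralizer (K : Set G))) : Set G) \
      ((K : Set G) ∪ ↑(Cfsg.sigmaCore M ⊓ Subgroup.centralizer (K : Set G))))) :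
    z ∉ M.map (MulAut.conj g).toMonoidHom := by
  intro hzg
  obtain ⟨k, hk, s, hs, hk1, hs1, rfl, hks⟩ :=
    Cfsg.Agent.Lib.Helper13.BG14.bg14_zhat_decomp hz
  have hcop : (orderOf s).Coprime (orderOf k) :=
    (Nat.Coprime.coprime_dvd_left (Subgroup.orderOf_dvd_natCard K hk)
      (Nat.Coprime.coprime_dvd_right (Subgroup.orderOf_dvd_natCard _ hs)
        (kstar_coprime hG hM hK.2.1))).symm
  obtain ⟨m, hm⟩ := Cfsg.Agent.Lib.Helper13.BG14.bg14_exists_pow_eq_left hks.symm hcop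
  rw [← hks.eq] at hm
  have hsg : s ∈ M.map (MulAut.conj g).toMonoidHom := by
    rw [← hm]; exact Subgroup.pow_mem _ hzg m
  have h1 := Cfsg.Agent.Lib.Helper18.KStar.clause_one hG hM hK hK1 g hg
  have : s ∈ (Cfsg.sigmaCore M ⊓ Subgroup.centralizer (K : Set G)) ⊓
      M.map (MulAut.conj g).toMonoidHom := Subgroup.mem_inf.mpr ⟨hs, hsg⟩
  rw [h1, Subgroup.mem_bot] at this
  exact hs1 this

end Cfsg.Agent.Lib.Helper28.BGt
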