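import Mathlib
import Cfsg.Agent.Lib.helper7.REE.Defs
import Cfsg.Agent.S2429

/-!
# Project REE, shared lemmas for rows PB / PC (helper28): entries in `SL₂(K)`, `SO₂(K) = C(W)`,
and the conjugacy of `SO₂(K)` with the torus `T'` of the landed S2429.
-/

set_option autoImplicit false

namespace Cfsg.Agent.Lib.helper7.REE

open Matrix Polynomial Cfsg.Agent.Lib.helper8

universe u v

section PB0

variable {K : Type v} [Field K]

theorem reepb_mul_apply (a b : SpecialLinearGroup (Fin 2) K) (i j : Fin 2) :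
    (a * b) i j = a i 0 * b 0 j + a i 1 * b 1 j := by
  have : ((a * b : SpecialLinearGroup (Fin 2) K) : Matrix (Fin 2) (Fin 2) K) =
      (a : Matrix (Fin 2) (Fin 2) K) * (b : Matrix (Fin 2) (Fin 2) K) :=
    Matrix.SpecialLinearGroup.coe_mul a b
  show ((a * b : SpecialLinearGroup (Fin 2) K) : Matrix (Fin 2) (Fin 2) K) i j = _
  rw [this, Matrix.mul_apply, Fin.sum_univ_two]

theorem reepb_inv_apply (a : SpecialLinearGroup (Fin 2) K) :
    (a⁻¹) 0 0 = a 1 1 ∧ (a⁻¹) 0 1 = -(a 0 1) ∧ (a⁻¹) 1 0 = -(a 1 0) ∧ (a⁻¹) 1 1 = a 0 0 := by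
  have hinv : ((a⁻¹ : SpecialLinearGroup (Fin 2) K) : Matrix (Fin 2) (Fin 2) K) =
      adjugate (a : Matrix (Fin 2) (Fin 2) K) := Matrix.SpecialLinearGroup.coe_inv a
  refine ⟨?_, ?_, ?_, ?_⟩
  · show ((a⁻¹ : SpecialLinearGroup (Fin 2) K) : Matrix (Fin 2) (Fin 2) K) 0 0 = _
    rw [hinv, Matrix.adjugate_fin_two]
    simp
  · show ((a⁻¹ : SpecialLinearGroup (Fin 2) K) : Matrix (Fin 2) (Fin 2) K) 0 1 = _
    rw [hinv, Matrix.adjugate_fin_two]
    simp
  · show ((a⁻¹ : SpecialLinearGroup (Fin 2) K) : Matrix (Fin 2) (Fin 2) K) 1 0 = _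
    rw [hinv, Matrix.adjugate_fin_two]
    simp
  · show ((a⁻¹ : SpecialLinearGroup (Fin 2) K) : Matrix (Fin 2) (Fin 2) K) 1 1 = _
    rw [hinv, Matrix.adjugate_fin_two]
    simp

theorem reepb_neg_apply (a : SpecialLinearGroup (Fin 2) K) (i j : Fin 2) :
    (-a) i j = -(a i j) := by
  show ((-a : SpecialLinearGroup (Fin 2) K) : Matrix (Fin 2) (Fin 2) K) i j = _
  rw [Matrix.SpecialLinearGroup.coe_neg]
  rfl

theorem reepb_one_apply :
    (1 : SpecialLinearGroup (Fin 2) K) 0 0 = 1 ∧ (1 : SpecialLinearGroup (Fin 2) K) 0 1 = 0 ∧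
    (1 : SpecialLinearGroup (Fin 2) K) 1 0 = 0 ∧ (1 : SpecialLinearGroup (Fin 2) K) 1 1 = 1 := by
  refine ⟨?_, ?_, ?_, ?_⟩ <;>
  · show ((1 : SpecialLinearGroup (Fin 2) K) : Matrix (Fin 2) (Fin 2) K) _ _ = _
    rw [Matrix.SpecialLinearGroup.coe_one]
    simp

theorem reepb_W_apply :
    (h8slW : SpecialLinearGroup (Fin 2) K) 0 0 = 0 ∧ (h8slW : SpecialLinearGroup (Fin 2) K) 0 1 = 1 ∧
    (h8slW : SpecialLinearGroup (Fin 2) K) 1 0 = -1 ∧ (h8slW : SpecialLinearGroup (Fin 2) K) 1 1 = 0 :=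
  ⟨rfl, rfl, rfl, rfl⟩

theorem reepb_U_apply (s : K) :
    (h8slU s) 0 0 = 1 ∧ (h8slU s) 0 1 = s ∧ (h8slU s) 1 0 = 0 ∧ (h8slU s) 1 1 = 1 :=
  ⟨rfl, rfl, rfl, rfl⟩

theorem reepb_L_apply (s : K) :
    (h8slL s) 0 0 = 1 ∧ (h8slL s) 0 1 = 0 ∧ (h8slL s) 1 0 = s ∧ (h8slL s) 1 1 = 1 :=
  ⟨rfl, rfl, rfl, rfl⟩

theorem reepb_D_apply (s : K) (hs : s ≠ 0) :
    (h8slD s) 0 0 = s ∧ (h8slD s) 0 1 = 0 ∧ (h8slD s) 1 0 = 0 ∧ (h8slD s) 1 1 = s⁻¹ := by
  have h := h8slD_val s hs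
  refine ⟨?_, ?_, ?_, ?_⟩
  · show ((h8slD s : SpecialLinearGroup (Fin 2) K) : Matrix (Fin 2) (Fin 2) K) 0 0 = _
    rw [h]; rfl
  · show ((h8slD s : SpecialLinearGroup (Fin 2) K) : Matrix (Fin 2) (Fin 2) K) 0 1 = _
    rw [h]; rfl
  · show ((h8slD s : SpecialLinearGroup (Fin 2) K) : Matrix (Fin 2) (Fin 2) K) 1 0 = _
    rw [h]; rfl
  · show ((h8slD s : SpecialLinearGroup (Fin 2) K) : Matrix (Fin 2) (Fin 2) K) 1 1 = _
    rw [h]; rfl

theorem reepb_mem_so2 (g : SpecialLinearGroup (Fin 2) K) :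
    g ∈ so2 K ↔ g 0 0 = g 1 1 ∧ g 0 1 = -(g 1 0) := Iff.rfl

/-- `SO₂(K) = C(W)` (no hypothesis on `K`) -/
theorem reepb_mem_cent (g : SpecialLinearGroup (Fin 2) K) :
    g ∈ so2 K ↔ g * h8slW = h8slW * g := by
  obtain ⟨w00, w01, w10, w11⟩ := reepb_W_apply (K := K)
  constructor
  · rintro ⟨h1, h2⟩
    apply h8sl_ext <;> simp only [reepb_mul_apply, w00, w01, w10, w11]
    · linear_combination -h2
    · linear_combination h1
    · linear_combination h1
    · linear_combination h2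
  · intro h
    have e00 := congrArg (fun x : SpecialLinearGroup (Fin 2) K => x 0 0) h
    have e01 := congrArg (fun x : SpecialLinearGroup (Fin 2) K => x 0 1) h
    simp only [reepb_mul_apply, w00, w01, w10, w11] at e00 e01
    refine ⟨?_, ?_⟩
    · linear_combination e01
    · linear_combination -e00

theorem reepb_W_mem : (h8slW : SpecialLinearGroup (Fin 2) K) ∈ so2 K := by
  rw [reepb_mem_cent]

theorem reepb_W_sq : (h8slW : SpecialLinearGroup (Fin 2) K) * h8slW = -1 := by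
  obtain ⟨w00, w01, w10, w11⟩ := reepb_W_apply (K := K)
  obtain ⟨o00, o01, o10, o11⟩ := reepb_one_apply (K := K)
  apply h8sl_ext <;> simp only [reepb_mul_apply, reepb_neg_apply, w00, w01, w10, w11, o00, o01, o10, o11] <;> ring

end PB0

section PB1

variable {K : Type v} [Field K] [Fintype K] {m : ℕ}

theorem reepb_card_mod (m : ℕ) : qq m % 4 = 3 := by
  unfold qq
  rw [pow_succ, pow_mul, Nat.mul_mod, Nat.pow_mod]
  norm_num

theorem reepb_odd (m : ℕ) : Odd (qq m) := by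
  unfold qq
  exact Odd.pow (by decide)

theorem reepb_nonsq (hK : Fintype.card K = qq m) : ∀ a : K, a ^ 2 ≠ -1 := by
  intro a ha
  have h : IsSquare (-1 : K) := ⟨a, by rw [← ha, sq]⟩
  rw [FiniteField.isSquare_neg_one_iff, hK, reepb_card_mod] at h
  exact h rfl

theorem reepb_two_ne (hK : Fintype.card K = qq m) : (2 : K) ≠ 0 := by
  intro h
  apply reepb_nonsq hK (1 : K)
  rw [one_pow]
  linear_combination h

/-- `W` has no eigenvector -/
theorem reepb_W_noeig (hK : Fintype.card K = qq m) (c : K) (w : Fin 2 → K) (hw : w ≠ 0) :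
    ((h8slW : SpecialLinearGroup (Fin 2) K) : Matrix (Fin 2) (Fin 2) K).mulVec w ≠ c • w := by
  intro h
  have h0 := congrFun h 0
  have h1 := congrFun h 1
  simp [h8slW_val, Matrix.mulVec, dotProduct, Fin.sum_univ_two] at h0 h1
  have hc : c ^ 2 + 1 ≠ 0 := by
    intro h'
    apply reepb_nonsq hK c
    linear_combination h'
  have hw0 : w 0 = 0 := by
    have : (c ^ 2 + 1) * w 0 = 0 := by
      rw [h0] at h1
      linear_combination -h1
    rcases mul_eq_zero.1 this with h' | h'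
    · exact absurd h' hc
    · exact h'
  have hw1 : w 1 = 0 := by
    rw [h0, hw0, mul_zero]
  apply hw
  funext i
  fin_cases i
  · exact hw0
  · exact hw1

/-- `SO₂(K)` is conjugate to the torus `T'` of S2429 -/
theorem reepb_conj (hK : Fintype.card K = qq m) :
    ∃ (T' : Subgroup (SpecialLinearGroup (Fin 2) K)) (h : SpecialLinearGroup (Fin 2) K),
      IsCyclic T' ∧ Nat.card T' = Fintype.card K + 1 ∧
      (∀ g : SpecialLinearGroup (Fin 2) K,
        (∀ (c : K) (w : Fin 2 → K), w ≠ 0 → (g : Matrix (Fin 2) (Fin 2) K).mulVec w ≠ c • w) →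
        ∃ h' : SpecialLinearGroup (Fin 2) K, h' * g * h'⁻¹ ∈ T') ∧
      (∀ g : SpecialLinearGroup (Fin 2) K, g ∈ so2 K ↔ h * g * h⁻¹ ∈ T') := by
  have hodd : Odd (Fintype.card K) := by
    rw [hK]
    exact reepb_odd m
  obtain ⟨T', hcyc, hcard, -, hcent, hconj, -, -, -⟩ := Cfsg.Agent.S2429.result (F := K) hodd
  obtain ⟨h, hh⟩ := hconj h8slW (reepb_W_noeig hK)
  refine ⟨T', h, hcyc, hcard, hconj, ?_⟩
  have hne1 : ((h * h8slW * h⁻¹ : SpecialLinearGroup (Fin 2) K) : Matrix (Fin 2) (Fin 2) K) ≠ 1 := by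
    intro h1
    have h2 : h * h8slW * h⁻¹ = 1 := Subtype.ext h1
    have h3 : (h8slW : SpecialLinearGroup (Fin 2) K) = 1 := by
      have : h8slW = h⁻¹ * (h * h8slW * h⁻¹) * h := by group
      rw [this, h2]
      group
    have h4 := congrArg (fun x : SpecialLinearGroup (Fin 2) K => x 0 0) h3
    simp only [(reepb_W_apply (K := K)).1, (reepb_one_apply (K := K)).1] at h4
    exact zero_ne_one h4
  have hne2 : ((h * h8slW * h⁻¹ : SpecialLinearGroup (Fin 2) K) : Matrix (Fin 2) (Fin 2) K) ≠ -1 := by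
    intro h1
    have h2 : h * h8slW * h⁻¹ = -1 := by
      apply Subtype.ext
      rw [h1, Matrix.SpecialLinearGroup.coe_neg, Matrix.SpecialLinearGroup.coe_one]
    have h3 : (h8slW : SpecialLinearGroup (Fin 2) K) = -1 := by
      have : h8slW = h⁻¹ * (h * h8slW * h⁻¹) * h := by group
      rw [this, h2]
      simp
    have h4 := congrArg (fun x : SpecialLinearGroup (Fin 2) K => x 0 0) h3
    simp only [(reepb_W_apply (K := K)).1, reepb_neg_apply, (reepb_one_apply (K := K)).1] at h4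
    have : (1 : K) = 0 := by linear_combination h4
    exact one_ne_zero this
  have hC := hcent (h * h8slW * h⁻¹) hh hne1 hne2
  intro g
  rw [reepb_mem_cent, ← hC, Subgroup.mem_centralizer_singleton_iff]
  constructor
  · intro e
    have : h * g * h⁻¹ * (h * h8slW * h⁻¹) = h * (g * h8slW) * h⁻¹ := by group
    rw [this, e]
    group
  · intro e
    have e1 : g * h8slW = h⁻¹ * (h * g * h⁻¹ * (h * h8slW * h⁻¹)) * h := by group
    rw [e1, e]
    group

end PB1

end Cfsg.Agent.Lib.helper7.REE
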