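import Mathlib
import Cfsg.Agent.Lib.helper7.REE.Defs
import Cfsg.Agent.Lib.Helper28.REEPB0

/-!
# Project REE, row PB (helper28): the torus `SO₂(K)` of `SL₂(K)`, `|K| = q = 3^(2m+1)`.
-/

set_option autoImplicit false

namespace Cfsg.Agent.Lib.helper7.REE

open Matrix Polynomial Cfsg.Agent.Lib.helper8

universe u v

section P

variable {K : Type v} [Field K] [Fintype K] {m : ℕ}

omit [Fintype K] in
/-- elements of the shape `[[p, r], [r, -p]]` square to `-1` and invert `SO₂` -/
theorem reepb_anti (x : SpecialLinearGroup (Fin 2) K) (h1 : x 0 1 = x 1 0) (h2 : x 1 1 = -(x 0 0)) :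
    x * x = -1 ∧ ∀ d ∈ so2 K, x * d * x⁻¹ = d⁻¹ := by
  have hdet := h8sl_det x
  obtain ⟨o00, o01, o10, o11⟩ := reepb_one_apply (K := K)
  constructor
  · apply h8sl_ext <;> simp only [reepb_mul_apply, reepb_neg_apply, o00, o01, o10, o11]
    · rw [h1, h2] at hdet
      rw [h1]
      linear_combination -hdet
    · rw [h2]
      ring
    · rw [h2]
      ring
    · rw [h1, h2] at hdet
      rw [h1, h2]
      linear_combination -hdet
  · rintro d ⟨hd1, hd2⟩
    rw [mul_inv_eq_iff_eq_mul]
    obtain ⟨i00, i01, i10, i11⟩ := reepb_inv_apply d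
    apply h8sl_ext <;> simp only [reepb_mul_apply, i00, i01, i10, i11, hd1, hd2, h1, h2] <;> ring

/-- an element `y` of `SO₂` with `y * y = -1` is `W` or `-W` -/
theorem reepb_order_four (hK : Fintype.card K = qq m) (y : SpecialLinearGroup (Fin 2) K)
    (hy : y ∈ so2 K) (hyy : y * y = -1) : y = h8slW ∨ y = -h8slW := by
  obtain ⟨hy1, hy2⟩ := hy
  obtain ⟨o00, o01, o10, o11⟩ := reepb_one_apply (K := K)
  obtain ⟨w00, w01, w10, w11⟩ := reepb_W_apply (K := K)
  have h2 := reepb_two_ne hK
  have hdet := h8sl_det y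
  have e00 := congrArg (fun x : SpecialLinearGroup (Fin 2) K => x 0 0) hyy
  have e10 := congrArg (fun x : SpecialLinearGroup (Fin 2) K => x 1 0) hyy
  simp only [reepb_mul_apply, reepb_neg_apply, o00, o10] at e00 e10
  rw [hy2] at e00
  rw [← hy1] at e10 hdet
  rw [hy2] at hdet
  -- c = y 0 0, e = y 1 0 : c^2 - e^2 = -1, 2 c e = 0, c^2 + e^2 = 1
  have hc : y 0 0 = 0 := by
    have h4 : (2 : K) * (y 0 0 * y 0 0) = 0 := by linear_combination e00 + hdet
    rcases mul_eq_zero.1 h4 with h | h
    · exact absurd h h2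
    · exact mul_self_eq_zero.1 h
  have he : y 1 0 * y 1 0 = 1 := by
    rw [hc] at hdet
    linear_combination hdet
  have he' : y 1 0 = 1 ∨ y 1 0 = -1 := mul_self_eq_one_iff.1 he
  rcases he' with h | h
  · right
    apply h8sl_ext <;> simp only [reepb_neg_apply, w00, w01, w10, w11]
    · rw [hc]; ring
    · rw [hy2, h]
    · rw [h]; ring
    · rw [← hy1, hc]; ring
  · left
    apply h8sl_ext <;> simp only [w00, w01, w10, w11]
    · exact hc
    · rw [hy2, h]; ring
    · exact h
    · rw [← hy1, hc]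

theorem so2_props (hK : Fintype.card K = qq m) :
    IsCyclic (so2 K) ∧ Nat.card (so2 K) = qq m + 1 ∧
    (∀ g ∈ so2 K, g ≠ 1 → g ≠ -1 → ∀ x : SpecialLinearGroup (Fin 2) K,
      x * g = g * x → x ∈ so2 K) ∧
    (∀ g : SpecialLinearGroup (Fin 2) K,
      (∀ (c : K) (w : Fin 2 → K), w ≠ 0 → (g : Matrix (Fin 2) (Fin 2) K).mulVec w ≠ c • w) →
      ∃ x : SpecialLinearGroup (Fin 2) K, x * g * x⁻¹ ∈ so2 K) ∧
    (∀ x : SpecialLinearGroup (Fin 2) K, (∀ d ∈ so2 K, x * d * x⁻¹ ∈ so2 K) → x ∉ so2 K →
      x * x = -1 ∧ ∀ d ∈ so2 K, x * d * x⁻¹ = d⁻¹) ∧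
    (∃ x : SpecialLinearGroup (Fin 2) K, x ∉ so2 K ∧ x * x = -1 ∧
      ∀ d ∈ so2 K, x * d * x⁻¹ = d⁻¹) := by
  obtain ⟨T', h, hcyc, hcard, hconj, hiff⟩ := reepb_conj hK
  have h2 := reepb_two_ne hK
  obtain ⟨o00, o01, o10, o11⟩ := reepb_one_apply (K := K)
  obtain ⟨w00, w01, w10, w11⟩ := reepb_W_apply (K := K)
  -- the isomorphism `SO₂ ≃* T'`
  let φ : ↥(so2 K) ≃* ↥T' :=
    { toFun := fun g => ⟨h * g.1 * h⁻¹, (hiff g.1).1 g.2⟩
      invFun := fun x => ⟨h⁻¹ * x.1 * h, (hiff _).2 (by
        have : h * (h⁻¹ * x.1 * h) * h⁻¹ = x.1 := by group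
        rw [this]
        exact x.2)⟩
      left_inv := by
        intro g
        apply Subtype.ext
        show h⁻¹ * (h * g.1 * h⁻¹) * h = g.1
        group
      right_inv := by
        intro x
        apply Subtype.ext
        show h * (h⁻¹ * x.1 * h) * h⁻¹ = x.1
        group
      map_mul' := by
        intro a b
        apply Subtype.ext
        show h * (a.1 * b.1) * h⁻¹ = (h * a.1 * h⁻¹) * (h * b.1 * h⁻¹)
        group }
  refine ⟨?_, ?_, ?_, ?_, ?_, ?_⟩
  · have : IsCyclic ↥T' := hcyc
    exact isCyclic_of_surjective φ.symm φ.symm.surjective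
  · rw [Nat.card_congr φ.toEquiv, hcard, hK]
  · -- self-centralising
    rintro g ⟨hg1, hg2⟩ hne1 hne2 x hx
    have hdet := h8sl_det g
    have he : g 1 0 ≠ 0 := by
      intro he
      rw [he, neg_zero] at hg2
      rw [hg2, ← hg1, zero_mul, sub_zero] at hdet
      rcases mul_self_eq_one_iff.1 hdet with hc | hc
      · apply hne1
        apply h8sl_ext
        · rw [hc, o00]
        · rw [hg2, o01]
        · rw [he, o10]
        · rw [← hg1, hc, o11]
      · apply hne2
        apply h8sl_ext <;> simp only [reepb_neg_apply, o00, o01, o10, o11]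
        · exact hc
        · rw [hg2]; ring
        · rw [he]; ring
        · rw [← hg1, hc]
    have e00 := congrArg (fun y : SpecialLinearGroup (Fin 2) K => y 0 0) hx
    have e01 := congrArg (fun y : SpecialLinearGroup (Fin 2) K => y 0 1) hx
    simp only [reepb_mul_apply] at e00 e01
    rw [hg2] at e00 e01
    rw [← hg1] at e01
    refine ⟨?_, ?_⟩
    · have : g 1 0 * (x 0 0 - x 1 1) = 0 := by linear_combination -e01
      rcases mul_eq_zero.1 this with h' | h'
      · exact absurd h' he
      · exact sub_eq_zero.1 h'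
    · have : g 1 0 * (x 0 1 + x 1 0) = 0 := by linear_combination e00
      rcases mul_eq_zero.1 this with h' | h'
      · exact absurd h' he
      · linear_combination h'
  · -- elements without eigenvector
    intro g hg
    obtain ⟨h', hh'⟩ := hconj g hg
    refine ⟨h⁻¹ * h', ?_⟩
    rw [hiff]
    have : h * (h⁻¹ * h' * g * (h⁻¹ * h')⁻¹) * h⁻¹ = h' * g * h'⁻¹ := by group
    rw [this]
    exact hh'
  · -- the normaliser
    intro x hx hxn
    have hy := hx h8slW reepb_W_mem
    have hyy : (x * h8slW * x⁻¹) * (x * h8slW * x⁻¹) = -1 := by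
      have : (x * h8slW * x⁻¹) * (x * h8slW * x⁻¹) = x * (h8slW * h8slW) * x⁻¹ := by group
      rw [this, reepb_W_sq]
      simp
    have hx2 : x * h8slW = -(h8slW * x) := by
      rcases reepb_order_four hK _ hy hyy with h' | h'
      · exfalso
        apply hxn
        rw [reepb_mem_cent]
        exact mul_inv_eq_iff_eq_mul.1 h'
      · have := mul_inv_eq_iff_eq_mul.1 h'
        rw [this]
        simp
    have e00 := congrArg (fun y : SpecialLinearGroup (Fin 2) K => y 0 0) hx2
    have e01 := congrArg (fun y : SpecialLinearGroup (Fin 2) K => y 0 1) hx2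
    simp only [reepb_mul_apply, reepb_neg_apply, w00, w01, w10, w11] at e00 e01
    apply reepb_anti x
    · linear_combination -e00
    · linear_combination e01
  · -- existence
    have hchar : ringChar K ≠ 2 := by
      intro hc
      apply h2
      have h3 := CharP.cast_eq_zero K (ringChar K)
      rw [hc] at h3
      exact_mod_cast h3
    have hcardK : Fintype.card K % 2 = 1 := FiniteField.odd_card_of_char_ne_two hchar
    have hf : (Polynomial.X ^ 2 : Polynomial K).degree = 2 := Polynomial.degree_X_pow 2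
    have hg : (Polynomial.X ^ 2 - Polynomial.C (-1) : Polynomial K).degree = 2 :=
      Polynomial.degree_X_pow_sub_C (by decide) _
    obtain ⟨a, b, hab⟩ := FiniteField.exists_root_sum_quadratic hf hg hcardK
    simp only [Polynomial.eval_pow, Polynomial.eval_X, Polynomial.eval_sub, Polynomial.eval_C] at hab
    have hdet : (!![a, b; b, -a] : Matrix (Fin 2) (Fin 2) K).det = 1 := by
      rw [Matrix.det_fin_two_of]
      linear_combination -hab
    let x : SpecialLinearGroup (Fin 2) K := ⟨!![a, b; b, -a], hdet⟩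
    have x00 : x 0 0 = a := rfl
    have x01 : x 0 1 = b := rfl
    have x10 : x 1 0 = b := rfl
    have x11 : x 1 1 = -a := rfl
    have hanti := reepb_anti x (by rw [x01, x10]) (by rw [x11, x00])
    refine ⟨x, ?_, hanti.1, hanti.2⟩
    rintro ⟨hx1, hx2⟩
    rw [x00, x11] at hx1
    rw [x01, x10] at hx2
    have ha : a = 0 := by
      have : (2 : K) * a = 0 := by linear_combination hx1
      rcases mul_eq_zero.1 this with h' | h'
      · exact absurd h' h2
      · exact h'
    have hb : b = 0 := by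
      have : (2 : K) * b = 0 := by linear_combination hx2
      rcases mul_eq_zero.1 this with h' | h'
      · exact absurd h' h2
      · exact h'
    rw [ha, hb] at hab
    have : (1 : K) = 0 := by linear_combination hab
    exact one_ne_zero this

end P

end Cfsg.Agent.Lib.helper7.REE
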