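import Mathlib
import Cfsg.Agent.Lib.helper7.REE.Defs
import Cfsg.Agent.Lib.Helper28.REEPB0
import Cfsg.Agent.Lib.Helper28.REEPB

/-!
# Project REE, row PC (helper28): elements of `SL₂(K)` up to conjugacy.
-/

set_option autoImplicit false

namespace Cfsg.Agent.Lib.helper7.REE

open Matrix Polynomial Cfsg.Agent.Lib.helper8

universe u v

section PC0

variable {K : Type v} [Field K]

/-- an upper triangular element is conjugate to `± U s` or to `D s` -/
theorem reepc_upper (g : SpecialLinearGroup (Fin 2) K) (h10 : g 1 0 = 0) :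
    (∃ (x : SpecialLinearGroup (Fin 2) K) (s : K),
        x * g * x⁻¹ = h8slU s ∨ x * g * x⁻¹ = -h8slU s) ∨
    (∃ (x : SpecialLinearGroup (Fin 2) K) (s : K), s ≠ 0 ∧ x * g * x⁻¹ = h8slD s) := by
  have hdet := h8sl_det g
  rw [h10, mul_zero, sub_zero] at hdet
  have ha : g 0 0 ≠ 0 := by
    intro h
    rw [h, zero_mul] at hdet
    exact zero_ne_one hdet
  have h11 : g 1 1 = (g 0 0)⁻¹ := eq_inv_of_mul_eq_one_right hdet
  by_cases hsq : g 0 0 * g 0 0 = 1
  · left
    refine ⟨1, ?_⟩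
    rcases mul_self_eq_one_iff.1 hsq with h | h
    · refine ⟨g 0 1, Or.inl ?_⟩
      obtain ⟨u00, u01, u10, u11⟩ := reepb_U_apply (g 0 1)
      rw [one_mul, inv_one, mul_one]
      apply h8sl_ext
      · rw [u00, h]
      · rw [u01]
      · rw [u10, h10]
      · rw [u11, h11, h, inv_one]
    · refine ⟨-(g 0 1), Or.inr ?_⟩
      obtain ⟨u00, u01, u10, u11⟩ := reepb_U_apply (-(g 0 1))
      rw [one_mul, inv_one, mul_one]
      apply h8sl_ext <;> simp only [reepb_neg_apply, u00, u01, u10, u11]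
      · exact h
      · ring
      · rw [h10]; ring
      · rw [h11, h]
        norm_num
  · right
    have hne : g 0 0 - (g 0 0)⁻¹ ≠ 0 := by
      intro h
      apply hsq
      have : g 0 0 = (g 0 0)⁻¹ := sub_eq_zero.1 h
      nth_rewrite 2 [this]
      exact mul_inv_cancel₀ ha
    refine ⟨h8slU (g 0 1 / (g 0 0 - (g 0 0)⁻¹)), g 0 0, ha, ?_⟩
    rw [mul_inv_eq_iff_eq_mul]
    obtain ⟨u00, u01, u10, u11⟩ := reepb_U_apply (g 0 1 / (g 0 0 - (g 0 0)⁻¹))
    obtain ⟨d00, d01, d10, d11⟩ := reepb_D_apply (g 0 0) ha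
    have hσ : g 0 1 / (g 0 0 - (g 0 0)⁻¹) * (g 0 0 - (g 0 0)⁻¹) = g 0 1 :=
      div_mul_cancel₀ _ hne
    apply h8sl_ext <;> simp only [reepb_mul_apply, u00, u01, u10, u11, d00, d01, d10, d11, h10, h11]
    · ring
    · linear_combination (-1 : K) * hσ
    · ring
    · ring

/-- if the discriminant is a square, `g` is conjugate to an upper triangular element -/
theorem reepc_triang (h2 : (2 : K) ≠ 0) (g : SpecialLinearGroup (Fin 2) K) (δ : K)
    (hδ : δ * δ = (g 0 0 + g 1 1) * (g 0 0 + g 1 1) - 4) :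
    ∃ y : SpecialLinearGroup (Fin 2) K, (y * g * y⁻¹) 1 0 = 0 := by
  have hdet := h8sl_det g
  by_cases hb : g 0 1 = 0
  · refine ⟨h8slW, ?_⟩
    obtain ⟨w00, w01, w10, w11⟩ := reepb_W_apply (K := K)
    obtain ⟨i00, i01, i10, i11⟩ := reepb_inv_apply (h8slW : SpecialLinearGroup (Fin 2) K)
    simp only [reepb_mul_apply, i00, i10, w00, w01, w10, w11, hb]
    ring
  · refine ⟨h8slL (((g 0 0 - g 1 1) + δ) / (2 * g 0 1)), ?_⟩
    obtain ⟨l00, l01, l10, l11⟩ := reepb_L_apply (((g 0 0 - g 1 1) + δ) / (2 * g 0 1))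
    obtain ⟨i00, i01, i10, i11⟩ := reepb_inv_apply (h8slL (((g 0 0 - g 1 1) + δ) / (2 * g 0 1)))
    simp only [reepb_mul_apply, i00, i10, l00, l01, l10, l11]
    field_simp
    linear_combination (-1 : K) * hδ - 4 * hdet

/-- an eigenvalue makes the discriminant a square -/
theorem reepc_eig (g : SpecialLinearGroup (Fin 2) K) (c : K) (w : Fin 2 → K) (hw : w ≠ 0)
    (h : (g : Matrix (Fin 2) (Fin 2) K).mulVec w = c • w) :
    ∃ δ : K, δ * δ = (g 0 0 + g 1 1) * (g 0 0 + g 1 1) - 4 := by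
  have hdet := h8sl_det g
  have h0 := congrFun h 0
  have h1 := congrFun h 1
  simp only [Matrix.mulVec, dotProduct, Fin.sum_univ_two, Pi.smul_apply, smul_eq_mul] at h0 h1
  have hchar : c * c - (g 0 0 + g 1 1) * c + 1 = 0 := by
    have e0 : (c * c - (g 0 0 + g 1 1) * c + 1) * w 0 = 0 := by
      have h0' : g 0 0 * w 0 + g 0 1 * w 1 = c * w 0 := h0
      have h1' : g 1 0 * w 0 + g 1 1 * w 1 = c * w 1 := h1
      linear_combination (g 1 1 - c) * h0' - g 0 1 * h1' - w 0 * hdet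
    have e1 : (c * c - (g 0 0 + g 1 1) * c + 1) * w 1 = 0 := by
      have h0' : g 0 0 * w 0 + g 0 1 * w 1 = c * w 0 := h0
      have h1' : g 1 0 * w 0 + g 1 1 * w 1 = c * w 1 := h1
      linear_combination (g 0 0 - c) * h1' - g 1 0 * h0' - w 1 * hdet
    by_contra hne
    apply hw
    funext i
    fin_cases i
    · rcases mul_eq_zero.1 e0 with h' | h'
      · exact absurd h' hne
      · exact h'
    · rcases mul_eq_zero.1 e1 with h' | h'
      · exact absurd h' hne
      · exact h'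
  refine ⟨2 * c - (g 0 0 + g 1 1), ?_⟩
  linear_combination 4 * hchar

end PC0

section P

variable {K : Type v} [Field K] [Fintype K] {m : ℕ}

theorem sl2_trichotomy (hK : Fintype.card K = qq m) (g : SpecialLinearGroup (Fin 2) K) :
    (∃ (x : SpecialLinearGroup (Fin 2) K) (s : K),
        x * g * x⁻¹ = h8slU s ∨ x * g * x⁻¹ = -h8slU s) ∨
    (∃ (x : SpecialLinearGroup (Fin 2) K) (s : K), s ≠ 0 ∧ x * g * x⁻¹ = h8slD s) ∨
    (∃ x : SpecialLinearGroup (Fin 2) K, x * g * x⁻¹ ∈ so2 K) := by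
  by_cases hsq : ∃ δ : K, δ * δ = (g 0 0 + g 1 1) * (g 0 0 + g 1 1) - 4
  · obtain ⟨δ, hδ⟩ := hsq
    obtain ⟨y, hy⟩ := reepc_triang (reepb_two_ne hK) g δ hδ
    have hconj : ∀ x : SpecialLinearGroup (Fin 2) K,
        x * (y * g * y⁻¹) * x⁻¹ = (x * y) * g * (x * y)⁻¹ := by
      intro x
      group
    rcases reepc_upper (y * g * y⁻¹) hy with ⟨x, s, hx⟩ | ⟨x, s, hs, hx⟩
    · left
      refine ⟨x * y, s, ?_⟩
      rw [← hconj]
      exact hx
    · right
      left
      refine ⟨x * y, s, hs, ?_⟩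
      rw [← hconj]
      exact hx
  · right
    right
    apply (so2_props hK).2.2.2.1 g
    intro c w hw h
    exact hsq (reepc_eig g c w hw h)

end P

end Cfsg.Agent.Lib.helper7.REE
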