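import Mathlib

/-!
# S5955 row N12 (ARITHN), helper28: the arithmetic of the necessity direction
-/

set_option autoImplicit false

namespace Cfsg.Agent.Lib.Helper13.S5955

theorem arith_nec (i c d m t : ℕ) (hi : 1 ≤ i) (hc : c = if Even i then i else 2 * i)
    (hm1 : 1 ≤ m) (hmd : m ≤ d)
    (hj : ∃ j, j < m ∧ i ∣ 2 * (d - j))
    (hmax : ∃ w1 s : ℕ, m = w1 + s * i ∧ 2 * w1 ≤ (2 * d) % c)
    (hdist : Even i → 2 * m + i * min t ((2 * d) / i) ≤ 2 * d) :
    i ≤ m ∧ 2 * (m % i) ≤ (2 * d) % c ∧ (Odd i ∨ t + 2 * (m / i) ≤ (2 * d) / i) := by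
  obtain ⟨j, hjm, hjd⟩ := hj
  obtain ⟨w1, s, hms, hw1⟩ := hmax
  have hcpos : 0 < c := by
    rw [hc]; split_ifs <;> omega
  have hc2i : c ≤ 2 * i := by
    rw [hc]; split_ifs <;> omega
  have hρ : (2 * d) % c < c := Nat.mod_lt _ hcpos
  have hw1i : w1 < i := by omega
  -- the key divisibility: c ∣ 2 * (d - j)
  have hcdvd : c ∣ 2 * (d - j) := by
    rw [hc]
    split_ifs with he
    · exact hjd
    · have hodd : Odd i := Nat.not_even_iff_odd.mp he
      have hcop : Nat.Coprime i 2 := Nat.coprime_two_right.mpr hodd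
      have : i ∣ d - j := hcop.dvd_of_dvd_mul_left hjd
      exact Nat.mul_dvd_mul_left 2 this
  have hA : i ≤ m := by
    by_contra hlt
    push Not at hlt
    have hs0 : s = 0 := by
      by_contra hs
      have : 1 ≤ s := Nat.one_le_iff_ne_zero.mpr hs
      have : i ≤ s * i := Nat.le_mul_of_pos_left i this
      omega
    rw [hs0, zero_mul, add_zero] at hms
    obtain ⟨k, hk⟩ := hcdvd
    have h2d : 2 * d = 2 * j + c * k := by omega
    have hmod : (2 * d) % c = (2 * j) % c := by
      rw [h2d, Nat.add_mul_mod_self_left]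
    have h2j : 2 * j < c := by omega
    rw [Nat.mod_eq_of_lt h2j] at hmod
    omega
  have hmodi : m % i = w1 := by
    rw [hms, Nat.add_mul_mod_self_right, Nat.mod_eq_of_lt hw1i]
  have hdivi : m / i = s := by
    rw [hms, Nat.add_mul_div_right _ _ (by omega : 0 < i), Nat.div_eq_of_lt hw1i, zero_add]
  refine ⟨hA, ?_, ?_⟩
  · rw [hmodi]; exact hw1
  · by_cases he : Even i
    · right
      have hd := hdist he
      rw [hdivi]
      rcases le_total t ((2 * d) / i) with h | h
      · rw [min_eq_left h] at hd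
        rw [Nat.le_div_iff_mul_le (by omega : 0 < i)]
        have h1 : 2 * (s * i) ≤ 2 * m := by omega
        calc (t + 2 * s) * i = i * t + 2 * (s * i) := by ring
          _ ≤ i * t + 2 * m := by omega
          _ ≤ 2 * d := by omega
      · exfalso
        rw [min_eq_right h] at hd
        have h3 := Nat.lt_mul_div_succ (2 * d) (by omega : 0 < i)
        have h4 : i * ((2 * d) / i + 1) = i * ((2 * d) / i) + i := by ring
        omega
    · left
      exact Nat.not_even_iff_odd.mp he

end Cfsg.Agent.Lib.Helper13.S5955
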