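import Mathlib
import Cfsg.Agent.Lib.Helper13.S5955.Defs

/-!
# S5955 row N1 (NECDIM), core (helper28): the dimension of a t.i. invariant subspace.
T2 (`SND B (fixS x)`) and T6 (`ti_le_half`) enter as hypotheses.
-/

set_option autoImplicit false

namespace Cfsg.Agent.Lib.Helper13.S5955

open Polynomial Module

theorem s5955n1_core {F : Type*} [Field F] [Fintype F] {p : ℕ} [Fact p.Prime] [CharP F p]
    {V : Type*} [AddCommGroup V] [Module F V] [FiniteDimensional F V]
    {r : ℕ} [Fact r.Prime] (hrp : r ≠ p) {B : LinearMap.BilinForm F V} {x : Module.End F V}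
    (h : SCtx r B x)
    (hfixnd : SND B (fixS x))
    (hhalf : ∀ N T : Submodule F V, SND B N → T ≤ N → STI B T → 2 * finrank F T ≤ finrank F N)
    (W : Submodule F V) (hW : SInv x W) (hWti : STI B W) :
    ∃ w1 s : ℕ, finrank F W = w1 + s * orderOf ((Fintype.card F : ℕ) : ZMod r) ∧
      2 * w1 ≤ finrank F (fixS x) := by
  set i := orderOf ((Fintype.card F : ℕ) : ZMod r) with hi
  have hipos : 0 < i := Cfsg.Agent.Lib.Helper24.el_ord_pos (F := F) (p := p) r hrp
  have hQ0 : cyclotomic r F ≠ 0 := cyclotomic_ne_zero r F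
  have hdeg : ∀ P : F[X], Irreducible P → P ∣ cyclotomic r F → P.natDegree = i :=
    fun P hP hPd => Cfsg.Agent.Lib.Helper24.el_cyc_deg (F := F) (p := p) r hrp P hP hPd
  have hcop : IsCoprime (X - 1 : F[X]) (cyclotomic r F) :=
    Cfsg.Agent.Lib.Helper24.el_cyc_coprime (F := F) (p := p) r hrp
  have hkill : aeval x ((X - 1) * cyclotomic r F) = 0 :=
    Cfsg.Agent.Lib.Helper24.el_cyc_kill r x h.pow
  have hsplit := Cfsg.Agent.Lib.Helper24.el_split_W x (cyclotomic r F) hcop hkill W hW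
  -- the cyclotomic part
  have hW2inv : SInv x (W ⊓ LinearMap.ker (aeval x (cyclotomic r F))) :=
    Cfsg.Agent.Lib.Helper24.el_inv_inf hW (Cfsg.Agent.Lib.Helper24.el_inv_ker x _)
  have hW2kill : ∀ u ∈ W ⊓ LinearMap.ker (aeval x (cyclotomic r F)),
      aeval x (cyclotomic r F) u = 0 := fun u hu => LinearMap.mem_ker.mp hu.2
  obtain ⟨s, hs⟩ := Cfsg.Agent.Lib.Helper24.el_dvd_dim x _ hW2inv (cyclotomic r F) hQ0 hW2kill i
    hipos hdeg
  -- the fixed part
  have hW1le : W ⊓ LinearMap.ker (aeval x (X - 1 : F[X])) ≤ fixS x := inf_le_right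
  have hW1ti : STI B (W ⊓ LinearMap.ker (aeval x (X - 1 : F[X]))) :=
    fun u hu v hv => hWti u hu.1 v hv.1
  have h2 := hhalf (fixS x) _ hfixnd hW1le hW1ti
  refine ⟨finrank F ↥(W ⊓ LinearMap.ker (aeval x (X - 1 : F[X]))), s, ?_, h2⟩
  rw [hsplit, hs, mul_comm]

end Cfsg.Agent.Lib.Helper13.S5955
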