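import Mathlib
import Cfsg.Agent.Lib.Helper19.SO8.Defs
import Cfsg.Agent.Lib.Helper16.SpinG2
import Cfsg.Agent.Lib.helper4.OTSSTDP
import Cfsg.Agent.Lib.helper15.OTSSTDCTX
import Cfsg.Agent.Lib.Helper25.BCGX4

set_option autoImplicit false
set_option linter.unusedVariables false

/-!
# Project SO8, row U4 (`oreal_u4`) (helper28), verbatim from `Helper19/SO8/Skel.lean.txt`, and the generic lemma
`so8u4_of_end` (an endomorphism of a standard space preserving the form, of `2`-power order, gives `OReal`).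
-/

namespace Cfsg.Agent.Lib.Helper19.SO8

open Polynomial Cfsg.Agent.Lib.Helper13.OTS

/-- an endomorphism `y` of a standard quadratic space with `Q (y v) = Q v`, `y ^ (2^(n+1)) = 1`, `y ^ (2^n) ≠ 1` realises
`2^(n+1)` -/
theorem so8u4_of_end {F : Type*} [Field F] [Fintype F] {ι : Type} [Fintype ι] [DecidableEq ι]
    (Qs : QuadraticForm F (ι → F)) (d : ℕ) (s : ℤ) (hs : QStd Qs d s) (y : Module.End F (ι → F))
    (hpres : ∀ v, Qs (y v) = Qs v) (n : ℕ) (hpow : y ^ (2 ^ (n + 1)) = 1) (hne : y ^ (2 ^ n) ≠ 1) :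
    OReal F d s (2 ^ (n + 1)) := by
  have hctx : QCtx (2 ^ (n + 1)) Qs y := by
    refine ⟨?_, hpres, hpow⟩
    intro u hu
    apply hs.nd.1
    intro v
    rw [QuadraticMap.polarBilin_apply_apply]
    exact hu v
  obtain ⟨x, hx, hxy, hxr⟩ := q_realize Qs (2 ^ (n + 1)) y hctx
  refine ⟨ι, inferInstance, inferInstance, Qs, hs, ⟨x, hx⟩, ?_⟩
  rw [Subgroup.orderOf_mk]
  have : Fact (Nat.Prime 2) := ⟨Nat.prime_two⟩
  apply orderOf_eq_prime_pow
  · intro h
    apply hne
    have := (Cfsg.Agent.Lib.Lead.BCG.gl_same x (2 ^ n)).1 h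
    rw [hxy] at this
    exact this
  · exact hxr

/-- the map `(x₁, x₂, y₁, y₂) ↦ (x₁ + x₂, y₁ + y₂, y₁, x₂)` -/
def so8u4_map (F : Type*) [Field F] : Module.End F (Fin 2 ⊕ Fin 2 → F) where
  toFun v := Sum.elim ![v (Sum.inl 0) + v (Sum.inl 1), v (Sum.inr 0) + v (Sum.inr 1)]
    ![v (Sum.inr 0), v (Sum.inl 1)]
  map_add' u v := by
    funext i
    rcases i with i | i <;> fin_cases i <;> simp <;> ring
  map_smul' c v := by
    funext i
    rcases i with i | i <;> fin_cases i <;> simp <;> ring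

theorem so8u4_map_apply (F : Type*) [Field F] (v : Fin 2 ⊕ Fin 2 → F) :
    so8u4_map F v = Sum.elim ![v (Sum.inl 0) + v (Sum.inl 1), v (Sum.inr 0) + v (Sum.inr 1)]
      ![v (Sum.inr 0), v (Sum.inl 1)] := rfl

/-- U4 [M]: on `quadFormPlus 2 F`, `(x₁, x₂, y₁, y₂) ↦ (x₁ + x₂, y₁ + y₂, y₁, x₂)`: `(x₁+x₂) y₁ + (y₁+y₂) x₂ = x₁ y₁ + x₂ y₂` (char 2); its square is
`(x₁+x₂+y₁+y₂, y₁+x₂, y₁, y₁+y₂) ≠ id`, its fourth power is `id`: `orderOf_eq_prime_pow`. -/
theorem oreal_u4 {F : Type*} [Field F] [Fintype F] [CharP F 2] : OReal F 2 1 4 := by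
  have h2 : (2 : F) = 0 := CharTwo.two_eq_zero
  have hmain := so8u4_of_end (Cfsg.Agent.Lib.Helper16.qfPlus 2 F) 2 1 (q_std_plus 2) (so8u4_map F) ?_ 1 ?_ ?_
  · simpa using hmain
  · intro v
    rw [Cfsg.Agent.Lib.Helper16.qfPlus_coe]
    unfold Cfsg.quadFormPlus
    rw [Fin.sum_univ_two, Fin.sum_univ_two, so8u4_map_apply]
    simp only [Sum.elim_inl, Sum.elim_inr, Matrix.cons_val_zero, Matrix.cons_val_one]
    grind
  · apply LinearMap.ext
    intro v
    funext i
    have h4 : (2 : ℕ) ^ (1 + 1) = 4 := by norm_num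
    rw [h4]
    have : (so8u4_map F) ^ 4 = so8u4_map F * (so8u4_map F * (so8u4_map F * so8u4_map F)) := by
      rw [pow_succ', pow_succ', pow_succ', pow_one]
    rw [this]
    simp only [Module.End.mul_apply, Module.End.one_apply, so8u4_map_apply]
    rcases i with i | i <;> fin_cases i <;>
      simp only [Sum.elim_inl, Sum.elim_inr, Matrix.cons_val_zero, Matrix.cons_val_one, Fin.zero_eta,
        Fin.mk_one] <;> grind
  · intro h
    have h1 := congrArg (fun f : Module.End F (Fin 2 ⊕ Fin 2 → F) =>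
      f (fun i => if i = Sum.inl 1 then 1 else 0) (Sum.inl 0)) h
    simp only [pow_one, sq, Module.End.mul_apply, Module.End.one_apply, so8u4_map_apply] at h1
    simp at h1

end Cfsg.Agent.Lib.Helper19.SO8
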