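import Mathlib
import Cfsg.Agent.S0022
import Cfsg.Agent.Lib.helper2.S91Defs

/-!
# S91 piece SEC : fixed points of a coprime action pass to sections,
`|C_{K/N}(S)| * |C_N(S)| = |C_K(S)|`.
-/

set_option autoImplicit false

namespace Cfsg.Agent.Lib.helper2.S91
open Subgroup

/-- S91-SEC -/
theorem sec_card {G : Type*} [Group G] [Finite G] (p : ℕ) [Fact p.Prime] (K N : Subgroup G)
    [N.Normal] (hNK : N ≤ K) (hK : (Nat.card K).Coprime p) (S : Set G)
    (hS : IsPGroup p (Subgroup.closure S)) (hSK : S ⊆ (normalizer (K : Set G) : Set G)) :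
    Nat.card ↥(K.map (QuotientGroup.mk' N) ⊓ centralizer ((QuotientGroup.mk' N) '' S)) *
      Nat.card ↥(N ⊓ centralizer S) = Nat.card ↥(K ⊓ centralizer S) := by
  -- the restricted quotient map
  have hmemf : ∀ c : ↥(K ⊓ centralizer S),
      ((QuotientGroup.mk' N).comp (K ⊓ centralizer S).subtype) c ∈
        K.map (QuotientGroup.mk' N) ⊓ centralizer ((QuotientGroup.mk' N) '' S) := by
    intro c
    refine ⟨Subgroup.mem_map_of_mem _ c.2.1, ?_⟩
    show _ ∈ centralizer _
    rw [Subgroup.mem_centralizer_iff]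
    rintro _ ⟨s, hs, rfl⟩
    have := (Subgroup.mem_centralizer_iff.mp c.2.2) s hs
    show (QuotientGroup.mk' N) s * (QuotientGroup.mk' N) (c : G) =
      (QuotientGroup.mk' N) (c : G) * (QuotientGroup.mk' N) s
    rw [← map_mul, ← map_mul, this]
  let f : ↥(K ⊓ centralizer S) →*
      ↥(K.map (QuotientGroup.mk' N) ⊓ centralizer ((QuotientGroup.mk' N) '' S)) :=
    MonoidHom.codRestrict ((QuotientGroup.mk' N).comp (K ⊓ centralizer S).subtype) _ hmemf
  have hfval : ∀ c : ↥(K ⊓ centralizer S), ((f c : _) : G ⧸ N) = QuotientGroup.mk' N (c : G) :=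
    fun c => rfl
  -- surjectivity, from S0022
  have hsurj : Function.Surjective f := by
    rintro ⟨kb, hkb1, hkb2⟩
    obtain ⟨k, hk, rfl⟩ := Subgroup.mem_map.mp hkb1
    have hA : Subgroup.closure S ≤ normalizer (K : Set G) :=
      (Subgroup.closure_le _).mpr hSK
    have hcop : (Nat.card (Subgroup.closure S)).Coprime (Nat.card K) := by
      obtain ⟨n, hn⟩ := hS.exists_card_eq
      rw [hn]
      exact Nat.Coprime.pow_left n hK.symm
    have hsolv : Group.IsSolvable ↥(Subgroup.closure S) := by
      have := hS.isNilpotent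
      infer_instance
    have hnormN : normalizer (N : Set G) = ⊤ := Subgroup.normalizer_eq_top N
    have hfix : ∀ a ∈ Subgroup.closure S, a * k * a⁻¹ * k⁻¹ ∈ N := by
      intro a ha
      have h1 : QuotientGroup.mk' N k ∈ centralizer
          ((Subgroup.closure ((QuotientGroup.mk' N) '' S) : Subgroup (G ⧸ N)) : Set (G ⧸ N)) := by
        rw [Subgroup.centralizer_closure]; exact hkb2
      have h2 : QuotientGroup.mk' N a ∈ Subgroup.closure ((QuotientGroup.mk' N) '' S) := by
        rw [← MonoidHom.map_closure]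
        exact Subgroup.mem_map_of_mem _ ha
      have h3 := (Subgroup.mem_centralizer_iff.mp h1) _ h2
      rw [← QuotientGroup.eq_one_iff]
      have h4 : ((a * k * a⁻¹ * k⁻¹ : G) : G ⧸ N) =
          QuotientGroup.mk' N a * QuotientGroup.mk' N k * (QuotientGroup.mk' N a)⁻¹ *
            (QuotientGroup.mk' N k)⁻¹ := by
        simp
      rw [h4, h3]
      group
    obtain ⟨c, hc, hkc⟩ := Cfsg.Agent.S0022.result (Subgroup.closure S) K hA hcop (Or.inl hsolv)
      N hNK (by rw [hnormN]; exact le_top) (by rw [hnormN]; exact le_top) k hk hfix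
    have hcS : c ∈ centralizer S :=
      Subgroup.centralizer_le (Subgroup.subset_closure) hc.2
    refine ⟨⟨c, hc.1, hcS⟩, ?_⟩
    apply Subtype.ext
    rw [hfval]
    show QuotientGroup.mk' N c = QuotientGroup.mk' N k
    symm
    rw [QuotientGroup.mk'_eq_mk']
    exact ⟨k⁻¹ * c, hkc, by group⟩
  -- kernel
  have hker : Nat.card f.ker = Nat.card ↥(N ⊓ centralizer S) := by
    have h1 : (f.ker.map (K ⊓ centralizer S).subtype) = N ⊓ centralizer S := by
      ext x
      constructor
      · rintro ⟨c, hc, rfl⟩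
        have hc' : f c = 1 := hc
        have h2 : QuotientGroup.mk' N (c : G) = 1 := by
          rw [← hfval, hc']; rfl
        have h3 : (c : G) ∈ N := by
          rw [← QuotientGroup.eq_one_iff]; exact h2
        exact ⟨h3, c.2.2⟩
      · rintro ⟨hxN, hxS⟩
        refine ⟨⟨x, hNK hxN, hxS⟩, ?_, rfl⟩
        show f ⟨x, hNK hxN, hxS⟩ = 1
        apply Subtype.ext
        rw [hfval]
        show QuotientGroup.mk' N x = 1
        exact (QuotientGroup.eq_one_iff x).mpr hxN
    rw [← h1]
    exact (Subgroup.card_map_of_injective (Subgroup.subtype_injective _)).symm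
  have h1 := Subgroup.card_eq_card_quotient_mul_card_subgroup f.ker
  have h2 : Nat.card (↥(K ⊓ centralizer S) ⧸ f.ker) =
      Nat.card ↥(K.map (QuotientGroup.mk' N) ⊓ centralizer ((QuotientGroup.mk' N) '' S)) :=
    Nat.card_congr (QuotientGroup.quotientKerEquivOfSurjective f hsurj).toEquiv
  rw [h2, hker] at h1
  exact h1.symm

end Cfsg.Agent.Lib.helper2.S91
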