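import Mathlib
import Cfsg.Agent.Lib.Helper19.SPD.Defs

/-!
# SPD rows ORTHINV and PRIMND (helper28)
-/

set_option autoImplicit false
set_option linter.unusedVariables false
set_option linter.unusedSectionVars false

namespace Cfsg.Agent.Lib.Helper19.SPD

open Polynomial

variable {F : Type*} [Field F] {d : ℕ}

/-- powers of `y` preserve an invariant subspace -/
theorem spdorthinv_inv_pow (y : (Fin d ⊕ Fin d → F) →ₗ[F] (Fin d ⊕ Fin d → F))
    (W : Submodule F (Fin d ⊕ Fin d → F)) (hW : Inv y W) (k : ℕ) : Inv (y ^ k) W := by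
  induction k with
  | zero => intro v hv; simpa using hv
  | succ k ih =>
    intro v hv
    rw [pow_succ, Module.End.mul_apply]
    exact ih _ (hW v hv)

/-- `y (y ^ (r - 1) v) = v` -/
theorem spdorthinv_cancel (r : ℕ) (hr : 0 < r) (y : (Fin d ⊕ Fin d → F) →ₗ[F] (Fin d ⊕ Fin d → F))
    (hy : y ^ r = 1) (v : Fin d ⊕ Fin d → F) : y ((y ^ (r - 1)) v) = v := by
  have h : y * y ^ (r - 1) = 1 := by
    rw [← pow_succ', Nat.sub_add_cancel hr, hy]
  have := congrArg (fun f : (Fin d ⊕ Fin d → F) →ₗ[F] (Fin d ⊕ Fin d → F) => f v) h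
  simpa [Module.End.mul_apply] using this

/-- ORTHINV -/
theorem orth_inv (r : ℕ) (hr : 0 < r) (y : (Fin d ⊕ Fin d → F) →ₗ[F] (Fin d ⊕ Fin d → F))
    (hiso : Isom y) (hy : y ^ r = 1) (W : Submodule F (Fin d ⊕ Fin d → F)) (hW : Inv y W) :
    Inv y (Cfsg.Agent.Lib.helper6.SB.orth d W) := by
  intro v hv
  rw [Cfsg.Agent.Lib.helper6.SB.mem_orth] at hv ⊢
  intro w hw
  have hw' : (y ^ (r - 1)) w ∈ W := spdorthinv_inv_pow y W hW (r - 1) w hw
  have h1 := hv _ hw'
  rw [← hiso, spdorthinv_cancel r hr y hy w] at h1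
  exact h1

end Cfsg.Agent.Lib.Helper19.SPD
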