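import Mathlib
import Cfsg.Agent.Lib.Lead.SPM2.Defs
import Cfsg.Agent.Lib.Helper18.STDR5
import Cfsg.Agent.Lib.helper4.OMNV2

/-!
# Project SPM2 (designer lead), row T12 (helper28), verbatim vs `SPM2/Skel`: `CovM.omat_h`
(extras prefixed `spm2t12_`: the `Td`-word of a torus element is `diagonal (dhs a b u)`)
-/

set_option autoImplicit false

namespace Cfsg.Agent.Lib.Lead.SPM2

open Cfsg.Agent.Lib.helper15.St2 Cfsg.Agent.Lib.helper3.STC Cfsg.Agent.Lib.Lead.STD Cfsg.Agent.Lib.helper17.STM
  Cfsg.Agent.Lib.Lead.SPN Cfsg.Agent.Lib.Helper16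
open Cfsg.Agent.Lib.Helper12.OMN (omatM oglM omatM_mul omatM_one omatM_injective oglM_coe oglM_injective)

universe u v w

section T

open Matrix in
/-- the action of the `Td`-word of a torus element on the basis vectors -/
theorem spm2t12_mulVec {l : Type*} [Fintype l] [DecidableEq l] {K : Type*} [Field K]
    {a b : l ⊕ l} (hab : a ≠ b) (hab' : a ≠ ng b) (u : K) (hu : u ≠ 0) (c : l ⊕ l) :
    ((Td a b u * Td b a (-u⁻¹) * Td a b u) * (Td a b (-1) * Td b a (-(-1 : K)⁻¹) * Td a b (-1))) *ᵥ (ev c : l ⊕ l → K) =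
      dhs a b u c • ev c := by
  have h1 : (-1 : K) ≠ 0 := by simp
  have hba' : b ≠ ng a := fun h => hab' (by rw [h]; cases a <;> rfl)
  have hnab : ng a ≠ ng b := fun h => hab (by cases a <;> cases b <;> simp_all [ng])
  rw [← Matrix.mulVec_mulVec]
  by_cases hca : c = a
  · subst hca
    rw [stdr5_W_a hab hab' (-1) h1, Matrix.mulVec_smul, stdr5_W_b hab hab' u hu, smul_smul]
    unfold dhs
    rw [if_pos (Or.inl rfl)]
    congr 1
    rw [inv_neg, inv_one, neg_neg, one_mul]
  · by_cases hcnb : c = ng b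
    · subst hcnb
      rw [stdr5_W_nb hab hab' (-1) h1, Matrix.mulVec_smul, stdr5_W_na hab hab' u hu, smul_smul]
      unfold dhs
      rw [if_pos (Or.inr rfl)]
      congr 1
      rw [inv_neg, inv_one]
      ring
    · by_cases hcb : c = b
      · subst hcb
        rw [stdr5_W_b hab hab' (-1) h1, Matrix.mulVec_smul, stdr5_W_a hab hab' u hu, smul_smul]
        unfold dhs
        rw [if_neg (by tauto), if_pos (Or.inl rfl)]
        congr 1
        ring
      · by_cases hcna : c = ng a
        · subst hcna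
          rw [stdr5_W_na hab hab' (-1) h1, Matrix.mulVec_smul, stdr5_W_nb hab hab' u hu, smul_smul]
          unfold dhs
          rw [if_neg (by tauto), if_pos (Or.inr rfl)]
          congr 1
          ring
        · rw [stdr5_W_of_ne hab hab' (-1) h1 hca hcb hcna hcnb, stdr5_W_of_ne hab hab' u hu hca hcb hcna hcnb]
          unfold dhs
          rw [if_neg (by tauto), if_neg (by tauto), one_smul]

/-- the `Td`-word of a torus element is diagonal -/
theorem spm2t12_diag {l : Type*} [Fintype l] [DecidableEq l] {K : Type*} [Field K]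
    {a b : l ⊕ l} (hab : a ≠ b) (hab' : a ≠ ng b) (u : K) (hu : u ≠ 0) :
    (Td a b u * Td b a (-u⁻¹) * Td a b u) * (Td a b (-1) * Td b a (-(-1 : K)⁻¹) * Td a b (-1)) =
      Matrix.diagonal (dhs a b u) := by
  ext i c
  have h := congrFun (spm2t12_mulVec hab hab' u hu c) i
  unfold ev at h
  rw [Matrix.mulVec_single_one] at h
  rw [Matrix.col_apply] at h
  rw [h, Matrix.diagonal_apply, Pi.smul_apply, Pi.single_apply, smul_eq_mul]
  by_cases hic : i = c
  · subst hic; simp
  · simp [hic]

namespace CovM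

variable {m : ℕ} {F : Type u} [Field F] [Fintype F] {A B : F} [Fact (∀ r : F, r ^ 2 ≠ -B + A * r)] {G : Type v} [Group G] (C : CovM m F A B G)

/-- T12 [S-M]  the matrix of a long torus element: block diagonal, `diagonal (dhs a b u)` on the hyperbolic part and `1` on the anisotropic plane.  Model SPN T12 (`Helper18/SPNT12.lean`).  Either from the `R0` rows of
STM part 3 at `R = C.rep` (`rep_M`, `rep_Em`; the action of `R.M (S.h a b u)` on the basis vectors), or: `TmL a b t = embMm (Td a b t)` (OMN V2 `embMm_Td`), `embHomm` is multiplicative (`Helper12.OMN.Defs`), and the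
`Td`-word of `h a b u` is `diagonal (dhs a b u)` (`Helper18.STDR5` at the matrix system `matSys` of `Helper28.CTDM1f` with the representation of `Helper28.CTDG1`, as in `Helper18/SPNT12.lean`). -/
theorem omat_h {a b : Fin m ⊕ Fin m} (hab : a ≠ b) (hab' : a ≠ ng b) (u : F) (hu : u ≠ 0) :
    omatM (C.π (C.S.h a b u)) = Matrix.fromBlocks (Matrix.diagonal (dhs a b u)) 0 0 1 := by
  have hba : b ≠ a := hab.symm
  have hba' : b ≠ ng a := fun h => hab' (by rw [h]; cases a <;> rfl)
  have e : ∀ X Y : Matrix (Fin m ⊕ Fin m) (Fin m ⊕ Fin m) F,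
      Cfsg.Agent.Lib.Helper12.OMN.embMm X * Cfsg.Agent.Lib.Helper12.OMN.embMm Y = Cfsg.Agent.Lib.Helper12.OMN.embMm (X * Y) :=
    fun X Y => (map_mul (Cfsg.Agent.Lib.Helper12.OMN.embHomm F (Fin m)) X Y).symm
  unfold SysM.h SysD.h SysD.w
  simp only [map_mul, omatM_mul, C.hπ a b hab hab', C.hπ b a hba hba']
  simp only [← Cfsg.Agent.Lib.Helper12.OMN.embMm_Td, e]
  rw [spm2t12_diag hab hab' u hu]
  rfl

end CovM

end T

end Cfsg.Agent.Lib.Lead.SPM2
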