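import Mathlib
import Cfsg.Agent.Lib.Lead.SPM2.Defs
import Cfsg.Agent.Lib.Helper20.STMR5s

/-!
# Project SPM2 (designer lead), row T13 (helper28), verbatim vs `SPM2/Skel`: `CovM.omat_hs_unit`
(on the rows R5t of STM part 3, `Helper20.STMR5s`, at `R = C.rep`)
-/

set_option autoImplicit false

namespace Cfsg.Agent.Lib.Lead.SPM2

open Cfsg.Agent.Lib.helper15.St2 Cfsg.Agent.Lib.helper3.STC Cfsg.Agent.Lib.Lead.STD Cfsg.Agent.Lib.helper17.STM
  Cfsg.Agent.Lib.Lead.SPN Cfsg.Agent.Lib.Helper16
open Cfsg.Agent.Lib.Helper12.OMN (omatM oglM omatM_mul omatM_one omatM_injective oglM_coe oglM_injective)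

universe u v w

section T

namespace CovM

variable {m : ℕ} {F : Type u} [Field F] [Fintype F] {A B : F} [Fact (∀ r : F, r ^ 2 ≠ -B + A * r)] {G : Type v} [Group G] (C : CovM m F A B G)

open Matrix in
omit [Fintype F] in
/-- the columns of the matrix of `hs a i` -/
theorem spm2t13_cols (a : Fin m ⊕ Fin m) (i : Kq F A B) (hi : i * i = -1) (hsi : star i = -i) :
    (∀ c : Fin m ⊕ Fin m, omatM (C.π (C.S.hs a i)) *ᵥ evm (Sum.inl c) = evm (Sum.inl c)) ∧
      ∀ z : Kq F A B, omatM (C.π (C.S.hs a i)) *ᵥ ew z = -ew z := by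
  have hi0 : i ≠ 0 := by
    intro h
    rw [h, mul_zero] at hi
    exact one_ne_zero (neg_eq_zero.1 hi.symm)
  have hnm : nm i = 1 := by
    apply kq_algebraMap_injective (F := F) (A := A) (B := B)
    rw [kq_algebraMap_nm, hsi, mul_neg, hi, neg_neg, map_one]
  have hdiv : i / star i = -1 := by
    rw [hsi, div_neg, div_self hi0]
  have e : ∀ x : Fin m ⊕ Fin m, Em C.rep.e x = x := C.rep_Em
  constructor
  · intro c
    rw [← C.rep_M]
    by_cases hca : c = a
    · subst hca
      have h := SysM.Rep.M_hs_fst C.rep c i hi0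
      rw [hnm, one_smul] at h
      show C.rep.M (C.S.hs c i) *ᵥ evm (Sum.inl c) = evm (Sum.inl c)
      have e2 : (Ebm C.rep.e c : Im (Fin m)) = Sum.inl c := by
        show Sum.inl (Em C.rep.e c) = Sum.inl c
        rw [e]
      rw [e2] at h
      exact h
    · by_cases hcna : c = ng a
      · subst hcna
        have h := SysM.Rep.M_hs_nfst C.rep a i hi0
        rw [hnm, inv_one, one_smul] at h
        have e2 : (Ebm C.rep.e (ng a) : Im (Fin m)) = Sum.inl (ng a) := by
          show Sum.inl (Em C.rep.e (ng a)) = Sum.inl (ng a)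
          rw [e]
        rw [e2] at h
        exact h
      · exact SysM.Rep.M_hs_of_ne C.rep a i hi0 (by rw [e]; exact hca) (by rw [e]; exact hcna)
  · intro z
    rw [← C.rep_M, SysM.Rep.M_hs_ew C.rep a i hi0 z, hdiv, neg_one_mul, ew_neg]

open Matrix in
/-- T13 [M]  the matrix of the short torus element `hs a i` for `i² = -1`, `star i = -i` (so `nm i = i * star i = 1`, `(star i)⁻¹ = i`, `i / star i = -1`): `1` on the hyperbolic part, `-1` on the anisotropic plane.
`hs a i = ws a i * ws a (-1)`, `ws a i = xs a i * xs (ng a) i * xs a i`, `ws a (-1) = xs a (-1) * xs (ng a) (-1) * xs a (-1)`; `C.hπs`; the product of the six matrices `TmS` on the vectors `e_a`, `e_{-a}`, `e_b` (`b ≠ ±a`), `ew z`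
(`TmS a u *ᵥ v = v + v_{-a} • ew u - B(v, u) • e_a - (nm u * v_{-a}) • e_a`); or the `R0` rows of STM part 3 (the matrix of `hs a u` in a representation: `e_a ↦ nm u • e_a`, `e_{-a} ↦ (nm u)⁻¹ • e_{-a}`, `ew z ↦ ew ((u / star u) * z)`). -/
theorem omat_hs_unit (a : Fin m ⊕ Fin m) (i : Kq F A B) (hi : i * i = -1) (hsi : star i = -i) :
    omatM (C.π (C.S.hs a i)) = Matrix.fromBlocks 1 0 0 (-1) := by
  obtain ⟨h1, h2⟩ := C.spm2t13_cols a i hi hsi
  ext r c
  rcases c with c | c
  · have h := congrFun (h1 c) r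
    unfold evm at h
    rw [Matrix.mulVec_single_one] at h
    rw [Matrix.col_apply] at h
    rw [h]
    rcases r with r | r
    · rw [Matrix.fromBlocks_apply₁₁, Matrix.one_apply, Pi.single_apply]
      by_cases hrc : r = c
      · subst hrc; simp
      · rw [if_neg hrc, if_neg (fun h' => hrc (Sum.inl.inj h'))]
    · rw [Matrix.fromBlocks_apply₂₁, Matrix.zero_apply, Pi.single_apply, if_neg (by simp)]
  · have hz : ∃ z : Kq F A B, (ew z : Im (Fin m) → F) = evm (Sum.inr c) := by
      fin_cases c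
      · exact ⟨1, ew_one⟩
      · exact ⟨⟨0, 1⟩, ew_omega⟩
    obtain ⟨z, hz⟩ := hz
    have h := congrFun (h2 z) r
    rw [hz] at h
    unfold evm at h
    rw [Matrix.mulVec_single_one] at h
    rw [Matrix.col_apply] at h
    rw [h]
    rcases r with r | r
    · rw [Matrix.fromBlocks_apply₁₂, Matrix.zero_apply, Pi.neg_apply, Pi.single_apply, if_neg (by simp), neg_zero]
    · rw [Matrix.fromBlocks_apply₂₂, Matrix.neg_apply, Matrix.one_apply, Pi.neg_apply, Pi.single_apply]
      by_cases hrc : r = c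
      · subst hrc; simp
      · rw [if_neg hrc, if_neg (fun h' => hrc (Sum.inr.inj h'))]

end CovM

end T

end Cfsg.Agent.Lib.Lead.SPM2
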