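import Cfsg.Agent.S5647
import Cfsg.Agent.S5645
import Cfsg.Agent.S0292

set_option autoImplicit false

open Cfsg

namespace Cfsg.Agent.Lib.Helper28.SpPair

open Matrix Cfsg.Agent.Lib.helper6 Cfsg.Agent.S5646 Cfsg.Agent.S5647

variable {m : ℕ} {F : Type*} [Field F]

theorem sf_zero_swap {u v : Fin m ⊕ Fin m → F} (h : Cfsg.sympForm m F u v = 0) :
    Cfsg.sympForm m F v u = 0 := by
  rw [sympForm_swap, h, neg_zero]

def srAct (a : F) (u v x : Fin m ⊕ Fin m → F) : Fin m ⊕ Fin m → F :=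
  x + a • (Cfsg.sympForm m F x v • u + Cfsg.sympForm m F x u • v)

theorem sr_ex (u v : Fin m ⊕ Fin m → F) (huv : Cfsg.sympForm m F u v = 0) (a : F) :
    ∃ g : Matrix.GeneralLinearGroup (Fin m ⊕ Fin m) F, g ∈ Cfsg.spGL m F ∧
      ∀ x, (g : Matrix (Fin m ⊕ Fin m) (Fin m ⊕ Fin m) F) *ᵥ x = srAct a u v x := by
  obtain ⟨t1, ht1, ht1S⟩ := tsGL (u + v) a
  obtain ⟨t2, ht2, ht2S⟩ := tsGL u (-a)
  obtain ⟨t3, ht3, ht3S⟩ := tsGL v (-a)
  have hvu := sf_zero_swap huv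
  refine ⟨t1 * t2 * t3, (Cfsg.spGL m F).mul_mem ((Cfsg.spGL m F).mul_mem ht1S ht2S) ht3S, ?_⟩
  intro x
  rw [Units.val_mul, Units.val_mul, ← Matrix.mulVec_mulVec, ← Matrix.mulVec_mulVec,
    ts_apply t3 v (-a) ht3, ts_apply t2 u (-a) ht2, ts_apply t1 (u + v) a ht1]
  unfold srAct
  simp only [sympForm_add_left, sympForm_add_right, sympForm_smul_left, sympForm_self, huv, hvu]
  module

def SR (M : Subgroup (Matrix.GeneralLinearGroup (Fin m ⊕ Fin m) F))
    (u v : Fin m ⊕ Fin m → F) : Prop :=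
  ∀ t : F, ∀ B : Matrix.GeneralLinearGroup (Fin m ⊕ Fin m) F,
    (∀ x, (B : Matrix (Fin m ⊕ Fin m) (Fin m ⊕ Fin m) F) *ᵥ x = srAct t u v x) → B ∈ M

theorem SR_conj (M : Subgroup (Matrix.GeneralLinearGroup (Fin m ⊕ Fin m) F))
    (hM : M ≤ Cfsg.spGL m F) (u v : Fin m ⊕ Fin m → F)
    (huv : Cfsg.sympForm m F u v = 0) (h : SR M u v)
    (g : Matrix.GeneralLinearGroup (Fin m ⊕ Fin m) F) (hg : g ∈ M) :
    SR M ((g : Matrix (Fin m ⊕ Fin m) (Fin m ⊕ Fin m) F) *ᵥ u)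
      ((g : Matrix (Fin m ⊕ Fin m) (Fin m ⊕ Fin m) F) *ᵥ v) := by
  intro t B hB
  obtain ⟨B0, _, hB0⟩ := sr_ex u v huv t
  have hB0M : B0 ∈ M := h t B0 hB0
  have hiso := (mem_spGL_iff g).mp (hM hg)
  have : B = g * B0 * g⁻¹ := by
    apply glx
    intro x
    rw [hB, Units.val_mul, Units.val_mul, ← Matrix.mulVec_mulVec, ← Matrix.mulVec_mulVec, hB0]
    unfold srAct
    have e1 : ∀ y, Cfsg.sympForm m F (((g⁻¹ : Matrix.GeneralLinearGroup (Fin m ⊕ Fin m) F) :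
        Matrix (Fin m ⊕ Fin m) (Fin m ⊕ Fin m) F) *ᵥ x) y =
        Cfsg.sympForm m F x ((g : Matrix (Fin m ⊕ Fin m) (Fin m ⊕ Fin m) F) *ᵥ y) := by
      intro y
      have := hiso (((g⁻¹ : Matrix.GeneralLinearGroup (Fin m ⊕ Fin m) F) :
        Matrix (Fin m ⊕ Fin m) (Fin m ⊕ Fin m) F) *ᵥ x) y
      rw [gl_cancel'] at this
      exact this.symm
    rw [e1, e1, Matrix.mulVec_add, gl_cancel', Matrix.mulVec_smul, Matrix.mulVec_add,
      Matrix.mulVec_smul, Matrix.mulVec_smul]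
  rw [this]
  exact M.mul_mem (M.mul_mem hg hB0M) (M.inv_mem hg)

theorem comm1 (A B S : Matrix.GeneralLinearGroup (Fin m ⊕ Fin m) F)
    (u v p q : Fin m ⊕ Fin m → F) (t : F)
    (huv : Cfsg.sympForm m F u v = 0) (hpq : Cfsg.sympForm m F p q = 0)
    (hup : Cfsg.sympForm m F u p = 0) (huq : Cfsg.sympForm m F u q = 0)
    (hvp : Cfsg.sympForm m F v p = 0)
    (hA : ∀ x, (A : Matrix (Fin m ⊕ Fin m) (Fin m ⊕ Fin m) F) *ᵥ x = srAct 1 u v x)
    (hB : ∀ x, (B : Matrix (Fin m ⊕ Fin m) (Fin m ⊕ Fin m) F) *ᵥ x = srAct t p q x)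
    (hS : ∀ x, (S : Matrix (Fin m ⊕ Fin m) (Fin m ⊕ Fin m) F) *ᵥ x =
      srAct (t * Cfsg.sympForm m F q v) u p x) :
    B * S * A = A * B := by
  apply glx
  intro x
  have hvu := sf_zero_swap huv
  have hqp := sf_zero_swap hpq
  have hpu := sf_zero_swap hup
  have hqu := sf_zero_swap huq
  have hpv := sf_zero_swap hvp
  have hvq : Cfsg.sympForm m F v q = - Cfsg.sympForm m F q v := sympForm_swap m v q
  rw [Units.val_mul, Units.val_mul, Units.val_mul, ← Matrix.mulVec_mulVec, ← Matrix.mulVec_mulVec,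
    ← Matrix.mulVec_mulVec, hA, hS, hB, hB, hA]
  unfold srAct
  simp only [sympForm_add_left, sympForm_smul_left, sympForm_self, hpq, hup, huq, hvp,
    hvu, hpu, hqu, hpv, hvq]
  module

theorem comm2 (C S T : Matrix.GeneralLinearGroup (Fin m ⊕ Fin m) F)
    (u v p : Fin m ⊕ Fin m → F) (s : F)
    (huv : Cfsg.sympForm m F u v = 0) (hup : Cfsg.sympForm m F u p = 0)
    (hC : ∀ x, (C : Matrix (Fin m ⊕ Fin m) (Fin m ⊕ Fin m) F) *ᵥ x = srAct 1 u v x)
    (hS : ∀ x, (S : Matrix (Fin m ⊕ Fin m) (Fin m ⊕ Fin m) F) *ᵥ x = srAct s u p x)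
    (hT : (T : Matrix (Fin m ⊕ Fin m) (Fin m ⊕ Fin m) F) =
      Cfsg.sympTransvection m u (2 * s * Cfsg.sympForm m F p v)) :
    C * S = S * T * C := by
  apply glx
  intro x
  have hvu := sf_zero_swap huv
  have hpu := sf_zero_swap hup
  have hvp : Cfsg.sympForm m F v p = - Cfsg.sympForm m F p v := sympForm_swap m v p
  rw [Units.val_mul, Units.val_mul, Units.val_mul, ← Matrix.mulVec_mulVec, ← Matrix.mulVec_mulVec,
    ← Matrix.mulVec_mulVec, hS, hC, hC, ts_apply T _ _ hT, hS]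
  unfold srAct
  simp only [sympForm_add_left, sympForm_smul_left, sympForm_self, huv, hup, hvu, hpu, hvp]
  module

theorem fin2_cases (i j k : Fin 2) (hij : i ≠ j) : k = i ∨ k = j := by
  omega

theorem top_ij (D : Fin 2 → Submodule F (Fin m ⊕ Fin m → F)) (hD : Cfsg.Geo.IsMDecomposition m D)
    (i j : Fin 2) (hij : i ≠ j) : D i ⊔ D j = ⊤ := by
  rw [eq_top_iff, ← hD.iSup_eq_top]
  apply iSup_le
  intro k
  rcases fin2_cases i j k hij with h | h
  · rw [h]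
    exact le_sup_left
  · rw [h]
    exact le_sup_right

theorem split_ij (D : Fin 2 → Submodule F (Fin m ⊕ Fin m → F))
    (hD : Cfsg.Geo.IsMDecomposition m D) (i j : Fin 2) (hij : i ≠ j)
    (x : Fin m ⊕ Fin m → F) : ∃ y ∈ D i, ∃ z ∈ D j, x = y + z := by
  have hx : x ∈ D i ⊔ D j := by
    rw [top_ij D hD i j hij]
    exact Submodule.mem_top
  obtain ⟨y, hy, z, hz, hyz⟩ := Submodule.mem_sup.mp hx
  exact ⟨y, hy, z, hz, hyz.symm⟩

theorem disj_ij (D : Fin 2 → Submodule F (Fin m ⊕ Fin m → F))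
    (hD : Cfsg.Geo.IsMDecomposition m D) (i j : Fin 2) (hij : i ≠ j)
    (x : Fin m ⊕ Fin m → F) (hxi : x ∈ D i) (hxj : x ∈ D j) : x = 0 :=
  (Submodule.disjoint_def.mp (hD.indep.pairwiseDisjoint hij)) x hxi hxj

theorem dual_ij (D : Fin 2 → Submodule F (Fin m ⊕ Fin m → F))
    (hD : Cfsg.Geo.IsMDecomposition m D)
    (hts : ∀ i, Cfsg.Geo.IsTotallySingularFor (Cfsg.sympForm m F) (D i))
    (i j : Fin 2) (hij : i ≠ j) (A : Submodule F (Fin m ⊕ Fin m → F)) (hA : A ≤ D i)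
    (u : Fin m ⊕ Fin m → F) (hu : u ∈ D i) (huA : u ∉ A) :
    ∃ v ∈ D j, (∀ a ∈ A, Cfsg.sympForm m F a v = 0) ∧ Cfsg.sympForm m F u v = 1 := by
  obtain ⟨y, hyA, hyu⟩ := Cfsg.Agent.S5645.dperp A u huA
  obtain ⟨y1, hy1, y2, hy2, rfl⟩ := split_ij D hD i j hij y
  refine ⟨y2, hy2, ?_, ?_⟩
  · intro a ha
    have := hyA a ha
    rw [sympForm_add_right, hts i a (hA ha) y1 hy1, zero_add] at this
    exact this
  · rw [sympForm_add_right, hts i u hu y1 hy1, zero_add] at hyu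
    exact hyu

theorem dual0 (D : Fin 2 → Submodule F (Fin m ⊕ Fin m → F))
    (hD : Cfsg.Geo.IsMDecomposition m D)
    (hts : ∀ i, Cfsg.Geo.IsTotallySingularFor (Cfsg.sympForm m F) (D i))
    (i j : Fin 2) (hij : i ≠ j)
    (u : Fin m ⊕ Fin m → F) (hu : u ∈ D i) (hu0 : u ≠ 0) :
    ∃ v ∈ D j, Cfsg.sympForm m F u v = 1 := by
  obtain ⟨v, hv, _, h⟩ := dual_ij D hD hts i j hij ⊥ bot_le u hu
    (fun h => hu0 ((Submodule.mem_bot F).mp h))
  exact ⟨v, hv, h⟩

theorem sr_mem_H (D : Fin 2 → Submodule F (Fin m ⊕ Fin m → F))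
    (hD : Cfsg.Geo.IsMDecomposition m D)
    (hts : ∀ i, Cfsg.Geo.IsTotallySingularFor (Cfsg.sympForm m F) (D i))
    (i j : Fin 2) (hij : i ≠ j) (u v : Fin m ⊕ Fin m → F) (hu : u ∈ D i) (hv : v ∈ D j)
    (a : F) (g : Matrix.GeneralLinearGroup (Fin m ⊕ Fin m) F) (hgS : g ∈ Cfsg.spGL m F)
    (hg : ∀ x, (g : Matrix (Fin m ⊕ Fin m) (Fin m ⊕ Fin m) F) *ᵥ x = srAct a u v x) :
    g ∈ Cfsg.Geo.decompositionStabilizer D ⊓ Cfsg.spGL m F := by
  refine Subgroup.mem_inf.mpr ⟨?_, hgS⟩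
  apply stab_of_maps D hD.finrank_eq g 1
  intro k x hx
  rw [hg, Equiv.Perm.one_apply]
  unfold srAct
  rcases fin2_cases i j k hij with h | h
  · subst h
    rw [hts k x hx u hu, zero_smul, add_zero]
    exact (D k).add_mem hx ((D k).smul_mem _ ((D k).smul_mem _ hu))
  · subst h
    rw [hts k x hx v hv, zero_smul, zero_add]
    exact (D k).add_mem hx ((D k).smul_mem _ ((D k).smul_mem _ hv))

theorem SR_of_H (D : Fin 2 → Submodule F (Fin m ⊕ Fin m → F))
    (hD : Cfsg.Geo.IsMDecomposition m D)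
    (hts : ∀ i, Cfsg.Geo.IsTotallySingularFor (Cfsg.sympForm m F) (D i))
    (M : Subgroup (Matrix.GeneralLinearGroup (Fin m ⊕ Fin m) F))
    (hHM : Cfsg.Geo.decompositionStabilizer D ⊓ Cfsg.spGL m F ≤ M)
    (i j : Fin 2) (hij : i ≠ j) (u v : Fin m ⊕ Fin m → F) (hu : u ∈ D i) (hv : v ∈ D j)
    (huv : Cfsg.sympForm m F u v = 0) : SR M u v := by
  intro t B hB
  obtain ⟨B0, hB0S, hB0⟩ := sr_ex u v huv t
  have : B = B0 := by
    apply glx
    intro x
    rw [hB, hB0]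
  rw [this]
  exact hHM (sr_mem_H D hD hts i j hij u v hu hv t B0 hB0S hB0)

theorem trans_H (D : Fin 2 → Submodule F (Fin m ⊕ Fin m → F))
    (hD : Cfsg.Geo.IsMDecomposition m D)
    (hts : ∀ i, Cfsg.Geo.IsTotallySingularFor (Cfsg.sympForm m F) (D i))
    (M : Subgroup (Matrix.GeneralLinearGroup (Fin m ⊕ Fin m) F)) (hM : M ≤ Cfsg.spGL m F)
    (hHM : Cfsg.Geo.decompositionStabilizer D ⊓ Cfsg.spGL m F ≤ M)
    (i j : Fin 2) (hij : i ≠ j) (u u2 : Fin m ⊕ Fin m → F) (hu : u ∈ D i) (hu2 : u2 ∈ D i)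
    (hu0 : u ≠ 0) (hX : XX M u) : XX M u2 := by
  by_cases hspan : u2 ∈ Submodule.span F {u}
  · obtain ⟨c, rfl⟩ := Submodule.mem_span_singleton.mp hspan
    exact X_smul M u hX c
  · have hw : u2 - u ∈ D i := (D i).sub_mem hu2 hu
    have hnot : u ∉ Submodule.span F {u2 - u} := by
      intro h
      obtain ⟨c, hc⟩ := Submodule.mem_span_singleton.mp h
      have hc0 : c ≠ 0 := by
        rintro rfl
        rw [zero_smul] at hc
        exact hu0 hc.symm
      apply hspan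
      rw [Submodule.mem_span_singleton]
      refine ⟨c⁻¹ * (1 + c), ?_⟩
      have : c • u2 = (1 + c) • u := by
        rw [smul_sub] at hc
        rw [add_smul, one_smul]
        exact sub_eq_iff_eq_add.mp hc
      rw [mul_smul, ← this, smul_smul, inv_mul_cancel₀ hc0, one_smul]
    obtain ⟨v, hv, hvA, hvu⟩ := dual_ij D hD hts i j hij (Submodule.span F {u2 - u})
      (by rw [Submodule.span_le, Set.singleton_subset_iff]; exact hw) u hu hnot
    have hwv : Cfsg.sympForm m F (u2 - u) v = 0 := hvA _ (Submodule.mem_span_singleton_self _)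
    obtain ⟨h, hhS, hh⟩ := sr_ex (u2 - u) v hwv 1
    have hhM : h ∈ M := hHM (sr_mem_H D hD hts i j hij _ v hw hv 1 h hhS hh)
    have := XX_conj M hM u hX h hhM
    rw [hh] at this
    unfold srAct at this
    rw [hvu, hts i u hu _ hw, zero_smul, add_zero, one_smul, one_smul] at this
    have e : u + (u2 - u) = u2 := by abel
    rw [e] at this
    exact this

def sfL (a : Fin m ⊕ Fin m → F) : (Fin m ⊕ Fin m → F) →ₗ[F] F where
  toFun x := Cfsg.sympForm m F x a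
  map_add' x y := sympForm_add_left m x y a
  map_smul' c x := by
    rw [sympForm_smul_left]
    rfl

theorem avoid {V : Type*} [AddCommGroup V] [Module F V] [FiniteDimensional F V] {k : ℕ}
    (W S : Submodule F V) (φ : Fin k → (V →ₗ[F] F))
    (h : Module.finrank F S + k < Module.finrank F W) :
    ∃ w ∈ W, (∀ i, φ i w = 0) ∧ w ∉ S := by
  obtain ⟨Φ, hΦ⟩ : ∃ Φ : W →ₗ[F] (Fin k → F), ∀ w i, Φ w i = φ i w :=
    ⟨(LinearMap.pi φ).domRestrict W, fun w i => rfl⟩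
  have h1 := LinearMap.finrank_range_add_finrank_ker Φ
  have h2 : Module.finrank F (LinearMap.range Φ) ≤ k := by
    have := Submodule.finrank_le (LinearMap.range Φ)
    rw [Module.finrank_fin_fun] at this
    exact this
  have h3 : Module.finrank F ((LinearMap.ker Φ).map W.subtype) =
      Module.finrank F (LinearMap.ker Φ) :=
    (Submodule.equivMapOfInjective W.subtype W.injective_subtype (LinearMap.ker Φ)).finrank_eq.symm
  have hnot : ¬ (LinearMap.ker Φ).map W.subtype ≤ S := by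
    intro hle
    have := Submodule.finrank_mono hle
    omega
  obtain ⟨x, hx, hxS⟩ := SetLike.not_le_iff_exists.mp hnot
  obtain ⟨w, hw, rfl⟩ := hx
  refine ⟨w, w.2, ?_, hxS⟩
  intro i
  have := congrFun (LinearMap.mem_ker.mp hw) i
  rw [hΦ] at this
  exact this

theorem finrank_pair_le {V : Type*} [AddCommGroup V] [Module F V] (a b : V) :
    Module.finrank F (Submodule.span F ({a, b} : Set V)) ≤ 2 := by
  classical
  have h := finrank_span_finset_le_card (R := F) ({a, b} : Finset V)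
  rw [Finset.coe_insert, Finset.coe_singleton] at h
  exact h.trans Finset.card_le_two

theorem core (D : Fin 2 → Submodule F (Fin m ⊕ Fin m → F))
    (hD : Cfsg.Geo.IsMDecomposition m D)
    (hts : ∀ i, Cfsg.Geo.IsTotallySingularFor (Cfsg.sympForm m F) (D i))
    (hm : 5 ≤ m) (h2 : (2 : F) ≠ 0)
    (M : Subgroup (Matrix.GeneralLinearGroup (Fin m ⊕ Fin m) F)) (hM : M ≤ Cfsg.spGL m F)
    (hHM : Cfsg.Geo.decompositionStabilizer D ⊓ Cfsg.spGL m F ≤ M)
    (a b : Fin 2) (hab : a ≠ b) (p q pa pb qa qb : Fin m ⊕ Fin m → F)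
    (hpa : pa ∈ D a) (hpb : pb ∈ D b) (hqa : qa ∈ D a) (hqb : qb ∈ D b)
    (hp : p = pa + pb) (hq : q = qa + qb) (hpq : Cfsg.sympForm m F p q = 0)
    (hpa0 : pa ≠ 0) (hqa' : qa ∉ Submodule.span F {pa}) (hSR : SR M p q) :
    ∃ u ∈ D a, u ≠ 0 ∧ XX M u := by
  obtain ⟨u, hu, hφ, huS⟩ := avoid (D a) (Submodule.span F {pa, qa}) ![sfL pb, sfL qb] (by
    have := finrank_pair_le (F := F) pa qa
    rw [hD.finrank_eq a]
    omega)
  have h0 : Cfsg.sympForm m F u pb = 0 := hφ 0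
  have h1 : Cfsg.sympForm m F u qb = 0 := hφ 1
  have hu0 : u ≠ 0 := by
    rintro rfl
    exact huS (Submodule.zero_mem _)
  have hup : Cfsg.sympForm m F u p = 0 := by
    rw [hp, sympForm_add_right, hts a u hu pa hpa, h0, add_zero]
  have huq : Cfsg.sympForm m F u q = 0 := by
    rw [hq, sympForm_add_right, hts a u hu qa hqa, h1, add_zero]
  have hnot : qa ∉ Submodule.span F {u, pa} := by
    intro h
    obtain ⟨α, β, hαβ⟩ := Submodule.mem_span_pair.mp h
    by_cases hα : α = 0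
    · subst hα
      rw [zero_smul, zero_add] at hαβ
      exact hqa' (Submodule.mem_span_singleton.mpr ⟨β, hαβ⟩)
    · apply huS
      rw [Submodule.mem_span_pair]
      refine ⟨-(α⁻¹ * β), α⁻¹, ?_⟩
      rw [← hαβ, smul_add, smul_smul, smul_smul, inv_mul_cancel₀ hα, one_smul, neg_smul]
      abel
  obtain ⟨v, hv, hvA, hvq⟩ := dual_ij D hD hts a b hab (Submodule.span F {u, pa}) (by
    rw [Submodule.span_le]
    intro x hx
    rcases hx with rfl | rfl
    · exact hu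
    · exact hpa) qa hqa hnot
  have huv : Cfsg.sympForm m F u v = 0 :=
    hvA u (Submodule.subset_span (Set.mem_insert _ _))
  have hpav : Cfsg.sympForm m F pa v = 0 :=
    hvA pa (Submodule.subset_span (Set.mem_insert_of_mem _ rfl))
  have hpv : Cfsg.sympForm m F p v = 0 := by
    rw [hp, sympForm_add_left, hpav, hts b pb hpb v hv, add_zero]
  have hqv : Cfsg.sympForm m F q v = 1 := by
    rw [hq, sympForm_add_left, hvq, hts b qb hqb v hv, add_zero]
  have hnot' : pa ∉ Submodule.span F {u} := by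
    intro h
    obtain ⟨α, hα⟩ := Submodule.mem_span_singleton.mp h
    have hα0 : α ≠ 0 := by
      rintro rfl
      rw [zero_smul] at hα
      exact hpa0 hα.symm
    apply huS
    rw [Submodule.mem_span_pair]
    refine ⟨α⁻¹, 0, ?_⟩
    rw [← hα, smul_smul, inv_mul_cancel₀ hα0, one_smul, zero_smul, add_zero]
  obtain ⟨v', hv', hvA', hvp'⟩ := dual_ij D hD hts a b hab (Submodule.span F {u}) (by
    rw [Submodule.span_le, Set.singleton_subset_iff]
    exact hu) pa hpa hnot'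
  have huv' : Cfsg.sympForm m F u v' = 0 := hvA' u (Submodule.mem_span_singleton_self _)
  have hpv' : Cfsg.sympForm m F p v' = 1 := by
    rw [hp, sympForm_add_left, hvp', hts b pb hpb v' hv', add_zero]
  have hSRuv : SR M u v := SR_of_H D hD hts M hHM a b hab u v hu hv huv
  have hSRuv' : SR M u v' := SR_of_H D hD hts M hHM a b hab u v' hu hv' huv'
  have hSRup : SR M u p := by
    intro t S hS
    obtain ⟨A, _, hA⟩ := sr_ex u v huv 1
    have hAM : A ∈ M := hSRuv 1 A hA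
    obtain ⟨B, _, hB⟩ := sr_ex p q hpq t
    have hBM : B ∈ M := hSR t B hB
    have hc := comm1 A B S u v p q t huv hpq hup huq (sf_zero_swap hpv) hA hB (by
      intro x
      rw [hqv, mul_one]
      exact hS x)
    have : S = B⁻¹ * (A * B) * A⁻¹ := by
      rw [← hc]
      group
    rw [this]
    exact M.mul_mem (M.mul_mem (M.inv_mem hBM) (M.mul_mem hAM hBM)) (M.inv_mem hAM)
  refine ⟨u, hu, hu0, ?_⟩
  intro c g hg
  obtain ⟨C, _, hC⟩ := sr_ex u v' huv' 1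
  have hCM : C ∈ M := hSRuv' 1 C hC
  obtain ⟨S, _, hS⟩ := sr_ex u p hup (c / 2)
  have hSM : S ∈ M := hSRup (c / 2) S hS
  have hc := comm2 C S g u v' p (c / 2) huv' hup hC hS (by
    rw [hg, hpv', mul_one, mul_div_cancel₀ c h2])
  have : g = S⁻¹ * (C * S) * C⁻¹ := by
    rw [hc]
    group
  rw [this]
  exact M.mul_mem (M.mul_mem (M.inv_mem hSM) (M.mul_mem hCM hSM)) (M.inv_mem hCM)

theorem start (D : Fin 2 → Submodule F (Fin m ⊕ Fin m → F))
    (hD : Cfsg.Geo.IsMDecomposition m D)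
    (hts : ∀ i, Cfsg.Geo.IsTotallySingularFor (Cfsg.sympForm m F) (D i))
    (hm : 5 ≤ m) (h2 : (2 : F) ≠ 0)
    (M : Subgroup (Matrix.GeneralLinearGroup (Fin m ⊕ Fin m) F)) (hM : M ≤ Cfsg.spGL m F)
    (hHM : Cfsg.Geo.decompositionStabilizer D ⊓ Cfsg.spGL m F ≤ M)
    (g : Matrix.GeneralLinearGroup (Fin m ⊕ Fin m) F) (hgM : g ∈ M)
    (hg : g ∉ Cfsg.Geo.decompositionStabilizer D) :
    ∃ a, ∃ u ∈ D a, u ≠ 0 ∧ XX M u := by
  obtain ⟨i, p0, hp0, hspread⟩ := exists_spread D hD g hg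
  obtain ⟨j, hij⟩ : ∃ j : Fin 2, i ≠ j := by
    by_cases h : i = 0
    · exact ⟨1, by rw [h]; decide⟩
    · exact ⟨0, h⟩
  obtain ⟨pi, hpi, pj, hpj, hp⟩ := split_ij D hD i j hij
    ((g : Matrix (Fin m ⊕ Fin m) (Fin m ⊕ Fin m) F) *ᵥ p0)
  have hpi0 : pi ≠ 0 := by
    rintro rfl
    rw [zero_add] at hp
    apply hspread j
    rw [hp]
    exact hpj
  have hpj0 : pj ≠ 0 := by
    rintro rfl
    rw [add_zero] at hp
    apply hspread i
    rw [hp]
    exact hpi
  obtain ⟨q0, hq0, hφ, hq0S⟩ := avoid (D j)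
    (Submodule.span F {((g⁻¹ : Matrix.GeneralLinearGroup (Fin m ⊕ Fin m) F) :
        Matrix (Fin m ⊕ Fin m) (Fin m ⊕ Fin m) F) *ᵥ pi,
      ((g⁻¹ : Matrix.GeneralLinearGroup (Fin m ⊕ Fin m) F) :
        Matrix (Fin m ⊕ Fin m) (Fin m ⊕ Fin m) F) *ᵥ pj}) ![sfL p0] (by
    have := finrank_pair_le (F := F)
      (((g⁻¹ : Matrix.GeneralLinearGroup (Fin m ⊕ Fin m) F) :
        Matrix (Fin m ⊕ Fin m) (Fin m ⊕ Fin m) F) *ᵥ pi)
      (((g⁻¹ : Matrix.GeneralLinearGroup (Fin m ⊕ Fin m) F) :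
        Matrix (Fin m ⊕ Fin m) (Fin m ⊕ Fin m) F) *ᵥ pj)
    rw [hD.finrank_eq j]
    omega)
  have hq0p0 : Cfsg.sympForm m F q0 p0 = 0 := hφ 0
  have hp0q0 : Cfsg.sympForm m F p0 q0 = 0 := sf_zero_swap hq0p0
  have hq_not : (g : Matrix (Fin m ⊕ Fin m) (Fin m ⊕ Fin m) F) *ᵥ q0 ∉
      Submodule.span F {pi, pj} := by
    intro h
    obtain ⟨α, β, hαβ⟩ := Submodule.mem_span_pair.mp h
    apply hq0S
    rw [Submodule.mem_span_pair]
    refine ⟨α, β, ?_⟩
    rw [← Matrix.mulVec_smul, ← Matrix.mulVec_smul, ← Matrix.mulVec_add, hαβ, gl_cancel]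
  obtain ⟨qi, hqi, qj, hqj, hq⟩ := split_ij D hD i j hij
    ((g : Matrix (Fin m ⊕ Fin m) (Fin m ⊕ Fin m) F) *ᵥ q0)
  have hpq : Cfsg.sympForm m F ((g : Matrix (Fin m ⊕ Fin m) (Fin m ⊕ Fin m) F) *ᵥ p0)
      ((g : Matrix (Fin m ⊕ Fin m) (Fin m ⊕ Fin m) F) *ᵥ q0) = 0 := by
    rw [(mem_spGL_iff g).mp (hM hgM) p0 q0, hp0q0]
  have hSR : SR M ((g : Matrix (Fin m ⊕ Fin m) (Fin m ⊕ Fin m) F) *ᵥ p0)
      ((g : Matrix (Fin m ⊕ Fin m) (Fin m ⊕ Fin m) F) *ᵥ q0) :=
    SR_conj M hM p0 q0 hp0q0 (SR_of_H D hD hts M hHM i j hij p0 q0 hp0 hq0 hp0q0) g hgM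
  by_cases hqi' : qi ∈ Submodule.span F {pi}
  · have hqj' : qj ∉ Submodule.span F {pj} := by
      intro h
      apply hq_not
      obtain ⟨α, hα⟩ := Submodule.mem_span_singleton.mp hqi'
      obtain ⟨β, hβ⟩ := Submodule.mem_span_singleton.mp h
      rw [Submodule.mem_span_pair]
      exact ⟨α, β, by rw [hα, hβ, hq]⟩
    exact ⟨j, core D hD hts hm h2 M hM hHM j i hij.symm _ _ pj pi qj qi hpj hpi hqj hqi
      (by rw [hp, add_comm]) (by rw [hq, add_comm]) hpq hpj0 hqj' hSR⟩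
  · exact ⟨i, core D hD hts hm h2 M hM hHM i j hij _ _ pi pj qi qj hpi hpj hqi hqj
      hp hq hpq hpi0 hqi' hSR⟩

theorem dual_basis (D : Fin 2 → Submodule F (Fin m ⊕ Fin m → F))
    (hD : Cfsg.Geo.IsMDecomposition m D)
    (hts : ∀ i, Cfsg.Geo.IsTotallySingularFor (Cfsg.sympForm m F) (D i)) :
    ∃ (b c : Fin m → (Fin m ⊕ Fin m → F)), (∀ i, b i ∈ D 0) ∧ (∀ i, c i ∈ D 1) ∧
      (∀ i k, Cfsg.sympForm m F (b i) (c k) = if i = k then 1 else 0) ∧
      (∀ x, x = ∑ i, (Cfsg.sympForm m F x (c i) • b i - Cfsg.sympForm m F x (b i) • c i)) := by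
  classical
  obtain ⟨β⟩ : Nonempty (Module.Basis (Fin m) F (D 0)) :=
    ⟨Module.finBasisOfFinrankEq F (D 0) (hD.finrank_eq 0)⟩
  obtain ⟨b, hb⟩ : ∃ b : Fin m → (Fin m ⊕ Fin m → F), ∀ i, b i = ((β i : D 0) : Fin m ⊕ Fin m → F) :=
    ⟨fun i => ((β i : D 0) : Fin m ⊕ Fin m → F), fun i => rfl⟩
  have hbmem : ∀ i, b i ∈ D 0 := by
    intro i
    rw [hb]
    exact (β i).2
  have hli : LinearIndependent F b := by
    have := β.linearIndependent.map' (D 0).subtype (Submodule.ker_subtype _)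
    have hfun : b = (D 0).subtype ∘ β := funext (fun i => hb i)
    rw [hfun]
    exact this
  have h01 : (0 : Fin 2) ≠ 1 := by decide
  have hex : ∀ k, ∃ v ∈ D 1, (∀ a ∈ Submodule.span F (b '' {i | i ≠ k}), Cfsg.sympForm m F a v = 0) ∧
      Cfsg.sympForm m F (b k) v = 1 := by
    intro k
    apply dual_ij D hD hts 0 1 h01 _ _ (b k) (hbmem k)
    · exact hli.notMem_span_image (by simp)
    · rw [Submodule.span_le]
      rintro _ ⟨i, _, rfl⟩
      exact hbmem i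
  choose c hc hcA hc1 using hex
  have hδ : ∀ i k, Cfsg.sympForm m F (b i) (c k) = if i = k then 1 else 0 := by
    intro i k
    by_cases hik : i = k
    · rw [if_pos hik, hik]
      exact hc1 k
    · rw [if_neg hik]
      exact hcA k _ (Submodule.subset_span ⟨i, hik, rfl⟩)
  have hδ' : ∀ i k, Cfsg.sympForm m F (c i) (b k) = if i = k then -1 else 0 := by
    intro i k
    rw [sympForm_swap, hδ]
    by_cases hik : i = k
    · rw [if_pos hik, if_pos hik.symm]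
    · rw [if_neg hik, if_neg (Ne.symm hik), neg_zero]
  have hE1 : ∀ x ∈ D 0, x = ∑ i, Cfsg.sympForm m F x (c i) • b i := by
    intro x hx
    have h1 : x = ∑ i, β.repr ⟨x, hx⟩ i • b i := by
      have h := congrArg Subtype.val (β.sum_repr ⟨x, hx⟩)
      rw [Submodule.coe_sum] at h
      refine (h.symm : x = _).trans ?_
      apply Finset.sum_congr rfl
      intro i _
      rw [hb]
      rfl
    have h2 : ∀ k, Cfsg.sympForm m F x (c k) = β.repr ⟨x, hx⟩ k := by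
      intro k
      conv_lhs => rw [h1]
      rw [Cfsg.Agent.S5648.sf_sum_left]
      simp only [sympForm_smul_left, hδ, mul_ite, mul_one, mul_zero]
      rw [Finset.sum_ite_eq' Finset.univ k]
      simp
    conv_lhs => rw [h1]
    apply Finset.sum_congr rfl
    intro i _
    rw [h2]
  have hE2 : ∀ x ∈ D 1, x = - ∑ i, Cfsg.sympForm m F x (b i) • c i := by
    intro x hx
    have hy : x + ∑ i, Cfsg.sympForm m F x (b i) • c i ∈ D 1 :=
      (D 1).add_mem hx (Submodule.sum_mem _ (fun i _ => (D 1).smul_mem _ (hc i)))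
    have hyb : ∀ k, Cfsg.sympForm m F (x + ∑ i, Cfsg.sympForm m F x (b i) • c i) (b k) = 0 := by
      intro k
      rw [sympForm_add_left, Cfsg.Agent.S5648.sf_sum_left]
      simp only [sympForm_smul_left, hδ', mul_ite, mul_neg, mul_one, mul_zero]
      rw [Finset.sum_ite_eq' Finset.univ k]
      simp
    have hy0 : x + ∑ i, Cfsg.sympForm m F x (b i) • c i = 0 := by
      by_contra hne
      obtain ⟨v, hv, hv1⟩ := dual0 D hD hts 1 0 h01.symm _ hy hne
      rw [hE1 v hv, Cfsg.Agent.S5648.sf_sum_right] at hv1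
      simp only [sympForm_smul_right, hyb, mul_zero, Finset.sum_const_zero] at hv1
      exact zero_ne_one hv1
    exact eq_neg_of_add_eq_zero_left hy0
  refine ⟨b, c, hbmem, hc, hδ, ?_⟩
  intro x
  obtain ⟨x0, hx0, x1, hx1, rfl⟩ := split_ij D hD 0 1 h01 x
  have e1 : ∀ i, Cfsg.sympForm m F (x0 + x1) (c i) = Cfsg.sympForm m F x0 (c i) := by
    intro i
    rw [sympForm_add_left, hts 1 x1 hx1 (c i) (hc i), add_zero]
  have e2 : ∀ i, Cfsg.sympForm m F (x0 + x1) (b i) = Cfsg.sympForm m F x1 (b i) := by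
    intro i
    rw [sympForm_add_left, hts 0 x0 hx0 (b i) (hbmem i), zero_add]
  simp only [e1, e2]
  rw [Finset.sum_sub_distrib, ← hE1 x0 hx0, sub_eq_add_neg, ← hE2 x1 hx1]

theorem swap_ex (D : Fin 2 → Submodule F (Fin m ⊕ Fin m → F))
    (hD : Cfsg.Geo.IsMDecomposition m D)
    (hts : ∀ i, Cfsg.Geo.IsTotallySingularFor (Cfsg.sympForm m F) (D i)) :
    ∃ s : Matrix.GeneralLinearGroup (Fin m ⊕ Fin m) F,
      s ∈ Cfsg.Geo.decompositionStabilizer D ⊓ Cfsg.spGL m F ∧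
      ∀ k, ∀ x ∈ D k, (s : Matrix (Fin m ⊕ Fin m) (Fin m ⊕ Fin m) F) *ᵥ x ∈
        D (Equiv.swap 0 1 k) := by
  classical
  obtain ⟨b, c, hb, hc, hδ, hE⟩ := dual_basis D hD hts
  have hδ' : ∀ i k, Cfsg.sympForm m F (c i) (b k) = if i = k then -1 else 0 := by
    intro i k
    rw [sympForm_swap, hδ]
    by_cases hik : i = k
    · rw [if_pos hik, if_pos hik.symm]
    · rw [if_neg hik, if_neg (Ne.symm hik), neg_zero]
  obtain ⟨sL, hsL⟩ : ∃ sL : (Fin m ⊕ Fin m → F) →ₗ[F] (Fin m ⊕ Fin m → F), ∀ x,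
      sL x = ∑ i, (Cfsg.sympForm m F x (c i) • c i + Cfsg.sympForm m F x (b i) • b i) := by
    refine ⟨∑ i, ((sfL (c i)).smulRight (c i) + (sfL (b i)).smulRight (b i)), ?_⟩
    intro x
    rw [LinearMap.sum_apply]
    rfl
  have hK1 : ∀ i y, Cfsg.sympForm m F (c i) (sL y) = - Cfsg.sympForm m F y (b i) := by
    intro i y
    rw [hsL, Cfsg.Agent.S5648.sf_sum_right]
    simp only [sympForm_add_right, sympForm_smul_right, hts 1 (c i) (hc i) (c _) (hc _), hδ',
      mul_zero, zero_add, mul_ite, mul_neg, mul_one]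
    rw [Finset.sum_ite_eq Finset.univ i]
    simp
  have hK2 : ∀ i y, Cfsg.sympForm m F (b i) (sL y) = Cfsg.sympForm m F y (c i) := by
    intro i y
    rw [hsL, Cfsg.Agent.S5648.sf_sum_right]
    simp only [sympForm_add_right, sympForm_smul_right, hts 0 (b i) (hb i) (b _) (hb _), hδ,
      mul_zero, add_zero, mul_ite, mul_one]
    rw [Finset.sum_ite_eq Finset.univ i]
    simp
  have hpres : ∀ x y, Cfsg.sympForm m F (sL x) (sL y) = Cfsg.sympForm m F x y := by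
    intro x y
    conv_rhs => rw [hE x]
    conv_lhs => rw [hsL x]
    rw [Cfsg.Agent.S5648.sf_sum_left, Cfsg.Agent.S5648.sf_sum_left]
    apply Finset.sum_congr rfl
    intro i _
    rw [sympForm_add_left, sympForm_sub_left, sympForm_smul_left, sympForm_smul_left,
      sympForm_smul_left, sympForm_smul_left, hK1, hK2, sympForm_swap m (b i) y,
      sympForm_swap m (c i) y]
    ring
  have hS : LinearMap.toMatrix' sL ∈ Matrix.symplecticGroup (Fin m) F := by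
    rw [mem_symplecticGroup_iff_sympForm]
    intro u v
    rw [LinearMap.toMatrix'_mulVec, LinearMap.toMatrix'_mulVec]
    exact hpres u v
  obtain ⟨s, hs⟩ : ∃ s : Matrix.GeneralLinearGroup (Fin m ⊕ Fin m) F,
      (s : Matrix (Fin m ⊕ Fin m) (Fin m ⊕ Fin m) F) = LinearMap.toMatrix' sL :=
    ⟨MonoidHom.toHomUnits (Matrix.symplecticGroup (Fin m) F).subtype ⟨_, hS⟩, rfl⟩
  have hsx : ∀ x, (s : Matrix (Fin m ⊕ Fin m) (Fin m ⊕ Fin m) F) *ᵥ x = sL x := by
    intro x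
    rw [hs, LinearMap.toMatrix'_mulVec]
  have hmaps : ∀ k, ∀ x ∈ D k, (s : Matrix (Fin m ⊕ Fin m) (Fin m ⊕ Fin m) F) *ᵥ x ∈
      D (Equiv.swap 0 1 k) := by
    intro k x hx
    rw [hsx, hsL]
    rcases fin2_cases 0 1 k (by decide) with h | h
    · subst h
      rw [Equiv.swap_apply_left]
      apply Submodule.sum_mem
      intro i _
      rw [hts 0 x hx (b i) (hb i), zero_smul, add_zero]
      exact (D 1).smul_mem _ (hc i)
    · subst h
      rw [Equiv.swap_apply_right]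
      apply Submodule.sum_mem
      intro i _
      rw [hts 1 x hx (c i) (hc i), zero_smul, zero_add]
      exact (D 0).smul_mem _ (hb i)
  refine ⟨s, Subgroup.mem_inf.mpr ⟨stab_of_maps D hD.finrank_eq s (Equiv.swap 0 1) hmaps, ?_⟩,
    hmaps⟩
  rw [mem_spGL_iff]
  intro u v
  rw [hsx, hsx]
  exact hpres u v

theorem all_vec (D : Fin 2 → Submodule F (Fin m ⊕ Fin m → F))
    (hD : Cfsg.Geo.IsMDecomposition m D)
    (hts : ∀ i, Cfsg.Geo.IsTotallySingularFor (Cfsg.sympForm m F) (D i))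
    (M : Subgroup (Matrix.GeneralLinearGroup (Fin m ⊕ Fin m) F)) (hM : M ≤ Cfsg.spGL m F)
    (hall : ∀ k, ∀ u ∈ D k, XX M u) (w : Fin m ⊕ Fin m → F) : XX M w := by
  have h01 : (0 : Fin 2) ≠ 1 := by decide
  obtain ⟨w0, hw0, w1, hw1, rfl⟩ := split_ij D hD 0 1 h01 w
  by_cases hz : w0 = 0
  · rw [hz, zero_add]
    exact hall 1 w1 hw1
  · by_cases hf : Cfsg.sympForm m F w0 w1 = 0
    · obtain ⟨z, hzD, hz1⟩ := dual0 D hD hts 0 1 h01 w0 hw0 hz
      have hX1 : XX M (w0 + (w1 - z)) := by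
        apply XX_add M hM w0 (w1 - z) (hall 0 w0 hw0) (hall 1 _ ((D 1).sub_mem hw1 hzD))
        rw [sympForm_sub_right, hf, hz1]
        simp
      have hX2 : XX M (w0 + (w1 - z) + z) := by
        apply XX_add M hM _ z hX1 (hall 1 z hzD)
        rw [sympForm_add_left, hz1, hts 1 _ ((D 1).sub_mem hw1 hzD) z hzD, add_zero]
        exact one_ne_zero
      have e : w0 + (w1 - z) + z = w0 + w1 := by abel
      rw [e] at hX2
      exact hX2
    · exact XX_add M hM w0 w1 (hall 0 w0 hw0) (hall 1 w1 hw1) hf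

theorem strict (D : Fin 2 → Submodule F (Fin m ⊕ Fin m → F))
    (hD : Cfsg.Geo.IsMDecomposition m D)
    (hts : ∀ i, Cfsg.Geo.IsTotallySingularFor (Cfsg.sympForm m F) (D i)) :
    Cfsg.Geo.decompositionStabilizer D ⊓ Cfsg.spGL m F < Cfsg.spGL m F := by
  rw [SetLike.lt_iff_le_and_exists]
  refine ⟨inf_le_right, ?_⟩
  have h01 : (0 : Fin 2) ≠ 1 := by decide
  obtain ⟨u, hu, hu0⟩ := exists_ne_zero (D 0) (hD.finrank_eq 0) hD.pos
  obtain ⟨x, hx, hux⟩ := dual0 D hD hts 0 1 h01 u hu hu0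
  obtain ⟨g, hg, hgS⟩ := tsGL u (1 : F)
  refine ⟨g, hgS, ?_⟩
  rintro ⟨⟨σ, hσ⟩, _⟩
  have h1 : (g : Matrix (Fin m ⊕ Fin m) (Fin m ⊕ Fin m) F) *ᵥ x ∈ D (σ 1) := by
    rw [← hσ 1]
    exact ⟨x, hx, by rw [Matrix.toLin'_apply]⟩
  rw [ts_apply g _ _ hg, one_mul, sympForm_swap, hux, add_comm] at h1
  rcases two_comp D hD.indep 0 1 _ h01 _ _ ((D 0).smul_mem _ hu) hx h1 with h | h
  · rw [neg_smul, one_smul, neg_eq_zero] at h
    exact hu0 h
  · rw [h, sympForm_zero_right] at hux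
    exact zero_ne_one hux

theorem main [Fintype F] (hm : 7 ≤ m) (hodd : Odd (Fintype.card F))
    (D : Fin 2 → Submodule F (Fin m ⊕ Fin m → F))
    (hD : Cfsg.Geo.IsMDecomposition m D)
    (hts : ∀ i, Cfsg.Geo.IsTotallySingularFor (Cfsg.sympForm m F) (D i)) :
    Cfsg.Geo.IsMaximalIn (Cfsg.spGL m F)
      (Cfsg.Geo.decompositionStabilizer D ⊓ Cfsg.spGL m F) := by
  refine ⟨strict D hD hts, ?_⟩
  intro M hHM hM
  by_cases hMH : M ≤ Cfsg.Geo.decompositionStabilizer D ⊓ Cfsg.spGL m F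
  · left
    exact le_antisymm hMH hHM
  · right
    apply le_antisymm hM
    obtain ⟨g, hgM, hgH⟩ := SetLike.not_le_iff_exists.mp hMH
    have hg : g ∉ Cfsg.Geo.decompositionStabilizer D := fun h =>
      hgH (Subgroup.mem_inf.mpr ⟨h, hM hgM⟩)
    have h2 : (2 : F) ≠ 0 := Cfsg.Agent.S0292.two_ne_zero_of_odd rfl hodd
    obtain ⟨a, u, hu, hu0, hX⟩ := start D hD hts (by omega) h2 M hM hHM g hgM hg
    obtain ⟨b, hab⟩ : ∃ b : Fin 2, a ≠ b := by
      by_cases h : a = 0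
      · exact ⟨1, by rw [h]; decide⟩
      · exact ⟨0, h⟩
    have hDa : ∀ y ∈ D a, XX M y := fun y hy =>
      trans_H D hD hts M hM hHM a b hab u y hu hy hu0 hX
    obtain ⟨s, hsH, hs⟩ := swap_ex D hD hts
    have hsw : Equiv.swap (0 : Fin 2) 1 a = b := by
      rcases fin2_cases 0 1 a (by decide) with h | h <;> rcases fin2_cases 0 1 b (by decide) with h' | h'
      · exact absurd (h.trans h'.symm) hab
      · rw [h, h', Equiv.swap_apply_left]
      · rw [h, h', Equiv.swap_apply_right]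
      · exact absurd (h.trans h'.symm) hab
    have hsu : (s : Matrix (Fin m ⊕ Fin m) (Fin m ⊕ Fin m) F) *ᵥ u ∈ D b := by
      rw [← hsw]
      exact hs a u hu
    have hXs := XX_conj M hM u hX s (hHM hsH)
    have hDb : ∀ y ∈ D b, XX M y := fun y hy =>
      trans_H D hD hts M hM hHM b a hab.symm _ y hsu hy (gl_ne_zero s u hu0) hXs
    have hall : ∀ k, ∀ y ∈ D k, XX M y := by
      intro k y hy
      rcases fin2_cases a b k hab with h | h
      · rw [h] at hy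
        exact hDa y hy
      · rw [h] at hy
        exact hDb y hy
    apply sp_gen
    intro v c g' hg'
    exact all_vec D hD hts M hM hall v c g' hg'

end Cfsg.Agent.Lib.Helper28.SpPair
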