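import Cfsg.Agent.Lib.Helper28.UNd

set_option autoImplicit false

open Cfsg

namespace Cfsg.Agent.Lib.Helper28.UGen2

open Matrix Cfsg.Agent.Lib.Helper28.UForm Cfsg.Agent.Lib.Helper28.UGen
  Cfsg.Agent.Lib.Helper28.UNd

variable {n : ℕ} {F : Type*} [Field F] {σ : F ≃+* F} {f : (Fin n → F) → (Fin n → F) → F}

theorem two_step (hf : Cfsg.Geo.IsUnitaryForm σ f) (x y z : Fin n → F) (κ₁ κ₂ : F)
    (hκ₁ : κ₁ ≠ 0) (hκ₂ : κ₂ ≠ 0) (hσ₁ : σ κ₁ = -κ₁) (hσ₂ : σ κ₂ = -κ₂)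
    (hy : f y y = f x x) (hz : f z z = f x x) (hzx : f z x = f x x + κ₁)
    (hzy : f z y = f x x + κ₂) :
    ∃ r ∈ Ra f σ (e0 : Fin 0 → (Fin n → F)), (r : Matrix (Fin n) (Fin n) F) *ᵥ x = y := by
  have hN : σ (f x x) = f x x := f_self_fixed hf x
  have hxz : f x z = f x x - κ₁ := by
    rw [hf.herm, hzx, map_add, hN, hσ₁]
    ring
  have hyz : f y z = f x x - κ₂ := by
    rw [hf.herm, hzy, map_add, hN, hσ₂]
    ring
  obtain ⟨r1, hr1, hr1x⟩ := n1a hf x z hz.symm (by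
    rw [f_sub_left hf, f_sub_right hf, f_sub_right hf, hz, hzx, hxz]
    ring) (by
    rw [f_sub_right hf, hxz]
    intro h
    apply hκ₁
    linear_combination -h)
  obtain ⟨r2, hr2, hr2x⟩ := n1a hf z y (hz.trans hy.symm) (by
    rw [f_sub_left hf, f_sub_right hf, f_sub_right hf, hz, hzy, hyz, hy]
    ring) (by
    rw [f_sub_right hf, hzy, hz]
    intro h
    apply hκ₂
    linear_combination h)
  refine ⟨r2 * r1, Subgroup.mul_mem _ hr2 hr1, ?_⟩
  rw [Cfsg.Agent.S5643.mul_mv, hr1x, hr2x]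

theorem ex_s (hf : Cfsg.Geo.IsUnitaryForm σ f) (hn : 3 ≤ n) (x y : Fin n → F)
    (hN : f x x ≠ 0) (hy : f y y = f x x) (hD : f x x * f x x - f x y * f y x ≠ 0) :
    ∃ s, f s x = 0 ∧ f s y = 0 ∧ f s s ≠ 0 := by
  have hnd1 := nd_cons1 hf e0 nd_e0 x (perp_e0 x) hN
  have hσb : σ (f y x) = f x y := (hf.herm x y).symm
  have hσN : σ (f x x) = f x x := f_self_fixed hf x
  obtain ⟨y', hy'⟩ : ∃ y', y' = y - (f y x / f x x) • x := ⟨_, rfl⟩
  have hy'x : f y' x = 0 := by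
    rw [hy', f_sub_left hf, hf.smul_left]
    field_simp
    ring
  have hy'y' : f y' y' ≠ 0 := by
    have h1 : f y' y' = (f x x * f x x - f x y * f y x) / f x x := by
      rw [hy']
      simp only [f_sub_left hf, f_sub_right hf, hf.smul_left, f_smul_right hf, map_div₀, hσb,
        hσN, hy]
      field_simp
      ring
    rw [h1]
    exact div_ne_zero hD hN
  have hnd2 := nd_cons1 hf _ hnd1 y' ((perp_cons _ _ _).2 ⟨hy'x, perp_e0 _⟩) hy'y'
  obtain ⟨s, hs, hss⟩ := exists_noniso_perp hf _ hnd2 (by omega)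
  rw [perp_cons, perp_cons] at hs
  obtain ⟨hsy', hsx, _⟩ := hs
  refine ⟨s, hsx, ?_, hss⟩
  have h2 : y = y' + (f y x / f x x) • x := by
    rw [hy']
    abel
  rw [h2, f_add_right hf, f_smul_right hf, hsy', hsx]
  ring

theorem prescribe [Finite F] (hf : Cfsg.Geo.IsUnitaryForm σ f) (hn : 3 ≤ n) (x y : Fin n → F)
    (hN : f x x ≠ 0) (hy : f y y = f x x) (hD : f x x * f x x - f x y * f y x ≠ 0)
    (α β M : F) (hM : σ M = M) : ∃ z, f z x = α ∧ f z y = β ∧ f z z = M := by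
  obtain ⟨s, hsx, hsy, hss⟩ := ex_s hf hn x y hN hy hD
  obtain ⟨D, hDdef⟩ : ∃ D, D = f x x * f x x - f x y * f y x := ⟨_, rfl⟩
  rw [← hDdef] at hD
  obtain ⟨w, hw⟩ : ∃ w, w = ((α * f x x - β * f y x) / D) • x +
      ((β * f x x - α * f x y) / D) • y := ⟨_, rfl⟩
  have hwx : f w x = α := by
    rw [hw, hf.add_left, hf.smul_left, hf.smul_left]
    field_simp
    rw [hDdef]
    ring
  have hwy : f w y = β := by
    rw [hw, hf.add_left, hf.smul_left, hf.smul_left, hy]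
    field_simp
    rw [hDdef]
    ring
  have hsw : f s w = 0 := by
    rw [hw, f_add_right hf, f_smul_right hf, f_smul_right hf, hsx, hsy]
    ring
  have hws : f w s = 0 := f_swap_zero hf hsw
  have hfix : σ ((M - f w w) / f s s) = (M - f w w) / f s s := by
    rw [map_div₀, map_sub, hM, f_self_fixed hf, f_self_fixed hf]
  obtain ⟨c, hc⟩ := norm_surj hf _ hfix
  refine ⟨w + c • s, ?_, ?_, ?_⟩
  · rw [hf.add_left, hf.smul_left, hsx, hwx]
    ring
  · rw [hf.add_left, hf.smul_left, hsy, hwy]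
    ring
  · rw [hf.add_left, f_add_right hf, f_add_right hf, hf.smul_left, hf.smul_left,
      f_smul_right hf, f_smul_right hf, hws, hsw]
    have h1 : c * (σ c * f s s) = M - f w w := by
      rw [← mul_assoc, hc]
      field_simp
    linear_combination h1

theorem lemA [Finite F] (hf : Cfsg.Geo.IsUnitaryForm σ f) (hn : 3 ≤ n) (x y : Fin n → F)
    (hN : f x x ≠ 0) (hy : f y y = f x x) (hD : f x x * f x x - f x y * f y x ≠ 0) :
    ∃ r ∈ Ra f σ (e0 : Fin 0 → (Fin n → F)), (r : Matrix (Fin n) (Fin n) F) *ᵥ x = y := by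
  obtain ⟨κ, hκ0, hκ⟩ := exists_K0 hf
  obtain ⟨z, hzx, hzy, hzz⟩ := prescribe hf hn x y hN hy hD (f x x + κ) (f x x + κ) (f x x)
    (f_self_fixed hf x)
  exact two_step hf x y z κ κ hκ0 hκ0 hκ hκ hy hzz hzx hzy

theorem lemA' (hf : Cfsg.Geo.IsUnitaryForm σ f) (x y : Fin n → F)
    (hN : f x x ≠ 0) (hy : f y y = f x x) (hD : f x x * f x x - f x y * f y x = 0)
    (hy1 : y - (f y x / f x x) • x ≠ 0)
    (κ κ' : F) (hκ0 : κ ≠ 0) (hκ'0 : κ' ≠ 0) (hκ : σ κ = -κ) (hκ' : σ κ' = -κ') (hne : κ ≠ κ') :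
    ∃ r ∈ Ra f σ (e0 : Fin 0 → (Fin n → F)), (r : Matrix (Fin n) (Fin n) F) *ᵥ x = y := by
  obtain ⟨κ₂, hκ₂0, hκ₂, hε⟩ : ∃ κ₂, κ₂ ≠ 0 ∧ σ κ₂ = -κ₂ ∧
      (f x x + κ₂) - (f x y / f x x) * (f x x + κ) ≠ 0 := by
    by_cases h : (f x x + κ) - (f x y / f x x) * (f x x + κ) = 0
    · refine ⟨κ', hκ'0, hκ', ?_⟩
      intro h'
      apply hne
      linear_combination h - h'
    · exact ⟨κ, hκ0, hκ, h⟩
  have hx0 : x ≠ 0 := by
    intro h
    rw [h, f_zero_left hf] at hN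
    exact hN rfl
  have hyx : y ∉ Submodule.span F {x} := by
    intro h
    rw [Submodule.mem_span_singleton] at h
    obtain ⟨c, hc⟩ := h
    apply hy1
    rw [← hc, hf.smul_left]
    have : c * f x x / f x x = c := by field_simp
    rw [this, sub_self]
  obtain ⟨z0, hz0⟩ := lin_solve hf ![x, y] (li2 x y hx0 hyx) ![f x x + κ, f x x + κ₂]
  have hz0x : f z0 x = f x x + κ := by simpa using hz0 0
  have hz0y : f z0 y = f x x + κ₂ := by simpa using hz0 1
  have hσb : σ (f y x) = f x y := (hf.herm x y).symm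
  have hσN : σ (f x x) = f x x := f_self_fixed hf x
  obtain ⟨y1, hy1def⟩ : ∃ y1, y1 = y - (f y x / f x x) • x := ⟨_, rfl⟩
  have hy1x : f y1 x = 0 := by
    rw [hy1def, f_sub_left hf, hf.smul_left]
    field_simp
    ring
  have hy1y1 : f y1 y1 = 0 := by
    have h1 : f y1 y1 = (f x x * f x x - f x y * f y x) / f x x := by
      rw [hy1def]
      simp only [f_sub_left hf, f_sub_right hf, hf.smul_left, f_smul_right hf, map_div₀, hσb,
        hσN, hy]
      field_simp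
      ring
    rw [h1, hD, zero_div]
  have hy1y : f y1 y = 0 := by
    have h2 : y = y1 + (f y x / f x x) • x := by
      rw [hy1def]
      abel
    rw [h2, f_add_right hf, f_smul_right hf, hy1y1, hy1x]
    ring
  have hz0y1 : f z0 y1 = (f x x + κ₂) - (f x y / f x x) * (f x x + κ) := by
    rw [hy1def, f_sub_right hf, f_smul_right hf, map_div₀, hσb, hσN, hz0x, hz0y]
  obtain ⟨ε, hεdef⟩ : ∃ ε, ε = f z0 y1 := ⟨_, rfl⟩
  have hε0 : ε ≠ 0 := by
    rw [hεdef, hz0y1]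
    exact hε
  have hfix : σ (f x x - f z0 z0) = f x x - f z0 z0 := by
    rw [map_sub, hσN, f_self_fixed hf]
  obtain ⟨t, ht⟩ := trace_surj hf _ hfix
  obtain ⟨lam, hlam⟩ : ∃ lam, lam = σ (t / ε) := ⟨_, rfl⟩
  have hσlam : σ lam = t / ε := by rw [hlam, hf.involutive]
  have hy1z0 : f y1 z0 = σ ε := by rw [hεdef, ← hf.herm]
  refine two_step hf x y (z0 + lam • y1) κ κ₂ hκ0 hκ₂0 hκ hκ₂ hy ?_ ?_ ?_
  · rw [hf.add_left, f_add_right hf, f_add_right hf, hf.smul_left, hf.smul_left,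
      f_smul_right hf, f_smul_right hf, hy1y1, hy1z0, ← hεdef, hσlam, hlam]
    have e1 : t / ε * ε = t := by field_simp
    have e2 : σ (t / ε) * σ ε = σ t := by rw [← map_mul, e1]
    linear_combination ht + e1 + e2
  · rw [hf.add_left, hf.smul_left, hy1x, hz0x]
    ring
  · rw [hf.add_left, hf.smul_left, hy1y, hz0y]
    ring

theorem connector [Finite F] (hf : Cfsg.Geo.IsUnitaryForm σ f) (hn : 4 ≤ n) (x y : Fin n → F)
    (hN : f x x ≠ 0) : ∃ z, f z z = f x x ∧ f z x = 0 ∧ f z y = 0 := by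
  have hnd1 := nd_cons1 hf e0 nd_e0 x (perp_e0 x) hN
  have hdim := finrank_ker_ge hf ![x, y]
  obtain ⟨z0, hz0S, hz0⟩ := exists_noniso_r hf _ hnd1 (LinearMap.ker (perpMap hf ![x, y])) (by
      intro v hv
      rw [mem_ker_perpMap] at hv
      rw [perp_cons]
      refine ⟨?_, perp_e0 _⟩
      simpa using hv 0) (by omega)
  rw [mem_ker_perpMap] at hz0S
  have hz0x : f z0 x = 0 := by simpa using hz0S 0
  have hz0y : f z0 y = 0 := by simpa using hz0S 1
  have hfix : σ (f x x / f z0 z0) = f x x / f z0 z0 := by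
    rw [map_div₀, f_self_fixed hf, f_self_fixed hf]
  obtain ⟨c, hc⟩ := norm_surj hf _ hfix
  refine ⟨c • z0, ?_, ?_, ?_⟩
  · rw [hf.smul_left, f_smul_right hf, ← mul_assoc, hc]
    field_simp
  · rw [hf.smul_left, hz0x, mul_zero]
  · rw [hf.smul_left, hz0y, mul_zero]

def TwoSkew (σ : F ≃+* F) : Prop :=
  ∃ κ κ' : F, κ ≠ 0 ∧ κ' ≠ 0 ∧ σ κ = -κ ∧ σ κ' = -κ' ∧ κ ≠ κ'

theorem n1' [Finite F] (hf : Cfsg.Geo.IsUnitaryForm σ f) (hn : 3 ≤ n)
    (h4 : 4 ≤ n ∨ TwoSkew σ) (x y : Fin n → F)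
    (hxy : f x x = f y y) (hN : f x x ≠ 0) :
    ∃ r ∈ Ra f σ (e0 : Fin 0 → (Fin n → F)), (r : Matrix (Fin n) (Fin n) F) *ᵥ x = y := by
  have via : ∀ z, f z z = f x x → f z x = 0 → f z y = 0 →
      ∃ r ∈ Ra f σ (e0 : Fin 0 → (Fin n → F)), (r : Matrix (Fin n) (Fin n) F) *ᵥ x = y := by
    intro z hzz hzx hzy
    have hxz := f_swap_zero hf hzx
    obtain ⟨r1, hr1, hr1x⟩ := lemA hf hn x z hN hzz (by
      rw [hxz, zero_mul, sub_zero]
      exact mul_ne_zero hN hN)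
    obtain ⟨r2, hr2, hr2x⟩ := lemA hf hn z y (by rw [hzz]; exact hN) (by rw [hzz, hxy]) (by
      rw [hzz, hzy, zero_mul, sub_zero]
      exact mul_ne_zero hN hN)
    refine ⟨r2 * r1, Subgroup.mul_mem _ hr2 hr1, ?_⟩
    rw [Cfsg.Agent.S5643.mul_mv, hr1x, hr2x]
  rcases h4 with h4 | ⟨κ, κ', hκ0, hκ'0, hκ, hκ', hne⟩
  · obtain ⟨z, hzz, hzx, hzy⟩ := connector hf h4 x y hN
    exact via z hzz hzx hzy
  · by_cases hD : f x x * f x x - f x y * f y x = 0
    · by_cases hy1 : y - (f y x / f x x) • x = 0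
      · have hnd1 := nd_cons1 hf e0 nd_e0 x (perp_e0 x) hN
        obtain ⟨s, hs, hss⟩ := exists_noniso_perp hf _ hnd1 (by omega)
        rw [perp_cons] at hs
        have hfix : σ (f x x / f s s) = f x x / f s s := by
          rw [map_div₀, f_self_fixed hf, f_self_fixed hf]
        obtain ⟨c, hc⟩ := norm_surj hf _ hfix
        apply via (c • s)
        · rw [hf.smul_left, f_smul_right hf, ← mul_assoc, hc]
          field_simp
        · rw [hf.smul_left, hs.1, mul_zero]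
        · have h2 : y = (f y x / f x x) • x := sub_eq_zero.1 hy1
          rw [h2, f_smul_right hf, hf.smul_left, hs.1]
          ring
      · exact lemA' hf x y hN hxy.symm hD hy1 κ κ' hκ0 hκ'0 hκ hκ' hne
    · exact lemA hf hn x y hN hxy.symm hD

theorem gen' [Finite F] (hf : Cfsg.Geo.IsUnitaryForm σ f) (hn : 3 ≤ n)
    (h4 : 4 ≤ n ∨ TwoSkew σ)
    (g : Matrix.GeneralLinearGroup (Fin n) F)
    (hiso : ∀ x y, f ((g : Matrix (Fin n) (Fin n) F) *ᵥ x)
      ((g : Matrix (Fin n) (Fin n) F) *ᵥ y) = f x y)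
    (hSL : g ∈ Cfsg.Geo.specialLinear (Fin n) F) : g ∈ Subgroup.closure (UT f σ) := by
  rcases Nat.even_or_odd n with he | ho
  · exact gen hf (Or.inl ⟨he, by omega⟩) g hiso hSL
  · apply Ra_e0_le
    have hg0 : g ∈ GA f (e0 : Fin 0 → (Fin n → F)) := ⟨hiso, hSL, fun i => Fin.elim0 i⟩
    obtain ⟨k, hk⟩ := ho
    obtain ⟨s, _, hs⟩ := exists_noniso_perp hf (e0 : Fin 0 → (Fin n → F)) nd_e0 (by omega)
    have hfix : σ (1 / f s s) = 1 / f s s := by
      rw [map_div₀, map_one, f_self_fixed hf]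
    obtain ⟨c, hc⟩ := norm_surj hf _ hfix
    have hx1 : f (c • s) (c • s) = 1 := by
      rw [hf.smul_left, f_smul_right hf, ← mul_assoc, hc]
      field_simp
    obtain ⟨r, hr, hrx⟩ := n1' hf hn h4 ((g : Matrix (Fin n) (Fin n) F) *ᵥ (c • s)) (c • s)
      (by rw [hiso]) (by rw [hiso, hx1]; exact one_ne_zero)
    have hrg : r * g ∈ GA f (e0 : Fin 0 → (Fin n → F)) :=
      Subgroup.mul_mem _ (Ra_le_GA hf e0 hr) hg0
    have hnd := nd_cons1 hf e0 nd_e0 (c • s) (perp_e0 _) (by rw [hx1]; exact one_ne_zero)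
    have hrg' : r * g ∈ GA f (Fin.cons (c • s) e0 : Fin (0 + 1) → (Fin n → F)) := by
      refine ⟨hrg.1, hrg.2.1, fun j => ?_⟩
      refine Fin.cases ?_ (fun j' => Fin.elim0 j') j
      rw [Cfsg.Agent.S5643.mul_mv]
      simpa using hrx
    have h1 := even_ind hf (k - 1) _ hnd (by omega) (r * g) hrg'
    have h2 : r * g ∈ Ra f σ (e0 : Fin 0 → (Fin n → F)) :=
      Ra_mono e0 _ (fun y _ => perp_e0 y) h1
    have : g = r⁻¹ * (r * g) := by group
    rw [this]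
    exact Subgroup.mul_mem _ (Subgroup.inv_mem _ hr) h2

end Cfsg.Agent.Lib.Helper28.UGen2
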