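import Mathlib
import Cfsg.Agent.Lib.helper3.T2E.Defs3
import Cfsg.Agent.Lib.helper8.ChevTwE6H16

/-!
# T2E row R2 (`rel_SS`), CORE on the statements of D13b `comm_SS`, C3 `CLm_pairs` at `(42, 57)` and a separating torus
element (helper28).  Also the abstract lemma `t2er2h28_abs` (defect of a commutator relation, additive in the second
variable, invariant under a scalar `c ≠ 1`, is trivial), reusable for R1.
-/

set_option autoImplicit false

namespace Cfsg.Agent.Lib.helper3.T2E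

open Cfsg.Lie Cfsg.Lie.ChevalleyDatum Matrix
open Cfsg.Agent.Lib.helper8 Cfsg.Agent.Lib.Helper10.TEM Cfsg.Agent.Lib.helper7.Ce
  Cfsg.Agent.Lib.helper15.St2

universe u

section Abs

variable {Γ' : Type*} [Group Γ'] {F : Type*} [Field F]

/-- additivity of the defect in the second variable (group identity) -/
theorem t2er2h28_aux_right (a b b' c1 c2 : Γ')
    (hz2 : ∀ g, (cm a b' * c2⁻¹) * g = g * (cm a b' * c2⁻¹)) (hbc : b * c2 = c2 * b) :
    cm a (b * b') * (c1 * c2)⁻¹ = (cm a b * c1⁻¹) * (cm a b' * c2⁻¹) := by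
  have e1 : cm a b' = (cm a b' * c2⁻¹) * c2 := by group
  have e2 : b * cm a b' * b⁻¹ = (cm a b' * c2⁻¹) * c2 := by
    calc b * cm a b' * b⁻¹ = b * ((cm a b' * c2⁻¹) * c2) * b⁻¹ := by rw [← e1]
      _ = (b * (cm a b' * c2⁻¹)) * c2 * b⁻¹ := by group
      _ = ((cm a b' * c2⁻¹) * b) * c2 * b⁻¹ := by rw [hz2 b]
      _ = (cm a b' * c2⁻¹) * (b * c2) * b⁻¹ := by group
      _ = (cm a b' * c2⁻¹) * (c2 * b) * b⁻¹ := by rw [hbc]
      _ = (cm a b' * c2⁻¹) * c2 := by group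
  calc cm a (b * b') * (c1 * c2)⁻¹ = cm a b * (b * cm a b' * b⁻¹) * (c1 * c2)⁻¹ := by rw [cm_mul_right]
    _ = cm a b * ((cm a b' * c2⁻¹) * c2) * (c1 * c2)⁻¹ := by rw [e2]
    _ = cm a b * ((cm a b' * c2⁻¹) * c1⁻¹) := by group
    _ = cm a b * (c1⁻¹ * (cm a b' * c2⁻¹)) := by rw [hz2 c1⁻¹]
    _ = (cm a b * c1⁻¹) * (cm a b' * c2⁻¹) := by group

/-- the defect `cm (A s) (B t) * (C (ε s t))⁻¹` of a commutator relation is trivial if it is central, `B`, `C` are additive, the `B t` commute with the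
`C v`, and it is invariant under `t ↦ c t` for one `c ≠ 1` -/
theorem t2er2h28_abs (A B C : F → Γ') (ε : F)
    (hB : ∀ s t, B (s + t) = B s * B t) (hC : ∀ s t, C (s + t) = C s * C t)
    (hz : ∀ s t g, (cm (A s) (B t) * (C (ε * (s * t)))⁻¹) * g = g * (cm (A s) (B t) * (C (ε * (s * t)))⁻¹))
    (hBC : ∀ t v, B t * C v = C v * B t) (c : F) (hc : c ≠ 1)
    (hinv : ∀ s t, cm (A s) (B (c * t)) * (C (ε * (s * (c * t))))⁻¹ = cm (A s) (B t) * (C (ε * (s * t)))⁻¹) :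
    ∀ s t, cm (A s) (B t) = C (ε * (s * t)) := by
  have hadd : ∀ s t t', cm (A s) (B (t + t')) * (C (ε * (s * (t + t'))))⁻¹ =
      (cm (A s) (B t) * (C (ε * (s * t)))⁻¹) * (cm (A s) (B t') * (C (ε * (s * t')))⁻¹) := by
    intro s t t'
    have e : ε * (s * (t + t')) = ε * (s * t) + ε * (s * t') := by ring
    rw [e, hC, hB]
    exact t2er2h28_aux_right (A s) (B t) (B t') (C (ε * (s * t))) (C (ε * (s * t'))) (hz s t') (hBC t _)
  have hc1 : c - 1 ≠ 0 := sub_ne_zero.2 hc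
  have hone : ∀ s t, cm (A s) (B ((c - 1) * t)) * (C (ε * (s * ((c - 1) * t))))⁻¹ = 1 := by
    intro s t
    have h1 := hadd s ((c - 1) * t) t
    have e : (c - 1) * t + t = c * t := by ring
    rw [e, hinv s t] at h1
    exact (mul_eq_right.1 h1.symm)
  intro s t
  have h2 := hone s ((c - 1)⁻¹ * t)
  rw [← mul_assoc, mul_inv_cancel₀ hc1, one_mul] at h2
  exact mul_inv_eq_one.1 h2

end Abs

variable {K : Type u} [Field K] {q : ℕ} {f : K ≃+* K} {Γ : Type u} [Group Γ]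
  {π : Γ →* ↥(twistedE6 K q)}

theorem t2er2h28_ker (hπ : IsCE π) {z : Γ} (hz : pm π z = 1) (g : Γ) : z * g = g * z := by
  have h1 : π z = 1 := by
    apply Subtype.ext
    exact hz
  exact hπ.comm_of_map_one h1 g

theorem t2er2h28_conj (γ a b c : Γ) :
    γ * (cm a b * c⁻¹) * γ⁻¹ = cm (γ * a * γ⁻¹) (γ * b * γ⁻¹) * (γ * c * γ⁻¹)⁻¹ := by
  unfold cm; group

/-- [R2] core -/
theorem t2er2h28_core (hπ : IsCE π) {L : ℕ → K → Γ}
    (hL : ∀ r < 72, IsRootLift q π r (L r))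
    (hD13b : ∃ ε : K, (ε = 1 ∨ ε = -1) ∧
      ∀ t u : K, cm (XS q 56 t) (XS q 42 u) = XS q 57 (ε * (t * u)))
    (hC3b : ∀ t u, Adm q 42 t → Adm q 57 u → CLm π (XT q 42 t) (XT q 57 u))
    (hsep : ∃ h ∈ T1 K q, h8chi chevE6 hB h 56 = 1 ∧ h8chi chevE6 hB h 42 ≠ 1 ∧
      h8chi chevE6 hB h 57 = h8chi chevE6 hB h 56 * h8chi chevE6 hB h 42) :
    ∃ ε : K, (ε = 1 ∨ ε = -1) ∧ ∀ t u : K, cm (L 56 t) (L 42 u) = L 57 (ε * (t * u)) := by
  obtain ⟨ε, hε, hrel⟩ := hD13b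
  refine ⟨ε, hε, ?_⟩
  have n56 : h8sE6 56 ≠ 56 := by decide
  have n42 : h8sE6 42 ≠ 42 := by decide
  have n57 : h8sE6 57 ≠ 57 := by decide
  have a56 : ∀ t : K, Adm q 56 t := fun t h => absurd h n56
  have a42 : ∀ t : K, Adm q 42 t := fun t h => absurd h n42
  have a57 : ∀ t : K, Adm q 57 t := fun t h => absurd h n57
  have l56 := hL 56 (by norm_num)
  have l42 := hL 42 (by norm_num)
  have l57 := hL 57 (by norm_num)
  have m56 : ∀ t, pm π (L 56 t) = XS q 56 t := fun t => by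
    rw [l56.map t (a56 t)]; unfold XT; rw [if_neg n56]
  have m42 : ∀ t, pm π (L 42 t) = XS q 42 t := fun t => by
    rw [l42.map t (a42 t)]; unfold XT; rw [if_neg n42]
  have m57 : ∀ t, pm π (L 57 t) = XS q 57 t := fun t => by
    rw [l57.map t (a57 t)]; unfold XT; rw [if_neg n57]
  have hz : ∀ s t g, (cm (L 56 s) (L 42 t) * (L 57 (ε * (s * t)))⁻¹) * g =
      g * (cm (L 56 s) (L 42 t) * (L 57 (ε * (s * t)))⁻¹) := by
    intro s t g
    apply t2er2h28_ker hπ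
    rw [map_mul, map_inv, map_cm, m56, m42, m57, hrel, mul_inv_cancel]
  obtain ⟨h, hh, h56, h42, h57⟩ := hsep
  obtain ⟨γ, hγ⟩ := hπ.surj ⟨h, hh.2⟩
  have hpm : pm π γ = h := by
    show ((π γ : ↥(twistedE6 K q)) : GG K) = h
    rw [hγ]
  have hdiag : pm π γ ∈ chevE6.diagonalSubgroup K := by rw [hpm]; exact hh.1
  apply t2er2h28_abs (L 56) (L 42) (L 57) ε (fun s t => l42.add s t (a42 s) (a42 t))
    (fun s t => l57.add s t (a57 s) (a57 t)) hz
    (fun t v => hC3b t v (a42 t) (a57 v) (L 42 t) (L 57 v) (l42.map t (a42 t)) (l57.map v (a57 v)))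
    (h8chi chevE6 hB h 42) h42
  intro s t
  have hcen := hz s t γ⁻¹
  have e1 : cm (L 56 s) (L 42 t) * (L 57 (ε * (s * t)))⁻¹ =
      γ * (cm (L 56 s) (L 42 t) * (L 57 (ε * (s * t)))⁻¹) * γ⁻¹ := by
    rw [mul_assoc, hcen]; group
  rw [e1, t2er2h28_conj, l56.tor γ hdiag s (a56 s), l42.tor γ hdiag t (a42 t),
    l57.tor γ hdiag _ (a57 _), hpm, h57, h56, one_mul, one_mul]
  congr 3
  ring

/-- the separating torus element `HT q 39 c`, `c ∈ k`, `c ≠ 0, 1`, from the statements of S0, D10b, D10c, D9 -/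
theorem t2er2h28_sep
    (hS0 : ∃ c : K, c ≠ 0 ∧ c ≠ 1 ∧ c ^ q = c)
    (hmem : ∀ r : ℕ, r < 72 → ∀ c : K, c ≠ 0 → Adm q r c → HT q r c ∈ T1 K q)
    (hchi : ∀ r : ℕ, r < 72 → ∀ c : K, c ≠ 0 → ∀ s : ℕ, s < 72 →
      h8chi chevE6 hB (HT q r c) s =
        if h8sE6 r = r then c ^ (h8K chevE6 r s)
        else c ^ (h8K chevE6 r s) * (c ^ q) ^ (h8K chevE6 (h8sE6 r) s))
    (hadd : ∀ h : GG K, h ∈ chevE6.diagonalSubgroup K → ∀ a b c : ℕ, a < 72 → b < 72 → c < 72 →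
      (∀ i < 6, (chevE6.coroot.getD c #[]).getD i 0 =
        (chevE6.coroot.getD a #[]).getD i 0 + (chevE6.coroot.getD b #[]).getD i 0) →
      h8chi chevE6 hB h c = h8chi chevE6 hB h a * h8chi chevE6 hB h b) :
    ∃ h ∈ T1 K q, h8chi chevE6 hB h 56 = 1 ∧ h8chi chevE6 hB h 42 ≠ 1 ∧
      h8chi chevE6 hB h 57 = h8chi chevE6 hB h 56 * h8chi chevE6 hB h 42 := by
  obtain ⟨c, hc0, hc1, hcq⟩ := hS0
  have f39 : h8sE6 39 = 39 := by decide
  have hT : HT q 39 c ∈ T1 K q := hmem 39 (by norm_num) c hc0 (fun _ => hcq)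
  refine ⟨HT q 39 c, hT, ?_, ?_, ?_⟩
  · rw [hchi 39 (by norm_num) c hc0 56 (by norm_num), if_pos f39]
    have : h8K chevE6 39 56 = 0 := by decide
    rw [this, zpow_zero]
  · rw [hchi 39 (by norm_num) c hc0 42 (by norm_num), if_pos f39]
    have : h8K chevE6 39 42 = -1 := by decide
    rw [this, _root_.zpow_neg, zpow_one]
    intro h
    exact hc1 (inv_eq_one.1 h)
  · apply hadd (HT q 39 c) hT.1 56 42 57 (by norm_num) (by norm_num) (by norm_num)
    decide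

end Cfsg.Agent.Lib.helper3.T2E
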