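import Cfsg.Prelude.Def_GeometricClasses

set_option autoImplicit false

open Cfsg

namespace Cfsg.Agent.Lib.Helper28.Transport

open Matrix

theorem chain_transport {G G' : Type*} [Group G] [Group G'] (φ : G →* G')
    (hφ : Function.Injective φ) (H' K' S' : Subgroup G) (S : Subgroup G')
    (hS : ∀ g, g ∈ S' ↔ φ g ∈ S) (h1 : H' ⊓ S' < K') (h2 : K' < S') :
    H'.map φ ⊓ S < K'.map φ ∧ K'.map φ < S := by
  constructor
  · rw [SetLike.lt_iff_le_and_exists]
    constructor
    · rintro x ⟨⟨g, hg, rfl⟩, hxS⟩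
      exact ⟨g, h1.le ⟨hg, (hS g).mpr hxS⟩, rfl⟩
    · obtain ⟨k, hk, hkn⟩ := SetLike.exists_of_lt h1
      refine ⟨φ k, ⟨k, hk, rfl⟩, ?_⟩
      rintro ⟨⟨g, hg, hgk⟩, _⟩
      have : g = k := hφ hgk
      rw [this] at hg
      exact hkn ⟨hg, h2.le hk⟩
  · rw [SetLike.lt_iff_le_and_exists]
    constructor
    · rintro x ⟨k, hk, rfl⟩
      exact (hS k).mp (h2.le hk)
    · obtain ⟨s, hs, hsn⟩ := SetLike.exists_of_lt h2
      refine ⟨φ s, (hS s).mp hs, ?_⟩
      rintro ⟨k, hk, hks⟩
      have : k = s := hφ hks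
      rw [this] at hk
      exact hsn hk

theorem mem_SL_iff {ι : Type} [Fintype ι] [DecidableEq ι] {F : Type*} [Field F]
    (g : Matrix.GeneralLinearGroup ι F) :
    g ∈ Cfsg.Geo.specialLinear ι F ↔ (g : Matrix ι ι F).det = 1 := by
  unfold Cfsg.Geo.specialLinear
  rw [MonoidHom.mem_ker]
  constructor
  · intro h
    have := congrArg Units.val h
    simpa using this
  · intro h
    ext
    simpa using h

theorem reindex_coe {ι κ : Type} [Fintype ι] [DecidableEq ι] [Fintype κ] [DecidableEq κ]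
    {F : Type*} [Field F] (e : κ ≃ ι) (g : Matrix.GeneralLinearGroup κ F) :
    ((Cfsg.Geo.glReindex e g : Matrix.GeneralLinearGroup ι F) : Matrix ι ι F) =
      Matrix.reindex e e (g : Matrix κ κ F) := rfl

theorem reindex_det {ι κ : Type} [Fintype ι] [DecidableEq ι] [Fintype κ] [DecidableEq κ]
    {F : Type*} [Field F] (e : κ ≃ ι) (g : Matrix.GeneralLinearGroup κ F) :
    ((Cfsg.Geo.glReindex e g : Matrix.GeneralLinearGroup ι F) : Matrix ι ι F).det =
      (g : Matrix κ κ F).det := by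
  rw [reindex_coe, Matrix.det_reindex_self]

theorem conj_det {ι : Type} [Fintype ι] [DecidableEq ι] {F : Type*} [Field F]
    (P g : Matrix.GeneralLinearGroup ι F) :
    ((MulAut.conj P g : Matrix.GeneralLinearGroup ι F) : Matrix ι ι F).det =
      (g : Matrix ι ι F).det := by
  rw [MulAut.conj_apply, Units.val_mul, Units.val_mul, Matrix.det_mul, Matrix.det_mul]
  have h1 : (P : Matrix ι ι F).det * ((P⁻¹ : Matrix.GeneralLinearGroup ι F) : Matrix ι ι F).det = 1 := by
    rw [← Matrix.det_mul, ← Units.val_mul, mul_inv_cancel, Units.val_one, Matrix.det_one]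
  calc (P : Matrix ι ι F).det * (g : Matrix ι ι F).det *
        ((P⁻¹ : Matrix.GeneralLinearGroup ι F) : Matrix ι ι F).det
      = ((P : Matrix ι ι F).det * ((P⁻¹ : Matrix.GeneralLinearGroup ι F) : Matrix ι ι F).det) *
        (g : Matrix ι ι F).det := by ring
    _ = (g : Matrix ι ι F).det := by rw [h1, one_mul]

noncomputable def tmap {ι κ : Type} [Fintype ι] [DecidableEq ι] [Fintype κ] [DecidableEq κ]
    {F : Type*} [Field F] (e : κ ≃ ι) (P : Matrix.GeneralLinearGroup ι F) :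
    Matrix.GeneralLinearGroup κ F →* Matrix.GeneralLinearGroup ι F :=
  (MulAut.conj P).toMonoidHom.comp (Cfsg.Geo.glReindex e).toMonoidHom

theorem tmap_injective {ι κ : Type} [Fintype ι] [DecidableEq ι] [Fintype κ] [DecidableEq κ]
    {F : Type*} [Field F] (e : κ ≃ ι) (P : Matrix.GeneralLinearGroup ι F) :
    Function.Injective (tmap (F := F) e P) := by
  intro a b hab
  have h1 : (MulAut.conj P) (Cfsg.Geo.glReindex e a) = (MulAut.conj P) (Cfsg.Geo.glReindex e b) := hab
  exact (Cfsg.Geo.glReindex e).injective ((MulAut.conj P).injective h1)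

theorem tmap_SL {ι κ : Type} [Fintype ι] [DecidableEq ι] [Fintype κ] [DecidableEq κ]
    {F : Type*} [Field F] (e : κ ≃ ι) (P : Matrix.GeneralLinearGroup ι F)
    (g : Matrix.GeneralLinearGroup κ F) :
    g ∈ Cfsg.Geo.specialLinear κ F ↔ tmap e P g ∈ Cfsg.Geo.specialLinear ι F := by
  rw [mem_SL_iff, mem_SL_iff]
  have : ((tmap e P g : Matrix.GeneralLinearGroup ι F) : Matrix ι ι F).det = (g : Matrix κ κ F).det := by
    change ((MulAut.conj P (Cfsg.Geo.glReindex e g) : Matrix.GeneralLinearGroup ι F) : Matrix ι ι F).det = _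
    rw [conj_det, reindex_det]
  rw [this]

theorem tensor_eq_map {ι : Type} [Fintype ι] [DecidableEq ι] {F : Type*} [Field F]
    (n₁ n₂ : ℕ) (e : ι ≃ Fin n₁ × Fin n₂) (P : Matrix.GeneralLinearGroup ι F) :
    Cfsg.Geo.tensorProductSubgroup n₁ n₂ e P =
      (Cfsg.Geo.kroneckerSubgroup n₁ n₂ F).map (tmap e.symm P) := by
  unfold Cfsg.Geo.tensorProductSubgroup tmap
  rw [Subgroup.map_map]

end Cfsg.Agent.Lib.Helper28.Transport
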