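import Cfsg.Agent.Lib.Helper28.ONdR

set_option autoImplicit false

open Cfsg

namespace Cfsg.Agent.Lib.Helper28.ONdW

open Matrix Cfsg.Agent.Lib.Helper28.HForm Cfsg.Agent.Lib.Helper28.OGen
  Cfsg.Agent.Lib.Helper28.OMax Cfsg.Agent.Lib.Helper28.OQ
  Cfsg.Agent.Lib.Helper28.OMax2 Cfsg.Agent.Lib.Helper28.OGenQ Cfsg.Agent.Lib.Helper28.OEven
  Cfsg.Agent.Lib.Helper28.OBundle Cfsg.Agent.Lib.Helper28.ONd Cfsg.Agent.Lib.Helper28.DecGen
  Cfsg.Agent.Lib.Helper28.ONd2 Cfsg.Agent.Lib.Helper28.ONdR Cfsg.Agent.S0795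

variable {n : ℕ} {F : Type*} [Field F]

theorem nd_max_unb [Fintype F] (hn : 13 ≤ n) (Q : (Fin n → F) → F)
    (hQ : Cfsg.Geo.IsNondegenerateQuadraticForm Q) (W O : Submodule F (Fin n → F))
    (hWO : Cfsg.Geo.AreOrthogonalFor (QuadraticMap.polar Q) W O) (hsup : W ⊔ O = ⊤)
    (hd : 3 ≤ Module.finrank F W) (he : Module.finrank F W + 7 ≤ n)
    (hns : ∀ g ∈ Cfsg.Geo.omegaGL Q,
      ¬ (O.map (Matrix.toLin' (g : Matrix (Fin n) (Fin n) F)) ≤ W)) :
    Cfsg.Geo.IsMaximalIn (Cfsg.Geo.omegaGL Q)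
      (Cfsg.Geo.subspaceStabilizer W ⊓ Cfsg.Geo.omegaGL Q) := by
  have hq := qf_unb Q hQ
  have vf : VFacts Q (QuadraticMap.polar Q) :=
    vfacts_quad (by omega) (bundle Q hQ) (bundle_nondeg Q hQ)
  have hG : SgGroupQ Q (QuadraticMap.polar Q) (Cfsg.Geo.omegaGL Q) :=
    sgGroupQ_quad (by omega) (bundle Q hQ) (bundle_nondeg Q hQ)
  exact nd_max3 hq vf hn hG ⟨hWO, hsup⟩ hd he hns

theorem isometric_of_map (Q : (Fin n → F) → F) (A B : Submodule F (Fin n → F))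
    (g : Matrix.GeneralLinearGroup (Fin n) F)
    (hg : ∀ x, Q ((g : Matrix (Fin n) (Fin n) F) *ᵥ x) = Q x)
    (hmap : A.map (Matrix.toLin' (g : Matrix (Fin n) (Fin n) F)) = B) :
    Cfsg.Geo.AreIsometricFor Q A B := by
  refine ⟨(Submodule.equivMapOfInjective _ (gl_inj g) A).trans (LinearEquiv.ofEq _ _ hmap), ?_⟩
  intro w
  rw [LinearEquiv.trans_apply, LinearEquiv.coe_ofEq_apply,
    Submodule.coe_equivMapOfInjective_apply, Matrix.toLin'_apply, hg]

theorem isometric_symm (Q : (Fin n → F) → F) (A B : Submodule F (Fin n → F))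
    (h : Cfsg.Geo.AreIsometricFor Q A B) : Cfsg.Geo.AreIsometricFor Q B A := by
  obtain ⟨e, he⟩ := h
  refine ⟨e.symm, fun b => ?_⟩
  rw [← he (e.symm b), LinearEquiv.apply_symm_apply]


def perpSub (f : (Fin n → F) → (Fin n → F) → F) (hf : SymF f) (W : Submodule F (Fin n → F)) :
    Submodule F (Fin n → F) where
  carrier := {x | ∀ w ∈ W, f w x = 0}
  add_mem' := fun {a b} ha hb w hw => by rw [f_add_right hf, ha w hw, hb w hw, add_zero]
  zero_mem' := fun w _ => f_zero_right hf w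
  smul_mem' := fun c x hx w hw => by rw [s_smul_right hf, hx w hw, mul_zero]

theorem mem_perpSub {f : (Fin n → F) → (Fin n → F) → F} (hf : SymF f)
    (W : Submodule F (Fin n → F)) (x : Fin n → F) :
    x ∈ perpSub f hf W ↔ ∀ w ∈ W, f w x = 0 := Iff.rfl

theorem split_perp {f : (Fin n → F) → (Fin n → F) → F} (hf : SymF f)
    (W : Submodule F (Fin n → F)) (hW : Cfsg.Geo.IsNondegenerateOn f W) :
    Split f W (perpSub f hf W) := by
  refine ⟨fun w hw o ho => ho w hw, ?_⟩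
  rw [eq_top_iff]
  intro x _
  have ha : Nd f (fun i => ((Module.finBasis F W i : W) : Fin n → F)) := by
    refine ⟨(Module.finBasis F W).linearIndependent.map' W.subtype W.ker_subtype, ?_⟩
    intro v hv hp
    rw [basis_span] at hv
    by_contra hv0
    obtain ⟨y, hyW, hy⟩ := (hW v hv hv0).2
    exact hy (perp_span hf _ v hp y (by rw [basis_span]; exact hyW))
  obtain ⟨p, hp, hxp⟩ := Cfsg.Agent.Lib.Helper28.OHull.nd_proj hf _ ha x
  rw [basis_span] at hp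
  have e : x = p + (x - p) := by abel
  rw [e]
  refine Submodule.add_mem _ (Submodule.mem_sup_left hp) (Submodule.mem_sup_right ?_)
  intro w hw
  exact perp_span' hf _ _ hxp w (by rw [basis_span]; exact hw)

theorem stab_swap {Q : (Fin n → F) → F} {f : (Fin n → F) → (Fin n → F) → F} (hq : QF Q f)
    {G : Subgroup (Matrix.GeneralLinearGroup (Fin n) F)}
    (hiso : ∀ g ∈ G, ∀ x, Q ((g : Matrix (Fin n) (Fin n) F) *ᵥ x) = Q x)
    {W O : Submodule F (Fin n → F)} (sp : Split f W O) :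
    Cfsg.Geo.subspaceStabilizer W ⊓ G ≤ Cfsg.Geo.subspaceStabilizer O ⊓ G := by
  have hf := hq.sym
  rintro g ⟨hgS, hgG⟩
  refine ⟨?_, hgG⟩
  have hgi := iso_f hq g (hiso g hgG)
  apply Cfsg.Agent.Lib.Helper28.UMax.stab_of_maps
  intro x hx
  apply sp.mem_O hf
  intro w hw
  have hw' : ((g⁻¹ : Matrix.GeneralLinearGroup (Fin n) F) : Matrix (Fin n) (Fin n) F) *ᵥ w ∈ W := by
    rw [((Cfsg.Agent.Lib.Helper28.UMax.mem_stab_iff W g).1 hgS _), Cfsg.Agent.S5643.inv_mv']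
    exact hw
  have h2 := hgi (((g⁻¹ : Matrix.GeneralLinearGroup (Fin n) F) :
    Matrix (Fin n) (Fin n) F) *ᵥ w) x
  rw [Cfsg.Agent.S5643.inv_mv'] at h2
  rw [h2]
  exact sp.orth _ hw' x hx

theorem nd_max_core [Fintype F] (hn : 13 ≤ n) (Q : QuadraticForm F (Fin n → F))
    (hQ : (QuadraticMap.polarBilin Q).Nondegenerate) {A B : Submodule F (Fin n → F)}
    (sp : Split (pf Q) A B) (hA0 : A ≠ ⊥)
    (hle : Module.finrank F A ≤ Module.finrank F B)
    (hns : Module.finrank F A = Module.finrank F B → ∀ g ∈ Cfsg.Geo.omegaGL (⇑Q),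
      ¬ (B.map (Matrix.toLin' (g : Matrix (Fin n) (Fin n) F)) ≤ A))
    (hex : Module.finrank F A = 2 → (∃ e ∈ A, e ≠ 0 ∧ Q e = 0) → 4 ≤ Fintype.card F) :
    Cfsg.Geo.IsMaximalIn (Cfsg.Geo.omegaGL (⇑Q))
      (Cfsg.Geo.subspaceStabilizer A ⊓ Cfsg.Geo.omegaGL (⇑Q)) := by
  have hq := qf_of_quad Q hQ
  have hf := hq.sym
  have vf := vfacts_quad (by omega) Q hQ
  have hG := sgGroupQ_quad (by omega) Q hQ
  have hfr := sp.finrank hf
  have hpos : 0 < Module.finrank F A := Module.finrank_pos_iff_exists_ne_zero.2 (by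
    obtain ⟨a, ha, ha0⟩ := Submodule.exists_mem_ne_zero_of_ne_bot hA0
    exact ⟨⟨a, ha⟩, fun h => ha0 (congrArg Subtype.val h)⟩)
  by_cases h1 : Module.finrank F A = 1
  · exact nd_max1 hq vf hn hG sp h1
  by_cases h2' : Module.finrank F A = 2
  · refine nd_max2 hq vf hn hG sp h2' ?_ (hex h2')
    by_cases h2 : (2 : F) = 0
    · exact fun w o hw hoo hwo => rp_char2 hq vf h2 hG w o hw hoo hwo
    · exact fun w o hw hoo hwo => rp_odd h2 Q w o hw hoo hwo
  · apply nd_max3 hq vf hn hG sp (by omega) (by omega)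
    intro g hg hmap
    by_cases heq : Module.finrank F A = Module.finrank F B
    · exact hns heq g hg hmap
    · have h3 := Submodule.finrank_mono hmap
      rw [Cfsg.Agent.Lib.Helper28.OPair.finrank_map_gl] at h3
      omega

theorem nd_max_fin [Fintype F] (hn : 13 ≤ n) (Q : QuadraticForm F (Fin n → F))
    (hQ : (QuadraticMap.polarBilin Q).Nondegenerate) (W : Submodule F (Fin n → F))
    (hW0 : W ≠ ⊥) (hW1 : W ≠ ⊤) (hW : Cfsg.Geo.IsNondegenerateOn (pf Q) W)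
    (hns : 2 * Module.finrank F W = n → ∀ g ∈ Cfsg.Geo.omegaGL (⇑Q),
      ¬ (∀ x, (∀ w ∈ W, pf Q w x = 0) → (g : Matrix (Fin n) (Fin n) F) *ᵥ x ∈ W))
    (hexW : Module.finrank F W = 2 → (∃ e ∈ W, e ≠ 0 ∧ Q e = 0) → 4 ≤ Fintype.card F)
    (hexO : Module.finrank F W + 2 = n → (∃ e, (∀ w ∈ W, pf Q w e = 0) ∧ e ≠ 0 ∧ Q e = 0) →
      4 ≤ Fintype.card F) :
    Cfsg.Geo.IsMaximalIn (Cfsg.Geo.omegaGL (⇑Q))
      (Cfsg.Geo.subspaceStabilizer W ⊓ Cfsg.Geo.omegaGL (⇑Q)) := by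
  have hq := qf_of_quad Q hQ
  have hf := hq.sym
  have hG := sgGroupQ_quad (by omega) Q hQ
  have sp := split_perp hf W hW
  have hfr := sp.finrank hf
  by_cases hle : Module.finrank F W ≤ Module.finrank F (perpSub (pf Q) hf W)
  · apply nd_max_core hn Q hQ sp hW0 hle ?_ hexW
    intro heq g hg hmap
    apply hns (by omega) g hg
    intro x hx
    exact hmap ⟨x, hx, by rw [Matrix.toLin'_apply]⟩
  · have hO0 : perpSub (pf Q) hf W ≠ ⊥ := by
      intro h
      apply hW1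
      have := sp.sup
      rw [h, sup_bot_eq] at this
      exact this
    have key : Cfsg.Geo.subspaceStabilizer W ⊓ Cfsg.Geo.omegaGL (⇑Q) =
        Cfsg.Geo.subspaceStabilizer (perpSub (pf Q) hf W) ⊓ Cfsg.Geo.omegaGL (⇑Q) :=
      le_antisymm (stab_swap hq hG.iso sp) (stab_swap hq hG.iso (sp.symm hf))
    rw [key]
    apply nd_max_core hn Q hQ (sp.symm hf) hO0 (by omega) (by omega)
    intro h2' hs
    apply hexO (by omega)
    obtain ⟨e, heO, he0, hee⟩ := hs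
    exact ⟨e, heO, he0, hee⟩


theorem Split_nd_on {f : (Fin n → F) → (Fin n → F) → F} (hf : SymF f)
    {W O : Submodule F (Fin n → F)} (sp : Split f W O) : Cfsg.Geo.IsNondegenerateOn f O := by
  intro x hxO hx0
  have h1 : ∃ y ∈ O, f y x ≠ 0 := by
    by_contra hcon
    push Not at hcon
    exact hx0 (sp.perp_all hf (fun w hw => sp.orth w hw x hxO) hcon)
  obtain ⟨y, hyO, hy⟩ := h1
  exact ⟨⟨y, hyO, hy⟩, ⟨y, hyO, f_swap_ne hf hy⟩⟩

theorem plus_of_sing (Q : (Fin n → F) → F) (hQ : Cfsg.Geo.IsNondegenerateQuadraticForm Q)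
    (U : Submodule F (Fin n → F)) (hU : Module.finrank F U = 2) (e : Fin n → F) (heU : e ∈ U)
    (he0 : e ≠ 0) (hee : Q e = 0) : Cfsg.Geo.IsPlusTypeOn Q U := by
  refine ⟨Submodule.span F {e}, (Submodule.span_singleton_le_iff_mem e U).2 heU, ?_, ?_⟩
  · intro x hx
    obtain ⟨c, rfl⟩ := Submodule.mem_span_singleton.1 hx
    rw [(qf_unb Q hQ).smul, hee, mul_zero]
  · rw [finrank_span_singleton he0, hU]

theorem nd_max_unb2 [Fintype F] (hn : 13 ≤ n) (Q : (Fin n → F) → F)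
    (hQ : Cfsg.Geo.IsNondegenerateQuadraticForm Q) (W : Submodule F (Fin n → F))
    (hW0 : W ≠ ⊥) (hW1 : W ≠ ⊤) (hW : Cfsg.Geo.IsNondegenerateOn (QuadraticMap.polar Q) W)
    (hns : 2 * Module.finrank F W = n → ∀ g ∈ Cfsg.Geo.omegaGL Q,
      ¬ (∀ x, (∀ w ∈ W, QuadraticMap.polar Q w x = 0) →
        (g : Matrix (Fin n) (Fin n) F) *ᵥ x ∈ W))
    (hex : ¬ (Fintype.card F ≤ 3 ∧ (∃ U : Submodule F (Fin n → F), Module.finrank F U = 2 ∧
      Cfsg.Geo.IsNondegenerateOn (QuadraticMap.polar Q) U ∧ Cfsg.Geo.IsPlusTypeOn Q U ∧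
      (U = W ∨ (Cfsg.Geo.AreOrthogonalFor (QuadraticMap.polar Q) U W ∧
        Module.finrank F U + Module.finrank F W = n))))) :
    Cfsg.Geo.IsMaximalIn (Cfsg.Geo.omegaGL Q)
      (Cfsg.Geo.subspaceStabilizer W ⊓ Cfsg.Geo.omegaGL Q) := by
  have hq := qf_unb Q hQ
  have hf := hq.sym
  have hmain := nd_max_fin hn (bundle Q hQ) (bundle_nondeg Q hQ) W hW0 hW1 hW hns
  apply hmain
  · intro h2 hs
    by_contra hc
    apply hex
    refine ⟨by omega, W, h2, hW, ?_, Or.inl rfl⟩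
    obtain ⟨e, heW, he0, hee⟩ := hs
    exact plus_of_sing Q hQ W h2 e heW he0 hee
  · intro h2 hs
    by_contra hc
    apply hex
    have sp := split_perp hf W hW
    have hfr := sp.finrank hf
    have hU2 : Module.finrank F (perpSub (QuadraticMap.polar Q) hf W) = 2 := by omega
    refine ⟨by omega, perpSub (QuadraticMap.polar Q) hf W, hU2, Split_nd_on hf sp, ?_, Or.inr ⟨?_, ?_⟩⟩
    · obtain ⟨e, heO, he0, hee⟩ := hs
      exact plus_of_sing Q hQ _ hU2 e heO he0 hee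
    · intro u hu v hv
      rw [s_symm hf]
      exact hu v hv
    · omega

end Cfsg.Agent.Lib.Helper28.ONdW
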