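import Cfsg.Agent.Lib.Helper28.SfG

set_option autoImplicit false

namespace Cfsg.Agent.Lib.Helper28.Sf

open Matrix

variable {n : ℕ} {F : Type*} [Field F] {F₀ : Subfield F}

/-- a subgroup containing all elementary transvections contains `SL`. -/
theorem SL_le_elem (hn : 2 ≤ n) (M : Subgroup (Matrix.GeneralLinearGroup (Fin n) F))
    (hall : ∀ i j : Fin n, i ≠ j → ∀ a : F, a ∈ AA M i j) :
    Cfsg.Geo.specialLinear (Fin n) F ≤ M := by
  intro g hg
  have hdet : (g : Matrix (Fin n) (Fin n) F).det = 1 :=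
    (Cfsg.Agent.Lib.Helper28.Transport.mem_SL_iff g).mp hg
  have hA : Matrix.SpecialLinearGroup.toGL (⟨g.val, hdet⟩ : Matrix.SpecialLinearGroup (Fin n) F)
      = g := Units.ext rfl
  rw [← hA]
  haveI : Nontrivial (Fin n) := Fin.nontrivial_iff_two_le.mpr hn
  have htr : ∀ (i j : Fin n) (hij : i ≠ j) (a : F),
      Matrix.SpecialLinearGroup.toGL (Matrix.SpecialLinearGroup.transvection hij a) ∈ M := by
    intro i j hij a
    obtain ⟨t, htM, hT⟩ := hall i j hij a
    have h2 : IsTv (Pi.single i a : Fin n → F) (Pi.single j 1)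
        (Matrix.SpecialLinearGroup.toGL (Matrix.SpecialLinearGroup.transvection hij a)) := by
      intro x
      funext k
      rw [Matrix.SpecialLinearGroup.coe_GL_coe_matrix,
        Matrix.SpecialLinearGroup.transvection_coe, Cfsg.Agent.S5631.tv_apply]
      simp [Pi.single_apply, mul_comm]
    rw [← hT.unique h2]
    exact htM
  refine Matrix.SpecialLinearGroup.diagonal_transvection_induction'
    (fun B => Matrix.SpecialLinearGroup.toGL B ∈ M) _ ?_ htr ?_
  · intro i j hij c hc
    show Matrix.SpecialLinearGroup.toGL (Matrix.SpecialLinearGroup.diag2n hij c hc) ∈ M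
    rw [Cfsg.Agent.S5631.diag_eq hij c hc]
    simp only [map_mul]
    exact M.mul_mem (M.mul_mem (M.mul_mem (htr _ _ _ _) (htr _ _ _ _)) (htr _ _ _ _))
      (htr _ _ _ _)
  · intro A B hA hB
    show Matrix.SpecialLinearGroup.toGL (A * B) ∈ M
    rw [map_mul]
    exact M.mul_mem hA hB

theorem exists_not_mem [Fintype F] {r : ℕ} (hr : r.Prime)
    (hcard : Fintype.card F = Nat.card F₀ ^ r) : ∃ a : F, a ∉ F₀ := by
  by_contra hcon
  push Not at hcon
  have htop : F₀ = ⊤ := by
    rw [eq_top_iff]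
    intro a _
    exact hcon a
  have h1 : Nat.card F₀ = Fintype.card F := by
    rw [htop, ← Nat.card_eq_fintype_card]
    exact Nat.card_congr (Subfield.topEquiv (K := F)).toEquiv
  rw [h1] at hcard
  have h2 : 2 ≤ Fintype.card F := Fintype.one_lt_card
  have h3 : Fintype.card F ^ 1 < Fintype.card F ^ r :=
    Nat.pow_lt_pow_right (by omega) hr.one_lt
  rw [pow_one] at h3
  omega

/-- the subfield group (for `P = 1`) is maximal in `SL`. -/
theorem main_one [Fintype F] (hn : 4 ≤ n) (F₀ : Subfield F) (r : ℕ) (hr : r.Prime)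
    (hcard : Fintype.card F = Nat.card F₀ ^ r) :
    Cfsg.Geo.IsMaximalIn (Cfsg.Geo.specialLinear (Fin n) F)
      (Cfsg.Geo.subfieldSubgroup F₀ (1 : Matrix.GeneralLinearGroup (Fin n) F) ⊓
        Cfsg.Geo.specialLinear (Fin n) F) := by
  classical
  obtain ⟨p, hp⟩ := CharP.exists F
  have : Fact p.Prime := ⟨CharP.char_is_prime F p⟩
  have hn3 : 3 ≤ n := by omega
  obtain ⟨i⟩ : Nonempty (Fin n) := ⟨⟨0, by omega⟩⟩
  obtain ⟨j, hji⟩ := exists_ne (by omega) i
  refine ⟨?_, ?_⟩
  · rw [SetLike.lt_iff_le_and_exists]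
    refine ⟨inf_le_right, ?_⟩
    obtain ⟨a, ha⟩ := exists_not_mem hr hcard
    obtain ⟨t, htS, htT⟩ := Cfsg.Agent.S5632.transv (Pi.single i a : Fin n → F) (Pi.single j 1)
      (sd_ne hji _ _)
    refine ⟨t, htS, fun hmem => ?_⟩
    obtain ⟨c, hc0, hrat⟩ := rat_of_mem_sub_one hmem.1
    have h1 := hrat _ (Rat.single i F₀.one_mem) i
    have h2 := hrat _ (Rat.single j F₀.one_mem) i
    rw [htT _, sd_ne hji, zero_smul, add_zero, Pi.smul_apply, Pi.single_eq_same, smul_eq_mul,
      mul_one] at h1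
    rw [htT _, sd_eq, one_mul, one_smul, Pi.smul_apply, Pi.add_apply, Pi.single_eq_same,
      Pi.single_eq_of_ne (Ne.symm hji), zero_add, smul_eq_mul] at h2
    apply ha
    have hc : c ∈ F₀ := by
      have := F₀.inv_mem h1
      rwa [inv_inv] at this
    have := F₀.mul_mem hc h2
    rwa [← mul_assoc, mul_inv_cancel₀ hc0, one_mul] at this
  · intro M hle hSL
    have C : Ctx F₀ M := ⟨hSL, hle⟩
    rcases C.AA_cases hn3 hr hcard (Ne.symm hji) with hcase | hcase
    · left
      have hA : ∀ k l : Fin n, k ≠ l → ∀ a, a ∈ AA M k l → a ∈ F₀ := by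
        intro k l hkl a ha
        exact hcase a (C.AA_sub hn3 hkl (Ne.symm hji) ha)
      apply le_antisymm _ hle
      intro g hg
      exact ⟨C.step2 p hn hA hg, hSL hg⟩
    · right
      apply le_antisymm hSL
      apply SL_le_elem (by omega)
      intro k l hkl a
      exact C.AA_sub hn3 (Ne.symm hji) hkl (hcase a)

theorem sub_eq_map (F₀ : Subfield F) (P : Matrix.GeneralLinearGroup (Fin n) F) :
    Cfsg.Geo.subfieldSubgroup F₀ P =
      (Cfsg.Geo.subfieldSubgroup F₀ (1 : Matrix.GeneralLinearGroup (Fin n) F)).map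
        (MulAut.conj P).toMonoidHom := by
  unfold Cfsg.Geo.subfieldSubgroup
  have h1 : (MulAut.conj (1 : Matrix.GeneralLinearGroup (Fin n) F)).toMonoidHom =
      MonoidHom.id _ := by
    ext g
    simp
  rw [h1, Subgroup.map_id]

theorem SL_map_conj (P : Matrix.GeneralLinearGroup (Fin n) F) :
    (Cfsg.Geo.specialLinear (Fin n) F).map (MulAut.conj P).toMonoidHom =
      Cfsg.Geo.specialLinear (Fin n) F := by
  ext g
  rw [Subgroup.mem_map]
  constructor
  · rintro ⟨x, hx, rfl⟩
    rw [Cfsg.Agent.Lib.Helper28.Transport.mem_SL_iff] at hx ⊢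
    have := Cfsg.Agent.Lib.Helper28.Transport.conj_det P x
    rw [hx] at this
    exact this
  · intro hg
    refine ⟨(MulAut.conj P).symm g, ?_, by simp [MulAut.conj_symm_apply, mul_assoc]⟩
    rw [Cfsg.Agent.Lib.Helper28.Transport.mem_SL_iff] at hg ⊢
    have := Cfsg.Agent.Lib.Helper28.Transport.conj_det P⁻¹ g
    rw [hg] at this
    rw [← this]
    simp [MulAut.conj_symm_apply, MulAut.conj_apply]

theorem isMaximalIn_map {G : Type*} [Group G] (φ : G ≃* G) {K H : Subgroup G}
    (h : Cfsg.Geo.IsMaximalIn K H) :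
    Cfsg.Geo.IsMaximalIn (K.map φ.toMonoidHom) (H.map φ.toMonoidHom) := by
  have hinj : Function.Injective φ.toMonoidHom := φ.injective
  refine ⟨?_, ?_⟩
  · exact (Subgroup.map_lt_map_iff_of_injective hinj).mpr h.1
  · intro M hHM hMK
    have h1 : H ≤ M.comap φ.toMonoidHom := (Subgroup.map_le_iff_le_comap).mp hHM
    have h2 : M.comap φ.toMonoidHom ≤ K := by
      intro x hx
      have := hMK hx
      obtain ⟨y, hy, hyx⟩ := this
      have : y = x := hinj hyx
      rwa [← this]
    have hsurj : Function.Surjective φ.toMonoidHom := φ.surjective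
    rcases h.2 _ h1 h2 with h3 | h3
    · left
      rw [← h3, Subgroup.map_comap_eq_self_of_surjective hsurj]
    · right
      rw [← h3, Subgroup.map_comap_eq_self_of_surjective hsurj]

/-- the subfield group is maximal in `SL` -/
theorem main [Fintype F] (hn : 4 ≤ n) (F₀ : Subfield F) (r : ℕ) (hr : r.Prime)
    (hcard : Fintype.card F = Nat.card F₀ ^ r) (P : Matrix.GeneralLinearGroup (Fin n) F) :
    Cfsg.Geo.IsMaximalIn (Cfsg.Geo.specialLinear (Fin n) F)
      (Cfsg.Geo.subfieldSubgroup F₀ P ⊓ Cfsg.Geo.specialLinear (Fin n) F) := by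
  have h1 := isMaximalIn_map (MulAut.conj P) (main_one hn F₀ r hr hcard)
  rw [SL_map_conj] at h1
  have h2 : (Cfsg.Geo.subfieldSubgroup F₀ (1 : Matrix.GeneralLinearGroup (Fin n) F) ⊓
      Cfsg.Geo.specialLinear (Fin n) F).map (MulAut.conj P).toMonoidHom =
      Cfsg.Geo.subfieldSubgroup F₀ P ⊓ Cfsg.Geo.specialLinear (Fin n) F := by
    rw [Subgroup.map_inf _ _ _ (MulAut.conj P).injective, SL_map_conj, ← sub_eq_map]
  rw [h2] at h1
  exact h1

end Cfsg.Agent.Lib.Helper28.Sf
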