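import Cfsg.Prelude.Def_GeometricClasses

set_option autoImplicit false

open Cfsg

namespace Cfsg.Agent.Lib.Helper28.OBundle

variable {ι : Type} [Fintype ι] [DecidableEq ι] {F : Type*} [Field F]

def polB (Q : (ι → F) → F) (hQ : Cfsg.Geo.IsNondegenerateQuadraticForm Q) :
    LinearMap.BilinForm F (ι → F) :=
  LinearMap.mk₂ F (QuadraticMap.polar Q) hQ.polar_bilinear.add_left
    (fun c x v => by rw [hQ.polar_bilinear.smul_left, smul_eq_mul])
    hQ.polar_bilinear.add_right
    (fun c v x => by rw [hQ.polar_bilinear.smul_right, smul_eq_mul])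

def bundle (Q : (ι → F) → F) (hQ : Cfsg.Geo.IsNondegenerateQuadraticForm Q) :
    QuadraticForm F (ι → F) where
  toFun := Q
  toFun_smul := by
    intro a x
    rw [hQ.smul, smul_eq_mul, pow_two]
  exists_companion' := by
    refine ⟨polB Q hQ, fun x y => ?_⟩
    show Q (x + y) = Q x + Q y + QuadraticMap.polar Q x y
    unfold QuadraticMap.polar
    ring

theorem bundle_coe (Q : (ι → F) → F) (hQ : Cfsg.Geo.IsNondegenerateQuadraticForm Q) :
    ⇑(bundle Q hQ) = Q := rfl

theorem bundle_nondeg (Q : (ι → F) → F) (hQ : Cfsg.Geo.IsNondegenerateQuadraticForm Q) :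
    (QuadraticMap.polarBilin (bundle Q hQ)).Nondegenerate := by
  constructor
  · intro x hx
    by_contra h0
    obtain ⟨-, y, hy⟩ := hQ.nondegenerate x h0
    exact hy (hx y)
  · intro x hx
    by_contra h0
    obtain ⟨⟨y, hy⟩, -⟩ := hQ.nondegenerate x h0
    exact hy (hx y)

end Cfsg.Agent.Lib.Helper28.OBundle
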