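import Cfsg.Agent.Lib.Helper28.OAll
import Cfsg.Agent.Lib.Helper28.OBundle

set_option autoImplicit false

open Cfsg

namespace Cfsg.Agent.Lib.Helper28.OEven

open Matrix Cfsg.Agent.Lib.Lead
  Cfsg.Agent.Lib.Helper28.HForm Cfsg.Agent.Lib.Helper28.OGen Cfsg.Agent.Lib.Helper28.OMax
  Cfsg.Agent.Lib.Helper28.OQ
  Cfsg.Agent.Lib.Helper28.OGenQ
  Cfsg.Agent.Lib.Helper28.OAll Cfsg.Agent.Lib.Helper28.OBundle Cfsg.Agent.S0795

variable {n : ℕ} {F : Type*} [Field F]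

theorem qf_unb (Q : (Fin n → F) → F) (hQ : Cfsg.Geo.IsNondegenerateQuadraticForm Q) :
    QF Q (QuadraticMap.polar Q) :=
  qf_of_quad (bundle Q hQ) (bundle_nondeg Q hQ)

theorem ts_dim (Q : (Fin n → F) → F) (hQ : Cfsg.Geo.IsNondegenerateQuadraticForm Q)
    (X : Submodule F (Fin n → F)) (hX : ∀ x ∈ X, Q x = 0) : 2 * Module.finrank F X ≤ n := by
  have hq := qf_unb Q hQ
  have h3 := rb hq.sym e0 nd_e0 X (ts_ti hq X hX) (fun x _ => perp_e0 x)
  omega

theorem ts_ext (Q : (Fin n → F) → F) (hQ : Cfsg.Geo.IsNondegenerateQuadraticForm Q)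
    (W : Submodule F (Fin n → F)) (hW : ∀ x ∈ W, Q x = 0) (z : Fin n → F) (hz : Q z = 0)
    (hzW : ∀ w ∈ W, QuadraticMap.polar Q z w = 0) (hzn : z ∉ W) :
    ∃ X : Submodule F (Fin n → F), W ≤ X ∧ (∀ x ∈ X, Q x = 0) ∧
      Module.finrank F X = Module.finrank F W + 1 := by
  have hq := qf_unb Q hQ
  refine ⟨W ⊔ Submodule.span F {z}, le_sup_left, ?_, ?_⟩
  · intro x hx
    obtain ⟨x₁, hx₁, x₂, hx₂, rfl⟩ := Submodule.mem_sup.1 hx
    obtain ⟨a, rfl⟩ := Submodule.mem_span_singleton.1 hx₂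
    rw [hq.polar, hW x₁ hx₁, hq.smul, hz, s_smul_right hq.sym, s_symm hq.sym, hzW x₁ hx₁]
    ring
  · have h1 := Submodule.finrank_sup_add_finrank_inf_eq W (Submodule.span F {z})
    have hz0 : z ≠ 0 := by
      rintro rfl
      exact hzn W.zero_mem
    have h2 : Module.finrank F (Submodule.span F ({z} : Set (Fin n → F))) = 1 :=
      finrank_span_singleton hz0
    have h3 : W ⊓ Submodule.span F {z} = ⊥ := by
      rw [eq_bot_iff]
      intro v hv
      rw [Submodule.mem_bot]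
      obtain ⟨a, rfl⟩ := Submodule.mem_span_singleton.1 hv.2
      by_cases ha : a = 0
      · rw [ha, zero_smul]
      · exfalso
        apply hzn
        have := W.smul_mem a⁻¹ hv.1
        rwa [smul_smul, inv_mul_cancel₀ ha, one_smul] at this
    rw [h3, finrank_bot, add_zero, h2] at h1
    exact h1

theorem ts_max_unb [Fintype F] (hn : 7 ≤ n) (Q : (Fin n → F) → F)
    (hQ : Cfsg.Geo.IsNondegenerateQuadraticForm Q)
    (W : Submodule F (Fin n → F)) (hW0 : W ≠ ⊥) (hW : ∀ w ∈ W, Q w = 0)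
    (hk : Odd n ∨ 2 * Module.finrank F W + 3 ≤ n ∨
      (∀ z : Fin n → F, Q z = 0 → (∀ w ∈ W, QuadraticMap.polar Q z w = 0) → z ∈ W)) :
    Cfsg.Geo.IsMaximalIn (Cfsg.Geo.omegaGL Q)
      (Cfsg.Geo.subspaceStabilizer W ⊓ Cfsg.Geo.omegaGL Q) := by
  have := ts_max_all (by rw [Fintype.card_fin]; exact hn) (bundle Q hQ) (bundle_nondeg Q hQ) W hW0 hW
    (by rw [Fintype.card_fin]; exact hk)
  exact this

end Cfsg.Agent.Lib.Helper28.OEven
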