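import Mathlib
import Cfsg.Agent.Lib.Helper10.C3Q.Defs

set_option autoImplicit false
set_option linter.unusedVariables false
set_option linter.unusedSectionVars false

/-!
# Project C3Q, row SPLEVEN (helper28): core (the statement of SUNIV `s_univ` as a hypothesis).
-/

namespace Cfsg.Agent.Lib.Helper10.C3Q

open Matrix Module Cfsg.Agent.Lib.Helper13.OTS

universe u

variable {F : Type u} [Field F] {ι : Type} [Fintype ι] [DecidableEq ι]

section generic

variable {V : Type*} [AddCommGroup V] [Module F V]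

/-- a non-zero subspace on which the polar form is non-degenerate contains a non-singular vector -/
theorem c3qspleven_exists_ne (Q : QuadraticForm F V) (E : Submodule F V)
    (hE : ∀ u ∈ E, (∀ v ∈ E, QuadraticMap.polar (⇑Q) u v = 0) → u = 0)
    (hne : ∃ u ∈ E, u ≠ 0) : ∃ g ∈ E, Q g ≠ 0 := by
  obtain ⟨u, hu, hu0⟩ := hne
  by_contra hall
  push Not at hall
  apply hu0
  apply hE u hu
  intro v hv
  unfold QuadraticMap.polar
  rw [hall _ (E.add_mem hu hv), hall u hu, hall v hv]
  simp

/-- the part of `E` orthogonal to `e` -/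
def c3qsplevenPerp (Q : QuadraticForm F V) (E : Submodule F V) (e : V) : Submodule F V :=
  E ⊓ LinearMap.ker ((QuadraticMap.polarBilin Q).flip e)

theorem c3qspleven_mem_perp (Q : QuadraticForm F V) (E : Submodule F V) (e u : V) :
    u ∈ c3qsplevenPerp Q E e ↔ u ∈ E ∧ QuadraticMap.polar (⇑Q) u e = 0 := by
  unfold c3qsplevenPerp
  rw [Submodule.mem_inf, LinearMap.mem_ker, LinearMap.flip_apply, QuadraticMap.polarBilin_apply_apply]

theorem c3qspleven_split (Q : QuadraticForm F V) (E : Submodule F V) (e : V) (he : e ∈ E)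
    (hee : QuadraticMap.polar (⇑Q) e e ≠ 0) (w : V) (hw : w ∈ E) :
    w - (QuadraticMap.polar (⇑Q) w e / QuadraticMap.polar (⇑Q) e e) • e ∈ c3qsplevenPerp Q E e := by
  rw [c3qspleven_mem_perp]
  refine ⟨E.sub_mem hw (E.smul_mem _ he), ?_⟩
  rw [QuadraticMap.polar_sub_left, QuadraticMap.polar_smul_left, smul_eq_mul, div_mul_cancel₀ _ hee,
    sub_self]

theorem c3qspleven_perp_nd (Q : QuadraticForm F V) (E : Submodule F V)
    (hE : ∀ u ∈ E, (∀ v ∈ E, QuadraticMap.polar (⇑Q) u v = 0) → u = 0) (e : V) (he : e ∈ E)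
    (hee : QuadraticMap.polar (⇑Q) e e ≠ 0) :
    ∀ u ∈ c3qsplevenPerp Q E e,
      (∀ v ∈ c3qsplevenPerp Q E e, QuadraticMap.polar (⇑Q) u v = 0) → u = 0 := by
  intro u hu hall
  obtain ⟨huE, hue⟩ := (c3qspleven_mem_perp Q E e u).1 hu
  apply hE u huE
  intro w hw
  have h1 := hall _ (c3qspleven_split Q E e he hee w hw)
  rw [QuadraticMap.polar_sub_right, QuadraticMap.polar_smul_right, hue, smul_zero, sub_zero] at h1
  exact h1

theorem c3qspleven_perp_finrank [FiniteDimensional F V] (Q : QuadraticForm F V) (E : Submodule F V)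
    (e : V) (he : e ∈ E) (hee : QuadraticMap.polar (⇑Q) e e ≠ 0) :
    finrank F (c3qsplevenPerp Q E e) + 1 = finrank F E := by
  have he0 : e ≠ 0 := by
    rintro rfl
    exact hee (QuadraticMap.polar_zero_left _ _)
  have hinf : c3qsplevenPerp Q E e ⊓ Submodule.span F {e} = ⊥ := by
    rw [eq_bot_iff]
    intro u hu
    obtain ⟨hu1, hu2⟩ := Submodule.mem_inf.1 hu
    obtain ⟨a, rfl⟩ := Submodule.mem_span_singleton.1 hu2
    have h3 := ((c3qspleven_mem_perp Q E e _).1 hu1).2
    rw [QuadraticMap.polar_smul_left, smul_eq_mul] at h3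
    rcases mul_eq_zero.1 h3 with h4 | h4
    · rw [h4, zero_smul]
      exact Submodule.zero_mem _
    · exact absurd h4 hee
  have hsup : c3qsplevenPerp Q E e ⊔ Submodule.span F {e} = E := by
    apply le_antisymm
    · apply sup_le
      · exact inf_le_left
      · rw [Submodule.span_singleton_le_iff_mem]
        exact he
    · intro w hw
      exact Submodule.mem_sup.2 ⟨_, c3qspleven_split Q E e he hee w hw, _,
        Submodule.smul_mem _ _ (Submodule.mem_span_singleton_self e), sub_add_cancel _ _⟩
  have h := Submodule.finrank_sup_add_finrank_inf_eq (c3qsplevenPerp Q E e) (Submodule.span F {e})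
  rw [hinf, hsup, finrank_bot, finrank_span_singleton he0] at h
  omega

/-- two vectors with `s a + t b = 0 → s = t = 0` span a plane -/
theorem c3qspleven_finrank_pair {a b : V} (hind : ∀ s t : F, s • a + t • b = 0 → s = 0 ∧ t = 0) :
    finrank F (Submodule.span F ({a, b} : Set V)) = 2 := by
  have hli : LinearIndependent F ![a, b] := by
    rw [LinearIndependent.pair_iff]
    exact hind
  have h := finrank_span_eq_card hli
  have hr : Set.range ![a, b] = ({a, b} : Set V) := by
    ext y
    simp only [Set.mem_range, Set.mem_insert_iff, Set.mem_singleton_iff]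
    constructor
    · rintro ⟨i, rfl⟩
      fin_cases i
      · left; rfl
      · right; rfl
    · rintro (rfl | rfl)
      · exact ⟨0, rfl⟩
      · exact ⟨1, rfl⟩
  rw [hr] at h
  rw [h]
  simp

end generic

/-- SPLEVEN by induction, with the union of the two ranges as spanning set -/
theorem c3qspleven_ind [Fintype F] (h2 : (2 : F) ≠ 0) (Q : QuadraticForm F (ι → F)) (δ : F)
    (hns : ¬ IsSquare δ)
    (hSUNIV : ∀ W : Submodule F (ι → F),
      (∀ u ∈ W, (∀ v ∈ W, QuadraticMap.polar (⇑Q) u v = 0) → u = 0) → 2 ≤ Module.finrank F W →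
      ∀ c : F, c ≠ 0 → ∃ w ∈ W, Q w = c) :
    ∀ (k : ℕ) (E : Submodule F (ι → F)),
      (∀ u ∈ E, (∀ v ∈ E, QuadraticMap.polar (⇑Q) u v = 0) → u = 0) →
      Module.finrank F E = 2 * k →
      ∃ e f : Fin k → (ι → F), (∀ j, e j ∈ E ∧ f j ∈ E) ∧
        E ≤ Submodule.span F (Set.range e ∪ Set.range f) ∧
        (∀ i j, i ≠ j → QuadraticMap.polar (⇑Q) (e i) (e j) = 0 ∧
          QuadraticMap.polar (⇑Q) (e i) (f j) = 0 ∧ QuadraticMap.polar (⇑Q) (f i) (f j) = 0) ∧
        ∀ j, QuadraticMap.polar (⇑Q) (f j) (f j) = δ * QuadraticMap.polar (⇑Q) (e j) (e j) := by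
  intro k
  induction k with
  | zero =>
    intro E hE hdim
    refine ⟨fun j => 0, fun j => 0, fun j => j.elim0, ?_, fun i => i.elim0, fun j => j.elim0⟩
    have : E = ⊥ := Submodule.finrank_eq_zero.1 (by rw [hdim])
    rw [this]
    exact bot_le
  | succ k ih =>
    intro E hE hdim
    have hpol : ∀ v : ι → F, QuadraticMap.polar (⇑Q) v v = 2 * Q v := by
      intro v
      rw [QuadraticMap.polar_self, two_smul, two_mul]
    -- first vector
    have hEne : ∃ u ∈ E, u ≠ 0 := by
      by_contra hcon
      push Not at hcon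
      have : E = ⊥ := by
        rw [eq_bot_iff]
        intro u hu
        rw [Submodule.mem_bot]
        exact hcon u hu
      rw [this, finrank_bot] at hdim
      omega
    obtain ⟨e, he, hQe⟩ := c3qspleven_exists_ne Q E hE hEne
    have hee : QuadraticMap.polar (⇑Q) e e ≠ 0 := by
      rw [hpol]
      exact mul_ne_zero h2 hQe
    have hE1nd := c3qspleven_perp_nd Q E hE e he hee
    have hE1dim := c3qspleven_perp_finrank Q E e he hee
    -- second vector
    have hE1ne : ∃ u ∈ c3qsplevenPerp Q E e, u ≠ 0 := by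
      by_contra hcon
      push Not at hcon
      have : c3qsplevenPerp Q E e = ⊥ := by
        rw [eq_bot_iff]
        intro u hu
        rw [Submodule.mem_bot]
        exact hcon u hu
      rw [this, finrank_bot] at hE1dim
      omega
    obtain ⟨g, hg1, hQg⟩ := c3qspleven_exists_ne Q _ hE1nd hE1ne
    obtain ⟨hg, hge⟩ := (c3qspleven_mem_perp Q E e g).1 hg1
    have hgg : QuadraticMap.polar (⇑Q) g g ≠ 0 := by
      rw [hpol]
      exact mul_ne_zero h2 hQg
    have hE2nd := c3qspleven_perp_nd Q _ hE1nd g hg1 hgg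
    have hE2dim := c3qspleven_perp_finrank Q (c3qsplevenPerp Q E e) g hg1 hgg
    obtain ⟨E2, hE2⟩ : ∃ E2, E2 = c3qsplevenPerp Q (c3qsplevenPerp Q E e) g := ⟨_, rfl⟩
    rw [← hE2] at hE2nd hE2dim
    have hE2mem : ∀ u ∈ E2, u ∈ E ∧ QuadraticMap.polar (⇑Q) u e = 0 ∧
        QuadraticMap.polar (⇑Q) u g = 0 := by
      intro u hu
      rw [hE2] at hu
      obtain ⟨h1, h3⟩ := (c3qspleven_mem_perp Q _ g u).1 hu
      obtain ⟨h4, h5⟩ := (c3qspleven_mem_perp Q E e u).1 h1
      exact ⟨h4, h5, h3⟩
    -- the decomposition of a vector of `E`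
    have hdec : ∀ w ∈ E, ∃ (a b : F) (w2 : ι → F), w2 ∈ E2 ∧ w = w2 + a • e + b • g := by
      intro w hw
      obtain ⟨a, ha⟩ : ∃ a : F, a = QuadraticMap.polar (⇑Q) w e / QuadraticMap.polar (⇑Q) e e :=
        ⟨_, rfl⟩
      have h1 := c3qspleven_split Q E e he hee w hw
      rw [← ha] at h1
      obtain ⟨b, hb⟩ : ∃ b : F, b = QuadraticMap.polar (⇑Q) (w - a • e) g /
          QuadraticMap.polar (⇑Q) g g := ⟨_, rfl⟩
      have h3 := c3qspleven_split Q _ g hg1 hgg _ h1
      rw [← hb, ← hE2] at h3
      exact ⟨a, b, _, h3, by abel⟩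
    -- the plane
    have heg : QuadraticMap.polar (⇑Q) e g = 0 := by
      rw [QuadraticMap.polar_comm]
      exact hge
    have hPnd : ∀ u ∈ Submodule.span F ({e, g} : Set (ι → F)),
        (∀ v ∈ Submodule.span F ({e, g} : Set (ι → F)), QuadraticMap.polar (⇑Q) u v = 0) → u = 0 := by
      intro u hu hall
      obtain ⟨s, t, rfl⟩ := Submodule.mem_span_pair.1 hu
      have h1 := hall e (Submodule.subset_span (by simp))
      have h3 := hall g (Submodule.subset_span (by simp))
      rw [QuadraticMap.polar_add_left, QuadraticMap.polar_smul_left, QuadraticMap.polar_smul_left,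
        hge, smul_zero, add_zero, smul_eq_mul] at h1
      rw [QuadraticMap.polar_add_left, QuadraticMap.polar_smul_left, QuadraticMap.polar_smul_left,
        heg, smul_zero, zero_add, smul_eq_mul] at h3
      have hs : s = 0 := by
        rcases mul_eq_zero.1 h1 with h | h
        · exact h
        · exact absurd h hee
      have ht : t = 0 := by
        rcases mul_eq_zero.1 h3 with h | h
        · exact h
        · exact absurd h hgg
      rw [hs, ht, zero_smul, zero_smul, add_zero]
    have hPdim : Module.finrank F (Submodule.span F ({e, g} : Set (ι → F))) = 2 := by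
      apply c3qspleven_finrank_pair
      intro s t hst
      have h1 : QuadraticMap.polar (⇑Q) (s • e + t • g) e = 0 := by
        rw [hst]
        exact QuadraticMap.polar_zero_left _ _
      have h3 : QuadraticMap.polar (⇑Q) (s • e + t • g) g = 0 := by
        rw [hst]
        exact QuadraticMap.polar_zero_left _ _
      rw [QuadraticMap.polar_add_left, QuadraticMap.polar_smul_left, QuadraticMap.polar_smul_left,
        hge, smul_zero, add_zero, smul_eq_mul] at h1
      rw [QuadraticMap.polar_add_left, QuadraticMap.polar_smul_left, QuadraticMap.polar_smul_left,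
        heg, smul_zero, zero_add, smul_eq_mul] at h3
      refine ⟨?_, ?_⟩
      · rcases mul_eq_zero.1 h1 with h | h
        · exact h
        · exact absurd h hee
      · rcases mul_eq_zero.1 h3 with h | h
        · exact h
        · exact absurd h hgg
    have hδ0 : δ ≠ 0 := by
      rintro rfl
      exact hns ⟨0, by simp⟩
    obtain ⟨f, hfP, hQf⟩ := hSUNIV _ hPnd (by rw [hPdim]) (δ * Q e) (mul_ne_zero hδ0 hQe)
    obtain ⟨s, t, hfst⟩ := Submodule.mem_span_pair.1 hfP
    have ht0 : t ≠ 0 := by
      rintro rfl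
      apply hns
      rw [zero_smul, add_zero] at hfst
      rw [← hfst, QuadraticMap.map_smul, smul_eq_mul] at hQf
      refine ⟨s, ?_⟩
      exact mul_right_cancel₀ hQe hQf.symm
    have hfE : f ∈ E := by
      rw [← hfst]
      exact E.add_mem (E.smul_mem _ he) (E.smul_mem _ hg)
    have hgf : g = t⁻¹ • f - (t⁻¹ * s) • e := by
      rw [← hfst, smul_add, smul_smul, smul_smul, inv_mul_cancel₀ ht0, one_smul]
      abel
    have hE2f : ∀ u ∈ E2, QuadraticMap.polar (⇑Q) u f = 0 := by
      intro u hu
      obtain ⟨_, h1, h3⟩ := hE2mem u hu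
      rw [← hfst, QuadraticMap.polar_add_right, QuadraticMap.polar_smul_right,
        QuadraticMap.polar_smul_right, h1, h3, smul_zero, smul_zero, add_zero]
    -- induction
    have hE2dim' : Module.finrank F E2 = 2 * k := by omega
    obtain ⟨e', f', hmem, hspan, horth, hff⟩ := ih E2 hE2nd hE2dim'
    refine ⟨Fin.cons e e', Fin.cons f f', ?_, ?_, ?_, ?_⟩
    · intro j
      rcases Fin.eq_zero_or_eq_succ j with rfl | ⟨j', rfl⟩
      · simp only [Fin.cons_zero]
        exact ⟨he, hfE⟩
      · simp only [Fin.cons_succ]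
        exact ⟨(hE2mem _ (hmem j').1).1, (hE2mem _ (hmem j').2).1⟩
    · intro w hw
      obtain ⟨a, b, w2, hw2, rfl⟩ := hdec w hw
      have hsub : Submodule.span F (Set.range e' ∪ Set.range f') ≤
          Submodule.span F (Set.range (Fin.cons e e' : Fin (k + 1) → (ι → F)) ∪
            Set.range (Fin.cons f f' : Fin (k + 1) → (ι → F))) := by
        apply Submodule.span_mono
        rw [Fin.range_cons, Fin.range_cons]
        intro y hy
        rcases hy with hy | hy
        · left; right; exact hy
        · right; right; exact hy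
      have hemem : e ∈ Submodule.span F (Set.range (Fin.cons e e' : Fin (k + 1) → (ι → F)) ∪
            Set.range (Fin.cons f f' : Fin (k + 1) → (ι → F))) := by
        apply Submodule.subset_span
        left
        exact ⟨0, by simp⟩
      have hfmem : f ∈ Submodule.span F (Set.range (Fin.cons e e' : Fin (k + 1) → (ι → F)) ∪
            Set.range (Fin.cons f f' : Fin (k + 1) → (ι → F))) := by
        apply Submodule.subset_span
        right
        exact ⟨0, by simp⟩
      have hgmem : g ∈ Submodule.span F (Set.range (Fin.cons e e' : Fin (k + 1) → (ι → F)) ∪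
            Set.range (Fin.cons f f' : Fin (k + 1) → (ι → F))) := by
        rw [hgf]
        exact Submodule.sub_mem _ (Submodule.smul_mem _ _ hfmem) (Submodule.smul_mem _ _ hemem)
      exact Submodule.add_mem _ (Submodule.add_mem _ (hsub (hspan hw2)) (Submodule.smul_mem _ _ hemem))
        (Submodule.smul_mem _ _ hgmem)
    · intro i j hij
      rcases Fin.eq_zero_or_eq_succ i with rfl | ⟨i', rfl⟩
      · rcases Fin.eq_zero_or_eq_succ j with rfl | ⟨j', rfl⟩
        · exact absurd rfl hij
        · simp only [Fin.cons_zero, Fin.cons_succ]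
          refine ⟨?_, ?_, ?_⟩
          · rw [QuadraticMap.polar_comm]
            exact (hE2mem _ (hmem j').1).2.1
          · rw [QuadraticMap.polar_comm]
            exact (hE2mem _ (hmem j').2).2.1
          · rw [QuadraticMap.polar_comm]
            exact hE2f _ (hmem j').2
      · rcases Fin.eq_zero_or_eq_succ j with rfl | ⟨j', rfl⟩
        · simp only [Fin.cons_zero, Fin.cons_succ]
          exact ⟨(hE2mem _ (hmem i').1).2.1, hE2f _ (hmem i').1, hE2f _ (hmem i').2⟩
        · simp only [Fin.cons_succ]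
          exact horth i' j' (fun h => hij (by rw [h]))
    · intro j
      rcases Fin.eq_zero_or_eq_succ j with rfl | ⟨j', rfl⟩
      · simp only [Fin.cons_zero]
        rw [hpol, hpol, hQf]
        ring
      · simp only [Fin.cons_succ]
        exact hff j'

/-- SPLEVEN core: `hSUNIV` is the statement of SUNIV `s_univ` (for this `Q`) -/
theorem c3qspleven_core [Fintype F] (h2 : (2 : F) ≠ 0) (Q : QuadraticForm F (ι → F)) (δ : F)
    (hns : ¬ IsSquare δ)
    (hSUNIV : ∀ W : Submodule F (ι → F),
      (∀ u ∈ W, (∀ v ∈ W, QuadraticMap.polar (⇑Q) u v = 0) → u = 0) → 2 ≤ Module.finrank F W →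
      ∀ c : F, c ≠ 0 → ∃ w ∈ W, Q w = c)
    (k : ℕ) (E : Submodule F (ι → F))
    (hE : ∀ u ∈ E, (∀ v ∈ E, QuadraticMap.polar (⇑Q) u v = 0) → u = 0)
    (hdim : Module.finrank F E = 2 * k) :
    ∃ e f : Fin k → (ι → F), (∀ j, e j ∈ E ∧ f j ∈ E) ∧
      LinearIndependent F (fun p : Fin k × Fin 2 => if p.2 = 0 then e p.1 else f p.1) ∧
      E ≤ Submodule.span F (Set.range (fun p : Fin k × Fin 2 => if p.2 = 0 then e p.1 else f p.1)) ∧
      (∀ i j, i ≠ j → QuadraticMap.polar (⇑Q) (e i) (e j) = 0 ∧ QuadraticMap.polar (⇑Q) (e i) (f j) = 0 ∧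
        QuadraticMap.polar (⇑Q) (f i) (f j) = 0) ∧
      ∀ j, QuadraticMap.polar (⇑Q) (f j) (f j) = δ * QuadraticMap.polar (⇑Q) (e j) (e j) := by
  obtain ⟨e, f, hmem, hspan, horth, hff⟩ := c3qspleven_ind h2 Q δ hns hSUNIV k E hE hdim
  have hsub : Set.range e ∪ Set.range f ⊆
      Set.range (fun p : Fin k × Fin 2 => if p.2 = 0 then e p.1 else f p.1) := by
    rintro y (⟨j, rfl⟩ | ⟨j, rfl⟩)
    · exact ⟨(j, 0), by simp⟩
    · exact ⟨(j, 1), by simp⟩
  have hspan' : E ≤ Submodule.span F
      (Set.range (fun p : Fin k × Fin 2 => if p.2 = 0 then e p.1 else f p.1)) :=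
    hspan.trans (Submodule.span_mono hsub)
  have hle : Submodule.span F
      (Set.range (fun p : Fin k × Fin 2 => if p.2 = 0 then e p.1 else f p.1)) ≤ E := by
    rw [Submodule.span_le]
    rintro y ⟨p, rfl⟩
    show (if p.2 = 0 then e p.1 else f p.1) ∈ E
    split_ifs
    · exact (hmem p.1).1
    · exact (hmem p.1).2
  refine ⟨e, f, hmem, ?_, hspan', horth, hff⟩
  rw [linearIndependent_iff_card_eq_finrank_span]
  unfold Set.finrank
  rw [le_antisymm hle hspan', hdim, Fintype.card_prod, Fintype.card_fin, Fintype.card_fin, mul_comm]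

end Cfsg.Agent.Lib.Helper10.C3Q
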