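import Mathlib
import Cfsg.Agent.Lib.Helper10.C3Q.Defs
import Cfsg.Agent.Lib.Helper28.C3QSPLEVENcore
import Cfsg.Agent.Lib.helper14.C3QSUNIV

set_option autoImplicit false
set_option linter.unusedVariables false

/-!
# Project C3Q, row SPLEVEN (`s_planes_even`) (helper28), verbatim from `Helper10/C3Q/Skel.lean.txt`:
`c3qspleven_core` on helper14's SUNIV `s_univ`.
-/

namespace Cfsg.Agent.Lib.Helper10.C3Q

open Matrix Module Cfsg.Agent.Lib.Helper13.OTS Cfsg.Agent.Lib.Helper16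

universe u

variable {F : Type u} [Field F] {ι : Type} [Fintype ι] [DecidableEq ι]

/-- SPLEVEN [L]: a non-degenerate subspace `E` of even dimension `2k` is an orthogonal sum of `k` planes with bases `(e j, f j)`, `Q (f j) = δ Q (e j)`.  Induction on `k`
(generalising `E`): `k = 0` trivial.  Step: `e ∈ E` with `Q e ≠ 0`, `E₁ = E ∩ e^⊥` non-degenerate of dimension `2k + 1`, `g ∈ E₁` with `Q g ≠ 0`, `P = ⟨e, g⟩` non-degenerate plane;
SUNIV in `P`: `f ∈ P` with `Q f = δ Q e` (`f ∉ F e` as `δ` is not a square, so `e, f` is a basis of `P`); `E ∩ P^⊥` non-degenerate of dimension `2k`. -/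
theorem s_planes_even [Fintype F] (h2 : (2 : F) ≠ 0) (Q : QuadraticForm F (ι → F)) (δ : F)
    (hns : ¬ IsSquare δ) (k : ℕ) (E : Submodule F (ι → F))
    (hE : ∀ u ∈ E, (∀ v ∈ E, QuadraticMap.polar (⇑Q) u v = 0) → u = 0)
    (hdim : Module.finrank F E = 2 * k) :
    ∃ e f : Fin k → (ι → F), (∀ j, e j ∈ E ∧ f j ∈ E) ∧
      LinearIndependent F (fun p : Fin k × Fin 2 => if p.2 = 0 then e p.1 else f p.1) ∧
      E ≤ Submodule.span F (Set.range (fun p : Fin k × Fin 2 => if p.2 = 0 then e p.1 else f p.1)) ∧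
      (∀ i j, i ≠ j → QuadraticMap.polar (⇑Q) (e i) (e j) = 0 ∧ QuadraticMap.polar (⇑Q) (e i) (f j) = 0 ∧
        QuadraticMap.polar (⇑Q) (f i) (f j) = 0) ∧
      ∀ j, QuadraticMap.polar (⇑Q) (f j) (f j) = δ * QuadraticMap.polar (⇑Q) (e j) (e j) := by
  exact c3qspleven_core h2 Q δ hns (fun W hW hd c hc => s_univ h2 Q W hW hd c hc) k E hE hdim

end Cfsg.Agent.Lib.Helper10.C3Q
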