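import Mathlib
import Cfsg.Agent.Lib.Helper10.C3Q.Defs

set_option autoImplicit false
set_option linter.unusedVariables false
set_option linter.unusedSectionVars false

/-!
# Project C3Q, row KGEN: second copy by helper28 under its own name (`c3qkgen_h28` has EXACTLY the statement of `k_gen`).
-/

namespace Cfsg.Agent.Lib.Helper10.C3Q

open Matrix Module Cfsg.Agent.Lib.Helper13.OTS

universe u

variable {F : Type u} [Field F] {ι : Type} [Fintype ι] [DecidableEq ι]

/-- the statement of KGEN `k_gen` -/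
theorem c3qkgen_h28 (h2 : (2 : F) ≠ 0) (K : Subalgebra F (Matrix ι ι F))
    (hK : Cfsg.Geo.IsFieldSubalgebra 2 K) :
    ∃ (δ : F) (A : Matrix ι ι F), A ∈ K ∧ ¬ IsSquare δ ∧ A * A = δ • (1 : Matrix ι ι F) ∧
      ∀ M : Matrix ι ι F, M ∈ K ↔ ∃ α β : F, M = α • (1 : Matrix ι ι F) + β • A := by
  classical
  have hfr := hK.finrank_eq
  have : Nontrivial ↥K := by
    apply Module.nontrivial_of_finrank_pos (R := F)
    rw [hfr]
    norm_num
  -- a non-scalar element
  obtain ⟨M, hM⟩ : ∃ M : ↥K, ∀ c : F, c • (1 : ↥K) ≠ M := by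
    by_contra hcon
    push Not at hcon
    have := finrank_le_one (1 : ↥K) hcon
    omega
  have hli : LinearIndependent F ![(1 : ↥K), M] := by
    rw [LinearIndependent.pair_iff]
    intro s t hst
    have ht : t = 0 := by
      by_contra ht
      apply hM (-(t⁻¹ * s))
      have h1 : t • M = -(s • (1 : ↥K)) := by
        rw [eq_neg_iff_add_eq_zero, add_comm]
        exact hst
      calc (-(t⁻¹ * s)) • (1 : ↥K) = t⁻¹ • (-(s • (1 : ↥K))) := by
            rw [smul_neg, neg_smul, mul_smul]
        _ = t⁻¹ • (t • M) := by rw [h1]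
        _ = M := by rw [smul_smul, inv_mul_cancel₀ ht, one_smul]
    rw [ht, zero_smul, add_zero] at hst
    refine ⟨?_, ht⟩
    rcases smul_eq_zero.1 hst with h | h
    · exact h
    · exact absurd h one_ne_zero
  have hspan : Submodule.span F (Set.range ![(1 : ↥K), M]) = ⊤ :=
    hli.span_eq_top_of_card_eq_finrank' (by rw [hfr]; simp)
  have hrep : ∀ w : ↥K, ∃ s t : F, w = s • (1 : ↥K) + t • M := by
    intro w
    have hw : w ∈ Submodule.span F (Set.range ![(1 : ↥K), M]) := by
      rw [hspan]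
      exact Submodule.mem_top
    rw [Submodule.mem_span_range_iff_exists_fun] at hw
    obtain ⟨c, hc⟩ := hw
    rw [Fin.sum_univ_two] at hc
    exact ⟨c 0, c 1, by rw [← hc]; simp⟩
  obtain ⟨b, a, hMM⟩ := hrep (M * M)
  obtain ⟨c, hc⟩ : ∃ c : F, a = 2 * c := ⟨a * (2 : F)⁻¹, by field_simp⟩
  subst hc
  have hMMm : (M : Matrix ι ι F) * (M : Matrix ι ι F) =
      b • (1 : Matrix ι ι F) + (2 * c) • (M : Matrix ι ι F) := by
    have := congrArg Subtype.val hMM
    simpa using this
  have hAK : (M : Matrix ι ι F) - c • (1 : Matrix ι ι F) ∈ K :=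
    K.sub_mem M.2 (K.smul_mem K.one_mem c)
  have hAA : ((M : Matrix ι ι F) - c • (1 : Matrix ι ι F)) * ((M : Matrix ι ι F) - c • (1 : Matrix ι ι F)) =
      (c ^ 2 + b) • (1 : Matrix ι ι F) := by
    simp only [sub_mul, mul_sub, Matrix.smul_mul, Matrix.mul_smul, Matrix.one_mul, Matrix.mul_one, hMMm]
    module
  refine ⟨c ^ 2 + b, (M : Matrix ι ι F) - c • (1 : Matrix ι ι F), hAK, ?_, hAA, ?_⟩
  · rintro ⟨s, hs⟩
    -- `A = ± s`, so `M` is scalar
    have hscal : ∃ t : F, (M : Matrix ι ι F) - c • (1 : Matrix ι ι F) = t • (1 : Matrix ι ι F) := by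
      by_cases hP : (M : Matrix ι ι F) - c • (1 : Matrix ι ι F) - s • (1 : Matrix ι ι F) = 0
      · exact ⟨s, sub_eq_zero.1 hP⟩
      · have hPK : (M : Matrix ι ι F) - c • (1 : Matrix ι ι F) - s • (1 : Matrix ι ι F) ∈ K :=
          K.sub_mem hAK (K.smul_mem K.one_mem s)
        obtain ⟨y, hyK, hy⟩ := hK.inv _ hPK hP
        have hyP := hK.comm _ hPK y hyK
        have hPN : ((M : Matrix ι ι F) - c • (1 : Matrix ι ι F) - s • (1 : Matrix ι ι F)) *
            ((M : Matrix ι ι F) - c • (1 : Matrix ι ι F) + s • (1 : Matrix ι ι F)) = 0 := by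
          have : ((M : Matrix ι ι F) - c • (1 : Matrix ι ι F) - s • (1 : Matrix ι ι F)) *
            ((M : Matrix ι ι F) - c • (1 : Matrix ι ι F) + s • (1 : Matrix ι ι F)) =
            ((M : Matrix ι ι F) - c • (1 : Matrix ι ι F)) * ((M : Matrix ι ι F) - c • (1 : Matrix ι ι F)) -
              (s * s) • (1 : Matrix ι ι F) := by
            simp only [sub_mul, mul_sub, add_mul, mul_add, Matrix.smul_mul, Matrix.mul_smul,
              Matrix.one_mul, Matrix.mul_one]
            module
          rw [this, hAA, hs, sub_self]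
        refine ⟨-s, ?_⟩
        have hN : (M : Matrix ι ι F) - c • (1 : Matrix ι ι F) + s • (1 : Matrix ι ι F) = 0 := by
          calc (M : Matrix ι ι F) - c • (1 : Matrix ι ι F) + s • (1 : Matrix ι ι F)
              = (y * ((M : Matrix ι ι F) - c • (1 : Matrix ι ι F) - s • (1 : Matrix ι ι F))) *
                ((M : Matrix ι ι F) - c • (1 : Matrix ι ι F) + s • (1 : Matrix ι ι F)) := by
                rw [← hyP, hy, Matrix.one_mul]
            _ = 0 := by rw [Matrix.mul_assoc, hPN, Matrix.mul_zero]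
        rw [neg_smul, eq_neg_iff_add_eq_zero]
        exact hN
    obtain ⟨t, ht⟩ := hscal
    apply hM (t + c)
    apply Subtype.ext
    have : (M : Matrix ι ι F) = (t + c) • (1 : Matrix ι ι F) := by
      rw [add_smul, ← ht]
      abel
    rw [this]
    simp
  · intro M'
    constructor
    · intro hM'
      obtain ⟨s, t, hst⟩ := hrep ⟨M', hM'⟩
      have h1 : M' = s • (1 : Matrix ι ι F) + t • (M : Matrix ι ι F) := by
        have := congrArg Subtype.val hst
        simpa using this
      refine ⟨s + t * c, t, ?_⟩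
      rw [h1]
      module
    · rintro ⟨α, β, rfl⟩
      exact K.add_mem (K.smul_mem K.one_mem α) (K.smul_mem hAK β)

end Cfsg.Agent.Lib.Helper10.C3Q
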