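import Mathlib
import Cfsg.Agent.Lib.Helper10.C6P.Defs

set_option autoImplicit false
set_option linter.unusedVariables false
set_option linter.unusedSectionVars false

/-!
# Project C6P, row NCLASS (helper28): `class_card` verbatim.
-/

namespace Cfsg.Agent.Lib.Helper10.C6P

open Polynomial Matrix

variable {F : Type*} [Field F]

/-- membership in `C_R(v)` in matrix form -/
theorem c6pnclass_mem (R : Subgroup (GL (Fin 4) F)) (v : GL (Fin 4) F) (g : R) :
    g ∈ (Subgroup.centralizer ({v} : Set (GL (Fin 4) F))).subgroupOf R ↔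
      ((g : GL (Fin 4) F) : M4 F) * (v : M4 F) = (v : M4 F) * ((g : GL (Fin 4) F) : M4 F) := by
  rw [Subgroup.mem_subgroupOf, Subgroup.mem_centralizer_iff]
  constructor
  · intro hc
    have := hc v (Set.mem_singleton v)
    rw [← Units.val_mul, ← Units.val_mul, this]
  · intro hc m hm
    rw [Set.mem_singleton_iff] at hm
    subst hm
    apply Units.ext
    rw [Units.val_mul, Units.val_mul, hc]

/-- an invertible matrix does not both commute and anticommute with another invertible matrix (`2 ≠ 0`) -/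
theorem c6pnclass_not_both (h2 : (2 : F) ≠ 0) (a b : GL (Fin 4) F)
    (h1 : (a : M4 F) * (b : M4 F) = (b : M4 F) * (a : M4 F))
    (h3 : (a : M4 F) * (b : M4 F) = - ((b : M4 F) * (a : M4 F))) : False := by
  have h4 : (2 : F) • ((a : M4 F) * (b : M4 F)) = 0 := by
    rw [two_smul]
    nth_rewrite 1 [h3]
    rw [h1]
    exact neg_add_cancel _
  have h5 : (a : M4 F) * (b : M4 F) = 0 := by
    rcases smul_eq_zero.1 h4 with h | h
    · exact absurd h h2
    · exact h
  have h6 : ((a * b : GL (Fin 4) F) : M4 F) = 0 := by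
    rw [Units.val_mul]
    exact h5
  have h7 := (a * b).isUnit
  rw [h6] at h7
  exact not_isUnit_zero h7

/-- NCLASS [M] : a non-scalar `v ∈ R` has `|C_R(v)| = 32`: by `h.pm`, `g ↦ ε(g) ∈ {±1}` with `g v = ε(g) v g` is a homomorphism `R → {±1}` (`ℤˣ`), onto by `h.neg`,
with kernel `C_R(v)`: index 2 (`Subgroup.index_ker`, `Subgroup.card_mul_index`). -/
theorem class_card {i : F} {R : Subgroup (GL (Fin 4) F)} (h : RCtx i R) (v : GL (Fin 4) F) (hv : v ∈ R)
    (hns : ∀ c : F, (v : M4 F) ≠ c • (1 : M4 F)) :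
    Nat.card ((Subgroup.centralizer ({v} : Set (GL (Fin 4) F))).subgroupOf R) = 32 := by
  obtain ⟨k, hk, hkv⟩ := h.neg v hv hns
  have hidx : ((Subgroup.centralizer ({v} : Set (GL (Fin 4) F))).subgroupOf R).index = 2 := by
    rw [Subgroup.index_eq_two_iff]
    refine ⟨⟨k, hk⟩, ?_⟩
    intro b
    rw [c6pnclass_mem, c6pnclass_mem]
    change Xor ((((b : GL (Fin 4) F) * k : GL (Fin 4) F) : M4 F) * (v : M4 F) =
      (v : M4 F) * (((b : GL (Fin 4) F) * k : GL (Fin 4) F) : M4 F)) _
    rw [Units.val_mul]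
    rcases h.pm v hv b b.2 with hb | hb
    · -- `b` commutes with `v`
      right
      refine ⟨hb, ?_⟩
      intro hbk
      apply c6pnclass_not_both h.two k v
      · -- from hbk and hb: k v = v k
        have e1 : ((b : GL (Fin 4) F) : M4 F) * ((k : M4 F) * (v : M4 F)) =
            ((b : GL (Fin 4) F) : M4 F) * ((v : M4 F) * (k : M4 F)) := by
          rw [← Matrix.mul_assoc, hbk, ← Matrix.mul_assoc, ← hb, Matrix.mul_assoc]
        have e2 := congrArg (fun m => (((b : GL (Fin 4) F)⁻¹ : GL (Fin 4) F) : M4 F) * m) e1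
        simp only [← Matrix.mul_assoc] at e2
        rw [← Units.val_mul, inv_mul_cancel, Units.val_one, Matrix.one_mul, Matrix.one_mul] at e2
        exact e2
      · exact hkv
    · -- `b` anticommutes with `v`
      left
      refine ⟨?_, ?_⟩
      · rw [Matrix.mul_assoc, hkv, Matrix.mul_neg, ← Matrix.mul_assoc, hb, Matrix.neg_mul, neg_neg,
          Matrix.mul_assoc]
      · intro hb'
        exact c6pnclass_not_both h.two b v hb' hb
  have hcard := Subgroup.card_mul_index ((Subgroup.centralizer ({v} : Set (GL (Fin 4) F))).subgroupOf R)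
  rw [hidx, h.card] at hcard
  omega

end Cfsg.Agent.Lib.Helper10.C6P
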