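import Mathlib
import Cfsg.Agent.Lib.Helper10.C6P.Defs

set_option autoImplicit false
set_option linter.unusedVariables false
set_option linter.unusedSectionVars false

/-!
# Project C6P, row NAVG (helper28): `avg_eq` verbatim.
-/

namespace Cfsg.Agent.Lib.Helper10.C6P

open Polynomial Matrix

variable {F : Type*} [Field F]

/-- NAVG [M] : averaging over `R`: `A := Σ_{g ∈ R} g M g⁻¹` commutes with `R` (reindex by `g ↦ h g`), so `A = c • 1` (`h.comm`); traces: `64 tr M = 4 c`, `4 ≠ 0`. -/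
theorem avg_eq {i : F} {R : Subgroup (GL (Fin 4) F)} (h : RCtx i R) (M : M4 F) :
    ∑ᶠ g : R, ((g : GL (Fin 4) F) : M4 F) * M * (((g : GL (Fin 4) F)⁻¹ : GL (Fin 4) F) : M4 F) =
      ((16 : F) * Matrix.trace M) • (1 : M4 F) := by
  classical
  have : Finite R := Nat.finite_of_card_ne_zero (by rw [h.card]; norm_num)
  let _ : Fintype R := Fintype.ofFinite R
  rw [finsum_eq_sum_of_fintype]
  set A : M4 F := ∑ g : R, ((g : GL (Fin 4) F) : M4 F) * M * (((g : GL (Fin 4) F)⁻¹ : GL (Fin 4) F) : M4 F)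
    with hA
  -- `A` commutes with `R`
  have hcomm : ∀ k ∈ R, A * ((k : GL (Fin 4) F) : M4 F) = ((k : GL (Fin 4) F) : M4 F) * A := by
    intro k hk
    have hkk : (k : M4 F) * ((k⁻¹ : GL (Fin 4) F) : M4 F) = 1 := by
      rw [← Units.val_mul, mul_inv_cancel, Units.val_one]
    have hkk' : ((k⁻¹ : GL (Fin 4) F) : M4 F) * (k : M4 F) = 1 := by
      rw [← Units.val_mul, inv_mul_cancel, Units.val_one]
    -- `k A k⁻¹ = A`
    have hconj : (k : M4 F) * A * ((k⁻¹ : GL (Fin 4) F) : M4 F) = A := by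
      rw [hA, Finset.mul_sum, Finset.sum_mul]
      have e : ∀ g : R, (k : M4 F) * (((g : GL (Fin 4) F) : M4 F) * M *
          (((g : GL (Fin 4) F)⁻¹ : GL (Fin 4) F) : M4 F)) * ((k⁻¹ : GL (Fin 4) F) : M4 F) =
          ((((⟨k, hk⟩ : R) * g : R) : GL (Fin 4) F) : M4 F) * M *
          (((((⟨k, hk⟩ : R) * g : R) : GL (Fin 4) F)⁻¹ : GL (Fin 4) F) : M4 F) := by
        intro g
        rw [Subgroup.coe_mul, _root_.mul_inv_rev, Units.val_mul, Units.val_mul]
        simp only [Matrix.mul_assoc]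
      rw [Finset.sum_congr rfl (fun g _ => e g)]
      exact Fintype.sum_equiv (Equiv.mulLeft (⟨k, hk⟩ : R)) _ _ (fun g => rfl)
    calc A * (k : M4 F) = ((k : M4 F) * A * ((k⁻¹ : GL (Fin 4) F) : M4 F)) * (k : M4 F) := by rw [hconj]
      _ = (k : M4 F) * A := by rw [Matrix.mul_assoc, hkk', Matrix.mul_one]
  obtain ⟨c, hc⟩ := h.comm A hcomm
  -- traces
  have htr : Matrix.trace A = (64 : F) * Matrix.trace M := by
    rw [hA, Matrix.trace_sum]
    have e : ∀ g : R, Matrix.trace (((g : GL (Fin 4) F) : M4 F) * M *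
        (((g : GL (Fin 4) F)⁻¹ : GL (Fin 4) F) : M4 F)) = Matrix.trace M := by
      intro g
      rw [Matrix.trace_mul_comm, ← Matrix.mul_assoc, ← Units.val_mul, inv_mul_cancel, Units.val_one,
        Matrix.one_mul]
    rw [Finset.sum_congr rfl (fun g _ => e g), Finset.sum_const, Finset.card_univ, nsmul_eq_mul]
    have hcard : Fintype.card R = 64 := by
      rw [← Nat.card_eq_fintype_card, h.card]
    rw [hcard]
    norm_num
  have htr2 : Matrix.trace A = (4 : F) * c := by
    rw [hc, Matrix.trace_smul, Matrix.trace_one, Fintype.card_fin, smul_eq_mul]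
    push_cast
    ring
  have h4 : (4 : F) ≠ 0 := by
    have : (4 : F) = 2 * 2 := by norm_num
    rw [this]
    exact mul_ne_zero h.two h.two
  have hcval : c = 16 * Matrix.trace M := by
    have : (4 : F) * c = 4 * (16 * Matrix.trace M) := by
      rw [← htr2, htr]
      ring
    exact mul_left_cancel₀ h4 this
  rw [hc, hcval]

end Cfsg.Agent.Lib.Helper10.C6P
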