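import Mathlib
import Cfsg.Agent.Lib.Helper10.C6P.Defs

set_option autoImplicit false
set_option linter.unusedVariables false
set_option linter.unusedSectionVars false

/-!
# Project C6P, row NTR0 (helper28): `trace_zero` verbatim.
-/

namespace Cfsg.Agent.Lib.Helper10.C6P

open Polynomial Matrix

variable {F : Type*} [Field F]

/-- NTR0 [S-M] : non-scalar elements of `R` have trace 0 (`h.neg`: `h g h⁻¹ = -g`, `trace` is conjugation invariant, `2 ≠ 0`). -/
theorem trace_zero {i : F} {R : Subgroup (GL (Fin 4) F)} (h : RCtx i R) (g : GL (Fin 4) F) (hg : g ∈ R)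
    (hns : ∀ c : F, (g : M4 F) ≠ c • (1 : M4 F)) : Matrix.trace (g : M4 F) = 0 := by
  obtain ⟨k, hk, hkg⟩ := h.neg g hg hns
  have hkk : (k : M4 F) * ((k⁻¹ : GL (Fin 4) F) : M4 F) = 1 := by
    rw [← Units.val_mul, mul_inv_cancel, Units.val_one]
  have hkk' : ((k⁻¹ : GL (Fin 4) F) : M4 F) * (k : M4 F) = 1 := by
    rw [← Units.val_mul, inv_mul_cancel, Units.val_one]
  have e1 : Matrix.trace ((k : M4 F) * (g : M4 F) * ((k⁻¹ : GL (Fin 4) F) : M4 F)) = Matrix.trace (g : M4 F) := by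
    rw [Matrix.trace_mul_comm, ← Matrix.mul_assoc, hkk', Matrix.one_mul]
  have e2 : (k : M4 F) * (g : M4 F) * ((k⁻¹ : GL (Fin 4) F) : M4 F) = - (g : M4 F) := by
    rw [hkg, Matrix.neg_mul, Matrix.mul_assoc, hkk, Matrix.mul_one]
  rw [e2, Matrix.trace_neg] at e1
  have h3 : (2 : F) * Matrix.trace (g : M4 F) = 0 := by linear_combination -e1
  rcases mul_eq_zero.1 h3 with h' | h'
  · exact absurd h' h.two
  · exact h'

end Cfsg.Agent.Lib.Helper10.C6P
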