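import Mathlib
import Cfsg.Agent.Lib.helper6.SSCONJ.Defs

/-! SSCONJ rows GLUE and SPLIT (helper28) -/

set_option autoImplicit false

open Polynomial

namespace Cfsg.Agent.Lib.helper6.SSCONJ

universe u v

variable {F : Type*} [Field F]

theorem glue {V : Type u} {W : Type v} [AddCommGroup V] [Module F V] [AddCommGroup W] [Module F W]
    (φ : Module.End F V) (ψ : Module.End F W)
    (U U' : Submodule F V) (hU : ∀ x ∈ U, φ x ∈ U) (hU' : ∀ x ∈ U', φ x ∈ U') (hc : IsCompl U U')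
    (U₂ U₂' : Submodule F W) (hU₂ : ∀ x ∈ U₂, ψ x ∈ U₂) (hU₂' : ∀ x ∈ U₂', ψ x ∈ U₂') (hc₂ : IsCompl U₂ U₂')
    (e₁ : U ≃ₗ[F] U₂) (h₁ : ∀ u, e₁ (φ.restrict hU u) = ψ.restrict hU₂ (e₁ u))
    (e₂ : U' ≃ₗ[F] U₂') (h₂ : ∀ u, e₂ (φ.restrict hU' u) = ψ.restrict hU₂' (e₂ u)) :
    ∃ e : V ≃ₗ[F] W, ∀ x, e (φ x) = ψ (e x) := by
  let A := Submodule.prodEquivOfIsCompl U U' hc
  let B := Submodule.prodEquivOfIsCompl U₂ U₂' hc₂
  refine ⟨A.symm ≪≫ₗ (e₁.prodCongr e₂) ≪≫ₗ B, ?_⟩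
  intro x
  obtain ⟨⟨a, b⟩, rfl⟩ := A.surjective x
  have hφ : φ (A (a, b)) = A (φ.restrict hU a, φ.restrict hU' b) := by
    simp only [A, Submodule.coe_prodEquivOfIsCompl', map_add, LinearMap.coe_restrict_apply]
  rw [hφ]
  simp only [LinearEquiv.trans_apply, LinearEquiv.symm_apply_apply, LinearEquiv.prodCongr_apply]
  rw [h₁, h₂]
  simp only [B, Submodule.coe_prodEquivOfIsCompl', map_add, LinearMap.coe_restrict_apply]

theorem split {V : Type*} [AddCommGroup V] [Module F V] [FiniteDimensional F V] (φ : Module.End F V) (hφ : φ.IsSemisimple)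
    (U : Submodule F V) (hU : ∀ x ∈ U, φ x ∈ U) :
    ∃ (U' : Submodule F V) (hU' : ∀ x ∈ U', φ x ∈ U'), IsCompl U U' ∧ Module.End.IsSemisimple (φ.restrict hU') ∧
      φ.charpoly = (φ.restrict hU).charpoly * (φ.restrict hU').charpoly := by
  have hUm : U ∈ Module.End.invtSubmodule φ := fun x hx => hU x hx
  obtain ⟨U', hU'm, hc⟩ := (Module.End.isSemisimple_iff.mp hφ) U hUm
  have hU' : ∀ x ∈ U', φ x ∈ U' := fun x hx => hU'm hx
  refine ⟨U', hU', hc, Module.End.IsSemisimple.restrict hU'm hφ, ?_⟩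
  let A := Submodule.prodEquivOfIsCompl U U' hc
  have hconj : A.conj ((φ.restrict hU).prodMap (φ.restrict hU')) = φ := by
    apply LinearMap.ext
    intro x
    obtain ⟨⟨a, b⟩, rfl⟩ := A.surjective x
    rw [LinearEquiv.conj_apply_apply, LinearEquiv.symm_apply_apply]
    simp only [A, LinearMap.prodMap_apply, Submodule.coe_prodEquivOfIsCompl', map_add,
      LinearMap.coe_restrict_apply]
  rw [← LinearMap.charpoly_prodMap, ← LinearEquiv.charpoly_conj A, hconj]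

end Cfsg.Agent.Lib.helper6.SSCONJ
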