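import Mathlib
import Cfsg.Agent.Lib.helper6.SSCONJ.Defs

/-! SSCONJ rows SSPOW and KER (helper28) -/

set_option autoImplicit false

open Polynomial

namespace Cfsg.Agent.Lib.helper6.SSCONJ

universe u v

variable {F : Type*} [Field F]

theorem ss_of_pow_eq_one {n : Type*} [Fintype n] [DecidableEq n] (x : Matrix n n F) (r : ℕ) (hr : (r : F) ≠ 0) (hx : x ^ r = 1) :
    Module.End.IsSemisimple (Matrix.toLin' x) := by
  have hsep : (X ^ r - C (1 : F)).Separable := separable_X_pow_sub_C (1 : F) hr one_ne_zero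
  apply Module.End.isSemisimple_of_squarefree_aeval_eq_zero hsep.squarefree
  rw [map_sub, map_pow, aeval_X, aeval_C, ← Matrix.toLin'_pow, hx, Matrix.toLin'_one, map_one]
  exact sub_self _

theorem exists_ker_ne {V : Type*} [AddCommGroup V] [Module F V] [FiniteDimensional F V] (φ : Module.End F V)
    (f : F[X]) (hf : ¬ IsUnit f) (hd : f ∣ minpoly F φ) : ∃ v : V, v ≠ 0 ∧ aeval φ f v = 0 := by
  by_contra hcon
  push Not at hcon
  obtain ⟨g, hg⟩ := hd
  have hm0 : minpoly F φ ≠ 0 := minpoly.ne_zero (Algebra.IsIntegral.isIntegral φ)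
  have hg0 : g ≠ 0 := by
    rintro rfl
    rw [mul_zero] at hg
    exact hm0 hg
  have hgz : aeval φ g = 0 := by
    apply LinearMap.ext
    intro w
    by_contra hw
    have h1 : aeval φ f (aeval φ g w) = 0 := by
      rw [← Module.End.mul_apply, ← map_mul, ← hg, minpoly.aeval, LinearMap.zero_apply]
    exact hcon _ hw h1
  have hdvd : minpoly F φ ∣ g := minpoly.dvd F φ hgz
  rw [hg] at hdvd
  obtain ⟨k, hk⟩ := hdvd
  apply hf
  have : g * 1 = g * (f * k) := by
    rw [mul_one]
    calc g = f * g * k := hk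
      _ = g * (f * k) := by ring
  have h1 := mul_left_cancel₀ hg0 this
  exact IsUnit.of_mul_eq_one k h1.symm

end Cfsg.Agent.Lib.helper6.SSCONJ
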