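import Mathlib

/-!
# N5400 piece CENTFIX (helper28): `|C_K(z)| ≡ |K| mod 3` for `z ^ 3 = 1` normalising `K`.
-/

set_option autoImplicit false
set_option linter.unusedVariables false
set_option linter.unusedSectionVars false

namespace Cfsg.Agent.Lib.Helper10.N5400

open Classical

universe u

variable {G : Type u} [Group G] [Finite G]

theorem cent_fix (z : G) (hz : z ^ 3 = 1) (K : Subgroup G) (hK : ∀ x ∈ K, z * x * z⁻¹ ∈ K) :
    Nat.card ↥(K ⊓ Subgroup.centralizer ({z} : Set G)) ≡ Nat.card ↥K [MOD 3] := by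
  have : Fact (Nat.Prime 3) := ⟨by norm_num⟩
  have : Fintype ↥K := Fintype.ofFinite _
  let f : Function.End ↥K := fun x => ⟨z * (x : G) * z⁻¹, hK x x.2⟩
  have hf3 : f ^ 3 ^ 1 = 1 := by
    funext x
    apply Subtype.ext
    have h3 : (f ^ 3 ^ 1) x = f (f (f x)) := by
      have : f ^ 3 ^ 1 = f * f * f := by
        rw [pow_one, pow_succ, pow_succ, pow_one]
      rw [this]
      rfl
    rw [h3]
    show z * (z * (z * (x : G) * z⁻¹) * z⁻¹) * z⁻¹ = (x : G)
    have hz' : z * z * z = 1 := by rw [← hz]; simp [pow_succ]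
    have hzi : z⁻¹ * z⁻¹ * z⁻¹ = 1 := by
      rw [← mul_inv_rev, ← mul_inv_rev, ← mul_assoc, hz', inv_one]
    calc z * (z * (z * (x : G) * z⁻¹) * z⁻¹) * z⁻¹
        = (z * z * z) * (x : G) * (z⁻¹ * z⁻¹ * z⁻¹) := by group
      _ = (x : G) := by rw [hz', hzi, one_mul, mul_one]
  have hmod := Equiv.Perm.card_fixedPoints_modEq (p := 3) (n := 1) (f := f) hf3
  have hcard : Nat.card ↥(K ⊓ Subgroup.centralizer ({z} : Set G)) =
      Fintype.card (Function.fixedPoints f) := by
    rw [← Nat.card_eq_fintype_card]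
    apply Nat.card_congr
    refine
      { toFun := fun x => ⟨⟨(x : G), x.2.1⟩, ?_⟩
        invFun := fun y => ⟨((y : ↥K) : G), ⟨(y : ↥K).2, ?_⟩⟩
        left_inv := fun x => rfl
        right_inv := fun y => rfl }
    · show f ⟨(x : G), x.2.1⟩ = ⟨(x : G), x.2.1⟩
      apply Subtype.ext
      show z * (x : G) * z⁻¹ = (x : G)
      have hc := Subgroup.mem_centralizer_iff.mp x.2.2 z (Set.mem_singleton z)
      rw [hc, mul_inv_cancel_right]
    · show ((y : ↥K) : G) ∈ Subgroup.centralizer ({z} : Set G)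
      rw [Subgroup.mem_centralizer_iff]
      intro h hh
      rw [Set.mem_singleton_iff] at hh
      subst hh
      have hfix : f (y : ↥K) = (y : ↥K) := y.2
      have hfix' : h * ((y : ↥K) : G) * h⁻¹ = ((y : ↥K) : G) := congrArg Subtype.val hfix
      calc h * ((y : ↥K) : G) = (h * ((y : ↥K) : G) * h⁻¹) * h := by group
        _ = ((y : ↥K) : G) * h := by rw [hfix']
  rw [hcard, Nat.card_eq_fintype_card]
  exact hmod.symm

end Cfsg.Agent.Lib.Helper10.N5400
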