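import Mathlib
import Cfsg.Prelude.Def_Blocks
import Cfsg.Agent.Lib.Helper16.AP3
import Cfsg.Agent.Lib.Helper10.SLB.Defs

/-!
# SLB row C03, spare copy (helper28) under an own name: `|Z(SL_n(F))| = gcd(n, q - 1)`.
-/

set_option autoImplicit false

namespace Cfsg.Agent.Lib.Helper10.SLB

universe u

section C

variable {F : Type u} [Field F] [Fintype F]

omit [Fintype F] in
theorem slbe01_rootsOfUnity_eq_ker (k : ℕ) :
    rootsOfUnity k F = (powMonoidHom k : Fˣ →* Fˣ).ker := by
  ext x
  rw [mem_rootsOfUnity, MonoidHom.mem_ker, powMonoidHom_apply]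

theorem slbe01_card_rootsOfUnity (k : ℕ) :
    Nat.card (rootsOfUnity k F) = Nat.gcd k (Fintype.card F - 1) := by
  rw [slbe01_rootsOfUnity_eq_ker, IsCyclic.card_powMonoidHom_ker, Nat.card_units,
    Nat.card_eq_fintype_card, Nat.gcd_comm]

/-- exact statement of C03 `card_center_SL`. -/
theorem slbe01_card_center_SL (n : ℕ) (hn : 1 ≤ n) :
    Nat.card (Subgroup.center (Matrix.SpecialLinearGroup (Fin n) F)) =
      Nat.gcd n (Fintype.card F - 1) := by
  rw [Nat.card_congr (Matrix.SpecialLinearGroup.center_equiv_rootsOfUnity (n := Fin n) (R := F)).toEquiv,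
    slbe01_card_rootsOfUnity, Fintype.card_fin, max_eq_left hn]

end C

end Cfsg.Agent.Lib.Helper10.SLB
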