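import Mathlib
import Cfsg.Prelude.Def_Blocks
import Cfsg.Agent.Lib.Helper16.AP3
import Cfsg.Agent.Lib.Helper10.SLB.Defs
import Cfsg.Agent.Lib.Helper24.QuotDefect2
import Cfsg.Agent.S2544

/-!
# SLB row E01 (helper28): an irreducible character of `SL_n(F)` of degree `|SL_n(F)|_p`
(the Steinberg character of `PSL_n(F)`, landed S2544, inflated).  Core with the C03 statement as hypothesis.
-/

set_option autoImplicit false

namespace Cfsg.Agent.Lib.Helper10.SLB

universe u

section E

variable {F : Type u} [Field F] [Fintype F]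

theorem slbe01_not_dvd (p : ℕ) [Fact p.Prime] [CharP F p] (n : ℕ) :
    ¬ p ∣ Nat.gcd n (Fintype.card F - 1) := by
  intro h
  have hp := (Fact.out : p.Prime)
  obtain ⟨e, he, hq⟩ := FiniteField.card F p
  have h1 : p ∣ Fintype.card F - 1 := h.trans (Nat.gcd_dvd_right _ _)
  have h2 : p ∣ Fintype.card F := by
    rw [hq]; exact dvd_pow_self p e.ne_zero
  have h3 : 1 ≤ Fintype.card F := Fintype.card_pos
  have h4 : p ∣ 1 := by
    have := (Nat.dvd_sub h2 h1)
    rwa [Nat.sub_sub_self h3] at this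
  exact hp.one_lt.ne' (Nat.dvd_one.mp h4)

/-- E01 core: the statement of C03 (`card_center_SL`) enters as a hypothesis. -/
theorem slbe01_core (p : ℕ) [Fact p.Prime] [CharP F p] (n : ℕ) (hn : 2 ≤ n)
    (hC03 : Nat.card (Subgroup.center (Matrix.SpecialLinearGroup (Fin n) F)) =
      Nat.gcd n (Fintype.card F - 1)) :
    ∃ χ : Cfsg.IrrCharacter (Matrix.SpecialLinearGroup (Fin n) F),
      Cfsg.charDegree (χ : Matrix.SpecialLinearGroup (Fin n) F → ℂ) =
        p ^ (Nat.card (Matrix.SpecialLinearGroup (Fin n) F)).factorization p := by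
  classical
  have hp := (Fact.out : p.Prime)
  obtain ⟨χ₀, hirr, hP⟩ := Cfsg.Agent.S2544.result (F := F) p n hn
  obtain ⟨P₀⟩ : Nonempty (Sylow p (Matrix.ProjectiveSpecialLinearGroup (Fin n) F)) := inferInstance
  have h1 := (hP P₀).1
  refine ⟨Cfsg.Agent.Lib.Helper24.qh_infl
    (Subgroup.center (Matrix.SpecialLinearGroup (Fin n) F)) ⟨χ₀, hirr⟩, ?_⟩
  unfold Cfsg.charDegree
  rw [Cfsg.Agent.Lib.Helper24.qh_infl_apply]
  have h2 : χ₀ ((1 : Matrix.SpecialLinearGroup (Fin n) F) :
      Matrix.SpecialLinearGroup (Fin n) F ⧸ Subgroup.center (Matrix.SpecialLinearGroup (Fin n) F)) =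
      (Nat.card P₀ : ℂ) := h1
  simp only [h2, Complex.natCast_re, Nat.floor_natCast]
  rw [Sylow.card_eq_multiplicity]
  congr 1
  have hcard : Nat.card (Matrix.SpecialLinearGroup (Fin n) F) =
      Nat.card (Matrix.ProjectiveSpecialLinearGroup (Fin n) F) *
        Nat.card (Subgroup.center (Matrix.SpecialLinearGroup (Fin n) F)) :=
    Subgroup.card_eq_card_quotient_mul_card_subgroup _
  rw [hcard, Nat.factorization_mul Nat.card_pos.ne' Nat.card_pos.ne', Finsupp.add_apply, hC03,
    Nat.factorization_eq_zero_of_not_dvd (slbe01_not_dvd p n), add_zero]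

end E

end Cfsg.Agent.Lib.Helper10.SLB
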