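import Mathlib
import Cfsg.Prelude.Def_Blocks
import Cfsg.Agent.Lib.Helper16.AP3
import Cfsg.Agent.Lib.Helper10.SLB.Defs
import Cfsg.Agent.Lib.Helper28.SLBE01core
import Cfsg.Agent.Lib.Helper28.SLBC03h28

/-!
# SLB row E01 (helper28), verbatim.
-/

set_option autoImplicit false

namespace Cfsg.Agent.Lib.Helper10.SLB

universe u

section E

variable {F : Type u} [Field F] [Fintype F]

/-- E01 [M]. -/
theorem exists_defect_zero_char (p : ℕ) [Fact p.Prime] [CharP F p] (n : ℕ) (hn : 2 ≤ n) :
    ∃ χ : Cfsg.IrrCharacter (Matrix.SpecialLinearGroup (Fin n) F),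
      Cfsg.charDegree (χ : Matrix.SpecialLinearGroup (Fin n) F → ℂ) =
        p ^ (Nat.card (Matrix.SpecialLinearGroup (Fin n) F)).factorization p :=
  slbe01_core p n hn (slbe01_card_center_SL n (by omega))

end E

end Cfsg.Agent.Lib.Helper10.SLB
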