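import Mathlib
import Cfsg.Prelude.Def_Blocks
import Cfsg.Agent.Lib.Helper16.AP3
import Cfsg.Agent.Lib.Helper10.SLB.Defs
import Cfsg.Agent.S0914

/-!
# SLB row E02 (helper28): a character of degree `|G|_p` is alone in its block, which has defect zero.
Core (any finite group; the E01 statement enters as the hypothesis `hχ`).
-/

set_option autoImplicit false

namespace Cfsg.Agent.Lib.Helper10.SLB

universe u

/-- general form: an irreducible character of degree `|G|_p` gives a block of defect zero. -/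
theorem slbe02_general {G : Type*} [Group G] [Finite G] (p : ℕ) [Fact p.Prime]
    (M : Ideal Cfsg.AlgInt) (hM : Cfsg.IsPModular p M) (χ : Cfsg.IrrCharacter G)
    (hχ : Cfsg.charDegree (χ : G → ℂ) = p ^ (Nat.card G).factorization p) :
    ∃ B : Set (Cfsg.IrrCharacter G), Cfsg.IsPBlock M B ∧ Cfsg.blockDefect p B = 0 := by
  have hp := (Fact.out : p.Prime)
  have hnd : ¬ p ∣ Nat.card G / Cfsg.charDegree (χ : G → ℂ) := by
    rw [hχ]
    exact Nat.not_dvd_ordCompl hp Nat.card_pos.ne'
  have hB : Cfsg.blockOf M (χ : G → ℂ) = {χ} := (Cfsg.Agent.S0914.result p M hM χ).mp hnd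
  refine ⟨Cfsg.blockOf M (χ : G → ℂ), ⟨χ, rfl⟩, ?_⟩
  rw [hB]
  unfold Cfsg.blockDefect
  rw [Set.image_singleton, csInf_singleton, hχ, Nat.Prime.factorization_pow hp,
    Finsupp.single_eq_same, Nat.sub_self]

section E

variable {F : Type u} [Field F] [Fintype F]

/-- E02 core: the statement of E01 (`exists_defect_zero_char`) enters as a hypothesis. -/
theorem slbe02_core (p : ℕ) [Fact p.Prime] [CharP F p] (n : ℕ) (hn : 2 ≤ n)
    (M : Ideal Cfsg.AlgInt) (hM : Cfsg.IsPModular p M)
    (hE01 : ∃ χ : Cfsg.IrrCharacter (Matrix.SpecialLinearGroup (Fin n) F),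
      Cfsg.charDegree (χ : Matrix.SpecialLinearGroup (Fin n) F → ℂ) =
        p ^ (Nat.card (Matrix.SpecialLinearGroup (Fin n) F)).factorization p) :
    ∃ B : Set (Cfsg.IrrCharacter (Matrix.SpecialLinearGroup (Fin n) F)),
      Cfsg.IsPBlock M B ∧ Cfsg.blockDefect p B = 0 := by
  obtain ⟨χ, hχ⟩ := hE01
  exact slbe02_general p M hM χ hχ

end E

end Cfsg.Agent.Lib.Helper10.SLB
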