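import Mathlib
import Cfsg.Prelude.Def_Blocks
import Cfsg.Agent.Lib.Helper16.AP3
import Cfsg.Agent.Lib.Helper10.SLB.Defs
import Cfsg.Agent.Lib.Helper28.SLBE02core
import Cfsg.Agent.Lib.Helper28.SLBE01

/-!
# SLB row E02 (helper28), verbatim.
-/

set_option autoImplicit false

namespace Cfsg.Agent.Lib.Helper10.SLB

universe u

section E

variable {F : Type u} [Field F] [Fintype F]

/-- E02 [M]. -/
theorem exists_defect_zero_block (p : ℕ) [Fact p.Prime] [CharP F p] (n : ℕ) (hn : 2 ≤ n)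
    (M : Ideal Cfsg.AlgInt) (hM : Cfsg.IsPModular p M) :
    ∃ B : Set (Cfsg.IrrCharacter (Matrix.SpecialLinearGroup (Fin n) F)),
      Cfsg.IsPBlock M B ∧ Cfsg.blockDefect p B = 0 :=
  slbe02_core p n hn M hM (exists_defect_zero_char p n hn)

end E

end Cfsg.Agent.Lib.Helper10.SLB
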