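import Mathlib
import Cfsg.Agent.Lib.helper3.T2E.Defs
import Cfsg.Agent.Lib.Helper16.TEMF1

/-!
# T2E rows D2 (`XT_add XT_zero XT_inv`) and D3 (`XT_sig`) (helper28)
-/

set_option autoImplicit false

namespace Cfsg.Agent.Lib.helper3.T2E

open Cfsg.Lie Cfsg.Lie.ChevalleyDatum Matrix
open Cfsg.Agent.Lib.helper8 Cfsg.Agent.Lib.Helper10.TEM Cfsg.Agent.Lib.helper7.Ce
  Cfsg.Agent.Lib.helper15.St2

universe u

variable {K : Type u} [Field K] {q : ℕ} {f : K ≃+* K}

-- ROW D2 [S]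
theorem XT_add (hF : Frob q f) (r : ℕ) (hr : r < 72) (s t : K) :
    XT q r (s + t) = XT q r s * XT q r t := by
  unfold XT
  by_cases hσ : h8sE6 r = r
  · rw [if_pos hσ, if_pos hσ, if_pos hσ]
    exact temf1_X_add r hr s t
  · rw [if_neg hσ, if_neg hσ, if_neg hσ]
    exact XS_add hF r hr hσ s t

theorem XT_zero (hF : Frob q f) (r : ℕ) (hr : r < 72) : XT q r (0 : K) = 1 := by
  have h := XT_add hF r hr (0 : K) 0
  rw [add_zero] at h
  exact (mul_eq_left.1 h.symm)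

theorem XT_inv (hF : Frob q f) (r : ℕ) (hr : r < 72) (t : K) : (XT q r t)⁻¹ = XT q r (-t) := by
  have h := XT_add hF r hr t (-t)
  rw [add_neg_cancel, XT_zero hF r hr] at h
  exact inv_eq_of_mul_eq_one_right h.symm

end Cfsg.Agent.Lib.helper3.T2E
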