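import Mathlib
import Cfsg.Agent.Lib.helper3.T2E.Defs
import Cfsg.Agent.Lib.Helper16.TEMF1

/-!
# T2E row D3 (`XT_sig`) (helper28)
-/

set_option autoImplicit false

namespace Cfsg.Agent.Lib.helper3.T2E

open Cfsg.Lie Cfsg.Lie.ChevalleyDatum Matrix
open Cfsg.Agent.Lib.helper8 Cfsg.Agent.Lib.Helper10.TEM Cfsg.Agent.Lib.helper7.Ce
  Cfsg.Agent.Lib.helper15.St2

universe u

variable {K : Type u} [Field K] {q : ℕ} {f : K ≃+* K}

/-- `(η x)^q = η x^q` for the sign `η = ±1` -/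
theorem t2ed3h28_eta_pow (hF : Frob q f) (r : ℕ) (hr : r < 72) (x : K) :
    (((h8eE6 r : ℤ) : K) * x) ^ q = ((h8eE6 r : ℤ) : K) * x ^ q := by
  obtain ⟨-, -, -, -, -, -, h7, -⟩ := root_data r hr
  rcases h7 with h | h
  · rw [h]; simp
  · rw [h, mul_pow]
    simp only [Int.cast_neg, Int.cast_one]
    rw [hF.neg]

theorem t2ed3h28_eta_sq (r : ℕ) (hr : r < 72) (x : K) :
    ((h8eE6 r : ℤ) : K) * (((h8eE6 r : ℤ) : K) * x) = x := by
  obtain ⟨-, -, -, -, -, -, h7, -⟩ := root_data r hr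
  rcases h7 with h | h
  · rw [h]; simp
  · rw [h]; simp

-- ROW D3 [S-M]
theorem XT_sig (hF : Frob q f) (r : ℕ) (hr : r < 72) (t : K) (ht : Adm q r t) :
    Adm q (h8sE6 r) (((h8eE6 r : ℤ) : K) * t ^ q) ∧
      XT q (h8sE6 r) (((h8eE6 r : ℤ) : K) * t ^ q) = XT q r t := by
  obtain ⟨-, -, h3, h4, -, h6, h7, h8, -⟩ := root_data r hr
  by_cases hσ : h8sE6 r = r
  · have htq : t ^ q = t := ht hσ
    have he : h8eE6 r = 1 := h8 hσ
    have hval : ((h8eE6 r : ℤ) : K) * t ^ q = t := by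
      rw [he, htq]; simp
    rw [hval, hσ]
    exact ⟨ht, rfl⟩
  · have hσ' : h8sE6 (h8sE6 r) ≠ h8sE6 r := by
      rw [h4]; exact fun h => hσ h.symm
    refine ⟨fun h => absurd h hσ', ?_⟩
    unfold XT
    rw [if_neg hσ', if_neg hσ]
    unfold XS
    rw [h4, h6, t2ed3h28_eta_pow hF r hr, t2ed3h28_eta_sq r hr]
    have htt : (t ^ q) ^ q = t := by
      rw [← hF.pow, ← hF.pow, hF.inv]
    rw [htt]
    exact (temf1_comm r hr hσ t _).symm

end Cfsg.Agent.Lib.helper3.T2E
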