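import Mathlib
import Cfsg.Agent.Lib.Helper10.TEM.Defs

/-!
# TEM A7 (core): Lemma A, on the statements of the cited rows (helper28)
-/

set_option autoImplicit false

namespace Cfsg.Agent.Lib.Helper10.TEM

open Cfsg.Lie Cfsg.Lie.ChevalleyDatum Matrix
open Cfsg.Agent.Lib.helper8

universe u

variable {K : Type u} [Field K] {q : ℕ} {f : K ≃+* K} {M H : Subgroup (GG K)}

theorem tema7_fixed : ∀ a ∈ [11, 27, 32, 39, 44, 60], a < 72 ∧ h8sE6 a = a := by decide

theorem tema7_short : ∀ r ∈ [48, 49, 52, 54, 55, 66], r < 72 ∧ h8sE6 r ≠ r := by decide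

/-- a sign times a rational parameter -/
theorem tema7_sign (hF : Frob q f) {ε t : K} (hε : ε = 1 ∨ ε = -1) (h : (ε * t) ^ q = ε * t) :
    t ^ q = t := by
  rcases hε with rfl | rfl
  · simpa using h
  · rw [mul_pow, hF.neg] at h
    have := neg_injective (by simpa using h : -(t ^ q) = -t)
    exact this

/-- A7 core: Lemma A from the statements of A6 (`hlong`), P4 (`hdec`), A5 (`hiso`), G3, R2. -/
theorem tema7_core (C : Ctx q f M H) (hRR : RootRat q H) (u : GG K)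
    (hlong : ∀ a ∈ [11, 27, 32, 39, 44, 60], ∀ s : K, s ^ q = s → u * X a s * u⁻¹ ∈ H)
    (hdec : ∃ t : ℕ → K, ∃ ℓ : GG K, ℓ ∈ UPsi K Psi1 ∧ ℓ ∈ twistedE6 K q ∧ Rat q ℓ ∧
      u = QS q t * ℓ)
    (hiso : ∀ (t : ℕ → K) (ℓ : GG K), ℓ ∈ UPsi K Psi1 → ℓ ∈ M → ∀ r a r' : ℕ,
      (r, a, r') ∈ shortTriples → ∃ ε : K, (ε = 1 ∨ ε = -1) ∧ ∃ m ∈ M,
        (QS q t * ℓ) * X a 1 * (QS q t * ℓ)⁻¹ * (X a 1)⁻¹ = XS q r' (ε * t r) * m)
    (hG3X : ∀ r < 72, h8sE6 r = r → ∀ t : K, t ^ q = t → X r t ∈ twistedE6 K q)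
    (hG3S : ∀ r < 72, h8sE6 r ≠ r → ∀ t : K, XS q r t ∈ twistedE6 K q)
    (hR2X : ∀ (r : ℕ) (t : K), t ^ q = t → Rat q (X r t))
    (hR2S : ∀ (r : ℕ) (t : K), t ^ q = t → Rat q (XS q r t)) : u ∈ M := by
  obtain ⟨t, ℓ, hℓ, hℓG, hℓR, rfl⟩ := hdec
  have hℓM : ℓ ∈ M := (C.hM ℓ).2 ⟨hℓG, hℓR⟩
  -- the six coordinates are rational
  have key : ∀ r a r' : ℕ, (r, a, r') ∈ shortTriples → (t r) ^ q = t r := by
    intro r a r' h
    obtain ⟨ε, hε, m, hm, heq⟩ := hiso t ℓ hℓ hℓM r a r' h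
    have ha : a ∈ [11, 27, 32, 39, 44, 60] := by
      revert h; simp only [shortTriples]; intro h
      simp only [List.mem_cons, Prod.mk.injEq, List.not_mem_nil, or_false] at h
      rcases h with h | h | h | h | h | h <;> obtain ⟨-, rfl, -⟩ := h <;> simp
    have hr' : r' < 72 ∧ h8sE6 r' ≠ r' := by
      apply tema7_short
      revert h; simp only [shortTriples]; intro h
      simp only [List.mem_cons, Prod.mk.injEq, List.not_mem_nil, or_false] at h
      rcases h with h | h | h | h | h | h <;> obtain ⟨-, -, rfl⟩ := h <;> simp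
    have h1 : ((1 : K)) ^ q = 1 := one_pow q
    have hXaM : X a (1 : K) ∈ M :=
      (C.hM _).2 ⟨hG3X a (tema7_fixed a ha).1 (tema7_fixed a ha).2 1 h1, hR2X a 1 h1⟩
    have hL : (QS q t * ℓ) * X a 1 * (QS q t * ℓ)⁻¹ * (X a 1)⁻¹ ∈ H :=
      H.mul_mem (hlong a ha 1 h1) (H.inv_mem (C.hMH hXaM))
    rw [heq] at hL
    have hXS : XS q r' (ε * t r) ∈ H := by
      have := H.mul_mem hL (H.inv_mem (C.hMH hm))
      simpa [mul_assoc] using this
    exact tema7_sign C.hF hε (hRR r' hr'.1 hr'.2 _ hXS)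
  have hmem : ∀ r ∈ [48, 49, 52, 54, 55, 66], (t r) ^ q = t r → XS q r (t r) ∈ M := by
    intro r hr h
    exact (C.hM _).2 ⟨hG3S r (tema7_short r hr).1 (tema7_short r hr).2 _, hR2S r _ h⟩
  have h48 := hmem 48 (by simp) (key 48 60 66 (by simp [shortTriples]))
  have h49 := hmem 49 (by simp) (key 49 44 55 (by simp [shortTriples]))
  have h52 := hmem 52 (by simp) (key 52 39 54 (by simp [shortTriples]))
  have h54 := hmem 54 (by simp) (key 54 32 52 (by simp [shortTriples]))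
  have h55 := hmem 55 (by simp) (key 55 27 49 (by simp [shortTriples]))
  have h66 := hmem 66 (by simp) (key 66 11 48 (by simp [shortTriples]))
  have hQS : QS q t ∈ M := by
    unfold QS
    exact M.mul_mem (M.mul_mem (M.mul_mem (M.mul_mem (M.mul_mem h48 h49) h52) h54) h55) h66
  exact M.mul_mem hQS hℓM

end Cfsg.Agent.Lib.Helper10.TEM
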