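import Mathlib
import Cfsg.Agent.Lib.Helper10.TEM.Defs
import Cfsg.Agent.Lib.Helper28.TEMA7core
import Cfsg.Agent.Lib.Helper22.TEMA6core
import Cfsg.Agent.Lib.Helper18.TEMA5core
import Cfsg.Agent.Lib.Helper21.TEMP4core
import Cfsg.Agent.Lib.Helper29.TEMA2
import Cfsg.Agent.Lib.Helper29.TEMA3
import Cfsg.Agent.Lib.Helper16.TEMC2
import Cfsg.Agent.Lib.Helper21.TEMC3
import Cfsg.Agent.Lib.Helper21.TEMC5
import Cfsg.Agent.Lib.Helper19.TEMP0
import Cfsg.Agent.Lib.Helper27.TEMP3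
import Cfsg.Agent.Lib.helper15.TEMG3
import Cfsg.Agent.Lib.helper4.TEMR2

/-!
# TEM A7: Lemma A (helper28; verbatim row of `Helper10/TEM/Skel.lean.txt`)

Uses the cores of A6 (helper22), A5 (helper18), P4 (helper21) directly on the landed rows
A2 A3 C2 C3 C5 P0 P3 G3 R2.
-/

set_option autoImplicit false

namespace Cfsg.Agent.Lib.Helper10.TEM

open Cfsg.Lie Cfsg.Lie.ChevalleyDatum Matrix
open Cfsg.Agent.Lib.helper8

universe u

variable {K : Type u} [Field K] {q : ℕ} {f : K ≃+* K} {M H : Subgroup (GG K)}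

theorem tema7_pair : (Psi1, 71) ∈ commPairs := by decide

theorem lemA (C : Ctx q f M H) (hRR : RootRat q H) (u : GG K)
    (hu : u ∈ UPsi K Psi1 ⊓ twistedE6 K q)
    (hconj : ∀ c : K, c ^ q = c → u * X 0 c * u⁻¹ ∈ H) : u ∈ M :=
  tema7_core C hRR u
    (tema6_core C (fun b b' h => nrho_act b b' h) (fun b b' a h => comm_long b b' a h)
      (fun g hg c => comm_pairs Psi1 71 tema7_pair g hg c)
      (fun g hg h hh => Q_comm g hg h hh)
      (fun g hg => one_rat C.hF 71 (by simp) g hg)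
      (fun r hr hσ t ht => X_mem_G1 C.hF r hr hσ t ht)
      (fun r t ht => rat_X C.hF r t ht) u hu hconj)
    (temp4_core C.hF Ub_nine (fun r hr g hg => one_rat C.hF r hr g hg)
      (fun r hr hσ t ht => X_mem_G1 C.hF r hr hσ t ht)
      (fun r hr hσ t => XS_mem_G1 C.hF r hr hσ t)
      (fun r t ht => rat_X C.hF r t ht) u hu)
    (fun t ℓ hℓ hℓM r a r' h =>
      tema5_core C.hF C.hM (fun L a h g hg c => comm_pairs L a h g hg c)
        (fun L L' h g hg b hb => norm_of_terms L L' h g hg b hb)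
        (fun g hg h hh => Q_comm g hg h hh)
        (fun r hr g hg => one_rat C.hF r hr g hg)
        (fun r hr hσ t ht => X_mem_G1 C.hF r hr hσ t ht)
        (fun r hr hσ t => XS_mem_G1 C.hF r hr hσ t)
        (fun r t ht => rat_X C.hF r t ht) t ℓ hℓ hℓM r a r' h)
    (fun r hr hσ t ht => X_mem_G1 C.hF r hr hσ t ht)
    (fun r hr hσ t => XS_mem_G1 C.hF r hr hσ t)
    (fun r t ht => rat_X C.hF r t ht) (fun r t ht => rat_XS C.hF r t ht)

end Cfsg.Agent.Lib.Helper10.TEM
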