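import Mathlib
import Cfsg.Agent.Lib.Helper10.TEM.Defs

/-!
# TEM A8 (core): Lemma A at all levels and signs, on the statements of A7 C6 C7 G1 R2 (helper28)
-/

set_option autoImplicit false

namespace Cfsg.Agent.Lib.Helper10.TEM

open Cfsg.Lie Cfsg.Lie.ChevalleyDatum Matrix
open Cfsg.Agent.Lib.helper8

universe u

variable {K : Type u} [Field K] {q : ℕ} {f : K ≃+* K} {M H : Subgroup (GG K)}

theorem tema8_words : (∀ i ∈ flatO l2, i < 6) ∧ (∀ i ∈ flatO l3, i < 6) ∧ (∀ i ∈ flatO l0, i < 6) := by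
  decide

theorem tema8_l2 : (∀ r ∈ Psi2, r < 72 ∧ h8sW chevE6 (flatO l2) r ∈ Psi1) ∧
    h8sW chevE6 (flatO l2) 11 = 0 := by decide +kernel

theorem tema8_l3 : (∀ r ∈ Psi3, r < 72 ∧ h8sW chevE6 (flatO l3) r ∈ Psi1) ∧
    h8sW chevE6 (flatO l3) 27 = 0 := by decide +kernel

theorem tema8_l0_1 : (∀ r ∈ ng Psi1, r < 72 ∧ h8sW chevE6 (flatO l0) r ∈ Psi1) ∧
    h8sW chevE6 (flatO l0) 71 = 0 := by decide +kernel

theorem tema8_l0_2 : (∀ r ∈ ng Psi2, r < 72 ∧ h8sW chevE6 (flatO l0) r ∈ Psi2) ∧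
    h8sW chevE6 (flatO l0) 60 = 11 := by decide +kernel

theorem tema8_l0_3 : (∀ r ∈ ng Psi3, r < 72 ∧ h8sW chevE6 (flatO l0) r ∈ Psi3) ∧
    h8sW chevE6 (flatO l0) 44 = 27 := by decide +kernel

/-- a sign times a rational parameter is rational -/
theorem tema8_sign (hF : Frob q f) {ε c : K} (hε : ε = 1 ∨ ε = -1) (hc : c ^ q = c) :
    (ε * c) ^ q = ε * c := by
  rcases hε with rfl | rfl
  · simpa using hc
  · rw [mul_pow, hF.neg, hc]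

/-- transport of Lemma A along an element `nO l` of `N ∩ M` -/
theorem tema8_transport (C : Ctx q f M H) (l : List ℕ) (L L' : List ℕ) (a a' : ℕ)
    (hC6 : ∃ ε : K, (ε = 1 ∨ ε = -1) ∧
      (∀ t : K, nW (flatO l) * X a t * (nW (flatO l))⁻¹ = X a' (ε * t)) ∧
      ∀ t : K, (nW (flatO l))⁻¹ * X a' t * nW (flatO l) = X a (ε * t))
    (hC7 : ∀ g ∈ UPsi K L, nW (flatO l) * g * (nW (flatO l))⁻¹ ∈ UPsi K L')
    (hG1 : (nO l : GG K) ∈ twistedE6 K q) (hR2 : Rat q (nW (flatO l) : GG K))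
    (hA' : ∀ u' ∈ UPsi K L' ⊓ twistedE6 K q,
      (∀ c : K, c ^ q = c → u' * X a' c * u'⁻¹ ∈ H) → u' ∈ M)
    (u : GG K) (hu : u ∈ UPsi K L ⊓ twistedE6 K q)
    (hconj : ∀ c : K, c ^ q = c → u * X a c * u⁻¹ ∈ H) : u ∈ M := by
  obtain ⟨ε, hε, -, h2⟩ := hC6
  set n : GG K := nW (flatO l) with hn
  have hnG : n ∈ twistedE6 K q := hG1
  have hnM : n ∈ M := (C.hM n).2 ⟨hnG, hR2⟩
  have hu' : n * u * n⁻¹ ∈ M := by
    apply hA' _ ⟨hC7 u hu.1, Subgroup.mul_mem _ (Subgroup.mul_mem _ hnG hu.2) (Subgroup.inv_mem _ hnG)⟩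
    intro c hc
    have e : n * u * n⁻¹ * X a' c * (n * u * n⁻¹)⁻¹ = n * (u * X a (ε * c) * u⁻¹) * n⁻¹ := by
      rw [← h2 c]
      group
    rw [e]
    exact H.mul_mem (H.mul_mem (C.hMH hnM) (hconj _ (tema8_sign C.hF hε hc))) (H.inv_mem (C.hMH hnM))
  have : u = n⁻¹ * (n * u * n⁻¹) * n := by group
  rw [this]
  exact M.mul_mem (M.mul_mem (M.inv_mem hnM) hu') hnM

/-- A8 core: Lemma A for the six pairs, from the statements of A7 (`hA7`), C6, C7, G1, R2. -/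
theorem tema8_core (C : Ctx q f M H)
    (hA7 : ∀ u ∈ UPsi K Psi1 ⊓ twistedE6 K q,
      (∀ c : K, c ^ q = c → u * X 0 c * u⁻¹ ∈ H) → u ∈ M)
    (hC6 : ∀ (w : List ℕ), (∀ i ∈ w, i < 6) → ∀ r < 72, ∃ ε : K, (ε = 1 ∨ ε = -1) ∧
      (∀ t : K, nW w * X r t * (nW w)⁻¹ = X (h8sW chevE6 w r) (ε * t)) ∧
      ∀ t : K, (nW w)⁻¹ * X (h8sW chevE6 w r) t * nW w = X r (ε * t))
    (hC7 : ∀ (w : List ℕ), (∀ i ∈ w, i < 6) → ∀ L L' : List ℕ,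
      (∀ r ∈ L, r < 72 ∧ h8sW chevE6 w r ∈ L') → ∀ g ∈ UPsi K L,
        nW w * g * (nW w)⁻¹ ∈ UPsi K L')
    (hG1 : ∀ l : List ℕ, (nO l : GG K) ∈ twistedE6 K q)
    (hR2 : ∀ w : List ℕ, Rat q (nW w : GG K))
    (L : List ℕ) (a : ℕ) (h : (L, a) ∈ lemAPairs) (u : GG K)
    (hu : u ∈ UPsi K L ⊓ twistedE6 K q)
    (hconj : ∀ c : K, c ^ q = c → u * X a c * u⁻¹ ∈ H) : u ∈ M := by
  have tr : ∀ (l : List ℕ) (L L' : List ℕ) (a a' : ℕ), (∀ i ∈ flatO l, i < 6) →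
      (∀ r ∈ L, r < 72 ∧ h8sW chevE6 (flatO l) r ∈ L') → a < 72 →
      h8sW chevE6 (flatO l) a = a' →
      (∀ u' ∈ UPsi K L' ⊓ twistedE6 K q,
        (∀ c : K, c ^ q = c → u' * X a' c * u'⁻¹ ∈ H) → u' ∈ M) →
      ∀ u ∈ UPsi K L ⊓ twistedE6 K q,
        (∀ c : K, c ^ q = c → u * X a c * u⁻¹ ∈ H) → u ∈ M := by
    intro l L L' a a' hw hL ha haa' hA' u hu hconj
    refine tema8_transport C l L L' a a' ?_ (hC7 _ hw L L' hL) (hG1 l) (hR2 _) hA' u hu hconj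
    have := hC6 _ hw a ha
    rw [haa'] at this
    exact this
  have h2 := tr l2 Psi2 Psi1 11 0 tema8_words.1 tema8_l2.1 (by norm_num) tema8_l2.2 hA7
  have h3 := tr l3 Psi3 Psi1 27 0 tema8_words.2.1 tema8_l3.1 (by norm_num) tema8_l3.2 hA7
  have h1' := tr l0 (ng Psi1) Psi1 71 0 tema8_words.2.2 tema8_l0_1.1 (by norm_num) tema8_l0_1.2 hA7
  have h2' := tr l0 (ng Psi2) Psi2 60 11 tema8_words.2.2 tema8_l0_2.1 (by norm_num) tema8_l0_2.2 h2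
  have h3' := tr l0 (ng Psi3) Psi3 44 27 tema8_words.2.2 tema8_l0_3.1 (by norm_num) tema8_l0_3.2 h3
  simp only [lemAPairs, List.mem_cons, Prod.mk.injEq, List.not_mem_nil, or_false] at h
  rcases h with ⟨rfl, rfl⟩ | ⟨rfl, rfl⟩ | ⟨rfl, rfl⟩ | ⟨rfl, rfl⟩ | ⟨rfl, rfl⟩ | ⟨rfl, rfl⟩
  · exact hA7 u hu hconj
  · exact h2 u hu hconj
  · exact h3 u hu hconj
  · exact h1' u hu hconj
  · exact h2' u hu hconj
  · exact h3' u hu hconj

end Cfsg.Agent.Lib.Helper10.TEM
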