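import Mathlib
import Cfsg.Agent.Lib.Helper10.TEM.Defs
import Cfsg.Agent.Lib.Helper28.TEMA8core
import Cfsg.Agent.Lib.Helper28.TEMA7
import Cfsg.Agent.Lib.Helper16.TEMC6
import Cfsg.Agent.Lib.Helper16.TEMC7
import Cfsg.Agent.Lib.Helper12.TEMG1
import Cfsg.Agent.Lib.helper4.TEMR2

/-!
# TEM A8: Lemma A at all levels and signs (helper28; verbatim row of `Helper10/TEM/Skel.lean.txt`)
-/

set_option autoImplicit false

namespace Cfsg.Agent.Lib.Helper10.TEM

open Cfsg.Lie Cfsg.Lie.ChevalleyDatum Matrix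
open Cfsg.Agent.Lib.helper8

universe u

variable {K : Type u} [Field K] {q : ℕ} {f : K ≃+* K} {M H : Subgroup (GG K)}

theorem lemA_all (C : Ctx q f M H) (hRR : RootRat q H) (L : List ℕ) (a : ℕ)
    (h : (L, a) ∈ lemAPairs) (u : GG K) (hu : u ∈ UPsi K L ⊓ twistedE6 K q)
    (hconj : ∀ c : K, c ^ q = c → u * X a c * u⁻¹ ∈ H) : u ∈ M :=
  tema8_core C (fun u hu hconj => lemA C hRR u hu hconj)
    (fun w hw r hr => nW_X w hw r hr) (fun w hw L L' h g hg => nW_UPsi w hw L L' h g hg)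
    (fun l => nO_mem_G1 C.hF l) (fun w => rat_nW C.hF w) L a h u hu hconj

end Cfsg.Agent.Lib.Helper10.TEM
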