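import Mathlib
import Cfsg.Agent.Lib.Helper10.TEM.Defs
import Cfsg.Agent.Lib.helper8.ChevTwH1
import Cfsg.Agent.Lib.helper8.ChevTwC1
import Cfsg.Agent.Lib.helper8.ChevTabSC
import Cfsg.Agent.Lib.helper8.ChevFix2

/-!
# TEM D2 (core): a torus element of `H` is rational (helper28)
-/

set_option autoImplicit false

namespace Cfsg.Agent.Lib.Helper10.TEM

open Cfsg.Lie Cfsg.Lie.ChevalleyDatum Matrix
open Cfsg.Agent.Lib.helper8

universe u

variable {K : Type u} [Field K] {q : ℕ} {f : K ≃+* K} {M H : Subgroup (GG K)}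

theorem temd2_nroots : chevE6.nroots = 72 := by decide

/-- `Rat` from `h8Psi f g = g` (half of R1, proved directly) -/
theorem temd2_rat_of_fix (hF : Frob q f) (g : GG K)
    (h : h8Psi chevE6 (f : K →+* K) g = g) : Rat q g := by
  intro i j
  have h1 := congrArg (fun x : GG K => (x : Matrix chevE6.Idx chevE6.Idx K) i j) h
  simp only [h8Psi_val, Matrix.map_apply] at h1
  rw [← hF.pow]
  exact h1

/-- D2 core: on the statements of G3 `XS_mem_G1` and R2 `rat_XS` -/
theorem temd2_core (C : Ctx q f M H) (hRR : RootRat q H)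
    (hG3S : ∀ r < 72, h8sE6 r ≠ r → ∀ t : K, XS q r t ∈ twistedE6 K q)
    (hR2S : ∀ (r : ℕ) (t : K), t ^ q = t → Rat q (XS q r t))
    (t : GG K) (ht : t ∈ T1 K q) (htH : t ∈ H) : Rat q t := by
  have hF := C.hF
  have htD : t ∈ chevE6.diagonalSubgroup K := ht.1
  have htG : t ∈ twistedE6 K q := ht.2
  have hfix : Sg f t = t := sig_fix hF t htG
  -- the characters
  have hspec : ∀ r < 72, h8chi chevE6 hB t r ≠ 0 ∧
      ∀ s : K, t * X r s * t⁻¹ = X r (h8chi chevE6 hB t r * s) := by
    intro r hr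
    exact h8chi_spec chevE6 hB t htD r (by rw [temd2_nroots]; exact hr)
  have hsig : ∀ r < 72, h8chi chevE6 hB t (h8sE6 r) = f (h8chi chevE6 hB t r) := by
    intro r hr
    exact h8chi_sig chevE6 hB hA hW h8sE6 h8tE6 h8pE6 h8qE6 h8eE6 hAut f t htD hfix r
      (by rw [temd2_nroots]; exact hr)
  -- all characters are rational
  have hrat : ∀ r < 72, f (h8chi chevE6 hB t r) = h8chi chevE6 hB t r := by
    intro r hr
    by_cases hσ : h8sE6 r = r
    · have := hsig r hr
      rw [hσ] at this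
      exact this.symm
    · have hσr : h8sE6 r < 72 := (root_data r hr).2.2.1
      have h1 : XS q r (1 : K) ∈ H :=
        C.hMH ((C.hM _).2 ⟨hG3S r hr hσ 1, hR2S r 1 (one_pow q)⟩)
      have h2 : t * XS q r (1 : K) * t⁻¹ = XS q r (h8chi chevE6 hB t r) := by
        unfold XS
        have e : t * (X r 1 * X (h8sE6 r) (((h8eE6 r : ℤ) : K) * 1 ^ q)) * t⁻¹ =
            (t * X r 1 * t⁻¹) * (t * X (h8sE6 r) (((h8eE6 r : ℤ) : K) * 1 ^ q) * t⁻¹) := by
          group
        rw [e, (hspec r hr).2, (hspec (h8sE6 r) hσr).2, hsig r hr, hF.pow, mul_one, one_pow,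
          mul_one]
        congr 2
        ring
      have h3 : XS q r (h8chi chevE6 hB t r) ∈ H := by
        rw [← h2]
        exact H.mul_mem (H.mul_mem htH h1) (H.inv_mem htH)
      rw [hF.pow]
      exact hRR r hr hσ _ h3
  -- `d = t⁻¹ * Ψ t` is a central diagonal element
  set P : GG K := h8Psi chevE6 (f : K →+* K) t with hP
  have hPD : P ∈ chevE6.diagonalSubgroup K :=
    h8Psi_H_le chevE6 hB hB (f : K →+* K) (Subgroup.mem_map_of_mem _ htD)
  have hconj : ∀ s < 72, P * X s 1 * P⁻¹ = t * X s 1 * t⁻¹ := by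
    intro s hs
    have h1 : h8Psi chevE6 (f : K →+* K) (t * X s 1 * t⁻¹) = P * X s 1 * P⁻¹ := by
      rw [map_mul, map_mul, map_inv]
      congr 2
      unfold X
      rw [h8Psi_xU chevE6 hB hB]
      simp
    rw [← h1, (hspec s hs).2, mul_one]
    unfold X
    rw [h8Psi_xU chevE6 hB hB]
    congr 1
    exact hrat s hs
  have hd : t⁻¹ * P = 1 := by
    apply h8H_central_trivial chevE6 hB hA hW (h8scChk_all chevE6 hD) (t⁻¹ * P)
      (Subgroup.mul_mem _ (Subgroup.inv_mem _ htD) hPD)
    intro s hs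
    rw [temd2_nroots] at hs
    have h := hconj s hs
    have h' : P * X s 1 = t * X s 1 * t⁻¹ * P := by
      rw [← h]; group
    show t⁻¹ * P * X s 1 = X s 1 * (t⁻¹ * P)
    rw [mul_assoc, h']
    group
  have hPt : P = t := by
    have := congrArg (fun x => t * x) hd
    simpa using this
  exact temd2_rat_of_fix hF t hPt

end Cfsg.Agent.Lib.Helper10.TEM
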