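import Mathlib
import Cfsg.Agent.Lib.Helper10.TEM.Defs
import Cfsg.Agent.Lib.Helper28.TEMD2core
import Cfsg.Agent.Lib.helper15.TEMG3
import Cfsg.Agent.Lib.helper4.TEMR2

/-!
# TEM D2: a torus element of `H` is rational (helper28; verbatim row of `Helper10/TEM/Skel.lean.txt`)
-/

set_option autoImplicit false

namespace Cfsg.Agent.Lib.Helper10.TEM

open Cfsg.Lie Cfsg.Lie.ChevalleyDatum Matrix
open Cfsg.Agent.Lib.helper8

universe u

variable {K : Type u} [Field K] {q : ℕ} {f : K ≃+* K} {M H : Subgroup (GG K)}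

theorem tor_rat (C : Ctx q f M H) (hRR : RootRat q H) (t : GG K) (ht : t ∈ T1 K q)
    (htH : t ∈ H) : Rat q t :=
  temd2_core C hRR (fun r hr hσ t => XS_mem_G1 C.hF r hr hσ t)
    (fun r t ht => rat_XS C.hF r t ht) t ht htH

end Cfsg.Agent.Lib.Helper10.TEM
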