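import Mathlib
import Cfsg.Agent.Lib.helper17.SLP.Defs
import Cfsg.Agent.Lib.helper3.SP4.Defs
import Cfsg.Agent.Lib.helper2.SLPM1

/-!
# Project SP4, rows R1 (`hM_one hM_inv hM_zpow xM_neg`), R2 (`rank1_M`), R5 (`act_mul act_inv act_one`),
R6 (`act_conj`) (helper28).
-/

set_option autoImplicit false

namespace Cfsg.Agent.Lib.helper3.SP4

open Cfsg.Agent.Lib.helper17.SLP
open Polynomial

universe u v

section R

variable {F : Type u} [Field F] {G : Type v} [Group G]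

/-- R1 [S-M]. -/
theorem hM_one : hM (1 : Fˣ) = (1 : Matrix.SpecialLinearGroup (Fin 2) F) := slpm1_hM_one

theorem hM_inv (s : Fˣ) : (hM s : Matrix.SpecialLinearGroup (Fin 2) F)⁻¹ = hM s⁻¹ := slpm1_hM_inv s

theorem hM_zpow (s : Fˣ) (i : ℤ) : (hM s : Matrix.SpecialLinearGroup (Fin 2) F) ^ i = hM (s ^ i) :=
  slpm1_hM_zpow s i

theorem xM_neg (t : F) : xM (-t) = (xM t)⁻¹ := by
  symm
  rw [inv_eq_iff_mul_eq_one, xM_mul, add_neg_cancel, xM_zero]

/-- R2 [S-M]. -/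
theorem rank1_M (t : Fˣ) :
    wM * xM (t : F) * wM⁻¹ = xM (-((t⁻¹ : Fˣ) : F)) * hM t⁻¹ * wM * xM (-((t⁻¹ : Fˣ) : F)) := by
  rw [mul_inv_eq_iff_eq_mul]
  apply Subtype.ext
  simp only [Matrix.SpecialLinearGroup.coe_mul, slpm1_coe_hM, slpm1_coe_xM, slpm1_coe_wM,
    Matrix.mul_fin_two]
  have ht : (t : F) ≠ 0 := t.ne_zero
  simp only [inv_inv, Units.val_inv_eq_inv_val]
  ext i j
  fin_cases i <;> fin_cases j <;> simp

/-- R5 [S]. -/
theorem act_mul (g g' : G) (X : F → G) (c c' : F) (h : Act g X c) (h' : Act g' X c') :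
    Act (g * g') X (c * c') := by
  intro t
  have h1 : g * g' * X t * (g * g')⁻¹ = g * (g' * X t * g'⁻¹) * g⁻¹ := by group
  rw [h1, h' t, h _, mul_assoc]

theorem act_inv (g : G) (X : F → G) (c : F) (hc : c ≠ 0) (h : Act g X c) : Act g⁻¹ X c⁻¹ := by
  intro t
  have h1 := h (c⁻¹ * t)
  rw [← mul_assoc, mul_inv_cancel₀ hc, one_mul] at h1
  rw [← h1]
  group

theorem act_one (X : F → G) : Act (1 : G) X 1 := by
  intro t
  simp

/-- R6 [S]. -/
theorem act_conj (g n : G) (X : F → G) (c : F) (h : Act (n * g * n⁻¹) X c) :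
    Act g (fun t => n⁻¹ * X t * n) c := by
  intro t
  show g * (n⁻¹ * X t * n) * g⁻¹ = n⁻¹ * X (c * t) * n
  rw [← h t]
  group

end R

end Cfsg.Agent.Lib.helper3.SP4
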