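import Mathlib
import Cfsg.Agent.Lib.helper17.STM.Defs
import Cfsg.Agent.Lib.helper17.STM.Defs2
import Cfsg.Agent.Lib.helper17.STM.Defs3
import Cfsg.Agent.Lib.helper17.STM.Sub
import Cfsg.Agent.Lib.Helper24.STCI1
import Cfsg.Agent.Lib.Helper20.STMR0
import Cfsg.Agent.Lib.Helper20.STMR3

/-!
# Project STM (designer helper17), row R7 (helper28), verbatim vs `STM/Skel3`: `SysM.Rep.Yg_col`
(port of `Helper9.STBR7`; extras prefixed `stmr7_`: `stmr7_Yg_fix_ng`)
-/

set_option autoImplicit false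
set_option linter.unusedSectionVars false

namespace Cfsg.Agent.Lib.helper17.STM

open Matrix Cfsg.Agent.Lib.helper15.St2 Cfsg.Agent.Lib.helper3.STC Cfsg.Agent.Lib.Lead.STD

universe v w

theorem stmr7_Em_ng {ι l : Type*} (e : ι ↪ l) (a : ι ⊕ ι) : Em e (ng a) = ng (Em e a) := by
  cases a <;> rfl

theorem stmr7_Em_injective {ι l : Type*} (e : ι ↪ l) : Function.Injective (Em e) := by
  intro a b h
  cases a <;> cases b <;> simp [Em] at h <;> simp [h]

namespace SysM

namespace Rep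

variable {F : Type*} [Field F] {A B : F} [Fact (∀ r : F, r ^ 2 ≠ -B + A * r)] {ι : Type*} {G : Type*} [Group G] {S : SysM F A B ι G}
  {l : Type*} [Fintype l] [DecidableEq l] (R : S.Rep l)

variable (o : ι ⊕ ι)

/-- the vector `e_{-o}` is fixed by `Yg o`, and the columns `c ≠ o` have the shape `e_c + r e_{-o}` -/
theorem stmr7_Yg_col_aux : ∀ y ∈ S.Yg o,
    R.M y *ᵥ evm (Ebm R.e (ng o)) = evm (Ebm R.e (ng o)) ∧
      ∀ c : Im l, c ≠ Ebm R.e o → ∃ r : F, R.M y *ᵥ evm c = evm c + r • evm (Ebm R.e (ng o)) := by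
  intro y hy
  unfold Yg XQ at hy
  induction hy using Subgroup.closure_induction with
  | mem g hg =>
    rcases hg with ⟨a, b, t, hab, hab2, rfl, rfl⟩ | ⟨a, t, rfl, rfl⟩
    · have hab' : Em R.e a ≠ Em R.e b := fun h => hab (stmr7_Em_injective R.e h)
      rw [M_x R hab hab2]
      show TmL (Em R.e a) (Em R.e b) t *ᵥ evm (Sum.inl (Em R.e (ng b))) = evm (Sum.inl (Em R.e (ng b))) ∧
        ∀ c : Im l, c ≠ Sum.inl (Em R.e b) → ∃ r : F, TmL (Em R.e a) (Em R.e b) t *ᵥ evm c = evm c + r • evm (Sum.inl (Em R.e (ng b)))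
      rw [stmr7_Em_ng]
      have key : ∀ c : Im l, c ≠ Sum.inl (Em R.e b) →
          TmL (Em R.e a) (Em R.e b) t *ᵥ (evm c : Im l → F) =
            evm c + (-(t * (evm c : Im l → F) (Sum.inl (ng (Em R.e a))))) • evm (Sum.inl (ng (Em R.e b))) := by
        intro c hc
        rw [TmL_mulVec]
        have h1 : (evm c : Im l → F) (Sum.inl (Em R.e b)) = 0 := by
          unfold evm
          rw [Pi.single_apply, if_neg hc.symm]
        rw [h1]
        unfold evm
        ext m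
        simp only [mul_zero, Pi.single_zero, add_zero, Pi.sub_apply, Pi.add_apply, Pi.smul_apply,
          Pi.single_apply, smul_eq_mul]
        split_ifs <;> ring
      refine ⟨?_, fun c hc => ⟨_, key c hc⟩⟩
      rw [key _ (fun h => ng_ne _ (Sum.inl.inj h))]
      have h2 : (evm (Sum.inl (ng (Em R.e b))) : Im l → F) (Sum.inl (ng (Em R.e a))) = 0 := by
        unfold evm
        rw [Pi.single_apply, if_neg (fun h => hab' (ng_inj.1 (Sum.inl.inj h)))]
      rw [h2, mul_zero, neg_zero, zero_smul, add_zero]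
    · rw [M_xs R]
      show TmS (Em R.e (ng o)) t *ᵥ evm (Sum.inl (Em R.e (ng o))) = evm (Sum.inl (Em R.e (ng o))) ∧
        ∀ c : Im l, c ≠ Sum.inl (Em R.e o) → ∃ r : F, TmS (Em R.e (ng o)) t *ᵥ evm c = evm c + r • evm (Sum.inl (Em R.e (ng o)))
      rw [stmr7_Em_ng]
      have key : ∀ c : Im l, c ≠ Sum.inl (Em R.e o) →
          TmS (ng (Em R.e o)) t *ᵥ (evm c : Im l → F) =
            evm c + (-((2 * t.re + A * t.im) * (evm c : Im l → F) iz1 + (A * t.re + 2 * B * t.im) * (evm c : Im l → F) iz2)) •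
              evm (Sum.inl (ng (Em R.e o))) := by
        intro c hc
        rw [TmS_mulVec, ng_ng]
        have h1 : (evm c : Im l → F) (Sum.inl (Em R.e o)) = 0 := by
          unfold evm
          rw [Pi.single_apply, if_neg hc.symm]
        rw [h1]
        unfold evm
        ext m
        simp only [mul_zero, Pi.single_zero, add_zero, Pi.sub_apply, Pi.add_apply, Pi.smul_apply,
          Pi.single_apply, smul_eq_mul, Pi.zero_apply, sub_zero]
        split_ifs <;> ring
      refine ⟨?_, fun c hc => ⟨_, key c hc⟩⟩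
      rw [key _ (fun h => ng_ne _ (Sum.inl.inj h))]
      have h2 : (evm (Sum.inl (ng (Em R.e o))) : Im l → F) iz1 = 0 := by
        unfold evm
        rw [Pi.single_apply, if_neg (by simp [iz1])]
      have h3 : (evm (Sum.inl (ng (Em R.e o))) : Im l → F) iz2 = 0 := by
        unfold evm
        rw [Pi.single_apply, if_neg (by simp [iz2])]
      rw [h2, h3, mul_zero, mul_zero, add_zero, neg_zero, zero_smul, add_zero]
  | one =>
    rw [M_one]
    refine ⟨Matrix.one_mulVec _, fun c _ => ⟨0, by rw [Matrix.one_mulVec, zero_smul, add_zero]⟩⟩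
  | mul y y' _ _ ihy ihy' =>
    obtain ⟨h1, h2⟩ := ihy
    obtain ⟨h1', h2'⟩ := ihy'
    rw [M_mul]
    refine ⟨by rw [← Matrix.mulVec_mulVec, h1', h1], ?_⟩
    intro c hc
    obtain ⟨r, hr⟩ := h2 c hc
    obtain ⟨r', hr'⟩ := h2' c hc
    refine ⟨r + r', ?_⟩
    rw [← Matrix.mulVec_mulVec, hr', Matrix.mulVec_add, Matrix.mulVec_smul, h1, hr, add_smul, add_assoc]
  | inv y _ ihy =>
    obtain ⟨h1, h2⟩ := ihy
    have hfix : R.M y⁻¹ *ᵥ evm (Ebm R.e (ng o)) = evm (Ebm R.e (ng o)) := M_inv_mulVec R h1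
    refine ⟨hfix, ?_⟩
    intro c hc
    obtain ⟨r, hr⟩ := h2 c hc
    refine ⟨-r, ?_⟩
    have := congrArg (fun v => R.M y⁻¹ *ᵥ v) hr
    simp only [Matrix.mulVec_mulVec, stmr3_M_inv_mul, Matrix.one_mulVec, Matrix.mulVec_add,
      Matrix.mulVec_smul, hfix] at this
    rw [eq_sub_of_add_eq this.symm, neg_smul, sub_eq_add_neg]

/-- R7 [M]  the columns `c ≠ o` of an element of `Yg o` (model STB R7 `Yg_col`): closure induction; generator `x a o t`: `TmL a' o' t *ᵥ evm c = evm c - (t * evm c (inl (ng a'))) • evm (inl (ng o'))` for `c ≠ inl o'`;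
generator `xs (ng o) u`: `TmS (ng o') u *ᵥ evm c = evm c - r • evm (inl (ng o'))` for `c ≠ inl o'` (`ng (ng o') = o'`; `r = 2 u.re + A u.im` for `c = iz1`, `r = A u.re + 2 B u.im` for `c = iz2`, else `0`);
`evm (inl (ng o'))` is fixed by all the generators. -/
theorem Yg_col : ∀ y ∈ S.Yg o, ∀ c : Im l, c ≠ Ebm R.e o → ∃ r : F, R.M y *ᵥ evm c = evm c + r • evm (Ebm R.e (ng o)) :=
  fun y hy => (stmr7_Yg_col_aux R o y hy).2

/-- `Yg o` fixes the vector `e_{-o}` -/
theorem stmr7_Yg_fix_ng : ∀ y ∈ S.Yg o, R.M y *ᵥ evm (Ebm R.e (ng o)) = evm (Ebm R.e (ng o)) :=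
  fun y hy => (stmr7_Yg_col_aux R o y hy).1

end Rep

end SysM

end Cfsg.Agent.Lib.helper17.STM
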