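import Mathlib
import Cfsg.Agent.Lib.helper17.STM.Defs
import Cfsg.Agent.Lib.helper17.STM.Defs2
import Cfsg.Agent.Lib.helper17.STM.Defs3
import Cfsg.Agent.Lib.Helper24.STCI1

/-!
# Project STM (designer helper17), rows R0b and R2 (helper28), verbatim vs `STM/Skel3`: `TmL_form TmS_form` and `eq_one_of_Yshape`
(port of `Helper9.STBR0b`; extras prefixed `stmr0b_`, `stmr2_`)
-/

set_option autoImplicit false
set_option linter.unusedSimpArgs false

namespace Cfsg.Agent.Lib.helper17.STM

open Matrix Cfsg.Agent.Lib.helper15.St2 Cfsg.Agent.Lib.helper3.STC Cfsg.Agent.Lib.Lead.STD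

universe v w

section R0
variable {l : Type*} [Fintype l] [DecidableEq l] {F : Type*} [Field F] {A B : F}

theorem stmr0b_mul_single (M : Matrix (Im l) (Im l) F) (i j : Im l) (c : F) (x y : Im l) :
    (M * Matrix.single i j c) x y = if j = y then M x i * c else 0 := by
  by_cases h : j = y
  · subst h
    rw [if_pos rfl, Matrix.mul_single_apply_same]
  · rw [if_neg h, Matrix.mul_single_apply_of_ne _ _ _ _ _ (Ne.symm h)]

theorem stmr0b_single_mul (M : Matrix (Im l) (Im l) F) (i j : Im l) (c : F) (x y : Im l) :
    (Matrix.single i j c * M) x y = if i = x then c * M j y else 0 := by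
  by_cases h : i = x
  · subst h
    rw [if_pos rfl, Matrix.single_mul_apply_same]
  · rw [if_neg h, Matrix.single_mul_apply_of_ne _ _ _ _ _ (Ne.symm h)]

theorem stmr0b_JM_mul_single_inl (a : l ⊕ l) (j : Im l) (t : F) :
    (JM A B : Matrix (Im l) (Im l) F) * Matrix.single (Sum.inl a) j t = Matrix.single (Sum.inl (ng a)) j t := by
  ext x y
  rw [stmr0b_mul_single, Matrix.single_apply]
  by_cases h : j = y
  · subst h
    rcases x with x | x
    · simp only [JM, if_true, and_true, Sum.inl.injEq]
      by_cases h2 : a = ng x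
      · subst h2
        simp [ng_ng]
      · have : ¬ ng a = x := fun h3 => h2 (by rw [← h3, ng_ng])
        simp [h2, this]
    · simp [JM]
  · simp [h]

theorem stmr0b_JM_mul_single_iz1 (j : Im l) (t : F) :
    (JM A B : Matrix (Im l) (Im l) F) * Matrix.single iz1 j t = Matrix.single iz1 j (2 * t) + Matrix.single iz2 j (A * t) := by
  ext x y
  rw [stmr0b_mul_single, Matrix.add_apply, Matrix.single_apply, Matrix.single_apply]
  by_cases h : j = y
  · subst h
    rcases x with x | x
    · simp [JM]
    · fin_cases x <;> simp [JM, iz1, iz2]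
  · simp [h]

theorem stmr0b_JM_mul_single_iz2 (j : Im l) (t : F) :
    (JM A B : Matrix (Im l) (Im l) F) * Matrix.single iz2 j t = Matrix.single iz1 j (A * t) + Matrix.single iz2 j (2 * B * t) := by
  ext x y
  rw [stmr0b_mul_single, Matrix.add_apply, Matrix.single_apply, Matrix.single_apply]
  by_cases h : j = y
  · subst h
    rcases x with x | x
    · simp [JM]
    · fin_cases x <;> simp [JM, iz1, iz2]
  · simp [h]

theorem stmr0b_single_mul_JM_inl (i : Im l) (b : l ⊕ l) (t : F) :
    Matrix.single i (Sum.inl b) t * (JM A B : Matrix (Im l) (Im l) F) = Matrix.single i (Sum.inl (ng b)) t := by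
  ext x y
  rw [stmr0b_single_mul, Matrix.single_apply]
  by_cases h : i = x
  · subst h
    rcases y with y | y
    · simp only [JM, if_true, true_and, Sum.inl.injEq]
      by_cases h2 : y = ng b
      · subst h2
        simp
      · have : ¬ ng b = y := fun h3 => h2 h3.symm
        simp [h2, this]
    · simp [JM]
  · simp [h]

theorem stmr0b_single_mul_JM_iz1 (i : Im l) (t : F) :
    Matrix.single i iz1 t * (JM A B : Matrix (Im l) (Im l) F) = Matrix.single i iz1 (2 * t) + Matrix.single i iz2 (A * t) := by
  ext x y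
  rw [stmr0b_single_mul, Matrix.add_apply, Matrix.single_apply, Matrix.single_apply]
  by_cases h : i = x
  · subst h
    rcases y with y | y
    · simp [JM]
    · fin_cases y <;> simp [JM, iz1, iz2, mul_comm]
  · simp [h]

theorem stmr0b_single_mul_JM_iz2 (i : Im l) (t : F) :
    Matrix.single i iz2 t * (JM A B : Matrix (Im l) (Im l) F) = Matrix.single i iz1 (A * t) + Matrix.single i iz2 (2 * B * t) := by
  ext x y
  rw [stmr0b_single_mul, Matrix.add_apply, Matrix.single_apply, Matrix.single_apply]
  by_cases h : i = x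
  · subst h
    rcases y with y | y
    · simp [JM]
    · fin_cases y <;> simp [JM, iz1, iz2, mul_comm, mul_assoc, mul_left_comm]
  · simp [h]

theorem stmr0b_single_mul_single (i j k m : Im l) (c d : F) :
    Matrix.single i j c * Matrix.single k m d = if j = k then Matrix.single i m (c * d) else 0 := by
  by_cases h : j = k
  · subst h
    rw [if_pos rfl, Matrix.single_mul_single_same]
  · rw [if_neg h, Matrix.single_mul_single_of_ne _ _ _ _ h]

/-- R0b [S-M]  (MAT) `TmL` (`a ≠ b`, `a ≠ ng b`) and `TmS` preserve the polar form (model STB R0b `Helper9.STBR0b`; entrywise, or `Mᵀ * J * M = J ↔ ∀ v w, (M v)ᵀ J (M w) = vᵀ J w` on basis vectors with R0). -/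
theorem TmL_form {a b : l ⊕ l} (hab : a ≠ b) (hab' : a ≠ ng b) (t : F) : (TmL a b t)ᵀ * JM A B * TmL a b t = (JM A B : Matrix (Im l) (Im l) F) := by
  have _ := hab'
  unfold TmL
  rw [Matrix.transpose_sub, Matrix.transpose_add, Matrix.transpose_one, Matrix.transpose_single,
    Matrix.transpose_single]
  have h1 : ng a ≠ a := ng_ne a
  have h2 : b ≠ a := hab.symm
  have h3 : ng a ≠ ng b := fun e => hab (ng_inj.1 e)
  have h4 : b ≠ ng b := ne_ng b
  simp only [Matrix.add_mul, Matrix.sub_mul, Matrix.mul_add, Matrix.mul_sub, Matrix.one_mul,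
    Matrix.mul_one, stmr0b_single_mul_JM_inl, stmr0b_JM_mul_single_inl,
    stmr0b_single_mul_single, ng_ng, Sum.inl.injEq, reduceCtorEq, if_false, if_true, h1, h2, h3, h4]
  abel

theorem TmS_form (a : l ⊕ l) (u : Kq F A B) : (TmS a u)ᵀ * JM A B * TmS a u = (JM A B : Matrix (Im l) (Im l) F) := by
  unfold TmS
  simp only [Matrix.transpose_sub, Matrix.transpose_add, Matrix.transpose_one, Matrix.transpose_single]
  have h1 : ng a ≠ a := ng_ne a
  have h2 : a ≠ ng a := ne_ng a
  simp only [Matrix.add_mul, Matrix.sub_mul, Matrix.mul_add, Matrix.mul_sub, Matrix.one_mul,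
    Matrix.mul_one, stmr0b_single_mul_JM_inl, stmr0b_single_mul_JM_iz1, stmr0b_single_mul_JM_iz2,
    stmr0b_JM_mul_single_inl, stmr0b_JM_mul_single_iz1, stmr0b_JM_mul_single_iz2,
    stmr0b_single_mul_single, ng_ng, Sum.inl.injEq, Sum.inr.injEq, reduceCtorEq, if_false, if_true, h1, h2]
  have e10 : ((1 : Fin 2) = 0) = False := by simp
  have e01 : ((0 : Fin 2) = 1) = False := by simp
  simp only [e10, e01, if_false]
  have hnm : nm u = u.re * u.re + A * u.re * u.im + B * u.im * u.im := by
    unfold nm
    rw [QuadraticAlgebra.norm_def]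
    ring
  rw [hnm]
  ext x y
  simp only [Matrix.add_apply, Matrix.sub_apply, Matrix.single_apply, Matrix.zero_apply]
  by_cases hx : Sum.inl (ng a) = x
  · by_cases hy : Sum.inl (ng a) = y
    · subst hx
      subst hy
      simp
      ring
    · subst hx
      rcases y with y | y
      · have hy' : ¬ ng a = y := fun e => hy (by rw [e])
        simp [hy']
      · fin_cases y
        · simp [iz1, iz2]
        · simp [iz1, iz2]
  · rcases x with x | x
    · have hx' : ¬ ng a = x := fun e => hx (by rw [e])
      simp [hx']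
    · by_cases hy : Sum.inl (ng a) = y
      · subst hy
        fin_cases x
        · simp [iz1, iz2]
          ring
        · simp [iz1, iz2]
          ring
      · rcases y with y | y
        · have hy' : ¬ ng a = y := fun e => hy (by rw [e])
          simp [hy']
        · simp

/-- the entries of `Mᵀ * J * M` as values of the bilinear form on the columns -/
theorem stmr2_entry (M J : Matrix (Im l) (Im l) F) (a b : Im l) :
    (Mᵀ * J * M) a b = (M *ᵥ evm a) ⬝ᵥ (J *ᵥ (M *ᵥ evm b)) := by
  unfold evm
  rw [Matrix.mulVec_single_one, Matrix.mulVec_single_one, Matrix.mul_assoc, Matrix.mul_apply]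
  rfl

/-- the value of the polar form on two basis vectors -/
theorem stmr2_form_ev (a b : Im l) :
    (evm a : Im l → F) ⬝ᵥ ((JM A B : Matrix (Im l) (Im l) F) *ᵥ evm b) = JM A B a b := by
  unfold evm
  rw [Matrix.mulVec_single_one, single_one_dotProduct]
  rfl

/-- a matrix fixing all the basis vectors is the identity -/
theorem stmr2_eq_one_of_cols {M : Matrix (Im l) (Im l) F} (h : ∀ c, M *ᵥ evm c = evm c) : M = 1 := by
  ext i c
  have h1 := congrFun (h c) i
  unfold evm at h1
  rw [Matrix.mulVec_single_one] at h1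
  rw [Matrix.one_apply, ← Pi.single_apply]
  exact h1

/-- R2 [M]  (MAT) a matrix preserving the polar form, fixing `e_o`, whose other columns are `e_c + r_c e_{-o}` is the identity (model STB R2 `eq_one_of_Yshape`, `Helper9.STBR0b`):
the entry `(o, c)` of `Mᵀ * JM * M = JM` gives `r_c = 0` for every `c ≠ o` (`JM o (ng o) = 1`); then all columns are the standard ones.  (`c` ranges over `Im l`, including `iz1`, `iz2`.) -/
theorem eq_one_of_Yshape {M : Matrix (Im l) (Im l) F} {o : l ⊕ l} (hM : Mᵀ * JM A B * M = JM A B) (h0 : M *ᵥ evm (Sum.inl o) = evm (Sum.inl o))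
    (h : ∀ c : Im l, c ≠ Sum.inl o → ∃ r : F, M *ᵥ evm c = evm c + r • evm (Sum.inl (ng o))) : M = 1 := by
  apply stmr2_eq_one_of_cols
  intro c
  by_cases hc : c = Sum.inl o
  · subst hc; exact h0
  · obtain ⟨r, hr⟩ := h c hc
    have hf := stmr2_entry M (JM A B) (Sum.inl o) c
    rw [hM, h0, hr, Matrix.mulVec_add, Matrix.mulVec_smul, dotProduct_add, dotProduct_smul,
      stmr2_form_ev, stmr2_form_ev] at hf
    have hJ : (JM A B : Matrix (Im l) (Im l) F) (Sum.inl o) (Sum.inl (ng o)) = 1 := by
      show (if ng o = ng o then (1 : F) else 0) = 1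
      rw [if_pos rfl]
    rw [hJ, smul_eq_mul, mul_one] at hf
    have hr0 : r = 0 := by
      have := add_left_cancel (a := (JM A B : Matrix (Im l) (Im l) F) (Sum.inl o) c) (b := r) (c := 0)
        (by rw [add_zero]; exact hf.symm)
      exact this
    rw [hr, hr0, zero_smul, add_zero]

end R0

end Cfsg.Agent.Lib.helper17.STM
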