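import Cfsg.Agent.Lib.Helper28.SsC

set_option autoImplicit false

open Cfsg

/-! Case I: if the parameter sets are everything then `H` is the full symplectic group. -/

namespace Cfsg.Agent.Lib.Helper28.Ss

open Matrix Cfsg.Agent.Lib.Helper28.Sf Cfsg.Agent.Lib.Helper28.SympAbs
  Cfsg.Agent.Lib.Helper28.Os Cfsg.Agent.Lib.Helper28.DecGen

variable {n : ℕ} {F : Type*} [Field F] {F₀ : Subfield F} {f : (Fin n → F) → (Fin n → F) → F}
  {G H : Subgroup (Matrix.GeneralLinearGroup (Fin n) F)}

local notation "GLn" => Matrix.GeneralLinearGroup (Fin n) F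

/-- the Siegel element `E(u; y, c)` lies in `H` -/
def InE (f : (Fin n → F) → (Fin n → F) → F) (H : Subgroup GLn) (u y : Fin n → F) (c : F) : Prop :=
  ∃ t ∈ H, IsE f t u y c

theorem InE.mul (hf : Cfsg.Geo.IsSymplecticForm f) {u y y' : Fin n → F} {c c' : F}
    (hyu : f y u = 0) (hy'u : f y' u = 0) (h : InE f H u y c) (h' : InE f H u y' c') :
    InE f H u (y + y') (c + c' + f y' y) := by
  obtain ⟨t, ht, hts⟩ := h
  obtain ⟨t', ht', hts'⟩ := h'
  exact ⟨t * t', H.mul_mem ht ht', hts.mul hf hyu hy'u hts'⟩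

theorem InE.inv (hf : Cfsg.Geo.IsSymplecticForm f) {u y : Fin n → F} {c : F}
    (hyu : f y u = 0) (h : InE f H u y c) : InE f H u (-y) (-c) := by
  obtain ⟨t, ht, hts⟩ := h
  exact ⟨t⁻¹, H.inv_mem ht, hts.inv hf hyu⟩

theorem InE.one (hf : Cfsg.Geo.IsSymplecticForm f) (u : Fin n → F) : InE f H u 0 0 :=
  ⟨1, H.one_mem, IsE.one hf u⟩

theorem InE.congr {u y y' : Fin n → F} {c c' : F} (h : InE f H u y c) (e : y = y')
    (e' : c = c') : InE f H u y' c' := by
  subst e
  subst e'
  exact h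

/-- an additive subgroup of a finite field containing all squares is everything -/
theorem sq_span [Finite F] (L : AddSubgroup F) (h : ∀ a : F, a * a ∈ L) (c : F) : c ∈ L := by
  by_cases h2 : (2 : F) = 0
  · have h2' : ((2 : ℕ) : F) = 0 := by
      push_cast
      exact h2
    have hch : ringChar F = 2 := CharP.ringChar_of_prime_eq_zero Nat.prime_two h2'
    obtain ⟨e, he⟩ := FiniteField.isSquare_of_char_two hch c
    rw [he]
    exact h e
  · have e : c = ((c + 1) / 2) * ((c + 1) / 2) - ((c - 1) / 2) * ((c - 1) / 2) := by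
      field_simp
      ring
    rw [e]
    exact L.sub_mem (h _) (h _)

/-- (C1a) when the parameter sets are everything, `H` contains all transvections with rational
centre -/
theorem SC.C1a [Finite F] (C : SC F₀ f G H)
    (hA : ∀ u v, TP F₀ f u v → ∀ a : F, a ∈ AA f H u v) {u : Fin n → F} (hu : Rat F₀ u)
    (hu0 : u ≠ 0) (c : F) : InE f H u 0 c := by
  have hf := C.hf
  have hn := C.hn
  let L : AddSubgroup F :=
    { carrier := {c | InE f H u 0 c}
      zero_mem' := InE.one hf u
      add_mem' := by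
        intro a b ha hb
        have := InE.mul hf (f_zero_left hf u) (f_zero_left hf u) ha hb
        exact this.congr (add_zero 0) (by rw [f_zero_left hf, add_zero])
      neg_mem' := by
        intro a ha
        have := InE.inv hf (f_zero_left hf u) ha
        exact this.congr neg_zero rfl }
  suffices h : c ∈ L from h
  apply sq_span L
  intro lam
  obtain ⟨p, hp, hpp, hpn⟩ := C.sb.ex_rs ![u] (fun j => by fin_cases j; exact hu) (by omega)
  have hup : f u p = 0 := hpp 0
  have hpu : f p u = 0 := f_swap_zero hf hup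
  have hpn' : p ∉ Submodule.span F {u} := by
    intro hm
    apply hpn
    rw [mem_span_single']
    exact Submodule.mem_span_singleton.mp hm
  obtain ⟨p', hp', hp'p, hpp'⟩ := C.sb.ex_rat_dual ![u] (fun j => by fin_cases j; exact hu) hp hpn
  have hup' : f u p' = 0 := hp'p 0
  have hp'u : f p' u = 0 := f_swap_zero hf hup'
  have hp'n : p' ∉ Submodule.span F {u} := by
    intro hm
    obtain ⟨a, ha⟩ := Submodule.mem_span_singleton.mp hm
    rw [← ha, f_smul_right hf, hpu, mul_zero] at hpp'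
    exact zero_ne_one hpp'
  have hqn : p + p' ∉ Submodule.span F {u} := by
    intro hm
    obtain ⟨a, ha⟩ := Submodule.mem_span_singleton.mp hm
    have h1 : f p (p + p') = 1 := by rw [f_add_right hf, hf.alternating, hpp', zero_add]
    rw [← ha, f_smul_right hf, hpu, mul_zero] at h1
    exact zero_ne_one h1
  have hqu : f (p + p') u = 0 := by rw [f_add_left hf, hpu, hp'u, add_zero]
  have hup'' : f u (p + p') = 0 := f_swap_zero hf hqu
  have e1 : InE f H u (lam • p) 0 := hA u p ⟨hu, hp, hup, hu0, hpn'⟩ lam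
  have e2 : InE f H u (lam • p') 0 := hA u p' ⟨hu, hp', hup', hu0, hp'n⟩ lam
  have e3 : InE f H u (lam • (p + p')) 0 := hA u (p + p') ⟨hu, hp.add hp', hup'', hu0, hqn⟩ lam
  have h12 := InE.mul hf (by rw [f_smul_left hf, hpu, mul_zero])
    (by rw [f_smul_left hf, hp'u, mul_zero]) e1 e2
  have h3 := InE.inv hf (by rw [f_smul_left hf, hqu, mul_zero]) e3
  have h4 := InE.mul hf (by
    rw [f_add_left hf, f_smul_left hf, f_smul_left hf, hpu, hp'u, mul_zero, add_zero])
    (by rw [f_neg_left hf, f_smul_left hf, hqu, mul_zero, neg_zero]) h12 h3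
  have h5 : InE f H u 0 (-(lam * lam)) := by
    refine h4.congr (by rw [smul_add]; abel) ?_
    simp only [f_neg_left hf, f_smul_left hf, f_smul_right hf, f_add_left hf, f_add_right hf,
      hf.alternating, hpp', f_swap_one hf hpp']
    ring
  have h6 : -(lam * lam) ∈ L := h5
  have h7 := L.neg_mem h6
  rwa [neg_neg] at h7

/-- (C1) when the parameter sets are everything, `H` contains the full unipotent radical of
every rational point -/
theorem SC.C1 [Finite F] (C : SC F₀ f G H)
    (hA : ∀ u v, TP F₀ f u v → ∀ a : F, a ∈ AA f H u v) {u : Fin n → F} (hu : Rat F₀ u)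
    (hu0 : u ≠ 0) {y : Fin n → F} (hyu : f y u = 0) (c : F) : InE f H u y c := by
  classical
  have hf := C.hf
  -- rational directions
  have key1 : ∀ p : Fin n → F, Rat F₀ p → f p u = 0 → ∀ lam : F, ∃ c', InE f H u (lam • p) c' := by
    intro p hp hpu lam
    by_cases hpn : p ∈ Submodule.span F {u}
    · obtain ⟨a, ha⟩ := Submodule.mem_span_singleton.mp hpn
      obtain ⟨t, ht, hts⟩ := C.C1a hA hu hu0 0
      refine ⟨0 - 2 * (lam * a), t, ht, ?_⟩
      have := hts.shift hf (lam * a)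
      refine this.congr ?_ rfl
      rw [zero_add, ← ha, smul_smul]
    · exact ⟨0, hA u p ⟨hu, hp, f_swap_zero hf hpu, hu0, hpn⟩ lam⟩
  -- general directions
  have b := Module.finBasis F₀ F
  have hdec := vec_decomp b y
  have hyj : ∀ j, f (ratl (b.coord j) y) u = 0 := by
    intro j
    rw [C.sb.f_ratl_left _ hu, hyu, map_zero]
    rfl
  have key2 : ∀ s : Finset (Fin (Module.finrank F₀ F)),
      ∃ c', InE f H u (∑ j ∈ s, b j • ratl (b.coord j) y) c' := by
    intro s
    induction s using Finset.induction_on with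
    | empty => exact ⟨0, by simpa using InE.one hf u⟩
    | insert a s ha ih =>
      obtain ⟨c₁, h1⟩ := ih
      obtain ⟨c₂, h2⟩ := key1 _ (ratl_rat (b.coord a) y) (hyj a) (b a)
      rw [Finset.sum_insert ha]
      have h3 : f (∑ j ∈ s, b j • ratl (b.coord j) y) u = 0 := by
        rw [f_sum_left hf]
        apply Finset.sum_eq_zero
        intro j _
        rw [f_smul_left hf, hyj j, mul_zero]
      exact ⟨_, InE.mul hf (by rw [f_smul_left hf, hyj a, mul_zero]) h3 h2 h1⟩
  obtain ⟨c₀, h0⟩ := key2 Finset.univ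
  rw [← hdec] at h0
  have h1 := C.C1a hA hu hu0 (c - c₀)
  have h2 := InE.mul hf hyu (f_zero_left hf u) h0 h1
  refine h2.congr (add_zero y) ?_
  rw [f_zero_left hf]
  ring

/-- every non-zero vector pairs non-trivially with some rational vector -/
theorem SB.ex_r_pair (C : SB F₀ f) {a : Fin n → F} (ha : a ≠ 0) :
    ∃ w, Rat F₀ w ∧ f w a ≠ 0 := by
  by_contra hcon
  push Not at hcon
  exact ha (C.eq_zero_of_perp_rat hcon)

/-- (C2) every point is `H`-conjugate to a rational one -/
theorem SC.C2 [Finite F] (C : SC F₀ f G H)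
    (hA : ∀ u v, TP F₀ f u v → ∀ a : F, a ∈ AA f H u v) {a : Fin n → F} (ha0 : a ≠ 0) :
    ∃ g ∈ H, ∃ u₀ : Fin n → F, Rat F₀ u₀ ∧ u₀ ≠ 0 ∧ ∃ κ : F, κ ≠ 0 ∧
      (g : Matrix (Fin n) (Fin n) F) *ᵥ a = κ • u₀ := by
  have hf := C.hf
  obtain ⟨w, hw, hwa⟩ := C.sb.ex_r_pair ha0
  have hw0 : w ≠ 0 := by
    rintro rfl
    exact hwa (f_zero_left hf a)
  obtain ⟨s, hs⟩ : ∃ s, s = f a w := ⟨_, rfl⟩
  have hs0 : s ≠ 0 := by
    rw [hs, hf.skew]
    exact neg_ne_zero.mpr hwa
  obtain ⟨u₀, hu₀, hwu₀⟩ := C.sb.ex_partner0 hw hw0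
  have hu₀w : f u₀ w = -1 := f_swap_one hf hwu₀
  have hu₀0 : u₀ ≠ 0 := by
    rintro rfl
    rw [f_zero_right hf] at hwu₀
    exact zero_ne_one hwu₀
  obtain ⟨y, hy⟩ : ∃ y : Fin n → F, y = -u₀ - s⁻¹ • a := ⟨_, rfl⟩
  have hyw : f y w = 0 := by
    rw [hy, f_sub_left hf, f_neg_left hf, f_smul_left hf, hu₀w, ← hs]
    field_simp
    ring
  obtain ⟨t, ht, hts⟩ := C.C1 hA hw hw0 hyw (-(f a y) / s)
  refine ⟨t, ht, u₀, hu₀, hu₀0, -s, neg_ne_zero.mpr hs0, ?_⟩
  rw [hts a]
  unfold Em
  rw [← hs]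
  have e1 : s • y = -s • u₀ - a := by
    rw [hy, smul_sub, smul_neg, smul_smul, mul_inv_cancel₀ hs0, one_smul, neg_smul]
  have e2 : -(f a y) / s * s = -(f a y) := by field_simp
  rw [e1, e2]
  module

/-- Step C: if the parameter sets are everything then `H = G` -/
theorem SC.stepC [Finite F] (C : SC F₀ f G H)
    (hA : ∀ u v, TP F₀ f u v → ∀ a : F, a ∈ AA f H u v) : H = G := by
  have hf := C.hf
  apply le_antisymm C.le
  intro g hg
  have hgT := iso_mem_TT hf g ((C.hG g).1 hg)
  revert hgT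
  suffices h : TT f ≤ H from fun hgT => h hgT
  unfold TT
  rw [Subgroup.closure_le]
  rintro t ⟨v, c, htv⟩
  have hts : IsE f t v 0 c := (isE_tv hf).2 htv
  by_cases hv0 : v = 0
  · have : t = 1 := by
      apply glx
      intro x
      rw [htv, hv0, smul_zero, add_zero, Units.val_one, Matrix.one_mulVec]
    rw [this]
    exact H.one_mem
  obtain ⟨g', hg', u₀, hu₀, hu₀0, κ, hκ, e⟩ := C.C2 hA hv0
  have h1 := hts.conj (C.iso hg')
  rw [e, Matrix.mulVec_zero] at h1
  have h2 := h1.smul_center hf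
  rw [smul_zero] at h2
  obtain ⟨t', ht', hts'⟩ := C.C1a hA hu₀ hu₀0 (κ * κ * c)
  have e2 : g' * t * g'⁻¹ = t' := h2.unique hts'
  have e3 : t = g'⁻¹ * t' * g' := by
    rw [← e2]
    group
  show t ∈ H
  rw [e3]
  exact H.mul_mem (H.mul_mem (H.inv_mem hg') ht') hg'

end Cfsg.Agent.Lib.Helper28.Ss
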