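import Mathlib
import Cfsg.Agent.Lib.Helper11.PM3.Defs

/-!
# PM3 piece L3 : two set stabilisers of different type generate the alternating group
-/

set_option autoImplicit false

namespace Cfsg.Agent.Lib.Helper11.PM3

open Equiv MulAction
open scoped Pointwise

variable {α : Type*} [Fintype α] [DecidableEq α]

/-- auxiliary: a set invariant under the stabiliser of `t` which meets `t` contains `t`. -/
theorem l3_subset_of_mem (h4 : 4 ≤ Nat.card α) (s t : Set α)
    (hle : stabilizer (alternatingGroup α) t ≤ stabilizer (alternatingGroup α) s)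
    (a : α) (hat : a ∈ t) (has : a ∈ s) : t ⊆ s := by
  intro b hbt
  obtain ⟨g, hg, hgab⟩ := alternatingGroup.exists_mem_stabilizer_smul_eq h4 a hat b hbt
  have hgs := hle hg
  rw [mem_stabilizer_iff] at hgs
  rw [← hgs, ← hgab]
  exact Set.smul_mem_smul_set has

/-- PIECE L3. -/
theorem stabilizer_sup_stabilizer_eq_top (h5 : 5 ≤ Fintype.card α) (s t : Set α)
    (hs0 : s.Nonempty) (hs1 : sᶜ.Nonempty) (hs2 : Fintype.card α ≠ 2 * s.ncard)
    (ht0 : t.Nonempty) (ht1 : tᶜ.Nonempty)
    (hst : s.ncard ≠ t.ncard) (hst' : s.ncard + t.ncard ≠ Fintype.card α) :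
    stabilizer (alternatingGroup α) s ⊔ stabilizer (alternatingGroup α) t = ⊤ := by
  have hcard : Nat.card α = Fintype.card α := Nat.card_eq_fintype_card
  have h4 : 4 ≤ Nat.card α := by omega
  have hco : IsCoatom (stabilizer (alternatingGroup α) s) :=
    alternatingGroup.isCoatom_stabilizer hs0 hs1 (by rw [hcard]; exact hs2)
  by_contra hne
  have hle : stabilizer (alternatingGroup α) t ≤ stabilizer (alternatingGroup α) s := by
    have h1 : stabilizer (alternatingGroup α) s ≤
        stabilizer (alternatingGroup α) s ⊔ stabilizer (alternatingGroup α) t := le_sup_left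
    rcases eq_or_lt_of_le h1 with h | h
    · rw [h]; exact le_sup_right
    · exact absurd (hco.2 _ h) hne
  have hle' : stabilizer (alternatingGroup α) tᶜ ≤ stabilizer (alternatingGroup α) s := by
    rw [stabilizer_compl]; exact hle
  have hle2 : stabilizer (alternatingGroup α) t ≤ stabilizer (alternatingGroup α) sᶜ := by
    rw [stabilizer_compl]; exact hle
  have hle2' : stabilizer (alternatingGroup α) tᶜ ≤ stabilizer (alternatingGroup α) sᶜ := by
    rw [stabilizer_compl, stabilizer_compl]; exact hle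
  -- four cases
  by_cases h1 : ∃ a ∈ t, a ∈ s
  · obtain ⟨a, hat, has⟩ := h1
    have hts : t ⊆ s := l3_subset_of_mem h4 s t hle a hat has
    by_cases h2 : ∃ b ∈ tᶜ, b ∈ s
    · obtain ⟨b, hbt, hbs⟩ := h2
      have htcs : tᶜ ⊆ s := l3_subset_of_mem h4 s tᶜ hle' b hbt hbs
      obtain ⟨c, hc⟩ := hs1
      by_cases hct : c ∈ t
      · exact hc (hts hct)
      · exact hc (htcs hct)
    · -- s = t
      have : s = t := by
        apply Set.Subset.antisymm _ hts
        intro x hxs
        by_contra hxt
        exact h2 ⟨x, hxt, hxs⟩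
      exact hst (by rw [this])
  · -- t ⊆ sᶜ
    by_cases h2 : ∃ b ∈ tᶜ, b ∈ s
    · obtain ⟨b, hbt, hbs⟩ := h2
      have htcs : tᶜ ⊆ s := l3_subset_of_mem h4 s tᶜ hle' b hbt hbs
      have : s = tᶜ := by
        apply Set.Subset.antisymm _ htcs
        intro x hxs hxt
        exact h1 ⟨x, hxt, hxs⟩
      apply hst'
      rw [this, add_comm, Set.ncard_add_ncard_compl, hcard]
    · obtain ⟨c, hc⟩ := hs0
      by_cases hct : c ∈ t
      · exact h1 ⟨c, hct, hc⟩
      · exact h2 ⟨c, hct, hc⟩

end Cfsg.Agent.Lib.Helper11.PM3
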