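import Mathlib
import Cfsg.Agent.Lib.Helper11.PM3.Defs

/-!
# PM3 pieces L5 and L5' : Sylow 3-subgroups of the alternating group have no fixed point
(`3 ∣ |α|`), resp. are transitive (`|α| = 3^a`).
-/

set_option autoImplicit false

namespace Cfsg.Agent.Lib.Helper11.PM3

open Equiv MulAction
open scoped Pointwise

variable {α : Type*} [Fintype α] [DecidableEq α]

/-- a permutation whose `3^k`-th power is one is even -/
theorem l5_mem_alt_of_pow (σ : Perm α) (k : ℕ) (h : σ ^ 3 ^ k = 1) : σ ∈ alternatingGroup α := by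
  rw [Equiv.Perm.mem_alternatingGroup]
  have h1 : Equiv.Perm.sign σ ^ 3 ^ k = 1 := by rw [← map_pow, h, map_one]
  rcases Int.units_eq_one_or (Equiv.Perm.sign σ) with h2 | h2
  · exact h2
  · rw [h2] at h1
    have hodd : Odd (3 ^ k) := Odd.pow (by decide)
    rw [hodd.neg_one_pow] at h1
    exact absurd h1 (by decide)

/-- key conjugation step: any element of `3`-power order of `A(α)` has a conjugate in a given
Sylow `3`-subgroup. -/
theorem l5_exists_conj_mem (S : Sylow 3 (alternatingGroup α)) (g : alternatingGroup α) (k : ℕ)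
    (hg : g ^ 3 ^ k = 1) :
    ∃ a : alternatingGroup α, ∀ n : ℕ, a * g ^ n * a⁻¹ ∈ (S : Subgroup (alternatingGroup α)) := by
  have hP : IsPGroup 3 (Subgroup.zpowers g) := by
    rintro ⟨h, hh⟩
    obtain ⟨n, rfl⟩ := Subgroup.mem_zpowers_iff.mp hh
    refine ⟨k, ?_⟩
    apply Subtype.ext
    simp only [Subgroup.coe_pow, Subgroup.coe_one]
    rw [← zpow_natCast, ← zpow_mul, mul_comm, zpow_mul, zpow_natCast, hg, one_zpow]
  obtain ⟨Q, hQ⟩ := hP.exists_le_sylow
  obtain ⟨a, ha⟩ := MulAction.exists_smul_eq (alternatingGroup α) Q S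
  refine ⟨a, fun n => ?_⟩
  have hmem : g ^ n ∈ (Q : Subgroup (alternatingGroup α)) :=
    hQ (Subgroup.npow_mem_zpowers g n)
  have : a * g ^ n * a⁻¹ ∈ ((a • Q : Sylow 3 (alternatingGroup α)) :
      Subgroup (alternatingGroup α)) := by
    rw [Sylow.coe_subgroup_smul]
    have := Subgroup.smul_mem_pointwise_smul (g ^ n) (MulAut.conj a) _ hmem
    simpa [MulAut.smul_def, MulAut.conj_apply] using this
  rw [ha] at this
  exact this

/-- a fixed-point-free permutation of order dividing 3 when `3 ∣ |α|` -/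
theorem l5_exists_fpf (h3 : 3 ∣ Fintype.card α) :
    ∃ σ : Perm α, σ ^ 3 = 1 ∧ ∀ x, σ x ≠ x := by
  obtain ⟨m, hm⟩ := h3
  have hc : Fintype.card (Fin m × Fin 3) = Fintype.card α := by simp [hm, mul_comm]
  let e : (Fin m × Fin 3) ≃ α := Fintype.equivOfCardEq hc
  let τ : Perm (Fin m × Fin 3) := Equiv.prodCongr (Equiv.refl _) (Equiv.addRight (1 : Fin 3))
  have hτ3 : τ ^ 3 = 1 := by
    ext ⟨i, j⟩ <;> simp [τ, pow_succ, Equiv.Perm.mul_apply, add_assoc]
  have hτ : ∀ x, τ x ≠ x := by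
    rintro ⟨i, j⟩ h
    simp only [τ, Equiv.prodCongr_apply, Equiv.coe_refl, Prod.map_apply, id_eq, Equiv.coe_addRight,
      Prod.mk.injEq, true_and] at h
    fin_cases j <;> simp at h
  refine ⟨e.permCongrHom τ, ?_, ?_⟩
  · rw [← map_pow, hτ3, map_one]
  · intro x h
    have : τ (e.symm x) = e.symm x := by
      have h' : e (τ (e.symm x)) = x := h
      have h'' := congrArg e.symm h'
      simpa using h''
    exact hτ _ this

/-- PIECE L5. -/
theorem sylow_noFixedPoint (h3 : 3 ∣ Fintype.card α) (S : Sylow 3 (alternatingGroup α)) :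
    NoFixedPoint (S : Subgroup (alternatingGroup α)) := by
  obtain ⟨σ, hσ3, hσ⟩ := l5_exists_fpf h3
  have hmem : σ ∈ alternatingGroup α := l5_mem_alt_of_pow σ 1 (by simpa using hσ3)
  obtain ⟨a, ha⟩ := l5_exists_conj_mem S ⟨σ, hmem⟩ 1 (by
    apply Subtype.ext; simpa using hσ3)
  intro x
  refine ⟨_, ha 1, ?_⟩
  intro h
  simp only [pow_one, Subgroup.coe_mul, Subgroup.coe_inv, Equiv.Perm.mul_apply] at h
  have h2 : σ (((a : Perm α))⁻¹ x) = ((a : Perm α))⁻¹ x := by
    have := congrArg (fun y => ((a : Perm α))⁻¹ y) h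
    simpa using this
  exact hσ _ h2

/-- a transitive cyclic group of order `3^a` when `|α| = 3^a` -/
theorem l5_exists_cycle (a : ℕ) (h : Fintype.card α = 3 ^ a) :
    ∃ σ : Perm α, σ ^ 3 ^ a = 1 ∧ ∀ x y : α, ∃ n : ℕ, (σ ^ n) x = y := by
  have : NeZero (3 ^ a) := ⟨by positivity⟩
  have hc : Fintype.card (ZMod (3 ^ a)) = Fintype.card α := by rw [ZMod.card, h]
  let e : ZMod (3 ^ a) ≃ α := Fintype.equivOfCardEq hc
  let τ : Perm (ZMod (3 ^ a)) := Equiv.addRight (1 : ZMod (3 ^ a))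
  have hpow : ∀ n : ℕ, ∀ x, (τ ^ n) x = x + n := by
    intro n
    induction n with
    | zero => intro x; simp
    | succ n ih =>
      intro x
      rw [pow_succ, Equiv.Perm.mul_apply, ih]
      simp only [τ, Equiv.coe_addRight]
      push_cast
      ring
  refine ⟨e.permCongrHom τ, ?_, ?_⟩
  · rw [← map_pow]
    have : τ ^ 3 ^ a = 1 := by
      ext x
      rw [hpow]
      simp
    rw [this, map_one]
  · intro x y
    refine ⟨(e.symm y - e.symm x).val, ?_⟩
    rw [← map_pow]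
    show e ((τ ^ _) (e.symm x)) = y
    rw [hpow, ZMod.natCast_zmod_val]
    simp

/-- PIECE L5'. -/
theorem sylow_transitive (a : ℕ) (h : Fintype.card α = 3 ^ a) (S : Sylow 3 (alternatingGroup α)) :
    ∀ x y : α, ∃ g ∈ (S : Subgroup (alternatingGroup α)), (g : Perm α) x = y := by
  obtain ⟨σ, hσ3, hσ⟩ := l5_exists_cycle a h
  have hmem : σ ∈ alternatingGroup α := l5_mem_alt_of_pow σ a hσ3
  obtain ⟨b, hb⟩ := l5_exists_conj_mem S ⟨σ, hmem⟩ a (by
    apply Subtype.ext; simpa using hσ3)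
  intro x y
  obtain ⟨n, hn⟩ := hσ (((b : Perm α))⁻¹ x) (((b : Perm α))⁻¹ y)
  refine ⟨_, hb n, ?_⟩
  simp only [Subgroup.coe_mul, Subgroup.coe_inv, Subgroup.coe_pow, Equiv.Perm.mul_apply]
  rw [hn]
  simp

end Cfsg.Agent.Lib.Helper11.PM3
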