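import Mathlib
import Cfsg.Prelude.Def_Classical
import Cfsg.Agent.Lib.Helper1.S8U.Defs

set_option autoImplicit false

/-!
# Project S8U, row AFF1 (helper28): powers in the affine group `F^ι ⋊ K`.
-/

namespace Cfsg.Agent.Lib.Helper1.S8U

open Matrix Module Polynomial Cfsg.Agent.Lib.Helper16 Cfsg.Agent.Lib.Helper13.OTS Cfsg.Agent.Lib.Helper19.SO8
  Cfsg.Agent.Lib.helper14.OrthInv

theorem s8uaff1_geoM_zero {ι : Type} [Fintype ι] [DecidableEq ι] {F : Type*} [Field F] (g : GL ι F) :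
    geoM g 0 = 0 := by
  unfold geoM
  simp

theorem s8uaff1_geoM_succ {ι : Type} [Fintype ι] [DecidableEq ι] {F : Type*} [Field F] (g : GL ι F)
    (k : ℕ) : geoM g (k + 1) = geoM g k + ((g ^ k : GL ι F) : Matrix ι ι F) := by
  unfold geoM
  rw [Finset.sum_range_succ]

theorem aff_pow {ι : Type} [Fintype ι] [DecidableEq ι] {F : Type*} [Field F] (K : Subgroup (GL ι F))
    (x : AffK K) (k : ℕ) :
    x ^ k = ⟨Multiplicative.ofAdd (geoM (x.right : GL ι F) k *ᵥ Multiplicative.toAdd x.left), x.right ^ k⟩ := by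
  induction k with
  | zero =>
    rw [pow_zero, s8uaff1_geoM_zero, Matrix.zero_mulVec, pow_zero]
    rfl
  | succ k ih =>
    rw [pow_succ, ih]
    refine SemidirectProduct.ext ?_ ?_
    · rw [SemidirectProduct.mul_left]
      show Multiplicative.ofAdd _ * (glAct ι F ((x.right ^ k : ↥K) : GL ι F)) x.left = _
      rw [glAct_apply, s8uaff1_geoM_succ, Matrix.add_mulVec, ofAdd_add, Subgroup.coe_pow]
    · rw [SemidirectProduct.mul_right, pow_succ]

end Cfsg.Agent.Lib.Helper1.S8U
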