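import Mathlib
import Cfsg.Prelude.Def_Classical
import Cfsg.Agent.Lib.Helper1.S8U.Defs
import Cfsg.Agent.Lib.Helper28.S8UAFF1

set_option autoImplicit false

/-!
# Project S8U, row AFF2 (helper28): the order of an element of the affine group `F^ι ⋊ K` in characteristic `2`.
-/

namespace Cfsg.Agent.Lib.Helper1.S8U

open Matrix Module Polynomial Cfsg.Agent.Lib.Helper16 Cfsg.Agent.Lib.Helper13.OTS Cfsg.Agent.Lib.Helper19.SO8
  Cfsg.Agent.Lib.helper14.OrthInv

/-- the `orderOf x.right`-th power of `x` -/
theorem s8uaff2_pow_order {ι : Type} [Fintype ι] [DecidableEq ι] {F : Type*} [Field F]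
    (K : Subgroup (GL ι F)) (x : AffK K) :
    x ^ orderOf x.right =
      ⟨Multiplicative.ofAdd (geoM (x.right : GL ι F) (orderOf x.right) *ᵥ Multiplicative.toAdd x.left), 1⟩ := by
  rw [aff_pow, pow_orderOf_eq_one]

/-- the order of the right component divides the order -/
theorem s8uaff2_right_dvd {ι : Type} [Fintype ι] [DecidableEq ι] {F : Type*} [Field F]
    (K : Subgroup (GL ι F)) (x : AffK K) : orderOf x.right ∣ orderOf x := by
  have := orderOf_map_dvd (SemidirectProduct.rightHom (N := Multiplicative (ι → F)) (G := ↥K)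
    (φ := (glAct ι F).comp K.subtype)) x
  rwa [SemidirectProduct.rightHom_eq_right] at this

/-- an element with trivial right component squares to `1` in characteristic `2` -/
theorem s8uaff2_sq {ι : Type} [Fintype ι] [DecidableEq ι] {F : Type*} [Field F] [CharP F 2]
    (K : Subgroup (GL ι F)) (w : ι → F) :
    ((⟨Multiplicative.ofAdd w, 1⟩ : AffK K)) ^ 2 = 1 := by
  rw [pow_two]
  refine SemidirectProduct.ext ?_ ?_
  · rw [SemidirectProduct.mul_left]
    show Multiplicative.ofAdd w * ((glAct ι F).comp K.subtype) 1 (Multiplicative.ofAdd w) = 1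
    rw [map_one, MulAut.one_apply, ← ofAdd_add]
    have : w + w = 0 := by
      funext i
      exact CharTwo.add_self_eq_zero (w i)
    rw [this]
    rfl
  · rw [SemidirectProduct.mul_right]
    exact one_mul _

theorem aff_order {ι : Type} [Fintype ι] [DecidableEq ι] {F : Type*} [Field F] [Fintype F] [CharP F 2]
    (K : Subgroup (GL ι F)) (x : AffK K) :
    (geoM (x.right : GL ι F) (orderOf x.right) *ᵥ Multiplicative.toAdd x.left = 0 →
        orderOf x = orderOf x.right) ∧
      (geoM (x.right : GL ι F) (orderOf x.right) *ᵥ Multiplicative.toAdd x.left ≠ 0 →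
        orderOf x = 2 * orderOf x.right) := by
  have hdvd := s8uaff2_right_dvd K x
  have hpow := s8uaff2_pow_order K x
  have hfin : Finite (GL ι F) := inferInstance
  have hpos : 0 < orderOf x.right := orderOf_pos x.right
  constructor
  · intro h0
    apply Nat.dvd_antisymm _ hdvd
    apply orderOf_dvd_of_pow_eq_one
    rw [hpow, h0]
    rfl
  · intro h0
    have h2 : orderOf x ∣ 2 * orderOf x.right := by
      apply orderOf_dvd_of_pow_eq_one
      rw [mul_comm, pow_mul, hpow]
      exact s8uaff2_sq K _
    obtain ⟨j, hj⟩ := hdvd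
    have hj2 : j ∣ 2 := by
      rw [hj, mul_comm 2] at h2
      exact Nat.dvd_of_mul_dvd_mul_left hpos h2
    have hj12 : j = 1 ∨ j = 2 := by
      have := Nat.le_of_dvd (by norm_num) hj2
      interval_cases j
      · simp at hj2
      · exact Or.inl rfl
      · exact Or.inr rfl
    rcases hj12 with rfl | rfl
    · exfalso
      rw [mul_one] at hj
      have h1 : x ^ orderOf x.right = 1 := by
        rw [← hj]
        exact pow_orderOf_eq_one x
      rw [hpow] at h1
      have h3 := congrArg SemidirectProduct.left h1
      apply h0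
      have h4 : Multiplicative.ofAdd
          (geoM (x.right : GL ι F) (orderOf x.right) *ᵥ Multiplicative.toAdd x.left) = 1 := h3
      exact h4
    · rw [hj, mul_comm]

end Cfsg.Agent.Lib.Helper1.S8U
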