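import Mathlib
import Cfsg.Agent.Lib.helper17.SLP.Defs
import Cfsg.Agent.Lib.helper3.SP4.Defs
import Cfsg.Agent.Lib.helper2.SLPM1
import Cfsg.Agent.Lib.Helper28.SP4R1

/-!
# Project SP4, rows R3 (`r_basic`) and R4 (`r_rank1`) (helper28).
-/

set_option autoImplicit false

namespace Cfsg.Agent.Lib.helper3.SP4

open Cfsg.Agent.Lib.helper17.SLP
open Polynomial

universe u v

section R

variable {F : Type u} [Field F] {G : Type v} [Group G]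

/-- R3 [S-M]. -/
theorem r_basic (φ : Matrix.SpecialLinearGroup (Fin 2) F →* G) :
    (∀ s t, rx φ (s + t) = rx φ s * rx φ t) ∧ rx φ 0 = 1 ∧ (∀ t, rx φ (-t) = (rx φ t)⁻¹) ∧
      (∀ s r : Fˣ, rh φ (s * r) = rh φ s * rh φ r) ∧ rh φ 1 = 1 ∧ (∀ s : Fˣ, rh φ s⁻¹ = (rh φ s)⁻¹) ∧
      (∀ (s : Fˣ) (i : ℤ), rh φ (s ^ i) = rh φ s ^ i) ∧ (∀ s : Fˣ, Act (rh φ s) (rx φ) ((s : F) ^ 2)) ∧
      (∀ s : Fˣ, rn φ * rh φ s * (rn φ)⁻¹ = (rh φ s)⁻¹) ∧ rn φ ^ 2 = rh φ (-1) := by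
  refine ⟨?_, ?_, ?_, ?_, ?_, ?_, ?_, ?_, ?_, ?_⟩
  · intro s t
    unfold rx
    rw [← map_mul, xM_mul]
  · unfold rx
    rw [xM_zero, map_one]
  · intro t
    unfold rx
    rw [xM_neg, map_inv]
  · intro s r
    unfold rh
    rw [← map_mul, hM_mul]
  · unfold rh
    rw [hM_one, map_one]
  · intro s
    unfold rh
    rw [← hM_inv, map_inv]
  · intro s i
    unfold rh
    rw [← hM_zpow, map_zpow]
  · intro s t
    unfold rh rx
    rw [← map_inv, ← map_mul, ← map_mul, hM_conj]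
  · intro s
    unfold rn rh
    rw [← map_inv, ← map_mul, ← map_mul, wM_hM, map_inv]
  · unfold rn rh
    rw [← map_pow, wM_sq]

/-- R4 [S]. -/
theorem r_rank1 (φ : Matrix.SpecialLinearGroup (Fin 2) F →* G) (t : F) :
    rx φ t = 1 ∨ ∃ (s s' : F) (r : Fˣ), rn φ * rx φ t * (rn φ)⁻¹ = rx φ s * rh φ r * rn φ * rx φ s' := by
  by_cases ht : t = 0
  · left
    rw [ht]
    exact (r_basic φ).2.1
  · right
    refine ⟨-(((Units.mk0 t ht)⁻¹ : Fˣ) : F), -(((Units.mk0 t ht)⁻¹ : Fˣ) : F), (Units.mk0 t ht)⁻¹, ?_⟩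
    have h := rank1_M (Units.mk0 t ht)
    rw [Units.val_mk0] at h
    unfold rn rx rh
    rw [← map_inv, ← map_mul, ← map_mul, h, map_mul, map_mul, map_mul]

end R

end Cfsg.Agent.Lib.helper3.SP4
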