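import Mathlib
import Cfsg.Prelude.Def_LieTypeChar
import Cfsg.Prelude.Def_ChevStructure
import Cfsg.Agent.Lib.helper14.SQD.Defs

/-!
Project SQD, rows T1 (`uut_one uut_mul uut_det uut_inv uut_transvection`) and T2 (`mem_uutGL`) (helper28).
-/

set_option autoImplicit false

namespace Cfsg.Agent.Lib.helper14.SQD

open Cfsg Cfsg.Lie Matrix

universe u v

section T
variable {n : ℕ} {R : Type u} [CommRing R]

/-- the diagonal of a product of two upper triangular matrices -/
theorem sqdt1_diag_mul {A B : Matrix (Fin n) (Fin n) R} (hA : A.BlockTriangular id)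
    (hB : B.BlockTriangular id) (i : Fin n) : (A * B) i i = A i i * B i i := by
  rw [Matrix.mul_apply]
  apply Finset.sum_eq_single i
  · intro j _ hji
    rcases lt_or_gt_of_ne hji with h | h
    · rw [hA (show id j < id i from h), zero_mul]
    · rw [hB (show id i < id j from h), mul_zero]
  · intro h; exact absurd (Finset.mem_univ i) h

/-- T1a [E]. -/
theorem uut_one : IsUUT (1 : Matrix (Fin n) (Fin n) R) :=
  ⟨Matrix.blockTriangular_one, fun i => Matrix.one_apply_eq i⟩

/-- T1b [E-M]. -/
theorem uut_mul {A B : Matrix (Fin n) (Fin n) R} (hA : IsUUT A) (hB : IsUUT B) : IsUUT (A * B) := by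
  refine ⟨hA.1.mul hB.1, fun i => ?_⟩
  rw [sqdt1_diag_mul hA.1 hB.1, hA.2, hB.2, mul_one]

/-- T1c [E]. -/
theorem uut_det {A : Matrix (Fin n) (Fin n) R} (hA : IsUUT A) : A.det = 1 := by
  rw [Matrix.det_of_isUpperTriangular hA.1]
  exact Finset.prod_eq_one (fun i _ => hA.2 i)

/-- T1d [E-M]. -/
theorem uut_inv {A : Matrix (Fin n) (Fin n) R} (hA : IsUUT A) : IsUUT A⁻¹ := by
  have hdet : IsUnit A.det := by rw [uut_det hA]; exact isUnit_one
  let _inst : Invertible A := Matrix.invertibleOfIsUnitDet A hdet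
  have hinv : A⁻¹.BlockTriangular id := Matrix.blockTriangular_inv_of_blockTriangular hA.1
  refine ⟨hinv, fun i => ?_⟩
  have h1 : (A * A⁻¹) i i = 1 := by
    rw [Matrix.mul_nonsing_inv A hdet, Matrix.one_apply_eq]
  rw [sqdt1_diag_mul hA.1 hinv, hA.2, one_mul] at h1
  exact h1

/-- T1e [E]. -/
theorem uut_transvection (i j : Fin n) (hij : i < j) (t : R) : IsUUT (Matrix.transvection i j t) := by
  refine ⟨Matrix.blockTriangular_transvection (show id i ≤ id j from hij.le) t, fun k => ?_⟩
  unfold Matrix.transvection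
  rw [Matrix.add_apply, Matrix.one_apply_eq, Matrix.single_apply_of_ne, add_zero]
  rintro ⟨rfl, rfl⟩
  exact lt_irrefl _ hij

/-- T2 [E-M]. -/
theorem mem_uutGL (g : GL (Fin n) R) : g ∈ uutGL n R ↔ IsUUT (g : Matrix (Fin n) (Fin n) R) := by
  constructor
  · intro hg
    unfold uutGL at hg
    induction hg using Subgroup.closure_induction with
    | mem x hx => exact hx
    | one => exact uut_one
    | mul x y _ _ hx hy => rw [Units.val_mul]; exact uut_mul hx hy
    | inv x _ hx => rw [Matrix.coe_units_inv]; exact uut_inv hx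
  · intro hg
    exact Subgroup.subset_closure hg

end T

end Cfsg.Agent.Lib.helper14.SQD
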