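import Mathlib
import Cfsg.Prelude.Def_LieTypeChar
import Cfsg.Prelude.Def_ChevStructure
import Cfsg.Agent.Lib.helper14.SQD.Defs
import Cfsg.Agent.Lib.Helper28.SQDT1

/-!
Project SQD, row T4 (`uut_gen`): every upper unitriangular matrix is a product of transvections
`transvection i j t`, `i < j` (helper28).
-/

set_option autoImplicit false

namespace Cfsg.Agent.Lib.helper14.SQD

open Cfsg Cfsg.Lie Matrix

universe u v

section T
variable {n : ℕ} {R : Type u} [CommRing R]

/-- the row operation: entries of `transvection i c s * A` -/
theorem sqdt4_transvection_mul_apply (i c : Fin n) (s : R) (A : Matrix (Fin n) (Fin n) R)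
    (a b : Fin n) :
    (Matrix.transvection i c s * A) a b = A a b + (if a = i then s * A c b else 0) := by
  unfold Matrix.transvection
  rw [Matrix.add_mul, Matrix.one_mul, Matrix.add_apply]
  congr 1
  split_ifs with h
  · subst h
    exact Matrix.single_mul_apply_same s a c b A
  · exact Matrix.single_mul_apply_of_ne s i c a b h A

/-- uniqueness of the row-major code of a position -/
theorem sqdt4_code_inj {n i j i' j' : ℕ} (hj : j < n) (hj' : j' < n)
    (h : n * i + j = n * i' + j') : i = i' ∧ j = j' := by
  have hn : 0 < n := by omega
  have h1 : (n * i + j) / n = i := by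
    rw [Nat.mul_add_div hn, Nat.div_eq_of_lt hj, add_zero]
  have h2 : (n * i' + j') / n = i' := by
    rw [Nat.mul_add_div hn, Nat.div_eq_of_lt hj', add_zero]
  have h3 : (n * i + j) % n = j := by
    rw [Nat.mul_add_mod, Nat.mod_eq_of_lt hj]
  have h4 : (n * i' + j') % n = j' := by
    rw [Nat.mul_add_mod, Nat.mod_eq_of_lt hj']
  constructor
  · rw [← h1, h, h2]
  · rw [← h3, h, h4]

/-- the set of generators -/
def sqdt4_gens (n : ℕ) (R : Type u) [CommRing R] : Set (Matrix (Fin n) (Fin n) R) :=
  {M : Matrix (Fin n) (Fin n) R | ∃ i j : Fin n, i < j ∧ ∃ t : R, M = Matrix.transvection i j t}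

/-- downward induction on the row-major code `k` of the first possibly nonzero position above the diagonal -/
theorem sqdt4_aux (m : ℕ) : ∀ k : ℕ, k + m = n * n → ∀ A : Matrix (Fin n) (Fin n) R, IsUUT A →
    (∀ i j : Fin n, i < j → n * i.val + j.val < k → A i j = 0) →
    A ∈ Submonoid.closure (sqdt4_gens n R) := by
  induction m with
  | zero =>
    intro k hk A hA h0
    have hA1 : A = 1 := by
      ext i j
      rcases lt_trichotomy i j with hij | hij | hij
      · rw [Matrix.one_apply_ne hij.ne]
        apply h0 i j hij
        have h1 : n * i.val + j.val < n * i.val + n := by have := j.isLt; omega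
        have h2 : n * i.val + n = n * (i.val + 1) := by ring
        have h3 : n * (i.val + 1) ≤ n * n := Nat.mul_le_mul_left n i.isLt
        omega
      · subst hij
        rw [hA.2, Matrix.one_apply_eq]
      · rw [Matrix.one_apply_ne hij.ne']
        exact hA.1 (show id j < id i from hij)
    rw [hA1]
    exact one_mem _
  | succ m ih =>
    intro k hk A hA h0
    by_cases hex : ∃ i c : Fin n, i < c ∧ n * i.val + c.val = k
    · obtain ⟨i, c, hic, hk'⟩ := hex
      set a := A i c with ha
      set A' := Matrix.transvection i c (-a) * A with hA'
      have hA'uut : IsUUT A' := uut_mul (uut_transvection i c hic (-a)) hA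
      have hA'0 : ∀ i' j' : Fin n, i' < j' → n * i'.val + j'.val < k + 1 → A' i' j' = 0 := by
        intro i' j' hij' hlt
        rw [hA', sqdt4_transvection_mul_apply]
        by_cases hi : i' = i
        · subst hi
          rw [if_pos rfl]
          by_cases hjc : j' = c
          · subst hjc
            rw [hA.2 j', ← ha]; ring
          · -- `j' < c`
            have hjlt : j' < c := by
              rcases lt_or_gt_of_ne hjc with h | h
              · exact h
              · exfalso
                have : c.val < j'.val := h
                omega
            rw [hA.1 (show id j' < id c from hjlt), mul_zero, add_zero]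
            apply h0 i' j' hij'
            have : j'.val < c.val := hjlt
            omega
        · rw [if_neg hi, add_zero]
          apply h0 i' j' hij'
          rcases Nat.lt_succ_iff_lt_or_eq.mp hlt with h | h
          · exact h
          · exfalso
            rw [← hk'] at h
            have := (sqdt4_code_inj j'.isLt c.isLt h).1
            exact hi (Fin.ext this)
      have hmem : A' ∈ Submonoid.closure (sqdt4_gens n R) :=
        ih (k + 1) (by omega) A' hA'uut hA'0
      have hAeq : A = Matrix.transvection i c a * A' := by
        rw [hA', ← Matrix.mul_assoc, Matrix.transvection_mul_transvection_same i c hic.ne,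
          add_neg_cancel, Matrix.transvection_zero, Matrix.one_mul]
      rw [hAeq]
      exact mul_mem (Submonoid.subset_closure ⟨i, c, hic, a, rfl⟩) hmem
    · apply ih (k + 1) (by omega) A hA
      intro i j hij hlt
      rcases Nat.lt_succ_iff_lt_or_eq.mp hlt with h | h
      · exact h0 i j hij h
      · exact absurd ⟨i, j, hij, h⟩ hex

/-- T4 [M-H]. -/
theorem uut_gen {A : Matrix (Fin n) (Fin n) R} (hA : IsUUT A) :
    A ∈ Submonoid.closure {M : Matrix (Fin n) (Fin n) R |
      ∃ i j : Fin n, i < j ∧ ∃ t : R, M = Matrix.transvection i j t} :=
  sqdt4_aux (n * n) 0 (by omega) A hA (fun _ _ _ h => absurd h (Nat.not_lt_zero _))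

end T

end Cfsg.Agent.Lib.helper14.SQD
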