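import Mathlib
import Cfsg.Prelude.Def_LieTypeChar
import Cfsg.Prelude.Def_ChevStructure
import Cfsg.Agent.Lib.helper14.SQD.Defs
import Cfsg.Agent.Lib.Helper28.SQDT1
import Cfsg.Agent.Lib.Helper28.SQDT4

/-!
Project SQD, row T5 (`uutGL_eq_closure`) (helper28).
-/

set_option autoImplicit false

namespace Cfsg.Agent.Lib.helper14.SQD

open Cfsg Cfsg.Lie Matrix

universe u v

section T
variable {n : ℕ} {R : Type u} [CommRing R]

/-- a transvection as a unit -/
def sqdt5_tv (i j : Fin n) (hij : i ≠ j) (t : R) : GL (Fin n) R :=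
  ⟨Matrix.transvection i j t, Matrix.transvection i j (-t),
    by rw [Matrix.transvection_mul_transvection_same i j hij, add_neg_cancel, Matrix.transvection_zero],
    by rw [Matrix.transvection_mul_transvection_same i j hij, neg_add_cancel, Matrix.transvection_zero]⟩

theorem sqdt5_tv_coe (i j : Fin n) (hij : i ≠ j) (t : R) :
    ((sqdt5_tv i j hij t : GL (Fin n) R) : Matrix (Fin n) (Fin n) R) = Matrix.transvection i j t := rfl

/-- every matrix of the monoid closure is the matrix of a unit of the subgroup closure -/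
theorem sqdt5_lift {M : Matrix (Fin n) (Fin n) R}
    (hM : M ∈ Submonoid.closure {M : Matrix (Fin n) (Fin n) R |
      ∃ i j : Fin n, i < j ∧ ∃ t : R, M = Matrix.transvection i j t}) :
    ∃ g : GL (Fin n) R, (g : Matrix (Fin n) (Fin n) R) = M ∧
      g ∈ Subgroup.closure {g : GL (Fin n) R |
        ∃ i j : Fin n, i < j ∧ ∃ t : R, (g : Matrix (Fin n) (Fin n) R) = Matrix.transvection i j t} := by
  induction hM using Submonoid.closure_induction with
  | mem M hM =>
    obtain ⟨i, j, hij, t, rfl⟩ := hM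
    exact ⟨sqdt5_tv i j hij.ne t, rfl, Subgroup.subset_closure ⟨i, j, hij, t, rfl⟩⟩
  | one => exact ⟨1, rfl, one_mem _⟩
  | mul M N _ _ hM hN =>
    obtain ⟨g, rfl, hg⟩ := hM
    obtain ⟨h, rfl, hh⟩ := hN
    exact ⟨g * h, rfl, mul_mem hg hh⟩

/-- T5 [M]. -/
theorem uutGL_eq_closure : uutGL n R = Subgroup.closure {g : GL (Fin n) R |
    ∃ i j : Fin n, i < j ∧ ∃ t : R, (g : Matrix (Fin n) (Fin n) R) = Matrix.transvection i j t} := by
  apply le_antisymm
  · intro g hg
    obtain ⟨g', hg', hmem⟩ := sqdt5_lift (uut_gen ((mem_uutGL g).mp hg))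
    have : g' = g := Units.ext hg'
    rw [← this]
    exact hmem
  · rw [Subgroup.closure_le]
    rintro g ⟨i, j, hij, t, hg⟩
    apply (mem_uutGL g).mpr
    rw [hg]
    exact uut_transvection i j hij t

end T

end Cfsg.Agent.Lib.helper14.SQD
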