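import Mathlib
import Cfsg.Prelude.Def_LieTypeChar
import Cfsg.Prelude.Def_ChevStructure
import Cfsg.Agent.Lib.helper14.SQD.Defs
import Cfsg.Agent.Lib.Helper29.SQDX3
import Cfsg.Agent.Lib.Helper28.SQDT5

/-!
Project SQD, row T6 (`sqd_uutGL`) (helper28).
-/

set_option autoImplicit false

namespace Cfsg.Agent.Lib.helper14.SQD

open Cfsg Cfsg.Lie Matrix

universe u v

section T
variable {n : ℕ} {R : Type u} [CommRing R]

/-- T6 [E-M]. -/
theorem sqd_uutGL [CharP R 2] : SqD (uutGL n R) := by
  apply sqd_of_invol (uutGL n R) _ uutGL_eq_closure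
  rintro g ⟨i, j, hij, t, hg⟩
  apply Units.ext
  rw [Units.val_pow_eq_pow_val, hg, pow_two, Matrix.transvection_mul_transvection_same i j hij.ne,
    CharTwo.add_self_eq_zero, Matrix.transvection_zero, Units.val_one]

end T

end Cfsg.Agent.Lib.helper14.SQD
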