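import Cfsg.Agent.Lib.Helper28.TOO.Defs2

/-!
# Project TOO (helper28): general facts on `perp J S` for a symmetric non-degenerate Gram matrix `J` (any index type);
rows GA1 (`perp_finrank`), GA2 (`perp_perp`), GA3 (`perp_sup`, `perp_anti`) as corollaries.
-/

set_option autoImplicit false
set_option linter.unusedVariables false
set_option linter.unusedSectionVars false

namespace Cfsg.Agent.Lib.Helper28.TOO

open Matrix
open scoped Kronecker
open Cfsg.Agent.Lib.helper7.TP Cfsg.Agent.Lib.Helper21.TS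

variable {ι : Type*} [Fintype ι] [DecidableEq ι] {a b : ℕ} {F : Type*} [Field F]

theorem tooperp_eq_orthogonal {J : Matrix ι ι F} (hJ : Jᵀ = J) (S : Submodule F (ι → F)) :
    perp J S = (Matrix.toBilin' J).orthogonal S := by
  ext v
  rw [mem_perp, LinearMap.BilinForm.mem_orthogonal_iff]
  constructor
  · intro h s hs
    rw [Matrix.toBilin'_apply']
    have := h s hs
    rw [bf_symm hJ] at this
    exact this
  · intro h s hs
    have := h s hs
    rw [Matrix.toBilin'_apply'] at this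
    rw [bf_symm hJ]
    exact this

theorem tooperp_nondeg {J : Matrix ι ι F} (hdet : J.det ≠ 0) : (Matrix.toBilin' J).Nondegenerate :=
  (Matrix.nondegenerate_of_det_ne_zero hdet).toBilin'

theorem tooperp_refl {J : Matrix ι ι F} (hJ : Jᵀ = J) : (Matrix.toBilin' J).IsRefl := by
  intro x y h
  rw [Matrix.toBilin'_apply'] at h ⊢
  have := bf_symm hJ y x
  unfold bf at this
  rw [this]
  exact h

/-- `dim S^⊥ + dim S = n`. -/
theorem tooperp_finrank {J : Matrix ι ι F} (hJ : Jᵀ = J) (hdet : J.det ≠ 0) (S : Submodule F (ι → F)) :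
    Module.finrank F ↥(perp J S) + Module.finrank F ↥S = Fintype.card ι := by
  rw [tooperp_eq_orthogonal hJ, LinearMap.BilinForm.finrank_orthogonal (tooperp_nondeg hdet)]
  have h1 : Module.finrank F ↥S ≤ Module.finrank F (ι → F) := Submodule.finrank_le S
  have h2 : Module.finrank F (ι → F) = Fintype.card ι := Module.finrank_fintype_fun_eq_card F
  omega

/-- `S^⊥⊥ = S`. -/
theorem tooperp_perp_perp {J : Matrix ι ι F} (hJ : Jᵀ = J) (hdet : J.det ≠ 0) (S : Submodule F (ι → F)) :
    perp J (perp J S) = S := by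
  rw [tooperp_eq_orthogonal hJ, tooperp_eq_orthogonal hJ,
    LinearMap.BilinForm.orthogonal_orthogonal (tooperp_nondeg hdet) (tooperp_refl hJ)]

theorem tooperp_anti {J : Matrix ι ι F} {S S' : Submodule F (ι → F)} (h : S ≤ S') : perp J S' ≤ perp J S :=
  fun v hv s hs => hv s (h hs)

theorem tooperp_sup {J : Matrix ι ι F} (S S' : Submodule F (ι → F)) :
    perp J (S ⊔ S') = perp J S ⊓ perp J S' := by
  apply le_antisymm
  · exact le_inf (tooperp_anti le_sup_left) (tooperp_anti le_sup_right)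
  · rintro v ⟨h1, h2⟩ s hs
    obtain ⟨x, hx, y, hy, rfl⟩ := Submodule.mem_sup.mp hs
    rw [bf_add_right, h1 x hx, h2 y hy, add_zero]

/-- `JV` is symmetric. -/
theorem tooperp_JV_symm {J1 : Matrix (Fin a) (Fin a) F} {J2 : Matrix (Fin b) (Fin b) F} (C : OCtx J1 J2) :
    (JV J1 J2)ᵀ = JV J1 J2 := by
  unfold JV
  rw [← Matrix.kroneckerMap_transpose, C.sym1, C.sym2]

/-- `det JV ≠ 0`. -/
theorem tooperp_JV_det {J1 : Matrix (Fin a) (Fin a) F} {J2 : Matrix (Fin b) (Fin b) F} (C : OCtx J1 J2) :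
    (JV J1 J2).det ≠ 0 := by
  unfold JV
  rw [Matrix.det_kronecker]
  exact mul_ne_zero (pow_ne_zero _ C.det1) (pow_ne_zero _ C.det2)

variable {J1 : Matrix (Fin a) (Fin a) F} {J2 : Matrix (Fin b) (Fin b) F}

/-- GA1. -/
theorem perp_finrank (C : OCtx J1 J2) (S : Submodule F (Fin a × Fin b → F)) :
    Module.finrank F ↥(perp (JV J1 J2) S) + Module.finrank F ↥S = a * b := by
  rw [tooperp_finrank (tooperp_JV_symm C) (tooperp_JV_det C)]
  simp

/-- GA2. -/
theorem perp_perp (C : OCtx J1 J2) (S : Submodule F (Fin a × Fin b → F)) :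
    perp (JV J1 J2) (perp (JV J1 J2) S) = S :=
  tooperp_perp_perp (tooperp_JV_symm C) (tooperp_JV_det C) S

/-- GA3. -/
theorem perp_sup (S S' : Submodule F (Fin a × Fin b → F)) :
    perp (JV J1 J2) (S ⊔ S') = perp (JV J1 J2) S ⊓ perp (JV J1 J2) S' := tooperp_sup S S'

theorem perp_anti {S S' : Submodule F (Fin a × Fin b → F)} (h : S ≤ S') :
    perp (JV J1 J2) S' ≤ perp (JV J1 J2) S := tooperp_anti h

end Cfsg.Agent.Lib.Helper28.TOO
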