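import Cfsg.Agent.Lib.Helper28.UMax

set_option autoImplicit false

open Cfsg

namespace Cfsg.Agent.Lib.Helper28.UNd

open Matrix Cfsg.Agent.Lib.Helper28.UForm Cfsg.Agent.Lib.Helper28.UGen
  Cfsg.Agent.Lib.Helper28.UMax

variable {n : ℕ} {F : Type*} [Field F] {σ : F ≃+* F} {f : (Fin n → F) → (Fin n → F) → F}

theorem exists_noniso_r (hf : Cfsg.Geo.IsUnitaryForm σ f) {m : ℕ} (a : Fin m → (Fin n → F))
    (ha : Nd f a) (S : Submodule F (Fin n → F)) (hS : ∀ x ∈ S, Perp f a x)
    (hdim : n < 2 * Module.finrank F S + m) : ∃ y ∈ S, f y y ≠ 0 := by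
  by_contra hcon
  push Not at hcon
  have := rb hf a ha S (ti_of_iso hf S hcon) hS
  omega

theorem exists_iso_r [Finite F] (hf : Cfsg.Geo.IsUnitaryForm σ f) {m : ℕ}
    (a : Fin m → (Fin n → F)) (ha : Nd f a) {k : ℕ} (b : Fin k → (Fin n → F))
    (hb : LinearIndependent F b) (α : Fin k → F)
    (hab : ∀ v, (∀ i, f v (b i) = 0) → Perp f a v) (hk : 2 * (k + 1) < n + m) :
    ∃ z, f z z = 0 ∧ ∀ i, f z (b i) = α i := by
  obtain ⟨z0, hz0⟩ := lin_solve hf b hb α
  have hdim := finrank_ker_ge hf (Fin.cons z0 b : Fin (k + 1) → (Fin n → F))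
  obtain ⟨y, hyS, hy⟩ := exists_noniso_r hf a ha
    (LinearMap.ker (perpMap hf (Fin.cons z0 b : Fin (k + 1) → (Fin n → F)))) (by
      intro x hx
      rw [mem_ker_perpMap] at hx
      apply hab
      intro i
      have := hx i.succ
      simpa using this) (by omega)
  rw [mem_ker_perpMap] at hyS
  have hy0 : f y z0 = 0 := by
    have := hyS 0
    simpa using this
  have hyx : ∀ i, f y (b i) = 0 := by
    intro i
    have := hyS i.succ
    simpa using this
  have hfix : σ (-(f z0 z0) / f y y) = -(f z0 z0) / f y y := by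
    rw [map_div₀, map_neg, f_self_fixed hf, f_self_fixed hf]
  obtain ⟨c, hc⟩ := norm_surj hf _ hfix
  refine ⟨z0 + c • y, ?_, fun i => ?_⟩
  · rw [hf.add_left, f_add_right hf, f_add_right hf, hf.smul_left, hf.smul_left, f_smul_right hf,
      f_smul_right hf, hy0, f_swap_zero hf hy0]
    have : c * (σ c * f y y) = -(f z0 z0) := by
      rw [← mul_assoc, hc]
      field_simp
    rw [this]
    ring
  · rw [hf.add_left, hf.smul_left, hyx i, hz0 i]
    ring

theorem li_cons1 {m : ℕ} (a : Fin m → (Fin n → F))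
    (ha : Nd f a) (x : Fin n → F) (hx0 : x ≠ 0) (hxa : Perp f a x) :
    LinearIndependent F (Fin.cons x a : Fin (m + 1) → (Fin n → F)) :=
  ha.li.finCons (not_mem_span a ha x hx0 hxa)

theorem li_cons2 (hf : Cfsg.Geo.IsUnitaryForm σ f) {m : ℕ} (a : Fin m → (Fin n → F))
    (ha : Nd f a) (x y : Fin n → F) (hx0 : x ≠ 0) (hyx : y ∉ Submodule.span F {x})
    (hxa : Perp f a x) (hya : Perp f a y) :
    LinearIndependent F (Fin.cons y (Fin.cons x a) : Fin (m + 1 + 1) → (Fin n → F)) := by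
  apply (li_cons1 a ha x hx0 hxa).finCons
  intro h
  rw [Fin.range_cons, Submodule.mem_span_insert] at h
  obtain ⟨c, w, hw, hyw⟩ := h
  have hwa : Perp f a w := by
    have : w = y - c • x := by rw [hyw]; abel
    rw [this]
    exact perp_sub hf a _ _ hya (perp_smul hf a _ _ hxa)
  have hw0 := ha.nd w hw hwa
  apply hyx
  rw [Submodule.mem_span_singleton]
  exact ⟨c, by rw [hyw, hw0, add_zero]⟩

theorem ex1_r [Finite F] (hf : Cfsg.Geo.IsUnitaryForm σ f) {m : ℕ} (a : Fin m → (Fin n → F))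
    (ha : Nd f a) (hm : m + 5 ≤ n) (x : Fin n → F) (hx0 : x ≠ 0) (hxa : Perp f a x) (α : F) :
    ∃ z, f z z = 0 ∧ Perp f a z ∧ f z x = α := by
  obtain ⟨z, hz, h⟩ := exists_iso_r hf a ha (Fin.cons x a : Fin (m + 1) → (Fin n → F))
    (li_cons1 a ha x hx0 hxa) (Fin.cons α 0) (by
      intro v hv i
      have := hv i.succ
      simpa using this) (by omega)
  refine ⟨z, hz, fun i => ?_, ?_⟩
  · have := h i.succ
    simpa using this
  · have := h 0
    simpa using this

theorem ex2_r [Finite F] (hf : Cfsg.Geo.IsUnitaryForm σ f) {m : ℕ} (a : Fin m → (Fin n → F))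
    (ha : Nd f a) (hm : m + 7 ≤ n) (x y : Fin n → F) (hx0 : x ≠ 0)
    (hyx : y ∉ Submodule.span F {x}) (hxa : Perp f a x) (hya : Perp f a y) (α β : F) :
    ∃ z, f z z = 0 ∧ Perp f a z ∧ f z x = α ∧ f z y = β := by
  obtain ⟨z, hz, h⟩ := exists_iso_r hf a ha
    (Fin.cons y (Fin.cons x a) : Fin (m + 1 + 1) → (Fin n → F))
    (li_cons2 hf a ha x y hx0 hyx hxa hya) (Fin.cons β (Fin.cons α 0)) (by
      intro v hv i
      have := hv i.succ.succ
      simpa using this) (by omega)
  refine ⟨z, hz, fun i => ?_, ?_, ?_⟩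
  · have := h i.succ.succ
    simpa using this
  · have := h (1 : Fin (m + 1 + 1))
    simpa using this
  · have := h 0
    simpa using this

theorem n1a_r (hf : Cfsg.Geo.IsUnitaryForm σ f) {m : ℕ} (a : Fin m → (Fin n → F))
    (x y : Fin n → F) (hxy : f x x = f y y) (hw : f (y - x) (y - x) = 0)
    (hne : f x (y - x) ≠ 0) (hwa : Perp f a (y - x)) :
    ∃ r ∈ Ra f σ a, (r : Matrix (Fin n) (Fin n) F) *ᵥ x = y := by
  have hσ : σ (f x (y - x)) = -(f x (y - x)) := by
    have h1 : f (y - x) (y - x) = f y y - f y x - f x y + f x x := by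
      rw [f_sub_left hf, f_sub_right hf, f_sub_right hf]
      ring
    rw [hw] at h1
    rw [f_sub_right hf, map_sub, ← hf.herm, f_self_fixed hf]
    linear_combination h1 - hxy
  obtain ⟨r, hr, hrx, _⟩ := move1 hf a x (y - x) hw hwa hne hσ
  refine ⟨r, hr, ?_⟩
  rw [hrx]
  abel

theorem n1b_r [Finite F] (hf : Cfsg.Geo.IsUnitaryForm σ f) {m : ℕ} (a : Fin m → (Fin n → F))
    (ha : Nd f a) (hm : m + 7 ≤ n) (x y : Fin n → F) (hxa : Perp f a x) (hya : Perp f a y)
    (hxy : f x x = f y y) (hx0 : x ≠ 0) (hyx : y ∉ Submodule.span F {x}) :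
    ∃ r ∈ Ra f σ a, (r : Matrix (Fin n) (Fin n) F) *ᵥ x = y := by
  obtain ⟨κ, hκ0, hκ⟩ := exists_K0 hf
  have hNfix : σ (f x x) = f x x := f_self_fixed hf x
  have hfix : σ (2 * f x x - f x y - f y x) = 2 * f x x - f x y - f y x := by
    rw [map_sub, map_sub, map_mul, map_ofNat, hNfix, ← hf.herm, ← hf.herm]
    ring
  obtain ⟨t0, ht0⟩ := trace_surj hf _ hfix
  obtain ⟨b1, hb1, hb1ne⟩ : ∃ b1, b1 + σ b1 = 2 * f x x - f x y - f y x ∧
      f x y - f x x + b1 ≠ 0 := by
    by_cases h : f x y - f x x + t0 = 0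
    · refine ⟨t0 + κ, ?_, ?_⟩
      · rw [map_add, hκ]
        linear_combination ht0
      · have : f x y - f x x + (t0 + κ) = κ := by linear_combination h
        rw [this]
        exact hκ0
    · exact ⟨t0, ht0, h⟩
  obtain ⟨u, hu, hua, hux0, huy⟩ := ex2_r hf a ha hm x y hx0 hyx hxa hya κ b1
  have hxu : f x u = -κ := by rw [hf.herm, hux0, hκ]
  have hyu : f y u = σ b1 := by rw [hf.herm, huy]
  have hzz : f (x + u) (x + u) = f x x := by
    simp only [hf.add_left, f_add_right hf, hu, hux0, hxu]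
    ring
  obtain ⟨r1, hr1, hr1x⟩ := n1a_r hf a x (x + u) hzz.symm (by
    have : x + u - x = u := by abel
    rw [this]
    exact hu) (by
    have : x + u - x = u := by abel
    rw [this, hxu]
    exact neg_ne_zero.2 hκ0) (by
    have : x + u - x = u := by abel
    rw [this]
    exact hua)
  obtain ⟨r2, hr2, hr2x⟩ := n1a_r hf a (x + u) y (hzz.trans hxy) (by
    simp only [f_sub_left hf, f_sub_right hf, hf.add_left, f_add_right hf, hu, hux0, hxu, huy, hyu]
    linear_combination (-1 : F) * hb1 - hxy) (by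
    simp only [f_sub_right hf, hf.add_left, f_add_right hf, hu, hux0, hxu, huy]
    intro h
    apply hb1ne
    linear_combination h) (perp_sub hf a _ _ hya (perp_add hf a _ _ hxa hua))
  refine ⟨r2 * r1, Subgroup.mul_mem _ hr2 hr1, ?_⟩
  rw [Cfsg.Agent.S5643.mul_mv, hr1x, hr2x]

theorem n1_r [Finite F] (hf : Cfsg.Geo.IsUnitaryForm σ f) {m : ℕ} (a : Fin m → (Fin n → F))
    (ha : Nd f a) (hm : m + 7 ≤ n) (x y : Fin n → F) (hxa : Perp f a x) (hya : Perp f a y)
    (hxy : f x x = f y y) (hN : f x x ≠ 0) :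
    ∃ r ∈ Ra f σ a, (r : Matrix (Fin n) (Fin n) F) *ᵥ x = y := by
  have hx0 : x ≠ 0 := by
    intro h
    rw [h, f_zero_left hf] at hN
    exact hN rfl
  have hy0 : y ≠ 0 := by
    intro h
    rw [hxy, h, f_zero_left hf] at hN
    exact hN rfl
  by_cases hyx : y ∈ Submodule.span F {x}
  · obtain ⟨κ, hκ0, hκ⟩ := exists_K0 hf
    obtain ⟨u, hu, hua, hux⟩ := ex1_r hf a ha (by omega) x hx0 hxa κ
    have hxu : f x u = -κ := by rw [hf.herm, hux, hκ]
    have hzz : f (x + u) (x + u) = f x x := by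
      simp only [hf.add_left, f_add_right hf, hu, hux, hxu]
      ring
    have hzx : x + u ∉ Submodule.span F {x} := by
      intro h
      rw [Submodule.mem_span_singleton] at h
      obtain ⟨c, hc⟩ := h
      have hu' : u = (c - 1) • x := by
        rw [sub_smul, one_smul, hc]
        abel
      have h1 : f u x = (c - 1) * f x x := by rw [hu', hf.smul_left]
      have h2 : f u u = (c - 1) * (σ (c - 1) * f x x) := by
        rw [hu', hf.smul_left, f_smul_right hf]
      rw [hu] at h2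
      have h3 : c - 1 = 0 := by
        rcases mul_eq_zero.1 h2.symm with h | h
        · exact h
        · rcases mul_eq_zero.1 h with h' | h'
          · have := congrArg σ h'
            rwa [hf.involutive, map_zero] at this
          · exact absurd h' hN
      rw [h3, zero_mul] at h1
      rw [hux] at h1
      exact hκ0 h1
    have hz0 : x + u ≠ 0 := by
      intro h
      apply hzx
      rw [h]
      exact Submodule.zero_mem _
    obtain ⟨r1, hr1, hr1x⟩ := n1a_r hf a x (x + u) hzz.symm (by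
      have : x + u - x = u := by abel
      rw [this]
      exact hu) (by
      have : x + u - x = u := by abel
      rw [this, hxu]
      exact neg_ne_zero.2 hκ0) (by
      have : x + u - x = u := by abel
      rw [this]
      exact hua)
    have hyz : y ∉ Submodule.span F {x + u} := by
      intro h
      rw [Submodule.mem_span_singleton] at h
      obtain ⟨c, hc⟩ := h
      rw [Submodule.mem_span_singleton] at hyx
      obtain ⟨d, hd⟩ := hyx
      have hc0 : c ≠ 0 := by
        intro h0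
        rw [h0, zero_smul] at hc
        exact hy0 hc.symm
      apply hzx
      rw [Submodule.mem_span_singleton]
      refine ⟨c⁻¹ * d, ?_⟩
      rw [mul_smul, hd, ← hc, smul_smul, inv_mul_cancel₀ hc0, one_smul]
    obtain ⟨r2, hr2, hr2x⟩ := n1b_r hf a ha hm (x + u) y (perp_add hf a _ _ hxa hua) hya
      (hzz.trans hxy) hz0 hyz
    refine ⟨r2 * r1, Subgroup.mul_mem _ hr2 hr1, ?_⟩
    rw [Cfsg.Agent.S5643.mul_mv, hr1x, hr2x]
  · exact n1b_r hf a ha hm x y hxa hya hxy hx0 hyx

structure OF (f : (Fin n → F) → (Fin n → F) → F) {m : ℕ} (t : Fin m → (Fin n → F)) : Prop where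
  ne : ∀ i, f (t i) (t i) ≠ 0
  orth : ∀ i j, i ≠ j → f (t i) (t j) = 0

theorem OF.coef (hf : Cfsg.Geo.IsUnitaryForm σ f) {m : ℕ} {t : Fin m → (Fin n → F)}
    (h : OF f t) (c : Fin m → F) (j : Fin m) :
    f (∑ i, c i • t i) (t j) = c j * f (t j) (t j) := by
  classical
  rw [f_sum_left hf, Finset.sum_eq_single j]
  · rw [hf.smul_left]
  · intro i _ hij
    rw [hf.smul_left, h.orth i j hij, mul_zero]
  · intro hj
    exact absurd (Finset.mem_univ j) hj

theorem OF.nd (hf : Cfsg.Geo.IsUnitaryForm σ f) {m : ℕ} {t : Fin m → (Fin n → F)}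
    (h : OF f t) : Nd f t := by
  constructor
  · rw [Fintype.linearIndependent_iff]
    intro c hc j
    have := h.coef hf c j
    rw [hc, f_zero_left hf] at this
    exact (mul_eq_zero.1 this.symm).resolve_right (h.ne j)
  · intro v hv hp
    rw [Submodule.mem_span_range_iff_exists_fun] at hv
    obtain ⟨c, rfl⟩ := hv
    have hc : ∀ j, c j = 0 := by
      intro j
      have := h.coef hf c j
      rw [hp j] at this
      exact (mul_eq_zero.1 this.symm).resolve_right (h.ne j)
    simp [hc]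

theorem OF.proj (hf : Cfsg.Geo.IsUnitaryForm σ f) {m : ℕ} {t : Fin m → (Fin n → F)}
    (h : OF f t) (v : Fin n → F) :
    ∃ w ∈ Submodule.span F (Set.range t), Perp f t (v - w) := by
  refine ⟨∑ i, (f v (t i) / f (t i) (t i)) • t i, ?_, fun j => ?_⟩
  · apply Submodule.sum_mem
    intro i _
    exact Submodule.smul_mem _ _ (Submodule.subset_span ⟨i, rfl⟩)
  · rw [f_sub_left hf, h.coef hf]
    have := h.ne j
    field_simp
    ring

def NdOn (f : (Fin n → F) → (Fin n → F) → F) (W : Submodule F (Fin n → F)) : Prop :=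
  ∀ w ∈ W, w ≠ 0 → ∃ x ∈ W, f x w ≠ 0

theorem exists_noniso_of_ndOn (hf : Cfsg.Geo.IsUnitaryForm σ f) (W : Submodule F (Fin n → F))
    (hW : NdOn f W) (hW0 : W ≠ ⊥) : ∃ a ∈ W, f a a ≠ 0 := by
  by_contra hcon
  push Not at hcon
  obtain ⟨w, hw, hw0⟩ := Submodule.exists_mem_ne_zero_of_ne_bot hW0
  obtain ⟨x, hx, hxw⟩ := hW w hw hw0
  exact hxw (ti_of_iso hf W hcon x hx w hw)

def peel (hf : Cfsg.Geo.IsUnitaryForm σ f) (W : Submodule F (Fin n → F)) (a : Fin n → F) :
    Submodule F (Fin n → F) :=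
  W ⊓ LinearMap.ker (perpMap hf (fun _ : Fin 1 => a))

theorem mem_peel (hf : Cfsg.Geo.IsUnitaryForm σ f) (W : Submodule F (Fin n → F))
    (a v : Fin n → F) : v ∈ peel hf W a ↔ v ∈ W ∧ f v a = 0 := by
  unfold peel
  rw [Submodule.mem_inf, mem_ker_perpMap]
  constructor
  · rintro ⟨h1, h2⟩
    exact ⟨h1, h2 0⟩
  · rintro ⟨h1, h2⟩
    exact ⟨h1, fun _ => h2⟩

theorem peel_sub (hf : Cfsg.Geo.IsUnitaryForm σ f) (W : Submodule F (Fin n → F))
    (a : Fin n → F) (haW : a ∈ W) (ha : f a a ≠ 0) (w : Fin n → F) (hw : w ∈ W) :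
    w - (f w a / f a a) • a ∈ peel hf W a := by
  rw [mem_peel]
  refine ⟨W.sub_mem hw (W.smul_mem _ haW), ?_⟩
  rw [f_sub_left hf, hf.smul_left]
  field_simp
  ring

theorem peel_nd (hf : Cfsg.Geo.IsUnitaryForm σ f) (W : Submodule F (Fin n → F))
    (hW : NdOn f W) (a : Fin n → F) (haW : a ∈ W) (ha : f a a ≠ 0) : NdOn f (peel hf W a) := by
  intro w hw hw0
  rw [mem_peel] at hw
  obtain ⟨x, hx, hxw⟩ := hW w hw.1 hw0
  refine ⟨_, peel_sub hf W a haW ha x hx, ?_⟩
  rw [f_sub_left hf, hf.smul_left, f_swap_zero hf hw.2, mul_zero, sub_zero]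
  exact hxw

theorem peel_lt (hf : Cfsg.Geo.IsUnitaryForm σ f) (W : Submodule F (Fin n → F))
    (a : Fin n → F) (haW : a ∈ W) (ha : f a a ≠ 0) :
    Module.finrank F (peel hf W a) < Module.finrank F W := by
  apply Submodule.finrank_lt_finrank_of_lt
  refine lt_of_le_of_ne inf_le_left ?_
  intro h
  have : a ∈ peel hf W a := by
    rw [h]
    exact haW
  rw [mem_peel] at this
  exact ha this.2

theorem orth_basis (hf : Cfsg.Geo.IsUnitaryForm σ f) :
    ∀ (k : ℕ) (W : Submodule F (Fin n → F)), Module.finrank F W ≤ k → NdOn f W →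
      ∃ (d : ℕ) (t : Fin d → (Fin n → F)), OF f t ∧ (∀ i, t i ∈ W) ∧
        ∀ w ∈ W, w ∈ Submodule.span F (Set.range t) := by
  intro k
  induction k with
  | zero =>
    intro W hk _
    have hW : W = ⊥ := by
      apply Submodule.finrank_eq_zero.1
      omega
    refine ⟨0, Fin.elim0, ⟨fun i => Fin.elim0 i, fun i => Fin.elim0 i⟩, fun i => Fin.elim0 i, ?_⟩
    intro w hw
    rw [hW, Submodule.mem_bot] at hw
    rw [hw]
    exact Submodule.zero_mem _
  | succ k ih =>
    intro W hk hW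
    by_cases hW0 : W = ⊥
    · refine ⟨0, Fin.elim0, ⟨fun i => Fin.elim0 i, fun i => Fin.elim0 i⟩,
        fun i => Fin.elim0 i, ?_⟩
      intro w hw
      rw [hW0, Submodule.mem_bot] at hw
      rw [hw]
      exact Submodule.zero_mem _
    · obtain ⟨a, haW, ha⟩ := exists_noniso_of_ndOn hf W hW hW0
      have hlt := peel_lt hf W a haW ha
      obtain ⟨d, t, hOF, htW, hspan⟩ := ih (peel hf W a) (by omega) (peel_nd hf W hW a haW ha)
      have hta : ∀ i, f (t i) a = 0 := fun i => ((mem_peel hf W a _).1 (htW i)).2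
      refine ⟨d + 1, Fin.cons a t, ⟨?_, ?_⟩, ?_, ?_⟩
      · intro i
        refine Fin.cases ?_ (fun i' => ?_) i
        · simpa using ha
        · simpa using hOF.ne i'
      · intro i j
        refine Fin.cases ?_ (fun i' => ?_) i
        · refine Fin.cases ?_ (fun j' => ?_) j
          · intro h
            exact absurd rfl h
          · intro _
            simpa using f_swap_zero hf (hta j')
        · refine Fin.cases ?_ (fun j' => ?_) j
          · intro _
            simpa using hta i'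
          · intro h
            have : i' ≠ j' := fun h' => h (by rw [h'])
            simpa using hOF.orth i' j' this
      · intro i
        refine Fin.cases ?_ (fun i' => ?_) i
        · simpa using haW
        · simpa using ((mem_peel hf W a _).1 (htW i')).1
      · intro w hw
        rw [Fin.range_cons, Submodule.mem_span_insert]
        refine ⟨f w a / f a a, w - (f w a / f a a) • a, hspan _ (peel_sub hf W a haW ha w hw), ?_⟩
        abel

theorem orth_basis_with (hf : Cfsg.Geo.IsUnitaryForm σ f) (W : Submodule F (Fin n → F))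
    (hW : NdOn f W) (a : Fin n → F) (haW : a ∈ W) (ha : f a a ≠ 0) :
    ∃ (d : ℕ) (t : Fin d → (Fin n → F)), OF f (Fin.cons a t : Fin (d + 1) → (Fin n → F)) ∧
      (∀ i, t i ∈ W) ∧
        ∀ w ∈ W, w ∈ Submodule.span F (Set.range (Fin.cons a t : Fin (d + 1) → (Fin n → F))) := by
  obtain ⟨d, t, hOF, htW, hspan⟩ := orth_basis hf _ (peel hf W a) le_rfl (peel_nd hf W hW a haW ha)
  have hta : ∀ i, f (t i) a = 0 := fun i => ((mem_peel hf W a _).1 (htW i)).2
  refine ⟨d, t, ⟨?_, ?_⟩, fun i => ((mem_peel hf W a _).1 (htW i)).1, ?_⟩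
  · intro i
    refine Fin.cases ?_ (fun i' => ?_) i
    · simpa using ha
    · simpa using hOF.ne i'
  · intro i j
    refine Fin.cases ?_ (fun i' => ?_) i
    · refine Fin.cases ?_ (fun j' => ?_) j
      · intro h
        exact absurd rfl h
      · intro _
        simpa using f_swap_zero hf (hta j')
    · refine Fin.cases ?_ (fun j' => ?_) j
      · intro _
        simpa using hta i'
      · intro h
        have : i' ≠ j' := fun h' => h (by rw [h'])
        simpa using hOF.orth i' j' this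
  · intro w hw
    rw [Fin.range_cons, Submodule.mem_span_insert]
    refine ⟨f w a / f a a, w - (f w a / f a a) • a, hspan _ (peel_sub hf W a haW ha w hw), ?_⟩
    abel

theorem iso_split [Finite F] (hf : Cfsg.Geo.IsUnitaryForm σ f) {m : ℕ}
    (a : Fin m → (Fin n → F)) (ha : Nd f a) (hm : m + 2 ≤ n) (u : Fin n → F)
    (hua : Perp f a u) :
    ∃ (y₁ y₂ : Fin n → F) (β : F), f y₁ y₁ = 0 ∧ f y₂ y₂ = 0 ∧ Perp f a y₁ ∧ Perp f a y₂ ∧
      u = y₁ + β • y₂ := by
  by_cases hu : f u u = 0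
  · exact ⟨u, 0, 0, hu, f_zero_left hf 0, hua, fun i => f_zero_left hf _, by simp⟩
  · have hnd := nd_cons1 hf a ha u hua hu
    obtain ⟨s, hs, hss⟩ := exists_noniso_perp hf _ hnd (by omega)
    rw [perp_cons] at hs
    obtain ⟨hsu, hsa⟩ := hs
    have hus : f u s = 0 := f_swap_zero hf hsu
    have hfix : σ (-(f u u) / f s s) = -(f u u) / f s s := by
      rw [map_div₀, map_neg, f_self_fixed hf, f_self_fixed hf]
    obtain ⟨c, hc⟩ := norm_surj hf _ hfix
    obtain ⟨y₂, hy₂def⟩ : ∃ y₂ : Fin n → F, y₂ = u + c • s := ⟨_, rfl⟩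
    have hy₂ : f y₂ y₂ = 0 := by
      rw [hy₂def, hf.add_left, f_add_right hf, f_add_right hf, hf.smul_left, hf.smul_left,
        f_smul_right hf, f_smul_right hf, hsu, hus]
      have : c * (σ c * f s s) = -(f u u) := by
        rw [← mul_assoc, hc]
        field_simp
      rw [this]
      ring
    have huy₂ : f u y₂ ≠ 0 := by
      rw [hy₂def, f_add_right hf, f_smul_right hf, hus, mul_zero, add_zero]
      exact hu
    have hy₂a : Perp f a y₂ := by
      rw [hy₂def]
      exact perp_add hf a _ _ hua (perp_smul hf a _ _ hsa)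
    obtain ⟨β, hβ⟩ := iso_fix hf u y₂ hy₂ huy₂
    refine ⟨u + β • y₂, y₂, -β, hβ, hy₂, perp_add hf a _ _ hua (perp_smul hf a _ _ hy₂a), hy₂a, ?_⟩
    rw [neg_smul]
    abel

theorem Ra_le_M {m : ℕ} (t : Fin m → (Fin n → F))
    (M : Subgroup (Matrix.GeneralLinearGroup (Fin n) F))
    (hX : ∀ v, f v v = 0 → Perp f t v → v ∈ XS f σ M) : Ra f σ t ≤ M := by
  unfold Ra
  rw [Subgroup.closure_le]
  rintro g ⟨y, c, hy, hc, hya, hg⟩
  exact (hX y hy hya).2 c hc g hg

theorem GA_fix_span {m : ℕ} (t : Fin m → (Fin n → F))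
    {g : Matrix.GeneralLinearGroup (Fin n) F} (hg : g ∈ GA f t) :
    ∀ w ∈ Submodule.span F (Set.range t), (g : Matrix (Fin n) (Fin n) F) *ᵥ w = w := by
  intro w hw
  induction hw using Submodule.span_induction with
  | mem y hy =>
    obtain ⟨i, rfl⟩ := hy
    exact hg.2.2 i
  | zero => exact Matrix.mulVec_zero _
  | add y z _ _ hy hz => rw [Matrix.mulVec_add, hy, hz]
  | smul c y _ hy => rw [Matrix.mulVec_smul, hy]

theorem mixed [Finite F] (hf : Cfsg.Geo.IsUnitaryForm σ f) {m : ℕ} (t : Fin m → (Fin n → F))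
    (ht : Nd f t) (hm : 2 * m < n) (hm2 : m + 2 ≤ n) (k : Matrix.GeneralLinearGroup (Fin n) F)
    (u₀ : Fin n → F) (hu₀ : Perp f t u₀)
    (hku₀ : ¬ Perp f t ((k : Matrix (Fin n) (Fin n) F) *ᵥ u₀)) :
    ∃ y, f y y = 0 ∧ Perp f t y ∧ ¬ Perp f t ((k : Matrix (Fin n) (Fin n) F) *ᵥ y) ∧
      (k : Matrix (Fin n) (Fin n) F) *ᵥ y ∉ Submodule.span F (Set.range t) := by
  obtain ⟨y₁, hy₁, hy₁t, hky₁⟩ : ∃ y, f y y = 0 ∧ Perp f t y ∧
      ¬ Perp f t ((k : Matrix (Fin n) (Fin n) F) *ᵥ y) := by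
    obtain ⟨ya, yb, β, hya, hyb, hyat, hybt, rfl⟩ := iso_split hf t ht hm2 u₀ hu₀
    by_contra hcon
    push Not at hcon
    apply hku₀
    rw [Matrix.mulVec_add, Matrix.mulVec_smul]
    exact perp_add hf t _ _ (hcon ya hya hyat) (perp_smul hf t _ _ (hcon yb hyb hybt))
  obtain ⟨y₂, hy₂, hy₂t, hky₂⟩ : ∃ y, f y y = 0 ∧ Perp f t y ∧
      (k : Matrix (Fin n) (Fin n) F) *ᵥ y ∉ Submodule.span F (Set.range t) := by
    by_contra hcon
    push Not at hcon
    have hall : ∀ x ∈ LinearMap.ker (perpMap hf t),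
        Matrix.toLin' (k : Matrix (Fin n) (Fin n) F) x ∈ Submodule.span F (Set.range t) := by
      intro u hu
      rw [mem_ker_perpMap] at hu
      obtain ⟨ya, yb, β, hya, hyb, hyat, hybt, rfl⟩ := iso_split hf t ht hm2 u hu
      rw [Matrix.toLin'_apply, Matrix.mulVec_add, Matrix.mulVec_smul]
      exact Submodule.add_mem _ (hcon ya hya hyat) (Submodule.smul_mem _ _ (hcon yb hyb hybt))
    have hinj : Function.Injective
        ((Matrix.toLin' (k : Matrix (Fin n) (Fin n) F)).restrict hall) := by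
      intro a b hab
      have h1 := congrArg Subtype.val hab
      rw [LinearMap.coe_restrict_apply, LinearMap.coe_restrict_apply, Matrix.toLin'_apply,
        Matrix.toLin'_apply] at h1
      apply Subtype.ext
      rw [← Cfsg.Agent.S5643.inv_mv k a, h1, Cfsg.Agent.S5643.inv_mv]
    have h1 := LinearMap.finrank_le_finrank_of_injective hinj
    have h2 := finrank_ker_eq hf t ht.li
    have h3 : Module.finrank F (Submodule.span F (Set.range t)) = m := by
      rw [finrank_span_eq_card ht.li, Fintype.card_fin]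
    omega
  by_cases c1 : (k : Matrix (Fin n) (Fin n) F) *ᵥ y₁ ∈ Submodule.span F (Set.range t)
  · by_cases c2 : Perp f t ((k : Matrix (Fin n) (Fin n) F) *ᵥ y₂)
    · obtain ⟨β, hβ0, hβ⟩ : ∃ β : F, β ≠ 0 ∧ f (y₁ + β • y₂) (y₁ + β • y₂) = 0 := by
        by_cases h12 : f y₁ y₂ = 0
        · refine ⟨1, one_ne_zero, ?_⟩
          rw [one_smul, hf.add_left, f_add_right hf, f_add_right hf, hy₁, hy₂, h12,
            f_swap_zero hf h12]
          ring
        · obtain ⟨c, hc0, hc⟩ := exists_K0 hf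
          have h21 : f y₂ y₁ ≠ 0 := f_swap_ne hf h12
          refine ⟨c / f y₂ y₁, div_ne_zero hc0 h21, ?_⟩
          rw [hf.add_left, f_add_right hf, f_add_right hf, hf.smul_left, hf.smul_left,
            f_smul_right hf, f_smul_right hf, hy₁, hy₂, map_div₀, hc, ← hf.herm y₁ y₂]
          field_simp
          ring
      refine ⟨y₁ + β • y₂, hβ, perp_add hf t _ _ hy₁t (perp_smul hf t _ _ hy₂t), ?_, ?_⟩
      · intro h
        apply hky₁
        have : (k : Matrix (Fin n) (Fin n) F) *ᵥ y₁ =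
            (k : Matrix (Fin n) (Fin n) F) *ᵥ (y₁ + β • y₂) -
              β • ((k : Matrix (Fin n) (Fin n) F) *ᵥ y₂) := by
          rw [Matrix.mulVec_add, Matrix.mulVec_smul]
          abel
        rw [this]
        exact perp_sub hf t _ _ h (perp_smul hf t _ _ c2)
      · intro h
        apply hky₂
        have : (k : Matrix (Fin n) (Fin n) F) *ᵥ y₂ =
            β⁻¹ • ((k : Matrix (Fin n) (Fin n) F) *ᵥ (y₁ + β • y₂) -
              (k : Matrix (Fin n) (Fin n) F) *ᵥ y₁) := by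
          rw [Matrix.mulVec_add, Matrix.mulVec_smul, add_sub_cancel_left, smul_smul,
            inv_mul_cancel₀ hβ0, one_smul]
        rw [this]
        exact Submodule.smul_mem _ _ (Submodule.sub_mem _ h c1)
    · exact ⟨y₂, hy₂, hy₂t, c2, hky₂⟩
  · exact ⟨y₁, hy₁, hy₁t, hky₁, c1⟩

theorem to_typeA [Finite F] (hf : Cfsg.Geo.IsUnitaryForm σ f) {m : ℕ} (t : Fin m → (Fin n → F))
    (ht : Nd f t) (hm : m + 3 ≤ n) (M : Subgroup (Matrix.GeneralLinearGroup (Fin n) F))
    (hXU : ∀ v, f v v = 0 → Perp f t v → v ∈ XS f σ M)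
    (hXW : ∀ v ∈ Submodule.span F (Set.range t), f v v = 0 → v ∈ XS f σ M)
    (a₀ b₀ : Fin n → F) (ha₀ : a₀ ∈ Submodule.span F (Set.range t)) (ha₀0 : a₀ ≠ 0)
    (hb₀ : Perp f t b₀) (hb₀0 : b₀ ≠ 0) (hy₀ : a₀ + b₀ ∈ XS f σ M) :
    ∃ a b : Fin n → F, a ∈ Submodule.span F (Set.range t) ∧ Perp f t b ∧ f a a ≠ 0 ∧
      a + b ∈ XS f σ M := by
  by_cases haa : f a₀ a₀ = 0
  · have hba : ∀ w ∈ Submodule.span F (Set.range t), f b₀ w = 0 := perp_span hf t b₀ hb₀
    have hab : ∀ w ∈ Submodule.span F (Set.range t), f w b₀ = 0 := perp_span' hf t b₀ hb₀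
    have hbb : f b₀ b₀ = 0 := by
      have := hy₀.1
      rw [hf.add_left, f_add_right hf, f_add_right hf, haa, hab a₀ ha₀, hba a₀ ha₀] at this
      simpa using this
    obtain ⟨i, hi⟩ : ∃ i, f a₀ (t i) ≠ 0 := by
      by_contra hcon
      push Not at hcon
      exact ha₀0 (ht.nd a₀ ha₀ hcon)
    obtain ⟨β, hβ⟩ := iso_fix hf (t i) a₀ haa (f_swap_ne hf hi)
    obtain ⟨a₁, ha₁def⟩ : ∃ a₁ : Fin n → F, a₁ = t i + β • a₀ := ⟨_, rfl⟩
    rw [← ha₁def] at hβ
    have ha₁W : a₁ ∈ Submodule.span F (Set.range t) := by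
      rw [ha₁def]
      exact Submodule.add_mem _ (Submodule.subset_span ⟨i, rfl⟩) (Submodule.smul_mem _ _ ha₀)
    have ha₀a₁ : f a₀ a₁ ≠ 0 := by
      rw [ha₁def, f_add_right hf, f_smul_right hf, haa, mul_zero, add_zero]
      exact hi
    obtain ⟨c, hc0, hc⟩ := exists_K0 hf
    have hσc0 : σ c ≠ 0 := by
      rw [hc]
      exact neg_ne_zero.2 hc0
    have hy₁ := XS_tv hf M hy₀ (hXW a₁ ha₁W hβ) hc
    obtain ⟨β₁, hβ₁def⟩ : ∃ β₁ : F, β₁ = σ c * f a₀ a₁ := ⟨_, rfl⟩
    have hβ₁0 : β₁ ≠ 0 := by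
      rw [hβ₁def]
      exact mul_ne_zero hσc0 ha₀a₁
    have e1 : f (a₀ + b₀) (c • a₁) = β₁ := by
      rw [f_smul_right hf, hf.add_left, hba a₁ ha₁W, add_zero, hβ₁def]
    rw [e1] at hy₁
    obtain ⟨a₂, ha₂def⟩ : ∃ a₂ : Fin n → F, a₂ = a₀ + β₁ • a₁ := ⟨_, rfl⟩
    have e2 : a₀ + b₀ + β₁ • a₁ = a₂ + b₀ := by
      rw [ha₂def]
      abel
    rw [e2] at hy₁
    have ha₂W : a₂ ∈ Submodule.span F (Set.range t) := by
      rw [ha₂def]
      exact Submodule.add_mem _ ha₀ (Submodule.smul_mem _ _ ha₁W)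
    have ha₂a₂ : f a₂ a₂ = 0 := by
      have := hy₁.1
      rw [hf.add_left, f_add_right hf, f_add_right hf, hbb, hab a₂ ha₂W, hba a₂ ha₂W] at this
      simpa using this
    obtain ⟨κ, hκdef⟩ : ∃ κ : F, κ = f a₀ a₂ := ⟨_, rfl⟩
    have hκ0 : κ ≠ 0 := by
      rw [hκdef, ha₂def, f_add_right hf, f_smul_right hf, haa, zero_add]
      refine mul_ne_zero (fun h => hβ₁0 ?_) ha₀a₁
      have := congrArg σ h
      rwa [hf.involutive, map_zero] at this
    have hσκ0 : σ κ ≠ 0 := fun h => hκ0 (by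
      have := congrArg σ h
      rwa [hf.involutive, map_zero] at this)
    obtain ⟨z, hz1, hzt⟩ := ex_dual hf t ht b₀ hb₀0 hb₀
    obtain ⟨β₂, hβ₂⟩ := iso_fix hf z b₀ hbb (by rw [hz1]; exact one_ne_zero)
    obtain ⟨b', hb'def⟩ : ∃ b' : Fin n → F, b' = z + β₂ • b₀ := ⟨_, rfl⟩
    rw [← hb'def] at hβ₂
    have hb't : Perp f t b' := by
      rw [hb'def]
      exact perp_add hf t _ _ hzt (perp_smul hf t _ _ hb₀)
    have hb'b₀ : f b' b₀ = 1 := by
      rw [hb'def, hf.add_left, hf.smul_left, hbb, mul_zero, add_zero, hz1]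
    obtain ⟨θ, hθ⟩ := exists_moved hf
    have hθ0 : θ ≠ 0 := by
      rintro rfl
      exact hθ (map_zero σ)
    obtain ⟨μ, hμdef⟩ : ∃ μ : F, μ = θ / σ κ := ⟨_, rfl⟩
    have hμ0 : μ ≠ 0 := by
      rw [hμdef]
      exact div_ne_zero hθ0 hσκ0
    obtain ⟨b₂, hb₂def⟩ : ∃ b₂ : Fin n → F, b₂ = μ • b' := ⟨_, rfl⟩
    have hb₂t : Perp f t b₂ := by
      rw [hb₂def]
      exact perp_smul hf t _ _ hb't
    have hb₂b₂ : f b₂ b₂ = 0 := by
      rw [hb₂def, hf.smul_left, f_smul_right hf, hβ₂, mul_zero, mul_zero]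
    have hb₂b₀ : f b₂ b₀ = μ := by
      rw [hb₂def, hf.smul_left, hb'b₀, mul_one]
    have hb₂0 : b₂ ≠ 0 := by
      intro h
      rw [h, f_zero_left hf] at hb₂b₀
      exact hμ0 hb₂b₀.symm
    obtain ⟨r, hr, hrb⟩ := h1 hf t ht hm b₀ b₂ hb₀0 hb₂0 hbb hb₂b₂ hb₀ hb₂t
    have hrM : r ∈ M := Ra_le_M t M hXU hr
    have hrGA := Ra_le_GA hf t hr
    have hy₂ := XS_conj M hrM hrGA.1 hy₀
    rw [Matrix.mulVec_add, GA_fix_span t hrGA a₀ ha₀, hrb] at hy₂
    have hy₃ := XS_tv hf M hy₂ hy₁ hc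
    have e3 : f (a₀ + b₂) (c • (a₂ + b₀)) = σ c * (κ + μ) := by
      rw [f_smul_right hf, hf.add_left, f_add_right hf, f_add_right hf, hab a₀ ha₀,
        perp_span hf t b₂ hb₂t a₂ ha₂W, hb₂b₀, ← hκdef]
      ring
    rw [e3] at hy₃
    refine ⟨a₀ + (σ c * (κ + μ)) • a₂, b₂ + (σ c * (κ + μ)) • b₀,
      Submodule.add_mem _ ha₀ (Submodule.smul_mem _ _ ha₂W),
      perp_add hf t _ _ hb₂t (perp_smul hf t _ _ hb₀), ?_, ?_⟩
    · rw [hf.add_left, f_add_right hf, f_add_right hf, hf.smul_left, hf.smul_left,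
        f_smul_right hf, f_smul_right hf, haa, ha₂a₂, ← hκdef, hf.herm a₂ a₀, ← hκdef,
        map_mul, map_add, hf.involutive, hc]
      have e4 : μ * σ κ = θ := by
        rw [hμdef]
        field_simp
      have e5 : σ μ * κ = σ θ := by
        rw [← e4, map_mul, hf.involutive]
      intro h
      apply hθ
      have h6 : c * (σ θ - θ) = 0 := by
        rw [← e5, ← e4]
        linear_combination h
      rcases mul_eq_zero.1 h6 with h7 | h7
      · exact absurd h7 hc0
      · exact sub_eq_zero.1 h7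
    · have e6 : a₀ + (σ c * (κ + μ)) • a₂ + (b₂ + (σ c * (κ + μ)) • b₀) =
          a₀ + b₂ + (σ c * (κ + μ)) • (a₂ + b₀) := by
        rw [smul_add]
        abel
      rw [e6]
      exact hy₃
  · exact ⟨a₀, b₀, ha₀, hb₀, haa, hy₀⟩

theorem OF.tail {m : ℕ} {t : Fin (m + 1) → (Fin n → F)} (h : OF f t) :
    OF f (fun i : Fin m => t i.succ) :=
  ⟨fun i => h.ne i.succ, fun i j hij => h.orth i.succ j.succ (fun h' => hij (Fin.succ_injective _ h'))⟩

theorem perp_succ {m : ℕ} (t : Fin (m + 1) → (Fin n → F)) (v : Fin n → F) :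
    Perp f t v ↔ f v (t 0) = 0 ∧ Perp f (fun i : Fin m => t i.succ) v := by
  unfold Perp
  rw [Fin.forall_fin_succ]

theorem grow [Finite F] (hf : Cfsg.Geo.IsUnitaryForm σ f)
    (M : Subgroup (Matrix.GeneralLinearGroup (Fin n) F))
    (W : Submodule F (Fin n → F))
    (hXW : ∀ y ∈ W, f y y = 0 → y ∈ XS f σ M)
    (hnorm : ∀ N : F, σ N = N → N ≠ 0 → ∃ b, (∀ w ∈ W, f b w = 0) ∧ f b b = N) :
    ∀ (m : ℕ) (t : Fin m → (Fin n → F)), OF f t → m + 7 ≤ n → (∀ i, t i ∈ W) →
      (∀ v, f v v = 0 → Perp f t v → v ∈ XS f σ M) →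
      (∀ h : 0 < m, ∃ y ∈ XS f σ M, f y (t ⟨0, h⟩) ≠ 0 ∧ ∀ i, i ≠ ⟨0, h⟩ → f y (t i) = 0) →
      ∀ v, f v v = 0 → v ∈ XS f σ M := by
  intro m
  induction m with
  | zero =>
    intro t _ _ _ hX _ v hv
    exact hX v hv (fun i => Fin.elim0 i)
  | succ m ih =>
    intro t hOF hm htW hX hstart
    obtain ⟨y, hyX, hya, hyt⟩ := hstart (Nat.succ_pos m)
    have h00 : (⟨0, Nat.succ_pos m⟩ : Fin (m + 1)) = 0 := rfl
    rw [h00] at hya hyt
    obtain ⟨a, hadef⟩ : ∃ a : Fin n → F, a = t 0 := ⟨_, rfl⟩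
    rw [← hadef] at hya
    have haa : f a a ≠ 0 := by
      rw [hadef]
      exact hOF.ne 0
    have haW : a ∈ W := by
      rw [hadef]
      exact htW 0
    have hσaa : σ (f a a) = f a a := f_self_fixed hf a
    have has : ∀ i : Fin m, f a (t i.succ) = 0 := by
      intro i
      rw [hadef]
      exact hOF.orth 0 i.succ (Fin.succ_ne_zero i).symm
    have hys : Perp f (fun i : Fin m => t i.succ) y := fun i => hyt i.succ (Fin.succ_ne_zero i)
    have hnd := hOF.nd hf
    have hRaM : Ra f σ t ≤ M := Ra_le_M t M hX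
    have hX' : ∀ v, f v v = 0 → Perp f (fun i : Fin m => t i.succ) v → v ∈ XS f σ M := by
      intro v hvv hvs
      by_cases hva : f v a = 0
      · apply hX v hvv
        rw [perp_succ, ← hadef]
        exact ⟨hva, hvs⟩
      · obtain ⟨lam, hlamdef⟩ : ∃ lam : F, lam = f y a / f a a := ⟨_, rfl⟩
        have hya' : f y a = lam * f a a := by
          rw [hlamdef]
          field_simp
        obtain ⟨v₁, hv₁def⟩ : ∃ v₁ : Fin n → F, v₁ = (f y a / f v a) • v := ⟨_, rfl⟩
        have hv₁v₁ : f v₁ v₁ = 0 := by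
          rw [hv₁def, hf.smul_left, f_smul_right hf, hvv, mul_zero, mul_zero]
        have hv₁a : f v₁ a = lam * f a a := by
          rw [hv₁def, hf.smul_left, ← hya']
          field_simp
        have hv₁s : Perp f (fun i : Fin m => t i.succ) v₁ := by
          rw [hv₁def]
          exact perp_smul hf _ _ _ hvs
        have hbyt : Perp f t (y - lam • a) := by
          rw [perp_succ, ← hadef]
          refine ⟨by rw [f_sub_left hf, hf.smul_left, hya']; ring, fun i => ?_⟩
          rw [f_sub_left hf, hf.smul_left, hys i, has i]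
          ring
        have hbvt : Perp f t (v₁ - lam • a) := by
          rw [perp_succ, ← hadef]
          refine ⟨by rw [f_sub_left hf, hf.smul_left, hv₁a]; ring, fun i => ?_⟩
          rw [f_sub_left hf, hf.smul_left, hv₁s i, has i]
          ring
        have hay : f a y = σ lam * f a a := by
          rw [hf.herm, hya', map_mul, hσaa]
        have hav₁ : f a v₁ = σ lam * f a a := by
          rw [hf.herm, hv₁a, map_mul, hσaa]
        have hNy : f (y - lam • a) (y - lam • a) = -(lam * σ lam * f a a) := by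
          rw [f_sub_left hf, f_sub_right hf, f_sub_right hf, hf.smul_left, hf.smul_left,
            f_smul_right hf, f_smul_right hf, hyX.1, hya', hay]
          ring
        have hNv : f (v₁ - lam • a) (v₁ - lam • a) = -(lam * σ lam * f a a) := by
          rw [f_sub_left hf, f_sub_right hf, f_sub_right hf, hf.smul_left, hf.smul_left,
            f_smul_right hf, f_smul_right hf, hv₁v₁, hv₁a, hav₁]
          ring
        have hlam0 : lam ≠ 0 := by
          rw [hlamdef]
          exact div_ne_zero hya haa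
        have hσlam0 : σ lam ≠ 0 := fun h => hlam0 (by
          have := congrArg σ h
          rwa [hf.involutive, map_zero] at this)
        obtain ⟨r, hr, hrb⟩ := n1_r hf t hnd hm (y - lam • a) (v₁ - lam • a) hbyt hbvt
          (hNy.trans hNv.symm) (by
            rw [hNy]
            exact neg_ne_zero.2 (mul_ne_zero (mul_ne_zero hlam0 hσlam0) haa))
        have hrGA := Ra_le_GA hf t hr
        have hra : (r : Matrix (Fin n) (Fin n) F) *ᵥ a = a := by
          rw [hadef]
          exact hrGA.2.2 0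
        have hry : (r : Matrix (Fin n) (Fin n) F) *ᵥ y = v₁ := by
          have : y = (y - lam • a) + lam • a := by abel
          rw [this, Matrix.mulVec_add, Matrix.mulVec_smul, hrb, hra]
          abel
        have h1 := XS_conj M (hRaM hr) hrGA.1 hyX
        rw [hry] at h1
        have h2 := XS_smul hf M (f v a / f y a) h1
        rw [hv₁def, smul_smul] at h2
        have e : f v a / f y a * (f y a / f v a) = 1 := by field_simp
        rw [e, one_smul] at h2
        exact h2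
    apply ih (fun i : Fin m => t i.succ) hOF.tail (by omega) (fun i => htW i.succ) hX'
    intro h0
    obtain ⟨a', ha'def⟩ : ∃ a' : Fin n → F, a' = t (⟨0, h0⟩ : Fin m).succ := ⟨_, rfl⟩
    have ha'a' : f a' a' ≠ 0 := by
      rw [ha'def]
      exact hOF.ne _
    have ha'W : a' ∈ W := by
      rw [ha'def]
      exact htW _
    have haa' : f a a' = 0 := by
      rw [ha'def]
      exact has _
    have ha'a : f a' a = 0 := f_swap_zero hf haa'
    obtain ⟨b, hbW, hbb⟩ := hnorm (-(f a a)) (by rw [map_neg, hσaa]) (neg_ne_zero.2 haa)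
    have hba : f b a = 0 := hbW a haW
    have hab : f a b = 0 := f_swap_zero hf hba
    have hba' : f b a' = 0 := hbW a' ha'W
    have hy''X : a + b ∈ XS f σ M := by
      apply hX'
      · rw [hf.add_left, f_add_right hf, f_add_right hf, hab, hba, hbb]
        ring
      · intro i
        show f (a + b) (t i.succ) = 0
        rw [hf.add_left, has i, hbW _ (htW i.succ), add_zero]
    have hfix : σ (-(f a a) / f a' a') = -(f a a) / f a' a' := by
      rw [map_div₀, map_neg, f_self_fixed hf, f_self_fixed hf]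
    obtain ⟨μ, hμ⟩ := norm_surj hf _ hfix
    have hμ0 : μ ≠ 0 := by
      rintro rfl
      rw [zero_mul] at hμ
      have : -(f a a) / f a' a' ≠ 0 := div_ne_zero (neg_ne_zero.2 haa) ha'a'
      exact this hμ.symm
    have hzz : f (a + μ • a') (a + μ • a') = 0 := by
      rw [hf.add_left, f_add_right hf, f_add_right hf, hf.smul_left, hf.smul_left,
        f_smul_right hf, f_smul_right hf, haa', ha'a]
      have : μ * (σ μ * f a' a') = -(f a a) := by
        rw [← mul_assoc, hμ]
        field_simp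
      rw [this]
      ring
    have hzW : a + μ • a' ∈ W := W.add_mem haW (W.smul_mem _ ha'W)
    obtain ⟨c, hc0, hc⟩ := exists_K0 hf
    have hσc0 : σ c ≠ 0 := by
      rw [hc]
      exact neg_ne_zero.2 hc0
    have hy' := XS_tv hf M hy''X (hXW _ hzW hzz) hc
    have e1 : f (a + b) (c • (a + μ • a')) = σ c * f a a := by
      rw [f_smul_right hf, hf.add_left, f_add_right hf, f_add_right hf, f_smul_right hf,
        f_smul_right hf, haa', hba, hba']
      ring
    rw [e1] at hy'
    refine ⟨_, hy', ?_, ?_⟩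
    · show f (a + b + (σ c * f a a) • (a + μ • a')) (t (⟨0, h0⟩ : Fin m).succ) ≠ 0
      rw [← ha'def, hf.add_left, hf.add_left, hf.smul_left, hf.add_left, hf.smul_left, haa', hba']
      have : (0 : F) + 0 + σ c * f a a * (0 + μ * f a' a') = σ c * f a a * (μ * f a' a') := by ring
      rw [this]
      exact mul_ne_zero (mul_ne_zero hσc0 haa) (mul_ne_zero hμ0 ha'a')
    · intro i hi
      show f (a + b + (σ c * f a a) • (a + μ • a')) (t i.succ) = 0
      have h1 : f a' (t i.succ) = 0 := by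
        rw [ha'def]
        exact hOF.orth _ _ (fun h' => hi (Fin.succ_injective _ h').symm)
      rw [hf.add_left, hf.add_left, hf.smul_left, hf.add_left, hf.smul_left, has i,
        hbW _ (htW i.succ), h1]
      ring

theorem nd_max [Finite F] (hf : Cfsg.Geo.IsUnitaryForm σ f) (hn : 13 ≤ n)
    (W : Submodule F (Fin n → F)) (hW0 : W ≠ ⊥) (hW : Cfsg.Geo.IsNondegenerateOn f W)
    (hdim : 2 * Module.finrank F W < n)
    (G : Subgroup (Matrix.GeneralLinearGroup (Fin n) F))
    (hG : ∀ g : Matrix.GeneralLinearGroup (Fin n) F, g ∈ G ↔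
      (∀ x y, f ((g : Matrix (Fin n) (Fin n) F) *ᵥ x) ((g : Matrix (Fin n) (Fin n) F) *ᵥ y) = f x y) ∧
        g ∈ Cfsg.Geo.specialLinear (Fin n) F) :
    Cfsg.Geo.IsMaximalIn G (Cfsg.Geo.subspaceStabilizer W ⊓ G) := by
  have hNd : NdOn f W := fun w hw hw0 => (hW w hw hw0).1
  obtain ⟨d, t, hOF, htW, hspan⟩ := orth_basis hf _ W le_rfl hNd
  have hnd := hOF.nd hf
  have hspanW : Submodule.span F (Set.range t) = W := by
    apply le_antisymm
    · rw [Submodule.span_le]
      rintro _ ⟨i, rfl⟩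
      exact htW i
    · exact hspan
  have hd : d = Module.finrank F W := by
    rw [← hspanW, finrank_span_eq_card hnd.li, Fintype.card_fin]
  have hperp : ∀ v, Perp f t v ↔ ∀ w ∈ W, f v w = 0 := by
    intro v
    constructor
    · intro hv w hw
      exact perp_span hf t v hv w (hspan w hw)
    · intro h i
      exact h _ (htW i)
  have hnorm : ∀ N : F, σ N = N → N ≠ 0 → ∃ b, (∀ w ∈ W, f b w = 0) ∧ f b b = N := by
    intro N hN _
    obtain ⟨s, hs, hss⟩ := exists_noniso_perp hf t hnd (by omega)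
    obtain ⟨c, hc⟩ := norm_surj hf (N / f s s) (by rw [map_div₀, hN, f_self_fixed hf])
    refine ⟨c • s, fun w hw => ?_, ?_⟩
    · rw [hf.smul_left, (hperp s).1 hs w hw, mul_zero]
    · rw [hf.smul_left, f_smul_right hf, ← mul_assoc, hc]
      field_simp
  have htvU : ∀ y : Fin n → F, f y y = 0 → (∀ w ∈ W, f y w = 0) → ∀ c : F, σ c = -c →
      ∀ t' : Matrix.GeneralLinearGroup (Fin n) F,
      (∀ x, (t' : Matrix (Fin n) (Fin n) F) *ᵥ x = x + f x (c • y) • y) →
      t' ∈ Cfsg.Geo.subspaceStabilizer W ⊓ G := by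
    intro y hy hyW c hc t' ht'
    refine ⟨stab_of_maps W t' (fun x hx => ?_), UT_mem_G hf G hG hy hc ht'⟩
    rw [ht', f_smul_right hf, f_swap_zero hf (hyW x hx), mul_zero, zero_smul, add_zero]
    exact hx
  have htvW : ∀ y : Fin n → F, y ∈ W → f y y = 0 → ∀ c : F, σ c = -c →
      ∀ t' : Matrix.GeneralLinearGroup (Fin n) F,
      (∀ x, (t' : Matrix (Fin n) (Fin n) F) *ᵥ x = x + f x (c • y) • y) →
      t' ∈ Cfsg.Geo.subspaceStabilizer W ⊓ G := by
    intro y hyW hy c hc t' ht'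
    refine ⟨stab_of_maps W t' (fun x hx => ?_), UT_mem_G hf G hG hy hc ht'⟩
    rw [ht']
    exact W.add_mem hx (W.smul_mem _ hyW)
  constructor
  · refine lt_of_le_of_ne inf_le_right ?_
    intro heq
    obtain ⟨a, haW, haa⟩ := exists_noniso_of_ndOn hf W hNd hW0
    obtain ⟨b, hbW, hbb⟩ := hnorm (-(f a a)) (by rw [map_neg, f_self_fixed hf])
      (neg_ne_zero.2 haa)
    have hba : f b a = 0 := hbW a haW
    have hab : f a b = 0 := f_swap_zero hf hba
    have hzz : f (a + b) (a + b) = 0 := by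
      rw [hf.add_left, f_add_right hf, f_add_right hf, hab, hba, hbb]
      ring
    obtain ⟨c, hc0, hc⟩ := exists_K0 hf
    obtain ⟨τ, _, hτ⟩ := Cfsg.Agent.S5643.tvGL hf (a + b) (c • (a + b)) (by
      rw [f_smul_right hf, hzz, mul_zero])
    have hτG : τ ∈ G := UT_mem_G hf G hG hzz hc hτ
    have hτS : τ ∈ Cfsg.Geo.subspaceStabilizer W := by
      rw [← heq] at hτG
      exact hτG.1
    have h1 := ((mem_stab_iff W τ).1 hτS a).1 haW
    rw [hτ] at h1
    have h2 : f a (c • (a + b)) • (a + b) ∈ W := by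
      have := W.sub_mem h1 haW
      simpa using this
    have h3 : f a (c • (a + b)) ≠ 0 := by
      rw [f_smul_right hf, f_add_right hf, hab, add_zero, hc]
      exact mul_ne_zero (neg_ne_zero.2 hc0) haa
    have h4 : a + b ∈ W := by
      have := W.smul_mem (f a (c • (a + b)))⁻¹ h2
      rwa [smul_smul, inv_mul_cancel₀ h3, one_smul] at this
    have h5 : b ∈ W := by
      have := W.sub_mem h4 haW
      simpa using this
    have h6 := hbW b h5
    rw [hbb] at h6
    exact haa (neg_eq_zero.1 h6)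
  · intro M hHM hMG
    by_cases hMH : M = Cfsg.Geo.subspaceStabilizer W ⊓ G
    · left
      exact hMH
    right
    apply le_antisymm hMG
    have hMiso : ∀ g ∈ M, ∀ x y, f ((g : Matrix (Fin n) (Fin n) F) *ᵥ x)
        ((g : Matrix (Fin n) (Fin n) F) *ᵥ y) = f x y := fun g hg => ((hG g).1 (hMG hg)).1
    obtain ⟨h, hhM, hh⟩ : ∃ h ∈ M, h ∉ Cfsg.Geo.subspaceStabilizer W := by
      by_contra hcon
      push Not at hcon
      exact hMH (le_antisymm (fun x hx => ⟨hcon x hx, hMG hx⟩) hHM)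
    rw [mem_stab_iff] at hh
    push Not at hh
    obtain ⟨v, hv⟩ := hh
    obtain ⟨k, hkM, w₀, hw₀, hkw₀⟩ : ∃ k ∈ M, ∃ w ∈ W,
        (k : Matrix (Fin n) (Fin n) F) *ᵥ w ∉ W := by
      rcases hv with ⟨h1, h2⟩ | ⟨h1, h2⟩
      · exact ⟨h, hhM, v, h1, h2⟩
      · refine ⟨h⁻¹, M.inv_mem hhM, (h : Matrix (Fin n) (Fin n) F) *ᵥ v, h2, ?_⟩
        rw [Cfsg.Agent.S5643.inv_mv]
        exact h1
    obtain ⟨u, huW, hu⟩ := dperp hf W _ hkw₀
    have hut : Perp f t u := (hperp u).2 (fun w hw => f_swap_zero hf (huW w hw))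
    have hkiM : k⁻¹ ∈ M := M.inv_mem hkM
    have hku : ¬ Perp f t (((k⁻¹ : Matrix.GeneralLinearGroup (Fin n) F) :
        Matrix (Fin n) (Fin n) F) *ᵥ u) := by
      intro hp
      have h1 := (hperp _).1 hp w₀ hw₀
      rw [← hMiso k hkM, Cfsg.Agent.S5643.inv_mv'] at h1
      exact hu (f_swap_zero hf h1)
    obtain ⟨y, hyy, hyt, hky1, hky2⟩ := mixed hf t hnd (by omega) (by omega) k⁻¹ u hut hku
    have hXU : ∀ v, f v v = 0 → Perp f t v → v ∈ XS f σ M := fun v hv hp =>
      ⟨hv, fun c hc t' ht' => hHM (htvU v hv ((hperp v).1 hp) c hc t' ht')⟩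
    have hXW : ∀ v ∈ W, f v v = 0 → v ∈ XS f σ M := fun v hvW hv =>
      ⟨hv, fun c hc t' ht' => hHM (htvW v hvW hv c hc t' ht')⟩
    have hy₀X := XS_conj M hkiM (hMiso _ hkiM) (hXU y hyy hyt)
    obtain ⟨y₀, hy₀def⟩ : ∃ y₀ : Fin n → F, y₀ = ((k⁻¹ : Matrix.GeneralLinearGroup (Fin n) F) :
        Matrix (Fin n) (Fin n) F) *ᵥ y := ⟨_, rfl⟩
    rw [← hy₀def] at hy₀X hky1 hky2
    obtain ⟨a₀, ha₀, hb₀⟩ := hOF.proj hf y₀
    have ha₀0 : a₀ ≠ 0 := by
      rintro rfl
      rw [sub_zero] at hb₀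
      exact hky1 hb₀
    have hb₀0 : y₀ - a₀ ≠ 0 := by
      intro h
      rw [sub_eq_zero.1 h] at hky2
      exact hky2 ha₀
    obtain ⟨a, b, ha, hb, haa, habX⟩ := to_typeA hf t hnd (by omega) M hXU
      (fun v hv hvv => hXW v (hspanW ▸ hv) hvv) a₀ (y₀ - a₀) ha₀ ha₀0 hb₀ hb₀0 (by
        have : a₀ + (y₀ - a₀) = y₀ := by abel
        rw [this]
        exact hy₀X)
    have haW : a ∈ W := hspanW ▸ ha
    have hbW : ∀ w ∈ W, f b w = 0 := (hperp b).1 hb
    obtain ⟨d', t', hOF', ht'W, hspan'⟩ := orth_basis_with hf W hNd a haW haa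
    have hnd' := hOF'.nd hf
    have hallW : ∀ i, (Fin.cons a t' : Fin (d' + 1) → (Fin n → F)) i ∈ W := by
      intro i
      refine Fin.cases ?_ (fun i' => ?_) i
      · simpa using haW
      · simpa using ht'W i'
    have hd' : d' + 1 ≤ Module.finrank F W := by
      have h1 : Submodule.span F (Set.range (Fin.cons a t' : Fin (d' + 1) → (Fin n → F))) ≤ W := by
        rw [Submodule.span_le]
        rintro _ ⟨i, rfl⟩
        exact hallW i
      have h2 := Submodule.finrank_mono h1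
      rw [finrank_span_eq_card hnd'.li, Fintype.card_fin] at h2
      exact h2
    apply XS_gen hf (Or.inr (by omega)) M G hG
    apply grow hf M W hXW hnorm (d' + 1) (Fin.cons a t') hOF' (by omega) hallW
    · intro v hvv hvp
      apply hXU v hvv
      rw [hperp]
      intro w hw
      exact perp_span hf _ v hvp w (hspan' w hw)
    · intro h0
      refine ⟨a + b, habX, ?_, ?_⟩
      · show f (a + b) ((Fin.cons a t' : Fin (d' + 1) → (Fin n → F)) 0) ≠ 0
        rw [Fin.cons_zero, hf.add_left, hbW a haW, add_zero]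
        exact haa
      · intro i
        refine Fin.cases ?_ (fun i' => ?_) i
        · intro h
          exact absurd rfl h
        · intro _
          rw [Fin.cons_succ, hf.add_left, hbW _ (ht'W i'), add_zero]
          have := hOF'.orth 0 i'.succ (Fin.succ_ne_zero i').symm
          simpa using this

end Cfsg.Agent.Lib.Helper28.UNd
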