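import Cfsg.Agent.Lib.Helper28.OTens
import Cfsg.Agent.Lib.Helper28.UMax
import Cfsg.Agent.Lib.Helper28.UHerm

set_option autoImplicit false

open Cfsg

namespace Cfsg.Agent.Lib.Helper28.OTensU

open Matrix Kronecker Cfsg.Agent.Lib.Helper28.UForm Cfsg.Agent.Lib.Helper28.UGen
  Cfsg.Agent.Lib.Helper28.OTens

variable {F : Type*} [Field F] {σ : F ≃+* F}

theorem f_sum_right {n : ℕ} {f : (Fin n → F) → (Fin n → F) → F}
    (hf : Cfsg.Geo.IsUnitaryForm σ f) {J : Type*} (s : Finset J)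
    (g : J → (Fin n → F)) (v : Fin n → F) : f v (∑ i ∈ s, g i) = ∑ i ∈ s, f v (g i) := by
  classical
  induction s using Finset.induction_on with
  | empty => simp [f_zero_right hf]
  | insert a s ha ih => rw [Finset.sum_insert ha, Finset.sum_insert ha, f_add_right hf, ih]

theorem u_gram {n : ℕ} {f : (Fin n → F) → (Fin n → F) → F}
    (hf : Cfsg.Geo.IsUnitaryForm σ f) (x y : Fin n → F) :
    f x y = ∑ a, ∑ b, x a * Cfsg.Geo.gramMatrix f a b * σ (y b) := by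
  conv_lhs => rw [pi_eq_sum_univ' x, pi_eq_sum_univ' y]
  rw [f_sum_left hf]
  apply Finset.sum_congr rfl
  intro a _
  rw [hf.smul_left, f_sum_right hf, Finset.mul_sum]
  apply Finset.sum_congr rfl
  intro b _
  rw [f_smul_right hf]
  unfold Cfsg.Geo.gramMatrix
  ring

variable {n₁ n₂ : ℕ}

theorem pt_form_s (s : F → F) (hs : ∀ a b, s (a * b) = s a * s b)
    (G₁ : Matrix (Fin n₁) (Fin n₁) F) (G₂ : Matrix (Fin n₂) (Fin n₂) F)
    (α α' : Fin n₁ → F) (v v' : Fin n₂ → F) :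
    Cfsg.Geo.formOfGram s (G₁ ⊗ₖ G₂) (pt α v) (pt α' v') =
      (∑ a, ∑ a', α a * G₁ a a' * s (α' a')) * (∑ b, ∑ b', v b * G₂ b b' * s (v' b')) := by
  unfold Cfsg.Geo.formOfGram pt
  rw [Fintype.sum_prod_type, Finset.sum_mul]
  apply Finset.sum_congr rfl
  intro a _
  simp only [Fintype.sum_prod_type, Matrix.kroneckerMap_apply, hs]
  rw [Finset.sum_comm, Finset.sum_mul]
  apply Finset.sum_congr rfl
  intro a' _
  rw [Finset.mul_sum]
  apply Finset.sum_congr rfl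
  intro b _
  rw [Finset.mul_sum]
  apply Finset.sum_congr rfl
  intro b' _
  ring

theorem tform_u {n : ℕ} {f : (Fin n → F) → (Fin n → F) → F}
    {f₁ : (Fin n₁ → F) → (Fin n₁ → F) → F} {f₂ : (Fin n₂ → F) → (Fin n₂ → F) → F}
    (e : Fin n ≃ Fin n₁ × Fin n₂) (P : Matrix.GeneralLinearGroup (Fin n) F)
    (hf₁ : Cfsg.Geo.IsUnitaryForm σ f₁) (hf₂ : Cfsg.Geo.IsUnitaryForm σ f₂) {q : ℕ}
    (hσ : ∀ x, σ x = x ^ q) {c : F}
    (hT : ∀ x y : Fin n₁ × Fin n₂ → F,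
      f ((P : Matrix (Fin n) (Fin n) F) *ᵥ (x ∘ e)) ((P : Matrix (Fin n) (Fin n) F) *ᵥ (y ∘ e)) =
        c * Cfsg.Geo.formOfGram (fun x : F => x ^ q)
          (Cfsg.Geo.gramMatrix f₁ ⊗ₖ Cfsg.Geo.gramMatrix f₂) x y)
    (α α' : Fin n₁ → F) (v v' : Fin n₂ → F) :
    f (tau e P α v) (tau e P α' v') = c * (f₁ α α' * f₂ v v') := by
  unfold tau
  rw [hT, pt_form_s _ (fun a b => mul_pow a b q), u_gram hf₁, u_gram hf₂]
  simp only [hσ]

theorem sim_of_tf {ι : Type} [Fintype ι] [DecidableEq ι] {f : (ι → F) → (ι → F) → F}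
    {f₁ : (Fin n₁ → F) → (Fin n₁ → F) → F}
    {f₂ : (Fin n₂ → F) → (Fin n₂ → F) → F}
    (e : ι ≃ Fin n₁ × Fin n₂) (P : Matrix.GeneralLinearGroup ι F) {c : F} (hc : c ≠ 0)
    (tf : ∀ α α' v v', f (tau e P α v) (tau e P α' v') = c * (f₁ α α' * f₂ v v'))
    (hnd₁ : ∃ α α', f₁ α α' ≠ 0) (hnd₂ : ∃ v v', f₂ v v' ≠ 0)
    (g : Matrix.GeneralLinearGroup ι F)
    (a : Matrix (Fin n₁) (Fin n₁) F) (b : Matrix (Fin n₂) (Fin n₂) F)
    (hact : ∀ α v, (g : Matrix ι ι F) *ᵥ tau e P α v = tau e P (a *ᵥ α) (b *ᵥ v))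
    (hiso : ∀ x y, f ((g : Matrix ι ι F) *ᵥ x) ((g : Matrix ι ι F) *ᵥ y) = f x y) :
    ∃ l : F, l ≠ 0 ∧ ∀ α α', f₁ (a *ᵥ α) (a *ᵥ α') = l * f₁ α α' := by
  have key : ∀ α α' v v', f₁ (a *ᵥ α) (a *ᵥ α') * f₂ (b *ᵥ v) (b *ᵥ v') =
      f₁ α α' * f₂ v v' := by
    intro α α' v v'
    have h1 := hiso (tau e P α v) (tau e P α' v')
    rw [hact, hact, tf, tf] at h1
    exact mul_left_cancel₀ hc h1
  obtain ⟨α₀, α₀', hα⟩ := hnd₁
  obtain ⟨v₀, v₀', hv⟩ := hnd₂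
  have h0 := key α₀ α₀' v₀ v₀'
  have hμ : f₂ (b *ᵥ v₀) (b *ᵥ v₀') ≠ 0 := by
    intro h
    rw [h, mul_zero] at h0
    exact mul_ne_zero hα hv h0.symm
  refine ⟨f₂ v₀ v₀' / f₂ (b *ᵥ v₀) (b *ᵥ v₀'), div_ne_zero hv hμ, fun α α' => ?_⟩
  have h1 := key α α' v₀ v₀'
  field_simp
  linear_combination h1


theorem two_eq_zero4 [Fintype F] (hc4 : Fintype.card F = 4) : (2 : F) = 0 := by
  have h := FiniteField.cast_card_eq_zero F
  rw [hc4] at h
  have h4 : (2 : F) * 2 = 0 := by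
    have : ((4 : ℕ) : F) = 2 * 2 := by norm_num
    rw [← this]
    exact h
  rcases mul_eq_zero.1 h4 with h' | h' <;> exact h'

theorem cube4 [Fintype F] (hc4 : Fintype.card F = 4) {a : F} (ha : a ≠ 0) : a ^ 3 = 1 := by
  have := FiniteField.pow_card_sub_one_eq_one a ha
  rw [hc4] at this
  exact this

theorem frame2u [Fintype F] (hc4 : Fintype.card F = 4) {f₁ : (Fin 2 → F) → (Fin 2 → F) → F}
    (hf₁ : Cfsg.Geo.IsUnitaryForm σ f₁) (hσ : ∀ x, σ x = x ^ 2) :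
    ∃ X : Fin 2 → (Fin 2 → F), (∀ i, f₁ (X i) (X i) = 1) ∧ f₁ (X 0) (X 1) = 0 ∧
      f₁ (X 1) (X 0) = 0 ∧ ∀ v, f₁ v v ≠ 0 → ∃ i, ∃ α : F, v = α • X i := by
  have h2 := two_eq_zero4 hc4
  obtain ⟨x, -, hxx⟩ := exists_noniso_perp hf₁ (e0 : Fin 0 → (Fin 2 → F)) nd_e0 (by omega)
  have nd1 := nd_cons1 hf₁ e0 nd_e0 x (perp_e0 x) hxx
  obtain ⟨y, hyc, hyy⟩ := exists_noniso_perp hf₁ _ nd1 (by omega)
  have nd2 := nd_cons1 hf₁ _ nd1 y hyc hyy
  rw [perp_cons] at hyc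
  have hyx : f₁ y x = 0 := hyc.1
  have hxy : f₁ x y = 0 := f_swap_zero hf₁ hyx
  have hone : ∀ v, f₁ v v ≠ 0 → f₁ v v = 1 := by
    intro v hv
    have h1 := f_self_fixed hf₁ v
    rw [hσ] at h1
    have : f₁ v v * (f₁ v v - 1) = 0 := by linear_combination h1
    rcases mul_eq_zero.1 this with h | h
    · exact absurd h hv
    · exact sub_eq_zero.1 h
  have hx1 := hone x hxx
  have hy1 := hone y hyy
  have hcoord : ∀ v, v = f₁ v x • x + f₁ v y • y := by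
    intro v
    have hp : Perp f₁ (Fin.cons y (Fin.cons x e0) : Fin (0 + 1 + 1) → (Fin 2 → F))
        (v - (f₁ v x • x + f₁ v y • y)) := by
      rw [perp_cons, perp_cons]
      refine ⟨?_, ?_, perp_e0 _⟩
      · rw [f_sub_left hf₁, hf₁.add_left, hf₁.smul_left, hf₁.smul_left, hxy, hy1]
        ring
      · rw [f_sub_left hf₁, hf₁.add_left, hf₁.smul_left, hf₁.smul_left, hyx, hx1]
        ring
    have h1 := finrank_ker_eq hf₁ _ nd2.li
    have h3 : Module.finrank F (LinearMap.ker (perpMap hf₁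
        (Fin.cons y (Fin.cons x e0) : Fin (0 + 1 + 1) → (Fin 2 → F)))) = 0 := by omega
    have h4 := Submodule.finrank_eq_zero.1 h3
    have h5 : v - (f₁ v x • x + f₁ v y • y) ∈ LinearMap.ker (perpMap hf₁
        (Fin.cons y (Fin.cons x e0) : Fin (0 + 1 + 1) → (Fin 2 → F))) := by
      rw [mem_ker_perpMap]
      exact hp
    rw [h4, Submodule.mem_bot] at h5
    exact sub_eq_zero.1 h5
  refine ⟨![x, y], ?_, hxy, hyx, ?_⟩
  · intro i
    fin_cases i
    · exact hx1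
    · exact hy1
  · intro v hv
    obtain ⟨α, hα⟩ : ∃ α, α = f₁ v x := ⟨_, rfl⟩
    obtain ⟨β, hβ⟩ : ∃ β, β = f₁ v y := ⟨_, rfl⟩
    have hco := hcoord v
    rw [← hα, ← hβ] at hco
    have hvv : f₁ v v = α ^ 3 + β ^ 3 := by
      conv_lhs => rw [hco]
      rw [hf₁.add_left, f_add_right hf₁, f_add_right hf₁, hf₁.smul_left, hf₁.smul_left,
        f_smul_right hf₁, f_smul_right hf₁, hf₁.smul_left, hf₁.smul_left,
        f_smul_right hf₁, f_smul_right hf₁, hxy, hyx, hx1, hy1, hσ, hσ]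
      ring
    by_cases hα0 : α = 0
    · refine ⟨1, β, ?_⟩
      rw [hco, hα0, zero_smul, zero_add]
      rfl
    · by_cases hβ0 : β = 0
      · refine ⟨0, α, ?_⟩
        rw [hco, hβ0, zero_smul, add_zero]
        rfl
      · exfalso
        apply hv
        rw [hvv, cube4 hc4 hα0, cube4 hc4 hβ0]
        linear_combination h2

theorem tens_stab_u {ι : Type} [Fintype ι] [DecidableEq ι] {f : (ι → F) → (ι → F) → F}
    {f₁ : (Fin 2 → F) → (Fin 2 → F) → F} {f₂ : (Fin n₂ → F) → (Fin n₂ → F) → F}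
    (e : ι ≃ Fin 2 × Fin n₂) (P : Matrix.GeneralLinearGroup ι F) {c : F} (hc : c ≠ 0)
    (tf : ∀ α α' v v', f (tau e P α v) (tau e P α' v') = c * (f₁ α α' * f₂ v v'))
    (hnd₂ : ∃ v v', f₂ v v' ≠ 0) (hf₁ : Cfsg.Geo.IsUnitaryForm σ f₁)
    (X : Fin 2 → (Fin 2 → F)) (hXX : ∀ i, f₁ (X i) (X i) = 1) (hX01 : f₁ (X 0) (X 1) = 0)
    (hXP : ∀ v, f₁ v v ≠ 0 → ∃ i, ∃ α : F, v = α • X i)
    (g : Matrix.GeneralLinearGroup ι F) (hg : g ∈ Cfsg.Geo.tensorProductSubgroup 2 n₂ e P)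
    (hiso : ∀ x y, f ((g : Matrix ι ι F) *ᵥ x) ((g : Matrix ι ι F) *ᵥ y) = f x y) :
    g ∈ Cfsg.Geo.decompositionStabilizer (fun i => blk e P (X i)) := by
  obtain ⟨a, b, hact⟩ := tens_act e P g hg
  obtain ⟨l, hl, hsim⟩ := sim_of_tf e P hc tf
    ⟨X 0, X 0, by rw [hXX]; exact one_ne_zero⟩ hnd₂ g _ _ hact hiso
  have haX : ∀ i, ∃ j, ∃ α : F, (a : Matrix (Fin 2) (Fin 2) F) *ᵥ X i = α • X j := fun i =>
    hXP _ (by rw [hsim, hXX, mul_one]; exact hl)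
  choose σ₀ κ hκ using haX
  have hκ0 : ∀ i, κ i ≠ 0 := by
    intro i h
    have h1 := hsim (X i) (X i)
    rw [hκ i, h, zero_smul, f_zero_left hf₁, hXX, mul_one] at h1
    exact hl h1.symm
  have h01 : σ₀ 0 ≠ σ₀ 1 := by
    intro h
    have h1 := hsim (X 0) (X 1)
    rw [hX01, mul_zero, hκ 0, hκ 1, h, hf₁.smul_left, f_smul_right hf₁, hXX, mul_one] at h1
    rcases mul_eq_zero.1 h1 with h' | h'
    · exact hκ0 0 h'
    · exact hκ0 1 ((map_eq_zero σ).1 h')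
  have hinj : Function.Injective σ₀ := by
    intro i i' hii
    by_contra hne
    fin_cases i <;> fin_cases i'
    · exact hne rfl
    · exact h01 hii
    · exact h01 hii.symm
    · exact hne rfl
  refine ⟨Equiv.ofBijective σ₀ (Finite.injective_iff_bijective.1 hinj), fun i => ?_⟩
  show (blk e P (X i)).map (Matrix.toLin' (g : Matrix ι ι F)) = blk e P (X (σ₀ i))
  ext w
  constructor
  · rintro ⟨w₀, ⟨v, rfl⟩, rfl⟩
    rw [Matrix.toLin'_apply]
    show (g : Matrix ι ι F) *ᵥ tau e P (X i) v ∈ _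
    rw [hact, hκ i, tau_smul_left, ← tau_smul_right]
    exact (mem_blk e P _ _).2 ⟨_, rfl⟩
  · rintro ⟨v', rfl⟩
    show tau e P (X (σ₀ i)) v' ∈ _
    have hbb : ∀ v, (b : Matrix (Fin n₂) (Fin n₂) F) *ᵥ
        (((b⁻¹ : Matrix.GeneralLinearGroup (Fin n₂) F) : Matrix (Fin n₂) (Fin n₂) F) *ᵥ v) = v :=
      fun v => Cfsg.Agent.Lib.Helper28.DecGen.gl_cancel' b v
    refine ⟨tau e P (X i) (((b⁻¹ : Matrix.GeneralLinearGroup (Fin n₂) F) :
      Matrix (Fin n₂) (Fin n₂) F) *ᵥ ((κ i)⁻¹ • v')), (mem_blk e P _ _).2 ⟨_, rfl⟩, ?_⟩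
    rw [Matrix.toLin'_apply, hact, hκ i, hbb, tau_smul_left, tau_smul_right, smul_smul,
      mul_inv_cancel₀ (hκ0 i), one_smul]


theorem tens2_su [Fintype F] (n : ℕ) (hF : Fintype.card F = 4) (hn : 13 ≤ n) (n₂ : ℕ)
    (e : Fin n ≃ Fin 2 × Fin n₂) (P : Matrix.GeneralLinearGroup (Fin n) F)
    (f₁ : (Fin 2 → F) → (Fin 2 → F) → F) (f₂ : (Fin n₂ → F) → (Fin n₂ → F) → F)
    (hf₁ : Cfsg.Geo.IsUnitaryFormPow 2 f₁) (hf₂ : Cfsg.Geo.IsUnitaryFormPow 2 f₂)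
    (hT : Cfsg.Geo.IsTensorFormStructure (fun x : F => x ^ 2) (Cfsg.hermForm n F 2) f₁ f₂ e P) :
    ∃ K : Subgroup (Matrix.GeneralLinearGroup (Fin n) F),
      Cfsg.Geo.tensorProductSubgroup 2 n₂ e P ⊓
        (Cfsg.GU n F 2 ⊓ Cfsg.Geo.specialLinear (Fin n) F) < K ∧
      K < (Cfsg.GU n F 2 ⊓ Cfsg.Geo.specialLinear (Fin n) F) := by
  classical
  have hF' : Fintype.card F = 2 ^ 2 := by rw [hF]; norm_num
  obtain ⟨σ, hσ, hf⟩ := Cfsg.Agent.Lib.Helper28.UHerm.herm_unitary hF' n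
  have hU₁ : Cfsg.Geo.IsUnitaryForm σ f₁ :=
    ⟨hf.ne_refl, hf.involutive, hf₁.add_left, hf₁.smul_left,
      fun v w => by rw [hσ]; exact hf₁.herm v w, hf₁.nondegenerate⟩
  have hU₂ : Cfsg.Geo.IsUnitaryForm σ f₂ :=
    ⟨hf.ne_refl, hf.involutive, hf₂.add_left, hf₂.smul_left,
      fun v w => by rw [hσ]; exact hf₂.herm v w, hf₂.nondegenerate⟩
  have h2 := two_eq_zero4 hF
  have hσ1 : σ 1 = -1 := by
    rw [map_one]
    linear_combination h2
  have hcard : n = 2 * n₂ := by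
    have := Fintype.card_congr e
    simpa using this
  obtain ⟨c, hc, hT'⟩ := hT
  have tf : ∀ α α' v v', Cfsg.hermForm n F 2 (tau e P α v) (tau e P α' v') =
      c * (f₁ α α' * f₂ v v') := fun α α' v v' => tform_u e P hU₁ hU₂ hσ hT' α α' v v'
  obtain ⟨X, hXX, hX01, hX10, hXP⟩ := frame2u hF hU₁ hσ
  have hX0 : ∀ i, X i ≠ 0 := by
    intro i h
    have := hXX i
    rw [h, f_zero_left hU₁] at this
    exact zero_ne_one this
  have hXo : ∀ i j, i ≠ j → f₁ (X i) (X j) = 0 := by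
    intro i j hij
    fin_cases i <;> fin_cases j
    · exact absurd rfl hij
    · exact hX01
    · exact hX10
    · exact absurd rfl hij
  obtain ⟨D, hD⟩ : ∃ D : Fin 2 → Submodule F (Fin n → F), D = fun i => blk e P (X i) :=
    ⟨_, rfl⟩
  have hDmem : ∀ i w, w ∈ D i ↔ ∃ v, tau e P (X i) v = w := by
    intro i w
    rw [hD]
    exact mem_blk e P _ _
  have hfr : ∀ i, Module.finrank F (D i) = n₂ := by
    intro i
    rw [hD]
    exact blk_finrank e P (hX0 i)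
  have horth : ∀ i j, i ≠ j → ∀ x ∈ D i, ∀ y ∈ D j, Cfsg.hermForm n F 2 x y = 0 := by
    intro i j hij x hx y hy
    obtain ⟨v, rfl⟩ := (hDmem i x).1 hx
    obtain ⟨v', rfl⟩ := (hDmem j y).1 hy
    rw [tf, hXo i j hij]
    ring
  have htau0 : ∀ α : Fin 2 → F, tau e P α (0 : Fin n₂ → F) = 0 := by
    intro α
    have := tau_smul_right e P 0 α 0
    rw [zero_smul, zero_smul] at this
    exact this
  have hnd : ∀ i, ∀ w ∈ D i, w ≠ 0 → ∃ x ∈ D i, Cfsg.hermForm n F 2 x w ≠ 0 := by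
    intro i w hw hw0
    obtain ⟨v, rfl⟩ := (hDmem i w).1 hw
    have hv0 : v ≠ 0 := by
      rintro rfl
      exact hw0 (htau0 (X i))
    obtain ⟨⟨x, hx⟩, -⟩ := hf₂.nondegenerate v hv0
    refine ⟨tau e P (X i) x, (hDmem i _).2 ⟨_, rfl⟩, ?_⟩
    rw [tf, hXX, one_mul]
    exact mul_ne_zero hc hx
  have hdisj : ∀ i j, i ≠ j → ∀ w, w ∈ D i → w ∈ D j → w = 0 := by
    intro i j hij w hwi hwj
    by_contra hw0
    obtain ⟨x, hx, hxw⟩ := hnd i w hwi hw0
    exact hxw (horth i j hij x hx w hwj)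
  obtain ⟨G, hGdef⟩ : ∃ G : Subgroup (Matrix.GeneralLinearGroup (Fin n) F),
      G = Cfsg.GU n F 2 ⊓ Cfsg.Geo.specialLinear (Fin n) F := ⟨_, rfl⟩
  have hG : ∀ g : Matrix.GeneralLinearGroup (Fin n) F, g ∈ G ↔
      (∀ x y, Cfsg.hermForm n F 2 ((g : Matrix (Fin n) (Fin n) F) *ᵥ x)
        ((g : Matrix (Fin n) (Fin n) F) *ᵥ y) = Cfsg.hermForm n F 2 x y) ∧
        g ∈ Cfsg.Geo.specialLinear (Fin n) F := by
    intro g
    rw [hGdef, Subgroup.mem_inf]
    exact Iff.rfl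
  rw [← hGdef]
  have hv₁0 : (Pi.single (⟨0, by omega⟩ : Fin n₂) (1 : F) : Fin n₂ → F) ≠ 0 := by
    intro h
    have := congrFun h ⟨0, by omega⟩
    simp at this
  obtain ⟨z, hzz, hz1⟩ := exists_iso hU₂
    (fun _ : Fin 1 => (Pi.single (⟨0, by omega⟩ : Fin n₂) (1 : F) : Fin n₂ → F))
    (linearIndependent_unique_iff.2 hv₁0) (fun _ => 1) (by omega)
  have hz0 : z ≠ 0 := by
    rintro rfl
    have := hz1 0
    rw [f_zero_left hU₂] at this
    exact zero_ne_one this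
  obtain ⟨⟨z', hz'⟩, -⟩ := hf₂.nondegenerate z hz0
  have hnd₂ : ∃ v v', f₂ v v' ≠ 0 := ⟨z', z, hz'⟩
  obtain ⟨a, ha⟩ : ∃ a, a = tau e P (X 0) z := ⟨_, rfl⟩
  obtain ⟨b, hb⟩ : ∃ b, b = tau e P (X 1) z := ⟨_, rfl⟩
  obtain ⟨a', ha'⟩ : ∃ a', a' = tau e P (X 0) z' := ⟨_, rfl⟩
  have haD : a ∈ D 0 := (hDmem 0 a).2 ⟨z, ha.symm⟩
  have hbD : b ∈ D 1 := (hDmem 1 b).2 ⟨z, hb.symm⟩
  have ha'D : a' ∈ D 0 := (hDmem 0 a').2 ⟨z', ha'.symm⟩
  have haa : Cfsg.hermForm n F 2 a a = 0 := by rw [ha, tf, hzz]; ring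
  have hbb : Cfsg.hermForm n F 2 b b = 0 := by rw [hb, tf, hzz]; ring
  have hab : Cfsg.hermForm n F 2 a b = 0 := horth 0 1 (by decide) a haD b hbD
  have hba : Cfsg.hermForm n F 2 b a = 0 := horth 1 0 (by decide) b hbD a haD
  have ha'a : Cfsg.hermForm n F 2 a' a ≠ 0 := by
    rw [ha', ha, tf, hXX, one_mul]
    exact mul_ne_zero hc hz'
  have ha'b : Cfsg.hermForm n F 2 a' b = 0 := horth 0 1 (by decide) a' ha'D b hbD
  have ha0 : a ≠ 0 := by
    intro h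
    apply hz0
    apply tau_inj e P (hX0 0)
    rw [← ha, h, htau0]
  have hb0 : b ≠ 0 := by
    intro h
    apply hz0
    apply tau_inj e P (hX0 1)
    rw [← hb, h, htau0]
  refine ⟨Cfsg.Geo.decompositionStabilizer D ⊓ G, ?_, ?_⟩
  · refine lt_of_le_of_ne ?_ ?_
    · rintro g ⟨hgT, hgG⟩
      refine ⟨?_, hgG⟩
      rw [hD]
      exact tens_stab_u e P hc tf hnd₂ hU₁ X hXX hX01 hXP g hgT ((hG g).1 hgG).1
    · intro heq
      obtain ⟨r, -, hr⟩ := Cfsg.Agent.S5643.tvGL hf a ((1 : F) • a) (by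
        rw [f_smul_right hf, haa, mul_zero])
      have hrG : r ∈ G := Cfsg.Agent.Lib.Helper28.UMax.UT_mem_G hf G hG haa hσ1 hr
      have hrx : ∀ x, (r : Matrix (Fin n) (Fin n) F) *ᵥ x = x + Cfsg.hermForm n F 2 x a • a := by
        intro x
        rw [hr x, f_smul_right hf, map_one, one_mul]
      have hrK : r ∈ Cfsg.Geo.decompositionStabilizer D ⊓ G := by
        refine ⟨Cfsg.Agent.Lib.Helper28.DecGen.stab_of_maps D hfr r 1 ?_, hrG⟩
        intro i x hx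
        rw [hrx, Equiv.Perm.one_apply]
        by_cases hi : i = 0
        · subst hi
          exact (D 0).add_mem hx ((D 0).smul_mem _ haD)
        · rw [horth i 0 hi x hx a haD, zero_smul, add_zero]
          exact hx
      rw [← heq] at hrK
      obtain ⟨μ, hμ⟩ := tens_scalar e P r hrK.1 (X 0) (X 1) (hX0 0) (hX0 1)
        (by
          intro w hw
          have hw' : w ∈ D 1 := by
            rw [hD]
            exact hw
          rw [hrx, horth 1 0 (by decide) w hw' a haD, zero_smul, add_zero])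
        a' (by rw [hD] at ha'D; exact ha'D)
        (by
          rw [hrx]
          have := (D 0).add_mem ha'D ((D 0).smul_mem (Cfsg.hermForm n F 2 a' a) haD)
          rw [hD] at this
          exact this)
      rw [hrx] at hμ
      have h1 : Cfsg.hermForm n F 2 (a' + Cfsg.hermForm n F 2 a' a • a) a =
          Cfsg.hermForm n F 2 (μ • a') a := by rw [hμ]
      rw [hf.add_left, hf.smul_left, hf.smul_left, haa, mul_zero, add_zero] at h1
      have hμ1 : μ = 1 := by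
        have : (μ - 1) * Cfsg.hermForm n F 2 a' a = 0 := by linear_combination -h1
        rcases mul_eq_zero.1 this with h | h
        · exact sub_eq_zero.1 h
        · exact absurd h ha'a
      rw [hμ1, one_smul] at hμ
      have h3 : Cfsg.hermForm n F 2 a' a • a = 0 := by
        have := congrArg (fun z => z - a') hμ
        simpa using this
      rcases smul_eq_zero.1 h3 with h | h
      · exact ha'a h
      · exact ha0 h
  · refine lt_of_le_of_ne inf_le_right ?_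
    intro heq
    have hww : Cfsg.hermForm n F 2 (a + b) (a + b) = 0 := by
      rw [hf.add_left, f_add_right hf, f_add_right hf, haa, hab, hba, hbb]
      ring
    obtain ⟨t, -, ht⟩ := Cfsg.Agent.S5643.tvGL hf (a + b) ((1 : F) • (a + b)) (by
      rw [f_smul_right hf, hww, mul_zero])
    have htG : t ∈ G := Cfsg.Agent.Lib.Helper28.UMax.UT_mem_G hf G hG hww hσ1 ht
    rw [← heq] at htG
    obtain ⟨⟨τ, hτ⟩, -⟩ := htG
    have h1 : (t : Matrix (Fin n) (Fin n) F) *ᵥ a' ∈ D (τ 0) := by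
      rw [← hτ 0]
      exact ⟨a', ha'D, by rw [Matrix.toLin'_apply]⟩
    rw [ht a', f_smul_right hf, map_one, one_mul, f_add_right hf, ha'b, add_zero, smul_add,
      ← add_assoc] at h1
    obtain ⟨p, hp⟩ : ∃ p, p = a' + Cfsg.hermForm n F 2 a' a • a := ⟨_, rfl⟩
    obtain ⟨q, hq⟩ : ∃ q, q = Cfsg.hermForm n F 2 a' a • b := ⟨_, rfl⟩
    rw [← hp, ← hq] at h1
    have hpD : p ∈ D 0 := by
      rw [hp]
      exact (D 0).add_mem ha'D ((D 0).smul_mem _ haD)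
    have hqD : q ∈ D 1 := by
      rw [hq]
      exact (D 1).smul_mem _ hbD
    have hq0 : q ≠ 0 := by
      rw [hq]
      exact smul_ne_zero ha'a hb0
    have hpa : Cfsg.hermForm n F 2 p a ≠ 0 := by
      rw [hp, hf.add_left, hf.smul_left, haa, mul_zero, add_zero]
      exact ha'a
    have hp0 : p ≠ 0 := by
      rintro rfl
      exact hpa (f_zero_left hf a)
    have hcases : τ 0 = 0 ∨ τ 0 = 1 := by
      rcases τ 0 with ⟨k, hk⟩
      interval_cases k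
      · exact Or.inl rfl
      · exact Or.inr rfl
    rcases hcases with h | h
    · rw [h] at h1
      have hq' : q ∈ D 0 := by
        have := (D 0).sub_mem h1 hpD
        rwa [add_sub_cancel_left] at this
      exact hq0 (hdisj 0 1 (by decide) q hq' hqD)
    · rw [h] at h1
      have hp' : p ∈ D 1 := by
        have := (D 1).sub_mem h1 hqD
        rwa [add_sub_cancel_right] at this
      exact hp0 (hdisj 0 1 (by decide) p hpD hp')

end Cfsg.Agent.Lib.Helper28.OTensU
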