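import Mathlib
import Cfsg.Agent.Lib.helper7.SAP.Defs

/-!
# Project SAP, rows PERM1 (`ah_conj_zh ah_pow ah_pow_conj_zh`) and PERM2 (`bh_conj_ah bh_conj_zh`) (helper28).
-/

set_option autoImplicit false

namespace Cfsg.Agent.Lib.helper7.SAP

open Equiv

universe u

/-- own copy of ALT1 `c3_conj`. -/
theorem sapperm1_c3_conj {α : Type*} [DecidableEq α] (σ : Perm α) (y s t : α) :
    σ * c3 y s t * σ⁻¹ = c3 (σ y) (σ s) (σ t) := by
  unfold c3
  rw [Equiv.swap_apply_apply, Equiv.swap_apply_apply]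
  group

/-- own copy of ALT1 `c3_inv`. -/
theorem sapperm1_c3_inv {α : Type*} [DecidableEq α] (y s t : α) (hys : y ≠ s) (hyt : y ≠ t) (hst : s ≠ t) :
    (c3 y s t)⁻¹ = c3 y t s := by
  unfold c3
  rw [mul_inv_rev, Equiv.swap_inv, Equiv.swap_inv]
  ext w
  simp only [Perm.coe_mul, Function.comp_apply, Equiv.swap_apply_def]
  split_ifs <;> simp_all

section perm
variable (p k l : ℕ)

/-- the action of the powers of `ah` -/
theorem sapperm1_ah_pow_apply [NeZero p] (i : ℕ) :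
    (∀ x : ZMod p, ((ah p k) ^ i) (po x) = po (x + (i : ZMod p))) ∧
      ((ah p k) ^ i) ps1 = ps1 ∧ ((ah p k) ^ i) ps2 = ps2 ∧ ∀ j : Fin k, ((ah p k) ^ i) (pe j) = pe j := by
  induction i with
  | zero =>
    refine ⟨fun x => ?_, rfl, rfl, fun j => rfl⟩
    simp
  | succ i ih =>
    obtain ⟨h1, h2, h3, h4⟩ := ih
    refine ⟨fun x => ?_, ?_, ?_, fun j => ?_⟩
    · rw [pow_succ', Perm.mul_apply, h1]
      show po (x + (i : ZMod p) + 1) = _
      congr 1
      push_cast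
      ring
    · rw [pow_succ', Perm.mul_apply, h2]; rfl
    · rw [pow_succ', Perm.mul_apply, h3]; rfl
    · rw [pow_succ', Perm.mul_apply, h4]; rfl

/-- PERM1 [S-M] -/
theorem ah_conj_zh [NeZero p] (y : Ix p k) :
    ah p k * zh y * (ah p k)⁻¹ = zh (Sum.elim (fun x => Sum.inl (x + 1)) Sum.inr y : Ix p k) := by
  unfold zh
  rw [sapperm1_c3_conj]
  rcases y with x | j <;> rfl

theorem ah_pow [NeZero p] : (ah p k) ^ p = 1 := by
  obtain ⟨h1, h2, h3, h4⟩ := sapperm1_ah_pow_apply p k p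
  ext w
  rcases w with (x | i) | j
  · have := h1 x
    rw [ZMod.natCast_self, add_zero] at this
    exact this
  · fin_cases i
    · exact h2
    · exact h3
  · exact h4 j

theorem ah_pow_conj_zh [NeZero p] (i : ℕ) (x : ZMod p) :
    (ah p k) ^ i * zh (Sum.inl x) * ((ah p k) ^ i)⁻¹ = zh (Sum.inl (x + (i : ZMod p)) : Ix p k) := by
  obtain ⟨h1, h2, h3, -⟩ := sapperm1_ah_pow_apply p k i
  unfold zh
  rw [sapperm1_c3_conj, h2, h3]
  show c3 (((ah p k) ^ i) (po x)) ps1 ps2 = _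
  rw [h1]
  rfl

/-- PERM2 [S-M] -/
theorem bh_conj_ah [NeZero p] (r : (ZMod p)ˣ) :
    bh k r * ah p k * (bh k r)⁻¹ = (ah p k) ^ (r : ZMod p).val := by
  obtain ⟨h1, h2, h3, h4⟩ := sapperm1_ah_pow_apply p k (r : ZMod p).val
  rw [mul_inv_eq_iff_eq_mul]
  ext w
  rw [Perm.mul_apply, Perm.mul_apply]
  rcases w with (x | i) | j
  · have e1 : bh k r (Sum.inl (Sum.inl x)) = (po ((r : ZMod p) * x) : Pt p k) := rfl
    have e2 : ah p k (Sum.inl (Sum.inl x)) = (po (x + 1) : Pt p k) := rfl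
    have e3 : bh k r (po (x + 1)) = (po ((r : ZMod p) * (x + 1)) : Pt p k) := rfl
    rw [e1, e2, e3, h1, ZMod.natCast_zmod_val]
    congr 2
    ring
  · fin_cases i
    · have e1 : bh k r (Sum.inl (Sum.inr 0)) = (ps2 : Pt p k) := by
        simp [bh, ps2]
      have e2 : ah p k (Sum.inl (Sum.inr 0)) = (ps1 : Pt p k) := rfl
      show bh k r (ah p k (Sum.inl (Sum.inr 0))) = ((ah p k) ^ (r : ZMod p).val) (bh k r (Sum.inl (Sum.inr 0)))
      rw [e1, e2, h3]
      exact e1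
    · have e1 : bh k r (Sum.inl (Sum.inr 1)) = (ps1 : Pt p k) := by
        simp [bh, ps1]
      have e2 : ah p k (Sum.inl (Sum.inr 1)) = (ps2 : Pt p k) := rfl
      show bh k r (ah p k (Sum.inl (Sum.inr 1))) = ((ah p k) ^ (r : ZMod p).val) (bh k r (Sum.inl (Sum.inr 1)))
      rw [e1, e2, h2]
      exact e1
  · have e1 : bh k r (Sum.inr j) = (pe j : Pt p k) := rfl
    have e2 : ah p k (Sum.inr j) = (pe j : Pt p k) := rfl
    rw [e1, e2, h4]
    exact e1

theorem bh_conj_zh [NeZero p] (r : (ZMod p)ˣ) (x : ZMod p) :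
    bh k r * zh (Sum.inl x) * (bh k r)⁻¹ = (zh (Sum.inl ((r : ZMod p) * x) : Ix p k))⁻¹ := by
  unfold zh
  rw [sapperm1_c3_conj]
  have e1 : bh k r (pt (Sum.inl x : Ix p k)) = (pt (Sum.inl ((r : ZMod p) * x) : Ix p k) : Pt p k) := rfl
  have e2 : bh k r (ps1 : Pt p k) = ps2 := by simp [bh, ps1, ps2]
  have e3 : bh k r (ps2 : Pt p k) = ps1 := by simp [bh, ps1, ps2]
  rw [e1, e2, e3, sapperm1_c3_inv]
  · simp [pt, po, ps1]
  · simp [pt, po, ps2]
  · simp [ps1, ps2]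

end perm

end Cfsg.Agent.Lib.helper7.SAP
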