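import Mathlib
import Cfsg.Agent.Lib.helper17.SLP.Defs
import Cfsg.Agent.Lib.helper2.SLPM1

/-! # SLP rows M3, M4 (helper28, second write under own names): the rank-one relations in `SL₂(F)` and the
generation of `SL₂(F)` by `xM 1`, `hM ζ`, `wM`. -/

set_option autoImplicit false

namespace Cfsg.Agent.Lib.helper17.SLP

universe u

section M

variable {F : Type u} [Field F]

/-- spare of row M3 (first part). -/
theorem slpm3_h28_relK1_M : relK1 (xM (1 : F)) wM = 1 := by
  unfold relK1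
  apply Subtype.ext
  rw [Matrix.SpecialLinearGroup.coe_mul, Matrix.SpecialLinearGroup.coe_mul,
    Matrix.SpecialLinearGroup.coe_mul, Matrix.SpecialLinearGroup.coe_mul,
    Matrix.SpecialLinearGroup.coe_mul, Matrix.SpecialLinearGroup.coe_inv]
  ext i j
  fin_cases i <;> fin_cases j <;>
    simp [xM, wM, Matrix.mul_apply, Fin.sum_univ_two, Matrix.adjugate_fin_two]

/-- spare of row M3 (second part). -/
theorem slpm3_h28_relK2_M (s : Fˣ) : relK2 (xM (s : F)) (hM s) wM = 1 := by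
  unfold relK2
  apply Subtype.ext
  simp only [Matrix.SpecialLinearGroup.coe_mul, Matrix.SpecialLinearGroup.coe_inv]
  ext i j
  fin_cases i <;> fin_cases j <;>
    simp [xM, hM, wM, Matrix.mul_apply, Fin.sum_univ_two, Matrix.adjugate_fin_two]

theorem slpm4_h28_xneg (t : F) : xM (-t) = (xM t)⁻¹ := by
  apply eq_inv_of_mul_eq_one_left
  rw [xM_mul, neg_add_cancel, xM_zero]

/-- Bruhat, `c = 0`. -/
theorem slpm4_h28_bruhat0 (g : Matrix.SpecialLinearGroup (Fin 2) F) (hc : g.1 1 0 = 0) :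
    ∃ (s : Fˣ) (t : F), g = hM s * xM t := by
  have hdet : g.1 0 0 * g.1 1 1 - g.1 0 1 * g.1 1 0 = 1 := by
    have := g.2
    rwa [Matrix.det_fin_two] at this
  rw [hc, mul_zero, sub_zero] at hdet
  have ha : g.1 0 0 ≠ 0 := left_ne_zero_of_mul_eq_one hdet
  have hd : g.1 1 1 = (g.1 0 0)⁻¹ := eq_inv_of_mul_eq_one_right hdet
  refine ⟨Units.mk0 _ ha, g.1 0 1 / g.1 0 0, ?_⟩
  apply Subtype.ext
  rw [Matrix.SpecialLinearGroup.coe_mul]
  ext i j
  fin_cases i <;> fin_cases j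
  · simp [xM, hM, Matrix.mul_apply, Fin.sum_univ_two]
  · simp [xM, hM, Matrix.mul_apply, Fin.sum_univ_two]
    field_simp
  · simp [xM, hM, Matrix.mul_apply, Fin.sum_univ_two, hc]
  · simp [xM, hM, Matrix.mul_apply, Fin.sum_univ_two, hd]

/-- Bruhat, `c ≠ 0`. -/
theorem slpm4_h28_bruhat1 (g : Matrix.SpecialLinearGroup (Fin 2) F) (hc : g.1 1 0 ≠ 0) :
    ∃ (s : Fˣ) (t t' : F), g = xM t * (hM s * wM) * xM t' := by
  have hdet : g.1 0 0 * g.1 1 1 - g.1 0 1 * g.1 1 0 = 1 := by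
    have := g.2
    rwa [Matrix.det_fin_two] at this
  have hc' : -(g.1 1 0)⁻¹ ≠ 0 := neg_ne_zero.2 (inv_ne_zero hc)
  refine ⟨Units.mk0 _ hc', g.1 0 0 / g.1 1 0, g.1 1 1 / g.1 1 0, ?_⟩
  apply Subtype.ext
  simp only [Matrix.SpecialLinearGroup.coe_mul]
  ext i j
  fin_cases i <;> fin_cases j
  · simp [xM, hM, wM, Matrix.mul_apply, Fin.sum_univ_two]
    field_simp
  · simp [xM, hM, wM, Matrix.mul_apply, Fin.sum_univ_two]
    field_simp
    linear_combination (-1 : F) * hdet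
  · simp [xM, hM, wM, Matrix.mul_apply, Fin.sum_univ_two]
  · simp [xM, hM, wM, Matrix.mul_apply, Fin.sum_univ_two]
    field_simp

/-- spare of row M4. -/
theorem slpm4_h28_closure_M [Fintype F] (ζ : Fˣ) (hζ : ∀ y : Fˣ, y ∈ Subgroup.zpowers ζ) :
    Subgroup.closure {xM (1 : F), hM ζ, wM} = ⊤ := by
  set K := Subgroup.closure {xM (1 : F), hM ζ, wM} with hK
  have hx1 : xM (1 : F) ∈ K := Subgroup.subset_closure (by simp)
  have hh : hM ζ ∈ K := Subgroup.subset_closure (by simp)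
  have hw : (wM : Matrix.SpecialLinearGroup (Fin 2) F) ∈ K := Subgroup.subset_closure (by simp)
  have hhs : ∀ s : Fˣ, hM s ∈ K := by
    intro s
    obtain ⟨i, rfl⟩ := Subgroup.mem_zpowers_iff.1 (hζ s)
    rw [← slpm1_hM_zpow]
    exact K.zpow_mem hh i
  have hsq : ∀ s : F, xM (s ^ 2) ∈ K := by
    intro s
    by_cases hs : s = 0
    · subst hs
      rw [zero_pow two_ne_zero, xM_zero]
      exact K.one_mem
    · have := hM_conj (Units.mk0 s hs) (1 : F)
      rw [Units.val_mk0, mul_one] at this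
      rw [← this]
      exact K.mul_mem (K.mul_mem (hhs _) hx1) (K.inv_mem (hhs _))
  have hxt : ∀ t : F, xM t ∈ K := by
    intro t
    by_cases h2 : (2 : F) = 0
    · have hchar : ringChar F = 2 :=
        CharP.ringChar_of_prime_eq_zero Nat.prime_two (by exact_mod_cast h2)
      obtain ⟨s, hs⟩ := FiniteField.isSquare_of_char_two hchar t
      rw [hs, ← pow_two]
      exact hsq s
    · have e : t = ((t + 1) / 2) ^ 2 + -(((t - 1) / 2) ^ 2) := by
        field_simp
        ring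
      rw [e, ← xM_mul, slpm4_h28_xneg]
      exact K.mul_mem (hsq _) (K.inv_mem (hsq _))
  rw [eq_top_iff]
  intro g _
  by_cases hc : g.1 1 0 = 0
  · obtain ⟨s, t, rfl⟩ := slpm4_h28_bruhat0 g hc
    exact K.mul_mem (hhs s) (hxt t)
  · obtain ⟨s, t, t', rfl⟩ := slpm4_h28_bruhat1 g hc
    exact K.mul_mem (K.mul_mem (hxt t) (K.mul_mem (hhs s) hw)) (hxt t')

end M

end Cfsg.Agent.Lib.helper17.SLP
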