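import Mathlib
import Cfsg.Agent.Lib.helper17.SLP.Defs

/-! # SLP row X2 (helper28), core: the A-part in characteristic 2, from rows XQ and XR2 as hypotheses. -/

set_option autoImplicit false

namespace Cfsg.Agent.Lib.helper17.SLP

universe u

/-- Core of SLP X2: `hXQ` = the statement of row XQ at `p = 2`, `hXR2` = the statement of row XR2. -/
theorem slpx2_core {F : Type u} [Field F] [Fintype F] [CharP F 2]
    (ζ : Fˣ) (hζ : ∀ y : Fˣ, y ∈ Subgroup.zpowers ζ)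
    (hXQ : Fintype.card F < 2 ^ 3 →
      ∃ (A : List (FreeGroup (Fin 3))) (az : FreeGroup (Fin 3)), A.length ≤ 3 ∧
      (∀ r ∈ A, ev (xM (1 : F)) (hM ζ) wM r = 1) ∧ ev (xM (1 : F)) (hM ζ) wM az = xM (ζ : F) ∧
      ∀ (G : Type) [Group G] (u h w : G), (∀ r ∈ A, ev u h w r = 1) →
        ∃ x : F → G, (∀ s t, x (s + t) = x s * x t) ∧
          (∀ t, h * x t * h⁻¹ = x ((ζ : F) ^ 2 * t)) ∧ x 1 = u ∧ x (ζ : F) = ev u h w az)
    (hXR2 : 4 ≤ Fintype.card F →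
      ∃ (A : List (FreeGroup (Fin 3))), A.length ≤ 3 ∧
      (∀ r ∈ A, ev (xM (1 : F)) (hM ζ) wM r = 1) ∧
      ∀ (G : Type) [Group G] (u h w : G), (∀ r ∈ A, ev u h w r = 1) →
        ∃ x : F → G, (∀ s t, x (s + t) = x s * x t) ∧
          (∀ t, h * x t * h⁻¹ = x ((ζ : F) ^ 2 * t)) ∧ x 1 = u) :
    ∃ (A : List (FreeGroup (Fin 3))), A.length ≤ 3 ∧
      (∀ r ∈ A, ev (xM (1 : F)) (hM ζ) wM r = 1) ∧
      ∀ (G : Type) [Group G] (u h w : G), (∀ r ∈ A, ev u h w r = 1) →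
        ∃ x : F → G, (∀ s t, x (s + t) = x s * x t) ∧
          (∀ t, h * x t * h⁻¹ = x ((ζ : F) ^ 2 * t)) ∧ x 1 = u := by
  have _ := hζ
  by_cases hq : Fintype.card F < 2 ^ 3
  · obtain ⟨A, az, hlen, hrel, _, habs⟩ := hXQ hq
    refine ⟨A, hlen, hrel, ?_⟩
    intro G _ u h w hr
    obtain ⟨x, hadd, hconj, hx1, _⟩ := habs G u h w hr
    exact ⟨x, hadd, hconj, hx1⟩
  · push Not at hq
    exact hXR2 (by omega)

end Cfsg.Agent.Lib.helper17.SLP
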