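import Mathlib
import Cfsg.Agent.Lib.helper17.SLP.Defs
import Cfsg.Agent.Lib.helper17.SLPP2
import Cfsg.Agent.Lib.Helper20.SLPF1
import Cfsg.Agent.Lib.Helper20.SLPF5

/-! # SLP row XQ (helper28), core: the A-part, scheme Q (`|F| < p³`), from the statements of rows B4, M1, M2
(rows F1, F5, P2 are cited from main). -/

set_option autoImplicit false

namespace Cfsg.Agent.Lib.helper17.SLP

open Polynomial

universe u v

/-- XQ with the statements of B4, M1 (`xM_mul xM_zero xM_pow cj_M`), M2 as hypotheses. -/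
theorem slpxq_core {F : Type u} [Field F] [Fintype F] (p : ℕ) [Fact p.Prime] [CharP F p]
    (hq : Fintype.card F < p ^ 3) (ζ : Fˣ) (hζ : ∀ y : Fˣ, y ∈ Subgroup.zpowers ζ)
    (hB4 : ∀ [Algebra (ZMod p) F] (G : Type) [Group G] (u h : G) (lam : F),
      Function.Surjective (fun f : (ZMod p)[X] => aeval lam f) →
      (minpoly (ZMod p) lam).natDegree ≤ 2 →
      u ^ p = 1 → Commute u (cj h u 1) → pw p h u 1 (minpoly (ZMod p) lam) = 1 →
      ∃ x : F → G, (∀ s t, x (s + t) = x s * x t) ∧ (∀ t, h * x t * h⁻¹ = x (lam * t)) ∧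
        x 1 = u ∧ ∀ f : (ZMod p)[X], x (aeval lam f) = pw p h u 1 f)
    (hxM_mul : ∀ s t : F, xM s * xM t = xM (s + t))
    (hxM_zero : xM (0 : F) = 1)
    (hxM_pow : ∀ (t : F) (n : ℕ), xM t ^ n = xM ((n : F) * t))
    (hcj_M : ∀ (s : Fˣ) (t : F) (i : ℤ), cj (hM s) (xM t) i = xM (((s : F) ^ 2) ^ i * t))
    (hpw_M : ∀ [Algebra (ZMod p) F] (s : Fˣ) (l : ℤ) (f : (ZMod p)[X]),
      pw p (hM s) (xM (1 : F)) l f = xM (aeval (((s : F) ^ 2) ^ l) f)) :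
    ∃ (A : List (FreeGroup (Fin 3))) (az : FreeGroup (Fin 3)), A.length ≤ 3 ∧
      (∀ r ∈ A, ev (xM (1 : F)) (hM ζ) wM r = 1) ∧ ev (xM (1 : F)) (hM ζ) wM az = xM (ζ : F) ∧
      ∀ (G : Type) [Group G] (u h w : G), (∀ r ∈ A, ev u h w r = 1) →
        ∃ x : F → G, (∀ s t, x (s + t) = x s * x t) ∧
          (∀ t, h * x t * h⁻¹ = x ((ζ : F) ^ 2 * t)) ∧ x 1 = u ∧ x (ζ : F) = ev u h w az := by
  letI : Algebra (ZMod p) F := ZMod.algebra F p
  set lam : F := (ζ : F) ^ 2 with hlam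
  have hsurj : Function.Surjective (fun f : (ZMod p)[X] => aeval lam f) :=
    aeval_sq_surjective p ζ hζ
  obtain ⟨fz, hfz⟩ := hsurj (ζ : F)
  have hfz' : aeval lam fz = (ζ : F) := hfz
  have hp0 : ((p : ℕ) : F) = 0 := CharP.cast_eq_zero F p
  refine ⟨wordsQ p (minpoly (ZMod p) lam), pw p gH gU 1 fz, by simp [wordsQ], ?_, ?_, ?_⟩
  · rw [ev_wordsQ]
    refine ⟨?_, ?_, ?_⟩
    · rw [hxM_pow, hp0, zero_mul, hxM_zero]
    · rw [cm_eq_one_iff, hcj_M]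
      unfold Commute SemiconjBy
      rw [hxM_mul, hxM_mul, add_comm]
    · rw [hpw_M, zpow_one, ← hlam, minpoly.aeval, hxM_zero]
  · rw [map_pw, ev_gH, ev_gU, hpw_M, zpow_one, ← hlam, hfz']
  · intro G _ u h w hrel
    rw [ev_wordsQ] at hrel
    obtain ⟨a1, a2, a3⟩ := hrel
    rw [cm_eq_one_iff] at a2
    obtain ⟨x, hadd, hconj, hx1, hxf⟩ := hB4 G u h lam hsurj
      (natDegree_minpoly_le_two p hq lam) a1 a2 a3
    refine ⟨x, hadd, hconj, hx1, ?_⟩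
    rw [map_pw, ev_gH, ev_gU, ← hxf fz, hfz']

end Cfsg.Agent.Lib.helper17.SLP
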