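import Mathlib
import Cfsg.Agent.Lib.helper17.SLP.Defs
import Cfsg.Agent.Lib.Helper28.SLPXQcore
import Cfsg.Agent.Lib.Helper9.SLPB4core
import Cfsg.Agent.Lib.helper8.SLPB2h8
import Cfsg.Agent.Lib.helper2.SLPM1
import Cfsg.Agent.Lib.helper2.SLPM2

/-! # SLP row XQ (helper28): the A-part, scheme Q (`|F| < p³`).  Row B4 enters through its landed core
(`slpb4_core`) and the landed second write of row B2 (`slpb2_h8_exists_x_of_commute`). -/

set_option autoImplicit false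

namespace Cfsg.Agent.Lib.helper17.SLP

open Polynomial

universe u v

/-- XQ [M]  deps B4 F1 F5 M1 M2 P2. -/
theorem ascheme_Q {F : Type u} [Field F] [Fintype F] (p : ℕ) [Fact p.Prime] [CharP F p]
    (hq : Fintype.card F < p ^ 3) (ζ : Fˣ) (hζ : ∀ y : Fˣ, y ∈ Subgroup.zpowers ζ) :
    ∃ (A : List (FreeGroup (Fin 3))) (az : FreeGroup (Fin 3)), A.length ≤ 3 ∧
      (∀ r ∈ A, ev (xM (1 : F)) (hM ζ) wM r = 1) ∧ ev (xM (1 : F)) (hM ζ) wM az = xM (ζ : F) ∧
      ∀ (G : Type) [Group G] (u h w : G), (∀ r ∈ A, ev u h w r = 1) →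
        ∃ x : F → G, (∀ s t, x (s + t) = x s * x t) ∧
          (∀ t, h * x t * h⁻¹ = x ((ζ : F) ^ 2 * t)) ∧ x 1 = u ∧ x (ζ : F) = ev u h w az := by
  exact slpxq_core p hq ζ hζ
    (fun G _ u h lam hsurj hdeg a1 a2 a3 => slpb4_core p u h lam
      (fun hcomm => slpb2_h8_exists_x_of_commute p h u lam hsurj a1 hcomm a3) hdeg a1 a2 a3)
    xM_mul xM_zero xM_pow cj_M (fun s l f => pw_M p s l f)

end Cfsg.Agent.Lib.helper17.SLP
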