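import Mathlib
import Cfsg.Agent.Lib.helper17.SLP.Defs
import Cfsg.Agent.Lib.Helper28.SLPX2core
import Cfsg.Agent.Lib.Helper28.SLPXQ
import Cfsg.Agent.Lib.Helper12.SLPXR2core
import Cfsg.Agent.Lib.helper15.SLPB6
import Cfsg.Agent.Lib.helper8.SLPF3
import Cfsg.Agent.Lib.Helper20.SLPF1
import Cfsg.Agent.Lib.helper2.SLPM1
import Cfsg.Agent.Lib.helper2.SLPM2

/-! # SLP row X2 (helper28): the A-part in characteristic 2.  Row XR2 enters through its landed core
(`slpxr2_core`) and the landed rows B6 F1 F3 M1 M2. -/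

set_option autoImplicit false

namespace Cfsg.Agent.Lib.helper17.SLP

open Polynomial

universe u v

/-- X2 [S]  deps XQ XR2. -/
theorem ascheme_two {F : Type u} [Field F] [Fintype F] [CharP F 2]
    (ζ : Fˣ) (hζ : ∀ y : Fˣ, y ∈ Subgroup.zpowers ζ) :
    ∃ (A : List (FreeGroup (Fin 3))), A.length ≤ 3 ∧
      (∀ r ∈ A, ev (xM (1 : F)) (hM ζ) wM r = 1) ∧
      ∀ (G : Type) [Group G] (u h w : G), (∀ r ∈ A, ev u h w r = 1) →
        ∃ x : F → G, (∀ s t, x (s + t) = x s * x t) ∧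
          (∀ t, h * x t * h⁻¹ = x ((ζ : F) ^ 2 * t)) ∧ x 1 = u := by
  exact slpx2_core ζ hζ (fun hq => ascheme_Q 2 hq ζ hζ)
    (fun hq => slpxr2_core ζ
      (fun G _ u h k lam hlam hk hsurj a1 a3 a4 => exists_x_R2 u h k lam hlam hk hsurj a1 a3 a4)
      (aeval_sq_surjective 2 ζ hζ) (exists_k_two hq ζ hζ)
      xM_mul xM_zero xM_pow cj_M (fun s l f => pw_M 2 s l f))

end Cfsg.Agent.Lib.helper17.SLP
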