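import Mathlib
import Cfsg.Agent.Lib.Lead.SPM2.Defs

/-!
# Project SPM2 (designer lead), row K6b (helper28), verbatim vs `SPM2/Skel`: `exists_unit_i`
-/

set_option autoImplicit false

namespace Cfsg.Agent.Lib.Lead.SPM2

open Cfsg.Agent.Lib.helper15.St2 Cfsg.Agent.Lib.helper3.STC Cfsg.Agent.Lib.Lead.STD Cfsg.Agent.Lib.helper17.STM
  Cfsg.Agent.Lib.Lead.SPN Cfsg.Agent.Lib.Helper16
open Cfsg.Agent.Lib.Helper12.OMN (omatM oglM omatM_mul omatM_one omatM_injective oglM_coe oglM_injective)

universe u v w

section K

/-- K6b [S-M]  a fourth root of unity of the quadratic extension which is conjugated to its negative, when `|F| ≡ 3 mod 4`.  `Kq F A B` is a finite field (`kq_finite`, `Fintype.ofFinite`) with `|F|²` elements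
(`QuadraticAlgebra.equivProd`), `|F|² % 4 = 1`, so `-1` is a square in it (`FiniteField.isSquare_neg_one_iff`): `i * i = -1`.  `star` is a ring automorphism, so `(star i)² = -1 = i²` and `star i = i ∨ star i = -i`;
if `star i = i` then `i = algebraMap F _ t` (`kq_eq_algebraMap_of_star_eq`, `(2 : F) ≠ 0` as `|F|` is odd), so `t * t = -1` in `F` (`kq_algebraMap_injective`), against `FiniteField.isSquare_neg_one_iff` for `F`. -/
theorem exists_unit_i {F : Type u} [Field F] [Fintype F] (A B : F) [Fact (∀ r : F, r ^ 2 ≠ -B + A * r)] (hq : Fintype.card F % 4 = 3) :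
    ∃ i : Kq F A B, i * i = -1 ∧ star i = -i := by
  classical
  haveI : Fintype (Kq F A B) := Fintype.ofFinite _
  have hcard : Fintype.card (Kq F A B) = Fintype.card F * Fintype.card F := by
    rw [Fintype.card_congr (QuadraticAlgebra.equivProd (-B) A), Fintype.card_prod]
  have hsq : IsSquare (-1 : Kq F A B) := by
    rw [FiniteField.isSquare_neg_one_iff, hcard, Nat.mul_mod, hq]
    decide
  obtain ⟨i, hi⟩ := hsq
  have hnotF : ¬ IsSquare (-1 : F) := by
    rw [FiniteField.isSquare_neg_one_iff]
    exact fun h => h hq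
  have h2 : (2 : F) ≠ 0 := by
    intro h
    have hchar : ringChar F = 2 := by
      have hdvd : ringChar F ∣ 2 := by
        apply (ringChar.spec F 2).1
        exact_mod_cast h
      have hp : (ringChar F).Prime := CharP.char_is_prime F (ringChar F)
      exact (Nat.prime_dvd_prime_iff_eq hp Nat.prime_two).1 hdvd
    have heven := (FiniteField.even_card_iff_char_two (F := F)).1 hchar
    omega
  have hstar : star i * star i = i * i := by
    rw [← star_mul, ← hi, star_neg, star_one]
  rcases mul_self_eq_mul_self_iff.1 hstar with h | h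
  · exfalso
    obtain ⟨t, ht⟩ := kq_eq_algebraMap_of_star_eq h (Or.inl h2)
    apply hnotF
    refine ⟨t, ?_⟩
    apply kq_algebraMap_injective (F := F) (A := A) (B := B)
    rw [map_mul, ← ht, ← hi, map_neg, map_one]
  · exact ⟨i, hi.symm, h⟩

end K

end Cfsg.Agent.Lib.Lead.SPM2
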