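import Mathlib
import Cfsg.Agent.Lib.helper15.St2
import Cfsg.Agent.Lib.helper7.StA
import Cfsg.Agent.Lib.helper7.StC
import Cfsg.Agent.Lib.helper7.StE
import Cfsg.Agent.Lib.helper3.STC.Defs
import Cfsg.Agent.Lib.helper3.STC.Defs2
import Cfsg.Agent.Lib.helper3.STC.Defs3
import Cfsg.Agent.Lib.helper2.STCX1

/-!
# STC row F18, core: `InD_one`, `InD_mul`, `InD_all` with the statements of F10 (`lemA_all`) and F17 (`lemB`)
as hypotheses.  (helper28)
-/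

set_option autoImplicit false

namespace Cfsg.Agent.Lib.helper3.STC

open Cfsg.Agent.Lib.helper15.St2 Cfsg.Agent.Lib.helper7.St

namespace SysC

variable {K : Type*} [Field K] {ι : Type*} {G : Type*} [Group G] (S : SysC K ι G)

section F
variable (o : ι ⊕ ι)

theorem stcf18_one : S.InD o 1 :=
  Or.inl ⟨1, one_mem _, 1, one_mem _, by group⟩

theorem stcf18_mul
    (hA : ∀ {a b : ι ⊕ ι}, a ≠ b → ∀ (t : K) {y p : G}, y ∈ S.Yg o → p ∈ S.Phat o →
      S.InD o (S.x a b t * (y * p)))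
    (hB : ∀ {k : ι ⊕ ι}, k ≠ o → ∀ {a b : ι ⊕ ι}, a ≠ b → ∀ (t : K) {y p : G}, y ∈ S.Yg o →
      p ∈ S.Phat o → S.InD o (S.x a b t * (S.w o k 1 * y * p)))
    {a b : ι ⊕ ι} (hab : a ≠ b) (t : K) {g : G} (hg : S.InD o g) :
    S.InD o (S.x a b t * g) := by
  rcases hg with ⟨y, hy, p, hp, rfl⟩ | ⟨k, hk, y, hy, p, hp, rfl⟩
  · exact hA hab t hy hp
  · exact hB hk hab t hy hp

theorem stcf18_all
    (hA : ∀ {a b : ι ⊕ ι}, a ≠ b → ∀ (t : K) {y p : G}, y ∈ S.Yg o → p ∈ S.Phat o →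
      S.InD o (S.x a b t * (y * p)))
    (hB : ∀ {k : ι ⊕ ι}, k ≠ o → ∀ {a b : ι ⊕ ι}, a ≠ b → ∀ (t : K) {y p : G}, y ∈ S.Yg o →
      p ∈ S.Phat o → S.InD o (S.x a b t * (S.w o k 1 * y * p)))
    (hgen : S.XQ (fun _ _ => True) = ⊤) (g : G) : S.InD o g := by
  have hg : g ∈ S.XQ (fun _ _ => True) := by rw [hgen]; exact Subgroup.mem_top g
  revert g
  refine closure_left_induction' (p := fun g => S.InD o g) (S.XQ_gens_inv _) (S.stcf18_one o) ?_
  rintro _ ⟨a, b, t, hab, -, rfl⟩ g hg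
  exact S.stcf18_mul o hA hB hab t hg

end F

end SysC

end Cfsg.Agent.Lib.helper3.STC
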