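import Mathlib
import Cfsg.Agent.Lib.helper15.St2
import Cfsg.Agent.Lib.helper7.StA
import Cfsg.Agent.Lib.helper7.StC
import Cfsg.Agent.Lib.helper7.StE
import Cfsg.Agent.Lib.helper3.STC.Defs
import Cfsg.Agent.Lib.helper3.STC.Defs2
import Cfsg.Agent.Lib.helper3.STC.Defs3
import Cfsg.Agent.Lib.Helper28.STCF18core
import Cfsg.Agent.Lib.Helper11.STCF9
import Cfsg.Agent.Lib.Helper13.STCF10core
import Cfsg.Agent.Lib.Helper9.STCF17core

/-!
# STC row F18 (verbatim): `InD_one`, `InD_mul`, `InD_all`.  (helper28)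
Express: uses the landed cores of F10 (`stcf10_core`) and F17 (`stcf17_core`) and the landed F9 (`lemA_long`).
-/

set_option autoImplicit false

namespace Cfsg.Agent.Lib.helper3.STC

open Cfsg.Agent.Lib.helper15.St2 Cfsg.Agent.Lib.helper7.St

namespace SysC

variable {K : Type*} [Field K] {ι : Type*} {G : Type*} [Group G] (S : SysC K ι G)

section F
variable [DecidableEq ι] (o : ι ⊕ ι)

/-- own-name copy of the statement of F10 `lemA_all` -/
theorem stcf18_lemA_all [Finite K] [Finite ι] (hW : S.HW) (hH : S.HH) {a b : ι ⊕ ι} (hab : a ≠ b) (t : K) {y p : G}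
    (hy : y ∈ S.Yg o) (hp : p ∈ S.Phat o) : S.InD o (S.x a b t * (y * p)) :=
  S.stcf10_core o hH (fun s _ _ hy hp => S.lemA_long o hW hH s hy hp) hab t hy hp

/-- own-name copy of the statement of F17 `lemB` -/
theorem stcf18_lemB [Finite K] [Finite ι] (hW : S.HW) (hH : S.HH) {k : ι ⊕ ι} (hk : k ≠ o) {a b : ι ⊕ ι} (hab : a ≠ b)
    (t : K) {y p : G} (hy : y ∈ S.Yg o) (hp : p ∈ S.Phat o) : S.InD o (S.x a b t * (S.w o k 1 * y * p)) :=
  S.stcf17_core o hW hH (fun hab t _ _ hy hp => S.stcf18_lemA_all o hW hH hab t hy hp) hk hab t hy hp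

/-- F18 [S]  model `Sys.InD_one`, `Sys.InD_mul`, `Sys.InD_all`. -/
theorem InD_one : S.InD o 1 :=
  S.stcf18_one o

theorem InD_mul [Finite K] [Finite ι] (hW : S.HW) (hH : S.HH) {a b : ι ⊕ ι} (hab : a ≠ b) (t : K) {g : G} (hg : S.InD o g) :
    S.InD o (S.x a b t * g) :=
  S.stcf18_mul o (fun hab t _ _ hy hp => S.stcf18_lemA_all o hW hH hab t hy hp)
    (fun hk _ _ hab t _ _ hy hp => S.stcf18_lemB o hW hH hk hab t hy hp) hab t hg

theorem InD_all [Finite K] [Finite ι] (hW : S.HW) (hH : S.HH) (hgen : S.XQ (fun _ _ => True) = ⊤) (g : G) : S.InD o g :=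
  S.stcf18_all o (fun hab t _ _ hy hp => S.stcf18_lemA_all o hW hH hab t hy hp)
    (fun hk _ _ hab t _ _ hy hp => S.stcf18_lemB o hW hH hk hab t hy hp) hgen g

end F

end SysC

end Cfsg.Agent.Lib.helper3.STC
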