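import Mathlib

set_option autoImplicit false

namespace Cfsg.Agent.Lib.Helper28.Iwa

theorem iwasawa_abs {G : Type*} [Group G] (H T : Subgroup G)
    (hmax : ∀ K : Subgroup G, H ≤ K → K = H ∨ K = ⊤)
    (hTcomm : ∀ a ∈ T, ∀ b ∈ T, a * b = b * a)
    (hnorm : ∀ h ∈ H, ∀ t ∈ T, h * t * h⁻¹ ∈ T)
    (hgen : Subgroup.closure {x | ∃ g : G, ∃ t ∈ T, x = g * t * g⁻¹} = ⊤)
    (hperf : commutator G = ⊤) (N : Subgroup G) (hN : N.Normal) (hNH : ¬ N ≤ H) : N = ⊤ := by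
  have hHN : H ⊔ N = ⊤ := by
    rcases hmax (H ⊔ N) le_sup_left with h | h
    · exfalso
      apply hNH
      rw [← h]
      exact le_sup_right
    · exact h
  have hTN : T ⊔ N = ⊤ := by
    rw [eq_top_iff, ← hgen, Subgroup.closure_le]
    rintro x ⟨g, t, ht, rfl⟩
    have hg : g ∈ H ⊔ N := by
      rw [hHN]
      trivial
    have := hN
    rw [← SetLike.mem_coe, Subgroup.mul_normal, Set.mem_mul] at hg
    obtain ⟨h, hh, m, hm, rfl⟩ := hg
    have h1 : m * t * m⁻¹ * t⁻¹ ∈ N := by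
      have h0 : t * m⁻¹ * t⁻¹ ∈ N := hN.conj_mem _ (N.inv_mem hm) t
      have h0' := N.mul_mem hm h0
      have e : m * t * m⁻¹ * t⁻¹ = m * (t * m⁻¹ * t⁻¹) := by group
      rw [e]
      exact h0'
    have h2 : h * (m * t * m⁻¹ * t⁻¹) * h⁻¹ ∈ N := hN.conj_mem _ h1 h
    have h3 : h * t * h⁻¹ ∈ T := hnorm h hh t ht
    have e : h * m * t * (h * m)⁻¹ = (h * (m * t * m⁻¹ * t⁻¹) * h⁻¹) * (h * t * h⁻¹) := by group
    change h * m * t * (h * m)⁻¹ ∈ T ⊔ N
    rw [e]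
    exact (T ⊔ N).mul_mem (Subgroup.mem_sup_right h2) (Subgroup.mem_sup_left h3)
  rw [eq_top_iff, ← hperf, commutator_def, Subgroup.commutator_le]
  intro a _ b _
  have ha : a ∈ T ⊔ N := by
    rw [hTN]
    trivial
  have hb : b ∈ T ⊔ N := by
    rw [hTN]
    trivial
  have := hN
  rw [← SetLike.mem_coe, Subgroup.mul_normal, Set.mem_mul] at ha hb
  obtain ⟨t₁, ht₁, n₁, hn₁, rfl⟩ := ha
  obtain ⟨t₂, ht₂, n₂, hn₂, rfl⟩ := hb
  rw [← QuotientGroup.eq_one_iff]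
  have e1 : ((n₁ : G) : G ⧸ N) = 1 := (QuotientGroup.eq_one_iff n₁).2 hn₁
  have e2 : ((n₂ : G) : G ⧸ N) = 1 := (QuotientGroup.eq_one_iff n₂).2 hn₂
  have e3 : ((t₁ * t₂ : G) : G ⧸ N) = ((t₂ * t₁ : G) : G ⧸ N) := by rw [hTcomm t₁ ht₁ t₂ ht₂]
  rw [commutatorElement_def]
  simp only [QuotientGroup.mk_mul, QuotientGroup.mk_inv, e1, e2, mul_one] at e3 ⊢
  rw [e3]
  group

theorem simple_of_iwasawa {G : Type*} [Group G] (H T : Subgroup G)
    (hmax : ∀ K : Subgroup G, H ≤ K → K = H ∨ K = ⊤)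
    (hTcomm : ∀ a ∈ T, ∀ b ∈ T, a * b = b * a)
    (hnorm : ∀ h ∈ H, ∀ t ∈ T, h * t * h⁻¹ ∈ T)
    (hgen : Subgroup.closure {x | ∃ g : G, ∃ t ∈ T, x = g * t * g⁻¹} = ⊤)
    (hperf : commutator G = ⊤)
    (hcore : ∀ N : Subgroup G, N.Normal → N ≤ H → N ≤ Subgroup.center G)
    (hnt : ∃ g : G, g ≠ 1) : IsSimpleGroup (G ⧸ Subgroup.center G) := by
  have hnontriv : Nontrivial (G ⧸ Subgroup.center G) := by
    by_contra hcon
    rw [not_nontrivial_iff_subsingleton] at hcon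
    have hZ : Subgroup.center G = ⊤ := by
      rw [eq_top_iff]
      intro g _
      rw [← QuotientGroup.eq_one_iff]
      exact Subsingleton.elim _ _
    have h1 : commutator G = ⊥ := (commutator_eq_bot_iff_center_eq_top G).2 hZ
    obtain ⟨g, hg⟩ := hnt
    apply hg
    have : g ∈ (⊤ : Subgroup G) := trivial
    rw [← hperf, h1, Subgroup.mem_bot] at this
    exact this
  refine { toNontrivial := hnontriv, eq_bot_or_eq_top_of_normal := ?_ }
  intro Nb hNb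
  have hNn : (Nb.comap (QuotientGroup.mk' (Subgroup.center G))).Normal := hNb.comap _
  by_cases hle : Nb.comap (QuotientGroup.mk' (Subgroup.center G)) ≤ H
  · left
    have hZ := hcore _ hNn hle
    rw [eq_bot_iff]
    intro x hx
    obtain ⟨g, rfl⟩ := QuotientGroup.mk_surjective x
    rw [Subgroup.mem_bot, QuotientGroup.eq_one_iff]
    exact hZ hx
  · right
    have htop := iwasawa_abs H T hmax hTcomm hnorm hgen hperf _ hNn hle
    rw [eq_top_iff]
    intro x _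
    obtain ⟨g, rfl⟩ := QuotientGroup.mk_surjective x
    have : g ∈ Nb.comap (QuotientGroup.mk' (Subgroup.center G)) := by
      rw [htop]
      trivial
    exact this

end Cfsg.Agent.Lib.Helper28.Iwa
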