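import Cfsg.Agent.Lib.Helper28.UMax
import Cfsg.Agent.Lib.Helper28.UGen2

set_option autoImplicit false

open Cfsg

namespace Cfsg.Agent.Lib.Helper28.UMax2

open Matrix Cfsg.Agent.Lib.Helper28.UForm Cfsg.Agent.Lib.Helper28.UGen
  Cfsg.Agent.Lib.Helper28.UMax

variable {n : ℕ} {F : Type*} [Field F] {σ : F ≃+* F} {f : (Fin n → F) → (Fin n → F) → F}

theorem XS_gen'
    (hgen : ∀ g : Matrix.GeneralLinearGroup (Fin n) F,
      (∀ x y, f ((g : Matrix (Fin n) (Fin n) F) *ᵥ x) ((g : Matrix (Fin n) (Fin n) F) *ᵥ y) = f x y) →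
      g ∈ Cfsg.Geo.specialLinear (Fin n) F → g ∈ Subgroup.closure (UT f σ))
    (M G : Subgroup (Matrix.GeneralLinearGroup (Fin n) F))
    (hG : ∀ g : Matrix.GeneralLinearGroup (Fin n) F, g ∈ G ↔
      (∀ x y, f ((g : Matrix (Fin n) (Fin n) F) *ᵥ x) ((g : Matrix (Fin n) (Fin n) F) *ᵥ y) = f x y) ∧
        g ∈ Cfsg.Geo.specialLinear (Fin n) F)
    (hall : ∀ y, f y y = 0 → y ∈ XS f σ M) : G ≤ M := by
  intro g hg
  have hgen' := hgen g ((hG g).1 hg).1 ((hG g).1 hg).2
  refine (Subgroup.closure_le M).2 ?_ hgen'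
  rintro t ⟨y, c, hy, hc, ht⟩
  exact (hall y hy).2 c hc t ht

theorem ts_max' (hf : Cfsg.Geo.IsUnitaryForm σ f)
    (hgen : ∀ g : Matrix.GeneralLinearGroup (Fin n) F,
      (∀ x y, f ((g : Matrix (Fin n) (Fin n) F) *ᵥ x) ((g : Matrix (Fin n) (Fin n) F) *ᵥ y) = f x y) →
      g ∈ Cfsg.Geo.specialLinear (Fin n) F → g ∈ Subgroup.closure (UT f σ))
    (W : Submodule F (Fin n → F)) (hW0 : W ≠ ⊥) (hW : Cfsg.Geo.IsTotallySingularFor f W)
    (G : Subgroup (Matrix.GeneralLinearGroup (Fin n) F))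
    (hG : ∀ g : Matrix.GeneralLinearGroup (Fin n) F, g ∈ G ↔
      (∀ x y, f ((g : Matrix (Fin n) (Fin n) F) *ᵥ x) ((g : Matrix (Fin n) (Fin n) F) *ᵥ y) = f x y) ∧
        g ∈ Cfsg.Geo.specialLinear (Fin n) F) :
    Cfsg.Geo.IsMaximalIn G (Cfsg.Geo.subspaceStabilizer W ⊓ G) := by
  have htvH : ∀ y : Fin n → F, f y y = 0 → (∀ w ∈ W, f w y = 0) → ∀ c : F, σ c = -c →
      ∀ t : Matrix.GeneralLinearGroup (Fin n) F,
      (∀ x, (t : Matrix (Fin n) (Fin n) F) *ᵥ x = x + f x (c • y) • y) →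
      t ∈ Cfsg.Geo.subspaceStabilizer W ⊓ G := by
    intro y hy hyW c hc t ht
    refine ⟨stab_of_maps W t (fun x hx => ?_), UT_mem_G hf G hG hy hc ht⟩
    rw [ht, f_smul_right hf, hyW x hx, mul_zero, zero_smul, add_zero]
    exact hx
  constructor
  · refine lt_of_le_of_ne inf_le_right ?_
    intro heq
    obtain ⟨w, hwW, hw0⟩ := Submodule.exists_mem_ne_zero_of_ne_bot hW0
    obtain ⟨x, hx⟩ := (hf.nondegenerate w hw0).1
    obtain ⟨β, hβ⟩ := iso_fix hf x w (hW w hwW w hwW) hx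
    obtain ⟨z, hzdef⟩ : ∃ z : Fin n → F, z = x + β • w := ⟨_, rfl⟩
    rw [← hzdef] at hβ
    have hzw : f z w ≠ 0 := by
      rw [hzdef, hf.add_left, hf.smul_left, hW w hwW w hwW, mul_zero, add_zero]
      exact hx
    obtain ⟨c, hc0, hc⟩ := exists_K0 hf
    obtain ⟨t, _, ht⟩ := Cfsg.Agent.S5643.tvGL hf z (c • z) (by
      rw [f_smul_right hf, hβ, mul_zero])
    have htG : t ∈ G := UT_mem_G hf G hG hβ hc ht
    have htS : t ∈ Cfsg.Geo.subspaceStabilizer W := by
      rw [← heq] at htG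
      exact htG.1
    have h1 := ((mem_stab_iff W t).1 htS w).1 hwW
    rw [ht] at h1
    have h2 : f w (c • z) • z ∈ W := by
      have := W.sub_mem h1 hwW
      simpa using this
    have h3 : f w (c • z) ≠ 0 := by
      rw [f_smul_right hf, hc]
      exact mul_ne_zero (neg_ne_zero.2 hc0) (f_swap_ne hf hzw)
    have h4 : z ∈ W := by
      have := W.smul_mem (f w (c • z))⁻¹ h2
      rwa [smul_smul, inv_mul_cancel₀ h3, one_smul] at this
    exact hzw (hW z h4 w hwW)
  · intro M hHM hMG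
    by_cases hMH : M = Cfsg.Geo.subspaceStabilizer W ⊓ G
    · left
      exact hMH
    right
    apply le_antisymm hMG
    have hMiso : ∀ m ∈ M, ∀ x y, f ((m : Matrix (Fin n) (Fin n) F) *ᵥ x)
        ((m : Matrix (Fin n) (Fin n) F) *ᵥ y) = f x y := fun m hm => ((hG m).1 (hMG hm)).1
    obtain ⟨h, hhM, hh⟩ : ∃ h ∈ M, h ∉ Cfsg.Geo.subspaceStabilizer W := by
      by_contra hcon
      push Not at hcon
      exact hMH (le_antisymm (fun x hx => ⟨hcon x hx, hMG hx⟩) hHM)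
    rw [mem_stab_iff] at hh
    push Not at hh
    obtain ⟨v, hv⟩ := hh
    obtain ⟨k, hkM, w₀, hw₀, hkw₀⟩ : ∃ k ∈ M, ∃ w ∈ W,
        (k : Matrix (Fin n) (Fin n) F) *ᵥ w ∉ W := by
      rcases hv with ⟨h1, h2⟩ | ⟨h1, h2⟩
      · exact ⟨h, hhM, v, h1, h2⟩
      · refine ⟨h⁻¹, M.inv_mem hhM, (h : Matrix (Fin n) (Fin n) F) *ᵥ v, h2, ?_⟩
        rw [Cfsg.Agent.S5643.inv_mv]
        exact h1
    have hXbase : ∀ y : Fin n → F, f y y = 0 → (∀ w ∈ W, f w y = 0) → y ∈ XS f σ M :=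
      fun y hy hyW => ⟨hy, fun c hc t ht => hHM (htvH y hy hyW c hc t ht)⟩
    have hXW : ∀ w ∈ W, w ∈ XS f σ M := fun w hw =>
      hXbase w (hW w hw w hw) (fun w' hw' => hW w' hw' w hw)
    have hw₀w₀ : f w₀ w₀ = 0 := hW w₀ hw₀ w₀ hw₀
    obtain ⟨z, hzdef⟩ : ∃ z : Fin n → F, z = (k : Matrix (Fin n) (Fin n) F) *ᵥ w₀ := ⟨_, rfl⟩
    rw [← hzdef] at hkw₀
    have hzz : f z z = 0 := by rw [hzdef, hMiso k hkM, hw₀w₀]
    obtain ⟨y, hyy, hyW, hzy⟩ : ∃ y : Fin n → F, f y y = 0 ∧ (∀ w ∈ W, f w y = 0) ∧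
        f z y ≠ 0 := by
      by_cases hzW : ∀ w ∈ W, f w z = 0
      · obtain ⟨y, hyW, hzy⟩ := dperp hf W z hkw₀
        obtain ⟨β, hβ⟩ := iso_fix hf y z hzz (f_swap_ne hf hzy)
        refine ⟨y + β • z, hβ, fun w hw => ?_, ?_⟩
        · rw [f_add_right hf, f_smul_right hf, hyW w hw, hzW w hw, mul_zero, add_zero]
        · rw [f_add_right hf, f_smul_right hf, hzz, mul_zero, add_zero]
          exact hzy
      · push Not at hzW
        obtain ⟨w, hw, hwz⟩ := hzW
        exact ⟨w, hW w hw w hw, fun w' hw' => hW w' hw' w hw, f_swap_ne hf hwz⟩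
    obtain ⟨x0, hx0def⟩ : ∃ x0 : Fin n → F, x0 = ((k⁻¹ : Matrix.GeneralLinearGroup (Fin n) F) :
        Matrix (Fin n) (Fin n) F) *ᵥ y := ⟨_, rfl⟩
    have hx0X : x0 ∈ XS f σ M := by
      rw [hx0def]
      exact XS_conj M (M.inv_mem hkM) (hMiso _ (M.inv_mem hkM)) (hXbase y hyy hyW)
    have hx0x0 : f x0 x0 = 0 := hx0X.1
    obtain ⟨κ, hκdef⟩ : ∃ κ : F, κ = f x0 w₀ := ⟨_, rfl⟩
    have hκ : κ ≠ 0 := by
      rw [hκdef, hx0def, ← hMiso k hkM, Cfsg.Agent.S5643.inv_mv', ← hzdef]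
      exact f_swap_ne hf hzy
    have hstepC : ∀ v : Fin n → F, f v v = 0 → f v w₀ = κ → v ∈ XS f σ M := by
      intro v hvv hvw
      obtain ⟨u, hudef⟩ : ∃ u : Fin n → F, u = κ⁻¹ • (v - x0) := ⟨_, rfl⟩
      have huw : f u w₀ = 0 := by
        rw [hudef, hf.smul_left, f_sub_left hf, hvw, ← hκdef, sub_self, mul_zero]
      have hfix : σ (-(f u u)) = -(f u u) := by rw [map_neg, f_self_fixed hf]
      obtain ⟨γ, hγ⟩ := trace_surj hf _ hfix
      obtain ⟨ρ, hρS, hρ, hρiso⟩ := siegel hf w₀ u hw₀w₀ huw γ hγ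
      have hρM : ρ ∈ M := by
        apply hHM
        refine ⟨stab_of_maps W ρ (fun x hx => ?_), (hG ρ).2 ⟨hρiso, hρS⟩⟩
        rw [hρ, hW x hx w₀ hw₀, zero_smul, mul_zero, zero_smul, add_zero, add_zero]
        exact W.sub_mem hx (W.smul_mem _ hw₀)
      have h1 := XS_conj M hρM hρiso hx0X
      obtain ⟨δ, hδdef⟩ : ∃ δ : F, δ = γ * κ - f x0 u := ⟨_, rfl⟩
      have h2 : (ρ : Matrix (Fin n) (Fin n) F) *ᵥ x0 = v + δ • w₀ := by
        rw [hρ, ← hκdef, hudef, smul_smul, mul_inv_cancel₀ hκ, one_smul, hδdef, ← hudef]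
        module
      rw [h2] at h1
      have h3 : σ δ * κ + δ * σ κ = 0 := by
        have := h1.1
        rw [hf.add_left, f_add_right hf, f_add_right hf, hf.smul_left, hf.smul_left,
          f_smul_right hf, f_smul_right hf, hw₀w₀, hvv, hvw, hf.herm w₀ v, hvw] at this
        linear_combination this
      have hc : σ (-σ δ / σ κ) = -(-σ δ / σ κ) := by
        rw [map_div₀, map_neg, hf.involutive, hf.involutive]
        have hσκ : σ κ ≠ 0 := fun h => hκ (by
          have := congrArg σ h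
          rwa [hf.involutive, map_zero] at this)
        field_simp
        linear_combination (-1 : F) * h3
      have h4 := XS_tv hf M h1 (hXW w₀ hw₀) hc
      have h5 : v + δ • w₀ + f (v + δ • w₀) ((-σ δ / σ κ) • w₀) • w₀ = v := by
        rw [f_smul_right hf, hc, hf.add_left, hf.smul_left, hw₀w₀, hvw, mul_zero, add_zero]
        have hσκ : σ κ ≠ 0 := fun h => hκ (by
          have := congrArg σ h
          rwa [hf.involutive, map_zero] at this)
        have e : -(-σ δ / σ κ) * κ = -δ := by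
          field_simp
          linear_combination h3
        rw [e]
        module
      rw [h5] at h4
      exact h4
    have hstepD : ∀ v : Fin n → F, f v v = 0 → f v w₀ ≠ 0 → v ∈ XS f σ M := by
      intro v hvv hvw
      have h1 := hstepC ((κ / f v w₀) • v)
        (by rw [hf.smul_left, f_smul_right hf, hvv, mul_zero, mul_zero])
        (by rw [hf.smul_left]; field_simp)
      have h2 := XS_smul hf M (f v w₀ / κ) h1
      rw [smul_smul] at h2
      have e : f v w₀ / κ * (κ / f v w₀) = 1 := by field_simp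
      rw [e, one_smul] at h2
      exact h2
    apply XS_gen' hgen M G hG
    intro v hvv
    by_cases hvw : f v w₀ = 0
    · by_cases hvs : v ∈ Submodule.span F {w₀}
      · exact hXW v ((Submodule.span_singleton_le_iff_mem w₀ W).2 hw₀ hvs)
      · have hw₀0 : w₀ ≠ 0 := by
          rintro rfl
          rw [hκdef, f_zero_right hf] at hκ
          exact hκ rfl
        have hli : LinearIndependent F ![w₀, v] := li2 w₀ v hw₀0 hvs
        obtain ⟨c, hc0, hc⟩ := exists_K0 hf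
        obtain ⟨z₁, hz₁⟩ := lin_solve hf _ hli ![1, σ c]
        have hz₁w : f z₁ w₀ = 1 := by
          have := hz₁ 0
          simpa using this
        have hz₁v : f z₁ v = σ c := by
          have := hz₁ 1
          simpa using this
        obtain ⟨β, hβ⟩ := iso_fix hf z₁ w₀ hw₀w₀ (by rw [hz₁w]; exact one_ne_zero)
        obtain ⟨v₁, hv₁def⟩ : ∃ v₁ : Fin n → F, v₁ = z₁ + β • w₀ := ⟨_, rfl⟩
        rw [← hv₁def] at hβ
        have hv₁w : f v₁ w₀ = 1 := by
          rw [hv₁def, hf.add_left, hf.smul_left, hw₀w₀, mul_zero, add_zero, hz₁w]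
        have hv₁v : f v₁ v = σ c := by
          rw [hv₁def, hf.add_left, hf.smul_left, f_swap_zero hf hvw, mul_zero, add_zero, hz₁v]
        have hvv₁ : f v v₁ = c := by
          rw [hf.herm, hv₁v, hf.involutive]
        have hv₁X : v₁ ∈ XS f σ M := hstepD v₁ hβ (by rw [hv₁w]; exact one_ne_zero)
        have hv₂X : v - v₁ ∈ XS f σ M := by
          apply hstepD
          · rw [f_sub_left hf, f_sub_right hf, f_sub_right hf, hvv, hβ, hvv₁, hv₁v, hc]
            ring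
          · rw [f_sub_left hf, hvw, hv₁w]
            simp
        have hσc0 : σ c ≠ 0 := by
          rw [hc]
          exact neg_ne_zero.2 hc0
        have hc' : σ (c⁻¹) = -(c⁻¹) := by
          rw [map_inv₀, hc, inv_neg]
        have h4 := XS_tv hf M hv₁X hv₂X hc'
        have h5 : v₁ + f v₁ (c⁻¹ • (v - v₁)) • (v - v₁) = v := by
          rw [f_smul_right hf, hc', f_sub_right hf, hβ, sub_zero, hv₁v, hc]
          have e : -c⁻¹ * -c = 1 := by
            field_simp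
          rw [e]
          module
        rw [h5] at h4
        exact h4
    · exact hstepD v hvv hvw

end Cfsg.Agent.Lib.Helper28.UMax2
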