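import Cfsg.Agent.Lib.Helper28.UForm
import Cfsg.Agent.S5643

set_option autoImplicit false

open Cfsg

namespace Cfsg.Agent.Lib.Helper28.UGen

open Matrix Cfsg.Agent.Lib.Helper28.UForm

variable {n : ℕ} {F : Type*} [Field F] {σ : F ≃+* F} {f : (Fin n → F) → (Fin n → F) → F}

def Perp (f : (Fin n → F) → (Fin n → F) → F) {m : ℕ} (a : Fin m → (Fin n → F))
    (v : Fin n → F) : Prop := ∀ i, f v (a i) = 0

structure Nd (f : (Fin n → F) → (Fin n → F) → F) {m : ℕ} (a : Fin m → (Fin n → F)) : Prop where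
  li : LinearIndependent F a
  nd : ∀ v ∈ Submodule.span F (Set.range a), Perp f a v → v = 0

theorem perp_cons {m : ℕ} (a : Fin m → (Fin n → F)) (x v : Fin n → F) :
    Perp f (Fin.cons x a : Fin (m + 1) → (Fin n → F)) v ↔ f v x = 0 ∧ Perp f a v := by
  unfold Perp
  rw [Fin.forall_fin_succ]
  simp

theorem perp_span (hf : Cfsg.Geo.IsUnitaryForm σ f) {m : ℕ} (a : Fin m → (Fin n → F))
    (v : Fin n → F) (hv : Perp f a v) : ∀ x ∈ Submodule.span F (Set.range a), f v x = 0 := by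
  intro x hx
  induction hx using Submodule.span_induction with
  | mem y hy =>
    obtain ⟨i, rfl⟩ := hy
    exact hv i
  | zero => exact f_zero_right hf v
  | add y z _ _ hy hz => rw [f_add_right hf, hy, hz, add_zero]
  | smul c y _ hy => rw [f_smul_right hf, hy, mul_zero]

theorem perp_span' (hf : Cfsg.Geo.IsUnitaryForm σ f) {m : ℕ} (a : Fin m → (Fin n → F))
    (v : Fin n → F) (hv : Perp f a v) : ∀ x ∈ Submodule.span F (Set.range a), f x v = 0 := by
  intro x hx
  exact f_swap_zero hf (perp_span hf a v hv x hx)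

theorem perp_add (hf : Cfsg.Geo.IsUnitaryForm σ f) {m : ℕ} (a : Fin m → (Fin n → F))
    (v w : Fin n → F) (hv : Perp f a v) (hw : Perp f a w) : Perp f a (v + w) := by
  intro i
  rw [hf.add_left, hv i, hw i, add_zero]

theorem perp_smul (hf : Cfsg.Geo.IsUnitaryForm σ f) {m : ℕ} (a : Fin m → (Fin n → F))
    (c : F) (v : Fin n → F) (hv : Perp f a v) : Perp f a (c • v) := by
  intro i
  rw [hf.smul_left, hv i, mul_zero]

theorem perp_sub (hf : Cfsg.Geo.IsUnitaryForm σ f) {m : ℕ} (a : Fin m → (Fin n → F))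
    (v w : Fin n → F) (hv : Perp f a v) (hw : Perp f a w) : Perp f a (v - w) := by
  intro i
  rw [f_sub_left hf, hv i, hw i, sub_zero]

theorem rb (hf : Cfsg.Geo.IsUnitaryForm σ f) {m : ℕ} (a : Fin m → (Fin n → F)) (ha : Nd f a)
    (S : Submodule F (Fin n → F)) (hti : ∀ x ∈ S, ∀ y ∈ S, f x y = 0)
    (hperp : ∀ x ∈ S, Perp f a x) : 2 * Module.finrank F S + m ≤ n := by
  let b := Module.finBasis F S
  have hli : LinearIndependent F (fun i => ((b i : S) : Fin n → F)) :=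
    b.linearIndependent.map' S.subtype S.ker_subtype
  have h1 := finrank_ker_eq hf _ hli
  set A := Submodule.span F (Set.range a) with hA
  have hAm : Module.finrank F A = m := by
    rw [hA, finrank_span_eq_card ha.li, Fintype.card_fin]
  have hle : S ⊔ A ≤ LinearMap.ker (perpMap hf (fun i => ((b i : S) : Fin n → F))) := by
    apply sup_le
    · intro v hv
      rw [mem_ker_perpMap]
      intro i
      exact hti v hv _ (b i).2
    · intro v hv
      rw [mem_ker_perpMap]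
      intro i
      exact perp_span' hf a _ (hperp _ (b i).2) v hv
  have hinf : S ⊓ A = ⊥ := by
    rw [eq_bot_iff]
    intro v hv
    rw [Submodule.mem_bot]
    exact ha.nd v hv.2 (hperp v hv.1)
  have h2 := Submodule.finrank_mono hle
  have h3 := Submodule.finrank_sup_add_finrank_inf_eq S A
  rw [hinf, finrank_bot, add_zero, hAm] at h3
  omega

theorem exists_noniso_perp (hf : Cfsg.Geo.IsUnitaryForm σ f) {m : ℕ} (a : Fin m → (Fin n → F))
    (ha : Nd f a) (hm : m < n) : ∃ s, Perp f a s ∧ f s s ≠ 0 := by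
  by_contra hcon
  push Not at hcon
  have h1 := finrank_ker_eq hf a ha.li
  have hiso : ∀ y ∈ LinearMap.ker (perpMap hf a), f y y = 0 := by
    intro y hy
    rw [mem_ker_perpMap] at hy
    exact hcon y hy
  have h2 := rb hf a ha (LinearMap.ker (perpMap hf a)) (ti_of_iso hf _ hiso) (by
    intro x hx
    rw [mem_ker_perpMap] at hx
    exact hx)
  omega

theorem nd_cons1 (hf : Cfsg.Geo.IsUnitaryForm σ f) {m : ℕ} (a : Fin m → (Fin n → F))
    (ha : Nd f a) (x : Fin n → F) (hx : Perp f a x) (hxx : f x x ≠ 0) :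
    Nd f (Fin.cons x a : Fin (m + 1) → (Fin n → F)) := by
  have hxn : x ∉ Submodule.span F (Set.range a) := by
    intro h
    have := ha.nd x h hx
    rw [this, f_zero_left hf] at hxx
    exact hxx rfl
  refine ⟨ha.li.finCons hxn, ?_⟩
  intro v hv hp
  rw [perp_cons] at hp
  rw [Fin.range_cons, Submodule.mem_span_insert] at hv
  obtain ⟨c, w, hw, rfl⟩ := hv
  have hpw : Perp f a w := by
    intro i
    have := hp.2 i
    rw [hf.add_left, hf.smul_left, hx i, mul_zero, zero_add] at this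
    exact this
  have hw0 : w = 0 := ha.nd w hw hpw
  rw [hw0, add_zero] at hp ⊢
  have h1 := hp.1
  rw [hf.smul_left] at h1
  rcases mul_eq_zero.1 h1 with h | h
  · rw [h, zero_smul]
  · exact absurd h hxx

theorem nd_cons2 (hf : Cfsg.Geo.IsUnitaryForm σ f) {m : ℕ} (a : Fin m → (Fin n → F))
    (ha : Nd f a) (u v : Fin n → F) (hu : Perp f a u) (hv : Perp f a v) (huu : f u u = 0)
    (hvv : f v v = 0) (hvu : f v u ≠ 0) :
    Nd f (Fin.cons u (Fin.cons v a) : Fin (m + 1 + 1) → (Fin n → F)) := by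
  have huv : f u v ≠ 0 := f_swap_ne hf hvu
  have hvn : v ∉ Submodule.span F (Set.range a) := by
    intro h
    have := ha.nd v h hv
    rw [this, f_zero_left hf] at hvu
    exact hvu rfl
  have hli1 : LinearIndependent F (Fin.cons v a : Fin (m + 1) → (Fin n → F)) :=
    ha.li.finCons hvn
  have hun : u ∉ Submodule.span F (Set.range (Fin.cons v a : Fin (m + 1) → (Fin n → F))) := by
    intro h
    rw [Fin.range_cons, Submodule.mem_span_insert] at h
    obtain ⟨c, w, hw, hcw⟩ := h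
    have h1 : f u u = c * f v u + f w u := by
      have h0 : f u u = f (c • v + w) u := by rw [← hcw]
      rw [h0, hf.add_left, hf.smul_left]
    rw [huu, perp_span' hf a u hu w hw, add_zero] at h1
    rcases mul_eq_zero.1 h1.symm with h | h
    · rw [h, zero_smul, zero_add] at hcw
      have := ha.nd u (hcw ▸ hw) hu
      rw [this, f_zero_right hf] at hvu
      exact hvu rfl
    · exact hvu h
  refine ⟨hli1.finCons hun, ?_⟩
  intro x hx hp
  rw [perp_cons, perp_cons] at hp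
  rw [Fin.range_cons, Submodule.mem_span_insert] at hx
  obtain ⟨α, y, hy, rfl⟩ := hx
  rw [Fin.range_cons, Submodule.mem_span_insert] at hy
  obtain ⟨β, w, hw, rfl⟩ := hy
  obtain ⟨h1, h2, h3⟩ := hp
  have hwu : f w u = 0 := perp_span' hf a u hu w hw
  have hwv : f w v = 0 := perp_span' hf a v hv w hw
  rw [hf.add_left, hf.add_left, hf.smul_left, hf.smul_left, huu, hwu, mul_zero, zero_add,
    add_zero] at h1
  rw [hf.add_left, hf.add_left, hf.smul_left, hf.smul_left, hvv, hwv, mul_zero, zero_add,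
    add_zero] at h2
  have hβ : β = 0 := by
    rcases mul_eq_zero.1 h1 with h | h
    · exact h
    · exact absurd h hvu
  have hα : α = 0 := by
    rcases mul_eq_zero.1 h2 with h | h
    · exact h
    · exact absurd h huv
  have hpw : Perp f a w := by
    intro i
    have := h3 i
    rw [hα, hβ, zero_smul, zero_smul, zero_add, zero_add] at this
    exact this
  rw [hα, hβ, ha.nd w hw hpw]
  simp

def UTa (f : (Fin n → F) → (Fin n → F) → F) (σ : F ≃+* F) {m : ℕ} (a : Fin m → (Fin n → F)) :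
    Set (Matrix.GeneralLinearGroup (Fin n) F) :=
  {g | ∃ (y : Fin n → F) (c : F), f y y = 0 ∧ σ c = -c ∧ Perp f a y ∧
    ∀ x, (g : Matrix (Fin n) (Fin n) F) *ᵥ x = x + f x (c • y) • y}

def Ra (f : (Fin n → F) → (Fin n → F) → F) (σ : F ≃+* F) {m : ℕ} (a : Fin m → (Fin n → F)) :
    Subgroup (Matrix.GeneralLinearGroup (Fin n) F) := Subgroup.closure (UTa f σ a)

def GA (f : (Fin n → F) → (Fin n → F) → F) {m : ℕ} (a : Fin m → (Fin n → F)) :
    Subgroup (Matrix.GeneralLinearGroup (Fin n) F) where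
  carrier := {g | (∀ x y, f ((g : Matrix (Fin n) (Fin n) F) *ᵥ x)
      ((g : Matrix (Fin n) (Fin n) F) *ᵥ y) = f x y) ∧
    g ∈ Cfsg.Geo.specialLinear (Fin n) F ∧ ∀ i, (g : Matrix (Fin n) (Fin n) F) *ᵥ a i = a i}
  mul_mem' := by
    rintro g h ⟨hg1, hg2, hg3⟩ ⟨hh1, hh2, hh3⟩
    refine ⟨fun x y => ?_, Subgroup.mul_mem _ hg2 hh2, fun i => ?_⟩
    · rw [Cfsg.Agent.S5643.mul_mv, Cfsg.Agent.S5643.mul_mv, hg1, hh1]
    · rw [Cfsg.Agent.S5643.mul_mv, hh3, hg3]
  one_mem' := by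
    refine ⟨fun x y => ?_, Subgroup.one_mem _, fun i => ?_⟩
    · simp
    · simp
  inv_mem' := by
    rintro g ⟨hg1, hg2, hg3⟩
    refine ⟨fun x y => ?_, Subgroup.inv_mem _ hg2, fun i => ?_⟩
    · have := hg1 (((g⁻¹ : Matrix.GeneralLinearGroup (Fin n) F) : Matrix (Fin n) (Fin n) F) *ᵥ x)
        (((g⁻¹ : Matrix.GeneralLinearGroup (Fin n) F) : Matrix (Fin n) (Fin n) F) *ᵥ y)
      rw [Cfsg.Agent.S5643.inv_mv', Cfsg.Agent.S5643.inv_mv'] at this
      exact this.symm
    · have := congrArg (fun t => ((g⁻¹ : Matrix.GeneralLinearGroup (Fin n) F) :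
        Matrix (Fin n) (Fin n) F) *ᵥ t) (hg3 i)
      simp only [Cfsg.Agent.S5643.inv_mv] at this
      exact this.symm

theorem mem_GA {m : ℕ} (a : Fin m → (Fin n → F)) (g : Matrix.GeneralLinearGroup (Fin n) F) :
    g ∈ GA f a ↔ (∀ x y, f ((g : Matrix (Fin n) (Fin n) F) *ᵥ x)
      ((g : Matrix (Fin n) (Fin n) F) *ᵥ y) = f x y) ∧
    g ∈ Cfsg.Geo.specialLinear (Fin n) F ∧ ∀ i, (g : Matrix (Fin n) (Fin n) F) *ᵥ a i = a i :=
  Iff.rfl

theorem step (hf : Cfsg.Geo.IsUnitaryForm σ f) {m : ℕ} (a : Fin m → (Fin n → F))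
    (y : Fin n → F) (hy : f y y = 0) (hya : Perp f a y) (c : F) (hc : σ c = -c) :
    ∃ r ∈ Ra f σ a, ∀ x, (r : Matrix (Fin n) (Fin n) F) *ᵥ x = x + f x (c • y) • y := by
  have h0 : f y (c • y) = 0 := by rw [f_smul_right hf, hy, mul_zero]
  obtain ⟨g, _, hg⟩ := Cfsg.Agent.S5643.tvGL hf y (c • y) h0
  exact ⟨g, Subgroup.subset_closure ⟨y, c, hy, hc, hya, hg⟩, hg⟩

theorem Ra_le_GA (hf : Cfsg.Geo.IsUnitaryForm σ f) {m : ℕ} (a : Fin m → (Fin n → F)) :
    Ra f σ a ≤ GA f a := by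
  unfold Ra
  rw [Subgroup.closure_le]
  rintro g ⟨y, c, hy, hc, hya, hg⟩
  have h0 : f y (c • y) = 0 := by rw [f_smul_right hf, hy, mul_zero]
  obtain ⟨g', hg'S, hg'⟩ := Cfsg.Agent.S5643.tvGL hf y (c • y) h0
  have hgg : g = g' := by
    apply Units.ext
    apply Matrix.toLin'.injective
    apply LinearMap.ext
    intro x
    rw [Matrix.toLin'_apply, Matrix.toLin'_apply, hg, hg']
  refine ⟨fun x x' => Cfsg.Agent.S5643.utv_iso hf y hy c hc g hg x x', hgg ▸ hg'S, fun i => ?_⟩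
  rw [hg, f_smul_right hf, f_swap_zero hf (hya i), mul_zero, zero_smul, add_zero]

theorem Ra_mono {m m' : ℕ} (a : Fin m → (Fin n → F)) (a' : Fin m' → (Fin n → F))
    (h : ∀ v, Perp f a' v → Perp f a v) : Ra f σ a' ≤ Ra f σ a := by
  unfold Ra
  apply Subgroup.closure_mono
  rintro g ⟨y, c, hy, hc, hya, hg⟩
  exact ⟨y, c, hy, hc, h y hya, hg⟩

theorem move1 (hf : Cfsg.Geo.IsUnitaryForm σ f) {m : ℕ} (a : Fin m → (Fin n → F))
    (x w : Fin n → F) (hw : f w w = 0) (hwa : Perp f a w) (hκ : f x w ≠ 0)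
    (hσ : σ (f x w) = -(f x w)) :
    ∃ r ∈ Ra f σ a, (r : Matrix (Fin n) (Fin n) F) *ᵥ x = x + w ∧
      ∀ y, f y w = 0 → (r : Matrix (Fin n) (Fin n) F) *ᵥ y = y := by
  have hc : σ (-(f x w)⁻¹) = -(-(f x w)⁻¹) := by
    rw [map_neg, map_inv₀, hσ, inv_neg]
  obtain ⟨r, hr, hrx⟩ := step hf a w hw hwa _ hc
  refine ⟨r, hr, ?_, ?_⟩
  · rw [hrx, f_smul_right hf, hc]
    congr 1
    have : - -(f x w)⁻¹ * f x w = 1 := by
      rw [neg_neg, inv_mul_cancel₀ hκ]
    rw [this, one_smul]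
  · intro y hy
    rw [hrx, f_smul_right hf, hy, mul_zero, zero_smul, add_zero]

theorem h1a (hf : Cfsg.Geo.IsUnitaryForm σ f) {m : ℕ} (a : Fin m → (Fin n → F))
    (u u' : Fin n → F) (hu : f u u = 0) (hu' : f u' u' = 0) (hua : Perp f a u)
    (hu'a : Perp f a u') (hβ : f u u' ≠ 0) (hσ : σ (f u u') = -(f u u')) :
    ∃ r ∈ Ra f σ a, (r : Matrix (Fin n) (Fin n) F) *ᵥ u = u' := by
  have h1 : f u' u = -(f u u') := by rw [hf.herm, hσ]
  have hw : f (u' - u) (u' - u) = 0 := by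
    rw [f_sub_left hf, f_sub_right hf, f_sub_right hf, hu, hu', h1]
    ring
  have hκ : f u (u' - u) = f u u' := by rw [f_sub_right hf, hu, sub_zero]
  obtain ⟨r, hr, hrx, _⟩ := move1 hf a u (u' - u) hw (perp_sub hf a _ _ hu'a hua)
    (by rw [hκ]; exact hβ) (by rw [hκ]; exact hσ)
  refine ⟨r, hr, ?_⟩
  rw [hrx]
  abel

theorem h1b [Finite F] (hf : Cfsg.Geo.IsUnitaryForm σ f) {m : ℕ} (a : Fin m → (Fin n → F))
    (ha : Nd f a) (hm : m + 3 ≤ n)
    (u u' : Fin n → F) (hu : f u u = 0) (hu' : f u' u' = 0) (hua : Perp f a u)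
    (hu'a : Perp f a u') (hβ : f u u' ≠ 0) :
    ∃ r ∈ Ra f σ a, (r : Matrix (Fin n) (Fin n) F) *ᵥ u = u' := by
  obtain ⟨κ, hκ0, hκ⟩ := exists_K0 hf
  have hβ' : f u' u ≠ 0 := f_swap_ne hf hβ
  have hnd := nd_cons2 hf a ha u u' hua hu'a hu hu' hβ'
  obtain ⟨s, hs, hss⟩ := exists_noniso_perp hf _ hnd (by omega)
  rw [perp_cons, perp_cons] at hs
  obtain ⟨hsu, hsu', hsa⟩ := hs
  set x := κ / f u u' with hx
  set y := -κ / f u' u with hy
  set z0 := x • u + y • u' with hz0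
  have hfix : σ (-(f z0 z0) / f s s) = -(f z0 z0) / f s s := by
    rw [map_div₀, map_neg, f_self_fixed hf, f_self_fixed hf]
  obtain ⟨c, hc⟩ := norm_surj hf _ hfix
  have hus : f u s = 0 := f_swap_zero hf hsu
  have hu's : f u' s = 0 := f_swap_zero hf hsu'
  have hz0s : f z0 s = 0 := by
    rw [hz0, hf.add_left, hf.smul_left, hf.smul_left, hus, hu's]
    ring
  have hsz0 : f s z0 = 0 := f_swap_zero hf hz0s
  have hσy : σ y = κ / f u u' := by
    rw [hy, map_div₀, map_neg, hκ, neg_neg, ← hf.herm]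
  have huz0 : f u z0 = κ := by
    rw [hz0, f_add_right hf, f_smul_right hf, f_smul_right hf, hu, hσy]
    field_simp
    ring
  have hz0u' : f z0 u' = κ := by
    rw [hz0, hf.add_left, hf.smul_left, hf.smul_left, hu', hx]
    field_simp
    ring
  have hz0a : Perp f a z0 := by
    rw [hz0]
    exact perp_add hf a _ _ (perp_smul hf a _ _ hua) (perp_smul hf a _ _ hu'a)
  clear_value z0
  set z := z0 + c • s with hz
  have hzz : f z z = 0 := by
    rw [hz, hf.add_left, f_add_right hf, f_add_right hf, hf.smul_left, hf.smul_left,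
      f_smul_right hf, f_smul_right hf, hsz0, hz0s]
    have : c * (σ c * f s s) = -(f z0 z0) := by
      rw [← mul_assoc, hc]
      field_simp
    rw [this]
    ring
  have huz : f u z = κ := by
    rw [hz, f_add_right hf, f_smul_right hf, hus, huz0]
    ring
  have hzu' : f z u' = κ := by
    rw [hz, hf.add_left, hf.smul_left, hsu', hz0u']
    ring
  have hza : Perp f a z := by
    rw [hz]
    exact perp_add hf a _ _ hz0a (perp_smul hf a _ _ hsa)
  clear_value z
  obtain ⟨r1, hr1, hr1u⟩ := h1a hf a u z hu hzz hua hza (by rw [huz]; exact hκ0)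
    (by rw [huz]; exact hκ)
  obtain ⟨r2, hr2, hr2z⟩ := h1a hf a z u' hzz hu' hza hu'a (by rw [hzu']; exact hκ0)
    (by rw [hzu']; exact hκ)
  refine ⟨r2 * r1, Subgroup.mul_mem _ hr2 hr1, ?_⟩
  rw [Cfsg.Agent.S5643.mul_mv, hr1u, hr2z]

theorem not_mem_span {m : ℕ} (a : Fin m → (Fin n → F))
    (ha : Nd f a) (u : Fin n → F) (hu0 : u ≠ 0) (hua : Perp f a u) :
    u ∉ Submodule.span F (Set.range a) := fun h => hu0 (ha.nd u h hua)

theorem ex_dual (hf : Cfsg.Geo.IsUnitaryForm σ f) {m : ℕ} (a : Fin m → (Fin n → F))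
    (ha : Nd f a) (u : Fin n → F) (hu0 : u ≠ 0) (hua : Perp f a u) :
    ∃ z, f z u = 1 ∧ Perp f a z := by
  have hli : LinearIndependent F (Fin.cons u a : Fin (m + 1) → (Fin n → F)) :=
    ha.li.finCons (not_mem_span a ha u hu0 hua)
  obtain ⟨z, hz⟩ := lin_solve hf _ hli (Fin.cons 1 0)
  refine ⟨z, ?_, fun i => ?_⟩
  · have := hz 0
    simpa using this
  · have := hz i.succ
    simpa using this

theorem ex_nonperp (hf : Cfsg.Geo.IsUnitaryForm σ f) {m : ℕ} (a : Fin m → (Fin n → F))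
    (ha : Nd f a) (u u' : Fin n → F) (hu0 : u ≠ 0) (hu'0 : u' ≠ 0) (hua : Perp f a u)
    (hu'a : Perp f a u') (hu : f u u = 0) (huu' : f u u' = 0) :
    ∃ z, f z z = 0 ∧ Perp f a z ∧ f u z ≠ 0 ∧ f z u' ≠ 0 := by
  obtain ⟨z1, hz1, hz1a⟩ := ex_dual hf a ha u hu0 hua
  obtain ⟨z2, hz2, hz2a⟩ := ex_dual hf a ha u' hu'0 hu'a
  obtain ⟨z0, h1, h2, h3⟩ : ∃ z0, f z0 u ≠ 0 ∧ f z0 u' ≠ 0 ∧ Perp f a z0 := by
    by_cases c1 : f z1 u' = 0
    · by_cases c2 : f z2 u = 0
      · refine ⟨z1 + z2, ?_, ?_, perp_add hf a _ _ hz1a hz2a⟩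
        · rw [hf.add_left, hz1, c2, add_zero]
          exact one_ne_zero
        · rw [hf.add_left, hz2, c1, zero_add]
          exact one_ne_zero
      · exact ⟨z2, c2, by rw [hz2]; exact one_ne_zero, hz2a⟩
    · exact ⟨z1, by rw [hz1]; exact one_ne_zero, c1, hz1a⟩
  have h1' : f u z0 ≠ 0 := f_swap_ne hf h1
  have hfix : σ (-(f z0 z0)) = -(f z0 z0) := by rw [map_neg, f_self_fixed hf]
  obtain ⟨t', ht'⟩ := trace_surj hf _ hfix
  refine ⟨z0 + (t' / f u z0) • u, ?_, perp_add hf a _ _ h3 (perp_smul hf a _ _ hua), ?_, ?_⟩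
  · rw [hf.add_left, f_add_right hf, f_add_right hf, hf.smul_left, hf.smul_left,
      f_smul_right hf, f_smul_right hf, hu, map_div₀, hf.herm z0 u]
    have e1 : t' / f u z0 * f u z0 = t' := by field_simp
    have e2 : σ t' / σ (f u z0) * σ (f u z0) = σ t' := by
      have : σ (f u z0) ≠ 0 := by
        rw [← hf.herm]
        exact h1
      field_simp
    rw [e1]
    linear_combination ht' + e2
  · rw [f_add_right hf, f_smul_right hf, hu, mul_zero, add_zero]
    exact h1'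
  · rw [hf.add_left, hf.smul_left, huu', mul_zero, add_zero]
    exact h2

theorem h1 [Finite F] (hf : Cfsg.Geo.IsUnitaryForm σ f) {m : ℕ} (a : Fin m → (Fin n → F))
    (ha : Nd f a) (hm : m + 3 ≤ n)
    (u u' : Fin n → F) (hu0 : u ≠ 0) (hu'0 : u' ≠ 0) (hu : f u u = 0) (hu' : f u' u' = 0)
    (hua : Perp f a u) (hu'a : Perp f a u') :
    ∃ r ∈ Ra f σ a, (r : Matrix (Fin n) (Fin n) F) *ᵥ u = u' := by
  by_cases hβ : f u u' = 0
  · obtain ⟨z, hzz, hza, huz, hzu'⟩ := ex_nonperp hf a ha u u' hu0 hu'0 hua hu'a hu hβ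
    obtain ⟨r1, hr1, hr1u⟩ := h1b hf a ha hm u z hu hzz hua hza huz
    obtain ⟨r2, hr2, hr2z⟩ := h1b hf a ha hm z u' hzz hu' hza hu'a hzu'
    refine ⟨r2 * r1, Subgroup.mul_mem _ hr2 hr1, ?_⟩
    rw [Cfsg.Agent.S5643.mul_mv, hr1u, hr2z]
  · exact h1b hf a ha hm u u' hu hu' hua hu'a hβ

theorem h2a (hf : Cfsg.Geo.IsUnitaryForm σ f) {m : ℕ} (a : Fin m → (Fin n → F))
    (u v v' : Fin n → F) (hv : f v v = 0) (hv' : f v' v' = 0)
    (hva : Perp f a v) (hv'a : Perp f a v') (hvu : f v u = 1) (hv'u : f v' u = 1)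
    (hβ : f v v' ≠ 0) (hσ : σ (f v v') = -(f v v')) :
    ∃ r ∈ Ra f σ a, (r : Matrix (Fin n) (Fin n) F) *ᵥ u = u ∧
      (r : Matrix (Fin n) (Fin n) F) *ᵥ v = v' := by
  have h1 : f v' v = -(f v v') := by rw [hf.herm, hσ]
  have hw : f (v' - v) (v' - v) = 0 := by
    rw [f_sub_left hf, f_sub_right hf, f_sub_right hf, hv, hv', h1]
    ring
  have hκ : f v (v' - v) = f v v' := by rw [f_sub_right hf, hv, sub_zero]
  obtain ⟨r, hr, hrx, hfix⟩ := move1 hf a v (v' - v) hw (perp_sub hf a _ _ hv'a hva)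
    (by rw [hκ]; exact hβ) (by rw [hκ]; exact hσ)
  refine ⟨r, hr, ?_, ?_⟩
  · apply hfix
    apply f_swap_zero hf
    rw [f_sub_left hf, hvu, hv'u, sub_self]
  · rw [hrx]
    abel

theorem h2_two (hf : Cfsg.Geo.IsUnitaryForm σ f) {m : ℕ} (a : Fin m → (Fin n → F))
    (u v v' v'' : Fin n → F) (hv : f v v = 0) (hv' : f v' v' = 0) (hv'' : f v'' v'' = 0)
    (hva : Perp f a v) (hv'a : Perp f a v') (hv''a : Perp f a v'')
    (hvu : f v u = 1) (hv'u : f v' u = 1) (hv''u : f v'' u = 1)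
    (h1 : f v v'' ≠ 0) (h1σ : σ (f v v'') = -(f v v''))
    (h2 : f v'' v' ≠ 0) (h2σ : σ (f v'' v') = -(f v'' v')) :
    ∃ r ∈ Ra f σ a, (r : Matrix (Fin n) (Fin n) F) *ᵥ u = u ∧
      (r : Matrix (Fin n) (Fin n) F) *ᵥ v = v' := by
  obtain ⟨r1, hr1, hr1u, hr1v⟩ := h2a hf a u v v'' hv hv'' hva hv''a hvu hv''u h1 h1σ
  obtain ⟨r2, hr2, hr2u, hr2v⟩ := h2a hf a u v'' v' hv'' hv' hv''a hv'a hv''u hv'u h2 h2σ
  refine ⟨r2 * r1, Subgroup.mul_mem _ hr2 hr1, ?_, ?_⟩
  · rw [Cfsg.Agent.S5643.mul_mv, hr1u, hr2u]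
  · rw [Cfsg.Agent.S5643.mul_mv, hr1v, hr2v]

theorem h2 [Finite F] (hf : Cfsg.Geo.IsUnitaryForm σ f) {m : ℕ} (a : Fin m → (Fin n → F))
    (ha : Nd f a) (hm : m + 4 ≤ n)
    (u v v' : Fin n → F) (hu : f u u = 0) (hv : f v v = 0) (hv' : f v' v' = 0)
    (hua : Perp f a u) (hva : Perp f a v) (hv'a : Perp f a v')
    (hvu : f v u = 1) (hv'u : f v' u = 1) :
    ∃ r ∈ Ra f σ a, (r : Matrix (Fin n) (Fin n) F) *ᵥ u = u ∧
      (r : Matrix (Fin n) (Fin n) F) *ᵥ v = v' := by
  obtain ⟨κ, hκ0, hκ⟩ := exists_K0 hf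
  have huv : f u v = 1 := by rw [hf.herm, hvu, map_one]
  have huv' : f u v' = 1 := by rw [hf.herm, hv'u, map_one]
  obtain ⟨c1, hc1⟩ : ∃ c, c = f v' v := ⟨_, rfl⟩
  obtain ⟨y', hy'⟩ : ∃ y, y = v' - v - c1 • u := ⟨_, rfl⟩
  have hy'v : f y' v = 0 := by
    rw [hy', f_sub_left hf, f_sub_left hf, hf.smul_left, hv, huv, ← hc1]
    ring
  have hy'u : f y' u = 0 := by
    rw [hy', f_sub_left hf, f_sub_left hf, hf.smul_left, hv'u, hvu, hu]
    ring
  have hy'a : Perp f a y' := by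
    rw [hy']
    exact perp_sub hf a _ _ (perp_sub hf a _ _ hv'a hva) (perp_smul hf a _ _ hua)
  have hv'eq : v' = v + c1 • u + y' := by
    rw [hy']
    abel
  have hvy' : f v y' = 0 := f_swap_zero hf hy'v
  have huy' : f u y' = 0 := f_swap_zero hf hy'u
  have hvv' : f v v' = σ c1 := by rw [hf.herm, ← hc1]
  have htr : c1 + σ c1 + f y' y' = 0 := by
    have h0 : f (v + c1 • u + y') (v + c1 • u + y') = 0 := by
      rw [← hv'eq]
      exact hv'
    rw [hf.add_left, hf.add_left, f_add_right hf, f_add_right hf, f_add_right hf, f_add_right hf,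
      f_add_right hf, f_add_right hf, hf.smul_left, hf.smul_left, hf.smul_left,
      f_smul_right hf, f_smul_right hf, f_smul_right hf, hv, hvu, hvy', huv, hu, huy', hy'v,
      hy'u] at h0
    linear_combination h0
  by_cases hN : f y' y' = 0
  · have hσc1 : σ c1 = -c1 := by linear_combination htr - hN
    by_cases hc10 : c1 = 0
    · have hv''a : Perp f a (v + κ • u) := perp_add hf a _ _ hva (perp_smul hf a _ _ hua)
      have hv'' : f (v + κ • u) (v + κ • u) = 0 := by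
        rw [hf.add_left, f_add_right hf, f_add_right hf, hf.smul_left, hf.smul_left,
          f_smul_right hf, f_smul_right hf, hv, hvu, huv, hu, hκ]
        ring
      have hv''u : f (v + κ • u) u = 1 := by
        rw [hf.add_left, hf.smul_left, hvu, hu]
        ring
      have e1 : f v (v + κ • u) = -κ := by
        rw [f_add_right hf, f_smul_right hf, hv, hvu, hκ]
        ring
      have e2 : f (v + κ • u) v' = κ := by
        rw [hf.add_left, hf.smul_left, hvv', huv', hc10, map_zero]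
        ring
      exact h2_two hf a u v v' (v + κ • u) hv hv' hv'' hva hv'a hv''a hvu hv'u hv''u
        (by rw [e1]; exact neg_ne_zero.2 hκ0) (by rw [e1, map_neg, hκ])
        (by rw [e2]; exact hκ0) (by rw [e2, hκ])
    · exact h2a hf a u v v' hv hv' hva hv'a hvu hv'u
        (by rw [hvv', hσc1]; exact neg_ne_zero.2 hc10)
        (by rw [hvv', hf.involutive, hσc1, neg_neg])
  · have hnd2 := nd_cons2 hf a ha u v hua hva hu hv (by rw [hvu]; exact one_ne_zero)
    have hnd3 := nd_cons1 hf _ hnd2 y' (by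
      rw [perp_cons, perp_cons]
      exact ⟨hy'u, hy'v, hy'a⟩) hN
    obtain ⟨s, hs, hss⟩ := exists_noniso_perp hf _ hnd3 (by omega)
    rw [perp_cons, perp_cons, perp_cons] at hs
    obtain ⟨hsy', hsu, hsv, hsa⟩ := hs
    have hNfix : σ (f y' y') = f y' y' := f_self_fixed hf y'
    obtain ⟨t1, ht1⟩ := trace_surj hf 1 (map_one σ)
    obtain ⟨t, htt, hX⟩ : ∃ t, t + σ t = 1 ∧ σ c1 + κ + t * f y' y' ≠ 0 := by
      by_cases hX1 : σ c1 + κ + t1 * f y' y' = 0
      · refine ⟨t1 + κ, ?_, ?_⟩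
        · rw [map_add, hκ]
          linear_combination ht1
        · have : σ c1 + κ + (t1 + κ) * f y' y' = κ * f y' y' := by linear_combination hX1
          rw [this]
          exact mul_ne_zero hκ0 hN
      · exact ⟨t1, ht1, hX1⟩
    have hfix : σ (-(t * σ t * f y' y') / f s s) = -(t * σ t * f y' y') / f s s := by
      rw [map_div₀, map_neg, map_mul, map_mul, hf.involutive, hNfix, f_self_fixed hf]
      ring
    obtain ⟨c, hc⟩ := norm_surj hf _ hfix
    obtain ⟨y, hy⟩ : ∃ y, y = t • y' + c • s := ⟨_, rfl⟩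
    have hy's : f y' s = 0 := f_swap_zero hf hsy'
    have hyy : f y y = 0 := by
      simp only [hy, hf.add_left, f_add_right hf, hf.smul_left, f_smul_right hf, hsy', hy's]
      have : c * (σ c * f s s) = -(t * σ t * f y' y') := by
        rw [← mul_assoc, hc]
        field_simp
      rw [this]
      ring
    have hyu : f y u = 0 := by
      rw [hy, hf.add_left, hf.smul_left, hf.smul_left, hy'u, hsu]
      ring
    have hyv : f y v = 0 := by
      rw [hy, hf.add_left, hf.smul_left, hf.smul_left, hy'v, hsv]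
      ring
    have hya : Perp f a y := by
      rw [hy]
      exact perp_add hf a _ _ (perp_smul hf a _ _ hy'a) (perp_smul hf a _ _ hsa)
    have hyy' : f y y' = t * f y' y' := by
      rw [hy, hf.add_left, hf.smul_left, hf.smul_left, hsy']
      ring
    have huy : f u y = 0 := f_swap_zero hf hyu
    have hvy : f v y = 0 := f_swap_zero hf hyv
    have hv''a : Perp f a (v + κ • u + y) :=
      perp_add hf a _ _ (perp_add hf a _ _ hva (perp_smul hf a _ _ hua)) hya
    have hv'' : f (v + κ • u + y) (v + κ • u + y) = 0 := by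
      rw [hf.add_left, hf.add_left, f_add_right hf, f_add_right hf, f_add_right hf,
        f_add_right hf, f_add_right hf, f_add_right hf, hf.smul_left, hf.smul_left, hf.smul_left,
        f_smul_right hf, f_smul_right hf, f_smul_right hf, hv, hvu, huv, hu, hvy, huy, hyv, hyu,
        hyy, hκ]
      ring
    have hv''u : f (v + κ • u + y) u = 1 := by
      rw [hf.add_left, hf.add_left, hf.smul_left, hvu, hu, hyu]
      ring
    have e1 : f v (v + κ • u + y) = -κ := by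
      rw [f_add_right hf, f_add_right hf, f_smul_right hf, hv, hvu, hvy, hκ]
      ring
    have e2 : f (v + κ • u + y) v' = σ c1 + κ + t * f y' y' := by
      rw [hf.add_left, hf.add_left, hf.smul_left, hvv', huv']
      have : f y v' = t * f y' y' := by
        rw [hv'eq, f_add_right hf, f_add_right hf, f_smul_right hf, hyv, hyu, hyy']
        ring
      rw [this]
      ring
    have e2σ : σ (σ c1 + κ + t * f y' y') = -(σ c1 + κ + t * f y' y') := by
      rw [map_add, map_add, map_mul, hf.involutive, hκ, hNfix]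
      have h3 : σ t = 1 - t := by linear_combination htt
      rw [h3]
      linear_combination htr
    exact h2_two hf a u v v' (v + κ • u + y) hv hv' hv'' hva hv'a hv''a hvu hv'u hv''u
      (by rw [e1]; exact neg_ne_zero.2 hκ0) (by rw [e1, map_neg, hκ])
      (by rw [e2]; exact hX) (by rw [e2]; exact e2σ)

theorem step' (hf : Cfsg.Geo.IsUnitaryForm σ f) {m : ℕ} (a : Fin m → (Fin n → F))
    (y : Fin n → F) (hy : f y y = 0) (hya : Perp f a y) (p : F) (hp : σ p = -p) :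
    ∃ r ∈ Ra f σ a, ∀ x, (r : Matrix (Fin n) (Fin n) F) *ᵥ x = x + (p * f x y) • y := by
  have hc : σ (-p) = -(-p) := by rw [map_neg, hp]
  obtain ⟨r, hr, hrx⟩ := step hf a y hy hya (-p) hc
  refine ⟨r, hr, fun x => ?_⟩
  rw [hrx, f_smul_right hf, hc, neg_neg]

theorem GA_iso {m : ℕ} {a : Fin m → (Fin n → F)} {g : Matrix.GeneralLinearGroup (Fin n) F}
    (hg : g ∈ GA f a) (x y : Fin n → F) :
    f ((g : Matrix (Fin n) (Fin n) F) *ᵥ x) ((g : Matrix (Fin n) (Fin n) F) *ᵥ y) = f x y :=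
  hg.1 x y

theorem GA_perp {m : ℕ} {a : Fin m → (Fin n → F)} {g : Matrix.GeneralLinearGroup (Fin n) F}
    (hg : g ∈ GA f a) (x : Fin n → F) (hx : Perp f a x) :
    Perp f a ((g : Matrix (Fin n) (Fin n) F) *ᵥ x) := by
  intro i
  have := hg.1 x (a i)
  rw [hg.2.2 i] at this
  rw [this]
  exact hx i

theorem hyp_trans [Finite F] (hf : Cfsg.Geo.IsUnitaryForm σ f) {m : ℕ} (a : Fin m → (Fin n → F))
    (ha : Nd f a) (hm : m + 4 ≤ n) (u v u' v' : Fin n → F)
    (hu : f u u = 0) (hv : f v v = 0) (hvu : f v u = 1) (hua : Perp f a u) (hva : Perp f a v)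
    (hu' : f u' u' = 0) (hv' : f v' v' = 0) (hv'u' : f v' u' = 1) (hu'a : Perp f a u')
    (hv'a : Perp f a v') :
    ∃ r ∈ Ra f σ a, (r : Matrix (Fin n) (Fin n) F) *ᵥ u = u' ∧
      (r : Matrix (Fin n) (Fin n) F) *ᵥ v = v' := by
  have hu0 : u ≠ 0 := by
    intro h
    rw [h, f_zero_right hf] at hvu
    exact zero_ne_one hvu
  have hu'0 : u' ≠ 0 := by
    intro h
    rw [h, f_zero_right hf] at hv'u'
    exact zero_ne_one hv'u'
  obtain ⟨r1, hr1, hr1u⟩ := h1 hf a ha (by omega) u u' hu0 hu'0 hu hu' hua hu'a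
  have hr1G := Ra_le_GA hf a hr1
  have e1 : f ((r1 : Matrix (Fin n) (Fin n) F) *ᵥ v) ((r1 : Matrix (Fin n) (Fin n) F) *ᵥ v) = 0 := by
    rw [GA_iso hr1G, hv]
  have e2 : f ((r1 : Matrix (Fin n) (Fin n) F) *ᵥ v) u' = 1 := by
    rw [← hr1u, GA_iso hr1G, hvu]
  obtain ⟨r2, hr2, hr2u, hr2v⟩ := h2 hf a ha hm u' _ v' hu' e1 hv' hu'a (GA_perp hr1G v hva) hv'a
    e2 hv'u'
  refine ⟨r2 * r1, Subgroup.mul_mem _ hr2 hr1, ?_, ?_⟩
  · rw [Cfsg.Agent.S5643.mul_mv, hr1u, hr2u]
  · rw [Cfsg.Agent.S5643.mul_mv, hr2v]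

theorem ex_hyp [Finite F] (hf : Cfsg.Geo.IsUnitaryForm σ f) {m : ℕ} (a : Fin m → (Fin n → F))
    (ha : Nd f a) (hm : m + 2 ≤ n) :
    ∃ u v, f u u = 0 ∧ f v v = 0 ∧ f v u = 1 ∧ Perp f a u ∧ Perp f a v := by
  obtain ⟨s1, hs1a, hs1⟩ := exists_noniso_perp hf a ha (by omega)
  have hnd1 := nd_cons1 hf a ha s1 hs1a hs1
  obtain ⟨s2, hs2a, hs2⟩ := exists_noniso_perp hf _ hnd1 (by omega)
  rw [perp_cons] at hs2a
  obtain ⟨hs21, hs2a⟩ := hs2a
  have hs12 : f s1 s2 = 0 := f_swap_zero hf hs21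
  have hfix : σ (-(f s1 s1) / f s2 s2) = -(f s1 s1) / f s2 s2 := by
    rw [map_div₀, map_neg, f_self_fixed hf, f_self_fixed hf]
  obtain ⟨c, hc⟩ := norm_surj hf _ hfix
  obtain ⟨u, hu⟩ : ∃ u, u = s1 + c • s2 := ⟨_, rfl⟩
  have huu : f u u = 0 := by
    simp only [hu, hf.add_left, f_add_right hf, hf.smul_left, f_smul_right hf, hs12, hs21]
    have : c * (σ c * f s2 s2) = -(f s1 s1) := by
      rw [← mul_assoc, hc]
      field_simp
    rw [this]
    ring
  have hua : Perp f a u := by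
    rw [hu]
    exact perp_add hf a _ _ hs1a (perp_smul hf a _ _ hs2a)
  have hu0 : u ≠ 0 := by
    intro h
    have : f u s1 = f s1 s1 := by
      rw [hu, hf.add_left, hf.smul_left, hs21]
      ring
    rw [h, f_zero_left hf] at this
    exact hs1 this.symm
  obtain ⟨z, hzu, hza⟩ := ex_dual hf a ha u hu0 hua
  have huz : f u z = 1 := by rw [hf.herm, hzu, map_one]
  have hfix2 : σ (-(f z z)) = -(f z z) := by rw [map_neg, f_self_fixed hf]
  obtain ⟨t, ht⟩ := trace_surj hf _ hfix2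
  refine ⟨u, z + t • u, huu, ?_, ?_, hua, perp_add hf a _ _ hza (perp_smul hf a _ _ hua)⟩
  · simp only [hf.add_left, f_add_right hf, hf.smul_left, f_smul_right hf, huu, hzu, huz]
    linear_combination ht
  · rw [hf.add_left, hf.smul_left, huu, hzu]
    ring

structure HP (f : (Fin n → F) → (Fin n → F) → F) {m : ℕ} (a : Fin m → (Fin n → F))
    (u v : Fin n → F) : Prop where
  hu : f u u = 0
  hv : f v v = 0
  hvu : f v u = 1
  hua : Perp f a u
  hva : Perp f a v

theorem HP.huv (hf : Cfsg.Geo.IsUnitaryForm σ f) {m : ℕ} {a : Fin m → (Fin n → F)}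
    {u v : Fin n → F} (hp : HP f a u v) : f u v = 1 := by
  rw [hf.herm, hp.hvu, map_one]

theorem full_basis {k : ℕ} (b : Fin k → (Fin n → F))
    (hb : Nd f b) (hk : k = n) : Submodule.span F (Set.range b) = ⊤ := by
  apply hb.li.span_eq_top_of_card_eq_finrank'
  rw [Fintype.card_fin, Module.finrank_fin_fun, hk]

theorem perp_full {k : ℕ} (b : Fin k → (Fin n → F))
    (hb : Nd f b) (hk : k = n) (y : Fin n → F) (hy : Perp f b y) : y = 0 := by
  apply hb.nd y _ hy
  rw [full_basis b hb hk]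
  exact Submodule.mem_top

theorem decomp (hf : Cfsg.Geo.IsUnitaryForm σ f) {m : ℕ} (a : Fin m → (Fin n → F))
    (ha : Nd f a) (hm : m + 2 = n) {u v : Fin n → F} (hp : HP f a u v) (x : Fin n → F)
    (hx : Perp f a x) : x = f x v • u + f x u • v := by
  have hnd := nd_cons2 hf a ha u v hp.hua hp.hva hp.hu hp.hv (by rw [hp.hvu]; exact one_ne_zero)
  have h0 : x - (f x v • u + f x u • v) = 0 := by
    apply perp_full _ hnd (by omega)
    rw [perp_cons, perp_cons]
    refine ⟨?_, ?_, ?_⟩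
    · rw [f_sub_left hf, hf.add_left, hf.smul_left, hf.smul_left, hp.hu, hp.hvu]
      ring
    · rw [f_sub_left hf, hf.add_left, hf.smul_left, hf.smul_left, hp.hv, hp.huv hf]
      ring
    · exact perp_sub hf a _ _ hx (perp_add hf a _ _ (perp_smul hf a _ _ hp.hua)
        (perp_smul hf a _ _ hp.hva))
  exact sub_eq_zero.1 h0

theorem norm_coord (hf : Cfsg.Geo.IsUnitaryForm σ f) {m : ℕ} (a : Fin m → (Fin n → F))
    (ha : Nd f a) (hm : m + 2 = n) {u v : Fin n → F} (hp : HP f a u v) (x : Fin n → F)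
    (hx : Perp f a x) : f x x = σ (f x v) * f x u + σ (f x u) * f x v := by
  have h := decomp hf a ha hm hp x hx
  have h0 : f x x = f x (f x v • u + f x u • v) := by rw [← h]
  rw [h0, f_add_right hf, f_smul_right hf, f_smul_right hf]

theorem eq_one_of_fix (hf : Cfsg.Geo.IsUnitaryForm σ f) {m : ℕ} (a : Fin m → (Fin n → F))
    (ha : Nd f a) (hm : m + 2 = n) {u v : Fin n → F} (hp : HP f a u v)
    (g : Matrix.GeneralLinearGroup (Fin n) F)
    (hu : (g : Matrix (Fin n) (Fin n) F) *ᵥ u = u) (hv : (g : Matrix (Fin n) (Fin n) F) *ᵥ v = v)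
    (hga : ∀ i, (g : Matrix (Fin n) (Fin n) F) *ᵥ a i = a i) : g = 1 := by
  have hnd := nd_cons2 hf a ha u v hp.hua hp.hva hp.hu hp.hv (by rw [hp.hvu]; exact one_ne_zero)
  have hspan := full_basis _ hnd (by omega)
  have hlin : Matrix.toLin' (g : Matrix (Fin n) (Fin n) F) = LinearMap.id := by
    apply LinearMap.ext_on hspan
    rintro x ⟨j, rfl⟩
    rw [Matrix.toLin'_apply, LinearMap.id_apply]
    refine Fin.cases ?_ (fun j' => ?_) j
    · simpa using hu
    · refine Fin.cases ?_ (fun j'' => ?_) j'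
      · simpa using hv
      · simpa using hga j''
  apply Units.ext
  apply Matrix.toLin'.injective
  rw [hlin, Units.val_one, Matrix.toLin'_one]

theorem det_diag {k : ℕ} (b : Fin k → (Fin n → F)) (hli : LinearIndependent F b) (hk : k = n)
    (g : Matrix.GeneralLinearGroup (Fin n) F) (μ : Fin k → F)
    (h : ∀ j, (g : Matrix (Fin n) (Fin n) F) *ᵥ b j = μ j • b j) :
    (g : Matrix (Fin n) (Fin n) F).det = ∏ j, μ j := by
  have hcard : Fintype.card (Fin k) = Module.finrank F (Fin n → F) := by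
    rw [Fintype.card_fin, Module.finrank_fin_fun, hk]
  have hspan : Submodule.span F (Set.range b) = ⊤ :=
    hli.span_eq_top_of_card_eq_finrank' hcard
  let B := Module.Basis.mk hli (by rw [hspan])
  have hB : ∀ j, B j = b j := fun j => by
    simp [B]
  have h1 : LinearMap.toMatrix B B (Matrix.toLin' (g : Matrix (Fin n) (Fin n) F))
      = Matrix.diagonal μ := by
    ext i j
    rw [LinearMap.toMatrix_apply, Matrix.toLin'_apply, hB, h j, map_smul, ← hB, B.repr_self,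
      Finsupp.smul_apply, Finsupp.single_apply, Matrix.diagonal_apply]
    by_cases hij : i = j
    · simp [hij]
    · have : ¬ j = i := fun h => hij h.symm
      simp [hij, this]
  rw [← LinearMap.det_toLin', ← LinearMap.det_toMatrix B, h1, Matrix.det_diagonal]

theorem st1 [Finite F] (hf : Cfsg.Geo.IsUnitaryForm σ f) {m : ℕ} (a : Fin m → (Fin n → F))
    (ha : Nd f a) (hm : m + 2 = n) {u v : Fin n → F} (hp : HP f a u v)
    (g : Matrix.GeneralLinearGroup (Fin n) F) (hg : g ∈ GA f a) :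
    ∃ r ∈ Ra f σ a, ∃ lam : F,
      ((r * g : Matrix.GeneralLinearGroup (Fin n) F) : Matrix (Fin n) (Fin n) F) *ᵥ u = lam • u := by
  obtain ⟨κ, hκ0, hκ⟩ := exists_K0 hf
  obtain ⟨x0, hx0def⟩ : ∃ x, x = (g : Matrix (Fin n) (Fin n) F) *ᵥ u := ⟨_, rfl⟩
  have hx0a : Perp f a x0 := hx0def ▸ GA_perp hg u hp.hua
  have hx0 : f x0 x0 = 0 := by rw [hx0def, GA_iso hg, hp.hu]
  have hdec := decomp hf a ha hm hp x0 hx0a
  have hiso := norm_coord hf a ha hm hp x0 hx0a
  rw [hx0] at hiso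
  obtain ⟨α, hα⟩ : ∃ α, α = f x0 v := ⟨_, rfl⟩
  obtain ⟨β, hβd⟩ : ∃ β, β = f x0 u := ⟨_, rfl⟩
  rw [← hα, ← hβd] at hdec hiso
  by_cases hβ : β = 0
  · refine ⟨1, Subgroup.one_mem _, α, ?_⟩
    rw [one_mul, ← hx0def, hdec, hβ, zero_smul, add_zero]
  · have hσβ : σ β ≠ 0 := by
      intro h
      apply hβ
      have := congrArg σ h
      rwa [hf.involutive, map_zero] at this
    have hp1 : σ (-α / β) = -(-α / β) := by
      rw [map_div₀, map_neg]
      field_simp
      linear_combination hiso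
    obtain ⟨r1, hr1, hr1x⟩ := step' hf a u hp.hu hp.hua _ hp1
    have hw : f (v + κ • u) (v + κ • u) = 0 := by
      simp only [hf.add_left, f_add_right hf, hf.smul_left, f_smul_right hf, hp.hu, hp.hv, hp.hvu,
        hp.huv hf, hκ]
      ring
    have hwa : Perp f a (v + κ • u) := perp_add hf a _ _ hp.hva (perp_smul hf a _ _ hp.hua)
    have hp2 : σ (1 / κ) = -(1 / κ) := by
      rw [map_div₀, map_one, hκ]
      field_simp
    obtain ⟨r2, hr2, hr2x⟩ := step' hf a (v + κ • u) hw hwa _ hp2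
    refine ⟨r2 * r1, Subgroup.mul_mem _ hr2 hr1, -(β * κ), ?_⟩
    rw [Cfsg.Agent.S5643.mul_mv, Cfsg.Agent.S5643.mul_mv, ← hx0def, hr1x, ← hβd]
    have e1 : x0 + (-α / β * β) • u = β • v := by
      have : -α / β * β = -α := by field_simp
      rw [this, hdec, neg_smul]
      abel
    rw [e1, hr2x, hf.smul_left, f_add_right hf, f_smul_right hf, hp.hv, hp.hvu, hκ]
    have : 1 / κ * (β * (0 + -κ * 1)) = -β := by
      field_simp
      ring
    rw [this, smul_add, smul_smul]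
    have e2 : -β * κ = -(β * κ) := by ring
    rw [e2, neg_smul, neg_smul]
    abel

theorem st2 (hf : Cfsg.Geo.IsUnitaryForm σ f) {m : ℕ} (a : Fin m → (Fin n → F))
    (ha : Nd f a) (hm : m + 2 = n) {u v : Fin n → F} (hp : HP f a u v)
    (g : Matrix.GeneralLinearGroup (Fin n) F) (hg : g ∈ GA f a) (lam : F)
    (hgu : (g : Matrix (Fin n) (Fin n) F) *ᵥ u = lam • u) :
    ∃ r ∈ Ra f σ a, ∃ δ : F,
      ((r * g : Matrix.GeneralLinearGroup (Fin n) F) : Matrix (Fin n) (Fin n) F) *ᵥ u = lam • u ∧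
      ((r * g : Matrix.GeneralLinearGroup (Fin n) F) : Matrix (Fin n) (Fin n) F) *ᵥ v = δ • v ∧
      σ lam * δ = 1 := by
  obtain ⟨x1, hx1def⟩ : ∃ x, x = (g : Matrix (Fin n) (Fin n) F) *ᵥ v := ⟨_, rfl⟩
  have hx1a : Perp f a x1 := hx1def ▸ GA_perp hg v hp.hva
  have hx1 : f x1 x1 = 0 := by rw [hx1def, GA_iso hg, hp.hv]
  have hdec := decomp hf a ha hm hp x1 hx1a
  have hiso := norm_coord hf a ha hm hp x1 hx1a
  rw [hx1] at hiso
  have h1 : σ lam * f x1 u = 1 := by
    have := GA_iso hg v u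
    rw [← hx1def, hgu, f_smul_right hf, hp.hvu] at this
    exact this
  obtain ⟨α, hα⟩ : ∃ α, α = f x1 v := ⟨_, rfl⟩
  obtain ⟨β, hβd⟩ : ∃ β, β = f x1 u := ⟨_, rfl⟩
  rw [← hα, ← hβd] at hdec hiso
  rw [← hβd] at h1
  have hβ : β ≠ 0 := by
    intro h
    rw [h, mul_zero] at h1
    exact zero_ne_one h1
  have hσβ : σ β ≠ 0 := by
    intro h
    apply hβ
    have := congrArg σ h
    rwa [hf.involutive, map_zero] at this
  have hp1 : σ (-α / β) = -(-α / β) := by
    rw [map_div₀, map_neg]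
    field_simp
    linear_combination hiso
  obtain ⟨r1, hr1, hr1x⟩ := step' hf a u hp.hu hp.hua _ hp1
  refine ⟨r1, hr1, β, ?_, ?_, h1⟩
  · rw [Cfsg.Agent.S5643.mul_mv, hgu, hr1x, hf.smul_left, hp.hu, mul_zero, mul_zero, zero_smul,
      add_zero]
  · rw [Cfsg.Agent.S5643.mul_mv, ← hx1def, hr1x, ← hβd]
    have : -α / β * β = -α := by field_simp
    rw [this, hdec, neg_smul]
    abel

theorem st3 (hf : Cfsg.Geo.IsUnitaryForm σ f) {m : ℕ} (a : Fin m → (Fin n → F))
    {u v : Fin n → F} (hp : HP f a u v)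
    (g : Matrix.GeneralLinearGroup (Fin n) F) (lam : F) (hlam : σ lam = lam) (hlam0 : lam ≠ 0)
    (hgu : (g : Matrix (Fin n) (Fin n) F) *ᵥ u = lam • u) :
    ∃ r ∈ Ra f σ a,
      ((r * g : Matrix.GeneralLinearGroup (Fin n) F) : Matrix (Fin n) (Fin n) F) *ᵥ u = u := by
  obtain ⟨κ, hκ0, hκ⟩ := exists_K0 hf
  obtain ⟨r4, hr4, hr4x⟩ := step' hf a v hp.hv hp.hva κ hκ
  have hp5 : σ ((1 - lam) / (lam * κ)) = -((1 - lam) / (lam * κ)) := by
    rw [map_div₀, map_mul, map_sub, map_one, hlam, hκ]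
    field_simp
  obtain ⟨r5, hr5, hr5x⟩ := step' hf a u hp.hu hp.hua _ hp5
  have hp6 : σ (-(κ * lam)) = -(-(κ * lam)) := by
    rw [map_neg, map_mul, hlam, hκ]
    ring
  obtain ⟨r6, hr6, hr6x⟩ := step' hf a v hp.hv hp.hva _ hp6
  refine ⟨r6 * r5 * r4, Subgroup.mul_mem _ (Subgroup.mul_mem _ hr6 hr5) hr4, ?_⟩
  rw [Cfsg.Agent.S5643.mul_mv, Cfsg.Agent.S5643.mul_mv, Cfsg.Agent.S5643.mul_mv, hgu, hr4x,
    hf.smul_left, hp.huv hf, hr5x, hf.add_left, hf.smul_left, hf.smul_left, hp.hu, hp.hvu]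
  have e1 : lam • u + (κ * (lam * 1)) • v +
      ((1 - lam) / (lam * κ) * (lam * 0 + κ * (lam * 1) * 1)) • u = u + (κ * lam) • v := by
    have : (1 - lam) / (lam * κ) * (lam * 0 + κ * (lam * 1) * 1) = 1 - lam := by field_simp; ring
    rw [this, sub_smul, one_smul, mul_one]
    abel
  rw [e1, hr6x, hf.add_left, hf.smul_left, hp.huv hf, hp.hv]
  have : -(κ * lam) * (1 + κ * lam * 0) = -(κ * lam) := by ring
  rw [this, neg_smul]
  abel

theorem st4 (hf : Cfsg.Geo.IsUnitaryForm σ f) {m : ℕ} (a : Fin m → (Fin n → F))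
    (ha : Nd f a) (hm : m + 2 = n) {u v : Fin n → F} (hp : HP f a u v)
    (g : Matrix.GeneralLinearGroup (Fin n) F) (hg : g ∈ GA f a)
    (hgu : (g : Matrix (Fin n) (Fin n) F) *ᵥ u = u) :
    ∃ r ∈ Ra f σ a,
      ((r * g : Matrix.GeneralLinearGroup (Fin n) F) : Matrix (Fin n) (Fin n) F) *ᵥ u = u ∧
      ((r * g : Matrix.GeneralLinearGroup (Fin n) F) : Matrix (Fin n) (Fin n) F) *ᵥ v = v := by
  obtain ⟨x2, hx2def⟩ : ∃ x, x = (g : Matrix (Fin n) (Fin n) F) *ᵥ v := ⟨_, rfl⟩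
  have hx2a : Perp f a x2 := hx2def ▸ GA_perp hg v hp.hva
  have hx2 : f x2 x2 = 0 := by rw [hx2def, GA_iso hg, hp.hv]
  have hdec := decomp hf a ha hm hp x2 hx2a
  have hiso := norm_coord hf a ha hm hp x2 hx2a
  rw [hx2] at hiso
  have h1 : f x2 u = 1 := by
    have := GA_iso hg v u
    rw [← hx2def, hgu, hp.hvu] at this
    exact this
  obtain ⟨α, hα⟩ : ∃ α, α = f x2 v := ⟨_, rfl⟩
  rw [← hα, h1] at hdec hiso
  have hp1 : σ (-α) = -(-α) := by
    rw [map_one] at hiso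
    rw [map_neg]
    linear_combination hiso
  obtain ⟨r1, hr1, hr1x⟩ := step' hf a u hp.hu hp.hua _ hp1
  refine ⟨r1, hr1, ?_, ?_⟩
  · rw [Cfsg.Agent.S5643.mul_mv, hgu, hr1x, hp.hu, mul_zero, zero_smul, add_zero]
  · rw [Cfsg.Agent.S5643.mul_mv, ← hx2def, hr1x, h1, mul_one, hdec, one_smul, neg_smul]
    abel

theorem det_of_SL (g : Matrix.GeneralLinearGroup (Fin n) F)
    (hg : g ∈ Cfsg.Geo.specialLinear (Fin n) F) : (g : Matrix (Fin n) (Fin n) F).det = 1 := by
  unfold Cfsg.Geo.specialLinear at hg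
  rw [MonoidHom.mem_ker] at hg
  have := congrArg Units.val hg
  simpa using this

theorem base [Finite F] (hf : Cfsg.Geo.IsUnitaryForm σ f) {m : ℕ} (a : Fin m → (Fin n → F))
    (ha : Nd f a) (hm : m + 2 = n) (g : Matrix.GeneralLinearGroup (Fin n) F) (hg : g ∈ GA f a) :
    g ∈ Ra f σ a := by
  obtain ⟨u, v, hu, hv, hvu, hua, hva⟩ := ex_hyp hf a ha (by omega)
  have hp : HP f a u v := ⟨hu, hv, hvu, hua, hva⟩
  obtain ⟨r1, hr1, lam, h1⟩ := st1 hf a ha hm hp g hg
  have hg1 : r1 * g ∈ GA f a := Subgroup.mul_mem _ (Ra_le_GA hf a hr1) hg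
  obtain ⟨r2, hr2, δ, h2u, h2v, h2⟩ := st2 hf a ha hm hp (r1 * g) hg1 lam h1
  have hg2 : r2 * (r1 * g) ∈ GA f a := Subgroup.mul_mem _ (Ra_le_GA hf a hr2) hg1
  have hδ0 : δ ≠ 0 := by
    intro h
    rw [h, mul_zero] at h2
    exact zero_ne_one h2
  have hdet : lam * δ = 1 := by
    have hnd := nd_cons2 hf a ha u v hua hva hu hv (by rw [hvu]; exact one_ne_zero)
    have hd := det_diag (Fin.cons u (Fin.cons v a) : Fin (m + 1 + 1) → (Fin n → F)) hnd.li
      (by omega) (r2 * (r1 * g)) (Fin.cons lam (Fin.cons δ (fun _ => 1))) (by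
        intro j
        refine Fin.cases ?_ (fun j' => ?_) j
        · simpa using h2u
        · refine Fin.cases ?_ (fun j'' => ?_) j'
          · simpa using h2v
          · simpa using hg2.2.2 j'')
    rw [det_of_SL _ hg2.2.1, Fin.prod_univ_succ, Fin.prod_univ_succ] at hd
    simp only [Fin.cons_zero, Fin.cons_succ, Finset.prod_const_one, mul_one] at hd
    exact hd.symm
  have hlam : σ lam = lam := by
    have : (σ lam - lam) * δ = 0 := by linear_combination h2 - hdet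
    rcases mul_eq_zero.1 this with h | h
    · exact sub_eq_zero.1 h
    · exact absurd h hδ0
  have hlam0 : lam ≠ 0 := by
    intro h
    rw [h, zero_mul] at hdet
    exact zero_ne_one hdet
  obtain ⟨r3, hr3, h3⟩ := st3 hf a hp (r2 * (r1 * g)) lam hlam hlam0 h2u
  have hg3 : r3 * (r2 * (r1 * g)) ∈ GA f a := Subgroup.mul_mem _ (Ra_le_GA hf a hr3) hg2
  obtain ⟨r4, hr4, h4u, h4v⟩ := st4 hf a ha hm hp _ hg3 h3
  have hg4 : r4 * (r3 * (r2 * (r1 * g))) ∈ GA f a := Subgroup.mul_mem _ (Ra_le_GA hf a hr4) hg3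
  have hone := eq_one_of_fix hf a ha hm hp _ h4u h4v hg4.2.2
  have hgeq : g = (r4 * (r3 * (r2 * r1)))⁻¹ := by
    apply eq_inv_of_mul_eq_one_right
    rw [← hone]
    group
  rw [hgeq]
  exact Subgroup.inv_mem _ (Subgroup.mul_mem _ hr4 (Subgroup.mul_mem _ hr3
    (Subgroup.mul_mem _ hr2 hr1)))

theorem even_ind [Finite F] (hf : Cfsg.Geo.IsUnitaryForm σ f) :
    ∀ (k : ℕ) {m : ℕ} (a : Fin m → (Fin n → F)), Nd f a → m + 2 * k + 2 = n →
      ∀ g ∈ GA f a, g ∈ Ra f σ a := by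
  intro k
  induction k with
  | zero =>
    intro m a ha hm g hg
    exact base hf a ha (by omega) g hg
  | succ k ih =>
    intro m a ha hm g hg
    obtain ⟨u, v, hu, hv, hvu, hua, hva⟩ := ex_hyp hf a ha (by omega)
    obtain ⟨r, hr, hru, hrv⟩ := hyp_trans hf a ha (by omega)
      ((g : Matrix (Fin n) (Fin n) F) *ᵥ u) ((g : Matrix (Fin n) (Fin n) F) *ᵥ v) u v
      (by rw [GA_iso hg, hu]) (by rw [GA_iso hg, hv]) (by rw [GA_iso hg, hvu])
      (GA_perp hg u hua) (GA_perp hg v hva) hu hv hvu hua hva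
    have hrg : r * g ∈ GA f a := Subgroup.mul_mem _ (Ra_le_GA hf a hr) hg
    have hnd := nd_cons2 hf a ha u v hua hva hu hv (by rw [hvu]; exact one_ne_zero)
    have hrg' : r * g ∈ GA f (Fin.cons u (Fin.cons v a) : Fin (m + 1 + 1) → (Fin n → F)) := by
      refine ⟨hrg.1, hrg.2.1, fun j => ?_⟩
      refine Fin.cases ?_ (fun j' => ?_) j
      · rw [Cfsg.Agent.S5643.mul_mv]
        simpa using hru
      · refine Fin.cases ?_ (fun j'' => ?_) j'
        · rw [Cfsg.Agent.S5643.mul_mv]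
          simpa using hrv
        · simpa using hrg.2.2 j''
    have h1 := ih _ hnd (by omega) (r * g) hrg'
    have h2 : r * g ∈ Ra f σ a := by
      refine Ra_mono a _ (fun y hy => ?_) h1
      rw [perp_cons, perp_cons] at hy
      exact hy.2.2
    have : g = r⁻¹ * (r * g) := by group
    rw [this]
    exact Subgroup.mul_mem _ (Subgroup.inv_mem _ hr) h2

def e0 : Fin 0 → (Fin n → F) := Fin.elim0

theorem nd_e0 : Nd f (e0 : Fin 0 → (Fin n → F)) := by
  refine ⟨linearIndependent_empty_type, ?_⟩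
  intro v hv _
  have : Set.range (e0 : Fin 0 → (Fin n → F)) = ∅ := Set.range_eq_empty _
  rw [this, Submodule.span_empty, Submodule.mem_bot] at hv
  exact hv

theorem perp_e0 (v : Fin n → F) : Perp f (e0 : Fin 0 → (Fin n → F)) v := fun i => Fin.elim0 i

theorem n1a (hf : Cfsg.Geo.IsUnitaryForm σ f) (x y : Fin n → F) (hxy : f x x = f y y)
    (hw : f (y - x) (y - x) = 0) (hne : f x (y - x) ≠ 0) :
    ∃ r ∈ Ra f σ (e0 : Fin 0 → (Fin n → F)), (r : Matrix (Fin n) (Fin n) F) *ᵥ x = y := by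
  have hσ : σ (f x (y - x)) = -(f x (y - x)) := by
    have h1 : f (y - x) (y - x) = f y y - f y x - f x y + f x x := by
      rw [f_sub_left hf, f_sub_right hf, f_sub_right hf]
      ring
    rw [hw] at h1
    rw [f_sub_right hf, map_sub, ← hf.herm, f_self_fixed hf]
    linear_combination h1 - hxy
  obtain ⟨r, hr, hrx, _⟩ := move1 hf e0 x (y - x) hw (perp_e0 _) hne hσ
  refine ⟨r, hr, ?_⟩
  rw [hrx]
  abel

theorem n1b [Finite F] (hf : Cfsg.Geo.IsUnitaryForm σ f) (hn : 6 < n) (x y : Fin n → F)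
    (hxy : f x x = f y y) (hx0 : x ≠ 0) (hyx : y ∉ Submodule.span F {x}) :
    ∃ r ∈ Ra f σ (e0 : Fin 0 → (Fin n → F)), (r : Matrix (Fin n) (Fin n) F) *ᵥ x = y := by
  obtain ⟨κ, hκ0, hκ⟩ := exists_K0 hf
  have hNfix : σ (f x x) = f x x := f_self_fixed hf x
  have hfix : σ (2 * f x x - f x y - f y x) = 2 * f x x - f x y - f y x := by
    rw [map_sub, map_sub, map_mul, map_ofNat, hNfix, ← hf.herm, ← hf.herm]
    ring
  obtain ⟨t0, ht0⟩ := trace_surj hf _ hfix
  obtain ⟨b1, hb1, hb1ne⟩ : ∃ b1, b1 + σ b1 = 2 * f x x - f x y - f y x ∧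
      f x y - f x x + b1 ≠ 0 := by
    by_cases h : f x y - f x x + t0 = 0
    · refine ⟨t0 + κ, ?_, ?_⟩
      · rw [map_add, hκ]
        linear_combination ht0
      · have : f x y - f x x + (t0 + κ) = κ := by linear_combination h
        rw [this]
        exact hκ0
    · exact ⟨t0, ht0, h⟩
  obtain ⟨u, hu, hux⟩ := exists_iso hf ![x, y] (li2 x y hx0 hyx) ![κ, b1] (by omega)
  have hux0 : f u x = κ := by simpa using hux 0
  have huy : f u y = b1 := by simpa using hux 1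
  have hxu : f x u = -κ := by rw [hf.herm, hux0, hκ]
  have hyu : f y u = σ b1 := by rw [hf.herm, huy]
  have hzz : f (x + u) (x + u) = f x x := by
    simp only [hf.add_left, f_add_right hf, hu, hux0, hxu]
    ring
  obtain ⟨r1, hr1, hr1x⟩ := n1a hf x (x + u) hzz.symm (by
    have : x + u - x = u := by abel
    rw [this]
    exact hu) (by
    have : x + u - x = u := by abel
    rw [this, hxu]
    exact neg_ne_zero.2 hκ0)
  obtain ⟨r2, hr2, hr2x⟩ := n1a hf (x + u) y (hzz.trans hxy) (by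
    simp only [f_sub_left hf, f_sub_right hf, hf.add_left, f_add_right hf, hu, hux0, hxu, huy, hyu]
    linear_combination (-1 : F) * hb1 - hxy) (by
    simp only [f_sub_right hf, hf.add_left, f_add_right hf, hu, hux0, hxu, huy]
    intro h
    apply hb1ne
    linear_combination h)
  refine ⟨r2 * r1, Subgroup.mul_mem _ hr2 hr1, ?_⟩
  rw [Cfsg.Agent.S5643.mul_mv, hr1x, hr2x]

theorem n1 [Finite F] (hf : Cfsg.Geo.IsUnitaryForm σ f) (hn : 6 < n) (x y : Fin n → F)
    (hxy : f x x = f y y) (hN : f x x ≠ 0) :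
    ∃ r ∈ Ra f σ (e0 : Fin 0 → (Fin n → F)), (r : Matrix (Fin n) (Fin n) F) *ᵥ x = y := by
  have hx0 : x ≠ 0 := by
    intro h
    rw [h, f_zero_left hf] at hN
    exact hN rfl
  have hy0 : y ≠ 0 := by
    intro h
    rw [hxy, h, f_zero_left hf] at hN
    exact hN rfl
  by_cases hyx : y ∈ Submodule.span F {x}
  · obtain ⟨κ, hκ0, hκ⟩ := exists_K0 hf
    obtain ⟨u, hu, hux⟩ := ex1 hf (by omega) x hx0 κ
    have hxu : f x u = -κ := by rw [hf.herm, hux, hκ]
    have hzz : f (x + u) (x + u) = f x x := by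
      simp only [hf.add_left, f_add_right hf, hu, hux, hxu]
      ring
    have hzx : x + u ∉ Submodule.span F {x} := by
      intro h
      rw [Submodule.mem_span_singleton] at h
      obtain ⟨c, hc⟩ := h
      have hu' : u = (c - 1) • x := by
        rw [sub_smul, one_smul, hc]
        abel
      have h1 : f u x = (c - 1) * f x x := by rw [hu', hf.smul_left]
      have h2 : f u u = (c - 1) * (σ (c - 1) * f x x) := by
        rw [hu', hf.smul_left, f_smul_right hf]
      rw [hu] at h2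
      have h3 : c - 1 = 0 := by
        rcases mul_eq_zero.1 h2.symm with h | h
        · exact h
        · rcases mul_eq_zero.1 h with h' | h'
          · have := congrArg σ h'
            rwa [hf.involutive, map_zero] at this
          · exact absurd h' hN
      rw [h3, zero_mul] at h1
      rw [hux] at h1
      exact hκ0 h1
    have hz0 : x + u ≠ 0 := by
      intro h
      apply hzx
      rw [h]
      exact Submodule.zero_mem _
    obtain ⟨r1, hr1, hr1x⟩ := n1a hf x (x + u) hzz.symm (by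
      have : x + u - x = u := by abel
      rw [this]
      exact hu) (by
      have : x + u - x = u := by abel
      rw [this, hxu]
      exact neg_ne_zero.2 hκ0)
    have hyz : y ∉ Submodule.span F {x + u} := by
      intro h
      rw [Submodule.mem_span_singleton] at h
      obtain ⟨c, hc⟩ := h
      rw [Submodule.mem_span_singleton] at hyx
      obtain ⟨d, hd⟩ := hyx
      have hc0 : c ≠ 0 := by
        intro h0
        rw [h0, zero_smul] at hc
        exact hy0 hc.symm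
      apply hzx
      rw [Submodule.mem_span_singleton]
      refine ⟨c⁻¹ * d, ?_⟩
      rw [mul_smul, hd, ← hc, smul_smul, inv_mul_cancel₀ hc0, one_smul]
    obtain ⟨r2, hr2, hr2x⟩ := n1b hf hn (x + u) y (hzz.trans hxy) hz0 hyz
    refine ⟨r2 * r1, Subgroup.mul_mem _ hr2 hr1, ?_⟩
    rw [Cfsg.Agent.S5643.mul_mv, hr1x, hr2x]
  · exact n1b hf hn x y hxy hx0 hyx

def UT (f : (Fin n → F) → (Fin n → F) → F) (σ : F ≃+* F) :
    Set (Matrix.GeneralLinearGroup (Fin n) F) :=
  {g | ∃ (y : Fin n → F) (c : F), f y y = 0 ∧ σ c = -c ∧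
    ∀ x, (g : Matrix (Fin n) (Fin n) F) *ᵥ x = x + f x (c • y) • y}

theorem Ra_e0_le : Ra f σ (e0 : Fin 0 → (Fin n → F)) ≤ Subgroup.closure (UT f σ) := by
  unfold Ra
  apply Subgroup.closure_mono
  rintro g ⟨y, c, hy, hc, _, hg⟩
  exact ⟨y, c, hy, hc, hg⟩

theorem gen [Finite F] (hf : Cfsg.Geo.IsUnitaryForm σ f) (hn : (Even n ∧ 2 ≤ n) ∨ 7 ≤ n)
    (g : Matrix.GeneralLinearGroup (Fin n) F)
    (hiso : ∀ x y, f ((g : Matrix (Fin n) (Fin n) F) *ᵥ x)
      ((g : Matrix (Fin n) (Fin n) F) *ᵥ y) = f x y)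
    (hSL : g ∈ Cfsg.Geo.specialLinear (Fin n) F) : g ∈ Subgroup.closure (UT f σ) := by
  apply Ra_e0_le
  have hg0 : g ∈ GA f (e0 : Fin 0 → (Fin n → F)) := ⟨hiso, hSL, fun i => Fin.elim0 i⟩
  rcases Nat.even_or_odd n with he | ho
  · have h2 : 2 ≤ n := by
      rcases hn with h | h
      · exact h.2
      · omega
    obtain ⟨k, hk⟩ := he
    exact even_ind hf (k - 1) e0 nd_e0 (by omega) g hg0
  · have h7 : 7 ≤ n := by
      rcases hn with h | h
      · exact absurd h.1 (Nat.not_even_iff_odd.2 ho)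
      · exact h
    obtain ⟨k, hk⟩ := ho
    obtain ⟨s, _, hs⟩ := exists_noniso_perp hf (e0 : Fin 0 → (Fin n → F)) nd_e0 (by omega)
    have hfix : σ (1 / f s s) = 1 / f s s := by
      rw [map_div₀, map_one, f_self_fixed hf]
    obtain ⟨c, hc⟩ := norm_surj hf _ hfix
    have hx1 : f (c • s) (c • s) = 1 := by
      rw [hf.smul_left, f_smul_right hf, ← mul_assoc, hc]
      field_simp
    obtain ⟨r, hr, hrx⟩ := n1 hf (by omega) ((g : Matrix (Fin n) (Fin n) F) *ᵥ (c • s)) (c • s)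
      (by rw [hiso]) (by rw [hiso, hx1]; exact one_ne_zero)
    have hrg : r * g ∈ GA f (e0 : Fin 0 → (Fin n → F)) :=
      Subgroup.mul_mem _ (Ra_le_GA hf e0 hr) hg0
    have hnd := nd_cons1 hf e0 nd_e0 (c • s) (perp_e0 _) (by rw [hx1]; exact one_ne_zero)
    have hrg' : r * g ∈ GA f (Fin.cons (c • s) e0 : Fin (0 + 1) → (Fin n → F)) := by
      refine ⟨hrg.1, hrg.2.1, fun j => ?_⟩
      refine Fin.cases ?_ (fun j' => Fin.elim0 j') j
      rw [Cfsg.Agent.S5643.mul_mv]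
      simpa using hrx
    have h1 := even_ind hf (k - 1) _ hnd (by omega) (r * g) hrg'
    have h2 : r * g ∈ Ra f σ (e0 : Fin 0 → (Fin n → F)) :=
      Ra_mono e0 _ (fun y _ => perp_e0 y) h1
    have : g = r⁻¹ * (r * g) := by group
    rw [this]
    exact Subgroup.mul_mem _ (Subgroup.inv_mem _ hr) h2

end Cfsg.Agent.Lib.Helper28.UGen
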