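import Mathlib
import Cfsg.Agent.Lib.Helper19.G2V.Defs

/-! # G2V row E2A (helper28): `n_b = x_b(1) x_{-b}(-1) x_b(1)`. -/

set_option autoImplicit false

namespace Cfsg.Agent.Lib.Helper19.G2V

open Cfsg.Lie Cfsg.Lie.ChevalleyDatum Matrix
open Cfsg.Agent.Lib.helper8
open Cfsg.Agent.Lib.helper23.P4V

universe u

variable {F : Type u} [Field F]

/-- the general form: `n_r(t) = x_r(t) x_{-r}(-t⁻¹) x_r(t)` in the units. -/
theorem g2ve2a_nU (r : ℕ) (t : F) :
    h8nU chevG2 hB r t = X r t * X (chevG2.neg r) (-t⁻¹) * X r t := by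
  unfold h8nU h8wordU ChevalleyDatum.nWord X
  simp [mul_assoc]

/-- **E2A** [S]. -/
theorem nb_eq : (nb : GG F) = X 6 1 * X 5 (-1) * X 6 1 := by
  unfold nb
  rw [g2ve2a_nU]
  have h : chevG2.neg 6 = 5 := by decide
  rw [h, inv_one]

theorem g2ve2a_na_eq : (na : GG F) = X 7 1 * X 4 (-1) * X 7 1 := by
  unfold na
  rw [g2ve2a_nU]
  have h : chevG2.neg 7 = 4 := by decide
  rw [h, inv_one]

theorem g2ve2a_nrho_eq : (nrho : GG F) = X 11 1 * X 0 (-1) * X 11 1 := by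
  unfold nrho
  rw [g2ve2a_nU]
  have h : chevG2.neg 11 = 0 := by decide
  rw [h, inv_one]

end Cfsg.Agent.Lib.Helper19.G2V
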