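import Mathlib
import Cfsg.Agent.Lib.Helper19.G2V.Defs
import Cfsg.Agent.Lib.Helper28.G2VE2A
import Cfsg.Agent.Lib.helper8.ChevBN3
import Cfsg.Agent.S1031

/-! # G2V row E2B (helper28): `n_b n_a n_b ∈ Pp * X 3 r * Pp`. -/

set_option autoImplicit false

namespace Cfsg.Agent.Lib.Helper19.G2V

open Cfsg.Lie Cfsg.Lie.ChevalleyDatum Matrix
open Cfsg.Agent.Lib.helper8
open Cfsg.Agent.Lib.helper23.P4V

universe u

variable {F : Type u} [Field F]

/-- S1031 in the units: conjugation of a root element by `n_{p_i}(1)`. -/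
theorem g2ve2b_conj (i s : ℕ) (hi : i < 2) (hs : s < 12) :
    ∃ η : ℤ, (η = 1 ∨ η = -1) ∧ ∀ t : F,
      h8nU chevG2 hB (chevG2.simple i) 1 * X s t * (h8nU chevG2 hB (chevG2.simple i) (1 : F))⁻¹ =
        X (chevG2.reflectRoot i s) ((η : F) * t) := by
  obtain ⟨η, hη, h⟩ := Cfsg.Agent.S1031.result (F := F) chevG2 (by simp) i s hi hs
  refine ⟨η, hη, fun t => ?_⟩
  rw [mul_inv_eq_iff_eq_mul]
  apply Units.ext
  rw [Units.val_mul, Units.val_mul]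
  unfold X
  rw [h8nU_val, h8xU_val, h8xU_val]
  exact h t

/-- positive root elements lie in `Pp`. -/
theorem g2ve2b_Xpos_mem_Pp (r : ℕ) (hr : chevG2.IsPosRoot r) (t : F) : X r t ∈ Pp F :=
  Subgroup.mem_sup_left (Subgroup.mem_sup_left (Subgroup.subset_closure ⟨r, t, hr, rfl⟩))

theorem g2ve2b_H_le_Pp : chevG2.diagonalSubgroup F ≤ Pp F :=
  le_trans le_sup_right (le_sup_left (a := chevG2.borelSubgroup F))

theorem g2ve2b_na_mem_Pp : (na : GG F) ∈ Pp F :=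
  Subgroup.mem_sup_right (Subgroup.subset_closure ⟨0, rfl, by decide, h8nU_val chevG2 hB _ 1⟩)

/-- **E2B** [M]. -/
theorem nbab_form : ∃ r : F, r ≠ 0 ∧ ∃ p ∈ Pp F, ∃ p' ∈ Pp F, (nb * na * nb : GG F) = p * X 3 r * p' := by
  obtain ⟨η7, hη7, h7⟩ := g2ve2b_conj (F := F) 1 7 (by decide) (by decide)
  obtain ⟨η4, hη4, h4⟩ := g2ve2b_conj (F := F) 1 4 (by decide) (by decide)
  have hs : chevG2.simple 1 = 6 := by decide
  have hr7 : chevG2.reflectRoot 1 7 = 8 := by decide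
  have hr4 : chevG2.reflectRoot 1 4 = 3 := by decide
  rw [hs, hr7] at h7
  rw [hs, hr4] at h4
  have hnb : (nb : GG F) = h8nU chevG2 hB 6 1 := rfl
  have e : (nb * na * nb : GG F) =
      X 8 ((η7 : F) * 1) * X 3 ((η4 : F) * (-1)) * (X 8 ((η7 : F) * 1) * (nb * nb)) := by
    rw [← h7 1, ← h4 (-1), ← hnb, g2ve2a_na_eq]
    group
  refine ⟨(η4 : F) * (-1), ?_, X 8 ((η7 : F) * 1), g2ve2b_Xpos_mem_Pp 8 (by decide) _,
    X 8 ((η7 : F) * 1) * (nb * nb), ?_, e⟩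
  · rcases hη4 with h | h <;> rw [h] <;> norm_num
  · refine (Pp F).mul_mem (g2ve2b_Xpos_mem_Pp 8 (by decide) _) (g2ve2b_H_le_Pp ?_)
    exact h8nU_sq_mem_H chevG2 hB 6 (by decide)

end Cfsg.Agent.Lib.Helper19.G2V
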