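import Mathlib
import Cfsg.Agent.Lib.Helper19.G2V.Defs
import Cfsg.Agent.Lib.Helper28.G2VE2A
import Cfsg.Agent.Lib.Helper28.G2VE2B
import Cfsg.Agent.Lib.helper8.ChevBN3
import Cfsg.Agent.S1031
import Cfsg.Agent.S1038

/-! # G2V row E2C (helper28): `n_b n_a n_b n_a n_b ∈ Pp * X 0 r * Pp`. -/

set_option autoImplicit false

namespace Cfsg.Agent.Lib.Helper19.G2V

open Cfsg.Lie Cfsg.Lie.ChevalleyDatum Matrix
open Cfsg.Agent.Lib.helper8
open Cfsg.Agent.Lib.helper23.P4V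

universe u

variable {F : Type u} [Field F]

/-- `H` is normalised by `N` (S1038), elementwise. -/
theorem g2ve2c_conj_mem_H (n h : GG F) (hn : n ∈ chevG2.monomialSubgroup F)
    (hh : h ∈ chevG2.diagonalSubgroup F) : n * h * n⁻¹ ∈ chevG2.diagonalSubgroup F := by
  have hnorm := Cfsg.Agent.S1038.result (F := F) chevG2 (by simp)
  have hHN : chevG2.diagonalSubgroup F ≤ chevG2.monomialSubgroup F := le_sup_left
  have hmem : (⟨h, hHN hh⟩ : chevG2.monomialSubgroup F) ∈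
      (chevG2.diagonalSubgroup F).subgroupOf (chevG2.monomialSubgroup F) := by
    rw [Subgroup.mem_subgroupOf]
    exact hh
  have := hnorm.conj_mem _ hmem ⟨n, hn⟩
  rw [Subgroup.mem_subgroupOf] at this
  simpa using this

/-- **E2C** [M]. -/
theorem nbabab_form :
    ∃ r : F, r ≠ 0 ∧ ∃ p ∈ Pp F, ∃ p' ∈ Pp F, (nb * na * nb * na * nb : GG F) = p * X 0 r * p' := by
  obtain ⟨η1, hη1, h1⟩ := g2ve2b_conj (F := F) 0 6 (by decide) (by decide)
  obtain ⟨η2, hη2, h2⟩ := g2ve2b_conj (F := F) 1 10 (by decide) (by decide)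
  obtain ⟨η3, hη3, h3⟩ := g2ve2b_conj (F := F) 0 5 (by decide) (by decide)
  obtain ⟨η4, hη4, h4⟩ := g2ve2b_conj (F := F) 1 1 (by decide) (by decide)
  have hs0 : chevG2.simple 0 = 7 := by decide
  have hs1 : chevG2.simple 1 = 6 := by decide
  have hr1 : chevG2.reflectRoot 0 6 = 10 := by decide
  have hr2 : chevG2.reflectRoot 1 10 = 11 := by decide
  have hr3 : chevG2.reflectRoot 0 5 = 1 := by decide
  have hr4 : chevG2.reflectRoot 1 1 = 0 := by decide
  rw [hs0, hr1] at h1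
  rw [hs1, hr2] at h2
  rw [hs0, hr3] at h3
  rw [hs1, hr4] at h4
  have hnb : (nb : GG F) = h8nU chevG2 hB 6 1 := rfl
  have hna : (na : GG F) = h8nU chevG2 hB 7 1 := rfl
  rw [← hna] at h1 h3
  rw [← hnb] at h2 h4
  -- conjugation by `c = nb * na`
  have hc6 : ∀ t : F, (nb * na) * X 6 t * (nb * na)⁻¹ = X 11 ((η2 : F) * ((η1 : F) * t)) := by
    intro t
    rw [← h2, ← h1]
    group
  have hc5 : ∀ t : F, (nb * na) * X 5 t * (nb * na)⁻¹ = X 0 ((η4 : F) * ((η3 : F) * t)) := by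
    intro t
    rw [← h4, ← h3]
    group
  have hH : (nb * na * na * nb : GG F) ∈ chevG2.diagonalSubgroup F := by
    have e : (nb * na * na * nb : GG F) = (nb * (na * na) * nb⁻¹) * (nb * nb) := by group
    rw [e]
    refine Subgroup.mul_mem _ (g2ve2c_conj_mem_H _ _ (h8nU_mem_N chevG2 hB 6 (by decide)) ?_) ?_
    · exact h8nU_sq_mem_H chevG2 hB 7 (by decide)
    · exact h8nU_sq_mem_H chevG2 hB 6 (by decide)
  have e : (nb * na * nb * na * nb : GG F) =
      X 11 ((η2 : F) * ((η1 : F) * 1)) * X 0 ((η4 : F) * ((η3 : F) * (-1))) *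
        (X 11 ((η2 : F) * ((η1 : F) * 1)) * (nb * na * na * nb)) := by
    rw [← hc6 1, ← hc5 (-1)]
    have e2 : (nb * na * nb * na * nb : GG F) =
        ((nb * na) * (X 6 1 * X 5 (-1) * X 6 1) * (nb * na)⁻¹) * (nb * na * na * nb) := by
      rw [← nb_eq]
      group
    rw [e2]
    group
  refine ⟨(η4 : F) * ((η3 : F) * (-1)), ?_, X 11 ((η2 : F) * ((η1 : F) * 1)),
    g2ve2b_Xpos_mem_Pp 11 (by decide) _, X 11 ((η2 : F) * ((η1 : F) * 1)) * (nb * na * na * nb), ?_, e⟩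
  · rcases hη3 with h | h <;> rcases hη4 with h' | h' <;> rw [h, h'] <;> norm_num
  · exact (Pp F).mul_mem (g2ve2b_Xpos_mem_Pp 11 (by decide) _) (g2ve2b_H_le_Pp hH)

end Cfsg.Agent.Lib.Helper19.G2V
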