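import Cfsg.Agent.Lib.Helper28.Gen4B

set_option autoImplicit false

/-! Part C: reduction to Sylow subgroups. -/

namespace Cfsg.Agent.Lib.Helper28.Gen4

open scoped Pointwise

variable {H : Type*} [Group H]

/-- the group generated by two commuting involutions is a `2`-group -/
theorem isPGroup_closure_pair {A : Type*} [Group A] (α β : A) (hα : α * α = 1) (hβ : β * β = 1)
    (hαβ : α * β = β * α) : IsPGroup 2 ↥(Subgroup.closure ({α, β} : Set A)) := by
  have hcomm : IsMulCommutative ↥(Subgroup.closure ({α, β} : Set A)) := by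
    apply Subgroup.isMulCommutative_closure
    intro x hx y hy
    rcases hx with rfl | rfl <;> rcases hy with rfl | rfl
    · rfl
    · exact hαβ
    · exact hαβ.symm
    · rfl
  have hsq : ∀ w ∈ Subgroup.closure ({α, β} : Set A), w * w = 1 := by
    intro w hw
    induction hw using Subgroup.closure_induction with
    | mem x hx =>
      rcases hx with rfl | rfl
      · exact hα
      · exact hβ
    | one => exact one_mul 1
    | mul x y hx hy ihx ihy =>
      have hc : x * y = y * x := by
        have := mul_comm' (⟨x, hx⟩ : ↥(Subgroup.closure ({α, β} : Set A))) ⟨y, hy⟩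
        exact congrArg Subtype.val this
      calc x * y * (x * y) = x * (y * x) * y := by group
        _ = x * (x * y) * y := by rw [hc]
        _ = (x * x) * (y * y) := by group
        _ = 1 := by rw [ihx, ihy, one_mul]
    | inv x hx ihx =>
      have : x⁻¹ = x := inv_eq_of_mul_eq_one_left ihx
      rw [this]; exact ihx
  intro w
  refine ⟨1, ?_⟩
  apply Subtype.ext
  rw [pow_one, pow_two]
  exact hsq w.1 w.2

/-- an invariant Sylow subgroup -/
theorem exists_invariant_sylow {K : Type*} [Group K] [Finite K] (hK : Odd (Nat.card K))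
    (α β : K ≃* K) (hα : ∀ k, α (α k) = k) (hβ : ∀ k, β (β k) = k)
    (hαβ : ∀ k, α (β k) = β (α k)) (q : ℕ) [Fact q.Prime] :
    ∃ S : Sylow q K, (∀ s ∈ S, α s ∈ S) ∧ ∀ s ∈ S, β s ∈ S := by
  have h1 : (α : MulAut K) * α = 1 := by
    ext k; exact hα k
  have h2 : (β : MulAut K) * β = 1 := by
    ext k; exact hβ k
  have h3 : (α : MulAut K) * β = β * α := by
    ext k; exact hαβ k
  have hW := isPGroup_closure_pair (A := MulAut K) α β h1 h2 h3
  have hcard := hW.card_modEq_card_fixedPoints (Sylow q K)
  have hodd : Odd (Nat.card (Sylow q K)) := by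
    obtain ⟨P⟩ : Nonempty (Sylow q K) := inferInstance
    have h4 : Nat.card (Sylow q K) ∣ Nat.card K :=
      (Sylow.card_dvd_index P).trans (Subgroup.index_dvd_card _)
    exact Odd.of_dvd_nat hK h4
  have hne : Nat.card (MulAction.fixedPoints ↥(Subgroup.closure ({(α : MulAut K), β} : Set (MulAut K)))
      (Sylow q K)) ≠ 0 := by
    intro h0
    rw [h0] at hcard
    have := Nat.odd_iff.mp hodd
    have h5 : Nat.card (Sylow q K) % 2 = 0 % 2 := hcard
    omega
  have hne' : Nonempty (MulAction.fixedPoints ↥(Subgroup.closure ({(α : MulAut K), β} : Set (MulAut K)))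
      (Sylow q K)) := by
    by_contra hcon
    rw [not_nonempty_iff] at hcon
    exact hne Nat.card_of_isEmpty
  obtain ⟨⟨S, hS⟩⟩ := hne'
  rw [MulAction.mem_fixedPoints] at hS
  refine ⟨S, ?_, ?_⟩
  · intro s hs
    have h6 := hS ⟨α, Subgroup.subset_closure (by simp)⟩
    have h7 : (α : MulAut K) • S = S := h6
    have h8 : (α : MulAut K) • s ∈ (α : MulAut K) • (S : Subgroup K) :=
      Subgroup.smul_mem_pointwise_smul s _ _ hs
    rw [← Sylow.pointwise_smul_def, h7] at h8
    exact h8
  · intro s hs
    have h6 := hS ⟨β, Subgroup.subset_closure (by simp)⟩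
    have h7 : (β : MulAut K) • S = S := h6
    have h8 : (β : MulAut K) • s ∈ (β : MulAut K) • (S : Subgroup K) :=
      Subgroup.smul_mem_pointwise_smul s _ _ hs
    rw [← Sylow.pointwise_smul_def, h7] at h8
    exact h8

/-- four-group generation: an odd-order subgroup normalized by two commuting involutions lies in
the join of the centralizers of `a`, `b`, `a * b` -/
theorem le_X3 (a b : H) (ha : a * a = 1) (hb : b * b = 1) (hab : a * b = b * a)
    (K : Subgroup H) [Finite K] (hodd : Odd (Nat.card K))
    (haK : a ∈ Subgroup.normalizer (K : Set H)) (hbK : b ∈ Subgroup.normalizer (K : Set H)) :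
    K ≤ X3 a b := by
  -- the automorphisms
  have hα : ∀ k, conjAut K a haK (conjAut K a haK k) = k := by
    intro k
    apply Subtype.ext
    rw [conjAut_coe, conjAut_coe]
    have : a⁻¹ = a := inv_eq_of_mul_eq_one_left ha
    rw [this]
    calc a * (a * ↑k * a) * a = (a * a) * ↑k * (a * a) := by group
      _ = ↑k := by rw [ha, one_mul, mul_one]
  have hβ : ∀ k, conjAut K b hbK (conjAut K b hbK k) = k := by
    intro k
    apply Subtype.ext
    rw [conjAut_coe, conjAut_coe]
    have : b⁻¹ = b := inv_eq_of_mul_eq_one_left hb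
    rw [this]
    calc b * (b * ↑k * b) * b = (b * b) * ↑k * (b * b) := by group
      _ = ↑k := by rw [hb, one_mul, mul_one]
  have hαβ : ∀ k, conjAut K a haK (conjAut K b hbK k) = conjAut K b hbK (conjAut K a haK k) := by
    intro k
    apply Subtype.ext
    rw [conjAut_coe, conjAut_coe, conjAut_coe, conjAut_coe]
    have hab' : a⁻¹ * b⁻¹ = b⁻¹ * a⁻¹ := by
      rw [← mul_inv_rev, ← mul_inv_rev, hab]
    calc a * (b * ↑k * b⁻¹) * a⁻¹ = (a * b) * ↑k * (b⁻¹ * a⁻¹) := by group
      _ = (b * a) * ↑k * (a⁻¹ * b⁻¹) := by rw [hab, hab']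
      _ = b * (a * ↑k * a⁻¹) * b⁻¹ := by group
  -- the part of `K` inside `X3`
  have htop : (X3 a b).subgroupOf K = ⊤ := by
    rw [← Subgroup.index_eq_one]
    by_contra hne
    obtain ⟨q, hq, hqdvd⟩ := Nat.exists_prime_and_dvd hne
    haveI : Fact q.Prime := ⟨hq⟩
    obtain ⟨S, hSa, hSb⟩ := exists_invariant_sylow hodd (conjAut K a haK) (conjAut K b hbK)
      hα hβ hαβ q
    -- the Sylow subgroup lies in `X3`
    have hS : (S : Subgroup ↥K).map K.subtype ≤ X3 a b := by
      have hle : (S : Subgroup ↥K).map K.subtype ≤ K := by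
        rintro _ ⟨k, -, rfl⟩
        exact k.2
      have hfin : Finite ↥((S : Subgroup ↥K).map K.subtype) :=
        Finite.of_injective _ (Subgroup.inclusion_injective hle)
      have hcard : Nat.card ↥((S : Subgroup ↥K).map K.subtype) = Nat.card ↥(S : Subgroup ↥K) :=
        Subgroup.card_map_of_injective K.subtype_injective
      have hodd' : Odd (Nat.card ↥((S : Subgroup ↥K).map K.subtype)) := by
        rw [hcard]
        exact Odd.of_dvd_nat hodd (Subgroup.card_subgroup_dvd_card _)
      have hpg : IsPGroup q ↥((S : Subgroup ↥K).map K.subtype) := S.2.map _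
      have hsol : Group.IsSolvable ↥((S : Subgroup ↥K).map K.subtype) := by
        haveI := hpg.isNilpotent
        infer_instance
      have hnorm : ∀ (c : H) (hc : c ∈ Subgroup.normalizer (K : Set H)),
          (∀ s ∈ S, conjAut K c hc s ∈ S) → (∀ k : ↥K, conjAut K c hc (conjAut K c hc k) = k) →
          c ∈ Subgroup.normalizer (((S : Subgroup ↥K).map K.subtype : Subgroup H) : Set H) := by
        intro c hc hS hinv
        rw [Subgroup.mem_normalizer_iff]
        intro x
        constructor
        · rintro ⟨s, hs, rfl⟩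
          exact ⟨conjAut K c hc s, hS s hs, rfl⟩
        · rintro ⟨s, hs, hsx⟩
          have hxK : x ∈ K := by
            have h1 : c * x * c⁻¹ ∈ K := by rw [← hsx]; exact s.2
            exact ((Subgroup.mem_normalizer_iff.mp hc) x).mpr h1
          refine ⟨conjAut K c hc s, hS s hs, ?_⟩
          have h2 : s = conjAut K c hc ⟨x, hxK⟩ := Subtype.ext hsx
          rw [h2, hinv]
          rfl
      exact le_X3_of_solvable a b ha hb hab _ _ rfl hfin hodd' hsol
        (hnorm a haK hSa hα) (hnorm b hbK hSb hβ)
    have hS' : (S : Subgroup ↥K) ≤ (X3 a b).subgroupOf K := by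
      intro s hs
      rw [Subgroup.mem_subgroupOf]
      exact hS ⟨s, hs, rfl⟩
    have h1 : ((X3 a b).subgroupOf K).index ∣ (S : Subgroup ↥K).index :=
      Subgroup.index_dvd_of_le hS'
    exact S.not_dvd_index (hqdvd.trans h1)
  intro k hk
  have : (⟨k, hk⟩ : ↥K) ∈ (X3 a b).subgroupOf K := by rw [htop]; trivial
  exact Subgroup.mem_subgroupOf.mp this

end Cfsg.Agent.Lib.Helper28.Gen4
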