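import Mathlib
import Cfsg.Agent.Lib.Helper13.S5955.Defs

/-!
# S5955 row T9 (LAGODD), core (helper28): `i` odd, an invariant non-degenerate `N ≤ ker Φ_r(x)` has an invariant
Lagrangian.  The rows T1 (perp_inv), T3 (peel_ti), T7 (nd_even) enter as hypotheses.
-/

set_option autoImplicit false

namespace Cfsg.Agent.Lib.Helper13.S5955

open Polynomial Module

theorem s5955t9_core {F : Type*} [Field F] [Fintype F] {p : ℕ} [Fact p.Prime] [CharP F p]
    {V : Type*} [AddCommGroup V] [Module F V] [FiniteDimensional F V]
    {r : ℕ} [Fact r.Prime] (hrp : r ≠ p) {B : LinearMap.BilinForm F V} {x : Module.End F V}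
    (h : SCtx r B x) (hodd : Odd (orderOf ((Fintype.card F : ℕ) : ZMod r)))
    (hperp : ∀ U : Submodule F V, SInv x U → SInv x (B.orthogonal U))
    (hpeel : ∀ N U : Submodule F V, SInv x N → SND B N → U ≤ N → SInv x U → STI B U →
      ∃ N' : Submodule F V, N' ≤ N ∧ SInv x N' ∧ SND B N' ∧ SOrth B U N' ∧ Disjoint U N' ∧
        finrank F N' + 2 * finrank F U = finrank F N)
    (heven : ∀ N : Submodule F V, SND B N → Even (finrank F N)) :
    ∀ (n : ℕ) (N : Submodule F V), finrank F N = n → SInv x N → N ≤ cycS r x → SND B N →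
      ∃ T : Submodule F V, T ≤ N ∧ SInv x T ∧ STI B T ∧ 2 * finrank F T = finrank F N := by
  set i := orderOf ((Fintype.card F : ℕ) : ZMod r) with hi
  have hipos : 0 < i := Cfsg.Agent.Lib.Helper24.el_ord_pos (F := F) (p := p) r hrp
  have hQ0 : cyclotomic r F ≠ 0 := cyclotomic_ne_zero r F
  have hdeg : ∀ P : F[X], Irreducible P → P ∣ cyclotomic r F → P.natDegree = i :=
    fun P hP hPd => Cfsg.Agent.Lib.Helper24.el_cyc_deg (F := F) (p := p) r hrp P hP hPd
  have hskew : ∀ u v : V, B u v = - B v u := by
    intro u v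
    have h1 := h.alt (u + v)
    simp only [map_add, LinearMap.add_apply, h.alt u, h.alt v, zero_add, add_zero] at h1
    have : B u v + B v u = 0 := by rw [add_comm]; exact h1
    exact eq_neg_of_add_eq_zero_left this
  intro n
  induction n using Nat.strong_induction_on with
  | _ n ih =>
    intro N hn hN hNc hNnd
    by_cases h0 : n = 0
    · refine ⟨⊥, bot_le, Cfsg.Agent.Lib.Helper24.el_inv_bot x, ?_, ?_⟩
      · intro u hu v _
        rw [(Submodule.mem_bot F).mp hu, map_zero, LinearMap.zero_apply]
      · rw [finrank_bot, hn, h0]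
    · have hkillN : ∀ u ∈ N, aeval x (cyclotomic r F) u = 0 := fun u hu =>
        LinearMap.mem_ker.mp (hNc hu)
      have hdvdN : i ∣ finrank F N :=
        Cfsg.Agent.Lib.Helper24.el_dvd_dim x N hN (cyclotomic r F) hQ0 hkillN i hipos hdeg
      have hile : 1 * i ≤ finrank F N := by
        rw [one_mul]
        apply Nat.le_of_dvd _ hdvdN
        omega
      obtain ⟨Y, hYN, hY, hYd⟩ :=
        Cfsg.Agent.Lib.Helper24.el_exists_dim x N hN (cyclotomic r F) hQ0 hkillN i hdeg 1 hile
      rw [one_mul] at hYd
      -- the radical of Y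
      have hRinv : SInv x (Y ⊓ B.orthogonal Y) :=
        Cfsg.Agent.Lib.Helper24.el_inv_inf hY (hperp Y hY)
      have hRkill : ∀ u ∈ Y ⊓ B.orthogonal Y, aeval x (cyclotomic r F) u = 0 := fun u hu =>
        hkillN u (hYN hu.1)
      have hRdvd : i ∣ finrank F ↥(Y ⊓ B.orthogonal Y) :=
        Cfsg.Agent.Lib.Helper24.el_dvd_dim x _ hRinv (cyclotomic r F) hQ0 hRkill i hipos hdeg
      have hRle : finrank F ↥(Y ⊓ B.orthogonal Y) ≤ finrank F Y :=
        Submodule.finrank_mono inf_le_left
      have hYti : STI B Y := by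
        by_cases hR0 : finrank F ↥(Y ⊓ B.orthogonal Y) = 0
        · exfalso
          have hbot : Y ⊓ B.orthogonal Y = ⊥ := Submodule.finrank_eq_zero.mp hR0
          have hYnd : SND B Y := by
            intro u hu huv
            have : u ∈ Y ⊓ B.orthogonal Y := by
              refine ⟨hu, ?_⟩
              show u ∈ B.orthogonal Y
              rw [LinearMap.BilinForm.mem_orthogonal_iff]
              intro m hm
              show B m u = 0
              rw [hskew, huv m hm, neg_zero]
            rw [hbot] at this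
            exact (Submodule.mem_bot F).mp this
          have := heven Y hYnd
          rw [hYd] at this
          exact (Nat.not_even_iff_odd.mpr hodd) this
        · have hReq : finrank F ↥(Y ⊓ B.orthogonal Y) = finrank F Y := by
            obtain ⟨k, hk⟩ := hRdvd
            rw [hYd] at hRle ⊢
            rcases Nat.eq_zero_or_pos k with hk0 | hkpos
            · rw [hk0, mul_zero] at hk; exact absurd hk hR0
            · have : i * k ≥ i * 1 := Nat.mul_le_mul_left i hkpos
              rw [hk]
              rw [hk] at hRle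
              omega
          have hRY : Y ⊓ B.orthogonal Y = Y :=
            Submodule.eq_of_le_of_finrank_eq inf_le_left hReq
          intro u hu v hv
          have hv' : v ∈ B.orthogonal Y := by
            have : v ∈ Y ⊓ B.orthogonal Y := by rw [hRY]; exact hv
            exact this.2
          rw [LinearMap.BilinForm.mem_orthogonal_iff] at hv'
          exact hv' u hu
      obtain ⟨N', hN'N, hN', hN'nd, hort, hdisj, hdim⟩ := hpeel N Y hN hNnd hYN hY hYti
      have hlt : finrank F N' < n := by
        rw [← hn, ← hdim, hYd]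
        omega
      obtain ⟨T', hT'N', hT', hT'ti, hT'd⟩ :=
        ih (finrank F N') hlt N' rfl hN' (le_trans hN'N hNc) hN'nd
      refine ⟨Y ⊔ T', sup_le hYN (le_trans hT'N' hN'N),
        Cfsg.Agent.Lib.Helper24.el_inv_sup hY hT', ?_, ?_⟩
      · intro u hu v hv
        obtain ⟨y1, hy1, t1, ht1, rfl⟩ := Submodule.mem_sup.mp hu
        obtain ⟨y2, hy2, t2, ht2, rfl⟩ := Submodule.mem_sup.mp hv
        simp only [map_add, LinearMap.add_apply]
        rw [hYti y1 hy1 y2 hy2, hort y1 hy1 t2 (hT'N' ht2), hT'ti t1 ht1 t2 ht2,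
          hskew t1 y2, hort y2 hy2 t1 (hT'N' ht1)]
        simp
      · have hdisj' : Disjoint Y T' := hdisj.mono_right hT'N'
        have hsum := Submodule.finrank_sup_add_finrank_inf_eq Y T'
        rw [hdisj'.eq_bot, finrank_bot, add_zero] at hsum
        rw [hsum, ← hdim]
        omega

end Cfsg.Agent.Lib.Helper13.S5955
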