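import Mathlib
import Cfsg.Agent.Lib.Helper13.S5955.Defs
import Cfsg.Agent.Lib.Helper28.S5955T9core
import Cfsg.Agent.Lib.Helper28.S5955N1core
import Cfsg.Agent.Lib.Helper5.S5955T1
import Cfsg.Agent.Lib.Helper5.S5955T6
import Cfsg.Agent.Lib.Helper5.S5955T7
import Cfsg.Agent.Lib.Lead.S5955T2
import Cfsg.Agent.Lib.Lead.S5955T3

/-!
# S5955 rows T9 (LAGODD) and N1 (NECDIM), verbatim (helper28)
-/

set_option autoImplicit false

namespace Cfsg.Agent.Lib.Helper13.S5955

open Polynomial Module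

theorem lag_odd {F : Type*} [Field F] [Fintype F] {p : ℕ} [Fact p.Prime] [CharP F p]
    {V : Type*} [AddCommGroup V] [Module F V] [FiniteDimensional F V]
    {r : ℕ} [Fact r.Prime] (hrp : r ≠ p) {B : LinearMap.BilinForm F V} {x : Module.End F V}
    (h : SCtx r B x) (hodd : Odd (orderOf ((Fintype.card F : ℕ) : ZMod r)))
    (N : Submodule F V) (hN : SInv x N) (hNc : N ≤ cycS r x) (hNnd : SND B N) :
    ∃ T : Submodule F V, T ≤ N ∧ SInv x T ∧ STI B T ∧ 2 * finrank F T = finrank F N := by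
  have hr0 : 0 < r := (Fact.out : r.Prime).pos
  have hrF : (r : F) ≠ 0 := Cfsg.Agent.Lib.Helper24.el_cast_ne_zero (F := F) (p := p) r hrp
  exact s5955t9_core hrp h hodd
    (fun U hU => perp_inv hr0 h U hU)
    (fun N U hN hNnd hUN hU hUti => peel_ti hrF h N U hN hNnd hUN hU hUti)
    (fun N hNnd => nd_even B h.alt N hNnd)
    (finrank F N) N rfl hN hNc hNnd

theorem nec_dim {F : Type*} [Field F] [Fintype F] {p : ℕ} [Fact p.Prime] [CharP F p]
    {V : Type*} [AddCommGroup V] [Module F V] [FiniteDimensional F V]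
    {r : ℕ} [Fact r.Prime] (hrp : r ≠ p) {B : LinearMap.BilinForm F V} {x : Module.End F V}
    (h : SCtx r B x) (W : Submodule F V) (hW : SInv x W) (hWti : STI B W) :
    ∃ w1 s : ℕ, finrank F W = w1 + s * orderOf ((Fintype.card F : ℕ) : ZMod r) ∧
      2 * w1 ≤ finrank F (fixS x) := by
  exact s5955n1_core hrp h (split hrp h).2.2.1
    (fun N T hN hTN hT => ti_le_half B N T hN hTN hT) W hW hWti

end Cfsg.Agent.Lib.Helper13.S5955
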