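import Mathlib
import Cfsg.Agent.Lib.helper17.SLP.Defs
import Cfsg.Agent.Lib.helper15.SL2Card

/-! # SLP row FIN1 (helper28), core: `SL₂(F)`, `F` of odd order, has a presentation with 3 generators and at most 9
relations; the cited rows (X1 C1 N1 P1 M1 M3 M4 F4) enter as hypotheses. -/

set_option autoImplicit false

namespace Cfsg.Agent.Lib.helper17.SLP

universe u v

/-- own copy of the `wordsSL` part of row P2. -/
theorem slpfin1_ev_wordsSL {G : Type v} [Group G] (u h w : G) (n : ℕ) (az : FreeGroup (Fin 3)) :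
    (∀ r ∈ wordsSL n az, ev u h w r = 1) ↔
      (w * h * w⁻¹ = h⁻¹ ∧ w ^ 2 = h ^ n ∧ relK1 u w = 1 ∧ relK2 (ev u h w az) h w = 1) := by
  simp only [wordsSL, List.forall_mem_cons, List.not_mem_nil, false_imp_iff, implies_true, and_true,
    map_mul, map_pow, map_inv, map_relK1, map_relK2, ev_gU, ev_gH, ev_gW, mul_inv_eq_one]
  rw [mul_eq_one_iff_eq_inv]

theorem slpfin1_hM_one {F : Type u} [Field F] : hM (1 : Fˣ) = (1 : Matrix.SpecialLinearGroup (Fin 2) F) := by
  apply Subtype.ext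
  ext i j
  fin_cases i <;> fin_cases j <;> simp [hM]

theorem slpfin1_hM_pow {F : Type u} [Field F]
    (hhMmul : ∀ s t : Fˣ, (hM s * hM t : Matrix.SpecialLinearGroup (Fin 2) F) = hM (s * t))
    (s : Fˣ) (n : ℕ) : (hM s : Matrix.SpecialLinearGroup (Fin 2) F) ^ n = hM (s ^ n) := by
  induction n with
  | zero => rw [pow_zero, pow_zero, slpfin1_hM_one]
  | succ n ih => rw [pow_succ, pow_succ, ih, hhMmul]

/-- Core of SLP FIN1. -/
theorem slpfin1_core {F : Type u} [Field F] [Fintype F] (h2 : (2 : F) ≠ 0)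
    (ζ : Fˣ) (hζ : ∀ y : Fˣ, y ∈ Subgroup.zpowers ζ)
    (hX1 : ∃ (A : List (FreeGroup (Fin 3))) (az : FreeGroup (Fin 3)), A.length ≤ 5 ∧
      (∀ r ∈ A, ev (xM (1 : F)) (hM ζ) wM r = 1) ∧ ev (xM (1 : F)) (hM ζ) wM az = xM (ζ : F) ∧
      ∀ (G : Type) [Group G] (u h w : G), (∀ r ∈ A, ev u h w r = 1) →
        ∃ x : F → G, (∀ s t, x (s + t) = x s * x t) ∧
          (∀ t, h * x t * h⁻¹ = x ((ζ : F) ^ 2 * t)) ∧ x 1 = u ∧ x (ζ : F) = ev u h w az)
    (hC1 : ∀ (G : Type) [Group G] (u h w : G) (N : ℕ), 0 < N →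
      Subgroup.closure {u, h, w} = ⊤ → ∀ (x : F → G), (∀ s t, x (s + t) = x s * x t) →
      (∀ t, h * x t * h⁻¹ = x ((ζ : F) ^ 2 * t)) → x 1 = u →
      h ^ N = 1 → w * h * w⁻¹ = h⁻¹ → w ^ 2 ∈ Subgroup.zpowers h →
      relK1 u w = 1 → relK2 (x (ζ : F)) h w = 1 →
      Finite G ∧ Nat.card G ≤ Fintype.card F * N * (Fintype.card F + 1))
    (hN1 : ∀ (G : Type) [Group G] (h w : G) (n : ℕ), w * h * w⁻¹ = h⁻¹ → w ^ 2 = h ^ n →
      h ^ (2 * n) = 1)
    (hP1 : ∀ (L : List (FreeGroup (Fin 3))) (a b c : Matrix.SpecialLinearGroup (Fin 2) F),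
      Subgroup.closure {a, b, c} = ⊤ → (∀ r ∈ L, ev a b c r = 1) →
      (∀ (G : Type) [Group G] (u h w : G), Subgroup.closure {u, h, w} = ⊤ →
        (∀ r ∈ L, ev u h w r = 1) →
        Finite G ∧ Nat.card G ≤ Nat.card (Matrix.SpecialLinearGroup (Fin 2) F)) →
      Nonempty (PresentedGroup (↑L.toFinset : Set (FreeGroup (Fin 3))) ≃*
        Matrix.SpecialLinearGroup (Fin 2) F))
    (hM4 : Subgroup.closure {xM (1 : F), hM ζ, wM} = ⊤)
    (hF4 : (ζ : F) ^ ((Fintype.card F - 1) / 2) = -1)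
    (hwMhM : wM * hM ζ * wM⁻¹ = (hM ζ)⁻¹)
    (hwMsq : (wM : Matrix.SpecialLinearGroup (Fin 2) F) ^ 2 = hM (-1))
    (hhMmul : ∀ s t : Fˣ, (hM s * hM t : Matrix.SpecialLinearGroup (Fin 2) F) = hM (s * t))
    (hK1M : relK1 (xM (1 : F)) wM = 1) (hK2M : relK2 (xM (ζ : F)) (hM ζ) wM = 1) :
    ∃ rels : Finset (FreeGroup (Fin 3)), rels.card ≤ 9 ∧
      Nonempty (PresentedGroup (↑rels : Set (FreeGroup (Fin 3))) ≃*
        Matrix.SpecialLinearGroup (Fin 2) F) := by
  classical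
  have _ := hζ
  obtain ⟨A, az, hlen, hrelA, haz, habs⟩ := hX1
  set q := Fintype.card F with hq
  set n := (q - 1) / 2 with hn
  -- `q ≥ 3`
  have hq2 : 2 ≤ q := Fintype.one_lt_card
  have hq3 : 3 ≤ q := by
    rcases Nat.lt_or_ge 2 q with h | h
    · exact h
    · exfalso
      have h2q : q = 2 := le_antisymm h hq2
      apply h2
      have := Nat.cast_card_eq_zero F
      rw [← hq, h2q] at this
      exact_mod_cast this
  have hn1 : 1 ≤ n := by omega
  have h2n : 2 * n ≤ q - 1 := by omega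
  refine ⟨(A ++ wordsSL n az).toFinset, ?_, ?_⟩
  · refine le_trans (List.toFinset_card_le _) ?_
    rw [List.length_append]
    have : (wordsSL n az).length = 4 := rfl
    omega
  · apply hP1 (A ++ wordsSL n az) (xM 1) (hM ζ) wM hM4
    · intro r hr
      rcases List.mem_append.1 hr with hr | hr
      · exact hrelA r hr
      · refine (slpfin1_ev_wordsSL (xM (1 : F)) (hM ζ) wM n az).2 ⟨hwMhM, ?_, hK1M, ?_⟩ r hr
        · rw [hwMsq, slpfin1_hM_pow hhMmul]
          congr 1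
          apply Units.ext
          rw [Units.val_pow_eq_pow_val, hF4]
          simp
        · rw [haz]
          exact hK2M
    · intro G _ u h w hgen hL
      have hA : ∀ r ∈ A, ev u h w r = 1 := fun r hr => hL r (List.mem_append_left _ hr)
      have hW : ∀ r ∈ wordsSL n az, ev u h w r = 1 :=
        fun r hr => hL r (List.mem_append_right _ hr)
      obtain ⟨hwh, hw2, hK1, hK2⟩ := (slpfin1_ev_wordsSL u h w n az).1 hW
      obtain ⟨x, hadd, hconj, hx1, hxζ⟩ := habs G u h w hA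
      have hN : h ^ (2 * n) = 1 := hN1 G h w n hwh hw2
      have hw2' : w ^ 2 ∈ Subgroup.zpowers h := by
        rw [hw2]
        exact Subgroup.pow_mem _ (Subgroup.mem_zpowers h) n
      obtain ⟨hfin, hcard⟩ := hC1 G u h w (2 * n) (by omega) hgen x hadd hconj hx1 hN hwh hw2' hK1
        (by rw [hxζ]; exact hK2)
      refine ⟨hfin, le_trans hcard ?_⟩
      rw [Cfsg.Agent.Lib.helper15.card_SL2, ← hq]
      obtain ⟨m, hm⟩ : ∃ m, q = m + 1 := ⟨q - 1, by omega⟩
      rw [hm] at h2n ⊢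
      have e1 : (m + 1) ^ 2 - 1 = m * (m + 1 + 1) := by
        have : (m + 1) ^ 2 = m * (m + 1 + 1) + 1 := by ring
        omega
      rw [e1, mul_assoc]
      apply Nat.mul_le_mul_left
      apply Nat.mul_le_mul_right
      simpa using h2n

end Cfsg.Agent.Lib.helper17.SLP
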