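import Cfsg.Agent.Lib.Helper28.UMax
import Cfsg.Agent.Lib.Helper28.DecGen

set_option autoImplicit false

open Cfsg

namespace Cfsg.Agent.Lib.Helper28.UPair

open Matrix Cfsg.Agent.Lib.Helper28.UForm Cfsg.Agent.Lib.Helper28.UGen
  Cfsg.Agent.Lib.Helper28.UMax Cfsg.Agent.Lib.Helper28.DecGen

variable {n : ℕ} {F : Type*} [Field F] {σ : F ≃+* F} {f : (Fin n → F) → (Fin n → F) → F}

def srAct (f : (Fin n → F) → (Fin n → F) → F) (σ : F ≃+* F) (a : F) (w u x : Fin n → F) :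
    Fin n → F :=
  x + (a * f x w) • u - (σ a * f x u) • w

theorem sr_ex (hf : Cfsg.Geo.IsUnitaryForm σ f) (w u : Fin n → F) (hw : f w w = 0)
    (hu : f u u = 0) (huw : f u w = 0) (a : F) :
    ∃ g : Matrix.GeneralLinearGroup (Fin n) F, g ∈ Cfsg.Geo.specialLinear (Fin n) F ∧
      (∀ x y, f ((g : Matrix (Fin n) (Fin n) F) *ᵥ x) ((g : Matrix (Fin n) (Fin n) F) *ᵥ y) =
        f x y) ∧
      ∀ x, (g : Matrix (Fin n) (Fin n) F) *ᵥ x = srAct f σ a w u x := by
  obtain ⟨g, hgS, hg, hgiso⟩ := siegel hf w (a • u) hw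
    (by rw [hf.smul_left, huw, mul_zero]) 0
    (by rw [map_zero, add_zero, hf.smul_left, f_smul_right hf, hu, mul_zero, mul_zero, neg_zero])
  refine ⟨g, hgS, hgiso, ?_⟩
  intro x
  rw [hg]
  unfold srAct
  rw [f_smul_right hf, zero_mul, zero_smul, add_zero, smul_smul, mul_comm (f x w) a]

def SRU (f : (Fin n → F) → (Fin n → F) → F) (σ : F ≃+* F)
    (M : Subgroup (Matrix.GeneralLinearGroup (Fin n) F)) (w u : Fin n → F) : Prop :=
  ∀ a : F, ∀ B : Matrix.GeneralLinearGroup (Fin n) F,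
    (∀ x, (B : Matrix (Fin n) (Fin n) F) *ᵥ x = srAct f σ a w u x) → B ∈ M

theorem SRU_conj (hf : Cfsg.Geo.IsUnitaryForm σ f)
    (M : Subgroup (Matrix.GeneralLinearGroup (Fin n) F)) (w u : Fin n → F) (hw : f w w = 0)
    (hu : f u u = 0) (huw : f u w = 0) (h : SRU f σ M w u)
    (g : Matrix.GeneralLinearGroup (Fin n) F) (hg : g ∈ M)
    (hiso : ∀ x y, f ((g : Matrix (Fin n) (Fin n) F) *ᵥ x)
      ((g : Matrix (Fin n) (Fin n) F) *ᵥ y) = f x y) :
    SRU f σ M ((g : Matrix (Fin n) (Fin n) F) *ᵥ w) ((g : Matrix (Fin n) (Fin n) F) *ᵥ u) := by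
  intro a B hB
  obtain ⟨B0, _, _, hB0⟩ := sr_ex hf w u hw hu huw a
  have hB0M : B0 ∈ M := h a B0 hB0
  have : B = g * B0 * g⁻¹ := by
    apply glx
    intro x
    rw [hB, Units.val_mul, Units.val_mul, ← Matrix.mulVec_mulVec, ← Matrix.mulVec_mulVec, hB0]
    unfold srAct
    have e1 : ∀ y, f (((g⁻¹ : Matrix.GeneralLinearGroup (Fin n) F) :
        Matrix (Fin n) (Fin n) F) *ᵥ x) y = f x ((g : Matrix (Fin n) (Fin n) F) *ᵥ y) := by
      intro y
      have := hiso (((g⁻¹ : Matrix.GeneralLinearGroup (Fin n) F) :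
        Matrix (Fin n) (Fin n) F) *ᵥ x) y
      rw [gl_cancel'] at this
      exact this.symm
    rw [e1, e1, Matrix.mulVec_sub, Matrix.mulVec_add, gl_cancel', Matrix.mulVec_smul,
      Matrix.mulVec_smul]
  rw [this]
  exact M.mul_mem (M.mul_mem hg hB0M) (M.inv_mem hg)

theorem comm1 (hf : Cfsg.Geo.IsUnitaryForm σ f)
    (A B S : Matrix.GeneralLinearGroup (Fin n) F)
    (u v p q : Fin n → F) (t : F)
    (huu : f u u = 0) (hpp : f p p = 0)
    (huv : f u v = 0) (hpq : f p q = 0)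
    (hup : f u p = 0) (huq : f u q = 0) (hvp : f v p = 0)
    (hA : ∀ x, (A : Matrix (Fin n) (Fin n) F) *ᵥ x = srAct f σ 1 u v x)
    (hB : ∀ x, (B : Matrix (Fin n) (Fin n) F) *ᵥ x = srAct f σ t p q x)
    (hS : ∀ x, (S : Matrix (Fin n) (Fin n) F) *ᵥ x = srAct f σ (-(t * f q v)) p u x) :
    B * S * A = A * B := by
  apply glx
  intro x
  have hvu := f_swap_zero hf huv
  have hqp := f_swap_zero hf hpq
  have hpu := f_swap_zero hf hup
  have hqu := f_swap_zero hf huq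
  have hpv := f_swap_zero hf hvp
  have hvq : f v q = σ (f q v) := hf.herm v q
  rw [Units.val_mul, Units.val_mul, Units.val_mul, ← Matrix.mulVec_mulVec, ← Matrix.mulVec_mulVec,
    ← Matrix.mulVec_mulVec, hA, hS, hB, hB, hA]
  unfold srAct
  simp only [hf.add_left, f_sub_left hf, hf.smul_left, huu, hpp, hpq, hup, huq, hvp,
    hvu, hpu, hqu, hpv, hvq, map_one, map_neg, map_mul, one_mul, mul_zero, sub_zero, add_zero]
  module

theorem comm2 (hf : Cfsg.Geo.IsUnitaryForm σ f)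
    (C S T : Matrix.GeneralLinearGroup (Fin n) F)
    (u v p : Fin n → F) (μ : F)
    (huu : f u u = 0)
    (huv : f u v = 0) (hup : f u p = 0)
    (hC : ∀ x, (C : Matrix (Fin n) (Fin n) F) *ᵥ x = srAct f σ 1 u v x)
    (hS : ∀ x, (S : Matrix (Fin n) (Fin n) F) *ᵥ x = srAct f σ μ p u x)
    (hT : ∀ x, (T : Matrix (Fin n) (Fin n) F) *ᵥ x =
      x + f x ((μ * σ (f p v) - σ μ * f p v) • u) • u) :
    C * S = S * T * C := by
  apply glx
  intro x
  have hvu := f_swap_zero hf huv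
  have hpu := f_swap_zero hf hup
  have hvp : f v p = σ (f p v) := hf.herm v p
  rw [Units.val_mul, Units.val_mul, Units.val_mul, ← Matrix.mulVec_mulVec, ← Matrix.mulVec_mulVec,
    ← Matrix.mulVec_mulVec, hS, hC, hC, hT, hS]
  unfold srAct
  simp only [hf.add_left, f_sub_left hf, hf.smul_left, f_smul_right hf, huu, huv, hup, hvu, hpu,
    hvp, map_one, map_sub, map_mul, hf.involutive, one_mul, mul_zero, sub_zero, add_zero]
  module

theorem skew_surj (hf : Cfsg.Geo.IsUnitaryForm σ f) (c : F) (hc : σ c = -c) :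
    ∃ μ : F, μ - σ μ = c := by
  obtain ⟨c₀, hc₀, hc₀'⟩ := exists_K0 hf
  have hfix : σ (c / c₀) = c / c₀ := by
    rw [map_div₀, hc, hc₀', neg_div_neg_eq]
  obtain ⟨t, ht⟩ := trace_surj hf _ hfix
  refine ⟨c₀ * t, ?_⟩
  rw [map_mul, hc₀']
  have : c = c₀ * (c / c₀) := by field_simp
  rw [this, ← ht]
  ring

theorem dual_ij (hf : Cfsg.Geo.IsUnitaryForm σ f) {k : ℕ}
    (D : Fin 2 → Submodule F (Fin n → F)) (hD : Cfsg.Geo.IsMDecomposition k D)
    (hts : ∀ i, Cfsg.Geo.IsTotallySingularFor f (D i))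
    (i j : Fin 2) (hij : i ≠ j) (A : Submodule F (Fin n → F)) (hA : A ≤ D i)
    (u : Fin n → F) (hu : u ∈ D i) (huA : u ∉ A) :
    ∃ v ∈ D j, (∀ a ∈ A, f a v = 0) ∧ f u v = 1 := by
  obtain ⟨y0, hy0A, hy0u⟩ := dperp hf A u huA
  obtain ⟨y, hy⟩ : ∃ y : Fin n → F, y = (σ (f u y0))⁻¹ • y0 := ⟨_, rfl⟩
  have hyA : ∀ a ∈ A, f a y = 0 := by
    intro a ha
    rw [hy, f_smul_right hf, hy0A a ha, mul_zero]
  have hyu : f u y = 1 := by
    rw [hy, f_smul_right hf, map_inv₀, hf.involutive, inv_mul_cancel₀ hy0u]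
  obtain ⟨y1, hy1, y2, hy2, hsplit⟩ := split_ij D hD i j hij y
  refine ⟨y2, hy2, ?_, ?_⟩
  · intro a ha
    have := hyA a ha
    rw [hsplit, f_add_right hf, hts i a (hA ha) y1 hy1, zero_add] at this
    exact this
  · rw [hsplit, f_add_right hf, hts i u hu y1 hy1, zero_add] at hyu
    exact hyu

theorem dual0 (hf : Cfsg.Geo.IsUnitaryForm σ f) {k : ℕ}
    (D : Fin 2 → Submodule F (Fin n → F)) (hD : Cfsg.Geo.IsMDecomposition k D)
    (hts : ∀ i, Cfsg.Geo.IsTotallySingularFor f (D i))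
    (i j : Fin 2) (hij : i ≠ j)
    (u : Fin n → F) (hu : u ∈ D i) (hu0 : u ≠ 0) :
    ∃ v ∈ D j, f u v = 1 := by
  obtain ⟨v, hv, _, h⟩ := dual_ij hf D hD hts i j hij ⊥ bot_le u hu
    (fun h => hu0 ((Submodule.mem_bot F).mp h))
  exact ⟨v, hv, h⟩

theorem sr_mem_H {k : ℕ}
    (D : Fin 2 → Submodule F (Fin n → F)) (hD : Cfsg.Geo.IsMDecomposition k D)
    (hts : ∀ i, Cfsg.Geo.IsTotallySingularFor f (D i))
    (i j : Fin 2) (hij : i ≠ j) (w u : Fin n → F) (hw : w ∈ D i) (hu : u ∈ D j)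
    (a : F) (g : Matrix.GeneralLinearGroup (Fin n) F)
    (hg : ∀ x, (g : Matrix (Fin n) (Fin n) F) *ᵥ x = srAct f σ a w u x) :
    g ∈ Cfsg.Geo.decompositionStabilizer D := by
  apply stab_of_maps D hD.finrank_eq g 1
  intro l x hx
  rw [hg, Equiv.Perm.one_apply]
  unfold srAct
  rcases fin2_cases i j l hij with h | h
  · subst h
    rw [hts l x hx w hw, mul_zero, zero_smul, add_zero]
    exact (D l).sub_mem hx ((D l).smul_mem _ hw)
  · subst h
    rw [hts l x hx u hu, mul_zero, zero_smul, sub_zero]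
    exact (D l).add_mem hx ((D l).smul_mem _ hu)

theorem SRU_of_H (hf : Cfsg.Geo.IsUnitaryForm σ f) {k : ℕ}
    (D : Fin 2 → Submodule F (Fin n → F)) (hD : Cfsg.Geo.IsMDecomposition k D)
    (hts : ∀ i, Cfsg.Geo.IsTotallySingularFor f (D i))
    (G : Subgroup (Matrix.GeneralLinearGroup (Fin n) F))
    (hG : ∀ g : Matrix.GeneralLinearGroup (Fin n) F, g ∈ G ↔
      (∀ x y, f ((g : Matrix (Fin n) (Fin n) F) *ᵥ x) ((g : Matrix (Fin n) (Fin n) F) *ᵥ y) = f x y) ∧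
        g ∈ Cfsg.Geo.specialLinear (Fin n) F)
    (M : Subgroup (Matrix.GeneralLinearGroup (Fin n) F))
    (hHM : Cfsg.Geo.decompositionStabilizer D ⊓ G ≤ M)
    (i j : Fin 2) (hij : i ≠ j) (w u : Fin n → F) (hw : w ∈ D i) (hu : u ∈ D j)
    (huw : f u w = 0) : SRU f σ M w u := by
  intro a B hB
  obtain ⟨B0, hB0S, hB0iso, hB0⟩ := sr_ex hf w u (hts i w hw w hw) (hts j u hu u hu) huw a
  have : B = B0 := by
    apply glx
    intro x
    rw [hB, hB0]
  rw [this]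
  exact hHM (Subgroup.mem_inf.mpr ⟨sr_mem_H D hD hts i j hij w u hw hu a B0 hB0,
    (hG B0).2 ⟨hB0iso, hB0S⟩⟩)

theorem trans_H (hf : Cfsg.Geo.IsUnitaryForm σ f) {k : ℕ}
    (D : Fin 2 → Submodule F (Fin n → F)) (hD : Cfsg.Geo.IsMDecomposition k D)
    (hts : ∀ i, Cfsg.Geo.IsTotallySingularFor f (D i))
    (G : Subgroup (Matrix.GeneralLinearGroup (Fin n) F))
    (hG : ∀ g : Matrix.GeneralLinearGroup (Fin n) F, g ∈ G ↔
      (∀ x y, f ((g : Matrix (Fin n) (Fin n) F) *ᵥ x) ((g : Matrix (Fin n) (Fin n) F) *ᵥ y) = f x y) ∧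
        g ∈ Cfsg.Geo.specialLinear (Fin n) F)
    (M : Subgroup (Matrix.GeneralLinearGroup (Fin n) F))
    (hHM : Cfsg.Geo.decompositionStabilizer D ⊓ G ≤ M)
    (i j : Fin 2) (hij : i ≠ j) (u u2 : Fin n → F) (hu : u ∈ D i) (hu2 : u2 ∈ D i)
    (hu0 : u ≠ 0) (hX : u ∈ XS f σ M) : u2 ∈ XS f σ M := by
  by_cases hspan : u2 ∈ Submodule.span F {u}
  · obtain ⟨c, rfl⟩ := Submodule.mem_span_singleton.mp hspan
    exact XS_smul hf M c hX
  · have hw : u2 - u ∈ D i := (D i).sub_mem hu2 hu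
    have hnot : u ∉ Submodule.span F {u2 - u} := by
      intro h
      obtain ⟨c, hc⟩ := Submodule.mem_span_singleton.mp h
      have hc0 : c ≠ 0 := by
        rintro rfl
        rw [zero_smul] at hc
        exact hu0 hc.symm
      apply hspan
      rw [Submodule.mem_span_singleton]
      refine ⟨c⁻¹ * (1 + c), ?_⟩
      have : c • u2 = (1 + c) • u := by
        rw [smul_sub] at hc
        rw [add_smul, one_smul]
        exact sub_eq_iff_eq_add.mp hc
      rw [mul_smul, ← this, smul_smul, inv_mul_cancel₀ hc0, one_smul]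
    obtain ⟨v, hv, hvA, hvu⟩ := dual_ij hf D hD hts i j hij (Submodule.span F {u2 - u})
      (by rw [Submodule.span_le, Set.singleton_subset_iff]; exact hw) u hu hnot
    have hwv : f (u2 - u) v = 0 := hvA _ (Submodule.mem_span_singleton_self _)
    obtain ⟨h, hhS, hhiso, hh⟩ := sr_ex hf v (u2 - u) (hts j v hv v hv) (hts i _ hw _ hw) hwv 1
    have hhM : h ∈ M := hHM (Subgroup.mem_inf.mpr
      ⟨sr_mem_H D hD hts j i hij.symm v _ hv hw 1 h hh, (hG h).2 ⟨hhiso, hhS⟩⟩)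
    have := XS_conj M hhM hhiso hX
    rw [hh] at this
    unfold srAct at this
    rw [hvu, hts i u hu _ hw, mul_zero, zero_smul, sub_zero, mul_one, one_smul] at this
    have e : u + (u2 - u) = u2 := by abel
    rw [e] at this
    exact this

def fL (hf : Cfsg.Geo.IsUnitaryForm σ f) (a : Fin n → F) : (Fin n → F) →ₗ[F] F where
  toFun x := f x a
  map_add' x y := hf.add_left x y a
  map_smul' c x := hf.smul_left c x a

theorem core (hf : Cfsg.Geo.IsUnitaryForm σ f) {k : ℕ} (hk : 5 ≤ k)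
    (D : Fin 2 → Submodule F (Fin n → F)) (hD : Cfsg.Geo.IsMDecomposition k D)
    (hts : ∀ i, Cfsg.Geo.IsTotallySingularFor f (D i))
    (G : Subgroup (Matrix.GeneralLinearGroup (Fin n) F))
    (hG : ∀ g : Matrix.GeneralLinearGroup (Fin n) F, g ∈ G ↔
      (∀ x y, f ((g : Matrix (Fin n) (Fin n) F) *ᵥ x) ((g : Matrix (Fin n) (Fin n) F) *ᵥ y) = f x y) ∧
        g ∈ Cfsg.Geo.specialLinear (Fin n) F)
    (M : Subgroup (Matrix.GeneralLinearGroup (Fin n) F))
    (hHM : Cfsg.Geo.decompositionStabilizer D ⊓ G ≤ M)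
    (a b : Fin 2) (hab : a ≠ b) (p q pa pb qa qb : Fin n → F)
    (hpa : pa ∈ D a) (hpb : pb ∈ D b) (hqa : qa ∈ D a) (hqb : qb ∈ D b)
    (hp : p = pa + pb) (hq : q = qa + qb) (hpp : f p p = 0) (hqq : f q q = 0) (hpq : f p q = 0)
    (hpa0 : pa ≠ 0) (hqa' : qa ∉ Submodule.span F {pa}) (hSR : SRU f σ M p q) :
    ∃ u ∈ D a, u ≠ 0 ∧ u ∈ XS f σ M := by
  obtain ⟨u, hu, hφ, huS⟩ := avoid (D a) (Submodule.span F {pa, qa}) ![fL hf pb, fL hf qb] (by
    have := finrank_pair_le (F := F) pa qa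
    rw [hD.finrank_eq a]
    omega)
  have h0 : f u pb = 0 := hφ 0
  have h1 : f u qb = 0 := hφ 1
  have hu0 : u ≠ 0 := by
    rintro rfl
    exact huS (Submodule.zero_mem _)
  have huu : f u u = 0 := hts a u hu u hu
  have hup : f u p = 0 := by
    rw [hp, f_add_right hf, hts a u hu pa hpa, h0, add_zero]
  have huq : f u q = 0 := by
    rw [hq, f_add_right hf, hts a u hu qa hqa, h1, add_zero]
  have hnot : qa ∉ Submodule.span F {u, pa} := by
    intro h
    obtain ⟨α, β, hαβ⟩ := Submodule.mem_span_pair.mp h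
    by_cases hα : α = 0
    · subst hα
      rw [zero_smul, zero_add] at hαβ
      exact hqa' (Submodule.mem_span_singleton.mpr ⟨β, hαβ⟩)
    · apply huS
      rw [Submodule.mem_span_pair]
      refine ⟨-(α⁻¹ * β), α⁻¹, ?_⟩
      rw [← hαβ, smul_add, smul_smul, smul_smul, inv_mul_cancel₀ hα, one_smul, neg_smul]
      abel
  obtain ⟨v, hv, hvA, hvq⟩ := dual_ij hf D hD hts a b hab (Submodule.span F {u, pa}) (by
    rw [Submodule.span_le]
    intro x hx
    rcases hx with rfl | rfl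
    · exact hu
    · exact hpa) qa hqa hnot
  have huv : f u v = 0 := hvA u (Submodule.subset_span (Set.mem_insert _ _))
  have hpav : f pa v = 0 := hvA pa (Submodule.subset_span (Set.mem_insert_of_mem _ rfl))
  have hpv : f p v = 0 := by
    rw [hp, hf.add_left, hpav, hts b pb hpb v hv, add_zero]
  have hqv : f q v = 1 := by
    rw [hq, hf.add_left, hvq, hts b qb hqb v hv, add_zero]
  have hnot' : pa ∉ Submodule.span F {u} := by
    intro h
    obtain ⟨α, hα⟩ := Submodule.mem_span_singleton.mp h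
    have hα0 : α ≠ 0 := by
      rintro rfl
      rw [zero_smul] at hα
      exact hpa0 hα.symm
    apply huS
    rw [Submodule.mem_span_pair]
    refine ⟨α⁻¹, 0, ?_⟩
    rw [← hα, smul_smul, inv_mul_cancel₀ hα0, one_smul, zero_smul, add_zero]
  obtain ⟨v', hv', hvA', hvp'⟩ := dual_ij hf D hD hts a b hab (Submodule.span F {u}) (by
    rw [Submodule.span_le, Set.singleton_subset_iff]
    exact hu) pa hpa hnot'
  have huv' : f u v' = 0 := hvA' u (Submodule.mem_span_singleton_self _)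
  have hpv' : f p v' = 1 := by
    rw [hp, hf.add_left, hvp', hts b pb hpb v' hv', add_zero]
  have hSRuv : SRU f σ M u v :=
    SRU_of_H hf D hD hts G hG M hHM a b hab u v hu hv (f_swap_zero hf huv)
  have hSRuv' : SRU f σ M u v' :=
    SRU_of_H hf D hD hts G hG M hHM a b hab u v' hu hv' (f_swap_zero hf huv')
  have hvv : f v v = 0 := hts b v hv v hv
  have hvv' : f v' v' = 0 := hts b v' hv' v' hv'
  have hSRpu : SRU f σ M p u := by
    intro t S hS
    obtain ⟨A, _, _, hA⟩ := sr_ex hf u v huu hvv (f_swap_zero hf huv) 1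
    have hAM : A ∈ M := hSRuv 1 A hA
    obtain ⟨B, _, _, hB⟩ := sr_ex hf p q hpp hqq (f_swap_zero hf hpq) (-t)
    have hBM : B ∈ M := hSR (-t) B hB
    have hc := comm1 hf A B S u v p q (-t) huu hpp huv hpq hup huq (f_swap_zero hf hpv) hA hB (by
      intro x
      rw [hqv, mul_one, neg_neg]
      exact hS x)
    have : S = B⁻¹ * (A * B) * A⁻¹ := by
      rw [← hc]
      group
    rw [this]
    exact M.mul_mem (M.mul_mem (M.inv_mem hBM) (M.mul_mem hAM hBM)) (M.inv_mem hAM)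
  refine ⟨u, hu, hu0, huu, ?_⟩
  intro c hc g hg
  obtain ⟨μ, hμ⟩ := skew_surj hf c hc
  obtain ⟨C, _, _, hC⟩ := sr_ex hf u v' huu hvv' (f_swap_zero hf huv') 1
  have hCM : C ∈ M := hSRuv' 1 C hC
  obtain ⟨S, _, _, hS⟩ := sr_ex hf p u hpp huu hup μ
  have hSM : S ∈ M := hSRpu μ S hS
  have hcc := comm2 hf C S g u v' p μ huu huv' hup hC hS (by
    intro x
    rw [hpv', map_one, mul_one, mul_one, hμ]
    exact hg x)
  have : g = S⁻¹ * (C * S) * C⁻¹ := by
    rw [hcc]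
    group
  rw [this]
  exact M.mul_mem (M.mul_mem (M.inv_mem hSM) (M.mul_mem hCM hSM)) (M.inv_mem hCM)

theorem start (hf : Cfsg.Geo.IsUnitaryForm σ f) {k : ℕ} (hk : 5 ≤ k)
    (D : Fin 2 → Submodule F (Fin n → F)) (hD : Cfsg.Geo.IsMDecomposition k D)
    (hts : ∀ i, Cfsg.Geo.IsTotallySingularFor f (D i))
    (G : Subgroup (Matrix.GeneralLinearGroup (Fin n) F))
    (hG : ∀ g : Matrix.GeneralLinearGroup (Fin n) F, g ∈ G ↔
      (∀ x y, f ((g : Matrix (Fin n) (Fin n) F) *ᵥ x) ((g : Matrix (Fin n) (Fin n) F) *ᵥ y) = f x y) ∧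
        g ∈ Cfsg.Geo.specialLinear (Fin n) F)
    (M : Subgroup (Matrix.GeneralLinearGroup (Fin n) F)) (hM : M ≤ G)
    (hHM : Cfsg.Geo.decompositionStabilizer D ⊓ G ≤ M)
    (g : Matrix.GeneralLinearGroup (Fin n) F) (hgM : g ∈ M)
    (hg : g ∉ Cfsg.Geo.decompositionStabilizer D) :
    ∃ a, ∃ u ∈ D a, u ≠ 0 ∧ u ∈ XS f σ M := by
  have hiso := ((hG g).1 (hM hgM)).1
  obtain ⟨i, p0, hp0, hspread⟩ := exists_spread D hD g hg
  obtain ⟨j, hij⟩ := fin2_other i
  obtain ⟨pi, hpi, pj, hpj, hp⟩ := split_ij D hD i j hij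
    ((g : Matrix (Fin n) (Fin n) F) *ᵥ p0)
  have hpi0 : pi ≠ 0 := by
    rintro rfl
    rw [zero_add] at hp
    apply hspread j
    rw [hp]
    exact hpj
  have hpj0 : pj ≠ 0 := by
    rintro rfl
    rw [add_zero] at hp
    apply hspread i
    rw [hp]
    exact hpi
  obtain ⟨q0, hq0, hφ, hq0S⟩ := avoid (D j)
    (Submodule.span F {((g⁻¹ : Matrix.GeneralLinearGroup (Fin n) F) :
        Matrix (Fin n) (Fin n) F) *ᵥ pi,
      ((g⁻¹ : Matrix.GeneralLinearGroup (Fin n) F) :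
        Matrix (Fin n) (Fin n) F) *ᵥ pj}) ![fL hf p0] (by
    have := finrank_pair_le (F := F)
      (((g⁻¹ : Matrix.GeneralLinearGroup (Fin n) F) :
        Matrix (Fin n) (Fin n) F) *ᵥ pi)
      (((g⁻¹ : Matrix.GeneralLinearGroup (Fin n) F) :
        Matrix (Fin n) (Fin n) F) *ᵥ pj)
    rw [hD.finrank_eq j]
    omega)
  have hq0p0 : f q0 p0 = 0 := hφ 0
  have hp0q0 : f p0 q0 = 0 := f_swap_zero hf hq0p0
  have hq_not : (g : Matrix (Fin n) (Fin n) F) *ᵥ q0 ∉ Submodule.span F {pi, pj} := by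
    intro h
    obtain ⟨α, β, hαβ⟩ := Submodule.mem_span_pair.mp h
    apply hq0S
    rw [Submodule.mem_span_pair]
    refine ⟨α, β, ?_⟩
    rw [← Matrix.mulVec_smul, ← Matrix.mulVec_smul, ← Matrix.mulVec_add, hαβ, gl_cancel]
  obtain ⟨qi, hqi, qj, hqj, hq⟩ := split_ij D hD i j hij
    ((g : Matrix (Fin n) (Fin n) F) *ᵥ q0)
  have hpq : f ((g : Matrix (Fin n) (Fin n) F) *ᵥ p0)
      ((g : Matrix (Fin n) (Fin n) F) *ᵥ q0) = 0 := by
    rw [hiso, hp0q0]
  have hpp : f ((g : Matrix (Fin n) (Fin n) F) *ᵥ p0)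
      ((g : Matrix (Fin n) (Fin n) F) *ᵥ p0) = 0 := by
    rw [hiso, hts i p0 hp0 p0 hp0]
  have hqq : f ((g : Matrix (Fin n) (Fin n) F) *ᵥ q0)
      ((g : Matrix (Fin n) (Fin n) F) *ᵥ q0) = 0 := by
    rw [hiso, hts j q0 hq0 q0 hq0]
  have hSR : SRU f σ M ((g : Matrix (Fin n) (Fin n) F) *ᵥ p0)
      ((g : Matrix (Fin n) (Fin n) F) *ᵥ q0) :=
    SRU_conj hf M p0 q0 (hts i p0 hp0 p0 hp0) (hts j q0 hq0 q0 hq0) hq0p0
      (SRU_of_H hf D hD hts G hG M hHM i j hij p0 q0 hp0 hq0 hq0p0) g hgM hiso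
  by_cases hqi' : qi ∈ Submodule.span F {pi}
  · have hqj' : qj ∉ Submodule.span F {pj} := by
      intro h
      apply hq_not
      obtain ⟨α, hα⟩ := Submodule.mem_span_singleton.mp hqi'
      obtain ⟨β, hβ⟩ := Submodule.mem_span_singleton.mp h
      rw [Submodule.mem_span_pair]
      exact ⟨α, β, by rw [hα, hβ, hq]⟩
    exact ⟨j, core hf hk D hD hts G hG M hHM j i hij.symm _ _ pj pi qj qi hpj hpi hqj hqi
      (by rw [hp, add_comm]) (by rw [hq, add_comm]) hpp hqq hpq hpj0 hqj' hSR⟩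
  · exact ⟨i, core hf hk D hD hts G hG M hHM i j hij _ _ pi pj qi qj hpi hpj hqi hqj
      hp hq hpp hqq hpq hpi0 hqi' hSR⟩

theorem dual_basis (hf : Cfsg.Geo.IsUnitaryForm σ f) {k : ℕ}
    (D : Fin 2 → Submodule F (Fin n → F)) (hD : Cfsg.Geo.IsMDecomposition k D)
    (hts : ∀ i, Cfsg.Geo.IsTotallySingularFor f (D i)) :
    ∃ (b c : Fin k → (Fin n → F)), (∀ i, b i ∈ D 0) ∧ (∀ i, c i ∈ D 1) ∧
      (∀ i l, f (b i) (c l) = if i = l then 1 else 0) ∧
      (∀ x, x = ∑ i, (f x (c i) • b i + f x (b i) • c i)) := by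
  classical
  obtain ⟨β⟩ : Nonempty (Module.Basis (Fin k) F (D 0)) :=
    ⟨Module.finBasisOfFinrankEq F (D 0) (hD.finrank_eq 0)⟩
  obtain ⟨b, hb⟩ : ∃ b : Fin k → (Fin n → F), ∀ i, b i = ((β i : D 0) : Fin n → F) :=
    ⟨fun i => ((β i : D 0) : Fin n → F), fun i => rfl⟩
  have hbmem : ∀ i, b i ∈ D 0 := by
    intro i
    rw [hb]
    exact (β i).2
  have hli : LinearIndependent F b := by
    have := β.linearIndependent.map' (D 0).subtype (Submodule.ker_subtype _)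
    have hfun : b = (D 0).subtype ∘ β := funext (fun i => hb i)
    rw [hfun]
    exact this
  have h01 : (0 : Fin 2) ≠ 1 := by decide
  have hex : ∀ l, ∃ v ∈ D 1, (∀ a ∈ Submodule.span F (b '' {i | i ≠ l}), f a v = 0) ∧
      f (b l) v = 1 := by
    intro l
    apply dual_ij hf D hD hts 0 1 h01 _ _ (b l) (hbmem l)
    · exact hli.notMem_span_image (by simp)
    · rw [Submodule.span_le]
      rintro _ ⟨i, _, rfl⟩
      exact hbmem i
  choose c hc hcA hc1 using hex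
  have hδ : ∀ i l, f (b i) (c l) = if i = l then 1 else 0 := by
    intro i l
    by_cases hil : i = l
    · rw [if_pos hil, hil]
      exact hc1 l
    · rw [if_neg hil]
      exact hcA l _ (Submodule.subset_span ⟨i, hil, rfl⟩)
  have hδ' : ∀ i l, f (c i) (b l) = if i = l then 1 else 0 := by
    intro i l
    rw [hf.herm, hδ]
    by_cases hil : i = l
    · rw [if_pos hil, if_pos hil.symm, map_one]
    · rw [if_neg hil, if_neg (Ne.symm hil), map_zero]
  have hE1 : ∀ x ∈ D 0, x = ∑ i, f x (c i) • b i := by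
    intro x hx
    have h1 : x = ∑ i, β.repr ⟨x, hx⟩ i • b i := by
      have h := congrArg Subtype.val (β.sum_repr ⟨x, hx⟩)
      rw [Submodule.coe_sum] at h
      refine (h.symm : x = _).trans ?_
      apply Finset.sum_congr rfl
      intro i _
      rw [hb]
      rfl
    have h2 : ∀ l, f x (c l) = β.repr ⟨x, hx⟩ l := by
      intro l
      conv_lhs => rw [h1]
      rw [f_sum_left hf]
      simp only [hf.smul_left, hδ, mul_ite, mul_one, mul_zero]
      rw [Finset.sum_ite_eq' Finset.univ l]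
      simp
    conv_lhs => rw [h1]
    apply Finset.sum_congr rfl
    intro i _
    rw [h2]
  have hE2 : ∀ x ∈ D 1, x = ∑ i, f x (b i) • c i := by
    intro x hx
    have hy : x - ∑ i, f x (b i) • c i ∈ D 1 :=
      (D 1).sub_mem hx (Submodule.sum_mem _ (fun i _ => (D 1).smul_mem _ (hc i)))
    have hyb : ∀ l, f (x - ∑ i, f x (b i) • c i) (b l) = 0 := by
      intro l
      rw [f_sub_left hf, f_sum_left hf]
      simp only [hf.smul_left, hδ', mul_ite, mul_one, mul_zero]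
      rw [Finset.sum_ite_eq' Finset.univ l]
      simp
    have hy0 : x - ∑ i, f x (b i) • c i = 0 := by
      by_contra hne
      obtain ⟨v, hv, hv1⟩ := dual0 hf D hD hts 1 0 h01.symm _ hy hne
      have hv0 : f v (x - ∑ i, f x (b i) • c i) = 0 := by
        rw [hE1 v hv, f_sum_left hf]
        apply Finset.sum_eq_zero
        intro i _
        rw [hf.smul_left, f_swap_zero hf (hyb i), mul_zero]
      rw [f_swap_zero hf hv0] at hv1
      exact zero_ne_one hv1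
    exact sub_eq_zero.mp hy0
  refine ⟨b, c, hbmem, hc, hδ, ?_⟩
  intro x
  obtain ⟨x0, hx0, x1, hx1, rfl⟩ := split_ij D hD 0 1 h01 x
  have e1 : ∀ i, f (x0 + x1) (c i) = f x0 (c i) := by
    intro i
    rw [hf.add_left, hts 1 x1 hx1 (c i) (hc i), add_zero]
  have e2 : ∀ i, f (x0 + x1) (b i) = f x1 (b i) := by
    intro i
    rw [hf.add_left, hts 0 x0 hx0 (b i) (hbmem i), zero_add]
  simp only [e1, e2]
  rw [Finset.sum_add_distrib, ← hE1 x0 hx0, ← hE2 x1 hx1]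

theorem weyl (hf : Cfsg.Geo.IsUnitaryForm σ f) (c₀ : F) (hc₀ : c₀ ≠ 0) (hc₀' : σ c₀ = -c₀)
    (b c : Fin n → F) (hbb : f b b = 0) (hcc : f c c = 0) (hbc : f b c = 1) :
    ∃ w : Matrix.GeneralLinearGroup (Fin n) F, w ∈ Cfsg.Geo.specialLinear (Fin n) F ∧
      (∀ x y, f ((w : Matrix (Fin n) (Fin n) F) *ᵥ x) ((w : Matrix (Fin n) (Fin n) F) *ᵥ y) =
        f x y) ∧
      ∀ x, (w : Matrix (Fin n) (Fin n) F) *ᵥ x =
        x + (f x c • (c₀ • c - b) + f x b • ((-c₀⁻¹) • b - c)) := by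
  have hcb : f c b = 1 := by rw [hf.herm, hbc, map_one]
  have h1 : σ (c₀⁻¹) = -c₀⁻¹ := by rw [map_inv₀, hc₀', inv_neg]
  have h2 : σ (-c₀) = -(-c₀) := by rw [map_neg, hc₀']
  obtain ⟨t1, ht1S, ht1⟩ := Cfsg.Agent.S5643.tvGL hf b (c₀⁻¹ • b) (by
    rw [f_smul_right hf, hbb, mul_zero])
  obtain ⟨t2, ht2S, ht2⟩ := Cfsg.Agent.S5643.tvGL hf c ((-c₀) • c) (by
    rw [f_smul_right hf, hcc, mul_zero])
  have hi1 := Cfsg.Agent.S5643.utv_iso hf b hbb c₀⁻¹ h1 t1 ht1
  have hi2 := Cfsg.Agent.S5643.utv_iso hf c hcc (-c₀) h2 t2 ht2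
  refine ⟨t1 * t2 * t1, Subgroup.mul_mem _ (Subgroup.mul_mem _ ht1S ht2S) ht1S, ?_, ?_⟩
  · intro x y
    rw [Units.val_mul, Units.val_mul, ← Matrix.mulVec_mulVec, ← Matrix.mulVec_mulVec,
      ← Matrix.mulVec_mulVec, ← Matrix.mulVec_mulVec, hi1, hi2, hi1]
  · intro x
    rw [Units.val_mul, Units.val_mul, ← Matrix.mulVec_mulVec, ← Matrix.mulVec_mulVec,
      ht1 x, ht2, ht1]
    simp only [hf.add_left, hf.smul_left, f_smul_right hf, hbb, hbc, hcb, h1, h2,
      mul_zero, mul_one, add_zero, neg_neg]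
    match_scalars
    · ring
    · field_simp
      ring
    · field_simp

def NN (f : (Fin n → F) → (Fin n → F) → F) (c₀ : F) (b c x : Fin n → F) : Fin n → F :=
  f x c • (c₀ • c - b) + f x b • ((-c₀⁻¹) • b - c)

theorem NN_add (hf : Cfsg.Geo.IsUnitaryForm σ f) (c₀ : F) (b c x y : Fin n → F) :
    NN f c₀ b c (x + y) = NN f c₀ b c x + NN f c₀ b c y := by
  unfold NN
  rw [hf.add_left, hf.add_left]
  module

theorem NN_zero (hf : Cfsg.Geo.IsUnitaryForm σ f) (c₀ : F) (b c x : Fin n → F)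
    (h1 : f x c = 0) (h2 : f x b = 0) : NN f c₀ b c x = 0 := by
  unfold NN
  rw [h1, h2, zero_smul, zero_smul, add_zero]

theorem NN_perp (hf : Cfsg.Geo.IsUnitaryForm σ f) (c₀ : F) (b c x z : Fin n → F)
    (h1 : f b z = 0) (h2 : f c z = 0) : f (NN f c₀ b c x) z = 0 := by
  unfold NN
  simp only [hf.add_left, hf.smul_left, f_sub_left hf, h1, h2, mul_zero, sub_zero, add_zero]

theorem weyl_prod (hf : Cfsg.Geo.IsUnitaryForm σ f) (c₀ : F) (hc₀ : c₀ ≠ 0) (hc₀' : σ c₀ = -c₀)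
    {k : ℕ} (b c : Fin k → (Fin n → F))
    (hbb : ∀ i l, f (b i) (b l) = 0) (hcc : ∀ i l, f (c i) (c l) = 0)
    (hδ : ∀ i l, f (b i) (c l) = if i = l then 1 else 0) (T : Finset (Fin k)) :
    ∃ s : Matrix.GeneralLinearGroup (Fin n) F, s ∈ Cfsg.Geo.specialLinear (Fin n) F ∧
      (∀ x y, f ((s : Matrix (Fin n) (Fin n) F) *ᵥ x) ((s : Matrix (Fin n) (Fin n) F) *ᵥ y) =
        f x y) ∧
      ∀ x, (s : Matrix (Fin n) (Fin n) F) *ᵥ x = x + ∑ i ∈ T, NN f c₀ (b i) (c i) x := by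
  classical
  induction T using Finset.induction_on with
  | empty =>
    refine ⟨1, Subgroup.one_mem _, fun x y => by rw [Units.val_one, Matrix.one_mulVec,
      Matrix.one_mulVec], fun x => ?_⟩
    rw [Units.val_one, Matrix.one_mulVec, Finset.sum_empty, add_zero]
  | insert a T ha ih =>
    obtain ⟨s, hsS, hsiso, hs⟩ := ih
    obtain ⟨w, hwS, hwiso, hw⟩ := weyl hf c₀ hc₀ hc₀' (b a) (c a) (hbb a a) (hcc a a) (by
      rw [hδ, if_pos rfl])
    refine ⟨s * w, Subgroup.mul_mem _ hsS hwS, ?_, ?_⟩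
    · intro x y
      rw [Units.val_mul, ← Matrix.mulVec_mulVec, ← Matrix.mulVec_mulVec, hsiso, hwiso]
    · intro x
      rw [Units.val_mul, ← Matrix.mulVec_mulVec, hs, hw, Finset.sum_insert ha]
      have hNN : ∀ i ∈ T, NN f c₀ (b i) (c i) (x + NN f c₀ (b a) (c a) x) =
          NN f c₀ (b i) (c i) x := by
        intro i hi
        have hia : i ≠ a := fun h => ha (h ▸ hi)
        rw [NN_add hf]
        have hz : NN f c₀ (b i) (c i) (NN f c₀ (b a) (c a) x) = 0 := by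
          apply NN_zero hf
          · apply NN_perp hf
            · rw [hδ, if_neg (Ne.symm hia)]
            · exact hcc a i
          · apply NN_perp hf
            · exact hbb a i
            · rw [hf.herm, hδ, if_neg hia, map_zero]
        rw [hz, add_zero]
      have e : (f x (c a) • (c₀ • c a - b a) + f x (b a) • (-c₀⁻¹ • b a - c a)) =
          NN f c₀ (b a) (c a) x := rfl
      rw [e, Finset.sum_congr rfl hNN]
      abel

theorem swap_ex (hf : Cfsg.Geo.IsUnitaryForm σ f) {k : ℕ}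
    (D : Fin 2 → Submodule F (Fin n → F)) (hD : Cfsg.Geo.IsMDecomposition k D)
    (hts : ∀ i, Cfsg.Geo.IsTotallySingularFor f (D i))
    (G : Subgroup (Matrix.GeneralLinearGroup (Fin n) F))
    (hG : ∀ g : Matrix.GeneralLinearGroup (Fin n) F, g ∈ G ↔
      (∀ x y, f ((g : Matrix (Fin n) (Fin n) F) *ᵥ x) ((g : Matrix (Fin n) (Fin n) F) *ᵥ y) = f x y) ∧
        g ∈ Cfsg.Geo.specialLinear (Fin n) F) :
    ∃ s : Matrix.GeneralLinearGroup (Fin n) F,
      s ∈ Cfsg.Geo.decompositionStabilizer D ⊓ G ∧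
      (∀ x y, f ((s : Matrix (Fin n) (Fin n) F) *ᵥ x) ((s : Matrix (Fin n) (Fin n) F) *ᵥ y) =
        f x y) ∧
      ∀ l, ∀ x ∈ D l, (s : Matrix (Fin n) (Fin n) F) *ᵥ x ∈ D (Equiv.swap 0 1 l) := by
  classical
  obtain ⟨b, c, hb, hc, hδ, hE⟩ := dual_basis hf D hD hts
  obtain ⟨c₀, hc₀, hc₀'⟩ := exists_K0 hf
  obtain ⟨s, hsS, hsiso, hs⟩ := weyl_prod hf c₀ hc₀ hc₀' b c
    (fun i l => hts 0 (b i) (hb i) (b l) (hb l)) (fun i l => hts 1 (c i) (hc i) (c l) (hc l))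
    hδ Finset.univ
  have hsx : ∀ x, (s : Matrix (Fin n) (Fin n) F) *ᵥ x =
      ∑ i, ((c₀ * f x (c i)) • c i + (-c₀⁻¹ * f x (b i)) • b i) := by
    intro x
    rw [hs]
    conv_lhs => rw [hE x]
    rw [← Finset.sum_add_distrib]
    apply Finset.sum_congr rfl
    intro i _
    have e1 : f (∑ i, (f x (c i) • b i + f x (b i) • c i)) (c i) = f x (c i) := by rw [← hE x]
    have e2 : f (∑ i, (f x (c i) • b i + f x (b i) • c i)) (b i) = f x (b i) := by rw [← hE x]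
    unfold NN
    rw [e1, e2]
    module
  have hmaps : ∀ l, ∀ x ∈ D l, (s : Matrix (Fin n) (Fin n) F) *ᵥ x ∈
      D (Equiv.swap 0 1 l) := by
    intro l x hx
    rw [hsx]
    rcases fin2_cases 0 1 l (by decide) with h | h
    · subst h
      rw [Equiv.swap_apply_left]
      apply Submodule.sum_mem
      intro i _
      rw [hts 0 x hx (b i) (hb i), mul_zero, zero_smul, add_zero]
      exact (D 1).smul_mem _ (hc i)
    · subst h
      rw [Equiv.swap_apply_right]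
      apply Submodule.sum_mem
      intro i _
      rw [hts 1 x hx (c i) (hc i), mul_zero, zero_smul, zero_add]
      exact (D 0).smul_mem _ (hb i)
  exact ⟨s, Subgroup.mem_inf.mpr ⟨stab_of_maps D hD.finrank_eq s (Equiv.swap 0 1) hmaps,
    (hG s).2 ⟨hsiso, hsS⟩⟩, hsiso, hmaps⟩

theorem XS_pair (hf : Cfsg.Geo.IsUnitaryForm σ f)
    (M : Subgroup (Matrix.GeneralLinearGroup (Fin n) F)) {y z : Fin n → F}
    (hy : y ∈ XS f σ M) (hz : z ∈ XS f σ M) (hyz : f y z ≠ 0) (hskew : σ (f y z) = -f y z) :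
    y + z ∈ XS f σ M := by
  have hc : σ (-(f y z)⁻¹) = -(-(f y z)⁻¹) := by
    rw [map_neg, map_inv₀, hskew, inv_neg]
  have := XS_tv hf M hy hz hc
  rw [f_smul_right hf, hc, neg_neg, inv_mul_cancel₀ hyz, one_smul] at this
  exact this

theorem all_iso (hf : Cfsg.Geo.IsUnitaryForm σ f) {k : ℕ}
    (D : Fin 2 → Submodule F (Fin n → F)) (hD : Cfsg.Geo.IsMDecomposition k D)
    (hts : ∀ i, Cfsg.Geo.IsTotallySingularFor f (D i))
    (M : Subgroup (Matrix.GeneralLinearGroup (Fin n) F))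
    (hall : ∀ l, ∀ u ∈ D l, u ∈ XS f σ M) (w : Fin n → F) (hww : f w w = 0) :
    w ∈ XS f σ M := by
  have h01 : (0 : Fin 2) ≠ 1 := by decide
  obtain ⟨w0, hw0, w1, hw1, rfl⟩ := split_ij D hD 0 1 h01 w
  have hskew : σ (f w0 w1) = -f w0 w1 := by
    rw [hf.add_left, f_add_right hf, f_add_right hf, hts 0 w0 hw0 w0 hw0,
      hts 1 w1 hw1 w1 hw1, zero_add, add_zero, hf.herm w1 w0] at hww
    linear_combination hww
  by_cases hz : w0 = 0
  · rw [hz, zero_add]
    exact hall 1 w1 hw1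
  · by_cases hfz : f w0 w1 = 0
    · obtain ⟨z', hzD', hz1'⟩ := dual0 hf D hD hts 0 1 h01 w0 hw0 hz
      obtain ⟨c₀, hc₀, hc₀'⟩ := exists_K0 hf
      obtain ⟨z, hzdef⟩ : ∃ z : Fin n → F, z = (σ c₀) • z' := ⟨_, rfl⟩
      have hzD : z ∈ D 1 := by
        rw [hzdef]
        exact (D 1).smul_mem _ hzD'
      have hz1 : f w0 z = c₀ := by
        rw [hzdef, f_smul_right hf, hf.involutive, hz1', mul_one]
      have hX1 : w0 + (w1 - z) ∈ XS f σ M := by
        apply XS_pair hf M (hall 0 w0 hw0) (hall 1 _ ((D 1).sub_mem hw1 hzD))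
        · rw [f_sub_right hf, hfz, hz1, zero_sub]
          exact neg_ne_zero.mpr hc₀
        · rw [f_sub_right hf, hfz, hz1, zero_sub, map_neg, hc₀']
      have hX2 : w0 + (w1 - z) + z ∈ XS f σ M := by
        apply XS_pair hf M hX1 (hall 1 z hzD)
        · rw [hf.add_left, hz1, hts 1 _ ((D 1).sub_mem hw1 hzD) z hzD, add_zero]
          exact hc₀
        · rw [hf.add_left, hz1, hts 1 _ ((D 1).sub_mem hw1 hzD) z hzD, add_zero, hc₀']
      have e : w0 + (w1 - z) + z = w0 + w1 := by abel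
      rw [e] at hX2
      exact hX2
    · exact XS_pair hf M (hall 0 w0 hw0) (hall 1 w1 hw1) hfz hskew

theorem strict (hf : Cfsg.Geo.IsUnitaryForm σ f) {k : ℕ}
    (D : Fin 2 → Submodule F (Fin n → F)) (hD : Cfsg.Geo.IsMDecomposition k D)
    (hts : ∀ i, Cfsg.Geo.IsTotallySingularFor f (D i))
    (G : Subgroup (Matrix.GeneralLinearGroup (Fin n) F))
    (hG : ∀ g : Matrix.GeneralLinearGroup (Fin n) F, g ∈ G ↔
      (∀ x y, f ((g : Matrix (Fin n) (Fin n) F) *ᵥ x) ((g : Matrix (Fin n) (Fin n) F) *ᵥ y) = f x y) ∧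
        g ∈ Cfsg.Geo.specialLinear (Fin n) F) :
    Cfsg.Geo.decompositionStabilizer D ⊓ G < G := by
  rw [SetLike.lt_iff_le_and_exists]
  refine ⟨inf_le_right, ?_⟩
  have h01 : (0 : Fin 2) ≠ 1 := by decide
  obtain ⟨u, hu, hu0⟩ := exists_ne_zero (D 0) (hD.finrank_eq 0) hD.pos
  obtain ⟨x, hx, hux⟩ := dual0 hf D hD hts 0 1 h01 u hu hu0
  obtain ⟨c₀, hc₀, hc₀'⟩ := exists_K0 hf
  have huu : f u u = 0 := hts 0 u hu u hu
  obtain ⟨g, _, hg⟩ := Cfsg.Agent.S5643.tvGL hf u (c₀ • u) (by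
    rw [f_smul_right hf, huu, mul_zero])
  refine ⟨g, UT_mem_G hf G hG huu hc₀' hg, ?_⟩
  rintro ⟨⟨τ, hτ⟩, _⟩
  have h1 : (g : Matrix (Fin n) (Fin n) F) *ᵥ x ∈ D (τ 1) := by
    rw [← hτ 1]
    exact ⟨x, hx, by rw [Matrix.toLin'_apply]⟩
  have hxu : f x u = 1 := by rw [hf.herm, hux, map_one]
  rw [hg, f_smul_right hf, hxu, mul_one, hc₀', add_comm] at h1
  rcases two_comp D hD.indep 0 1 _ h01 _ _ ((D 0).smul_mem _ hu) hx h1 with h | h
  · rw [neg_smul, neg_eq_zero] at h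
    exact (smul_ne_zero hc₀ hu0) h
  · rw [h, f_zero_right hf] at hux
    exact zero_ne_one hux

theorem main [Finite F] (hf : Cfsg.Geo.IsUnitaryForm σ f) {k : ℕ} (hk : 5 ≤ k) (hn : 2 * k = n)
    (D : Fin 2 → Submodule F (Fin n → F)) (hD : Cfsg.Geo.IsMDecomposition k D)
    (hts : ∀ i, Cfsg.Geo.IsTotallySingularFor f (D i))
    (G : Subgroup (Matrix.GeneralLinearGroup (Fin n) F))
    (hG : ∀ g : Matrix.GeneralLinearGroup (Fin n) F, g ∈ G ↔
      (∀ x y, f ((g : Matrix (Fin n) (Fin n) F) *ᵥ x) ((g : Matrix (Fin n) (Fin n) F) *ᵥ y) = f x y) ∧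
        g ∈ Cfsg.Geo.specialLinear (Fin n) F) :
    Cfsg.Geo.IsMaximalIn G (Cfsg.Geo.decompositionStabilizer D ⊓ G) := by
  refine ⟨strict hf D hD hts G hG, ?_⟩
  intro M hHM hM
  by_cases hMH : M ≤ Cfsg.Geo.decompositionStabilizer D ⊓ G
  · left
    exact le_antisymm hMH hHM
  · right
    apply le_antisymm hM
    obtain ⟨g, hgM, hgH⟩ := SetLike.not_le_iff_exists.mp hMH
    have hg : g ∉ Cfsg.Geo.decompositionStabilizer D := fun h =>
      hgH (Subgroup.mem_inf.mpr ⟨h, hM hgM⟩)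
    obtain ⟨a, u, hu, hu0, hX⟩ := start hf hk D hD hts G hG M hM hHM g hgM hg
    obtain ⟨b, hab⟩ := fin2_other a
    have hDa : ∀ y ∈ D a, y ∈ XS f σ M := fun y hy =>
      trans_H hf D hD hts G hG M hHM a b hab u y hu hy hu0 hX
    obtain ⟨s, hsH, hsiso, hs⟩ := swap_ex hf D hD hts G hG
    have hsw : Equiv.swap (0 : Fin 2) 1 a = b := by
      rcases fin2_cases 0 1 a (by decide) with h | h <;>
        rcases fin2_cases 0 1 b (by decide) with h' | h'
      · exact absurd (h.trans h'.symm) hab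
      · rw [h, h', Equiv.swap_apply_left]
      · rw [h, h', Equiv.swap_apply_right]
      · exact absurd (h.trans h'.symm) hab
    have hsu : (s : Matrix (Fin n) (Fin n) F) *ᵥ u ∈ D b := by
      rw [← hsw]
      exact hs a u hu
    have hXs := XS_conj M (hHM hsH) hsiso hX
    have hDb : ∀ y ∈ D b, y ∈ XS f σ M := fun y hy =>
      trans_H hf D hD hts G hG M hHM b a hab.symm _ y hsu hy (gl_ne_zero s u hu0) hXs
    have hall : ∀ l, ∀ y ∈ D l, y ∈ XS f σ M := by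
      intro l y hy
      rcases fin2_cases a b l hab with h | h
      · rw [h] at hy
        exact hDa y hy
      · rw [h] at hy
        exact hDb y hy
    exact XS_gen hf (Or.inl ⟨⟨k, by omega⟩, by omega⟩) M G hG
      (fun y hy => all_iso hf D hD hts M hall y hy)

end Cfsg.Agent.Lib.Helper28.UPair
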