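import Mathlib
import Cfsg.Agent.Lib.Lead.W2P.Defs
import Cfsg.Agent.Lib.helper2.CharNat

/-!
# Project W2P, piece MPNAT : the multiplicity of a linear character of `P` in a restricted character
-/

set_option autoImplicit false
set_option linter.unusedVariables false
set_option linter.unusedSectionVars false
open scoped ComplexConjugate
open Classical

namespace Cfsg.Agent.Lib.Lead.W2P

open MulAction Cfsg.Agent.Lib.helper6.PermChar Cfsg.Agent.Lib.Helper25

universe u v

/-- a multiplicative function `W → ℂ` is a character (of degree one) -/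
theorem w2pmpnat_isChar {W : Type*} [Group W] (f : W →* ℂ) : Cfsg.IsCharacter W (fun w => f w) := by
  refine ⟨1, ?_, ?_⟩
  · exact
      { toFun := fun w => (f w) • (LinearMap.id : (Fin 1 → ℂ) →ₗ[ℂ] (Fin 1 → ℂ))
        map_one' := by rw [map_one, one_smul]; rfl
        map_mul' := by
          intro a b
          rw [map_mul]
          ext v i
          simp only [Module.End.mul_apply, LinearMap.smul_apply, LinearMap.id_apply, Pi.smul_apply,
            smul_eq_mul, LinearMap.map_smul, LinearMap.comp_apply]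
          ring }
  · funext w
    unfold Representation.character
    simp

section C

variable {G : Type u} [Group G] [Fintype G] {p : ℕ} [Fact p.Prime] {P : Subgroup G}

/-- MPNAT : the multiplicity of a linear character of `P` in the restriction of a character of `G` -/
theorem mP_nat (hP : Nat.card P = p) {ψ : G → ℂ} (hψ : Cfsg.IsCharacter G ψ) {φ : G → ℂ}
    (hφ : IsPChar P φ) : ∃ m : ℕ, ∑ x : ↥P, ψ (x : G) * conj (φ (x : G)) = (p : ℂ) * (m : ℂ) := by
  have h1 : Cfsg.IsCharacter ↥P (fun x : ↥P => ψ (x : G)) :=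
    Cfsg.Agent.Lib.helper2.isCharacter_restrict hψ P
  let f : ↥P →* ℂ :=
    { toFun := fun x => φ (x : G)
      map_one' := hφ.one
      map_mul' := fun x y => hφ.mul x x.2 y y.2 }
  have h2 : Cfsg.IsCharacter ↥P (fun x : ↥P => φ (x : G)) := w2pmpnat_isChar f
  obtain ⟨m, hm⟩ := Cfsg.Agent.Lib.helper2.classInner_character_nat h1 h2
  refine ⟨m, ?_⟩
  unfold Cfsg.classInner at hm
  rw [hP] at hm
  have hp0 : (p : ℂ) ≠ 0 := by exact_mod_cast (Fact.out : p.Prime).ne_zero
  have h3 : ∑ x : ↥P, ψ (x : G) * conj (φ (x : G)) =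
      (p : ℂ) * ((p : ℂ)⁻¹ * ∑ g : ↥P, ψ (g : G) * conj (φ (g : G))) := by
    rw [← mul_assoc, mul_inv_cancel₀ hp0, one_mul]
  rw [h3]
  congr 1

end C

end Cfsg.Agent.Lib.Lead.W2P
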