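import Mathlib
import Cfsg.Agent.Lib.Lead.W2P.Defs
import Cfsg.Agent.Lib.Helper11.LinCharDual

/-!
# Project W2P, piece PDUAL : the `p` linear characters of a group `P` of prime order `p`
-/

set_option autoImplicit false
set_option linter.unusedVariables false
set_option linter.unusedSectionVars false
open scoped ComplexConjugate
open Classical

namespace Cfsg.Agent.Lib.Lead.W2P

open MulAction Cfsg.Agent.Lib.helper6.PermChar Cfsg.Agent.Lib.Helper25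

universe u v

section C

variable {G : Type u} [Group G] [Fintype G] {p : ℕ} [Fact p.Prime] {P : Subgroup G}

/-- an `IsPChar` is compatible with powers -/
theorem w2ppdual_pow {φ : G → ℂ} (hφ : IsPChar P φ) {x : G} (hx : x ∈ P) (n : ℕ) :
    φ (x ^ n) = φ x ^ n := by
  induction n with
  | zero => rw [pow_zero, pow_zero, hφ.one]
  | succ n ih => rw [pow_succ, pow_succ, hφ.mul _ (P.pow_mem hx n) _ hx, ih]

/-- every element of `P` is a power of a given non-identity element -/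
theorem w2ppdual_gen (hP : Nat.card P = p) {x₀ : G} (hx₀ : x₀ ∈ P) (hne : x₀ ≠ 1) {x : G}
    (hx : x ∈ P) : ∃ n : ℕ, x = x₀ ^ n := by
  have hpp : p.Prime := Fact.out
  have hz : Subgroup.zpowers (⟨x₀, hx₀⟩ : ↥P) = ⊤ := by
    have hcard : Nat.card ↥P = p := hP
    have : Fact (Nat.card ↥P).Prime := ⟨by rw [hcard]; exact hpp⟩
    rcases Subgroup.eq_bot_or_eq_top_of_prime_card (Subgroup.zpowers (⟨x₀, hx₀⟩ : ↥P)) with h | h
    · exfalso
      apply hne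
      have : (⟨x₀, hx₀⟩ : ↥P) ∈ (⊥ : Subgroup ↥P) := h ▸ Subgroup.mem_zpowers _
      have h1 := Subgroup.mem_bot.mp this
      exact congrArg Subtype.val h1
    · exact h
  have hmem : (⟨x, hx⟩ : ↥P) ∈ Subgroup.zpowers (⟨x₀, hx₀⟩ : ↥P) := hz ▸ Subgroup.mem_top _
  have hfin : IsOfFinOrder (⟨x₀, hx₀⟩ : ↥P) := isOfFinOrder_of_finite _
  rw [← hfin.mem_powers_iff_mem_zpowers] at hmem
  obtain ⟨n, hn⟩ := (Submonoid.mem_powers_iff _ _).mp hmem
  refine ⟨n, ?_⟩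
  have := congrArg Subtype.val hn
  simpa using this.symm

/-- PDUAL : the `p` linear characters of `P` -/
theorem exists_dual (hP : Nat.card P = p) :
    ∃ Φ : Fin p → G → ℂ, (∀ k, IsPChar P (Φ k)) ∧ (∀ x ∈ P, Φ ⟨0, (Fact.out : p.Prime).pos⟩ x = 1) ∧
      (∀ k : Fin p, (k : ℕ) ≠ 0 → ∃ x ∈ P, Φ k x ≠ 1) ∧
      (∀ x ∈ P, x ≠ 1 → ∑ k, Φ k x = 0) ∧
      (∀ φ : G → ℂ, IsPChar P φ → ∃ k, ∀ x ∈ P, φ x = Φ k x) := by
  have hpp : p.Prime := Fact.out
  -- a non-identity element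
  have hnt : ∃ x₀ : G, x₀ ∈ P ∧ x₀ ≠ 1 := by
    by_contra hcon
    push Not at hcon
    have hbot : P = ⊥ := by
      rw [Subgroup.eq_bot_iff_forall]
      exact hcon
    rw [hbot, Subgroup.card_bot] at hP
    exact hpp.one_lt.ne' hP.symm
  obtain ⟨x₀, hx₀, hne⟩ := hnt
  -- `P` is commutative
  have hcomm : ∀ a b : ↥P, a * b = b * a := by
    have : Fact (Nat.card ↥P).Prime := ⟨by rw [hP]; exact hpp⟩
    have : IsCyclic ↥P := isCyclic_of_prime_card (p := Nat.card ↥P) rfl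
    have := IsCyclic.isMulCommutative (α := ↥P)
    intro a b
    exact mul_comm' a b
  -- a character not killing `x₀`
  obtain ⟨χ, -, hχ⟩ := Cfsg.Agent.Lib.Helper11.exists_linChar_ne_one hcomm ⊥ (⟨x₀, hx₀⟩ : ↥P)
    (by
      rw [Subgroup.mem_bot]
      intro h
      exact hne (congrArg Subtype.val h))
  set ζ : ℂ := ((χ ⟨x₀, hx₀⟩ : ℂˣ) : ℂ) with hζ
  have hx₀p : x₀ ^ p = 1 := by
    have : (⟨x₀, hx₀⟩ : ↥P) ^ p = 1 := by
      rw [← hP]; exact pow_card_eq_one'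
    exact congrArg Subtype.val this
  have hζp : ζ ^ p = 1 := by
    rw [hζ, ← Units.val_pow_eq_pow_val, ← map_pow]
    have : (⟨x₀, hx₀⟩ : ↥P) ^ p = 1 := by
      rw [← hP]; exact pow_card_eq_one'
    rw [this, map_one, Units.val_one]
  have hζ1 : ζ ≠ 1 := by
    intro h
    apply hχ
    exact Units.ext h
  have hprim : IsPrimitiveRoot ζ p := by
    have hord : orderOf ζ = p := by
      have hdvd : orderOf ζ ∣ p := orderOf_dvd_of_pow_eq_one hζp
      rcases (Nat.dvd_prime hpp).mp hdvd with h | h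
      · exfalso; exact hζ1 (orderOf_eq_one_iff.mp h)
      · exact h
    rw [← hord]
    exact IsPrimitiveRoot.orderOf ζ
  -- the dual
  let Φ : Fin p → G → ℂ := fun k g =>
    if hg : g ∈ P then ((χ ⟨g, hg⟩ : ℂˣ) : ℂ) ^ (k : ℕ) else 0
  have hΦ : ∀ (k : Fin p) (g : G) (hg : g ∈ P), Φ k g = ((χ ⟨g, hg⟩ : ℂˣ) : ℂ) ^ (k : ℕ) := by
    intro k g hg
    show (if hg : g ∈ P then ((χ ⟨g, hg⟩ : ℂˣ) : ℂ) ^ (k : ℕ) else 0) = _
    rw [dif_pos hg]
  have hΦpow : ∀ (k : Fin p) (n : ℕ), Φ k (x₀ ^ n) = ζ ^ (n * (k : ℕ)) := by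
    intro k n
    rw [hΦ k _ (P.pow_mem hx₀ n)]
    have : (⟨x₀ ^ n, P.pow_mem hx₀ n⟩ : ↥P) = (⟨x₀, hx₀⟩ : ↥P) ^ n := rfl
    rw [this, map_pow, Units.val_pow_eq_pow_val, ← pow_mul]
  refine ⟨Φ, ?_, ?_, ?_, ?_, ?_⟩
  · intro k
    constructor
    · rw [hΦ k 1 P.one_mem]
      have : (⟨1, P.one_mem⟩ : ↥P) = 1 := rfl
      rw [this, map_one, Units.val_one, one_pow]
    · intro x hx y hy
      rw [hΦ k _ (P.mul_mem hx hy), hΦ k _ hx, hΦ k _ hy]
      have : (⟨x * y, P.mul_mem hx hy⟩ : ↥P) = ⟨x, hx⟩ * ⟨y, hy⟩ := rfl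
      rw [this, map_mul, Units.val_mul, mul_pow]
  · intro x hx
    rw [hΦ _ x hx]
    exact pow_zero _
  · intro k hk
    refine ⟨x₀, hx₀, ?_⟩
    have h1 := hΦpow k 1
    rw [pow_one, one_mul] at h1
    rw [h1]
    intro h
    have hdvd := (hprim.pow_eq_one_iff_dvd (k : ℕ)).mp h
    have := Nat.le_of_dvd (Nat.pos_of_ne_zero hk) hdvd
    exact absurd k.2 (not_lt.mpr this)
  · intro x hx hx1
    obtain ⟨n, rfl⟩ := w2ppdual_gen hP hx₀ hne hx
    have hn : ¬ p ∣ n := by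
      intro hdvd
      apply hx1
      obtain ⟨c, rfl⟩ := hdvd
      rw [pow_mul, hx₀p, one_pow]
    simp only [hΦpow]
    rw [Fin.sum_univ_eq_sum_range (fun k => ζ ^ (n * k)) p]
    have h1 : ∀ k : ℕ, ζ ^ (n * k) = (ζ ^ n) ^ k := fun k => pow_mul ζ n k
    simp only [h1]
    have hne1 : ζ ^ n ≠ 1 := by
      intro h
      exact hn ((hprim.pow_eq_one_iff_dvd n).mp h)
    have hgeom := geom_sum_eq hne1 p
    rw [hgeom, ← pow_mul, mul_comm, pow_mul, hζp, one_pow, sub_self, zero_div]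
  · intro φ hφ
    have h1 : φ x₀ ^ p = 1 := by
      rw [← w2ppdual_pow hφ hx₀, hx₀p, hφ.one]
    obtain ⟨k, hk, hk2⟩ := hprim.eq_pow_of_pow_eq_one h1
    refine ⟨⟨k, hk⟩, ?_⟩
    intro x hx
    obtain ⟨n, rfl⟩ := w2ppdual_gen hP hx₀ hne hx
    rw [hΦpow, w2ppdual_pow hφ hx₀, ← hk2, ← pow_mul, mul_comm]

end C

end Cfsg.Agent.Lib.Lead.W2P
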