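import Mathlib
import Cfsg.Agent.Lib.Lead.BCS.Defs
import Cfsg.Agent.S0246

set_option autoImplicit false
set_option linter.unusedVariables false

/-!
# Project BCS, row C4 (`bcs_psp_mem`) (helper28): core, with the statements of C1 `bcs_sp_emb`, C2 `bcs_sp_transv`, C3 `bcs_sp_cauchy` as hypotheses.
-/

namespace Cfsg.Agent.Lib.Lead.BCS

open Polynomial Module Matrix Cfsg.Agent.Lib.Helper13.S5955 Cfsg.Agent.Lib.helper15.S5972
  Cfsg.Agent.Lib.Helper18.ONE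

/-- C4 core: `hC1`, `hC2`, `hC3` are the conclusions of C1 (at `m`), C2 (at `n = m + 1`), C3 (at `m`, `ℓ`) -/
theorem bcsc4_core {F : Type*} [Field F] [Fintype F] {p : ℕ} [Fact p.Prime] [CharP F p]
    (hodd : Odd (Fintype.card F)) (m : ℕ) (hm : 1 ≤ m) (ℓ : ℕ) [Fact ℓ.Prime] (hℓp : ℓ ≠ p)
    (hℓ2 : ℓ ≠ 2)
    (hC1 : ∃ (φ : Matrix.symplecticGroup (Fin m) F →* Matrix.symplecticGroup (Fin (m + 1)) F)
      (u : Fin (m + 1) ⊕ Fin (m + 1) → F), Function.Injective φ ∧ u ≠ 0 ∧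
      ∀ b : Matrix.symplecticGroup (Fin m) F,
        (φ b : Matrix (Fin (m + 1) ⊕ Fin (m + 1)) (Fin (m + 1) ⊕ Fin (m + 1)) F) *ᵥ u = u)
    (hC2 : ∀ u : Fin (m + 1) ⊕ Fin (m + 1) → F, u ≠ 0 →
      ∃ t : Matrix.symplecticGroup (Fin (m + 1)) F, t ≠ 1 ∧ t ^ p = 1 ∧
        (t : Matrix (Fin (m + 1) ⊕ Fin (m + 1)) (Fin (m + 1) ⊕ Fin (m + 1)) F) *ᵥ u = u ∧
        ∀ g : Matrix.symplecticGroup (Fin (m + 1)) F,
          (g : Matrix (Fin (m + 1) ⊕ Fin (m + 1)) (Fin (m + 1) ⊕ Fin (m + 1)) F) *ᵥ u = u → Commute g t)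
    (hC3 : ∃ y : Matrix.symplecticGroup (Fin m) F, orderOf y = ℓ) :
    2 * p * ℓ ∈ Set.range (orderOf : Cfsg.PSp (m + 1) F → ℕ) := by
  classical
  have hp : p.Prime := Fact.out
  have hℓpr : ℓ.Prime := Fact.out
  have h2F : (2 : F) ≠ 0 := by
    intro h
    have := (Cfsg.Agent.S0246.two_eq_zero_iff (F := F)).1 h
    exact (Nat.not_even_iff_odd.2 hodd) this
  have hp2 : p ≠ 2 := by
    rintro rfl
    apply h2F
    have := CharP.cast_eq_zero F 2
    exact_mod_cast this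
  obtain ⟨φ, u, hinj, hu0, hφu⟩ := hC1
  obtain ⟨t, ht1, htp, htu, htc⟩ := hC2 u hu0
  obtain ⟨y, hy⟩ := hC3
  -- the element `-1` of `Sp_{2m}`
  have hneg_sq : Cfsg.Agent.S0246.negOne F m ^ 2 = 1 := by
    apply Subtype.ext
    rw [SubmonoidClass.coe_pow, Cfsg.Agent.S0246.negOne_coe]
    simp
  have hneg_ne : Cfsg.Agent.S0246.negOne F m ≠ 1 := by
    intro h
    have h1 := congrArg (fun g : Matrix.symplecticGroup (Fin m) F =>
      (g : Matrix (Fin m ⊕ Fin m) (Fin m ⊕ Fin m) F) (Sum.inl ⟨0, by omega⟩) (Sum.inl ⟨0, by omega⟩)) h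
    simp only [Cfsg.Agent.S0246.negOne_coe] at h1
    have h3 : ((1 : Matrix.symplecticGroup (Fin m) F) : Matrix (Fin m ⊕ Fin m) (Fin m ⊕ Fin m) F) = 1 := rfl
    rw [h3, Matrix.neg_apply, Matrix.one_apply_eq] at h1
    apply h2F
    linear_combination -h1
  have hneg_ord : orderOf (Cfsg.Agent.S0246.negOne F m) = 2 :=
    orderOf_eq_prime hneg_sq hneg_ne
  have hcomm1 : Commute (Cfsg.Agent.S0246.negOne F m) y :=
    (Subgroup.mem_center_iff.1 Cfsg.Agent.S0246.negOne_mem_center y).symm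
  have hw_ord : orderOf (Cfsg.Agent.S0246.negOne F m * y) = 2 * ℓ := by
    rw [hcomm1.orderOf_mul_eq_mul_orderOf_of_coprime, hneg_ord, hy]
    rw [hneg_ord, hy]
    exact (Nat.coprime_primes Nat.prime_two hℓpr).2 (Ne.symm hℓ2)
  obtain ⟨w, hw⟩ : ∃ w, w = Cfsg.Agent.S0246.negOne F m * y := ⟨_, rfl⟩
  rw [← hw] at hw_ord
  have hφw_ord : orderOf (φ w) = 2 * ℓ := by
    rw [orderOf_injective φ hinj w, hw_ord]
  have ht_ord : orderOf t = p := orderOf_eq_prime htp ht1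
  have hcomm2 : Commute (φ w) t := htc (φ w) (hφu w)
  have hx_ord : orderOf (φ w * t) = 2 * ℓ * p := by
    rw [hcomm2.orderOf_mul_eq_mul_orderOf_of_coprime, hφw_ord, ht_ord]
    rw [hφw_ord, ht_ord]
    apply Nat.Coprime.mul_left
    · exact (Nat.coprime_primes Nat.prime_two hp).2 (Ne.symm hp2)
    · exact (Nat.coprime_primes hℓpr hp).2 hℓp
  obtain ⟨x, hx⟩ : ∃ x, x = φ w * t := ⟨_, rfl⟩
  rw [← hx] at hx_ord
  have hxu : (x : Matrix (Fin (m + 1) ⊕ Fin (m + 1)) (Fin (m + 1) ⊕ Fin (m + 1)) F) *ᵥ u = u := by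
    rw [hx, Submonoid.coe_mul, ← Matrix.mulVec_mulVec, htu, hφu]
  have hxku : ∀ k : ℕ,
      ((x ^ k : Matrix.symplecticGroup (Fin (m + 1)) F) :
        Matrix (Fin (m + 1) ⊕ Fin (m + 1)) (Fin (m + 1) ⊕ Fin (m + 1)) F) *ᵥ u = u := by
    intro k
    induction k with
    | zero =>
      rw [pow_zero]
      show (1 : Matrix (Fin (m + 1) ⊕ Fin (m + 1)) (Fin (m + 1) ⊕ Fin (m + 1)) F) *ᵥ u = u
      rw [Matrix.one_mulVec]
    | succ k ih =>
      rw [pow_succ, Submonoid.coe_mul, ← Matrix.mulVec_mulVec, hxu, ih]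
  have hord : orderOf (QuotientGroup.mk x : Cfsg.PSp (m + 1) F) = orderOf x := by
    rw [orderOf_eq_orderOf_iff]
    intro k
    rw [← QuotientGroup.mk_pow, QuotientGroup.eq_one_iff]
    constructor
    · intro hc
      rcases Cfsg.Agent.S0246.center_cases (by omega) _ hc with h | h
      · exact h
      · exfalso
        have h1 := hxku k
        rw [h, Cfsg.Agent.S0246.negOne_coe, Matrix.neg_mulVec, Matrix.one_mulVec] at h1
        apply hu0
        have h3 : (2 : F) • u = 0 := by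
          rw [two_smul]
          nth_rewrite 1 [← h1]
          exact neg_add_cancel u
        exact (smul_eq_zero.1 h3).resolve_left h2F
    · intro h
      rw [h]
      exact Subgroup.one_mem _
  refine ⟨QuotientGroup.mk x, ?_⟩
  rw [hord, hx_ord]
  ring

end Cfsg.Agent.Lib.Lead.BCS
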