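import Mathlib
import Cfsg.Agent.Lib.Helper28.CD3.Defs
import Cfsg.Agent.Lib.Helper25.CharOrth
import Cfsg.Agent.Lib.Helper25.CharReal
import Cfsg.Agent.Lib.Helper25.CharLinear
import Cfsg.Agent.Lib.Helper11.AbelianQuot
import Cfsg.Agent.Lib.helper6.PermChar2

/-!
# CD3 piece RHO3: the closure argument of the regular character trick.
-/

set_option autoImplicit false
open scoped ComplexConjugate

namespace Cfsg.Agent.Lib.Helper28.CD3

universe u

section rho3
variable {G : Type u} [Group G] [Fintype G]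

/-- value at `1` of an irreducible character is its degree -/
theorem cd3rho3_one_eq (χ : Cfsg.IrrCharacter G) :
    (χ : G → ℂ) 1 = (Cfsg.charDegree (χ : G → ℂ) : ℂ) := by
  obtain ⟨k, -, hk⟩ := Cfsg.Agent.Lib.Helper25.irr_one_eq_finrank χ
  rw [Cfsg.charDegree, hk]
  simp

/-- degree of the complex conjugate character -/
theorem cd3rho3_deg_conj (χ : Cfsg.IrrCharacter G) :
    Cfsg.charDegree ((Cfsg.Agent.Lib.Helper25.irrConj χ : Cfsg.IrrCharacter G) : G → ℂ) =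
      Cfsg.charDegree (χ : G → ℂ) := by
  simp only [Cfsg.charDegree, Cfsg.Agent.Lib.Helper25.irrConj_apply, Complex.conj_re]

/-- a linear character times an irreducible character, as an irreducible character -/
noncomputable def cd3rho3_linMul (μ χ : Cfsg.IrrCharacter G)
    (hμ : Cfsg.charDegree (μ : G → ℂ) = 1) : Cfsg.IrrCharacter G :=
  ⟨fun g => (μ : G → ℂ) g * (χ : G → ℂ) g, by
    have h1 : (μ : G → ℂ) 1 = 1 := by rw [cd3rho3_one_eq, hμ]; simp
    have := Cfsg.Agent.Lib.Helper11.isIrr_linChar_mul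
      (Cfsg.Agent.Lib.Helper25.irrLinearHom μ h1) (χ : G → ℂ) χ.2
    exact this⟩

theorem cd3rho3_linMul_apply (μ χ : Cfsg.IrrCharacter G)
    (hμ : Cfsg.charDegree (μ : G → ℂ) = 1) (g : G) :
    (cd3rho3_linMul μ χ hμ : G → ℂ) g = (μ : G → ℂ) g * (χ : G → ℂ) g := rfl

theorem cd3rho3_linMul_deg (μ χ : Cfsg.IrrCharacter G)
    (hμ : Cfsg.charDegree (μ : G → ℂ) = 1) :
    Cfsg.charDegree (cd3rho3_linMul μ χ hμ : G → ℂ) = Cfsg.charDegree (χ : G → ℂ) := by
  have h1 : (μ : G → ℂ) 1 = 1 := by rw [cd3rho3_one_eq, hμ]; simp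
  simp only [Cfsg.charDegree, cd3rho3_linMul_apply, h1, one_mul]

/-- irreducible characters of different degree are orthogonal -/
theorem cd3rho3_orth_of_deg_ne (χ ψ : Cfsg.IrrCharacter G)
    (h : Cfsg.charDegree (χ : G → ℂ) ≠ Cfsg.charDegree (ψ : G → ℂ)) :
    Cfsg.classInner (χ : G → ℂ) (ψ : G → ℂ) = 0 := by
  rw [Cfsg.Agent.Lib.Helper25.irr_classInner, if_neg]
  rintro rfl
  exact h rfl

/-- the regular character trick: `∑ ξ(1) [F ξ, η] = F(1) conj η(1)` -/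
theorem cd3rho3_reg_sum [Fintype (Cfsg.IrrCharacter G)] (F : G → ℂ) (η : Cfsg.IrrCharacter G) :
    ∑ ξ : Cfsg.IrrCharacter G, (ξ : G → ℂ) 1 * Cfsg.classInner (F * (ξ : G → ℂ)) (η : G → ℂ) =
      F 1 * conj ((η : G → ℂ) 1) := by
  classical
  have hne : (Nat.card G : ℂ) ≠ 0 := by exact_mod_cast Nat.card_pos.ne'
  simp only [Cfsg.classInner, Pi.mul_apply]
  calc ∑ ξ : Cfsg.IrrCharacter G, (ξ : G → ℂ) 1 *
        ((Nat.card G : ℂ)⁻¹ * ∑ g : G, F g * (ξ : G → ℂ) g * conj ((η : G → ℂ) g))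
      = (Nat.card G : ℂ)⁻¹ * ∑ g : G, F g * conj ((η : G → ℂ) g) *
          ∑ ξ : Cfsg.IrrCharacter G, (ξ : G → ℂ) g * (ξ : G → ℂ) 1 := by
        simp only [Finset.mul_sum]
        rw [Finset.sum_comm]
        refine Finset.sum_congr rfl fun g _ => Finset.sum_congr rfl fun ξ _ => ?_
        ring
    _ = (Nat.card G : ℂ)⁻¹ * ∑ g : G, F g * conj ((η : G → ℂ) g) *
          (if g = 1 then (Fintype.card G : ℂ) else 0) := by
        simp only [Cfsg.Agent.Lib.helper6.PermChar.regular_indicator]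
    _ = F 1 * conj ((η : G → ℂ) 1) := by
        simp only [mul_ite, mul_zero, Finset.sum_ite_eq', Finset.mem_univ, if_true]
        rw [← Nat.card_eq_fintype_card]
        field_simp

/-- `[χ ξ, η] = [ξ conj η, conj χ]` -/
theorem cd3rho3_swap (χ ξ η : Cfsg.IrrCharacter G) :
    Cfsg.classInner ((χ : G → ℂ) * (ξ : G → ℂ)) (η : G → ℂ) =
      Cfsg.classInner ((ξ : G → ℂ) * ((Cfsg.Agent.Lib.Helper25.irrConj η : Cfsg.IrrCharacter G) : G → ℂ))
        ((Cfsg.Agent.Lib.Helper25.irrConj χ : Cfsg.IrrCharacter G) : G → ℂ) := by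
  simp only [Cfsg.classInner, Pi.mul_apply, Cfsg.Agent.Lib.Helper25.irrConj_apply,
    Complex.conj_conj]
  congr 1
  refine Finset.sum_congr rfl fun g _ => ?_
  ring

/-- `[χ ξ, μ] = [ξ, μ conj χ]` for linear `μ` -/
theorem cd3rho3_swap_lin (χ ξ μ : Cfsg.IrrCharacter G) (hμ : Cfsg.charDegree (μ : G → ℂ) = 1) :
    Cfsg.classInner ((χ : G → ℂ) * (ξ : G → ℂ)) (μ : G → ℂ) =
      Cfsg.classInner (ξ : G → ℂ)
        (cd3rho3_linMul μ (Cfsg.Agent.Lib.Helper25.irrConj χ) hμ : G → ℂ) := by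
  simp only [Cfsg.classInner, Pi.mul_apply, cd3rho3_linMul_apply,
    Cfsg.Agent.Lib.Helper25.irrConj_apply, map_mul, Complex.conj_conj]
  congr 1
  refine Finset.sum_congr rfl fun g _ => ?_
  ring

end rho3

theorem rho3 {G : Type u} [Group G] [Fintype G] {m n : ℕ} (hm : 1 < m) (hmn : m < n)
    (hcd : Cfsg.charDegrees G = {1, m, n})
    (hvan : ∀ χ χ' ψ : Cfsg.IrrCharacter G, Cfsg.charDegree (χ : G → ℂ) = m →
      Cfsg.charDegree (χ' : G → ℂ) = m → Cfsg.charDegree (ψ : G → ℂ) = n →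
      Cfsg.classInner ((χ : G → ℂ) * (ψ : G → ℂ)) (χ' : G → ℂ) = 0)
    (χ₀ : Cfsg.IrrCharacter G) (hχ₀ : Cfsg.charDegree (χ₀ : G → ℂ) = m)
    (hfaith : ∀ g : G, (χ₀ : G → ℂ) g = (χ₀ : G → ℂ) 1 → g = 1) : False := by
  classical
  letI : Fintype (Cfsg.IrrCharacter G) := Fintype.ofFinite _
  have hne : (Nat.card G : ℂ) ≠ 0 := by exact_mod_cast Nat.card_pos.ne'
  have hdeg : ∀ ξ : Cfsg.IrrCharacter G, Cfsg.charDegree (ξ : G → ℂ) = 1 ∨
      Cfsg.charDegree (ξ : G → ℂ) = m ∨ Cfsg.charDegree (ξ : G → ℂ) = n := by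
    intro ξ
    have h : Cfsg.charDegree (ξ : G → ℂ) ∈ Cfsg.charDegrees G := ⟨ξ, rfl⟩
    rw [hcd] at h
    simpa using h
  -- the four vanishing statements
  have hA : ∀ ξ η : Cfsg.IrrCharacter G, Cfsg.charDegree (ξ : G → ℂ) = 1 →
      Cfsg.charDegree (η : G → ℂ) ≠ m →
      Cfsg.classInner ((χ₀ : G → ℂ) * (ξ : G → ℂ)) (η : G → ℂ) = 0 := by
    intro ξ η hξ hη
    have h1 : (χ₀ : G → ℂ) * (ξ : G → ℂ) = (cd3rho3_linMul ξ χ₀ hξ : G → ℂ) := by
      funext g
      rw [Pi.mul_apply, cd3rho3_linMul_apply, mul_comm]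
    rw [h1]
    apply cd3rho3_orth_of_deg_ne
    rw [cd3rho3_linMul_deg, hχ₀]
    exact fun h => hη h.symm
  have hB : ∀ ξ η : Cfsg.IrrCharacter G, Cfsg.charDegree (ξ : G → ℂ) = m →
      Cfsg.charDegree (η : G → ℂ) = n →
      Cfsg.classInner ((χ₀ : G → ℂ) * (ξ : G → ℂ)) (η : G → ℂ) = 0 := by
    intro ξ η hξ hη
    rw [cd3rho3_swap]
    apply hvan ξ _ _ hξ
    · rw [cd3rho3_deg_conj, hχ₀]
    · rw [cd3rho3_deg_conj, hη]
  have hC : ∀ ξ η : Cfsg.IrrCharacter G, Cfsg.charDegree (ξ : G → ℂ) = n →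
      Cfsg.charDegree (η : G → ℂ) = m →
      Cfsg.classInner ((χ₀ : G → ℂ) * (ξ : G → ℂ)) (η : G → ℂ) = 0 := by
    intro ξ η hξ hη
    exact hvan χ₀ η ξ hχ₀ hη hξ
  have hD : ∀ ξ η : Cfsg.IrrCharacter G, Cfsg.charDegree (ξ : G → ℂ) = n →
      Cfsg.charDegree (η : G → ℂ) = 1 →
      Cfsg.classInner ((χ₀ : G → ℂ) * (ξ : G → ℂ)) (η : G → ℂ) = 0 := by
    intro ξ η hξ hη
    rw [cd3rho3_swap_lin χ₀ ξ η hη]
    apply cd3rho3_orth_of_deg_ne
    rw [cd3rho3_linMul_deg, cd3rho3_deg_conj, hχ₀, hξ]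
    omega
  -- the truncated regular character
  set c : Cfsg.IrrCharacter G → ℂ :=
    fun ξ => if Cfsg.charDegree (ξ : G → ℂ) = n then 0 else (ξ : G → ℂ) 1 with hc
  set Φ : G → ℂ := ∑ ξ : Cfsg.IrrCharacter G, c ξ • (ξ : G → ℂ) with hΦ
  have hΦη : ∀ η : Cfsg.IrrCharacter G, Cfsg.classInner Φ (η : G → ℂ) = c η := by
    intro η
    rw [hΦ, Cfsg.Agent.Lib.Helper25.classInner_sum_left]
    simp only [Cfsg.Agent.Lib.Helper25.classInner_smul_left,
      Cfsg.Agent.Lib.Helper25.irr_classInner]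
    rw [Finset.sum_eq_single η]
    · simp
    · intro ξ _ hξ
      simp [hξ]
    · intro h
      exact absurd (Finset.mem_univ η) h
  have hχΦ : (χ₀ : G → ℂ) * Φ =
      ∑ ξ : Cfsg.IrrCharacter G, c ξ • ((χ₀ : G → ℂ) * (ξ : G → ℂ)) := by
    rw [hΦ, Finset.mul_sum]
    refine Finset.sum_congr rfl fun ξ _ => ?_
    funext g
    simp only [Pi.mul_apply, Pi.smul_apply, smul_eq_mul]
    ring
  have hconj1 : ∀ η : Cfsg.IrrCharacter G, conj ((η : G → ℂ) 1) = (η : G → ℂ) 1 := by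
    intro η
    rw [cd3rho3_one_eq]
    simp
  have hS : ∀ η : Cfsg.IrrCharacter G,
      Cfsg.classInner ((χ₀ : G → ℂ) * Φ) (η : G → ℂ) = (m : ℂ) * c η := by
    intro η
    rw [hχΦ, Cfsg.Agent.Lib.Helper25.classInner_sum_left]
    simp only [Cfsg.Agent.Lib.Helper25.classInner_smul_left]
    have hreg := cd3rho3_reg_sum (χ₀ : G → ℂ) η
    rw [hconj1, cd3rho3_one_eq χ₀, hχ₀] at hreg
    rcases hdeg η with h1 | h1 | h1
    · -- η linear
      have hcη : c η = (η : G → ℂ) 1 := by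
        simp only [hc]
        rw [if_neg]
        omega
      rw [hcη, ← hreg]
      refine Finset.sum_congr rfl fun ξ _ => ?_
      simp only [hc]
      split_ifs with hξ
      · rw [hD ξ η hξ h1]
        simp
      · rfl
    · -- η of degree m
      have hcη : c η = (η : G → ℂ) 1 := by
        simp only [hc]
        rw [if_neg]
        omega
      rw [hcη, ← hreg]
      refine Finset.sum_congr rfl fun ξ _ => ?_
      simp only [hc]
      split_ifs with hξ
      · rw [hC ξ η hξ h1]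
        simp
      · rfl
    · -- η of degree n
      have hcη : c η = 0 := by
        simp only [hc]
        rw [if_pos h1]
      rw [hcη, mul_zero]
      apply Finset.sum_eq_zero
      intro ξ _
      simp only [hc]
      split_ifs with hξ
      · simp
      · rcases hdeg ξ with h2 | h2 | h2
        · rw [hA ξ η h2 (by omega), mul_zero]
        · rw [hB ξ η h2 h1, mul_zero]
        · exact absurd h2 hξ
  -- `(χ₀ - m) Φ = 0`
  have hΦclass : ∀ g h : G, Φ (h * g * h⁻¹) = Φ g := by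
    intro g h
    simp only [hΦ, Finset.sum_apply, Pi.smul_apply, smul_eq_mul,
      Cfsg.Agent.Lib.Helper25.irr_conj_invariant]
  set D : G → ℂ := (χ₀ : G → ℂ) * Φ - (m : ℂ) • Φ with hD'
  have hDzero : D = 0 := by
    apply Cfsg.Agent.Lib.Helper25.eq_zero_of_orthogonal_irr
    · intro g h
      simp only [hD', Pi.sub_apply, Pi.mul_apply, Pi.smul_apply, smul_eq_mul, hΦclass,
        Cfsg.Agent.Lib.Helper25.irr_conj_invariant]
    · intro η
      have h1 : Cfsg.classInner D ((Cfsg.Agent.Lib.Helper25.irrConj η : Cfsg.IrrCharacter G) : G → ℂ) = 0 := by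
        rw [hD', Cfsg.Agent.Lib.Helper25.classInner_sub_left, hS,
          Cfsg.Agent.Lib.Helper25.classInner_smul_left, hΦη, sub_self]
      simp only [Cfsg.classInner, Cfsg.Agent.Lib.Helper25.irrConj_apply, Complex.conj_conj] at h1
      rcases mul_eq_zero.mp h1 with h2 | h2
      · exact absurd (inv_eq_zero.mp h2) hne
      · exact h2
  have hΦvan : ∀ g : G, g ≠ 1 → Φ g = 0 := by
    intro g hg
    have h1 := congrFun hDzero g
    simp only [hD', Pi.sub_apply, Pi.mul_apply, Pi.smul_apply, smul_eq_mul, Pi.zero_apply] at h1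
    have h2 : ((χ₀ : G → ℂ) g - (m : ℂ)) * Φ g = 0 := by
      rw [sub_mul]; exact h1
    rcases mul_eq_zero.mp h2 with h3 | h3
    · exfalso
      apply hg
      apply hfaith
      rw [cd3rho3_one_eq χ₀, hχ₀]
      exact sub_eq_zero.mp h3
    · exact h3
  -- a character of degree n
  obtain ⟨ψ, hψ⟩ : ∃ ψ : Cfsg.IrrCharacter G, Cfsg.charDegree (ψ : G → ℂ) = n := by
    have : n ∈ Cfsg.charDegrees G := by rw [hcd]; simp
    exact this
  have h0 : Cfsg.classInner Φ (ψ : G → ℂ) = 0 := by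
    rw [hΦη]
    simp only [hc]
    rw [if_pos hψ]
  have h1 : Cfsg.classInner Φ (ψ : G → ℂ) = (Nat.card G : ℂ)⁻¹ * (Φ 1 * (n : ℂ)) := by
    simp only [Cfsg.classInner]
    congr 1
    rw [Finset.sum_eq_single (1 : G)]
    · rw [hconj1, cd3rho3_one_eq ψ, hψ]
    · intro g _ hg
      rw [hΦvan g hg, zero_mul]
    · intro h
      exact absurd (Finset.mem_univ _) h
  -- `Φ 1` is a positive natural number
  have hΦ1 : Φ 1 = ((∑ ξ : Cfsg.IrrCharacter G,
      (if Cfsg.charDegree (ξ : G → ℂ) = n then 0 else Cfsg.charDegree (ξ : G → ℂ) ^ 2 : ℕ) : ℕ) : ℂ) := by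
    simp only [hΦ, Finset.sum_apply, Pi.smul_apply, smul_eq_mul, hc]
    push_cast
    refine Finset.sum_congr rfl fun ξ _ => ?_
    split_ifs
    · simp
    · rw [cd3rho3_one_eq]
      push_cast
      ring
  have hpos : 0 < ∑ ξ : Cfsg.IrrCharacter G,
      (if Cfsg.charDegree (ξ : G → ℂ) = n then 0 else Cfsg.charDegree (ξ : G → ℂ) ^ 2 : ℕ) := by
    apply Finset.sum_pos'
    · intro ξ _
      exact Nat.zero_le _
    · refine ⟨χ₀, Finset.mem_univ _, ?_⟩
      rw [if_neg (by omega), hχ₀]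
      positivity
  rw [h1, hΦ1] at h0
  have hn0 : (n : ℂ) ≠ 0 := by
    have : n ≠ 0 := by omega
    exact_mod_cast this
  have hs0 : ((∑ ξ : Cfsg.IrrCharacter G,
      (if Cfsg.charDegree (ξ : G → ℂ) = n then 0 else Cfsg.charDegree (ξ : G → ℂ) ^ 2 : ℕ) : ℕ) : ℂ) ≠ 0 := by
    exact_mod_cast hpos.ne'
  rcases mul_eq_zero.mp h0 with h2 | h2
  · exact hne (inv_eq_zero.mp h2)
  · rcases mul_eq_zero.mp h2 with h3 | h3
    · exact hs0 h3
    · exact hn0 h3

end Cfsg.Agent.Lib.Helper28.CD3
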