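import Mathlib
import Cfsg.Agent.Lib.helper7.Om.Stmts

set_option autoImplicit false

/-!
# Om-E1 (project Om, S1082): clearing a singular vector with a pivot
-/

namespace Cfsg.Agent.Lib.Helper28.Om

open Matrix Cfsg.Agent.Lib.Lead Cfsg.Agent.Lib.Helper26 Cfsg.Agent.Lib.helper7.Om

variable {F : Type*} [Field F]

theorem ix_swap_aux (c : P8) : ix c.swap = ix c := by
  rcases c with i | i <;> rfl

/-- coordinates after applying `W p.swap a c` -/
theorem W_coord {p a : P8} (hap : a ≠ p) (hap' : a ≠ p.swap) (c : F) (x : P8 → F) (b : P8) :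
    ((W p.swap a c).1.1 *ᵥ x) b =
      x b + c * (x p * (if b = a then 1 else 0) - x a.swap * (if b = p.swap then 1 else 0)) := by
  have h : CValid p.swap a := ⟨Ne.symm hap', by rw [Sum.swap_swap]; exact hap⟩
  rw [W_mulVec h, Sum.swap_swap]
  simp only [Pi.add_apply, Pi.smul_apply, Pi.sub_apply, Pi.single_apply, smul_eq_mul]

/-- the clearing step, by induction on the set of positions to clear -/
theorem clear_aux (j : ℕ) (p : P8) (S : Finset P8) :
    (∀ a ∈ S, a ≠ p ∧ a ≠ p.swap ∧ j ≤ ix a) → j ≤ ix p → ∀ v : P8 → F, v p = 1 →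
    ∃ e ∈ EOj F j, (∀ a ∈ S, (e.1.1 *ᵥ v) a = 0) ∧
      (∀ b, b ∉ S → b ≠ p.swap → (e.1.1 *ᵥ v) b = v b) ∧
      e.1.1 *ᵥ (Pi.single p.swap (1 : F) : P8 → F) = Pi.single p.swap 1 := by
  classical
  induction S using Finset.induction_on with
  | empty =>
    intro _ _ v _
    refine ⟨1, Subgroup.one_mem _, by simp, ?_, ?_⟩
    · intro b _ _
      rw [og_one_mulVec]
    · rw [og_one_mulVec]
  | insert a S haS ih =>
    intro hS hjp v hvp
    have hS' : ∀ a ∈ S, a ≠ p ∧ a ≠ p.swap ∧ j ≤ ix a :=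
      fun b hb => hS b (Finset.mem_insert_of_mem hb)
    obtain ⟨hap, hap', hja⟩ := hS a (Finset.mem_insert_self a S)
    obtain ⟨e, he, he0, heq, hefix⟩ := ih hS' hjp v hvp
    obtain ⟨w, hw⟩ : ∃ w : P8 → F, w = e.1.1 *ᵥ v := ⟨_, rfl⟩
    have hwp : w p = 1 := by
      rw [hw, heq p (fun hp => (hS' p hp).1 rfl) (fun hp => swap_ne_self p hp.symm), hvp]
    have hvalid : CValid p.swap a := ⟨Ne.symm hap', by rw [Sum.swap_swap]; exact hap⟩
    have hjp' : j ≤ ix p.swap := by rw [ix_swap_aux]; exact hjp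
    refine ⟨W p.swap a (-(w a)) * e,
      Subgroup.mul_mem _ (W_mem_EOj hvalid hjp' hja _) he, ?_, ?_, ?_⟩
    · intro b hb
      rw [og_mul_mulVec, ← hw, W_coord hap hap']
      rcases Finset.mem_insert.mp hb with rfl | hbS
      · rw [if_pos rfl, if_neg hap', hwp]
        ring
      · have hba : b ≠ a := fun h => haS (h ▸ hbS)
        rw [if_neg hba, if_neg (hS' b hbS).2.1, hw, he0 b hbS]
        ring
    · intro b hb hbp'
      have hba : b ≠ a := fun h => hb (h ▸ Finset.mem_insert_self a S)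
      have hbS : b ∉ S := fun h => hb (Finset.mem_insert_of_mem h)
      rw [og_mul_mulVec, ← hw, W_coord hap hap', if_neg hba, if_neg hbp', hw, heq b hbS hbp']
      ring
    · rw [og_mul_mulVec, hefix]
      funext b
      rw [W_coord hap hap']
      have h1 : (Pi.single p.swap (1 : F) : P8 → F) p = 0 := by
        rw [Pi.single_apply, if_neg (fun h => swap_ne_self p h.symm)]
      have h2 : (Pi.single p.swap (1 : F) : P8 → F) a.swap = 0 := by
        rw [Pi.single_apply, if_neg]
        intro h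
        apply hap
        have := congrArg Sum.swap h
        rwa [Sum.swap_swap, Sum.swap_swap] at this
      rw [h1, h2]
      ring

/-- the quadratic form of a vector supported on `{p, p.swap}` -/
theorem quad_two (p : P8) (x : P8 → F) (hx : ∀ b, b ≠ p → b ≠ p.swap → x b = 0) :
    Cfsg.quadFormPlus 4 F x = x p * x p.swap := by
  unfold Cfsg.quadFormPlus
  rcases p with i | i
  · rw [Finset.sum_eq_single i]
    · rfl
    · intro k _ hk
      rw [hx (Sum.inl k) (fun h => hk (Sum.inl_injective h)) (by simp), zero_mul]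
    · intro h
      exact absurd (Finset.mem_univ i) h
  · rw [Finset.sum_eq_single i]
    · simp [mul_comm]
    · intro k _ hk
      rw [hx (Sum.inl k) (by simp) (fun h => hk (by simpa using h)), zero_mul]
    · intro h
      exact absurd (Finset.mem_univ i) h

/-- **Om-E1** -/
theorem pivot : PivotStmt F := by
  classical
  intro j p hjp v hsup hvp hQ
  obtain ⟨e, he, he0, heq, hefix⟩ := clear_aux (F := F) j p
    (Finset.univ.filter (fun a : P8 => a ≠ p ∧ a ≠ p.swap ∧ j ≤ ix a))
    (fun a ha => (Finset.mem_filter.mp ha).2) hjp v hvp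
  refine ⟨e, he, ?_, hefix⟩
  obtain ⟨w, hw⟩ : ∃ w : P8 → F, w = e.1.1 *ᵥ v := ⟨_, rfl⟩
  rw [← hw]
  have hwp : w p = 1 := by
    rw [hw, heq p (fun hp => (Finset.mem_filter.mp hp).2.1 rfl)
      (fun hp => swap_ne_self p hp.symm), hvp]
  have hw0 : ∀ b, b ≠ p → b ≠ p.swap → w b = 0 := by
    intro b hb hb'
    by_cases hjb : j ≤ ix b
    · rw [hw]
      exact he0 b (Finset.mem_filter.mpr ⟨Finset.mem_univ _, hb, hb', hjb⟩)
    · rw [hw, heq b (fun h => hjb (Finset.mem_filter.mp h).2.2.2) hb']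
      exact hsup b (not_le.mp hjb)
  have hq : Cfsg.quadFormPlus 4 F w = 0 := by rw [hw, og_quad, hQ]
  rw [quad_two p w hw0, hwp, one_mul] at hq
  funext b
  by_cases hb : b = p
  · subst hb
    rw [hwp, Pi.single_eq_same]
  · rw [Pi.single_eq_of_ne hb]
    by_cases hb' : b = p.swap
    · rw [hb', hq]
    · exact hw0 b hb hb'

end Cfsg.Agent.Lib.Helper28.Om
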