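import Mathlib
import Cfsg.Agent.Lib.helper7.Om.Stmts
import Cfsg.Agent.Lib.Helper28.OmE1

set_option autoImplicit false

/-!
# Om-E2 (project Om, S1082): moving a singular vector to a basis vector
-/

namespace Cfsg.Agent.Lib.Helper28.Om

open Matrix Cfsg.Agent.Lib.Lead Cfsg.Agent.Lib.Helper26 Cfsg.Agent.Lib.helper7.Om

variable {F : Type*} [Field F]

/-- `W p.swap a c` preserves the support condition when `ix p, ix a ≥ j`. -/
theorem W_sup {j : ℕ} {p a : P8} (hap : a ≠ p) (hap' : a ≠ p.swap) (hjp : j ≤ ix p)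
    (hja : j ≤ ix a) (c : F) {x : P8 → F} (hx : Sup j x) :
    Sup j ((W p.swap a c).1.1 *ᵥ x) := by
  intro b hb
  have hba : b ≠ a := fun h => by rw [h] at hb; omega
  have hbp : b ≠ p.swap := fun h => by rw [h, ix_swap_aux] at hb; omega
  rw [W_coord hap hap', if_neg hba, if_neg hbp, hx b hb]
  ring

theorem W_EOj {j : ℕ} {p a : P8} (hap : a ≠ p) (hap' : a ≠ p.swap) (hjp : j ≤ ix p)
    (hja : j ≤ ix a) (c : F) : W p.swap a c ∈ EOj F j :=
  W_mem_EOj ⟨Ne.symm hap', by rw [Sum.swap_swap]; exact hap⟩ (by rw [ix_swap_aux]; exact hjp) hja c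

/-- Case A: some coordinate outside `{p0, p0'}` is nonzero. -/
theorem caseA (hP : PivotStmt F) (j : ℕ) (p0 p : P8) (hj0 : j ≤ ix p0) (hp0 : p0 ≠ p)
    (hp0' : p0 ≠ p.swap) (v : P8 → F) (hsup : Sup j v) (hvp : v p ≠ 0)
    (hQ : Cfsg.quadFormPlus 4 F v = 0) :
    ∃ e ∈ EOj F j, e.1.1 *ᵥ v = Pi.single p0 1 := by
  have hjp : j ≤ ix p := by
    by_contra h
    exact hvp (hsup p (not_le.mp h))
  obtain ⟨c, hc⟩ : ∃ c : F, c = (1 - v p0) / v p := ⟨_, rfl⟩
  obtain ⟨v1, hv1⟩ : ∃ v1 : P8 → F, v1 = (W p.swap p0 c).1.1 *ᵥ v := ⟨_, rfl⟩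
  have h1 : v1 p0 = 1 := by
    rw [hv1, W_coord hp0 hp0', if_pos rfl, if_neg hp0', hc]
    field_simp
    ring
  have hs1 : Sup j v1 := by
    rw [hv1]
    exact W_sup hp0 hp0' hjp hj0 c hsup
  have hQ1 : Cfsg.quadFormPlus 4 F v1 = 0 := by rw [hv1, og_quad, hQ]
  obtain ⟨e, he, hev, -⟩ := hP j p0 hj0 v1 hs1 h1 hQ1
  refine ⟨e * W p.swap p0 c, Subgroup.mul_mem _ he (W_EOj hp0 hp0' hjp hj0 c), ?_⟩
  rw [og_mul_mulVec, ← hv1, hev]

/-- **Om-E2** -/
theorem to_basis (hP : PivotStmt F) : BasisStmt F := by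
  classical
  intro i hi v hsup hv0 hQ
  by_cases hA : ∃ p : P8, p ≠ Sum.inl i ∧ p ≠ Sum.inr i ∧ v p ≠ 0
  · obtain ⟨p, hp1, hp2, hvp⟩ := hA
    refine caseA hP i.val (Sum.inl i) p (le_refl _) (Ne.symm hp1) ?_ v hsup hvp hQ
    intro h
    apply hp2
    have := congrArg Sum.swap h
    rw [Sum.swap_swap, Sum.swap_inl] at this
    exact this.symm
  · push Not at hA
    -- `v` is supported on `{inl i, inr i}`
    have hq2 : Cfsg.quadFormPlus 4 F v = v (Sum.inl i) * v (Sum.inr i) := by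
      rw [quad_two (Sum.inl i) v (fun b hb hb' => hA b hb (by simpa using hb'))]
      rfl
    rw [hq2] at hQ
    -- the auxiliary position
    have hi3 : i.val + 1 < 4 := by omega
    obtain ⟨q, hq⟩ : ∃ q : P8, q = Sum.inl (⟨i.val + 1, hi3⟩ : Fin 4) := ⟨_, rfl⟩
    have hqi : ix q = i.val + 1 := by rw [hq]; rfl
    have hq1 : q ≠ Sum.inl i := by
      rw [hq]
      intro h
      have := congrArg Fin.val (Sum.inl_injective h)
      simp at this
    have hq2' : q ≠ Sum.inr i := by rw [hq]; simp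
    have hvq : v q = 0 := hA q hq1 hq2'
    have hne : v (Sum.inl i) ≠ 0 ∨ v (Sum.inr i) ≠ 0 := by
      by_contra h
      push Not at h
      apply hv0
      funext b
      by_cases hb : b = Sum.inl i
      · rw [hb]; exact h.1
      · by_cases hb' : b = Sum.inr i
        · rw [hb']; exact h.2
        · exact hA b hb hb'
    rcases hne with hα | hβ
    · -- apply `W (inr i) q 1 = W (inl i).swap q 1`
      obtain ⟨v1, hv1⟩ : ∃ v1 : P8 → F, v1 = (W (Sum.inl i : P8).swap q 1).1.1 *ᵥ v := ⟨_, rfl⟩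
      have hq1s : q ≠ (Sum.inl i : P8).swap := by rw [Sum.swap_inl]; exact hq2'
      have hjq : i.val ≤ ix q := by omega
      have hs1 : Sup i.val v1 := by
        rw [hv1]
        exact W_sup hq1 hq1s (le_refl _) hjq 1 hsup
      have hv1q : v1 q ≠ 0 := by
        rw [hv1, W_coord hq1 hq1s, if_pos rfl, if_neg hq1s, hvq]
        simpa using hα
      have hQ1 : Cfsg.quadFormPlus 4 F v1 = 0 := by rw [hv1, og_quad, hq2, hQ]
      obtain ⟨e, he, hev⟩ := caseA hP i.val (Sum.inl i) q (le_refl _) (Ne.symm hq1)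
        (by
          rw [hq, Sum.swap_inl]
          simp) v1 hs1 hv1q hQ1
      refine ⟨e * W (Sum.inl i : P8).swap q 1,
        Subgroup.mul_mem _ he (W_EOj hq1 hq1s (le_refl _) hjq 1), ?_⟩
      rw [og_mul_mulVec, ← hv1, hev]
    · -- apply `W (inl i) q 1 = W (inr i).swap q 1`
      obtain ⟨v1, hv1⟩ : ∃ v1 : P8 → F, v1 = (W (Sum.inr i : P8).swap q 1).1.1 *ᵥ v := ⟨_, rfl⟩
      have hq2s : q ≠ (Sum.inr i : P8).swap := by rw [Sum.swap_inr]; exact hq1
      have hjq : i.val ≤ ix q := by omega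
      have hs1 : Sup i.val v1 := by
        rw [hv1]
        exact W_sup hq2' hq2s (le_refl _) hjq 1 hsup
      have hv1q : v1 q ≠ 0 := by
        rw [hv1, W_coord hq2' hq2s, if_pos rfl, if_neg hq2s, hvq]
        simpa using hβ
      have hQ1 : Cfsg.quadFormPlus 4 F v1 = 0 := by rw [hv1, og_quad, hq2, hQ]
      obtain ⟨e, he, hev⟩ := caseA hP i.val (Sum.inl i) q (le_refl _) (Ne.symm hq1)
        (by
          rw [hq, Sum.swap_inl]
          simp) v1 hs1 hv1q hQ1
      refine ⟨e * W (Sum.inr i : P8).swap q 1,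
        Subgroup.mul_mem _ he (W_EOj hq2' hq2s (le_refl _) hjq 1), ?_⟩
      rw [og_mul_mulVec, ← hv1, hev]

end Cfsg.Agent.Lib.Helper28.Om
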