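import Cfsg.Agent.Lib.Helper28.ONd2
import Cfsg.Agent.Lib.helper6.CartanDieudonne

set_option autoImplicit false

open Cfsg

namespace Cfsg.Agent.Lib.Helper28.ONdR

open Matrix Cfsg.Agent.Lib.helper6 Cfsg.Agent.Lib.helper6.CD
  Cfsg.Agent.Lib.Helper28.HForm Cfsg.Agent.Lib.Helper28.OGen
  Cfsg.Agent.Lib.Helper28.OMax Cfsg.Agent.Lib.Helper28.OQ Cfsg.Agent.Lib.Helper28.OMaxQ
  Cfsg.Agent.Lib.Helper28.OMax2 Cfsg.Agent.Lib.Helper28.OGenQ
  Cfsg.Agent.Lib.Helper28.ONd Cfsg.Agent.Lib.Helper28.ONd2 Cfsg.Agent.S0795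

variable {n : ℕ} {F : Type*} [Field F]

theorem rp_char2 {Q : (Fin n → F) → F} {f : (Fin n → F) → (Fin n → F) → F}
    (hq : QF Q f) (vf : VFacts Q f) (h2 : (2 : F) = 0)
    {G : Subgroup (Matrix.GeneralLinearGroup (Fin n) F)} (hG : SgGroupQ Q f G)
    (w o : Fin n → F) (hw : Q w ≠ 0) (hoo : Q o = Q w) (hwo : f w o = 0) :
    ∃ h ∈ G, ∀ x, (h : Matrix (Fin n) (Fin n) F) *ᵥ x =
      x - (f x w / Q w) • w - (f x o / Q w) • o := by
  have hf := hq.sym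
  have hww : f w w = 0 := by rw [f_self hq, h2, zero_mul]
  by_cases hp0 : w + o = 0
  · refine ⟨1, G.one_mem, fun x => ?_⟩
    have e : o = -w := (neg_eq_of_add_eq_zero_right hp0).symm
    rw [Units.val_one, Matrix.one_mulVec, e, f_neg_right hf]
    have e2 : x - (f x w / Q w) • w - (-f x w / Q w) • -w = x - ((2 : F) * (f x w / Q w)) • w := by
      module
    rw [e2, h2, zero_mul, zero_smul, sub_zero]
  · have hpp : Q (w + o) = 0 := by
      rw [hq.polar, hoo, hwo, add_zero, ← two_mul, h2, zero_mul]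
    have hyp : f ((Q w)⁻¹ • w) (w + o) = 0 := by
      rw [hf.smul_left, f_add_right hf, hww, hwo, add_zero, mul_zero]
    obtain ⟨r, hrG, hr⟩ := isRho_ex hq vf hG (w + o) ((Q w)⁻¹ • w) hpp hp0 hyp
    refine ⟨r, hrG, fun x => ?_⟩
    rw [hr x, hf.add_left, hf.smul_left, hq.smul, s_symm hf x w, s_symm hf x o]
    have e : x + (f w x + f o x) • (Q w)⁻¹ • w - ((Q w)⁻¹ * f w x) • (w + o) -
        ((Q w)⁻¹ * (Q w)⁻¹ * Q w * (f w x + f o x)) • (w + o) =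
        x - (f w x / Q w) • w - (f o x / Q w) • o - ((2 : F) * (f w x / Q w)) • o := by
      match_scalars <;> field_simp <;> ring
    rw [e, h2, zero_mul, zero_smul, sub_zero]

theorem rp_odd (h2 : (2 : F) ≠ 0) (Q : QuadraticForm F (Fin n → F))
    (w o : Fin n → F) (hw : Q w ≠ 0) (hoo : Q o = Q w) (hwo : pf Q w o = 0) :
    ∃ h ∈ Cfsg.Geo.omegaGL (⇑Q), ∀ x, (h : Matrix (Fin n) (Fin n) F) *ᵥ x =
      x - (pf Q x w / Q w) • w - (pf Q x o / Q w) • o := by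
  have hwo' : QuadraticMap.polar (⇑Q) w o = 0 := hwo
  have hd : Q (w - o) ≠ 0 := by
    rw [CD.Q_sub Q w o, hoo, hwo', sub_zero, ← two_mul]
    exact mul_ne_zero h2 hw
  obtain ⟨r, hr⟩ : ∃ r, r = refl Q w hw := ⟨_, rfl⟩
  obtain ⟨γ, hγ⟩ : ∃ γ, γ = refl Q (w - o) hd := ⟨_, rfl⟩
  have hrinv : r⁻¹ = r := Rset_inv Q r (by rw [hr]; exact refl_mem Q w hw)
  have hγinv : γ⁻¹ = γ := Rset_inv Q γ (by rw [hγ]; exact refl_mem Q (w - o) hd)
  have hmem := Subgroup.commutator_mem_commutator (Subgroup.mem_top r) (Subgroup.mem_top γ)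
  rw [commutatorElement_def, ← commutator_def, hrinv, hγinv] at hmem
  refine ⟨((r * γ * r * γ : ↥(Cfsg.isometryGroup F ⇑Q)) : Matrix.GeneralLinearGroup (Fin n) F),
    (mem_omegaGL_iff Q _).2 ⟨r * γ * r * γ, hmem, rfl⟩, fun x => ?_⟩
  rw [CD.mul_mulVec, CD.mul_mulVec, CD.mul_mulVec]
  have hrv : ∀ y, ((r : Matrix.GeneralLinearGroup (Fin n) F) : Matrix (Fin n) (Fin n) F) *ᵥ y =
      y - ((Q w)⁻¹ * QuadraticMap.polar (⇑Q) w y) • w := by
    intro y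
    rw [hr, refl_coe, reflectionMatrix_mulVec]
  have hγγ : ∀ y, ((γ : Matrix.GeneralLinearGroup (Fin n) F) : Matrix (Fin n) (Fin n) F) *ᵥ
      (((γ : Matrix.GeneralLinearGroup (Fin n) F) : Matrix (Fin n) (Fin n) F) *ᵥ y) = y := by
    intro y
    rw [hγ, refl_coe, Matrix.mulVec_mulVec, refl_sq Q (w - o) hd, Matrix.one_mulVec]
  have hγw : ((γ : Matrix.GeneralLinearGroup (Fin n) F) : Matrix (Fin n) (Fin n) F) *ᵥ w = o := by
    rw [hγ, refl_coe]
    exact refl_swap_sub Q o w hoo.symm hd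
  have hγo : ((γ : Matrix.GeneralLinearGroup (Fin n) F) : Matrix (Fin n) (Fin n) F) *ᵥ o = w := by
    rw [← hγw, hγγ]
  have hpol : QuadraticMap.polar (⇑Q) w
      (((γ : Matrix.GeneralLinearGroup (Fin n) F) : Matrix (Fin n) (Fin n) F) *ᵥ x) =
      QuadraticMap.polar (⇑Q) o x := by
    have := polar_iso Q γ o x
    rw [hγo] at this
    exact this
  rw [hrv (((γ : Matrix.GeneralLinearGroup (Fin n) F) : Matrix (Fin n) (Fin n) F) *ᵥ x), hpol,
    Matrix.mulVec_sub, Matrix.mulVec_smul, hγγ, hγw, hrv, QuadraticMap.polar_sub_right,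
    QuadraticMap.polar_smul_right, hwo']
  unfold pf
  rw [QuadraticMap.polar_comm (⇑Q) x w, QuadraticMap.polar_comm (⇑Q) x o]
  simp only [smul_eq_mul, mul_zero, sub_zero]
  match_scalars <;> field_simp

end Cfsg.Agent.Lib.Helper28.ONdR
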