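import Cfsg.Agent.Lib.Helper28.OdA
import Cfsg.Agent.Lib.Helper28.OGenQ
import Cfsg.Agent.Lib.Helper28.DecGen

set_option autoImplicit false

/-! Piece P of S5677: the projections of a decomposition and the splitting of one block. -/

namespace Cfsg.Agent.Lib.Helper28.Od

open Matrix Cfsg.Agent.Lib.Helper28.Sf Cfsg.Agent.Lib.Helper28.HForm
  Cfsg.Agent.Lib.Helper28.OGen Cfsg.Agent.Lib.Helper28.OMax Cfsg.Agent.Lib.Helper28.OQ
  Cfsg.Agent.Lib.Helper28.OMax2 Cfsg.Agent.Lib.Helper28.OIwa Cfsg.Agent.Lib.Helper28.Os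
  Cfsg.Agent.Lib.Helper28.ONd Cfsg.Agent.S0795

variable {n : ℕ} {F : Type*} [Field F] {Q : (Fin n → F) → F}
  {f : (Fin n → F) → (Fin n → F) → F}

theorem p_pr {t k : ℕ} (D : Fin t → Submodule F (Fin n → F))
    (hD : Cfsg.Geo.IsMDecomposition k D) :
    ∃ pr : Fin t → (Fin n → F) →ₗ[F] (Fin n → F), (∀ i x, pr i x ∈ D i) ∧
      (∀ x, ∑ i, pr i x = x) ∧ (∀ i, ∀ x ∈ D i, pr i x = x) ∧
      (∀ i j, i ≠ j → ∀ x ∈ D j, pr i x = 0) := by
  classical
  have hint : DirectSum.IsInternal D :=
    (DirectSum.isInternal_submodule_iff_iSupIndep_and_iSup_eq_top D).mpr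
      ⟨hD.indep, hD.iSup_eq_top⟩
  let e : (DirectSum (Fin t) fun i => D i) ≃ₗ[F] (Fin n → F) :=
    LinearEquiv.ofBijective (DirectSum.coeLinearMap D) hint
  have he : ∀ y, e y = DirectSum.coeLinearMap D y := fun y => rfl
  let pr : Fin t → (Fin n → F) →ₗ[F] (Fin n → F) := fun i =>
    (D i).subtype ∘ₗ (DirectSum.component F (Fin t) (fun i => D i) i) ∘ₗ
      (e.symm : (Fin n → F) →ₗ[F] (DirectSum (Fin t) fun i => D i))
  have hpr : ∀ i x, pr i x = ((e.symm x) i : Fin n → F) := fun i x => rfl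
  have hof : ∀ (j : Fin t) (x : Fin n → F) (hx : x ∈ D j),
      e.symm x = DirectSum.of (fun i => D i) j ⟨x, hx⟩ := by
    intro j x hx
    apply e.injective
    rw [LinearEquiv.apply_symm_apply, he, DirectSum.coeLinearMap_of]
  refine ⟨pr, ?_, ?_, ?_, ?_⟩
  · intro i x
    rw [hpr]
    exact ((e.symm x) i).2
  · intro x
    have h1 : e (e.symm x) = x := LinearEquiv.apply_symm_apply e x
    rw [he, DirectSum.coeLinearMap_eq_dfinsuppSum, DFinsupp.sum_eq_sum_fintype] at h1
    · simp only [hpr]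
      exact h1
    · intro i
      rfl
  · intro i x hx
    rw [hpr, hof i x hx, DirectSum.of_eq_same]
  · intro i j hij x hx
    rw [hpr, hof j x hx, DirectSum.of_eq_of_ne _ _ _ hij]
    rfl

theorem p_split (Q : QuadraticForm F (Fin n → F))
    (hQ : (QuadraticMap.polarBilin Q).Nondegenerate) {t k : ℕ}
    (D : Fin t → Submodule F (Fin n → F))
    (hD : Cfsg.Geo.IsOrthogonalMDecomposition (⇑Q) k D) (j : Fin t) :
    ∃ W : Submodule F (Fin n → F), Split (pf Q) W (D j) ∧ Module.finrank F W + k = n ∧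
      ∀ i, i ≠ j → D i ≤ W := by
  have hf : SymF (pf Q) := pf_symF Q hQ
  set W : Submodule F (Fin n → F) := ⨆ (i : Fin t) (_ : i ≠ j), D i with hW
  have hle : ∀ i, i ≠ j → D i ≤ W := by
    intro i hij
    rw [hW]
    exact le_iSup₂ (f := fun (i : Fin t) (_ : i ≠ j) => D i) i hij
  have sp : Split (pf Q) W (D j) := by
    refine ⟨?_, ?_⟩
    · intro w hw o ho
      rw [hW] at hw
      refine Submodule.iSup_induction (p := fun i : Fin t => ⨆ (_ : i ≠ j), D i)
        (motive := fun w => pf Q w o = 0) hw ?_ ?_ ?_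
      · intro i x hx
        by_cases hij : i = j
        · have : (⨆ (_ : i ≠ j), D i) = ⊥ := by
            rw [iSup_eq_bot]
            intro h
            exact absurd hij h
          rw [this, Submodule.mem_bot] at hx
          rw [hx]
          exact f_zero_left hf o
        · have : (⨆ (_ : i ≠ j), D i) = D i := by
            apply le_antisymm
            · exact iSup_le fun _ => le_rfl
            · exact le_iSup (fun (_ : i ≠ j) => D i) hij
          rw [this] at hx
          exact hD.decomp.orthogonal i j hij x hx o ho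
      · exact f_zero_left hf o
      · intro x y hx hy
        rw [hf.add_left, hx, hy, add_zero]
    · rw [eq_top_iff, ← hD.decomp.decomp.iSup_eq_top]
      apply iSup_le
      intro i
      by_cases hij : i = j
      · rw [hij]
        exact le_sup_right
      · exact (hle i hij).trans le_sup_left
  refine ⟨W, sp, ?_, hle⟩
  have h1 := sp.finrank hf
  rw [hD.decomp.decomp.finrank_eq j] at h1
  exact h1

end Cfsg.Agent.Lib.Helper28.Od
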