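import Cfsg.Agent.Lib.Helper28.OdA
import Cfsg.Agent.Lib.Helper28.OGenQ
import Cfsg.Agent.Lib.Helper28.DecGen
import Cfsg.Agent.Lib.Helper28.ONdR
import Cfsg.Agent.Lib.Helper28.OdP
import Cfsg.Agent.Lib.helper6.CartanDieudonne

set_option autoImplicit false

/-! Piece R of S5677: concrete elements of `Ω` and of the stabiliser of the decomposition. -/

namespace Cfsg.Agent.Lib.Helper28.Od

open Matrix Cfsg.Agent.Lib.Helper28.Sf Cfsg.Agent.Lib.Helper28.HForm
  Cfsg.Agent.Lib.Helper28.OGen Cfsg.Agent.Lib.Helper28.OMax Cfsg.Agent.Lib.Helper28.OQ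
  Cfsg.Agent.Lib.Helper28.OMax2 Cfsg.Agent.Lib.Helper28.OIwa Cfsg.Agent.Lib.Helper28.Os
  Cfsg.Agent.Lib.Helper28.ONd Cfsg.Agent.S0795

variable {n : ℕ} {F : Type*} [Field F] {Q : (Fin n → F) → F}
  {f : (Fin n → F) → (Fin n → F) → F}

namespace RAux

open Cfsg.Agent.Lib.helper6 Cfsg.Agent.Lib.helper6.CD Cfsg.Agent.Lib.Helper28.OMaxQ

/-- product of the reflections in `b` and `o` when `b - o` is nonsingular -/
theorem rot_aux (Q : QuadraticForm F (Fin n → F)) (b o : Fin n → F)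
    (hb : Q b ≠ 0) (ho : Q o = Q b) (hd : Q (b - o) ≠ 0) :
    ∃ h ∈ Cfsg.Geo.omegaGL (⇑Q), ∀ x, (h : Matrix (Fin n) (Fin n) F) *ᵥ x =
      Rf (⇑Q) (pf Q) b (Rf (⇑Q) (pf Q) o x) := by
  obtain ⟨r, hr⟩ : ∃ r, r = refl Q b hb := ⟨_, rfl⟩
  obtain ⟨γ, hγ⟩ : ∃ γ, γ = refl Q (b - o) hd := ⟨_, rfl⟩
  have hrinv : r⁻¹ = r := Rset_inv Q r (by rw [hr]; exact refl_mem Q b hb)
  have hγinv : γ⁻¹ = γ := Rset_inv Q γ (by rw [hγ]; exact refl_mem Q (b - o) hd)
  have hmem := Subgroup.commutator_mem_commutator (Subgroup.mem_top r) (Subgroup.mem_top γ)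
  rw [commutatorElement_def, ← commutator_def, hrinv, hγinv] at hmem
  refine ⟨((r * γ * r * γ : ↥(Cfsg.isometryGroup F ⇑Q)) : Matrix.GeneralLinearGroup (Fin n) F),
    (mem_omegaGL_iff Q _).2 ⟨r * γ * r * γ, hmem, rfl⟩, fun x => ?_⟩
  rw [CD.mul_mulVec, CD.mul_mulVec, CD.mul_mulVec]
  have hrv : ∀ y, ((r : Matrix.GeneralLinearGroup (Fin n) F) : Matrix (Fin n) (Fin n) F) *ᵥ y =
      y - ((Q b)⁻¹ * QuadraticMap.polar (⇑Q) b y) • b := by
    intro y
    rw [hr, refl_coe, reflectionMatrix_mulVec]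
  have hγγ : ∀ y, ((γ : Matrix.GeneralLinearGroup (Fin n) F) : Matrix (Fin n) (Fin n) F) *ᵥ
      (((γ : Matrix.GeneralLinearGroup (Fin n) F) : Matrix (Fin n) (Fin n) F) *ᵥ y) = y := by
    intro y
    rw [hγ, refl_coe, Matrix.mulVec_mulVec, refl_sq Q (b - o) hd, Matrix.one_mulVec]
  have hγb : ((γ : Matrix.GeneralLinearGroup (Fin n) F) : Matrix (Fin n) (Fin n) F) *ᵥ b = o := by
    rw [hγ, refl_coe]
    exact refl_swap_sub Q o b ho.symm hd
  have hγo : ((γ : Matrix.GeneralLinearGroup (Fin n) F) : Matrix (Fin n) (Fin n) F) *ᵥ o = b := by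
    rw [← hγb, hγγ]
  have hpol : QuadraticMap.polar (⇑Q) b
      (((γ : Matrix.GeneralLinearGroup (Fin n) F) : Matrix (Fin n) (Fin n) F) *ᵥ x) =
      QuadraticMap.polar (⇑Q) o x := by
    have := polar_iso Q γ o x
    rw [hγo] at this
    exact this
  rw [hrv (((γ : Matrix.GeneralLinearGroup (Fin n) F) : Matrix (Fin n) (Fin n) F) *ᵥ x), hpol,
    Matrix.mulVec_sub, Matrix.mulVec_smul, hγγ, hγb, hrv]
  unfold Rf pf
  rw [ho, QuadraticMap.polar_comm (⇑Q) x o,
    QuadraticMap.polar_comm (⇑Q) (x - (QuadraticMap.polar (⇑Q) o x / Q b) • o) b]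
  have e1 : (Q b)⁻¹ * QuadraticMap.polar (⇑Q) o x = QuadraticMap.polar (⇑Q) o x / Q b := by
    rw [div_eq_mul_inv, mul_comm]
  rw [e1]
  have e2 : ∀ c : F, (Q b)⁻¹ * c = c / Q b := fun c => by rw [div_eq_mul_inv, mul_comm]
  rw [e2]

theorem Rf_neg (hq : QF Q f) (v x : Fin n → F) : Rf Q f (-v) x = Rf Q f v x := by
  unfold Rf
  rw [Q_neg hq, f_neg_right hq.sym, neg_div, neg_smul, smul_neg, neg_neg]

end RAux

theorem r_rot (h2 : (2 : F) ≠ 0) (Q : QuadraticForm F (Fin n → F)) (b b' : Fin n → F)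
    (hb : Q b ≠ 0) (hb' : Q b' = Q b) :
    ∃ h ∈ Cfsg.Geo.omegaGL (⇑Q), ∀ x, (h : Matrix (Fin n) (Fin n) F) *ᵥ x =
      Rf (⇑Q) (pf Q) b (Rf (⇑Q) (pf Q) b' x) := by
  by_cases hd : Q (b - b') = 0
  · have hn : Q (-b') = Q b := by rw [QuadraticMap.map_neg, hb']
    have hd2 : Q (b - -b') ≠ 0 := by
      intro h0
      have e1 := Cfsg.Agent.Lib.helper6.CD.Q_sub Q b b'
      have e2 := Cfsg.Agent.Lib.helper6.CD.Q_sub Q b (-b')
      rw [hd, hb'] at e1
      rw [h0, hn, QuadraticMap.polar_neg_right] at e2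
      have : (2 : F) * (2 * Q b) = 0 := by linear_combination -e1 - e2
      rcases mul_eq_zero.mp this with h | h
      · exact h2 h
      · rcases mul_eq_zero.mp h with h | h
        · exact h2 h
        · exact hb h
    obtain ⟨h, hh, hx⟩ := RAux.rot_aux Q b (-b') hb hn hd2
    refine ⟨h, hh, fun x => ?_⟩
    rw [hx]
    congr 1
    unfold Rf pf
    rw [QuadraticMap.map_neg, QuadraticMap.polar_neg_right, neg_div, neg_smul, smul_neg, neg_neg]
  · exact RAux.rot_aux Q b b' hb hb' hd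

theorem r_stab_of {t k : ℕ} (D : Fin t → Submodule F (Fin n → F))
    (hD : Cfsg.Geo.IsMDecomposition k D) (g : Matrix.GeneralLinearGroup (Fin n) F)
    (h : ∀ i, ∃ j, ∀ x ∈ D i, (g : Matrix (Fin n) (Fin n) F) *ᵥ x ∈ D j) :
    g ∈ Cfsg.Geo.decompositionStabilizer D := by
  classical
  choose σ hσ using h
  have hmap : ∀ i, (D i).map (Matrix.toLin' (g : Matrix (Fin n) (Fin n) F)) = D (σ i) :=
    fun i => DecGen.map_eq D hD.finrank_eq g i (σ i) (hσ i)
  have hne : ∀ i, D i ≠ ⊥ := by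
    intro i hi
    have := hD.finrank_eq i
    rw [hi, finrank_bot] at this
    have := hD.pos
    omega
  have hinj : Function.Injective σ := by
    intro i i' hii
    by_contra hne'
    have h1 : (D i).map (Matrix.toLin' (g : Matrix (Fin n) (Fin n) F)) =
        (D i').map (Matrix.toLin' (g : Matrix (Fin n) (Fin n) F)) := by
      rw [hmap, hmap, hii]
    have h2 : D i = D i' := Submodule.map_injective_of_injective (DecGen.gl_inj g) h1
    have h3 : Disjoint (D i) (D i') := hD.indep.pairwiseDisjoint hne'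
    rw [h2, disjoint_self] at h3
    exact hne i' h3
  have hbij : Function.Bijective σ := Finite.injective_iff_bijective.mp hinj
  exact DecGen.stab_of_maps D hD.finrank_eq g (Equiv.ofBijective σ hbij) (fun i x hx => hσ i x hx)

theorem r_stab_acts (Q : QuadraticForm F (Fin n → F))
    (hQ : (QuadraticMap.polarBilin Q).Nondegenerate) {t k : ℕ}
    (D : Fin t → Submodule F (Fin n → F))
    (hD : Cfsg.Geo.IsOrthogonalMDecomposition (⇑Q) k D)
    (g : Matrix.GeneralLinearGroup (Fin n) F)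
    (hg : ∀ x, Q ((g : Matrix (Fin n) (Fin n) F) *ᵥ x) = Q x) (j : Fin t)
    (hact : ActsOn (pf Q) (D j) g) : g ∈ Cfsg.Geo.decompositionStabilizer D := by
  have hf : SymF (pf Q) := pf_symF Q hQ
  obtain ⟨W, sp, -, hle⟩ := p_split Q hQ D hD j
  have hpres : ∀ x y, pf Q ((g : Matrix (Fin n) (Fin n) F) *ᵥ x)
      ((g : Matrix (Fin n) (Fin n) F) *ᵥ y) = pf Q x y := by
    intro x y
    unfold pf QuadraticMap.polar
    rw [← Matrix.mulVec_add, hg, hg, hg]
  have hfixW : ∀ w ∈ W, (g : Matrix (Fin n) (Fin n) F) *ᵥ w = w := by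
    intro w hw
    apply hact
    intro y hy
    exact sp.orth w hw y hy
  apply r_stab_of D hD.decomp.decomp g
  intro i
  refine ⟨i, fun x hx => ?_⟩
  by_cases hij : i = j
  · subst hij
    apply sp.mem_O hf
    intro w hw
    rw [← hfixW w hw, hpres]
    exact sp.orth w hw x hx
  · rw [hfixW x (hle i hij hx)]
    exact hx

theorem r_proper [Fintype F] (h2 : (2 : F) ≠ 0) (hn : 7 ≤ n) (Q : QuadraticForm F (Fin n → F))
    (hQ : (QuadraticMap.polarBilin Q).Nondegenerate) {t k : ℕ} (hk : 3 ≤ k)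
    (D : Fin t → Submodule F (Fin n → F))
    (hD : Cfsg.Geo.IsOrthogonalMDecomposition (⇑Q) k D) :
    Cfsg.Geo.decompositionStabilizer D ⊓ Cfsg.Geo.omegaGL (⇑Q) < Cfsg.Geo.omegaGL (⇑Q) := by
  have hq : QF (⇑Q) (pf Q) := Cfsg.Agent.Lib.Helper28.OGenQ.qf_of_quad Q hQ
  have hf : SymF (pf Q) := hq.sym
  have ht : 2 ≤ t := hD.decomp.decomp.two_le
  let i0 : Fin t := ⟨0, by omega⟩
  let j0 : Fin t := ⟨1, by omega⟩
  have hij : i0 ≠ j0 := by
    intro h
    have := congrArg Fin.val h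
    simp [i0, j0] at this
  obtain ⟨Wj, spj, hWj, -⟩ := p_split Q hQ D hD j0
  obtain ⟨Wi, spi, hWi, -⟩ := p_split Q hQ D hD i0
  obtain ⟨y, hyD, hyy, hy0, -, -⟩ := split_sing hq spj 0 Fin.elim0 (by omega)
  obtain ⟨s, hsD, hss, hs0, -, -⟩ := split_sing hq spi 0 Fin.elim0 (by omega)
  obtain ⟨s', hs'D, hs's', hs's⟩ := split_partner hq spi hsD hs0 hss
  set b : Fin n → F := s' + s with hbdef
  have hbD : b ∈ D i0 := (D i0).add_mem hs'D hsD
  have hQb : Q b = 1 := by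
    have := hq.polar s' s
    rw [hs's', hss, hs's, zero_add, zero_add] at this
    exact this
  have hb : Q b ≠ 0 := by rw [hQb]; exact one_ne_zero
  have hby : pf Q b y = 0 := hD.decomp.orthogonal i0 j0 hij b hbD y hyD
  have hyb : pf Q y b = 0 := by rw [s_symm hf]; exact hby
  have hb' : Q (b + y) = Q b := by
    have := hq.polar b y
    rw [hyy, hby, add_zero, add_zero] at this
    exact this
  obtain ⟨h, hh, hx⟩ := r_rot h2 Q b (b + y) hb hb'
  have hbb : pf Q b b = 2 := by rw [pf_self, hQb, mul_one]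
  have e1 : Rf (⇑Q) (pf Q) (b + y) b = -b - (2 : F) • y := by
    unfold Rf
    rw [f_add_right hf, hbb, hby, add_zero, hb', hQb, div_one]
    module
  have e2 : Rf (⇑Q) (pf Q) b (-b - (2 : F) • y) = b - (2 : F) • y := by
    unfold Rf
    rw [f_sub_left hf, f_neg_left hf, hf.smul_left, hbb, hyb, mul_zero, sub_zero, hQb, div_one]
    module
  have hhb : (h : Matrix (Fin n) (Fin n) F) *ᵥ b = b - (2 : F) • y := by rw [hx, e1, e2]
  have hnot : h ∉ Cfsg.Geo.decompositionStabilizer D := by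
    rintro ⟨σ, hσ⟩
    have hmem : (h : Matrix (Fin n) (Fin n) F) *ᵥ b ∈ D (σ i0) := by
      rw [← hσ i0]
      exact ⟨b, hbD, by rw [Matrix.toLin'_apply]⟩
    rw [hhb, sub_eq_add_neg] at hmem
    have hy2 : -((2 : F) • y) ∈ D j0 := (D j0).neg_mem ((D j0).smul_mem _ hyD)
    rcases DecGen.two_comp D hD.decomp.decomp.indep i0 j0 (σ i0) hij b (-((2 : F) • y)) hbD hy2 hmem
      with h0 | h0
    · rw [h0, Q_zero hq] at hQb
      exact zero_ne_one hQb
    · rw [neg_eq_zero, smul_eq_zero] at h0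
      rcases h0 with h0 | h0
      · exact h2 h0
      · exact hy0 h0
  refine lt_of_le_of_ne inf_le_right ?_
  intro heq
  apply hnot
  have : h ∈ Cfsg.Geo.decompositionStabilizer D ⊓ Cfsg.Geo.omegaGL (⇑Q) := by rw [heq]; exact hh
  exact this.1

end Cfsg.Agent.Lib.Helper28.Od
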