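import Mathlib
import Cfsg.Agent.Lib.Helper16.O9H.Defs
import Cfsg.Agent.Lib.Helper16.SpinC1

set_option autoImplicit false
set_option linter.unusedVariables false
set_option linter.unusedSectionVars false

/-!
# Project O9H, row CNEG (helper28): a nonzero level set of a subspace has even size (`x ↦ -x`).
-/

namespace Cfsg.Agent.Lib.Helper16.O9H

open Matrix Polynomial Module

variable {ι : Type} [Fintype ι] [DecidableEq ι] {F : Type*} [Field F]

theorem neg_even [Fintype F] (h2 : (2 : F) ≠ 0) (Q : QuadraticForm F (ι → F)) (W : Submodule F (ι → F)) (c : F)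
    (hc : c ≠ 0) : Even (Nat.card {x : ↥W // Q (x : ι → F) = c}) := by
  classical
  have : Fintype {x : ↥W // Q (x : ι → F) = c} := Fintype.ofFinite _
  rw [Nat.card_eq_fintype_card]
  let f : {x : ↥W // Q (x : ι → F) = c} → {x : ↥W // Q (x : ι → F) = c} := fun x =>
    ⟨-x.1, by
      rw [Submodule.coe_neg, QuadraticMap.map_neg]
      exact x.2⟩
  apply Cfsg.Agent.Lib.Helper16.even_card_of_involution f
  · intro x
    apply Subtype.ext
    show - - x.1 = x.1
    exact neg_neg _
  · intro x h
    have h1 : -x.1 = x.1 := congrArg Subtype.val h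
    have h3 : ((x.1 : ↥W) : ι → F) = 0 := by
      have h4 : -((x.1 : ↥W) : ι → F) = ((x.1 : ↥W) : ι → F) := by
        have := congrArg Subtype.val h1
        simpa using this
      have h5 : (2 : F) • ((x.1 : ↥W) : ι → F) = 0 := by
        rw [two_smul]
        nth_rewrite 1 [← h4]
        exact neg_add_cancel _
      rcases smul_eq_zero.1 h5 with h6 | h6
      · exact absurd h6 h2
      · exact h6
    have h7 := x.2
    rw [h3, map_zero] at h7
    exact hc h7.symm

end Cfsg.Agent.Lib.Helper16.O9H
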