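import Mathlib
import Cfsg.Agent.Lib.Helper16.O9H.Defs

set_option autoImplicit false
set_option linter.unusedVariables false
set_option linter.unusedSectionVars false

/-!
# Project O9H, row KSND (helper28): the orthogonal complement part `W'` of a nondegenerate space is nondegenerate.
-/

namespace Cfsg.Agent.Lib.Helper16.O9H

open Matrix Polynomial Module

variable {ι : Type} [Fintype ι] [DecidableEq ι] {F : Type*} [Field F]

theorem ker_snd (Q : QuadraticForm F (ι → F)) (hQ : ∀ x, (∀ y, pol Q x y = 0) → x = 0)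
    (W₁ W' : Submodule F (ι → F)) (hsup : W₁ ⊔ W' = ⊤) (horth : ∀ x ∈ W₁, ∀ y ∈ W', pol Q x y = 0) :
    ∀ y ∈ W', (∀ z ∈ W', pol Q y z = 0) → y = 0 := by
  intro y hy h
  apply hQ
  intro v
  have hv : v ∈ W₁ ⊔ W' := by
    rw [hsup]
    exact Submodule.mem_top
  obtain ⟨a, ha, b, hb, rfl⟩ := Submodule.mem_sup.1 hv
  show QuadraticMap.polar (⇑Q) y (a + b) = 0
  rw [QuadraticMap.polar_add_right]
  have h1 : QuadraticMap.polar (⇑Q) y a = 0 := by
    rw [QuadraticMap.polar_comm]
    exact horth a ha y hy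
  have h2 : QuadraticMap.polar (⇑Q) y b = 0 := h b hb
  rw [h1, h2, add_zero]

end Cfsg.Agent.Lib.Helper16.O9H
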