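import Mathlib
import Cfsg.Agent.Lib.helper8.OME.Defs
import Cfsg.Agent.Lib.Helper27.OPESCALRED

set_option autoImplicit false
set_option linter.unusedVariables false
set_option linter.unusedSectionVars false

/-!
# Project OME, rows SCALRED and OMEGAODD: second copies by helper28 under own names
(`omescalred_h28`, `omeomegaodd_h28` have EXACTLY the statements of `ome_scal_red`, `ome_omega_odd` of `helper8/OME/Skel.lean.txt`).
On helper27's generic `opescalred_gen` and Helper16 `OB.sq_mem_omega_all`.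
-/

namespace Cfsg.Agent.Lib.helper8.OME

open Polynomial Module Cfsg.Agent.Lib.Helper13.S5955 Cfsg.Agent.Lib.helper15.S5972
  Cfsg.Agent.Lib.Helper18.OPE
open scoped Matrix

/-- the standard minus form is not identically zero -/
theorem omescalredh28_ne {F : Type*} [Field F] (d : ℕ) (a b : F) : ∃ v, (Qm d F a b) v ≠ 0 := by
  refine ⟨Pi.single (Sum.inr 0) 1, ?_⟩
  rw [Qm_coe]
  unfold Cfsg.quadFormMinus
  simp

/-- the statement of SCALRED `ome_scal_red` -/
theorem omescalred_h28 {F : Type*} [Field F] (d : ℕ) (a b : F) (r : ℕ) (x : GL (MI d) F)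
    (hx : x ∈ Cfsg.isometryGroup F (Cfsg.quadFormMinus (d - 1) F a b)) (z : F)
    (hxr : ((x ^ r : GL (MI d) F) : Matrix (MI d) (MI d) F) = z • (1 : Matrix (MI d) (MI d) F))
    (hns : ∀ z : F, (x : Matrix (MI d) (MI d) F) ≠ z • (1 : Matrix (MI d) (MI d) F)) :
    (z = 1 ∨ z = -1) ∧
      (Odd r → ∃ x' : GL (MI d) F, x' ∈ Cfsg.isometryGroup F (Cfsg.quadFormMinus (d - 1) F a b) ∧
        x' ^ r = 1 ∧ x' ≠ 1 ∧
        ∀ W : Submodule F (MI d → F),
          W.map (Matrix.toLin' (x' : Matrix (MI d) (MI d) F)) ≤ W →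
          W.map (Matrix.toLin' (x : Matrix (MI d) (MI d) F)) ≤ W) := by
  exact opescalred_gen (Qm d F a b) (omescalredh28_ne d a b) r x hx z hxr hns

/-- the statement of OMEGAODD `ome_omega_odd` -/
theorem omeomegaodd_h28 {F : Type*} [Field F] [Fintype F] (d : ℕ) (hd : 3 ≤ d) (a b : F)
    (hab : ∀ x y : F, x ^ 2 + a * x * y + b * y ^ 2 = 0 → x = 0 ∧ y = 0) (r : ℕ) (hr : Odd r)
    (x : GL (MI d) F) (hx : x ∈ Cfsg.isometryGroup F (Cfsg.quadFormMinus (d - 1) F a b))
    (hxr : x ^ r = 1) : x ∈ Cfsg.Geo.omegaGL (Cfsg.quadFormMinus (d - 1) F a b) := by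
  classical
  set g : ↥(Cfsg.isometryGroup F (Cfsg.quadFormMinus (d - 1) F a b)) := ⟨x, hx⟩ with hg
  have hgp : g ^ r = 1 := by
    apply Subtype.ext
    rw [Subgroup.coe_pow]
    exact hxr
  obtain ⟨t, ht⟩ := hr
  have hzz : g ^ (t + 1) * g ^ (t + 1) = g := by
    rw [← pow_add, show t + 1 + (t + 1) = r + 1 by omega, pow_succ, hgp, one_mul]
  have hne : ∃ v, (Qm d F a b) v ≠ 0 := omescalredh28_ne d a b
  have hn : 5 ≤ Fintype.card (MI d) := by
    simp only [MI, Fintype.card_sum, Fintype.card_fin]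
    omega
  have hmem := Cfsg.Agent.Lib.Helper16.OB.sq_mem_omega_all (Qm d F a b)
    (Cfsg.Agent.Lib.Helper16.OSemi.qfMinus_nondeg (d - 1) a b hab) hn hne (g ^ (t + 1))
  have hmem' : g ^ (t + 1) * g ^ (t + 1) ∈ Cfsg.Omega F (Cfsg.quadFormMinus (d - 1) F a b) := hmem
  rw [hzz] at hmem'
  unfold Cfsg.Geo.omegaGL
  exact Subgroup.mem_map.mpr ⟨g, hmem', rfl⟩

end Cfsg.Agent.Lib.helper8.OME
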