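import Mathlib
import Cfsg.Agent.Lib.Helper18.OPE.Defs

set_option autoImplicit false
set_option linter.unusedVariables false
set_option linter.unusedSectionVars false

/-!
# Project OPE, rows SQSPPLANE / SQNSPLANE (helper28): the geometric cores (no type theory): an invariant hyperbolic / anisotropic plane.
-/

namespace Cfsg.Agent.Lib.Helper18.OPE

open Polynomial Module Cfsg.Agent.Lib.Helper13.S5955 Cfsg.Agent.Lib.helper15.S5972
open scoped Matrix

section gen

variable {F : Type*} [Field F] {V : Type*} [AddCommGroup V] [Module F V]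

theorem opesqplane_xx {x : Module.End F V} (hxx : x * x = -1) (v : V) : x (x v) = -v := by
  have := LinearMap.congr_fun hxx v
  rwa [Module.End.mul_apply, LinearMap.neg_apply, Module.End.one_apply] at this

theorem opesqplane_polar_xx {Q : QuadraticForm F V} {x : Module.End F V} (hQ : ∀ v, Q (x v) = Q v) (u v : V) :
    QuadraticMap.polarBilin Q (x u) (x v) = QuadraticMap.polarBilin Q u v := by
  rw [QuadraticMap.polarBilin_apply_apply, QuadraticMap.polarBilin_apply_apply]
  unfold QuadraticMap.polar
  rw [← map_add, hQ, hQ, hQ]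

theorem opesqplane_polar_x_left {Q : QuadraticForm F V} {x : Module.End F V} (hQ : ∀ v, Q (x v) = Q v)
    (hxx : x * x = -1) (u v : V) :
    QuadraticMap.polarBilin Q (x u) v = - QuadraticMap.polarBilin Q u (x v) := by
  have h := opesqplane_polar_xx hQ (x u) v
  rw [opesqplane_xx hxx] at h
  rw [← h, map_neg, LinearMap.neg_apply]

theorem opesqplane_polar_self_x (h2 : (2 : F) ≠ 0) {Q : QuadraticForm F V} {x : Module.End F V}
    (hQ : ∀ v, Q (x v) = Q v) (hxx : x * x = -1) (v : V) :
    QuadraticMap.polarBilin Q v (x v) = 0 := by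
  have h1 := opesqplane_polar_x_left hQ hxx v v
  have hsymm : QuadraticMap.polarBilin Q (x v) v = QuadraticMap.polarBilin Q v (x v) := by
    rw [QuadraticMap.polarBilin_apply_apply, QuadraticMap.polarBilin_apply_apply, QuadraticMap.polar_comm]
  rw [hsymm] at h1
  have h3 : (2 : F) * QuadraticMap.polarBilin Q v (x v) = 0 := by linear_combination h1
  rcases mul_eq_zero.1 h3 with h | h
  · exact absurd h h2
  · exact h

theorem opesqplane_self (Q : QuadraticForm F V) (v : V) : QuadraticMap.polarBilin Q v v = 2 * Q v := by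
  rw [QuadraticMap.polarBilin_apply_apply, QuadraticMap.polar_self, two_nsmul, two_mul]

theorem opesqplane_Q_add (Q : QuadraticForm F V) (u v : V) :
    Q (u + v) = Q u + Q v + QuadraticMap.polarBilin Q u v := by
  rw [QuadraticMap.polarBilin_apply_apply]
  unfold QuadraticMap.polar
  ring

/-- span of two vectors: membership -/
theorem opesqplane_mem_span_pair {a b u : V} :
    u ∈ Submodule.span F ({a, b} : Set V) ↔ ∃ s t : F, u = s • a + t • b := by
  rw [Submodule.mem_span_pair]
  constructor
  · rintro ⟨s, t, h⟩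
    exact ⟨s, t, h.symm⟩
  · rintro ⟨s, t, h⟩
    exact ⟨s, t, h.symm⟩

/-- two vectors with `s a + t b = 0 → s = t = 0` span a plane -/
theorem opesqplane_finrank_pair {a b : V} (hind : ∀ s t : F, s • a + t • b = 0 → s = 0 ∧ t = 0) :
    finrank F (Submodule.span F ({a, b} : Set V)) = 2 := by
  have hli : LinearIndependent F ![a, b] := by
    rw [LinearIndependent.pair_iff]
    exact hind
  have h := finrank_span_eq_card hli
  have hr : Set.range ![a, b] = ({a, b} : Set V) := by
    ext y
    simp only [Set.mem_range, Set.mem_insert_iff, Set.mem_singleton_iff]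
    constructor
    · rintro ⟨i, rfl⟩
      fin_cases i
      · left; rfl
      · right; rfl
    · rintro (rfl | rfl)
      · exact ⟨0, rfl⟩
      · exact ⟨1, rfl⟩
  rw [hr] at h
  rw [h]
  rfl

end gen

/-- SQSPPLANE core: `x² = -1`, `-1 = ι²`: a nonzero invariant nondegenerate `N` contains an invariant hyperbolic plane -/
theorem opesqspplane_core {F : Type*} [Field F] (h2 : (2 : F) ≠ 0)
    {V : Type*} [AddCommGroup V] [Module F V]
    {Q : QuadraticForm F V} {x : Module.End F V} (hQ : ∀ v, Q (x v) = Q v) (hxx : x * x = -1)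
    (ι : F) (hι : ι * ι = -1)
    (N : Submodule F V) (hN : SInv x N) (hNnd : SND (QuadraticMap.polarBilin Q) N) (hN0 : N ≠ ⊥) :
    ∃ P : Submodule F V, P ≤ N ∧ SInv x P ∧ SND (QuadraticMap.polarBilin Q) P ∧ finrank F P = 2 ∧
      QHyp Q P := by
  obtain ⟨w, hw, hw0⟩ := (Submodule.ne_bot_iff N).1 hN0
  have hxw : x w ∈ N := hN w hw
  -- a nonzero eigenvector `e ∈ N` with eigenvalue `l`, `l * l = -1`
  obtain ⟨e, l, he, he0, hl, hxe⟩ : ∃ (e : V) (l : F), e ∈ N ∧ e ≠ 0 ∧ l * l = -1 ∧ x e = l • e := by
    by_cases h1 : w - ι • x w = 0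
    · refine ⟨w + ι • x w, -ι, N.add_mem hw (N.smul_mem _ hxw), ?_, by linear_combination hι, ?_⟩
      · intro h3
        have h4 : (2 : F) • w = 0 := by
          have : (2 : F) • w = (w - ι • x w) + (w + ι • x w) := by
            rw [two_smul]
            abel
          rw [this, h1, h3, add_zero]
        rcases smul_eq_zero.1 h4 with h | h
        · exact h2 h
        · exact hw0 h
      · have e1 : x (w + ι • x w) = x w - ι • w := by
          rw [map_add, map_smul, opesqplane_xx hxx, smul_neg, sub_eq_add_neg]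
        have e2 : (-ι) • (w + ι • x w) = x w - ι • w := by
          rw [smul_add, smul_smul, neg_mul, hι, neg_neg, one_smul, neg_smul]
          abel
        rw [e1, e2]
    · refine ⟨w - ι • x w, ι, N.sub_mem hw (N.smul_mem _ hxw), h1, hι, ?_⟩
      have e1 : x (w - ι • x w) = x w + ι • w := by
        rw [map_sub, map_smul, opesqplane_xx hxx, smul_neg, sub_neg_eq_add]
      have e2 : ι • (w - ι • x w) = x w + ι • w := by
        rw [smul_sub, smul_smul, hι, neg_smul, one_smul, sub_neg_eq_add]
        abel
      rw [e1, e2]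
  have hQe : Q e = 0 := by
    have h1 := hQ e
    rw [hxe, QuadraticMap.map_smul, hl, smul_eq_mul] at h1
    have h3 : (2 : F) * Q e = 0 := by linear_combination -h1
    rcases mul_eq_zero.1 h3 with h | h
    · exact absurd h h2
    · exact h
  -- `v ∈ N` with `B e v ≠ 0`
  obtain ⟨v, hv, hev⟩ : ∃ v ∈ N, QuadraticMap.polarBilin Q e v ≠ 0 := by
    by_contra hcon
    apply he0
    apply hNnd e he
    intro v hv
    by_contra h'
    exact hcon ⟨v, hv, h'⟩
  obtain ⟨f, hf⟩ : ∃ f : V, f = v + l • x v := ⟨_, rfl⟩
  have hfN : f ∈ N := by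
    rw [hf]
    exact N.add_mem hv (N.smul_mem _ (hN v hv))
  have hxf : x f = (-l) • f := by
    have e1 : x (v + l • x v) = x v - l • v := by
      rw [map_add, map_smul, opesqplane_xx hxx, smul_neg, sub_eq_add_neg]
    have e2 : (-l) • (v + l • x v) = x v - l • v := by
      rw [smul_add, smul_smul, neg_mul, hl, neg_neg, one_smul, neg_smul]
      abel
    rw [hf, e1, e2]
  have hQf : Q f = 0 := by
    have h1 := hQ f
    rw [hxf, QuadraticMap.map_smul, neg_mul_neg, hl, smul_eq_mul] at h1
    have h3 : (2 : F) * Q f = 0 := by linear_combination -h1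
    rcases mul_eq_zero.1 h3 with h | h
    · exact absurd h h2
    · exact h
  have hef : QuadraticMap.polarBilin Q e f = 2 * QuadraticMap.polarBilin Q e v := by
    have h1 : QuadraticMap.polarBilin Q e (x v) = - l * QuadraticMap.polarBilin Q e v := by
      have h3 := opesqplane_polar_x_left hQ hxx e v
      rw [hxe, map_smul, LinearMap.smul_apply, smul_eq_mul] at h3
      linear_combination h3
    rw [hf, map_add, map_smul, h1, smul_eq_mul]
    linear_combination (-(QuadraticMap.polarBilin Q e v)) * hl
  have hef0 : QuadraticMap.polarBilin Q e f ≠ 0 := by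
    rw [hef]
    exact mul_ne_zero h2 hev
  have hfe : QuadraticMap.polarBilin Q f e = QuadraticMap.polarBilin Q e f := by
    rw [QuadraticMap.polarBilin_apply_apply, QuadraticMap.polarBilin_apply_apply, QuadraticMap.polar_comm]
  have hee : QuadraticMap.polarBilin Q e e = 0 := by rw [opesqplane_self, hQe, mul_zero]
  have hff : QuadraticMap.polarBilin Q f f = 0 := by rw [opesqplane_self, hQf, mul_zero]
  have hind : ∀ s t : F, s • e + t • f = 0 → s = 0 ∧ t = 0 := by
    intro s t hst
    have h1 : QuadraticMap.polarBilin Q e (s • e + t • f) = t * QuadraticMap.polarBilin Q e f := by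
      rw [map_add, map_smul, map_smul, hee, smul_zero, zero_add, smul_eq_mul]
    rw [hst, map_zero] at h1
    have ht : t = 0 := by
      rcases mul_eq_zero.1 h1.symm with h | h
      · exact h
      · exact absurd h hef0
    rw [ht, zero_smul, add_zero] at hst
    rcases smul_eq_zero.1 hst with h | h
    · exact ⟨h, ht⟩
    · exact absurd h he0
  refine ⟨Submodule.span F ({e, f} : Set V), ?_, ?_, ?_, opesqplane_finrank_pair hind, ?_⟩
  · rw [Submodule.span_le]
    rintro y (rfl | rfl)
    · exact he
    · exact hfN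
  · intro u hu
    obtain ⟨s, t, rfl⟩ := opesqplane_mem_span_pair.1 hu
    rw [map_add, map_smul, map_smul, hxe, hxf]
    exact Submodule.add_mem _ (Submodule.smul_mem _ _ (Submodule.smul_mem _ _ (Submodule.subset_span (by simp))))
      (Submodule.smul_mem _ _ (Submodule.smul_mem _ _ (Submodule.subset_span (by simp))))
  · intro u hu hu0
    obtain ⟨s, t, rfl⟩ := opesqplane_mem_span_pair.1 hu
    have h1 := hu0 e (Submodule.subset_span (by simp))
    have h3 := hu0 f (Submodule.subset_span (by simp))
    rw [map_add, LinearMap.add_apply, map_smul, map_smul, LinearMap.smul_apply, LinearMap.smul_apply, hee, hfe,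
      smul_zero, zero_add, smul_eq_mul] at h1
    rw [map_add, LinearMap.add_apply, map_smul, map_smul, LinearMap.smul_apply, LinearMap.smul_apply, hff,
      smul_zero, add_zero, smul_eq_mul] at h3
    have ht : t = 0 := by
      rcases mul_eq_zero.1 h1 with h | h
      · exact h
      · exact absurd h hef0
    have hs : s = 0 := by
      rcases mul_eq_zero.1 h3 with h | h
      · exact h
      · exact absurd h hef0
    rw [hs, ht, zero_smul, zero_smul, add_zero]
  · refine ⟨Submodule.span F ({e} : Set V), ?_, ?_, ?_⟩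
    · apply Submodule.span_mono
      simp
    · intro u hu
      obtain ⟨s, rfl⟩ := Submodule.mem_span_singleton.1 hu
      rw [QuadraticMap.map_smul, hQe, smul_zero]
    · rw [finrank_span_singleton he0, opesqplane_finrank_pair hind]

/-- SQNSPLANE core: `x² = -1`, `-1` a non-square: a nonzero invariant nondegenerate `N` contains an invariant anisotropic plane -/
theorem opesqnsplane_core {F : Type*} [Field F] (h2 : (2 : F) ≠ 0)
    {V : Type*} [AddCommGroup V] [Module F V]
    {Q : QuadraticForm F V} {x : Module.End F V} (hQ : ∀ v, Q (x v) = Q v) (hxx : x * x = -1)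
    (hns : ∀ a : F, a * a ≠ -1)
    (N : Submodule F V) (hN : SInv x N) (hNnd : SND (QuadraticMap.polarBilin Q) N) (hN0 : N ≠ ⊥) :
    ∃ P : Submodule F V, P ≤ N ∧ SInv x P ∧ SND (QuadraticMap.polarBilin Q) P ∧ finrank F P = 2 ∧
      ¬ QHyp Q P := by
  -- a nonsingular vector
  obtain ⟨w, hw, hQw⟩ : ∃ w ∈ N, Q w ≠ 0 := by
    by_contra hcon
    have hall : ∀ w ∈ N, Q w = 0 := by
      intro w hw
      by_contra h'
      exact hcon ⟨w, hw, h'⟩
    obtain ⟨u, hu, hu0⟩ := (Submodule.ne_bot_iff N).1 hN0
    apply hu0
    apply hNnd u hu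
    intro v hv
    have h1 := opesqplane_Q_add Q u v
    rw [hall _ (N.add_mem hu hv), hall u hu, hall v hv] at h1
    linear_combination -h1
  have hxw : x w ∈ N := hN w hw
  have hwx : QuadraticMap.polarBilin Q w (x w) = 0 := opesqplane_polar_self_x h2 hQ hxx w
  have hQst : ∀ s t : F, Q (s • w + t • x w) = (s * s + t * t) * Q w := by
    intro s t
    rw [opesqplane_Q_add, QuadraticMap.map_smul, QuadraticMap.map_smul, hQ]
    simp only [map_smul, LinearMap.smul_apply, hwx, smul_eq_mul]
    ring
  have hsum : ∀ s t : F, s * s + t * t = 0 → s = 0 ∧ t = 0 := by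
    intro s t hst
    by_cases ht : t = 0
    · rw [ht, mul_zero, add_zero] at hst
      exact ⟨mul_self_eq_zero.1 hst, ht⟩
    · exfalso
      apply hns (s / t)
      field_simp
      linear_combination hst
  have haniso : ∀ s t : F, Q (s • w + t • x w) = 0 → s = 0 ∧ t = 0 := by
    intro s t h
    rw [hQst] at h
    rcases mul_eq_zero.1 h with h' | h'
    · exact hsum s t h'
    · exact absurd h' hQw
  have hind : ∀ s t : F, s • w + t • x w = 0 → s = 0 ∧ t = 0 := by
    intro s t hst
    apply haniso
    rw [hst, map_zero]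
  refine ⟨Submodule.span F ({w, x w} : Set V), ?_, ?_, ?_, opesqplane_finrank_pair hind, ?_⟩
  · rw [Submodule.span_le]
    rintro y (rfl | rfl)
    · exact hw
    · exact hxw
  · intro u hu
    obtain ⟨s, t, rfl⟩ := opesqplane_mem_span_pair.1 hu
    rw [map_add, map_smul, map_smul, opesqplane_xx hxx]
    refine Submodule.add_mem _ (Submodule.smul_mem _ _ (Submodule.subset_span (by simp))) ?_
    exact Submodule.smul_mem _ _ (Submodule.neg_mem _ (Submodule.subset_span (by simp)))
  · intro u hu hu0
    have h1 := hu0 u hu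
    rw [opesqplane_self] at h1
    have hQu : Q u = 0 := by
      rcases mul_eq_zero.1 h1 with h | h
      · exact absurd h h2
      · exact h
    obtain ⟨s, t, rfl⟩ := opesqplane_mem_span_pair.1 hu
    obtain ⟨hs, ht⟩ := haniso s t hQu
    rw [hs, ht, zero_smul, zero_smul, add_zero]
  · rintro ⟨U, hUP, hU0, hUdim⟩
    rw [opesqplane_finrank_pair hind] at hUdim
    have hU1 : 0 < finrank F U := by omega
    obtain ⟨u, hu, hu0⟩ : ∃ u ∈ U, u ≠ 0 := by
      by_contra hcon
      have hbot : U = ⊥ := by
        rw [Submodule.eq_bot_iff]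
        intro u hu
        by_contra h'
        exact hcon ⟨u, hu, h'⟩
      rw [hbot, finrank_bot] at hU1
      exact lt_irrefl _ hU1
    obtain ⟨s, t, rfl⟩ := opesqplane_mem_span_pair.1 (hUP hu)
    obtain ⟨hs, ht⟩ := haniso s t (hU0 _ hu)
    apply hu0
    rw [hs, ht, zero_smul, zero_smul, add_zero]

end Cfsg.Agent.Lib.Helper18.OPE
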