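import Mathlib
import Cfsg.Agent.Lib.Helper18.OPE.Defs
import Cfsg.Agent.Lib.Helper28.OPESQPLANEcore

set_option autoImplicit false
set_option linter.unusedVariables false
set_option linter.unusedSectionVars false

/-!
# Project OPE, rows EBASIC (`e_basic`) + EPLANE (`e_plane`) (helper28), verbatim from `Helper18/OPE/Skel2.lean.txt`.
-/

namespace Cfsg.Agent.Lib.Helper18.OPE

open Polynomial Module Cfsg.Agent.Lib.Helper13.S5955 Cfsg.Agent.Lib.helper15.S5972
open scoped Matrix

/-- in characteristic 2 every vector is its own negative -/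
theorem opeebasic_add_self {F : Type*} [Field F] (h2 : (2 : F) = 0) {V : Type*} [AddCommGroup V] [Module F V]
    (v : V) : v + v = 0 := by
  rw [← two_smul F v, h2, zero_smul]

theorem opeebasic_neg {F : Type*} [Field F] (h2 : (2 : F) = 0) {V : Type*} [AddCommGroup V] [Module F V]
    (v : V) : -v = v := by
  have := opeebasic_add_self h2 v
  exact neg_eq_of_add_eq_zero_left this

theorem opeebasic_polar_symm {F : Type*} [Field F] {V : Type*} [AddCommGroup V] [Module F V]
    (Q : QuadraticForm F V) (u v : V) : QuadraticMap.polarBilin Q u v = QuadraticMap.polarBilin Q v u := by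
  rw [QuadraticMap.polarBilin_apply_apply, QuadraticMap.polarBilin_apply_apply, QuadraticMap.polar_comm]

/-- EBASIC [S-M]: `N = x - 1`: `N² = x² - 2x + 1 = 0`; `Q (x v) = Q (v + N v) = Q v + Q (N v) + B v (N v)`; `B (x u) (x v) = B u v` expanded, then with `N v` for `v`. -/
theorem e_basic {F : Type*} [Field F] (h2 : (2 : F) = 0)
    {V : Type*} [AddCommGroup V] [Module F V]
    {Q : QuadraticForm F V} {x : Module.End F V} (h : QCtx 2 Q x) :
    (x - 1) * (x - 1) = 0 ∧
      (∀ u v, QuadraticMap.polarBilin Q ((x - 1) u) v = QuadraticMap.polarBilin Q u ((x - 1) v)) ∧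
      (∀ v, Q ((x - 1) v) = QuadraticMap.polarBilin Q v ((x - 1) v)) ∧
      (∀ u v, QuadraticMap.polarBilin Q ((x - 1) u) ((x - 1) v) = 0) := by
  have hxx : ∀ v, x (x v) = v := by
    intro v
    have := LinearMap.congr_fun h.pow v
    rwa [pow_two, Module.End.mul_apply, Module.End.one_apply] at this
  have hN : ∀ v, (x - 1) v = x v - v := by
    intro v
    rw [LinearMap.sub_apply, Module.End.one_apply]
  have h1 : (x - 1) * (x - 1) = 0 := by
    apply LinearMap.ext
    intro v
    rw [Module.End.mul_apply, hN, hN, map_sub, hxx, LinearMap.zero_apply]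
    have e : v - x v - (x v - v) = (v + v) - (x v + x v) := by abel
    rw [e, opeebasic_add_self h2, opeebasic_add_self h2, sub_zero]
  have hpol : ∀ u v, QuadraticMap.polarBilin Q (x u) (x v) = QuadraticMap.polarBilin Q u v :=
    fun u v => opesqplane_polar_xx h.pres u v
  have h3 : ∀ u v, QuadraticMap.polarBilin Q ((x - 1) u) v = QuadraticMap.polarBilin Q u ((x - 1) v) := by
    intro u v
    rw [hN, hN, map_sub, LinearMap.sub_apply, map_sub]
    have e : QuadraticMap.polarBilin Q (x u) v = QuadraticMap.polarBilin Q u (x v) := by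
      have := hpol (x u) v
      rw [hxx] at this
      exact this.symm
    rw [e]
  have h4 : ∀ v, Q ((x - 1) v) = QuadraticMap.polarBilin Q v ((x - 1) v) := by
    intro v
    have e1 : x v = v + (x - 1) v := by
      rw [hN]
      abel
    have e2 := h.pres v
    rw [e1, opesqplane_Q_add] at e2
    have e3 : Q ((x - 1) v) = - QuadraticMap.polarBilin Q v ((x - 1) v) := by linear_combination e2
    rw [e3]
    exact opeebasic_neg h2 _
  refine ⟨h1, h3, h4, ?_⟩
  intro u v
  rw [h3, ← Module.End.mul_apply, h1, LinearMap.zero_apply, map_zero]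

/-- EPLANE [S-M]: `B v (N v) ≠ 0` (and `B v v = 0 = B (N v) (N v)`: `polar Q v v = 2 Q v = 0`): `⟨v, N v⟩` is an invariant nondegenerate plane (`x v = v + N v`, `x (N v) = N v`). -/
theorem e_plane {F : Type*} [Field F] (h2 : (2 : F) = 0)
    {V : Type*} [AddCommGroup V] [Module F V] [FiniteDimensional F V]
    {Q : QuadraticForm F V} {x : Module.End F V} (h : QCtx 2 Q x) (v : V)
    (hv : QuadraticMap.polarBilin Q v ((x - 1) v) ≠ 0) :
    SInv x (Submodule.span F {v, (x - 1) v}) ∧
      SND (QuadraticMap.polarBilin Q) (Submodule.span F {v, (x - 1) v}) ∧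
      finrank F (Submodule.span F ({v, (x - 1) v} : Set V)) = 2 := by
  obtain ⟨hNN, hadj, hQN, hNNB⟩ := e_basic h2 h
  have hNNv : ∀ u, (x - 1) ((x - 1) u) = 0 := by
    intro u
    rw [← Module.End.mul_apply, hNN, LinearMap.zero_apply]
  have hxv : ∀ u, x u = u + (x - 1) u := by
    intro u
    rw [LinearMap.sub_apply, Module.End.one_apply]
    abel
  have hvv : ∀ u, QuadraticMap.polarBilin Q u u = 0 := by
    intro u
    rw [opesqplane_self, h2, zero_mul]
  set n : V := (x - 1) v with hn
  have hnv : QuadraticMap.polarBilin Q n v = QuadraticMap.polarBilin Q v n := opeebasic_polar_symm Q n v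
  -- the two pairings of a combination
  have hp1 : ∀ s t : F, QuadraticMap.polarBilin Q (s • v + t • n) n = s * QuadraticMap.polarBilin Q v n := by
    intro s t
    rw [map_add, LinearMap.add_apply, map_smul, map_smul, LinearMap.smul_apply, LinearMap.smul_apply,
      hNNB, smul_zero, add_zero, smul_eq_mul]
  have hp2 : ∀ s t : F, QuadraticMap.polarBilin Q (s • v + t • n) v = t * QuadraticMap.polarBilin Q v n := by
    intro s t
    rw [map_add, LinearMap.add_apply, map_smul, map_smul, LinearMap.smul_apply, LinearMap.smul_apply,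
      hvv, smul_zero, zero_add, smul_eq_mul, hnv]
  have hzero : ∀ s t : F, (∀ y ∈ Submodule.span F ({v, n} : Set V),
      QuadraticMap.polarBilin Q (s • v + t • n) y = 0) → s = 0 ∧ t = 0 := by
    intro s t hst
    have e1 := hst n (Submodule.subset_span (by simp))
    have e2 := hst v (Submodule.subset_span (by simp))
    rw [hp1] at e1
    rw [hp2] at e2
    constructor
    · rcases mul_eq_zero.1 e1 with h' | h'
      · exact h'
      · exact absurd h' hv
    · rcases mul_eq_zero.1 e2 with h' | h'
      · exact h'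
      · exact absurd h' hv
  refine ⟨?_, ?_, ?_⟩
  · intro u hu
    obtain ⟨s, t, rfl⟩ := opesqplane_mem_span_pair.1 hu
    rw [hxv, map_add, map_smul, map_smul, hn, hNNv, smul_zero, add_zero]
    refine Submodule.add_mem _ (Submodule.add_mem _ ?_ ?_) ?_
    · exact Submodule.smul_mem _ _ (Submodule.subset_span (by simp))
    · exact Submodule.smul_mem _ _ (Submodule.subset_span (by simp))
    · exact Submodule.smul_mem _ _ (Submodule.subset_span (by simp))
  · intro u hu hu0
    obtain ⟨s, t, rfl⟩ := opesqplane_mem_span_pair.1 hu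
    obtain ⟨hs, ht⟩ := hzero s t hu0
    rw [hs, ht, zero_smul, zero_smul, add_zero]
  · apply opesqplane_finrank_pair
    intro s t hst
    apply hzero s t
    intro y _
    rw [hst, map_zero, LinearMap.zero_apply]

end Cfsg.Agent.Lib.Helper18.OPE
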