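import Mathlib
import Cfsg.Agent.Lib.Helper18.OPE.Defs
import Cfsg.Agent.Lib.Helper28.OPESQPLANEcore
import Cfsg.Agent.Lib.Helper28.OPEEBASIC

set_option autoImplicit false
set_option linter.unusedVariables false
set_option linter.unusedSectionVars false

/-!
# Project OPE, row EFOUR (`e_four`) (helper28), verbatim from `Helper18/OPE/Skel2.lean.txt`.
-/

namespace Cfsg.Agent.Lib.Helper18.OPE

open Polynomial Module Cfsg.Agent.Lib.Helper13.S5955 Cfsg.Agent.Lib.helper15.S5972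
open scoped Matrix

/-- membership in the span of four vectors -/
theorem opeefour_mem {F : Type*} [Field F] {V : Type*} [AddCommGroup V] [Module F V] (a b c d y : V) :
    y ∈ Submodule.span F (Set.range ![a, b, c, d]) ↔
      ∃ s t p q : F, y = s • a + t • b + p • c + q • d := by
  rw [Submodule.mem_span_range_iff_exists_fun]
  constructor
  · rintro ⟨g, rfl⟩
    refine ⟨g 0, g 1, g 2, g 3, ?_⟩
    rw [Fin.sum_univ_four]
    rfl
  · rintro ⟨s, t, p, q, rfl⟩
    refine ⟨![s, t, p, q], ?_⟩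
    rw [Fin.sum_univ_four]
    rfl

/-- EFOUR [M]: `A = ⟨u₁, u₂, N u₁, N u₂⟩`: Gram matrix (order `u₁, u₂, N u₁, N u₂`) `[[0,g,0,β],[g,0,β,0],[0,β,0,0],[β,0,0,0]]`, `β = B (N u₁) u₂ = B u₁ (N u₂) ≠ 0` (EBASIC),
determinant `β⁴`: the four vectors are independent and `A` is nondegenerate; `U = ⟨N u₁, N u₂⟩` is totally singular (`Q (N u_j) = B u_j (N u_j) = 0`, `B (N u₁) (N u₂) = 0`) of dimension 2. -/
theorem e_four {F : Type*} [Field F] (h2 : (2 : F) = 0)
    {V : Type*} [AddCommGroup V] [Module F V] [FiniteDimensional F V]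
    {Q : QuadraticForm F V} {x : Module.End F V} (h : QCtx 2 Q x) (u₁ u₂ : V)
    (h₁ : QuadraticMap.polarBilin Q u₁ ((x - 1) u₁) = 0)
    (h₂ : QuadraticMap.polarBilin Q u₂ ((x - 1) u₂) = 0)
    (hβ : QuadraticMap.polarBilin Q ((x - 1) u₁) u₂ ≠ 0) :
    ∃ A : Submodule F V, SInv x A ∧ SND (QuadraticMap.polarBilin Q) A ∧ finrank F A = 4 ∧ QHyp Q A := by
  classical
  obtain ⟨hNN, hadj, hQN, hNNB⟩ := e_basic h2 h
  have hNNv : ∀ u, (x - 1) ((x - 1) u) = 0 := by
    intro u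
    rw [← Module.End.mul_apply, hNN, LinearMap.zero_apply]
  have hxv : ∀ u, x u = u + (x - 1) u := by
    intro u
    rw [LinearMap.sub_apply, Module.End.one_apply]
    abel
  have hvv : ∀ u, QuadraticMap.polarBilin Q u u = 0 := by
    intro u
    rw [opesqplane_self, h2, zero_mul]
  obtain ⟨n₁, hn₁⟩ : ∃ n₁ : V, n₁ = (x - 1) u₁ := ⟨_, rfl⟩
  obtain ⟨n₂, hn₂⟩ : ∃ n₂ : V, n₂ = (x - 1) u₂ := ⟨_, rfl⟩
  rw [← hn₁] at h₁ hβ
  rw [← hn₂] at h₂
  set B := QuadraticMap.polarBilin Q with hB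
  have hsymm : ∀ u v, B u v = B v u := fun u v => opeebasic_polar_symm Q u v
  -- the Gram matrix
  have g13 : B u₁ n₁ = 0 := h₁
  have g14 : B u₁ n₂ = B n₁ u₂ := by rw [hn₂, ← hadj, ← hn₁]
  have g23 : B u₂ n₁ = B n₁ u₂ := hsymm _ _
  have g24 : B u₂ n₂ = 0 := h₂
  have g33 : B n₁ n₁ = 0 := hvv _
  have g34 : B n₁ n₂ = 0 := by rw [hn₁, hn₂]; exact hNNB _ _
  have g43 : B n₂ n₁ = 0 := by rw [hsymm]; exact g34
  have g44 : B n₂ n₂ = 0 := hvv _
  have g31 : B n₁ u₁ = 0 := by rw [hsymm]; exact g13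
  have g41 : B n₂ u₁ = B n₁ u₂ := by rw [hsymm]; exact g14
  have g42 : B n₂ u₂ = 0 := by rw [hsymm]; exact g24
  have g11 : B u₁ u₁ = 0 := hvv _
  have g22 : B u₂ u₂ = 0 := hvv _
  have g21 : B u₂ u₁ = B u₁ u₂ := hsymm _ _
  -- pairings of a combination
  have hexp : ∀ (s t p q : F) (y : V), B (s • u₁ + t • u₂ + p • n₁ + q • n₂) y =
      s * B u₁ y + t * B u₂ y + p * B n₁ y + q * B n₂ y := by
    intro s t p q y
    simp only [map_add, map_smul, LinearMap.add_apply, LinearMap.smul_apply, smul_eq_mul]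
  set A : Submodule F V := Submodule.span F (Set.range ![u₁, u₂, n₁, n₂]) with hA
  have hu₁A : u₁ ∈ A := Submodule.subset_span ⟨0, rfl⟩
  have hu₂A : u₂ ∈ A := Submodule.subset_span ⟨1, rfl⟩
  have hn₁A : n₁ ∈ A := Submodule.subset_span ⟨2, rfl⟩
  have hn₂A : n₂ ∈ A := Submodule.subset_span ⟨3, rfl⟩
  have hzero : ∀ s t p q : F, (∀ y ∈ A, B (s • u₁ + t • u₂ + p • n₁ + q • n₂) y = 0) →
      s = 0 ∧ t = 0 ∧ p = 0 ∧ q = 0 := by
    intro s t p q hy
    have e4 := hy n₂ hn₂A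
    have e3 := hy n₁ hn₁A
    have e2 := hy u₂ hu₂A
    have e1 := hy u₁ hu₁A
    rw [hexp, g14, g24, g34, g44] at e4
    rw [hexp, g13, g23, g33, g43] at e3
    have hs : s = 0 := by
      have : s * B n₁ u₂ = 0 := by linear_combination e4
      rcases mul_eq_zero.1 this with h' | h'
      · exact h'
      · exact absurd h' hβ
    have ht : t = 0 := by
      have : t * B n₁ u₂ = 0 := by linear_combination e3
      rcases mul_eq_zero.1 this with h' | h'
      · exact h'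
      · exact absurd h' hβ
    rw [hexp, hs, ht, g42] at e2
    rw [hexp, hs, ht, g31, g41] at e1
    have hp : p = 0 := by
      have : p * B n₁ u₂ = 0 := by linear_combination e2
      rcases mul_eq_zero.1 this with h' | h'
      · exact h'
      · exact absurd h' hβ
    have hq : q = 0 := by
      have : q * B n₁ u₂ = 0 := by linear_combination e1
      rcases mul_eq_zero.1 this with h' | h'
      · exact h'
      · exact absurd h' hβ
    exact ⟨hs, ht, hp, hq⟩
  have hli : LinearIndependent F ![u₁, u₂, n₁, n₂] := by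
    rw [Fintype.linearIndependent_iff]
    intro g hg
    rw [Fin.sum_univ_four] at hg
    have hg' : g 0 • u₁ + g 1 • u₂ + g 2 • n₁ + g 3 • n₂ = 0 := hg
    obtain ⟨e0, e1, e2, e3⟩ := hzero (g 0) (g 1) (g 2) (g 3) (by
      intro y _
      rw [hg', map_zero, LinearMap.zero_apply])
    intro i
    fin_cases i
    · exact e0
    · exact e1
    · exact e2
    · exact e3
  have hind2 : ∀ s t : F, s • n₁ + t • n₂ = 0 → s = 0 ∧ t = 0 := by
    intro s t hst
    obtain ⟨_, _, e2, e3⟩ := hzero 0 0 s t (by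
      intro y _
      have : (0 : F) • u₁ + (0 : F) • u₂ + s • n₁ + t • n₂ = 0 := by
        rw [zero_smul, zero_smul, zero_add, zero_add, hst]
      rw [this, map_zero, LinearMap.zero_apply])
    exact ⟨e2, e3⟩
  refine ⟨A, ?_, ?_, ?_, ?_⟩
  · intro y hy
    obtain ⟨s, t, p, q, rfl⟩ := (opeefour_mem u₁ u₂ n₁ n₂ y).1 hy
    have hx1 : x u₁ = u₁ + n₁ := by rw [hxv, hn₁]
    have hx2 : x u₂ = u₂ + n₂ := by rw [hxv, hn₂]
    have hx3 : x n₁ = n₁ := by rw [hxv, hn₁, hNNv, add_zero]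
    have hx4 : x n₂ = n₂ := by rw [hxv, hn₂, hNNv, add_zero]
    simp only [map_add, map_smul, hx1, hx2, hx3, hx4]
    refine A.add_mem (A.add_mem (A.add_mem ?_ ?_) ?_) ?_
    · exact A.smul_mem _ (A.add_mem hu₁A hn₁A)
    · exact A.smul_mem _ (A.add_mem hu₂A hn₂A)
    · exact A.smul_mem _ hn₁A
    · exact A.smul_mem _ hn₂A
  · intro y hy hy0
    obtain ⟨s, t, p, q, rfl⟩ := (opeefour_mem u₁ u₂ n₁ n₂ y).1 hy
    obtain ⟨e0, e1, e2, e3⟩ := hzero s t p q hy0
    rw [e0, e1, e2, e3]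
    simp
  · have := finrank_span_eq_card hli
    rw [Fintype.card_fin] at this
    exact this
  · refine ⟨Submodule.span F ({n₁, n₂} : Set V), ?_, ?_, ?_⟩
    · rw [Submodule.span_le]
      rintro y (rfl | rfl)
      · exact hn₁A
      · exact hn₂A
    · intro y hy
      obtain ⟨s, t, rfl⟩ := opesqplane_mem_span_pair.1 hy
      rw [opesqplane_Q_add, QuadraticMap.map_smul, QuadraticMap.map_smul]
      have q1 : Q n₁ = 0 := by rw [hn₁, hQN, ← hn₁]; exact g13
      have q2 : Q n₂ = 0 := by rw [hn₂, hQN, ← hn₂]; exact g24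
      rw [q1, q2]
      simp only [map_smul, LinearMap.smul_apply, smul_eq_mul, mul_zero, add_zero, zero_add]
      change t * (s * B n₁ n₂) = 0
      rw [g34, mul_zero, mul_zero]
    · rw [opesqplane_finrank_pair hind2]
      have := finrank_span_eq_card hli
      rw [Fintype.card_fin] at this
      rw [this]

end Cfsg.Agent.Lib.Helper18.OPE
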