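import Mathlib
import Cfsg.Agent.Lib.Helper18.OPE.Defs
import Cfsg.Agent.Lib.Helper28.OPESQPLANEcore
import Cfsg.Agent.Lib.Helper28.OPEEBASIC

set_option autoImplicit false
set_option linter.unusedVariables false
set_option linter.unusedSectionVars false

/-!
# Project OPE, row EPAIREX (`e_pair_ex`) (helper28), verbatim from `Helper18/OPE/Skel2.lean.txt`.
-/

namespace Cfsg.Agent.Lib.Helper18.OPE

open Polynomial Module Cfsg.Agent.Lib.Helper13.S5955 Cfsg.Agent.Lib.helper15.S5972
open scoped Matrix

/-- EPAIREX [M]: if `N = x - 1` has rank `≥ 3` there are `u₁, u₂` as in EFOUR.  (`φ v := B v (N v) = Q (N v)` is additive (`B u (N v) + B v (N u) = 2 B u (N v) = 0`) and `φ (c v) = c² φ v`;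
`L := {v | φ v = 0}` is a subspace containing `K = ker N`, of codimension `≤ 1` (for `u, w ∉ L`: `φ (u + c w) = φ u + c² φ w = 0` for `c² = φ u / φ w`, the Frobenius of the finite field `F` is onto);
`dim N(L) = dim L - dim K ≥ rank N - 1 ≥ 2 > 1 ≥ dim L^⊥`, so some `u₁ ∈ L` has `N u₁ ∉ L^⊥`, i.e. `B (N u₁) u₂ ≠ 0` for some `u₂ ∈ L`.) -/
theorem e_pair_ex {F : Type*} [Field F] [Fintype F] (h2 : (2 : F) = 0)
    {V : Type*} [AddCommGroup V] [Module F V] [FiniteDimensional F V]
    {Q : QuadraticForm F V} {x : Module.End F V} (h : QCtx 2 Q x)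
    (hrk : 3 ≤ finrank F (LinearMap.range (x - 1))) :
    ∃ u₁ u₂ : V, QuadraticMap.polarBilin Q u₁ ((x - 1) u₁) = 0 ∧
      QuadraticMap.polarBilin Q u₂ ((x - 1) u₂) = 0 ∧
      QuadraticMap.polarBilin Q ((x - 1) u₁) u₂ ≠ 0 := by
  classical
  obtain ⟨hNN, hadj, hQN, hNNB⟩ := e_basic h2 h
  by_contra hcon
  have hall : ∀ u₁ u₂ : V, QuadraticMap.polarBilin Q u₁ ((x - 1) u₁) = 0 →
      QuadraticMap.polarBilin Q u₂ ((x - 1) u₂) = 0 → QuadraticMap.polarBilin Q ((x - 1) u₁) u₂ = 0 := by
    intro u₁ u₂ e1 e2
    by_contra h'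
    exact hcon ⟨u₁, u₂, e1, e2, h'⟩
  set N : Module.End F V := x - 1 with hNdef
  set B := QuadraticMap.polarBilin Q with hB
  have hsymm : ∀ u v, B u v = B v u := fun u v => opeebasic_polar_symm Q u v
  have hchar : ringChar F = 2 := by
    have h3 : ((2 : ℕ) : F) = 0 := by exact_mod_cast h2
    have h4 := (ringChar.spec F 2).1 h3
    rcases (Nat.dvd_prime Nat.prime_two).1 h4 with h5 | h5
    · exfalso
      have := CharP.ringChar_ne_one (R := F)
      exact this h5
    · exact h5
  -- `φ v = B v (N v) = Q (N v)`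
  have hφ : ∀ v, B v (N v) = Q (N v) := fun v => (hQN v).symm
  have hφadd : ∀ u v, B (u + v) (N (u + v)) = B u (N u) + B v (N v) := by
    intro u v
    rw [hφ, hφ, hφ, map_add, opesqplane_Q_add, hNNB, add_zero]
  have hφsmul : ∀ (c : F) v, B (c • v) (N (c • v)) = c * c * B v (N v) := by
    intro c v
    rw [map_smul, map_smul, LinearMap.smul_apply, map_smul, smul_eq_mul, smul_eq_mul]
    ring
  -- the subspace `L`
  let L : Submodule F V :=
    { carrier := {v | B v (N v) = 0}
      add_mem' := by
        intro u v hu hv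
        simp only [Set.mem_ofPred_eq] at hu hv ⊢
        rw [hφadd, hu, hv, add_zero]
      zero_mem' := by
        simp only [Set.mem_ofPred_eq]
        rw [map_zero, LinearMap.zero_apply]
      smul_mem' := by
        intro c v hv
        simp only [Set.mem_ofPred_eq] at hv ⊢
        rw [hφsmul, hv, mul_zero] }
  have hLmem : ∀ v, v ∈ L ↔ B v (N v) = 0 := fun v => Iff.rfl
  -- nondegeneracy
  have hnd : LinearMap.BilinForm.Nondegenerate B := by
    refine ⟨fun u hu => h.nd u hu, fun v hv => h.nd v (fun u => ?_)⟩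
    rw [hsymm]
    exact hv u
  -- `N L ≤ L^⊥`
  have hNL : L.map N ≤ LinearMap.BilinForm.orthogonal B L := by
    rintro _ ⟨u, hu, rfl⟩
    rw [LinearMap.BilinForm.mem_orthogonal_iff]
    intro y hy
    change B y (N u) = 0
    rw [hsymm]
    exact hall u y ((hLmem u).1 hu) ((hLmem y).1 hy)
  have hdimNL : finrank F (L.map N) + finrank F L ≤ finrank F V := by
    have h1 := Submodule.finrank_mono hNL
    rw [LinearMap.BilinForm.finrank_orthogonal hnd] at h1
    have h3 := Submodule.finrank_le L
    omega
  by_cases hw : ∃ w, w ∉ L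
  · obtain ⟨w, hw⟩ := hw
    have hφw : B w (N w) ≠ 0 := fun h' => hw ((hLmem w).2 h')
    -- `V = L + F w`
    have htop : L ⊔ Submodule.span F {w} = ⊤ := by
      rw [eq_top_iff]
      intro u _
      obtain ⟨c, hc⟩ : IsSquare (B u (N u) / B w (N w)) := FiniteField.isSquare_of_char_two hchar _
      have hmem : u + c • w ∈ L := by
        rw [hLmem, hφadd, hφsmul, ← hc, div_mul_cancel₀ _ hφw]
        rw [← two_mul, h2, zero_mul]
      have : u = (u + c • w) + (-c) • w := by
        rw [neg_smul]
        abel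
      rw [this]
      exact Submodule.add_mem _ (Submodule.mem_sup_left hmem)
        (Submodule.mem_sup_right (Submodule.smul_mem _ _ (Submodule.mem_span_singleton_self w)))
    have hdimL : finrank F V ≤ finrank F L + 1 := by
      have h1 := Submodule.finrank_add_le_finrank_add_finrank L (Submodule.span F {w})
      rw [htop, finrank_top] at h1
      have h3 := finrank_span_singleton (K := F) (fun h' : w = 0 => hw (by rw [h']; exact L.zero_mem))
      omega
    -- `range N ≤ N L + F (N w)`
    have hrange : LinearMap.range N ≤ L.map N ⊔ Submodule.span F {N w} := by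
      rintro _ ⟨u, rfl⟩
      have hu : u ∈ L ⊔ Submodule.span F {w} := by
        rw [htop]
        exact Submodule.mem_top
      obtain ⟨l, hl, z, hz, rfl⟩ := Submodule.mem_sup.1 hu
      obtain ⟨c, rfl⟩ := Submodule.mem_span_singleton.1 hz
      rw [map_add, map_smul]
      exact Submodule.add_mem _ (Submodule.mem_sup_left (Submodule.mem_map_of_mem hl))
        (Submodule.mem_sup_right (Submodule.smul_mem _ _ (Submodule.mem_span_singleton_self _)))
    have h1 := Submodule.finrank_mono hrange
    have h3 := Submodule.finrank_add_le_finrank_add_finrank (L.map N) (Submodule.span F {N w})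
    have h4 : finrank F (Submodule.span F {N w}) ≤ 1 := by
      by_cases hNw : N w = 0
      · rw [hNw, Submodule.span_zero_singleton, finrank_bot]
        exact Nat.zero_le 1
      · rw [finrank_span_singleton hNw]
    omega
  · push Not at hw
    have hLtop : L = ⊤ := by
      rw [eq_top_iff]
      intro u _
      exact hw u
    have hrange : LinearMap.range N ≤ L.map N := by
      rintro _ ⟨u, rfl⟩
      exact Submodule.mem_map_of_mem (hw u)
    have h1 := Submodule.finrank_mono hrange
    rw [hLtop, finrank_top] at hdimNL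
    rw [hLtop] at h1
    omega

end Cfsg.Agent.Lib.Helper18.OPE
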