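import Mathlib
import Cfsg.Agent.Lib.Helper18.OPE.Defs
import Cfsg.Agent.Lib.Helper28.OPEEBASIC
import Cfsg.Agent.Lib.Helper28.OPEEFOUR
import Cfsg.Agent.Lib.Helper28.OPEEPAIREX
import Cfsg.Agent.Lib.helper17.OPEQPERP
import Cfsg.Agent.Lib.helper17.OPEQRESTRICT
import Cfsg.Agent.Lib.helper17.OPEQTYSUM
import Cfsg.Agent.Lib.helper17.OPEQTYBOT
import Cfsg.Agent.Lib.helper17.OPEQTYCLASScore
import Cfsg.Agent.Lib.Helper21.OTSTYCLASS

set_option autoImplicit false
set_option linter.unusedVariables false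
set_option linter.unusedSectionVars false

/-!
# Project OPE, row EFOURDVD (helper28): core (the statement of EFIXED `e_fixed` as a hypothesis) + shared glue lemmas of Part E.
-/

namespace Cfsg.Agent.Lib.Helper18.OPE

open Polynomial Module Cfsg.Agent.Lib.Helper13.S5955 Cfsg.Agent.Lib.helper15.S5972
open scoped Matrix

universe u

/-- a nondegenerate even-dimensional `QHyp` subspace has type `1` -/
theorem opee_hyp_ty {F : Type*} [Field F] [Fintype F] {V : Type*} [AddCommGroup V] [Module F V]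
    [FiniteDimensional F V] (Q : QuadraticForm F V) (W : Submodule F V)
    (hW : SND (QuadraticMap.polarBilin Q) W) (hev : Even (finrank F W)) (hh : QHyp Q W) : QTy Q W 1 := by
  have hcl := opeqtyclass_core Q W (Cfsg.Agent.Lib.Helper13.OTS.q_ty_class Q W hW hev)
  rcases hcl with ⟨_, h1⟩ | ⟨h1, _⟩
  · exact h1
  · exact absurd hh h1

/-- the dichotomy for a nondegenerate even-dimensional subspace -/
theorem opee_ty_cases {F : Type*} [Field F] [Fintype F] {V : Type*} [AddCommGroup V] [Module F V]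
    [FiniteDimensional F V] (Q : QuadraticForm F V) (W : Submodule F V)
    (hW : SND (QuadraticMap.polarBilin Q) W) (hev : Even (finrank F W)) :
    (QHyp Q W ∧ QTy Q W 1) ∨ (¬ QHyp Q W ∧ QTy Q W (-1)) :=
  opeqtyclass_core Q W (Cfsg.Agent.Lib.Helper13.OTS.q_ty_class Q W hW hev)

/-- orthogonal sum of two invariant nondegenerate subspaces -/
theorem opee_join {F : Type*} [Field F] [Fintype F] {V : Type*} [AddCommGroup V] [Module F V]
    [FiniteDimensional F V] {Q : QuadraticForm F V} {x : Module.End F V}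
    (A W' : Submodule F V) (hA : SInv x A) (hAnd : SND (QuadraticMap.polarBilin Q) A)
    (hW' : SInv x W') (hW'nd : SND (QuadraticMap.polarBilin Q) W')
    (ho : SOrth (QuadraticMap.polarBilin Q) A W')
    (he1 : Even (finrank F A)) (he2 : Even (finrank F W')) (s1 s2 : ℤ)
    (hs1 : QTy Q A s1) (hs2 : QTy Q W' s2) :
    SInv x (A ⊔ W') ∧ SND (QuadraticMap.polarBilin Q) (A ⊔ W') ∧
      finrank F ↥(A ⊔ W') = finrank F A + finrank F W' ∧ QTy Q (A ⊔ W') (s1 * s2) := by
  obtain ⟨h1, _, h3⟩ := Cfsg.Agent.Lib.Helper18.ONE.nd_sup_symm (QuadraticMap.polarBilin Q)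
    (fun u v => opeebasic_polar_symm Q u v) A W' hAnd hW'nd ho
  refine ⟨?_, h1, h3, qty_sum Q A W' hAnd hW'nd ho he1 he2 s1 s2 hs1 hs2⟩
  intro w hw
  obtain ⟨y, hy, z, hz, rfl⟩ := Submodule.mem_sup.mp hw
  rw [map_add]
  exact Submodule.add_mem _ (Submodule.mem_sup_left (hA y hy)) (Submodule.mem_sup_right (hW' z hz))

/-- pass to the orthogonal complement of an invariant nondegenerate subspace `A`: whatever exists (as `QNDt`) in the restricted
context on `A^⊥` exists inside `A^⊥` in `V` -/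
theorem opee_descend {F : Type*} [Field F] [Fintype F] {V : Type u} [AddCommGroup V] [Module F V]
    [FiniteDimensional F V] {r : ℕ} (hr : 0 < r) {Q : QuadraticForm F V} {x : Module.End F V} (h : QCtx r Q x)
    (A : Submodule F V) (hA : SInv x A) (hAnd : SND (QuadraticMap.polarBilin Q) A) :
    ∃ (A' : Submodule F V) (hA' : ∀ v ∈ A', x v ∈ A'),
      SND (QuadraticMap.polarBilin Q) A' ∧ SOrth (QuadraticMap.polarBilin Q) A A' ∧
      finrank F A + finrank F A' = finrank F V ∧ A ⊔ A' = ⊤ ∧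
      QCtx r (Q.comp A'.subtype) (x.restrict hA') ∧
      (∀ s : ℤ, QTy (Q.comp A'.subtype) (⊤ : Submodule F ↥A') s ↔ QTy Q A' s) ∧
      (∀ (m : ℕ) (s : ℤ), QNDt (Q.comp A'.subtype) (x.restrict hA') m s →
        ∃ W : Submodule F V, W ≤ A' ∧ SInv x W ∧ SND (QuadraticMap.polarBilin Q) W ∧
          finrank F W = m ∧ QTy Q W s) := by
  obtain ⟨h1, h3, h4, h5, h6⟩ := q_perp hr h A hA hAnd
  have hA' : ∀ v ∈ LinearMap.BilinForm.orthogonal (QuadraticMap.polarBilin Q) A,
      x v ∈ LinearMap.BilinForm.orthogonal (QuadraticMap.polarBilin Q) A := fun v hv => h1 v hv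
  obtain ⟨k1, k2, k3⟩ := q_restrict h _ hA' h3
  exact ⟨_, hA', h3, h5, h6, h4.sup_eq_top, k1, k2, k3⟩

/-- EFOURDVD core: `hfixed` is the statement of EFIXED `e_fixed` (for all spaces of the universe of `V`) -/
theorem opeefourdvd_core {F : Type*} [Field F] [Fintype F] (h2 : (2 : F) = 0)
    (hfixed : ∀ (V : Type u) [AddCommGroup V] [Module F V] [FiniteDimensional F V]
      (Q : QuadraticForm F V) (x : Module.End F V), QCtx 2 Q x → Even (finrank F V) →
      ∀ e : ℕ, Even e → 0 < e → e + 2 * finrank F (LinearMap.range (x - 1)) < finrank F V →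
      ∀ s : ℤ, (s = 1 ∨ s = -1) → QNDt Q x e s) :
    ∀ (m : ℕ) (V : Type u) [AddCommGroup V] [Module F V] [FiniteDimensional F V]
      (Q : QuadraticForm F V) (x : Module.End F V), QCtx 2 Q x → Even (finrank F V) →
      4 ∣ m → 2 * m < finrank F V → QNDt Q x m 1 := by
  intro m
  induction m using Nat.strong_induction_on with
  | _ m ih =>
    intro V _ _ _ Q x h hVe hm4 hmV
    rcases Nat.eq_zero_or_pos m with hm0 | hm0
    · subst hm0
      refine ⟨⊥, ?_, ?_, finrank_bot F V, (qty_bot Q 1).2 rfl⟩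
      · intro v hv
        rw [Submodule.mem_bot] at hv ⊢
        rw [hv, map_zero]
      · intro u hu _
        exact (Submodule.mem_bot F).1 hu
    · obtain ⟨k, hk⟩ := hm4
      by_cases hl : 2 * finrank F (LinearMap.range (x - 1)) ≤ m
      · exact hfixed V Q x h hVe m ⟨2 * k, by omega⟩ hm0 (by omega) 1 (Or.inl rfl)
      · have hrk : 3 ≤ finrank F (LinearMap.range (x - 1)) := by omega
        obtain ⟨u₁, u₂, e1, e2, e3⟩ := e_pair_ex h2 h hrk
        obtain ⟨A, hA, hAnd, hAdim, hAhyp⟩ := e_four h2 h u₁ u₂ e1 e2 e3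
        have hAty : QTy Q A 1 := opee_hyp_ty Q A hAnd (by rw [hAdim]; exact ⟨2, rfl⟩) hAhyp
        obtain ⟨A', hA', hA'nd, hAo, hAA', _, hctx', _, hback⟩ :=
          opee_descend (by norm_num : 0 < 2) h A hA hAnd
        have hVe' : Even (finrank F ↥A') := by
          have : finrank F ↥A' = finrank F V - 4 := by omega
          rw [this]
          obtain ⟨j, hj⟩ := hVe
          exact ⟨j - 2, by omega⟩
        have hih := ih (m - 4) (by omega) ↥A' (Q.comp A'.subtype) (x.restrict hA') hctx' hVe'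
          ⟨k - 1, by omega⟩ (by omega)
        obtain ⟨W', hW'A', hW'inv, hW'nd, hW'dim, hW'ty⟩ := hback (m - 4) 1 hih
        have ho : SOrth (QuadraticMap.polarBilin Q) A W' := fun a ha w hw => hAo a ha w (hW'A' hw)
        obtain ⟨j1, j2, j3, j4⟩ := opee_join A W' hA hAnd hW'inv hW'nd ho
          (by rw [hAdim]; exact ⟨2, rfl⟩) (by rw [hW'dim]; exact ⟨2 * (k - 1), by omega⟩) 1 1 hAty hW'ty
        refine ⟨A ⊔ W', j1, j2, ?_, ?_⟩
        · rw [j3, hAdim, hW'dim]
          omega
        · rw [one_mul] at j4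
          exact j4

end Cfsg.Agent.Lib.Helper18.OPE
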