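import Mathlib
import Cfsg.Agent.Lib.Helper18.OPE.Defs
import Cfsg.Agent.Lib.Helper28.OPEEFOURDVDcore
import Cfsg.Agent.Lib.helper17.OPEQCTXO

set_option autoImplicit false
set_option linter.unusedVariables false
set_option linter.unusedSectionVars false

/-!
# Project OPE, rows EHYPPLANE + ESUFF (helper28): cores (statements of EFIXED `e_fixed` and QPLANEEX `q_plane_ex` as hypotheses).
-/

namespace Cfsg.Agent.Lib.Helper18.OPE

open Polynomial Module Cfsg.Agent.Lib.Helper13.S5955 Cfsg.Agent.Lib.helper15.S5972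
open scoped Matrix

universe u

/-- uniqueness of the type among `±1` -/
theorem opee_ty_eq {F : Type*} [Field F] [Fintype F] {V : Type*} [AddCommGroup V] [Module F V]
    (Q : QuadraticForm F V) (W : Submodule F V) (s s' : ℤ) (hs : s = 1 ∨ s = -1) (hs' : s' = 1 ∨ s' = -1)
    (h : QTy Q W s) (h' : QTy Q W s') : s = s' := by
  rcases hs with rfl | rfl <;> rcases hs' with rfl | rfl
  · rfl
  · exact (qty_uniq Q W h h').elim
  · exact (qty_uniq Q W h' h).elim
  · rfl

theorem opee_sign (n : ℕ) : ((-1 : ℤ) ^ n = 1 ∨ (-1 : ℤ) ^ n = -1) := neg_one_pow_eq_or ℤ n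

/-- the type of the orthogonal complement from the types of the subspace and of the whole space -/
theorem opee_compl_ty {F : Type*} [Field F] [Fintype F] {V : Type*} [AddCommGroup V] [Module F V]
    [FiniteDimensional F V] (Q : QuadraticForm F V) (A A' : Submodule F V)
    (hAnd : SND (QuadraticMap.polarBilin Q) A) (hA'nd : SND (QuadraticMap.polarBilin Q) A')
    (ho : SOrth (QuadraticMap.polarBilin Q) A A') (htop : A ⊔ A' = ⊤)
    (he1 : Even (finrank F A)) (he2 : Even (finrank F A'))
    (s τ : ℤ) (hs : s = 1 ∨ s = -1) (hτ' : τ = 1 ∨ τ = -1)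
    (hsA : QTy Q A s) (hτ : QTy Q (⊤ : Submodule F V) τ) : QTy Q A' (s * τ) := by
  rcases opee_ty_cases Q A' hA'nd he2 with ⟨_, ht⟩ | ⟨_, ht⟩
  · have h1 := qty_sum Q A A' hAnd hA'nd ho he1 he2 s 1 hsA ht
    rw [htop, mul_one] at h1
    have : s = τ := opee_ty_eq Q ⊤ s τ hs hτ' h1 hτ
    rw [this]
    rcases hτ' with rfl | rfl
    · simpa using ht
    · simpa using ht
  · have h1 := qty_sum Q A A' hAnd hA'nd ho he1 he2 s (-1) hsA ht
    rw [htop] at h1
    have hs1 : s * -1 = 1 ∨ s * -1 = -1 := by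
      rcases hs with rfl | rfl
      · right; norm_num
      · left; norm_num
    have : s * -1 = τ := opee_ty_eq Q ⊤ (s * -1) τ hs1 hτ' h1 hτ
    have e : s * τ = -1 := by
      rw [← this]
      rcases hs with rfl | rfl <;> norm_num
    rw [e]
    exact ht

/-- EHYPPLANE core: `hplane` is the statement of QPLANEEX `q_plane_ex` for `N = ⊤`, `s = 1` (for all spaces of the universe) -/
theorem opeehypplane_core {F : Type*} [Field F] [Fintype F] (h2 : (2 : F) = 0)
    (hplane : ∀ (V : Type u) [AddCommGroup V] [Module F V] [FiniteDimensional F V]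
      (Q : QuadraticForm F V), SND (QuadraticMap.polarBilin Q) (⊤ : Submodule F V) →
      Even (finrank F (⊤ : Submodule F V)) → 4 ≤ finrank F (⊤ : Submodule F V) →
      ∃ P : Submodule F V, P ≤ ⊤ ∧ SND (QuadraticMap.polarBilin Q) P ∧ finrank F P = 2 ∧ QTy Q P 1) :
    ∀ (d' : ℕ) (V : Type u) [AddCommGroup V] [Module F V] [FiniteDimensional F V]
      (Q : QuadraticForm F V) (x : Module.End F V), QCtx 2 Q x → finrank F V = 2 * d' →
      QTy Q (⊤ : Submodule F V) (-(-1) ^ d') → QNDt Q x 2 1 := by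
  intro d'
  induction d' using Nat.strong_induction_on with
  | _ d' ih =>
    intro V _ _ _ Q x h hV hτ
    obtain ⟨hNN, hadj, hQN, hNNB⟩ := e_basic h2 h
    have hτs : (-(-1 : ℤ) ^ d' = 1 ∨ -(-1 : ℤ) ^ d' = -1) := by
      rcases opee_sign d' with h' | h' <;> rw [h']
      · right; rfl
      · left; norm_num
    -- the common descent step
    have hstep : ∀ (A : Submodule F V) (k : ℕ), 0 < k → SInv x A → SND (QuadraticMap.polarBilin Q) A →
        finrank F A = 2 * k → QTy Q A ((-1) ^ k) → QNDt Q x 2 1 := by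
      intro A k hk hA hAnd hAdim hAty
      obtain ⟨A', hA', hA'nd, hAo, hAA', htop, hctx', hiff, hback⟩ :=
        opee_descend (by norm_num : 0 < 2) h A hA hAnd
      have hdk : k ≤ d' := by omega
      have hA'dim : finrank F ↥A' = 2 * (d' - k) := by omega
      have hA'ty := opee_compl_ty Q A A' hAnd hA'nd hAo htop (by rw [hAdim]; exact ⟨k, by ring⟩)
        (by rw [hA'dim]; exact ⟨d' - k, by ring⟩) ((-1) ^ k) (-(-1) ^ d') (opee_sign k) hτs hAty hτ
      have e : ((-1 : ℤ) ^ k) * (-(-1) ^ d') = -(-1) ^ (d' - k) := by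
        obtain ⟨j, rfl⟩ := Nat.exists_eq_add_of_le hdk
        rw [Nat.add_sub_cancel_left, pow_add]
        have : ((-1 : ℤ) ^ k) * ((-1 : ℤ) ^ k) = 1 := by
          rw [← pow_add, ← two_mul, pow_mul]
          norm_num
        linear_combination (-(-1 : ℤ) ^ j) * this
      rw [e] at hA'ty
      have hih := ih (d' - k) (by omega) ↥A' (Q.comp A'.subtype) (x.restrict hA') hctx' hA'dim
        ((hiff _).2 hA'ty)
      obtain ⟨W, _, hWinv, hWnd, hWdim, hWty⟩ := hback 2 1 hih
      exact ⟨W, hWinv, hWnd, hWdim, hWty⟩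
    by_cases hex : ∃ v, QuadraticMap.polarBilin Q v ((x - 1) v) ≠ 0
    · obtain ⟨v, hv⟩ := hex
      obtain ⟨hPinv, hPnd, hPdim⟩ := e_plane h2 h v hv
      rcases opee_ty_cases Q _ hPnd (by rw [hPdim]; exact even_two) with ⟨_, ht⟩ | ⟨_, ht⟩
      · exact ⟨_, hPinv, hPnd, hPdim, ht⟩
      · exact hstep _ 1 one_pos hPinv hPnd (by rw [hPdim]) (by rw [pow_one]; exact ht)
    · push Not at hex
      by_cases hN0 : ∃ u₁, (x - 1) u₁ ≠ 0
      · obtain ⟨u₁, hu₁⟩ := hN0
        obtain ⟨u₂, hu₂⟩ : ∃ u₂, QuadraticMap.polarBilin Q ((x - 1) u₁) u₂ ≠ 0 := by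
          by_contra hcon
          push Not at hcon
          exact hu₁ (h.nd _ hcon)
        obtain ⟨A, hA, hAnd, hAdim, hAhyp⟩ := e_four h2 h u₁ u₂ (hex u₁) (hex u₂) hu₂
        have hAty : QTy Q A 1 := opee_hyp_ty Q A hAnd (by rw [hAdim]; exact ⟨2, rfl⟩) hAhyp
        exact hstep A 2 (by norm_num) hA hAnd (by rw [hAdim]) (by
          have : ((-1 : ℤ)) ^ 2 = 1 := by norm_num
          rw [this]
          exact hAty)
      · push Not at hN0
        have hx1 : ∀ v, x v = v := by
          intro v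
          have := hN0 v
          rw [LinearMap.sub_apply, Module.End.one_apply, sub_eq_zero] at this
          exact this
        have hinv : ∀ W : Submodule F V, SInv x W := by
          intro W w hw
          rw [hx1]
          exact hw
        have htopnd : SND (QuadraticMap.polarBilin Q) (⊤ : Submodule F V) :=
          fun u _ hu => h.nd u (fun v => hu v Submodule.mem_top)
        have htopdim : finrank F (⊤ : Submodule F V) = 2 * d' := by rw [finrank_top, hV]
        rcases Nat.lt_or_ge d' 2 with hd | hd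
        · rcases Nat.eq_zero_or_pos d' with hd0 | hd0
          · exfalso
            subst hd0
            have hbot : (⊤ : Submodule F V) = ⊥ := by
              have : finrank F (⊤ : Submodule F V) = 0 := by rw [htopdim]
              exact Submodule.finrank_eq_zero.1 this
            rw [hbot, qty_bot] at hτ
            norm_num at hτ
          · have hd1 : d' = 1 := by omega
            subst hd1
            refine ⟨⊤, hinv _, htopnd, by rw [htopdim], ?_⟩
            have : (-(-1 : ℤ) ^ 1) = 1 := by norm_num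
            rw [this] at hτ
            exact hτ
        · obtain ⟨P, _, hPnd, hPdim, hPty⟩ := hplane V Q htopnd (by rw [htopdim]; exact ⟨d', by ring⟩)
            (by rw [htopdim]; omega)
          exact ⟨P, hinv P, hPnd, hPdim, hPty⟩

/-- ESUFF core: `hfixed` = statement of EFIXED, `hplane` = statement of QPLANEEX (`N = ⊤`, `s = 1`) -/
theorem opeesuff_core {F : Type*} [Field F] [Fintype F] (h2 : (2 : F) = 0)
    (hfixed : ∀ (V : Type u) [AddCommGroup V] [Module F V] [FiniteDimensional F V]
      (Q : QuadraticForm F V) (x : Module.End F V), QCtx 2 Q x → Even (finrank F V) →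
      ∀ e : ℕ, Even e → 0 < e → e + 2 * finrank F (LinearMap.range (x - 1)) < finrank F V →
      ∀ s : ℤ, (s = 1 ∨ s = -1) → QNDt Q x e s)
    (hplane : ∀ (V : Type u) [AddCommGroup V] [Module F V] [FiniteDimensional F V]
      (Q : QuadraticForm F V), SND (QuadraticMap.polarBilin Q) (⊤ : Submodule F V) →
      Even (finrank F (⊤ : Submodule F V)) → 4 ≤ finrank F (⊤ : Submodule F V) →
      ∃ P : Submodule F V, P ≤ ⊤ ∧ SND (QuadraticMap.polarBilin Q) P ∧ finrank F P = 2 ∧ QTy Q P 1)
    {V : Type u} [AddCommGroup V] [Module F V] [FiniteDimensional F V]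
    {Q : QuadraticForm F V} {x : Module.End F V} (h : QCtx 2 Q x) (d m : ℕ)
    (hV : finrank F V = 2 * d) (hτ : QTy Q (⊤ : Submodule F V) 1) (hme : Even m) (hm0 : 0 < m)
    (hmd : m < d) (hcase : Odd d ∨ 4 ∣ m) : QNDt Q x m 1 := by
  have hVe : Even (finrank F V) := by rw [hV]; exact ⟨d, by ring⟩
  by_cases hm4 : 4 ∣ m
  · exact opeefourdvd_core h2 hfixed m V Q x h hVe hm4 (by omega)
  · have hd : Odd d := by
      rcases hcase with h' | h'
      · exact h'
      · exact absurd h' hm4
    obtain ⟨j, hj⟩ := hme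
    have hm2 : 4 ∣ m - 2 := by omega
    have hτ' : QTy Q (⊤ : Submodule F V) (-(-1) ^ d) := by
      have : (-(-1 : ℤ) ^ d) = 1 := by
        rw [Odd.neg_one_pow hd]
        norm_num
      rw [this]
      exact hτ
    obtain ⟨P, hP, hPnd, hPdim, hPty⟩ := opeehypplane_core h2 hplane d V Q x h hV hτ'
    obtain ⟨P', hP', hP'nd, hPo, hPP', _, hctx', _, hback⟩ :=
      opee_descend (by norm_num : 0 < 2) h P hP hPnd
    have hVe' : Even (finrank F ↥P') := by
      have : finrank F ↥P' = 2 * (d - 1) := by omega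
      rw [this]
      exact ⟨d - 1, by ring⟩
    have h4 := opeefourdvd_core h2 hfixed (m - 2) ↥P' (Q.comp P'.subtype) (x.restrict hP') hctx' hVe'
      hm2 (by omega)
    obtain ⟨W', hW'P', hW'inv, hW'nd, hW'dim, hW'ty⟩ := hback (m - 2) 1 h4
    have ho : SOrth (QuadraticMap.polarBilin Q) P W' := fun a ha w hw => hPo a ha w (hW'P' hw)
    obtain ⟨j1, j2, j3, j4⟩ := opee_join P W' hP hPnd hW'inv hW'nd ho
      (by rw [hPdim]; exact even_two) (by rw [hW'dim]; exact ⟨j - 1, by omega⟩) 1 1 hPty hW'ty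
    refine ⟨P ⊔ W', j1, j2, ?_, ?_⟩
    · rw [j3, hPdim, hW'dim]
      omega
    · rw [one_mul] at j4
      exact j4

end Cfsg.Agent.Lib.Helper18.OPE
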