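import Mathlib
import Cfsg.Agent.Lib.Helper18.OPE.Defs
import Cfsg.Agent.Lib.Helper28.OPEEHYPPLANEcore
import Cfsg.Agent.Lib.Helper25.OPEEFIXEDcore
import Cfsg.Agent.Lib.helper17.OPEQTYEXcore
import Cfsg.Agent.Lib.helper8.OPEQPLANEEX

set_option autoImplicit false
set_option linter.unusedVariables false
set_option linter.unusedSectionVars false

/-!
# Project OPE, rows EFOURDVD (`e_four_dvd`), EHYPPLANE (`e_hyp_plane`), ESUFF (`e_suff`) (helper28), verbatim from `Helper18/OPE/Skel2.lean.txt`.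
Wrappers of the cores in `Helper28/OPEEFOURDVDcore.lean`, `Helper28/OPEEHYPPLANEcore.lean` on helper25's `opeefixed_core`, helper17's `opeqtyex_core` and helper8's QPLANEEX `q_plane_ex`.
-/

namespace Cfsg.Agent.Lib.Helper18.OPE

open Polynomial Module Cfsg.Agent.Lib.Helper13.S5955 Cfsg.Agent.Lib.helper15.S5972
open scoped Matrix

/-- the statement of EFIXED, assembled from helper25's core, helper17's QTYEX core and helper8's `q_plane_ex` -/
theorem opeesuff_fixed {F : Type*} [Field F] [Fintype F] (h2 : (2 : F) = 0)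
    {V : Type*} [AddCommGroup V] [Module F V] [FiniteDimensional F V]
    {Q : QuadraticForm F V} {x : Module.End F V} (h : QCtx 2 Q x) (hVe : Even (finrank F V))
    (e : ℕ) (he : Even e) (he0 : 0 < e)
    (hlt : e + 2 * finrank F (LinearMap.range (x - 1)) < finrank F V)
    (s : ℤ) (hs : s = 1 ∨ s = -1) : QNDt Q x e s :=
  opeefixed_core h2 h hVe e he he0 hlt s hs
    (fun N hN hev heN => opeqtyex_core Q
      (fun N' hN' hev' h4 s' hs' => q_plane_ex Q N' hN' hev' h4 s' hs') N hN hev e he he0 heN s hs)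

/-- EFOURDVD [M-L]: every involutory isometry (or `1`) in characteristic 2 fixes a hyperbolic `m`-space when `4 ∣ m` and `2m < dim V`.  Strong induction on `m`, for all `V` of the universe
at once.  `m = 0`: `⊥` (QTYBOT).  `m ≥ 4`, `l := rank (x - 1)`.  `l ≤ m / 2`: EFIXED (`m + 2l ≤ 2m < dim V`).  `l ≥ m / 2 + 1 ≥ 3`: EPAIREX + EFOUR give `A`; QPERP: `A' = A^⊥` invariant nondegenerate of
dimension `dim V - 4`; QRESTRICT to `A'`; induction (`m - 4`, `↥A'`) gives `W' ≤ A'`; `W = A ⊔ W'`: QTYSUM (`A` has type `1` by QTYIFF), `nd_sup_symm`, helper24 `el_inv_sup`. -/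
theorem e_four_dvd {F : Type*} [Field F] [Fintype F] (h2 : (2 : F) = 0)
    {V : Type*} [AddCommGroup V] [Module F V] [FiniteDimensional F V]
    {Q : QuadraticForm F V} {x : Module.End F V} (h : QCtx 2 Q x) (hVe : Even (finrank F V))
    (m : ℕ) (hm4 : 4 ∣ m) (hmV : 2 * m < finrank F V) : QNDt Q x m 1 :=
  opeefourdvd_core h2
    (fun V _ _ _ Q x h hVe e he he0 hlt s hs => opeesuff_fixed h2 h hVe e he he0 hlt s hs)
    m V Q x h hVe hm4 hmV

/-- EHYPPLANE [M-L]: if the type of `V` (dimension `2d'`) is NOT `(-1)^d'`, some invariant plane is hyperbolic.  Strong induction on `d'`, for all `V` at once (QRESTRICT, QPERP).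
If some `v` has `B v (N v) ≠ 0`: `P = ⟨v, N v⟩` (EPLANE); type `1` (QTYIFF): done; type `-1`: `P^⊥` has dimension `2(d'-1)` and type `-type(V) = -(-1)^(d'-1)·(-1)… = ` NOT `(-1)^(d'-1)` (QTYSUM, QTYUNIQ): induction.
Else `B v (N v) = 0` for all `v`; if `N ≠ 0`: `u₁` with `N u₁ ≠ 0`, `u₂` with `B (N u₁) u₂ ≠ 0` (`h.nd`), EFOUR: `A` of type `1`, `A^⊥` of dimension `2(d'-2)` and the type of `V`: induction.
If `N = 0` (`x = 1`): `d' = 0` contradicts QTYBOT; `d' = 1`: `V` itself has type `1`; `d' ≥ 2`: QPLANEEX. -/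
theorem e_hyp_plane {F : Type*} [Field F] [Fintype F] (h2 : (2 : F) = 0)
    {V : Type*} [AddCommGroup V] [Module F V] [FiniteDimensional F V]
    {Q : QuadraticForm F V} {x : Module.End F V} (h : QCtx 2 Q x) (d' : ℕ)
    (hV : finrank F V = 2 * d') (hτ : QTy Q (⊤ : Submodule F V) (-(-1) ^ d')) : QNDt Q x 2 1 :=
  opeehypplane_core h2
    (fun V _ _ _ Q hnd hev h4 => q_plane_ex Q ⊤ hnd hev h4 1 (Or.inl rfl))
    d' V Q x h hV hτ

/-- ESUFF [M]: the sufficiency for `r = p = 2` (S5974).  `4 ∣ m`: EFOURDVD.  Else `m ≡ 2 (mod 4)` and `d` is odd: `type(V) = 1 = -(-1)^d`, EHYPPLANE gives an invariant hyperbolic plane `P`;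
QPERP + QRESTRICT: `P^⊥` of dimension `2d - 2`; EFOURDVD there with `m - 2` (`2(m-2) < 2d - 2`); `W = P ⊔ W'`, QTYSUM. -/
theorem e_suff {F : Type*} [Field F] [Fintype F] (h2 : (2 : F) = 0)
    {V : Type*} [AddCommGroup V] [Module F V] [FiniteDimensional F V]
    {Q : QuadraticForm F V} {x : Module.End F V} (h : QCtx 2 Q x) (d m : ℕ)
    (hV : finrank F V = 2 * d) (hτ : QTy Q (⊤ : Submodule F V) 1) (hme : Even m) (hm0 : 0 < m)
    (hmd : m < d) (hcase : Odd d ∨ 4 ∣ m) : QNDt Q x m 1 :=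
  opeesuff_core h2
    (fun V _ _ _ Q x h hVe e he he0 hlt s hs => opeesuff_fixed h2 h hVe e he he0 hlt s hs)
    (fun V _ _ _ Q hnd hev h4 => q_plane_ex Q ⊤ hnd hev h4 1 (Or.inl rfl))
    h d m hV hτ hme hm0 hmd hcase

end Cfsg.Agent.Lib.Helper18.OPE
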