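import Mathlib
import Cfsg.Agent.Lib.helper8.OME.Defs
import Cfsg.Agent.Lib.Helper28.OPEESUFF

set_option autoImplicit false
set_option linter.unusedVariables false
set_option linter.unusedSectionVars false

/-!
# Project OME, row ESUFFML (`e_suff_minus_large`) (helper28), verbatim from `helper8/OME/Skel.lean.txt`.
-/

namespace Cfsg.Agent.Lib.helper8.OME

open Polynomial Module Cfsg.Agent.Lib.Helper13.S5955 Cfsg.Agent.Lib.helper15.S5972
  Cfsg.Agent.Lib.Helper18.OPE
open scoped Matrix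

/-- ESUFFML [M-L]: the same for `d < m ≤ 2d - 2`, through the complement: `m' := 2d - m < d`; an invariant HYPERBOLIC `m'`-space `W'`, then `W = W'^⊥` (PERPTY: elliptic, dimension `m`).  `4 ∣ m'`: OPE `e_four_dvd` (`2m' < 2d`).
`m' ≡ 2 (mod 4)`: then `d` is even (if `d` is odd, `m = 2d - m' ≡ 0 (mod 4)` contradicts `hcase`), so `type(V) = -1 = -(-1)^d`: OPE `e_hyp_plane` gives an invariant hyperbolic plane `P`, `P^⊥` (dimension `2d - 2`), `e_four_dvd` there with `m' - 2`. -/
theorem e_suff_minus_large {F : Type*} [Field F] [Fintype F] (h2 : (2 : F) = 0)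
    {V : Type*} [AddCommGroup V] [Module F V] [FiniteDimensional F V]
    {Q : QuadraticForm F V} {x : Module.End F V} (h : QCtx 2 Q x) (d m : ℕ)
    (hV : finrank F V = 2 * d) (hτ : QTy Q (⊤ : Submodule F V) (-1)) (hme : Even m) (hdm : d < m)
    (hmn : m + 2 ≤ 2 * d) (hcase : Even d ∨ m % 4 = 2) : QNDt Q x m (-1) := by
  obtain ⟨j, hj⟩ := hme
  have hVe : Even (finrank F V) := by rw [hV]; exact ⟨d, by ring⟩
  -- an invariant hyperbolic space of dimension `2d - m`
  have hW' : QNDt Q x (2 * d - m) 1 := by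
    by_cases hm4 : 4 ∣ (2 * d - m)
    · exact e_four_dvd h2 h hVe _ hm4 (by rw [hV]; omega)
    · have hd : Even d := by
        rcases hcase with h' | h'
        · exact h'
        · exact Nat.even_iff.2 (by omega)
      have hτ' : QTy Q (⊤ : Submodule F V) (-(-1) ^ d) := by
        rw [Even.neg_one_pow hd]
        exact hτ
      obtain ⟨P, hP, hPnd, hPdim, hPty⟩ := e_hyp_plane h2 h d hV hτ'
      obtain ⟨P', hP', hP'nd, hPo, hPP', _, hctx', _, hback⟩ :=
        opee_descend (by norm_num : 0 < 2) h P hP hPnd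
      have hP'dim : finrank F ↥P' = 2 * (d - 1) := by omega
      have hP'ev : Even (finrank F ↥P') := by rw [hP'dim]; exact ⟨d - 1, by ring⟩
      have h4 := e_four_dvd h2 hctx' hP'ev (2 * d - m - 2) (by omega) (by rw [hP'dim]; omega)
      obtain ⟨W'', hW''P', hW''inv, hW''nd, hW''dim, hW''ty⟩ := hback (2 * d - m - 2) 1 h4
      have ho : SOrth (QuadraticMap.polarBilin Q) P W'' := fun a ha w hw => hPo a ha w (hW''P' hw)
      obtain ⟨j1, j2, j3, j4⟩ := opee_join P W'' hP hPnd hW''inv hW''nd ho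
        (by rw [hPdim]; exact even_two) (by rw [hW''dim]; exact ⟨d - j - 1, by omega⟩) 1 1 hPty hW''ty
      refine ⟨P ⊔ W'', j1, j2, ?_, ?_⟩
      · rw [j3, hPdim, hW''dim]
        omega
      · rw [one_mul] at j4
        exact j4
  obtain ⟨W', hW'inv, hW'nd, hW'dim, hW'ty⟩ := hW'
  obtain ⟨A', hA', hA'nd, hAo, hAA', htop, _, _, _⟩ :=
    opee_descend (by norm_num : 0 < 2) h W' hW'inv hW'nd
  have hA'dim : finrank F ↥A' = m := by omega
  have hA'ty := opee_compl_ty Q W' A' hW'nd hA'nd hAo htop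
    (by rw [hW'dim]; exact ⟨d - j, by omega⟩) (by rw [hA'dim]; exact ⟨j, hj⟩)
    1 (-1) (Or.inl rfl) (Or.inr rfl) hW'ty hτ
  rw [one_mul] at hA'ty
  exact ⟨A', hA', hA'nd, hA'dim, hA'ty⟩

end Cfsg.Agent.Lib.helper8.OME
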