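import Mathlib
import Cfsg.Agent.Lib.helper8.OME.Defs
import Cfsg.Agent.Lib.Helper28.OPEESUFF

set_option autoImplicit false
set_option linter.unusedVariables false
set_option linter.unusedSectionVars false

/-!
# Project OME, row EELLPLANE (`e_ell_plane`) (helper28), verbatim from `helper8/OME/Skel.lean.txt`.
Twin of `opeehypplane_core` (Helper28/OPEEHYPPLANEcore.lean) with the simpler invariant "the space is elliptic".
-/

namespace Cfsg.Agent.Lib.helper8.OME

open Polynomial Module Cfsg.Agent.Lib.Helper13.S5955 Cfsg.Agent.Lib.helper15.S5972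
  Cfsg.Agent.Lib.Helper18.OPE
open scoped Matrix

universe u

/-- the induction behind EELLPLANE, for all spaces of a fixed universe at once -/
theorem omeeellplane_ind {F : Type*} [Field F] [Fintype F] (h2 : (2 : F) = 0) :
    ∀ (d' : ℕ) (V : Type u) [AddCommGroup V] [Module F V] [FiniteDimensional F V]
      (Q : QuadraticForm F V) (x : Module.End F V), QCtx 2 Q x → finrank F V = 2 * d' →
      QTy Q (⊤ : Submodule F V) (-1) → QNDt Q x 2 (-1) := by
  intro d'
  induction d' using Nat.strong_induction_on with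
  | _ d' ih =>
    intro V _ _ _ Q x h hV hτ
    obtain ⟨hNN, hadj, hQN, hNNB⟩ := e_basic h2 h
    -- the common descent step: split off an invariant hyperbolic piece
    have hstep : ∀ (A : Submodule F V) (k : ℕ), 0 < k → SInv x A → SND (QuadraticMap.polarBilin Q) A →
        finrank F A = 2 * k → QTy Q A 1 → QNDt Q x 2 (-1) := by
      intro A k hk hA hAnd hAdim hAty
      obtain ⟨A', hA', hA'nd, hAo, hAA', htop, hctx', hiff, hback⟩ :=
        opee_descend (by norm_num : 0 < 2) h A hA hAnd
      have hdk : k ≤ d' := by omega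
      have hA'dim : finrank F ↥A' = 2 * (d' - k) := by omega
      have hA'ty := opee_compl_ty Q A A' hAnd hA'nd hAo htop (by rw [hAdim]; exact ⟨k, by ring⟩)
        (by rw [hA'dim]; exact ⟨d' - k, by ring⟩) 1 (-1) (Or.inl rfl) (Or.inr rfl) hAty hτ
      rw [one_mul] at hA'ty
      have hih := ih (d' - k) (by omega) ↥A' (Q.comp A'.subtype) (x.restrict hA') hctx' hA'dim
        ((hiff _).2 hA'ty)
      obtain ⟨W, _, hWinv, hWnd, hWdim, hWty⟩ := hback 2 (-1) hih
      exact ⟨W, hWinv, hWnd, hWdim, hWty⟩
    by_cases hex : ∃ v, QuadraticMap.polarBilin Q v ((x - 1) v) ≠ 0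
    · obtain ⟨v, hv⟩ := hex
      obtain ⟨hPinv, hPnd, hPdim⟩ := e_plane h2 h v hv
      rcases opee_ty_cases Q _ hPnd (by rw [hPdim]; exact even_two) with ⟨_, ht⟩ | ⟨_, ht⟩
      · exact hstep _ 1 one_pos hPinv hPnd (by rw [hPdim]) ht
      · exact ⟨_, hPinv, hPnd, hPdim, ht⟩
    · push Not at hex
      by_cases hN0 : ∃ u₁, (x - 1) u₁ ≠ 0
      · obtain ⟨u₁, hu₁⟩ := hN0
        obtain ⟨u₂, hu₂⟩ : ∃ u₂, QuadraticMap.polarBilin Q ((x - 1) u₁) u₂ ≠ 0 := by
          by_contra hcon
          push Not at hcon
          exact hu₁ (h.nd _ hcon)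
        obtain ⟨A, hA, hAnd, hAdim, hAhyp⟩ := e_four h2 h u₁ u₂ (hex u₁) (hex u₂) hu₂
        have hAty : QTy Q A 1 := opee_hyp_ty Q A hAnd (by rw [hAdim]; exact ⟨2, rfl⟩) hAhyp
        exact hstep A 2 (by norm_num) hA hAnd (by rw [hAdim]) hAty
      · push Not at hN0
        have hx1 : ∀ v, x v = v := by
          intro v
          have := hN0 v
          rw [LinearMap.sub_apply, Module.End.one_apply, sub_eq_zero] at this
          exact this
        have hinv : ∀ W : Submodule F V, SInv x W := by
          intro W w hw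
          rw [hx1]
          exact hw
        have htopnd : SND (QuadraticMap.polarBilin Q) (⊤ : Submodule F V) :=
          fun u _ hu => h.nd u (fun v => hu v Submodule.mem_top)
        have htopdim : finrank F (⊤ : Submodule F V) = 2 * d' := by rw [finrank_top, hV]
        rcases Nat.lt_or_ge d' 2 with hd | hd
        · rcases Nat.eq_zero_or_pos d' with hd0 | hd0
          · exfalso
            subst hd0
            have hbot : (⊤ : Submodule F V) = ⊥ := by
              have : finrank F (⊤ : Submodule F V) = 0 := by rw [htopdim]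
              exact Submodule.finrank_eq_zero.1 this
            rw [hbot, qty_bot] at hτ
            norm_num at hτ
          · have hd1 : d' = 1 := by omega
            subst hd1
            exact ⟨⊤, hinv _, htopnd, by rw [htopdim], hτ⟩
        · obtain ⟨P, _, hPnd, hPdim, hPty⟩ := q_plane_ex Q ⊤ htopnd
            (by rw [htopdim]; exact ⟨d', by ring⟩) (by rw [htopdim]; omega) (-1) (Or.inr rfl)
          exact ⟨P, hinv P, hPnd, hPdim, hPty⟩

/-- EELLPLANE [M-L] (twin of OPE `e_hyp_plane`, Helper28/OPEEHYPPLANEcore.lean, simpler invariant): characteristic 2, `V` ELLIPTIC of dimension `2d'`: some invariant plane is elliptic.  Strong induction on `d'`, for all `V` at once (QRESTRICT, PERPTY).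
If some `v` has `B v (N v) ≠ 0`: `P = ⟨v, N v⟩` (EPLANE); type `-1`: done; type `1`: `P^⊥` has dimension `2(d'-1)` and type `-1` (PERPTY): induction.  Else if `N ≠ 0`: `u₁` with `N u₁ ≠ 0`, `u₂` with `B (N u₁) u₂ ≠ 0` (`h.nd`), EFOUR: `A` hyperbolic,
`A^⊥` of dimension `2(d'-2)` and type `-1`: induction.  If `N = 0` (`x = 1`): `d' = 0` contradicts QTYBOT; `d' = 1`: `V` itself; `d' ≥ 2`: QPLANEEX with `s = -1`. -/
theorem e_ell_plane {F : Type*} [Field F] [Fintype F] (h2 : (2 : F) = 0)
    {V : Type*} [AddCommGroup V] [Module F V] [FiniteDimensional F V]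
    {Q : QuadraticForm F V} {x : Module.End F V} (h : QCtx 2 Q x) (d' : ℕ)
    (hV : finrank F V = 2 * d') (hτ : QTy Q (⊤ : Submodule F V) (-1)) : QNDt Q x 2 (-1) := by
  exact omeeellplane_ind h2 d' V Q x h hV hτ

end Cfsg.Agent.Lib.helper8.OME
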