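import Mathlib
import Cfsg.Agent.Lib.helper8.OME.Defs
import Cfsg.Agent.Lib.Helper28.OMEEELLPLANE

set_option autoImplicit false
set_option linter.unusedVariables false
set_option linter.unusedSectionVars false

/-!
# Project OME, row ESUFFMS (`e_suff_minus_small`) (helper28), verbatim from `helper8/OME/Skel.lean.txt`.
-/

namespace Cfsg.Agent.Lib.helper8.OME

open Polynomial Module Cfsg.Agent.Lib.Helper13.S5955 Cfsg.Agent.Lib.helper15.S5972
  Cfsg.Agent.Lib.Helper18.OPE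
open scoped Matrix

/-- ESUFFMS [M-L]: characteristic 2, `V` elliptic of dimension `2d`, `m ≤ d`: every involution (or `1`) fixes an elliptic `m`-space if `d` is even or `m ≡ 2 (mod 4)`.  EELLPLANE gives an invariant elliptic plane `P`; PERPTY + QRESTRICT:
`P^⊥` hyperbolic of dimension `2(d-1)`.  `m ≡ 2 (mod 4)`: OPE `e_four_dvd` in `P^⊥` with `m - 2` (`2(m-2) < 2d - 2`).  `4 ∣ m` (so `d` even, `m ≥ 4`): OPE `e_suff` in `P^⊥` (`d - 1` odd, `0 < m - 2 < d - 1`).  `W = P ⊔ W'`: QTYSUM, `nd_sup_symm`, `el_inv_sup`. -/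
theorem e_suff_minus_small {F : Type*} [Field F] [Fintype F] (h2 : (2 : F) = 0)
    {V : Type*} [AddCommGroup V] [Module F V] [FiniteDimensional F V]
    {Q : QuadraticForm F V} {x : Module.End F V} (h : QCtx 2 Q x) (d m : ℕ)
    (hV : finrank F V = 2 * d) (hτ : QTy Q (⊤ : Submodule F V) (-1)) (hme : Even m) (hm : 2 ≤ m)
    (hmd : m ≤ d) (hcase : Even d ∨ m % 4 = 2) : QNDt Q x m (-1) := by
  obtain ⟨P, hP, hPnd, hPdim, hPty⟩ := e_ell_plane h2 h d hV hτ
  obtain ⟨P', hP', hP'nd, hPo, hPP', htop, hctx', hiff, hback⟩ :=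
    opee_descend (by norm_num : 0 < 2) h P hP hPnd
  have hP'dim : finrank F ↥P' = 2 * (d - 1) := by omega
  have hP'ev : Even (finrank F ↥P') := by rw [hP'dim]; exact ⟨d - 1, by ring⟩
  have hP'ty := opee_compl_ty Q P P' hPnd hP'nd hPo htop (by rw [hPdim]; exact even_two)
    hP'ev (-1) (-1) (Or.inr rfl) (Or.inr rfl) hPty hτ
  have e : ((-1 : ℤ)) * (-1) = 1 := by norm_num
  rw [e] at hP'ty
  have hτ' : QTy (Q.comp P'.subtype) (⊤ : Submodule F ↥P') 1 := (hiff _).2 hP'ty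
  obtain ⟨j, hj⟩ := hme
  have hW' : QNDt (Q.comp P'.subtype) (x.restrict hP') (m - 2) 1 := by
    by_cases hm4 : m % 4 = 2
    · exact e_four_dvd h2 hctx' hP'ev (m - 2) (by omega) (by rw [hP'dim]; omega)
    · have hd : Even d := by
        rcases hcase with h' | h'
        · exact h'
        · exact absurd h' hm4
      obtain ⟨k, hk⟩ := hd
      exact e_suff h2 hctx' (d - 1) (m - 2) hP'dim hτ' ⟨j - 1, by omega⟩ (by omega) (by omega)
        (Or.inl ⟨k - 1, by omega⟩)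
  obtain ⟨W', hW'P', hW'inv, hW'nd, hW'dim, hW'ty⟩ := hback (m - 2) 1 hW'
  have ho : SOrth (QuadraticMap.polarBilin Q) P W' := fun a ha w hw => hPo a ha w (hW'P' hw)
  obtain ⟨j1, j2, j3, j4⟩ := opee_join P W' hP hPnd hW'inv hW'nd ho
    (by rw [hPdim]; exact even_two) (by rw [hW'dim]; exact ⟨j - 1, by omega⟩) (-1) 1 hPty hW'ty
  refine ⟨P ⊔ W', j1, j2, ?_, ?_⟩
  · rw [j3, hPdim, hW'dim]
    omega
  · rw [mul_one] at j4
    exact j4

end Cfsg.Agent.Lib.helper8.OME
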