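import Mathlib
import Cfsg.Agent.Lib.helper7.REE.Defs
import Cfsg.Agent.Lib.Helper28.REEPB0
import Cfsg.Agent.Lib.Helper28.REEPB

/-!
# Project RSS, row V1 (helper28): every involution of `L = ψ(SL₂(K))` is `L`-conjugate to `n0`.
-/

set_option autoImplicit false

namespace Cfsg.Agent.Lib.helper7.REE

open Matrix Cfsg.Agent.Lib.helper8

universe u v

section V1a

variable {K : Type v} [Field K]

/-- an element of `SL₂(K)` of square one is `± 1` when `2 ≠ 0` -/
theorem rssv1_sq_one (h2 : (2 : K) ≠ 0) (g : SpecialLinearGroup (Fin 2) K) (hg : g * g = 1) :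
    g = 1 ∨ g = -1 := by
  obtain ⟨o00, o01, o10, o11⟩ := reepb_one_apply (K := K)
  have hdet := h8sl_det g
  have e00 := congrArg (fun x : SpecialLinearGroup (Fin 2) K => x 0 0) hg
  have e01 := congrArg (fun x : SpecialLinearGroup (Fin 2) K => x 0 1) hg
  have e10 := congrArg (fun x : SpecialLinearGroup (Fin 2) K => x 1 0) hg
  have e11 := congrArg (fun x : SpecialLinearGroup (Fin 2) K => x 1 1) hg
  simp only [reepb_mul_apply, o00, o01, o10, o11] at e00 e01 e10 e11
  have htr : g 0 0 + g 1 1 ≠ 0 := by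
    intro h
    apply h2
    have h11 : g 1 1 = -(g 0 0) := by linear_combination h
    rw [h11] at hdet
    linear_combination (-1 : K) * e00 - hdet
  have h01 : g 0 1 = 0 := by
    have h : g 0 1 * (g 0 0 + g 1 1) = 0 := by linear_combination e01
    rcases mul_eq_zero.1 h with h' | h'
    · exact h'
    · exact absurd h' htr
  have h10 : g 1 0 = 0 := by
    have h : g 1 0 * (g 0 0 + g 1 1) = 0 := by linear_combination e10
    rcases mul_eq_zero.1 h with h' | h'
    · exact h'
    · exact absurd h' htr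
  rw [h01, h10] at e00 hdet
  have hsq : g 0 0 * g 0 0 = 1 := by linear_combination e00
  rcases mul_self_eq_one_iff.1 hsq with h | h
  · left
    apply h8sl_ext
    · rw [o00, h]
    · rw [o01, h01]
    · rw [o10, h10]
    · rw [o11]
      rw [h] at hdet
      linear_combination hdet
  · right
    apply h8sl_ext <;> simp only [reepb_neg_apply, o00, o01, o10, o11]
    · exact h
    · rw [h01, neg_zero]
    · rw [h10, neg_zero]
    · rw [h] at hdet
      linear_combination (-1 : K) * hdet

/-- an element of `SL₂(K)` of square `-1` has no eigenvector when `-1` is a non-square -/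
theorem rssv1_noeig (hns : ∀ a : K, a ^ 2 ≠ -1) (g : SpecialLinearGroup (Fin 2) K)
    (hg : g * g = -1) (c : K) (w : Fin 2 → K) (hw : w ≠ 0) :
    (g : Matrix (Fin 2) (Fin 2) K).mulVec w ≠ c • w := by
  intro hcw
  have hsq : ((g * g : SpecialLinearGroup (Fin 2) K) : Matrix (Fin 2) (Fin 2) K).mulVec w =
      (c * c) • w := by
    rw [Matrix.SpecialLinearGroup.coe_mul, ← Matrix.mulVec_mulVec, hcw, Matrix.mulVec_smul, hcw,
      smul_smul]
  rw [hg, Matrix.SpecialLinearGroup.coe_neg, Matrix.SpecialLinearGroup.coe_one,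
    Matrix.neg_mulVec, Matrix.one_mulVec] at hsq
  obtain ⟨i, hi⟩ : ∃ i, w i ≠ 0 := by
    by_contra hcon
    push Not at hcon
    exact hw (funext hcon)
  have hi2 := congrFun hsq i
  simp only [Pi.neg_apply, Pi.smul_apply, smul_eq_mul] at hi2
  have h0 : (c ^ 2 + 1) * w i = 0 := by linear_combination (-1 : K) * hi2
  rcases mul_eq_zero.1 h0 with h' | h'
  · exact hns c (by linear_combination h')
  · exact hi h'

end V1a

namespace ReeAx

variable {G : Type u} [Group G] [Finite G] {K : Type v} [Field K] [Fintype K] {m : ℕ}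

theorem rss_invL (R : ReeAx G K m) (l : G) (hl : l ∈ R.L) (h1 : l ≠ 1) (h2 : l * l = 1) :
    ∃ x ∈ R.L, x * l * x⁻¹ = R.n0 := by
  have hl' : l ∈ R.psi.range := hl
  obtain ⟨g, rfl⟩ := MonoidHom.mem_range.1 hl'
  have hgg : R.psi (g * g) = 1 := by
    rw [map_mul]
    exact h2
  rcases R.psi_ker _ hgg with h | h
  · exfalso
    rcases rssv1_sq_one (reepb_two_ne R.hK) g h with rfl | rfl
    · exact h1 (map_one _)
    · exact h1 R.psi_neg
  · obtain ⟨x, hx⟩ := (so2_props R.hK).2.2.2.1 g (rssv1_noeig (reepb_nonsq R.hK) g h)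
    have hyy : (x * g * x⁻¹) * (x * g * x⁻¹) = -1 := by
      have e : (x * g * x⁻¹) * (x * g * x⁻¹) = x * (g * g) * x⁻¹ := by group
      rw [e, h, mul_neg, mul_one, neg_mul, mul_inv_cancel]
    have hxL : R.psi x ∈ R.L := MonoidHom.mem_range.2 ⟨x, rfl⟩
    rcases reepb_order_four R.hK _ hx hyy with hW | hW
    · refine ⟨R.psi x, hxL, ?_⟩
      rw [← map_inv, ← map_mul, ← map_mul, hW, R.psi_W]
    · refine ⟨R.psi x, hxL, ?_⟩
      rw [← map_inv, ← map_mul, ← map_mul, hW]
      have e : (-h8slW : SpecialLinearGroup (Fin 2) K) = (-1) * h8slW := by rw [neg_one_mul]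
      rw [e, map_mul, R.psi_neg, one_mul, R.psi_W]

end ReeAx

end Cfsg.Agent.Lib.helper7.REE
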