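import Mathlib
import Cfsg.Agent.Lib.helper7.REE.Defs
import Cfsg.Agent.Lib.helper4.REEG4H
import Cfsg.Agent.Lib.Helper28.RSSV1

/-!
# Project RSS, row V2 (helper28): every four-group of exponent 2 is conjugate to `V`.
-/

set_option autoImplicit false

namespace Cfsg.Agent.Lib.helper7.REE

open Matrix Cfsg.Agent.Lib.helper8

universe u v

section V2a

variable {G : Type u} [Group G]

/-- a subgroup with four elements has an element different from two given ones -/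
theorem rssv2_exists [Finite G] (Q : Subgroup G) (hc : Nat.card Q = 4) (u v : G) :
    ∃ b ∈ Q, b ≠ u ∧ b ≠ v := by
  by_contra H
  push Not at H
  have hsub : (Q : Set G) ⊆ {u, v} := by
    intro b hb
    by_cases h : b = u
    · left
      exact h
    · right
      exact H b hb h
  have h1 := Set.ncard_le_ncard hsub (Set.toFinite _)
  have h2 : ({u, v} : Set G).ncard ≤ 2 := by
    have := Set.ncard_insert_le u ({v} : Set G)
    rw [Set.ncard_singleton] at this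
    exact this
  have h3 : Nat.card Q = (Q : Set G).ncard := Nat.card_coe_set_eq (Q : Set G)
  omega

/-- exponent 2 gives commutativity -/
theorem rssv2_comm (S : Subgroup G) (hexp : ∀ x ∈ S, x * x = 1) (x y : G) (hx : x ∈ S)
    (hy : y ∈ S) : x * y = y * x := by
  have h1 := hexp (x * y) (S.mul_mem hx hy)
  have hx' : x⁻¹ = x := inv_eq_of_mul_eq_one_right (hexp x hx)
  have hy' : y⁻¹ = y := inv_eq_of_mul_eq_one_right (hexp y hy)
  have h2 : (x * y)⁻¹ = x * y := inv_eq_of_mul_eq_one_right h1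
  rw [← h2, _root_.mul_inv_rev, hx', hy']

end V2a

namespace ReeAx

variable {G : Type u} [Group G] [Finite G] {K : Type v} [Field K] [Fintype K] {m : ℕ}

theorem rss_four (R : ReeAx G K m) (Q : Subgroup G) (hc : Nat.card Q = 4) (hexp : ∀ x ∈ Q, x * x = 1) :
    ∃ g : G, Q.map (MulAut.conj g).toMonoidHom = R.V := by
  obtain ⟨a, haQ, ha1, -⟩ := rssv2_exists Q hc 1 1
  obtain ⟨g₀, hg₀⟩ := R.invol_conj a ha1 (hexp a haQ)
  obtain ⟨g₁, hg₁⟩ : ∃ g₁ : G, g₁ = g₀⁻¹ := ⟨_, rfl⟩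
  have hta : g₁ * a * g₁⁻¹ = R.t := by
    rw [hg₁, ← hg₀]
    group
  obtain ⟨b₀, hbQ, hb1, hba⟩ := rssv2_exists Q hc 1 a
  have hab : a * b₀ = b₀ * a := rssv2_comm Q hexp a b₀ haQ hbQ
  have htb : R.t * (g₁ * b₀ * g₁⁻¹) = (g₁ * b₀ * g₁⁻¹) * R.t := by
    rw [← hta]
    have e1 : g₁ * a * g₁⁻¹ * (g₁ * b₀ * g₁⁻¹) = g₁ * (a * b₀) * g₁⁻¹ := by group
    have e2 : g₁ * b₀ * g₁⁻¹ * (g₁ * a * g₁⁻¹) = g₁ * (b₀ * a) * g₁⁻¹ := by group
    rw [e1, e2, hab]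
  have htt : R.t * R.t = 1 := R.t_sq
  -- an involution `l₀` of `Q` whose `g₁`-conjugate lies in `L`
  have hl : ∃ l₀ ∈ Q, l₀ ≠ 1 ∧ ∃ g' : SpecialLinearGroup (Fin 2) K, g₁ * l₀ * g₁⁻¹ = R.psi g' := by
    obtain ⟨g', hg' | hg'⟩ := R.psi_cent _ htb
    · exact ⟨b₀, hbQ, hb1, g', hg'⟩
    · refine ⟨a * b₀, Q.mul_mem haQ hbQ, ?_, g', ?_⟩
      · intro h
        apply hba
        have h1 : a⁻¹ = b₀ := inv_eq_of_mul_eq_one_right h
        have h2 : a⁻¹ = a := inv_eq_of_mul_eq_one_right (hexp a haQ)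
        rw [← h1, h2]
      · have e1 : g₁ * (a * b₀) * g₁⁻¹ = (g₁ * a * g₁⁻¹) * (g₁ * b₀ * g₁⁻¹) := by group
        rw [e1, hta, hg', ← mul_assoc, htt, one_mul]
  obtain ⟨l₀, hlQ, hl1, g', hg'⟩ := hl
  have hlL : R.psi g' ∈ R.L := MonoidHom.mem_range.2 ⟨g', rfl⟩
  have hl1' : R.psi g' ≠ 1 := by
    rw [← hg']
    intro h
    exact hl1 (conj_eq_one_iff.1 h)
  have hll : R.psi g' * R.psi g' = 1 := by
    rw [← hg']
    have e : g₁ * l₀ * g₁⁻¹ * (g₁ * l₀ * g₁⁻¹) = g₁ * (l₀ * l₀) * g₁⁻¹ := by group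
    rw [e, hexp l₀ hlQ]
    group
  obtain ⟨x, hxL, hx⟩ := R.rss_invL (R.psi g') hlL hl1' hll
  have hxL' : x ∈ R.psi.range := hxL
  obtain ⟨x', rfl⟩ := MonoidHom.mem_range.1 hxL'
  have hxt : R.psi x' * R.t * (R.psi x')⁻¹ = R.t := by
    rw [← R.psi_comm x', mul_inv_cancel_right]
  refine ⟨R.psi x' * g₁, ?_⟩
  symm
  apply Subgroup.eq_of_le_of_card_ge
  · show Subgroup.closure {R.t, R.n0} ≤ _
    rw [Subgroup.closure_le]
    intro y hy
    rcases hy with rfl | hy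
    · refine Subgroup.mem_map.2 ⟨a, haQ, ?_⟩
      show R.psi x' * g₁ * a * (R.psi x' * g₁)⁻¹ = R.t
      have e : R.psi x' * g₁ * a * (R.psi x' * g₁)⁻¹ = R.psi x' * (g₁ * a * g₁⁻¹) * (R.psi x')⁻¹ := by
        group
      rw [e, hta, hxt]
    · rw [Set.mem_singleton_iff] at hy
      subst hy
      refine Subgroup.mem_map.2 ⟨l₀, hlQ, ?_⟩
      show R.psi x' * g₁ * l₀ * (R.psi x' * g₁)⁻¹ = R.n0
      have e : R.psi x' * g₁ * l₀ * (R.psi x' * g₁)⁻¹ =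
          R.psi x' * (g₁ * l₀ * g₁⁻¹) * (R.psi x')⁻¹ := by
        group
      rw [e, hg', hx]
  · rw [Subgroup.card_map_of_injective (MulAut.conj (R.psi x' * g₁)).injective, hc,
      R.V_basic.2.1]

end ReeAx

end Cfsg.Agent.Lib.helper7.REE
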