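import Mathlib
import Cfsg.Prelude.Def_LieTypeChar
import Cfsg.Agent.Lib.helper14.SQD.Defs
import Cfsg.Agent.Lib.helper14.SQD.DefsU
import Cfsg.Agent.Lib.Helper24.SQD.DefsO
import Cfsg.Agent.Lib.Helper29.SQDH1

/-!
Project SQD, row OM6AB (`exists_hs_unit`, `hsM_zero_left`), verbatim (helper28).
-/

set_option autoImplicit false

namespace Cfsg.Agent.Lib.helper14.SQD

open Cfsg Cfsg.Lie Matrix

universe u v

section OM
variable {k : ℕ} {F : Type u} [Field F] (a b : F)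

theorem sqdom6ab_tadj_neg {m n : Type*} (τ : F →+* F) (A : Matrix m n F) : tadj τ (-A) = -tadj τ A := by
  unfold tadj
  ext i j
  simp

theorem sqdom6ab_tadj_zero {m n : Type*} (τ : F →+* F) : tadj τ (0 : Matrix m n F) = 0 := by
  unfold tadj
  ext i j
  simp

/-- the inverse of a Heisenberg matrix, as a unit -/
def sqdom6ab_unit {d : ℕ} (τ : F →+* F) (G₀ : Matrix (Fin d) (Fin d) F) (R : Matrix (Fin d) (Fin k) F)
    (C : Matrix (Fin k) (Fin k) F) : GL ((Fin k ⊕ Fin k) ⊕ Fin d) F :=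
  ⟨hsM τ G₀ R C, hsM τ G₀ (-R) (-C + tadj τ R * G₀ * R),
    by
      rw [hsM_mul, add_neg_cancel]
      have : C + (-C + tadj τ R * G₀ * R) + tadj τ R * G₀ * -R = 0 := by
        rw [Matrix.mul_neg]; abel
      rw [this, hsM_zero],
    by
      rw [hsM_mul, neg_add_cancel]
      have : -C + tadj τ R * G₀ * R + C + tadj τ (-R) * G₀ * R = 0 := by
        rw [sqdom6ab_tadj_neg, Matrix.neg_mul, Matrix.neg_mul]; abel
      rw [this, hsM_zero]⟩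

theorem sqdom6ab_unit_coe {d : ℕ} (τ : F →+* F) (G₀ : Matrix (Fin d) (Fin d) F)
    (R : Matrix (Fin d) (Fin k) F) (C : Matrix (Fin k) (Fin k) F) :
    ((sqdom6ab_unit τ G₀ R C : GL ((Fin k ⊕ Fin k) ⊕ Fin d) F) :
      Matrix ((Fin k ⊕ Fin k) ⊕ Fin d) ((Fin k ⊕ Fin k) ⊕ Fin d) F) = hsM τ G₀ R C := rfl

/-- OM6a [E-M]. -/
theorem exists_hs_unit {d : ℕ} (τ : F →+* F) (G₀ : Matrix (Fin d) (Fin d) F) (R : Matrix (Fin d) (Fin k) F)
    (C : Matrix (Fin k) (Fin k) F) :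
    ∃ w : GL ((Fin k ⊕ Fin k) ⊕ Fin d) F,
      (w : Matrix ((Fin k ⊕ Fin k) ⊕ Fin d) ((Fin k ⊕ Fin k) ⊕ Fin d) F) = hsM τ G₀ R C :=
  ⟨sqdom6ab_unit τ G₀ R C, rfl⟩

/-- OM6b [E-M]. -/
theorem hsM_zero_left {d : ℕ} (τ : F →+* F) (G₀ : Matrix (Fin d) (Fin d) F) (S : Matrix (Fin k) (Fin k) F) :
    ((embGL d (siegHom (Multiplicative.ofAdd S)) : GL ((Fin k ⊕ Fin k) ⊕ Fin d) F) :
      Matrix ((Fin k ⊕ Fin k) ⊕ Fin d) ((Fin k ⊕ Fin k) ⊕ Fin d) F) = hsM τ G₀ 0 S := by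
  rw [embGL_coe, siegHom_coe]
  unfold hsM
  rw [sqdom6ab_tadj_zero, Matrix.zero_mul]
  congr 1
  · ext i j
    rcases i with i | i
    · rw [Matrix.fromRows_apply_inl]; rfl
    · rw [Matrix.fromRows_apply_inr]; rfl
  · ext i j
    rcases j with j | j
    · rw [Matrix.fromCols_apply_inl]; rfl
    · rw [Matrix.fromCols_apply_inr]; rfl

end OM

end Cfsg.Agent.Lib.helper14.SQD
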