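import Mathlib
import Cfsg.Prelude.Def_LieTypeChar
import Cfsg.Agent.Lib.helper14.SQD.Defs
import Cfsg.Agent.Lib.helper14.SQD.DefsU
import Cfsg.Agent.Lib.Helper24.SQD.DefsO
import Cfsg.Agent.Lib.Helper29.SQDH1
import Cfsg.Agent.Lib.Helper22.SQDH2
import Cfsg.Agent.Lib.Helper21.SQDH6
import Cfsg.Agent.Lib.Helper28.SQDOM6AB

/-!
Project SQD, rows OM4 OM5 OM6: cores on the statements of OA1 OA2 OA5 OM2 (helper28).
-/

set_option autoImplicit false

namespace Cfsg.Agent.Lib.helper14.SQD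

open Cfsg Cfsg.Lie Matrix

universe u v

section OM
variable {k : ℕ} {F : Type u} [Field F] (a b : F)

/-- own copy of OM1b. -/
theorem sqdom4_omN_quad (z : Fin 2 → F) : z ⬝ᵥ (omN a b *ᵥ z) = omQ0 a b z := by
  simp [omN, omQ0, dotProduct, Matrix.mulVec, Fin.sum_univ_two]
  ring

/-- `y ⬝ᵥ (Rᵀ * N * R) *ᵥ y = (R *ᵥ y) ⬝ᵥ N *ᵥ (R *ᵥ y)` -/
theorem sqdom4_quad_conj {m : ℕ} (R : Matrix (Fin m) (Fin k) F) (N : Matrix (Fin m) (Fin m) F)
    (y : Fin k → F) : y ⬝ᵥ ((Rᵀ * N * R) *ᵥ y) = (R *ᵥ y) ⬝ᵥ (N *ᵥ (R *ᵥ y)) := by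
  rw [← Matrix.mulVec_mulVec, ← Matrix.mulVec_mulVec, Matrix.dotProduct_mulVec,
    Matrix.vecMul_transpose]

/-- = OM4a (`omC_std`). -/
theorem sqdom4_std (R : Matrix (Fin 2) (Fin k) F) : omC a b R (Rᵀ * omN a b * R) := by
  intro y
  rw [sqdom4_quad_conj, sqdom4_omN_quad]

/-- core of OM4b: `S` with vanishing quadratic form may be added. -/
theorem sqdom4_add_core (R : Matrix (Fin 2) (Fin k) F) (C S : Matrix (Fin k) (Fin k) F)
    (h : omC a b R C) (hS0 : ∀ y : Fin k → F, y ⬝ᵥ (S *ᵥ y) = 0) : omC a b R (C + S) := by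
  intro y
  rw [Matrix.add_mulVec, dotProduct_add, h y, hS0 y, add_zero]

/-- core of OM4c: the difference of two admissible `C` has vanishing quadratic form. -/
theorem sqdom4_sub_core (R : Matrix (Fin 2) (Fin k) F) (C C' : Matrix (Fin k) (Fin k) F)
    (h : omC a b R C) (h' : omC a b R C') : ∀ y : Fin k → F, y ⬝ᵥ ((C - C') *ᵥ y) = 0 := by
  intro y
  rw [Matrix.sub_mulVec, dotProduct_sub, h y, h' y, sub_self]

/-- core of OM5, from OA1 (as a hypothesis on all alternating `S`) and OA5. -/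
theorem sqdom5_core [Fintype F]
    (hOA1 : ∀ S ∈ altAdd k F, ∀ y : Fin k → F, y ⬝ᵥ (S *ᵥ y) = 0)
    (hOA5 : Fintype.card F ^ (k * (k - 1) / 2) ≤ Nat.card (altAdd k F)) :
    Fintype.card F ^ (2 * k) * Fintype.card F ^ (k * (k - 1) / 2) ≤
      Nat.card {p : Matrix (Fin 2) (Fin k) F × Matrix (Fin k) (Fin k) F // omC a b p.1 p.2} := by
  classical
  let f : Matrix (Fin 2) (Fin k) F × altAdd k F →
      {p : Matrix (Fin 2) (Fin k) F × Matrix (Fin k) (Fin k) F // omC a b p.1 p.2} :=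
    fun p => ⟨(p.1, p.1ᵀ * omN a b * p.1 + (p.2 : Matrix (Fin k) (Fin k) F)),
      sqdom4_add_core a b p.1 _ _ (sqdom4_std a b p.1) (hOA1 _ p.2.2)⟩
  have hf : Function.Injective f := by
    rintro ⟨R, S⟩ ⟨R', S'⟩ h
    have h1 := congrArg (fun q => q.1.1) h
    have h2 := congrArg (fun q => q.1.2) h
    simp only [f] at h1 h2
    subst h1
    have h3 : (S : Matrix (Fin k) (Fin k) F) = S' := add_left_cancel h2
    rw [Subtype.ext h3]
  have hcard := Nat.card_le_card_of_injective f hf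
  have hdom : Nat.card (Matrix (Fin 2) (Fin k) F × altAdd k F) =
      Fintype.card F ^ (2 * k) * Nat.card (altAdd k F) := by
    have hM : Nat.card (Matrix (Fin 2) (Fin k) F) = Fintype.card F ^ (2 * k) := by
      show Nat.card (Fin 2 → Fin k → F) = _
      rw [Nat.card_fun, Nat.card_fun, Nat.card_eq_fintype_card (α := F),
        Nat.card_eq_fintype_card (α := Fin 2), Nat.card_eq_fintype_card (α := Fin k),
        Fintype.card_fin, Fintype.card_fin, ← pow_mul, mul_comm]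
    rw [Nat.card_prod, hM]
  calc Fintype.card F ^ (2 * k) * Fintype.card F ^ (k * (k - 1) / 2)
      ≤ Fintype.card F ^ (2 * k) * Nat.card (altAdd k F) := Nat.mul_le_mul_left _ hOA5
    _ = Nat.card (Matrix (Fin 2) (Fin k) F × altAdd k F) := hdom.symm
    _ ≤ _ := hcard

/-- the two rows of `R` -/
def sqdom6_row (i₀ : Fin 2) (R : Matrix (Fin 2) (Fin k) F) : Matrix (Fin 2) (Fin k) F :=
  Matrix.of fun i j => if i = i₀ then R i j else 0

theorem sqdom6_split (R : Matrix (Fin 2) (Fin k) F) :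
    tadj (RingHom.id F) R * omG0 a * R =
      tadj (RingHom.id F) (sqdom6_row 0 R) * omG0 a * sqdom6_row 1 R +
        tadj (RingHom.id F) (sqdom6_row 1 R) * omG0 a * sqdom6_row 0 R := by
  ext i j
  simp [tadj, sqdom6_row, omG0, Matrix.mul_apply, Fin.sum_univ_two]
  ring

/-- core of OM6, from the statement of OM2 (`omC_props`). -/
theorem sqdom6_core [CharP F 2]
    (hOM2 : omC (k := k) a b 0 0 ∧
      (∀ R C R' C', omC (k := k) a b R C → omC a b R' C' →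
        omC a b (R + R') (C + C' + tadj (RingHom.id F) R * omG0 a * R')) ∧
      ∀ R C, omC (k := k) a b R C → omC a b (-R) (-C + tadj (RingHom.id F) R * omG0 a * R))
    (w : GL ((Fin k ⊕ Fin k) ⊕ Fin 2) F)
    (hw : w ∈ hsGrp (RingHom.id F) (omG0 a) (omC (k := k) a b)) :
    w ^ 2 ∈ ⁅hsGrp (RingHom.id F) (omG0 a) (omC (k := k) a b),
      hsGrp (RingHom.id F) (omG0 a) (omC (k := k) a b)⁆ := by
  obtain ⟨h0, hmul, hinv⟩ := hOM2
  obtain ⟨R, C, -, hwm⟩ := (mem_hsGrp (RingHom.id F) (omG0 a) (omC (k := k) a b) h0 hmul hinv w).mp hw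
  set R₀ := sqdom6_row 0 R with hR₀
  set R₁ := sqdom6_row 1 R with hR₁
  set w₀ := sqdom6ab_unit (RingHom.id F) (omG0 a) R₀ (R₀ᵀ * omN a b * R₀) with hw₀
  set w₁ := sqdom6ab_unit (RingHom.id F) (omG0 a) R₁ (R₁ᵀ * omN a b * R₁) with hw₁
  have hm₀ : w₀ ∈ hsGrp (RingHom.id F) (omG0 a) (omC (k := k) a b) :=
    Subgroup.subset_closure ⟨R₀, _, sqdom4_std a b R₀, rfl⟩
  have hm₁ : w₁ ∈ hsGrp (RingHom.id F) (omG0 a) (omC (k := k) a b) :=
    Subgroup.subset_closure ⟨R₁, _, sqdom4_std a b R₁, rfl⟩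
  have hcomm := hs_comm (RingHom.id F) (omG0 a) R₀ R₁ (R₀ᵀ * omN a b * R₀) (R₁ᵀ * omN a b * R₁)
    w₀ w₁ rfl rfl
  have hsq : ((w ^ 2 : GL ((Fin k ⊕ Fin k) ⊕ Fin 2) F) :
      Matrix ((Fin k ⊕ Fin k) ⊕ Fin 2) ((Fin k ⊕ Fin k) ⊕ Fin 2) F) =
      hsM (RingHom.id F) (omG0 a) 0 (tadj (RingHom.id F) R * omG0 a * R) := by
    rw [pow_two, Units.val_mul, hwm, hs_sq]
  have heq : w ^ 2 = w₀ * w₁ * w₀⁻¹ * w₁⁻¹ := by
    apply Units.ext
    rw [hsq, hcomm, sqdom6_split]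
  rw [heq, ← commutatorElement_def]
  exact Subgroup.commutator_mem_commutator hm₀ hm₁

end OM

end Cfsg.Agent.Lib.helper14.SQD
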