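import Mathlib
import Cfsg.Prelude.Def_LieTypeChar
import Cfsg.Agent.Lib.helper14.SQD.Defs
import Cfsg.Agent.Lib.helper14.SQD.DefsU
import Cfsg.Agent.Lib.Helper24.SQD.DefsO
import Cfsg.Agent.Lib.Helper20.SQDOA1
import Cfsg.Agent.Lib.Helper21.SQDOA5
import Cfsg.Agent.Lib.Helper13.SQDOM2
import Cfsg.Agent.Lib.Helper28.SQDOMcore

/-!
Project SQD, rows OM4 (`omC_std omC_add_alt omC_sub_alt`), OM5 (`card_omC_ge`), OM6 (`omH_sq`), verbatim (helper28).
-/

set_option autoImplicit false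

namespace Cfsg.Agent.Lib.helper14.SQD

open Cfsg Cfsg.Lie Matrix

universe u v

section OM
variable {k : ℕ} {F : Type u} [Field F] (a b : F)

/-- OM4a [E]. -/
theorem omC_std (R : Matrix (Fin 2) (Fin k) F) : omC a b R (Rᵀ * omN a b * R) :=
  sqdom4_std a b R

/-- OM4b [E]. -/
theorem omC_add_alt [CharP F 2] (R : Matrix (Fin 2) (Fin k) F) (C S : Matrix (Fin k) (Fin k) F)
    (h : omC a b R C) (hS : S ∈ altAdd k F) : omC a b R (C + S) :=
  sqdom4_add_core a b R C S h (alt_quad_zero S hS)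

/-- OM4c [E]. -/
theorem omC_sub_alt [CharP F 2] (R : Matrix (Fin 2) (Fin k) F) (C C' : Matrix (Fin k) (Fin k) F)
    (h : omC a b R C) (h' : omC a b R C') : C - C' ∈ altAdd k F :=
  alt_of_quad_zero (C - C') (sqdom4_sub_core a b R C C' h h')

/-- OM5 [M]. -/
theorem card_omC_ge [Fintype F] [CharP F 2] :
    Fintype.card F ^ (2 * k) * Fintype.card F ^ (k * (k - 1) / 2) ≤
      Nat.card {p : Matrix (Fin 2) (Fin k) F × Matrix (Fin k) (Fin k) F // omC a b p.1 p.2} :=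
  sqdom5_core a b (fun S hS y => alt_quad_zero S hS y) (card_alt_ge k)

/-- OM6 [M]. -/
theorem omH_sq [CharP F 2] (w : GL ((Fin k ⊕ Fin k) ⊕ Fin 2) F)
    (hw : w ∈ hsGrp (RingHom.id F) (omG0 a) (omC (k := k) a b)) :
    w ^ 2 ∈ ⁅hsGrp (RingHom.id F) (omG0 a) (omC (k := k) a b),
      hsGrp (RingHom.id F) (omG0 a) (omC (k := k) a b)⁆ :=
  sqdom6_core a b (omC_props a b) w hw

end OM

end Cfsg.Agent.Lib.helper14.SQD
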