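import Cfsg.Agent.Lib.Helper28.UGen

set_option autoImplicit false

open Cfsg

namespace Cfsg.Agent.Lib.Helper28.SubF

open Matrix Cfsg.Agent.Lib.Helper28.UForm Cfsg.Agent.Lib.Helper28.UGen

variable {n : ℕ} {F : Type*} [Field F] {σ : F ≃+* F} {f : (Fin n → F) → (Fin n → F) → F}
  {F₀ : Subfield F} {ζ : F} {P : Matrix.GeneralLinearGroup (Fin n) F}

structure Ctx (σ : F ≃+* F) (f : (Fin n → F) → (Fin n → F) → F) (F₀ : Subfield F) (ζ : F)
    (P : Matrix.GeneralLinearGroup (Fin n) F) : Prop where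
  hf : Cfsg.Geo.IsUnitaryForm σ f
  fix : ∀ x, x ∈ F₀ ↔ σ x = x
  z0 : ζ ≠ 0
  zs : σ ζ = -ζ
  rat : Cfsg.Geo.IsFormRationalStructure f F₀ ζ P
  alt : ∀ u : Fin n → F, (∀ i, u i ∈ F₀) →
    f ((P : Matrix (Fin n) (Fin n) F) *ᵥ u) ((P : Matrix (Fin n) (Fin n) F) *ᵥ u) = 0

def V0 (F₀ : Subfield F) (P : Matrix.GeneralLinearGroup (Fin n) F) : Set (Fin n → F) :=
  {v | ∀ i, (((P⁻¹ : Matrix.GeneralLinearGroup (Fin n) F) : Matrix (Fin n) (Fin n) F) *ᵥ v) i ∈ F₀}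

theorem V0_P (u : Fin n → F) (hu : ∀ i, u i ∈ F₀) :
    (P : Matrix (Fin n) (Fin n) F) *ᵥ u ∈ V0 F₀ P := by
  intro i
  rw [Cfsg.Agent.S5643.inv_mv]
  exact hu i

theorem V0_exists {v : Fin n → F} (hv : v ∈ V0 F₀ P) :
    ∃ u : Fin n → F, (∀ i, u i ∈ F₀) ∧ v = (P : Matrix (Fin n) (Fin n) F) *ᵥ u :=
  ⟨_, hv, (Cfsg.Agent.S5643.inv_mv' P v).symm⟩

theorem V0_zero : (0 : Fin n → F) ∈ V0 F₀ P := by
  intro i
  rw [Matrix.mulVec_zero]
  exact F₀.zero_mem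

theorem V0_add {x y : Fin n → F} (hx : x ∈ V0 F₀ P) (hy : y ∈ V0 F₀ P) : x + y ∈ V0 F₀ P := by
  intro i
  rw [Matrix.mulVec_add]
  exact F₀.add_mem (hx i) (hy i)

theorem V0_neg {x : Fin n → F} (hx : x ∈ V0 F₀ P) : -x ∈ V0 F₀ P := by
  intro i
  rw [Matrix.mulVec_neg]
  exact F₀.neg_mem (hx i)

theorem V0_sub {x y : Fin n → F} (hx : x ∈ V0 F₀ P) (hy : y ∈ V0 F₀ P) : x - y ∈ V0 F₀ P := by
  rw [sub_eq_add_neg]
  exact V0_add hx (V0_neg hy)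

theorem V0_smul {a : F} (ha : a ∈ F₀) {x : Fin n → F} (hx : x ∈ V0 F₀ P) :
    a • x ∈ V0 F₀ P := by
  intro i
  rw [Matrix.mulVec_smul]
  exact F₀.mul_mem ha (hx i)

theorem rat_mem (C : Ctx σ f F₀ ζ P) {x y : Fin n → F} (hx : x ∈ V0 F₀ P) (hy : y ∈ V0 F₀ P) :
    ζ * f x y ∈ F₀ := by
  obtain ⟨u, hu, rfl⟩ := V0_exists hx
  obtain ⟨v, hv, rfl⟩ := V0_exists hy
  exact C.rat u v hu hv

theorem alt_self (C : Ctx σ f F₀ ζ P) {x : Fin n → F} (hx : x ∈ V0 F₀ P) : f x x = 0 := by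
  obtain ⟨u, hu, rfl⟩ := V0_exists hx
  exact C.alt u hu

theorem skew (C : Ctx σ f F₀ ζ P) {x y : Fin n → F} (hx : x ∈ V0 F₀ P) (hy : y ∈ V0 F₀ P) :
    f y x = - f x y := by
  have h := alt_self C (V0_add hx hy)
  rw [C.hf.add_left, f_add_right C.hf, f_add_right C.hf, alt_self C hx, alt_self C hy] at h
  linear_combination h

theorem sig_f (C : Ctx σ f F₀ ζ P) {x y : Fin n → F} (hx : x ∈ V0 F₀ P) (hy : y ∈ V0 F₀ P) :
    σ (f x y) = - f x y := by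
  rw [← C.hf.herm, skew C hx hy]

theorem ratio_mem (C : Ctx σ f F₀ ζ P) {x y x' y' : Fin n → F} (hx : x ∈ V0 F₀ P)
    (hy : y ∈ V0 F₀ P) (hx' : x' ∈ V0 F₀ P) (hy' : y' ∈ V0 F₀ P) :
    f x y / f x' y' ∈ F₀ := by
  rw [C.fix, map_div₀, sig_f C hx hy, sig_f C hx' hy', neg_div_neg_eq]

theorem sdec (C : Ctx σ f F₀ ζ P) {θ : F} (hθ : σ θ ≠ θ) (x : F) :
    ∃ a b : F, a ∈ F₀ ∧ b ∈ F₀ ∧ x = a + θ * b := by
  have h1 : θ - σ θ ≠ 0 := fun h => hθ (sub_eq_zero.1 h).symm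
  have hb : σ ((x - σ x) / (θ - σ θ)) = (x - σ x) / (θ - σ θ) := by
    rw [map_div₀, map_sub, map_sub, C.hf.involutive, C.hf.involutive]
    have h2 : σ θ - θ ≠ 0 := fun h => hθ (sub_eq_zero.1 h)
    field_simp
    ring
  refine ⟨x - θ * ((x - σ x) / (θ - σ θ)), (x - σ x) / (θ - σ θ), ?_, (C.fix _).2 hb, by ring⟩
  rw [C.fix, map_sub, map_mul, hb]
  field_simp
  ring

theorem suniq (C : Ctx σ f F₀ ζ P) {θ : F} (hθ : σ θ ≠ θ) {a b : F} (ha : a ∈ F₀)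
    (hb : b ∈ F₀) (h : a + θ * b = 0) : a = 0 ∧ b = 0 := by
  have hb0 : b = 0 := by
    by_contra hb0
    apply hθ
    have : θ = -a / b := by
      field_simp
      linear_combination h
    rw [← C.fix, this]
    exact F₀.div_mem (F₀.neg_mem ha) hb
  rw [hb0, mul_zero, add_zero] at h
  exact ⟨h, hb0⟩

theorem vdec (C : Ctx σ f F₀ ζ P) {θ : F} (hθ : σ θ ≠ θ) (z : Fin n → F) :
    ∃ v₁ v₂ : Fin n → F, v₁ ∈ V0 F₀ P ∧ v₂ ∈ V0 F₀ P ∧ z = v₁ + θ • v₂ := by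
  have h := fun i => sdec C hθ
    ((((P⁻¹ : Matrix.GeneralLinearGroup (Fin n) F) : Matrix (Fin n) (Fin n) F) *ᵥ z) i)
  choose a b ha hb hab using h
  refine ⟨(P : Matrix (Fin n) (Fin n) F) *ᵥ a, (P : Matrix (Fin n) (Fin n) F) *ᵥ b,
    V0_P a ha, V0_P b hb, ?_⟩
  rw [← Matrix.mulVec_smul, ← Matrix.mulVec_add]
  have : a + θ • b = ((P⁻¹ : Matrix.GeneralLinearGroup (Fin n) F) :
      Matrix (Fin n) (Fin n) F) *ᵥ z := by
    funext i
    rw [hab i]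
    rfl
  rw [this, Cfsg.Agent.S5643.inv_mv']

theorem vuniq (C : Ctx σ f F₀ ζ P) {θ : F} (hθ : σ θ ≠ θ) {v₁ v₂ : Fin n → F}
    (h1 : v₁ ∈ V0 F₀ P) (h2 : v₂ ∈ V0 F₀ P) (h : v₁ + θ • v₂ = 0) : v₁ = 0 ∧ v₂ = 0 := by
  have h' := congrArg (fun t => ((P⁻¹ : Matrix.GeneralLinearGroup (Fin n) F) :
      Matrix (Fin n) (Fin n) F) *ᵥ t) h
  simp only [Matrix.mulVec_add, Matrix.mulVec_smul, Matrix.mulVec_zero] at h'
  have h3 : ∀ i, (((P⁻¹ : Matrix.GeneralLinearGroup (Fin n) F) :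
      Matrix (Fin n) (Fin n) F) *ᵥ v₁) i = 0 ∧ (((P⁻¹ : Matrix.GeneralLinearGroup (Fin n) F) :
      Matrix (Fin n) (Fin n) F) *ᵥ v₂) i = 0 := by
    intro i
    apply suniq C hθ (h1 i) (h2 i)
    have := congrFun h' i
    simpa using this
  constructor
  · rw [← Cfsg.Agent.S5643.inv_mv' P v₁]
    have : ((P⁻¹ : Matrix.GeneralLinearGroup (Fin n) F) :
      Matrix (Fin n) (Fin n) F) *ᵥ v₁ = 0 := funext fun i => (h3 i).1
    rw [this, Matrix.mulVec_zero]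
  · rw [← Cfsg.Agent.S5643.inv_mv' P v₂]
    have : ((P⁻¹ : Matrix.GeneralLinearGroup (Fin n) F) :
      Matrix (Fin n) (Fin n) F) *ᵥ v₂ = 0 := funext fun i => (h3 i).2
    rw [this, Matrix.mulVec_zero]

theorem vuniq' (C : Ctx σ f F₀ ζ P) {θ : F} (hθ : σ θ ≠ θ) {v₁ v₂ w₁ w₂ : Fin n → F}
    (h1 : v₁ ∈ V0 F₀ P) (h2 : v₂ ∈ V0 F₀ P) (h3 : w₁ ∈ V0 F₀ P) (h4 : w₂ ∈ V0 F₀ P)
    (h : v₁ + θ • v₂ = w₁ + θ • w₂) : v₁ = w₁ ∧ v₂ = w₂ := by
  have := vuniq C hθ (V0_sub h1 h3) (V0_sub h2 h4) (by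
    rw [smul_sub]
    linear_combination (exp := 1) h)
  exact ⟨sub_eq_zero.1 this.1, sub_eq_zero.1 this.2⟩

theorem scalars_normal : (Cfsg.Geo.scalars (Fin n) F).Normal := by
  constructor
  intro s hs g
  rw [Cfsg.Geo.mem_scalars_iff] at hs ⊢
  obtain ⟨c, hc⟩ := hs
  refine ⟨c, ?_⟩
  have : ((g * s * g⁻¹ : Matrix.GeneralLinearGroup (Fin n) F) : Matrix (Fin n) (Fin n) F) =
      (g : Matrix (Fin n) (Fin n) F) * (s : Matrix (Fin n) (Fin n) F) *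
        ((g⁻¹ : Matrix.GeneralLinearGroup (Fin n) F) : Matrix (Fin n) (Fin n) F) := by
    rw [Units.val_mul, Units.val_mul]
  rw [this, hc, Matrix.mul_smul, Matrix.mul_one, Matrix.smul_mul, ← Units.val_mul,
    mul_inv_cancel, Units.val_one]

theorem maps_of_mem_sub {g : Matrix.GeneralLinearGroup (Fin n) F}
    (hg : g ∈ Cfsg.Geo.subfieldSubgroup F₀ P) :
    ∃ c : F, c ≠ 0 ∧ ∀ v ∈ V0 F₀ P, c⁻¹ • ((g : Matrix (Fin n) (Fin n) F) *ᵥ v) ∈ V0 F₀ P := by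
  unfold Cfsg.Geo.subfieldSubgroup at hg
  rw [Subgroup.mem_map] at hg
  obtain ⟨x, hx, rfl⟩ := hg
  have := scalars_normal (n := n) (F := F)
  rw [Subgroup.mem_sup_of_normal_right] at hx
  obtain ⟨A, ⟨A₀, rfl⟩, s, hs, rfl⟩ := hx
  rw [Cfsg.Geo.mem_scalars_iff] at hs
  obtain ⟨c, hc⟩ := hs
  refine ⟨(c : F), c.ne_zero, fun v hv => ?_⟩
  intro i
  have e1 : (((MulAut.conj P).toMonoidHom
      (Matrix.GeneralLinearGroup.map F₀.subtype A₀ * s) : Matrix.GeneralLinearGroup (Fin n) F) :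
      Matrix (Fin n) (Fin n) F) =
      (P : Matrix (Fin n) (Fin n) F) *
        ((Matrix.GeneralLinearGroup.map F₀.subtype A₀ : Matrix.GeneralLinearGroup (Fin n) F) :
          Matrix (Fin n) (Fin n) F) * (s : Matrix (Fin n) (Fin n) F) *
        ((P⁻¹ : Matrix.GeneralLinearGroup (Fin n) F) : Matrix (Fin n) (Fin n) F) := by
    show ((P * (Matrix.GeneralLinearGroup.map F₀.subtype A₀ * s) * P⁻¹ :
      Matrix.GeneralLinearGroup (Fin n) F) : Matrix (Fin n) (Fin n) F) = _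
    rw [Units.val_mul, Units.val_mul, Units.val_mul]
    simp only [Matrix.mul_assoc]
  rw [e1, hc, Matrix.mul_smul, Matrix.mul_one, Matrix.smul_mul, Matrix.smul_mulVec, smul_smul,
    inv_mul_cancel₀ c.ne_zero, one_smul, ← Matrix.mulVec_mulVec, ← Matrix.mulVec_mulVec,
    Cfsg.Agent.S5643.inv_mv]
  simp only [Matrix.mulVec, dotProduct]
  apply F₀.sum_mem
  intro j _
  apply F₀.mul_mem
  · rw [Matrix.GeneralLinearGroup.map_apply]
    exact (A₀ i j).2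
  · exact hv j

theorem mem_sub_of_maps {g : Matrix.GeneralLinearGroup (Fin n) F} {c : F} (hc : c ≠ 0)
    (h : ∀ v ∈ V0 F₀ P, c⁻¹ • ((g : Matrix (Fin n) (Fin n) F) *ᵥ v) ∈ V0 F₀ P) :
    g ∈ Cfsg.Geo.subfieldSubgroup F₀ P := by
  classical
  set B : Matrix (Fin n) (Fin n) F := c⁻¹ • (((P⁻¹ : Matrix.GeneralLinearGroup (Fin n) F) :
    Matrix (Fin n) (Fin n) F) * (g : Matrix (Fin n) (Fin n) F) * (P : Matrix (Fin n) (Fin n) F))
    with hB
  have hBmem : ∀ i j, B i j ∈ F₀ := by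
    intro i j
    have h1 := h ((P : Matrix (Fin n) (Fin n) F) *ᵥ (Pi.single j 1))
      (V0_P _ (fun k => by
        by_cases hk : k = j
        · subst hk
          rw [Pi.single_eq_same]
          exact F₀.one_mem
        · rw [Pi.single_eq_of_ne hk]
          exact F₀.zero_mem)) i
    rw [Matrix.mulVec_smul, Matrix.mulVec_mulVec, Matrix.mulVec_mulVec, ← Matrix.smul_mulVec,
      Matrix.mulVec_single_one] at h1
    rw [hB]
    exact h1
  let B₀ : Matrix (Fin n) (Fin n) F₀ := fun i j => ⟨B i j, hBmem i j⟩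
  have hB₀ : B₀.map F₀.subtype = B := by
    ext i j
    rfl
  have hdetB : B.det ≠ 0 := by
    rw [hB, Matrix.det_smul, Matrix.det_mul, Matrix.det_mul]
    have h1 : ((P⁻¹ : Matrix.GeneralLinearGroup (Fin n) F) : Matrix (Fin n) (Fin n) F).det ≠ 0 :=
      (Matrix.GeneralLinearGroup.det P⁻¹).ne_zero
    have h2 : (g : Matrix (Fin n) (Fin n) F).det ≠ 0 := (Matrix.GeneralLinearGroup.det g).ne_zero
    have h3 : (P : Matrix (Fin n) (Fin n) F).det ≠ 0 := (Matrix.GeneralLinearGroup.det P).ne_zero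
    exact mul_ne_zero (pow_ne_zero _ (inv_ne_zero hc)) (mul_ne_zero (mul_ne_zero h1 h2) h3)
  have hdetB₀ : B₀.det ≠ 0 := by
    intro h0
    apply hdetB
    rw [← hB₀, ← RingHom.mapMatrix_apply, ← RingHom.map_det, h0, map_zero]
  let A₀ : Matrix.GeneralLinearGroup (Fin n) F₀ := Matrix.GeneralLinearGroup.mkOfDetNeZero B₀ hdetB₀
  let s : Matrix.GeneralLinearGroup (Fin n) F :=
    Units.map (Matrix.scalar (Fin n) : F →+* Matrix (Fin n) (Fin n) F).toMonoidHom (Units.mk0 c hc)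
  have hs : s ∈ Cfsg.Geo.scalars (Fin n) F := ⟨_, rfl⟩
  have hsv : (s : Matrix (Fin n) (Fin n) F) = c • (1 : Matrix (Fin n) (Fin n) F) := by
    show Matrix.scalar (Fin n) c = _
    simp [Matrix.smul_one_eq_diagonal]
  unfold Cfsg.Geo.subfieldSubgroup
  rw [Subgroup.mem_map]
  refine ⟨Matrix.GeneralLinearGroup.map F₀.subtype A₀ * s,
    Subgroup.mul_mem_sup ⟨A₀, rfl⟩ hs, ?_⟩
  apply Units.ext
  show ((P * (Matrix.GeneralLinearGroup.map F₀.subtype A₀ * s) * P⁻¹ :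
      Matrix.GeneralLinearGroup (Fin n) F) : Matrix (Fin n) (Fin n) F) = _
  rw [Units.val_mul, Units.val_mul, Units.val_mul, hsv]
  have hA : ((Matrix.GeneralLinearGroup.map F₀.subtype A₀ : Matrix.GeneralLinearGroup (Fin n) F) :
      Matrix (Fin n) (Fin n) F) = B := by
    rw [← hB₀]
    rfl
  rw [hA, hB, Matrix.mul_smul, Matrix.mul_one, smul_smul, mul_inv_cancel₀ hc, one_smul]
  rw [Matrix.mul_assoc, Matrix.mul_assoc, ← Units.val_mul P P⁻¹, mul_inv_cancel, Units.val_one,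
    Matrix.mul_one, ← Matrix.mul_assoc, ← Units.val_mul P P⁻¹, mul_inv_cancel, Units.val_one,
    Matrix.one_mul]

theorem tv_maps (C : Ctx σ f F₀ ζ P) {v : Fin n → F} (hv : v ∈ V0 F₀ P) {c : F} (hc : σ c = -c)
    {x : Fin n → F} (hx : x ∈ V0 F₀ P) : x + f x (c • v) • v ∈ V0 F₀ P := by
  apply V0_add hx
  apply V0_smul _ hv
  rw [C.fix, f_smul_right C.hf, map_mul, C.hf.involutive, hc, sig_f C hx hv]
  ring

theorem tv_mem (C : Ctx σ f F₀ ζ P) {v : Fin n → F} (hv : v ∈ V0 F₀ P) {c : F} (hc : σ c = -c)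
    {g : Matrix.GeneralLinearGroup (Fin n) F}
    (hg : ∀ x, (g : Matrix (Fin n) (Fin n) F) *ᵥ x = x + f x (c • v) • v) :
    g ∈ Cfsg.Geo.subfieldSubgroup F₀ P := by
  apply mem_sub_of_maps (c := 1) one_ne_zero
  intro x hx
  rw [inv_one, one_smul, hg]
  exact tv_maps C hv hc hx

def TV0 (f : (Fin n → F) → (Fin n → F) → F) (σ : F ≃+* F) (F₀ : Subfield F)
    (P : Matrix.GeneralLinearGroup (Fin n) F) : Set (Matrix.GeneralLinearGroup (Fin n) F) :=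
  {g | ∃ v ∈ V0 F₀ P, ∃ c : F, σ c = -c ∧
    ∀ x, (g : Matrix (Fin n) (Fin n) F) *ᵥ x = x + f x (c • v) • v}

def H0 (f : (Fin n → F) → (Fin n → F) → F) (σ : F ≃+* F) (F₀ : Subfield F)
    (P : Matrix.GeneralLinearGroup (Fin n) F) : Subgroup (Matrix.GeneralLinearGroup (Fin n) F) :=
  Subgroup.closure (TV0 f σ F₀ P)

theorem TV0_GA (C : Ctx σ f F₀ ζ P) {g : Matrix.GeneralLinearGroup (Fin n) F}
    (hg : g ∈ UT f σ) : g ∈ GA f (e0 : Fin 0 → (Fin n → F)) := by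
  have h : g ∈ Ra f σ (e0 : Fin 0 → (Fin n → F)) := by
    obtain ⟨y, c, hy, hc, hg⟩ := hg
    exact Subgroup.subset_closure ⟨y, c, hy, hc, perp_e0 y, hg⟩
  exact Ra_le_GA C.hf e0 h

theorem H0_le_sub (C : Ctx σ f F₀ ζ P) : H0 f σ F₀ P ≤ Cfsg.Geo.subfieldSubgroup F₀ P := by
  unfold H0
  rw [Subgroup.closure_le]
  rintro g ⟨v, hv, c, hc, hg⟩
  exact tv_mem C hv hc hg

theorem H0_le_GA (C : Ctx σ f F₀ ζ P) : H0 f σ F₀ P ≤ GA f (e0 : Fin 0 → (Fin n → F)) := by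
  unfold H0
  rw [Subgroup.closure_le]
  rintro g ⟨v, hv, c, hc, hg⟩
  exact TV0_GA C ⟨v, c, alt_self C hv, hc, hg⟩

theorem mv1 (C : Ctx σ f F₀ ζ P) {m : ℕ} (a : Fin m → (Fin n → F)) {x y : Fin n → F}
    (hx : x ∈ V0 F₀ P) (hy : y ∈ V0 F₀ P) (hxy : f x y ≠ 0) (hxa : ∀ i, f x (a i) = 0)
    (hya : ∀ i, f y (a i) = 0) :
    ∃ g ∈ H0 f σ F₀ P, (∀ v ∈ V0 F₀ P, (g : Matrix (Fin n) (Fin n) F) *ᵥ v ∈ V0 F₀ P) ∧
      (∀ i, (g : Matrix (Fin n) (Fin n) F) *ᵥ a i = a i) ∧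
      (g : Matrix (Fin n) (Fin n) F) *ᵥ x = y := by
  have hw : x - y ∈ V0 F₀ P := V0_sub hx hy
  have hc : σ (-(f x y)⁻¹) = -(-(f x y)⁻¹) := by
    rw [map_neg, map_inv₀, sig_f C hx hy, inv_neg]
  have h0 : f (x - y) ((-(f x y)⁻¹) • (x - y)) = 0 := by
    rw [f_smul_right C.hf, alt_self C hw, mul_zero]
  obtain ⟨g, _, hg⟩ := Cfsg.Agent.S5643.tvGL C.hf (x - y) ((-(f x y)⁻¹) • (x - y)) h0
  refine ⟨g, Subgroup.subset_closure ⟨x - y, hw, _, hc, hg⟩, fun v hv => ?_, fun i => ?_, ?_⟩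
  · rw [hg]
    exact tv_maps C hw hc hv
  · rw [hg, f_smul_right C.hf, f_sub_right C.hf, f_swap_zero C.hf (hxa i),
      f_swap_zero C.hf (hya i), sub_zero, mul_zero, zero_smul, add_zero]
  · rw [hg, f_smul_right C.hf, hc, f_sub_right C.hf, alt_self C hx, zero_sub]
    have : - -(f x y)⁻¹ * -f x y = -1 := by
      field_simp
    rw [this, neg_one_smul]
    abel

theorem ex_w (C : Ctx σ f F₀ ζ P) {m : ℕ} (a : Fin m → (Fin n → F)) (ha : ∀ i, a i ∈ V0 F₀ P)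
    (x : Fin n → F) (hli : LinearIndependent F (Fin.cons x a : Fin (m + 1) → (Fin n → F))) :
    ∃ w ∈ V0 F₀ P, (∀ i, f w (a i) = 0) ∧ f w x ≠ 0 := by
  obtain ⟨θ, hθ⟩ := exists_moved C.hf
  obtain ⟨z, hz⟩ := lin_solve C.hf _ hli (Fin.cons 1 0)
  have hzx : f z x = 1 := by
    have := hz 0
    simpa using this
  have hza : ∀ i, f z (a i) = 0 := by
    intro i
    have := hz i.succ
    simpa using this
  obtain ⟨z₁, z₂, h1, h2, rfl⟩ := vdec C hθ z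
  have hperp : ∀ i, f z₁ (a i) = 0 ∧ f z₂ (a i) = 0 := by
    intro i
    have h3 := hza i
    rw [C.hf.add_left, C.hf.smul_left] at h3
    have h4 := suniq C hθ (rat_mem C h1 (ha i)) (rat_mem C h2 (ha i)) (by
      linear_combination ζ * h3)
    exact ⟨(mul_eq_zero.1 h4.1).resolve_left C.z0, (mul_eq_zero.1 h4.2).resolve_left C.z0⟩
  by_cases h5 : f z₁ x = 0
  · refine ⟨z₂, h2, fun i => (hperp i).2, fun h6 => ?_⟩
    rw [C.hf.add_left, C.hf.smul_left, h5, h6] at hzx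
    simp at hzx
  · exact ⟨z₁, h1, fun i => (hperp i).1, h5⟩

theorem trans (C : Ctx σ f F₀ ζ P) {m : ℕ} (a : Fin m → (Fin n → F)) (ha : ∀ i, a i ∈ V0 F₀ P)
    {x y : Fin n → F} (hx : x ∈ V0 F₀ P) (hy : y ∈ V0 F₀ P) (hxa : ∀ i, f x (a i) = 0)
    (hya : ∀ i, f y (a i) = 0)
    (hlix : LinearIndependent F (Fin.cons x a : Fin (m + 1) → (Fin n → F)))
    (hliy : LinearIndependent F (Fin.cons y a : Fin (m + 1) → (Fin n → F))) :
    ∃ g ∈ H0 f σ F₀ P, (∀ v ∈ V0 F₀ P, (g : Matrix (Fin n) (Fin n) F) *ᵥ v ∈ V0 F₀ P) ∧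
      (∀ i, (g : Matrix (Fin n) (Fin n) F) *ᵥ a i = a i) ∧
      (g : Matrix (Fin n) (Fin n) F) *ᵥ x = y := by
  by_cases hxy : f x y = 0
  · obtain ⟨w₁, hw₁, hw₁a, hw₁x⟩ := ex_w C a ha x hlix
    obtain ⟨w₂, hw₂, hw₂a, hw₂y⟩ := ex_w C a ha y hliy
    obtain ⟨w, hw, hwa, hwx, hwy⟩ : ∃ w ∈ V0 F₀ P, (∀ i, f w (a i) = 0) ∧ f w x ≠ 0 ∧
        f w y ≠ 0 := by
      by_cases c1 : f w₁ y = 0
      · by_cases c2 : f w₂ x = 0
        · refine ⟨w₁ + w₂, V0_add hw₁ hw₂, fun i => ?_, ?_, ?_⟩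
          · rw [C.hf.add_left, hw₁a, hw₂a, add_zero]
          · rw [C.hf.add_left, c2, add_zero]
            exact hw₁x
          · rw [C.hf.add_left, c1, zero_add]
            exact hw₂y
        · exact ⟨w₂, hw₂, hw₂a, c2, hw₂y⟩
      · exact ⟨w₁, hw₁, hw₁a, hw₁x, c1⟩
    obtain ⟨g₁, hg₁, hg₁V, hg₁a, hg₁x⟩ := mv1 C a hx hw (f_swap_ne C.hf hwx) hxa hwa
    obtain ⟨g₂, hg₂, hg₂V, hg₂a, hg₂w⟩ := mv1 C a hw hy hwy hwa hya
    refine ⟨g₂ * g₁, Subgroup.mul_mem _ hg₂ hg₁, fun v hv => ?_, fun i => ?_, ?_⟩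
    · rw [Cfsg.Agent.S5643.mul_mv]
      exact hg₂V _ (hg₁V v hv)
    · rw [Cfsg.Agent.S5643.mul_mv, hg₁a, hg₂a]
    · rw [Cfsg.Agent.S5643.mul_mv, hg₁x, hg₂w]
  · exact mv1 C a hx hy hxy hxa hya

theorem gl_inj (g : Matrix.GeneralLinearGroup (Fin n) F) {x : Fin n → F}
    (h : (g : Matrix (Fin n) (Fin n) F) *ᵥ x = 0) : x = 0 := by
  rw [← Cfsg.Agent.S5643.inv_mv g x, h, Matrix.mulVec_zero]

theorem li_one (v : Fin n → F) (hv : v ≠ 0) :
    LinearIndependent F (Fin.cons v (Fin.elim0 : Fin 0 → (Fin n → F)) : Fin (0 + 1) → (Fin n → F)) := by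
  apply LinearIndependent.finCons linearIndependent_empty_type
  rw [Set.range_eq_empty, Submodule.span_empty, Submodule.mem_bot]
  exact hv

theorem li_swap {x y : Fin n → F} (h : LinearIndependent F ![x, y]) :
    LinearIndependent F ![y, x] := by
  rw [LinearIndependent.pair_iff] at h ⊢
  intro s t hst
  have := h t s (by rw [add_comm]; exact hst)
  exact ⟨this.2, this.1⟩

theorem li_map (g : Matrix.GeneralLinearGroup (Fin n) F) {x y : Fin n → F}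
    (h : LinearIndependent F ![x, y]) :
    LinearIndependent F ![(g : Matrix (Fin n) (Fin n) F) *ᵥ x,
      (g : Matrix (Fin n) (Fin n) F) *ᵥ y] := by
  rw [LinearIndependent.pair_iff] at h ⊢
  intro s t hst
  apply h s t
  apply gl_inj g
  rw [Matrix.mulVec_add, Matrix.mulVec_smul, Matrix.mulVec_smul]
  exact hst

theorem trans_pair (C : Ctx σ f F₀ ζ P) {v₁ v₂ w₁ w₂ : Fin n → F} (hv₁ : v₁ ∈ V0 F₀ P)
    (hv₂ : v₂ ∈ V0 F₀ P) (hw₁ : w₁ ∈ V0 F₀ P) (hw₂ : w₂ ∈ V0 F₀ P) (hv : f v₁ v₂ = 0)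
    (hw : f w₁ w₂ = 0) (hliv : LinearIndependent F ![v₁, v₂])
    (hliw : LinearIndependent F ![w₁, w₂]) :
    ∃ g ∈ H0 f σ F₀ P, (g : Matrix (Fin n) (Fin n) F) *ᵥ v₁ = w₁ ∧
      (g : Matrix (Fin n) (Fin n) F) *ᵥ v₂ = w₂ := by
  obtain ⟨g₁, hg₁, hg₁V, -, hg₁v⟩ := trans C (Fin.elim0 : Fin 0 → (Fin n → F))
    (fun i => Fin.elim0 i) hv₁ hw₁ (fun i => Fin.elim0 i) (fun i => Fin.elim0 i)
    (li_one v₁ (hliv.ne_zero 0)) (li_one w₁ (hliw.ne_zero 0))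
  have hiso := (H0_le_GA C hg₁).1
  have hu : (g₁ : Matrix (Fin n) (Fin n) F) *ᵥ v₂ ∈ V0 F₀ P := hg₁V v₂ hv₂
  have hli1 : LinearIndependent F ![(g₁ : Matrix (Fin n) (Fin n) F) *ᵥ v₂, w₁] := by
    have := li_swap (li_map g₁ hliv)
    rw [hg₁v] at this
    exact this
  obtain ⟨g₂, hg₂, -, hg₂a, hg₂u⟩ := trans C (![w₁] : Fin 1 → (Fin n → F))
    (fun i => by
      have : i = 0 := Subsingleton.elim _ _
      subst this
      exact hw₁) hu hw₂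
    (fun i => by
      have : i = 0 := Subsingleton.elim _ _
      subst this
      show f _ w₁ = 0
      rw [← hg₁v, hiso]
      exact f_swap_zero C.hf hv)
    (fun i => by
      have : i = 0 := Subsingleton.elim _ _
      subst this
      exact f_swap_zero C.hf hw) hli1 (li_swap hliw)
  refine ⟨g₂ * g₁, Subgroup.mul_mem _ hg₂ hg₁, ?_, ?_⟩
  · rw [Cfsg.Agent.S5643.mul_mv, hg₁v]
    exact hg₂a 0
  · rw [Cfsg.Agent.S5643.mul_mv, hg₂u]

theorem scal_mem {v : Fin n → F} (hv : v ∈ V0 F₀ P) (hv0 : v ≠ 0) {α : F}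
    (h : α • v ∈ V0 F₀ P) : α ∈ F₀ := by
  obtain ⟨i, hi⟩ : ∃ i, (((P⁻¹ : Matrix.GeneralLinearGroup (Fin n) F) :
      Matrix (Fin n) (Fin n) F) *ᵥ v) i ≠ 0 := by
    by_contra hcon
    push Not at hcon
    apply hv0
    apply gl_inj P⁻¹
    exact funext hcon
  have h1 := h i
  rw [Matrix.mulVec_smul] at h1
  have h2 : α = (α • ((P⁻¹ : Matrix.GeneralLinearGroup (Fin n) F) :
      Matrix (Fin n) (Fin n) F) *ᵥ v) i / ((((P⁻¹ : Matrix.GeneralLinearGroup (Fin n) F) :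
      Matrix (Fin n) (Fin n) F) *ᵥ v) i) := by
    rw [Pi.smul_apply, smul_eq_mul]
    field_simp
  rw [h2]
  exact F₀.div_mem h1 (hv i)

theorem iso_formula (C : Ctx σ f F₀ ζ P) (θ : F) {v₁ v₂ : Fin n → F} (h1 : v₁ ∈ V0 F₀ P)
    (h2 : v₂ ∈ V0 F₀ P) : f (v₁ + θ • v₂) (v₁ + θ • v₂) = (σ θ - θ) * f v₁ v₂ := by
  rw [C.hf.add_left, f_add_right C.hf, f_add_right C.hf, C.hf.smul_left, C.hf.smul_left,
    f_smul_right C.hf, f_smul_right C.hf, alt_self C h1, alt_self C h2, skew C h1 h2]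
  ring

theorem rank1_of_dep {v₁ v₂ : Fin n → F} (θ : F) (h1 : v₁ ∈ V0 F₀ P) (h2 : v₂ ∈ V0 F₀ P)
    (h : ¬ LinearIndependent F ![v₁, v₂]) :
    ∃ (μ : F) (w : Fin n → F), w ∈ V0 F₀ P ∧ v₁ + θ • v₂ = μ • w := by
  by_cases hv : v₁ = 0
  · exact ⟨θ, v₂, h2, by rw [hv, zero_add]⟩
  · have hs : v₂ ∈ Submodule.span F {v₁} := by
      by_contra hs
      exact h (li2 v₁ v₂ hv hs)
    rw [Submodule.mem_span_singleton] at hs
    obtain ⟨α, rfl⟩ := hs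
    exact ⟨1 + θ * α, v₁, h1, by rw [add_smul, one_smul, mul_smul]⟩

theorem not_rank1_of_li (C : Ctx σ f F₀ ζ P) {θ : F} (hθ : σ θ ≠ θ) {v₁ v₂ : Fin n → F}
    (h1 : v₁ ∈ V0 F₀ P) (h2 : v₂ ∈ V0 F₀ P) (hli : LinearIndependent F ![v₁, v₂]) (μ : F)
    (w : Fin n → F) (hw : w ∈ V0 F₀ P) (h : v₁ + θ • v₂ = μ • w) : False := by
  obtain ⟨a, b, ha, hb, rfl⟩ := sdec C hθ μ
  have h3 := vuniq' C hθ h1 h2 (V0_smul ha hw) (V0_smul hb hw) (by
    rw [h, add_smul, mul_smul])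
  rw [LinearIndependent.pair_iff] at hli
  have h4 := hli b (-a) (by
    rw [h3.1, h3.2, smul_smul, smul_smul]
    rw [← add_smul]
    have : b * a + -a * b = 0 := by ring
    rw [this, zero_smul])
  have ha0 : a = 0 := neg_eq_zero.1 h4.2
  have h5 := hli 1 0 (by
    rw [h3.1, ha0]
    simp)
  exact one_ne_zero h5.1

theorem single_rat (j : Fin n) (k : Fin n) : (Pi.single j (1 : F) : Fin n → F) k ∈ F₀ := by
  by_cases hk : k = j
  · subst hk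
    rw [Pi.single_eq_same]
    exact F₀.one_mem
  · rw [Pi.single_eq_of_ne hk]
    exact F₀.zero_mem

theorem stab_of_rank1 (C : Ctx σ f F₀ ζ P) (hn : 0 < n) (g : Matrix.GeneralLinearGroup (Fin n) F)
    (h : ∀ v ∈ V0 F₀ P, ∃ (μ : F) (w : Fin n → F), w ∈ V0 F₀ P ∧
      (g : Matrix (Fin n) (Fin n) F) *ᵥ v = μ • w) :
    g ∈ Cfsg.Geo.subfieldSubgroup F₀ P := by
  obtain ⟨θ, hθ⟩ := exists_moved C.hf
  obtain ⟨e, he⟩ : ∃ e : Fin n → F, e = (P : Matrix (Fin n) (Fin n) F) *ᵥ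
    (Pi.single (⟨0, hn⟩ : Fin n) (1 : F)) := ⟨_, rfl⟩
  have heV : e ∈ V0 F₀ P := by
    rw [he]
    exact V0_P _ (single_rat _)
  have he0 : e ≠ 0 := by
    intro h0
    rw [he] at h0
    have := congrFun (gl_inj P h0) ⟨0, hn⟩
    simp at this
  obtain ⟨lam, w₀, hw₀, hge⟩ := h e heV
  have hlam : lam ≠ 0 := by
    rintro rfl
    rw [zero_smul] at hge
    exact he0 (gl_inj g hge)
  apply mem_sub_of_maps hlam
  intro v hv
  by_cases hdep : ∃ α : F, v = α • e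
  · obtain ⟨α, rfl⟩ := hdep
    have hα : α ∈ F₀ := scal_mem heV he0 hv
    rw [Matrix.mulVec_smul, hge, smul_smul, smul_smul]
    have : lam⁻¹ * α * lam = α := by field_simp
    rw [this]
    exact V0_smul hα hw₀
  · obtain ⟨μ, w, hw, hgv⟩ := h v hv
    obtain ⟨ν, w', hw', hgs⟩ := h (v + e) (V0_add hv heV)
    have hμ : μ ≠ 0 := by
      rintro rfl
      rw [zero_smul] at hgv
      exact hdep ⟨0, by rw [zero_smul]; exact gl_inj g hgv⟩
    have hν : ν ≠ 0 := by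
      rintro rfl
      rw [zero_smul] at hgs
      have := gl_inj g hgs
      exact hdep ⟨-1, by rw [neg_one_smul]; exact eq_neg_of_add_eq_zero_left this⟩
    rw [Matrix.mulVec_add, hgv, hge] at hgs
    obtain ⟨a, b, ha, hb, hab⟩ := sdec C hθ (μ / ν)
    obtain ⟨c, d, hc, hd, hcd⟩ := sdec C hθ (lam / ν)
    have hw'eq : w' = (μ / ν) • w + (lam / ν) • w₀ := by
      have h1 := congrArg (fun t => ν⁻¹ • t) hgs
      simp only [smul_add, smul_smul] at h1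
      rw [inv_mul_cancel₀ hν, one_smul] at h1
      rw [← h1, div_eq_inv_mul, div_eq_inv_mul]
    have h1 : w' + θ • (0 : Fin n → F) = (a • w + c • w₀) + θ • (b • w + d • w₀) := by
      rw [hw'eq, hab, hcd]
      simp only [smul_zero, add_zero, add_smul, mul_smul, smul_add]
      abel
    have h2 := (vuniq' C hθ hw' V0_zero (V0_add (V0_smul ha hw) (V0_smul hc hw₀))
      (V0_add (V0_smul hb hw) (V0_smul hd hw₀)) h1).2
    have h3 : (b * μ⁻¹) • v + (d * lam⁻¹) • e = 0 := by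
      apply gl_inj g
      rw [Matrix.mulVec_add, Matrix.mulVec_smul, Matrix.mulVec_smul, hgv, hge, smul_smul, smul_smul,
        mul_assoc, mul_assoc, inv_mul_cancel₀ hμ, inv_mul_cancel₀ hlam, mul_one, mul_one]
      exact h2.symm
    have hb0 : b = 0 := by
      by_contra hb0
      apply hdep
      refine ⟨-(d * lam⁻¹) / (b * μ⁻¹), ?_⟩
      have h4 : b * μ⁻¹ ≠ 0 := mul_ne_zero hb0 (inv_ne_zero hμ)
      have h5 : (b * μ⁻¹) • v = (-(d * lam⁻¹)) • e := by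
        rw [neg_smul]
        exact eq_neg_of_add_eq_zero_left h3
      rw [div_eq_inv_mul, mul_smul, ← h5, smul_smul, inv_mul_cancel₀ h4, one_smul]
    rw [hb0, mul_zero, add_zero] at hab
    have hd0 : d = 0 := by
      rw [hb0, zero_mul, zero_smul, zero_add] at h3
      rcases smul_eq_zero.1 h3 with h4 | h4
      · rcases mul_eq_zero.1 h4 with h5 | h5
        · exact h5
        · exact absurd h5 (inv_ne_zero hlam)
      · exact absurd h4 he0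
    rw [hd0, mul_zero, add_zero] at hcd
    have hc0 : c ≠ 0 := by
      rw [← hcd]
      exact div_ne_zero hlam hν
    have hr : lam⁻¹ * μ = a / c := by
      rw [← hab, ← hcd]
      field_simp
    rw [hgv, smul_smul, hr]
    exact V0_smul (F₀.div_mem ha hc) hw

theorem ex_rank2 (C : Ctx σ f F₀ ζ P) (hn : 3 ≤ n) :
    ∃ v₁ v₂ : Fin n → F, v₁ ∈ V0 F₀ P ∧ v₂ ∈ V0 F₀ P ∧ f v₁ v₂ = 0 ∧
      LinearIndependent F ![v₁, v₂] := by
  obtain ⟨i0, hi0⟩ : ∃ i : Fin n, i = ⟨0, by omega⟩ := ⟨_, rfl⟩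
  obtain ⟨i1, hi1⟩ : ∃ i : Fin n, i = ⟨1, by omega⟩ := ⟨_, rfl⟩
  obtain ⟨i2, hi2⟩ : ∃ i : Fin n, i = ⟨2, by omega⟩ := ⟨_, rfl⟩
  have h01 : i0 ≠ i1 := by rw [hi0, hi1]; simp
  have h02 : i0 ≠ i2 := by rw [hi0, hi2]; simp
  have h12 : i1 ≠ i2 := by rw [hi1, hi2]; simp
  obtain ⟨v₁, hv₁⟩ : ∃ v : Fin n → F, v = (P : Matrix (Fin n) (Fin n) F) *ᵥ
    (Pi.single i0 (1 : F)) := ⟨_, rfl⟩
  have hv₁V : v₁ ∈ V0 F₀ P := by
    rw [hv₁]
    exact V0_P _ (single_rat _)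
  obtain ⟨u, hu, hu0, j, huj, huv⟩ : ∃ u : Fin n → F, (∀ k, u k ∈ F₀) ∧ u i0 = 0 ∧ ∃ j, u j ≠ 0 ∧
      f ((P : Matrix (Fin n) (Fin n) F) *ᵥ u) v₁ = 0 := by
    by_cases h : f ((P : Matrix (Fin n) (Fin n) F) *ᵥ (Pi.single i1 (1 : F))) v₁ = 0
    · refine ⟨Pi.single i1 1, single_rat _, ?_, i1, ?_, h⟩
      · rw [Pi.single_eq_of_ne h01]
      · rw [Pi.single_eq_same]
        exact one_ne_zero
    · have hr := ratio_mem C (V0_P (F₀ := F₀) (P := P) (Pi.single i2 (1 : F)) (single_rat _)) hv₁V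
        (V0_P (F₀ := F₀) (P := P) (Pi.single i1 (1 : F)) (single_rat _)) hv₁V
      obtain ⟨r, hrdef⟩ : ∃ r : F, r = f ((P : Matrix (Fin n) (Fin n) F) *ᵥ
        (Pi.single i2 (1 : F))) v₁ / f ((P : Matrix (Fin n) (Fin n) F) *ᵥ
        (Pi.single i1 (1 : F))) v₁ := ⟨_, rfl⟩
      rw [← hrdef] at hr
      refine ⟨Pi.single i2 1 - r • Pi.single i1 1, fun k => ?_, ?_, i2, ?_, ?_⟩
      · rw [Pi.sub_apply, Pi.smul_apply, smul_eq_mul]
        exact F₀.sub_mem (single_rat _ _) (F₀.mul_mem hr (single_rat _ _))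
      · rw [Pi.sub_apply, Pi.smul_apply, Pi.single_eq_of_ne h02, Pi.single_eq_of_ne h01]
        simp
      · rw [Pi.sub_apply, Pi.smul_apply, Pi.single_eq_same, Pi.single_eq_of_ne h12.symm]
        simp
      · rw [Matrix.mulVec_sub, Matrix.mulVec_smul, f_sub_left C.hf, C.hf.smul_left, hrdef]
        field_simp
        ring
  refine ⟨v₁, (P : Matrix (Fin n) (Fin n) F) *ᵥ u, hv₁V, V0_P u hu, f_swap_zero C.hf huv, ?_⟩
  rw [LinearIndependent.pair_iff]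
  intro s t hst
  rw [hv₁, ← Matrix.mulVec_smul, ← Matrix.mulVec_smul, ← Matrix.mulVec_add] at hst
  have h3 := gl_inj P hst
  have hj0 : j ≠ i0 := by
    rintro rfl
    exact huj hu0
  have ht : t = 0 := by
    have := congrFun h3 j
    simp only [Pi.add_apply, Pi.smul_apply, smul_eq_mul, Pi.zero_apply,
      Pi.single_eq_of_ne hj0, mul_zero, zero_add] at this
    exact (mul_eq_zero.1 this).resolve_right huj
  have hs : s = 0 := by
    have := congrFun h3 i0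
    simp only [Pi.add_apply, Pi.smul_apply, smul_eq_mul, Pi.zero_apply,
      Pi.single_eq_same, mul_one, hu0, mul_zero, add_zero] at this
    exact this
  exact ⟨hs, ht⟩

theorem main [Finite F] (C : Ctx σ f F₀ ζ P) (hn3 : 3 ≤ n) (hn : (Even n ∧ 2 ≤ n) ∨ 7 ≤ n)
    (G : Subgroup (Matrix.GeneralLinearGroup (Fin n) F))
    (hG : ∀ g : Matrix.GeneralLinearGroup (Fin n) F, g ∈ G ↔
      (∀ x y, f ((g : Matrix (Fin n) (Fin n) F) *ᵥ x) ((g : Matrix (Fin n) (Fin n) F) *ᵥ y) = f x y) ∧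
        g ∈ Cfsg.Geo.specialLinear (Fin n) F) :
    Cfsg.Geo.IsMaximalIn G (Cfsg.Geo.subfieldSubgroup F₀ P ⊓ G) := by
  obtain ⟨θ, hθ⟩ := exists_moved C.hf
  have hUT_G : ∀ g ∈ UT f σ, g ∈ G := fun g hg =>
    (hG g).2 ⟨(TV0_GA C hg).1, (TV0_GA C hg).2.1⟩
  have hH0 : H0 f σ F₀ P ≤ Cfsg.Geo.subfieldSubgroup F₀ P ⊓ G := fun h hh =>
    ⟨H0_le_sub C hh, (hG h).2 ⟨(H0_le_GA C hh).1, (H0_le_GA C hh).2.1⟩⟩
  constructor
  · refine lt_of_le_of_ne inf_le_right ?_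
    intro heq
    obtain ⟨v₁, v₂, h1, h2, h12, hli⟩ := ex_rank2 C hn3
    obtain ⟨z, hzdef⟩ : ∃ z : Fin n → F, z = v₁ + θ • v₂ := ⟨_, rfl⟩
    have hz : f z z = 0 := by rw [hzdef, iso_formula C θ h1 h2, h12, mul_zero]
    obtain ⟨t, _, ht⟩ := Cfsg.Agent.S5643.tvGL C.hf z (ζ • z) (by
      rw [f_smul_right C.hf, hz, mul_zero])
    have htUT : t ∈ UT f σ := ⟨z, ζ, hz, C.zs, ht⟩
    have htG := hUT_G t htUT
    have htS : t ∈ Cfsg.Geo.subfieldSubgroup F₀ P := by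
      rw [← heq] at htG
      exact htG.1
    obtain ⟨c, hc0, hc⟩ := maps_of_mem_sub htS
    have hv₁z : f v₁ z = 0 := by
      rw [hzdef, f_add_right C.hf, f_smul_right C.hf, alt_self C h1, h12, mul_zero, add_zero]
    have htv₁ : (t : Matrix (Fin n) (Fin n) F) *ᵥ v₁ = v₁ := by
      rw [ht, f_smul_right C.hf, hv₁z, mul_zero, zero_smul, add_zero]
    have hcF : c⁻¹ ∈ F₀ := scal_mem h1 (hli.ne_zero 0) (by
      have := hc v₁ h1
      rwa [htv₁] at this)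
    have hcF' : c ∈ F₀ := by
      have := F₀.inv_mem hcF
      rwa [inv_inv] at this
    have hmaps : ∀ v ∈ V0 F₀ P, (t : Matrix (Fin n) (Fin n) F) *ᵥ v ∈ V0 F₀ P := fun v hv => by
      have := V0_smul hcF' (hc v hv)
      rwa [smul_smul, mul_inv_cancel₀ hc0, one_smul] at this
    have hz0 : z ≠ 0 := by
      intro h0
      rw [hzdef] at h0
      exact hli.ne_zero 0 (vuniq C hθ h1 h2 h0).1
    obtain ⟨w, hw, -, hwz⟩ := ex_w C (Fin.elim0 : Fin 0 → (Fin n → F)) (fun i => Fin.elim0 i) z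
      (li_one z hz0)
    have h3 := hmaps w hw
    rw [ht] at h3
    have h4 : f w (ζ • z) • z ∈ V0 F₀ P := by
      have := V0_sub h3 hw
      simpa using this
    have h5 : f w (ζ • z) ≠ 0 := by
      rw [f_smul_right C.hf, C.zs]
      exact mul_ne_zero (neg_ne_zero.2 C.z0) hwz
    refine not_rank1_of_li C hθ h1 h2 hli (f w (ζ • z))⁻¹ _ h4 ?_
    rw [smul_smul, inv_mul_cancel₀ h5, one_smul, hzdef]
  · intro M hHM hMG
    by_cases hMH : M = Cfsg.Geo.subfieldSubgroup F₀ P ⊓ G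
    · left
      exact hMH
    right
    apply le_antisymm hMG
    obtain ⟨g, hgM, hgH⟩ : ∃ g ∈ M, g ∉ Cfsg.Geo.subfieldSubgroup F₀ P ⊓ G := by
      by_contra hcon
      push Not at hcon
      exact hMH (le_antisymm hcon hHM)
    have hgG := hMG hgM
    have hgS : g ∉ Cfsg.Geo.subfieldSubgroup F₀ P := fun h => hgH ⟨h, hgG⟩
    have hgiso := ((hG g).1 hgG).1
    obtain ⟨v, hv, hgv⟩ : ∃ v ∈ V0 F₀ P, ¬ ∃ (μ : F) (w : Fin n → F), w ∈ V0 F₀ P ∧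
        (g : Matrix (Fin n) (Fin n) F) *ᵥ v = μ • w := by
      by_contra hcon
      apply hgS
      apply stab_of_rank1 C (by omega) g
      intro v hv
      by_contra h
      exact hcon ⟨v, hv, h⟩
    obtain ⟨v₁, v₂, h1, h2, hz₀⟩ := vdec C hθ ((g : Matrix (Fin n) (Fin n) F) *ᵥ v)
    have hli : LinearIndependent F ![v₁, v₂] := by
      by_contra h
      apply hgv
      rw [hz₀]
      exact rank1_of_dep θ h1 h2 h
    have h12 : f v₁ v₂ = 0 := by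
      have : f ((g : Matrix (Fin n) (Fin n) F) *ᵥ v) ((g : Matrix (Fin n) (Fin n) F) *ᵥ v) = 0 := by
        rw [hgiso, alt_self C hv]
      rw [hz₀, iso_formula C θ h1 h2] at this
      exact (mul_eq_zero.1 this).resolve_left (sub_ne_zero.2 hθ)
    obtain ⟨X, hXdef⟩ : ∃ X : (Fin n → F) → Prop, X = fun y => f y y = 0 ∧ ∀ c : F, σ c = -c →
      ∀ t : Matrix.GeneralLinearGroup (Fin n) F,
        (∀ x, (t : Matrix (Fin n) (Fin n) F) *ᵥ x = x + f x (c • y) • y) → t ∈ M := ⟨_, rfl⟩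
    have hX1 : ∀ y ∈ V0 F₀ P, X y := by
      intro y hy
      rw [hXdef]
      exact ⟨alt_self C hy, fun c hc t ht =>
        hHM ⟨tv_mem C hy hc ht, hUT_G t ⟨y, c, alt_self C hy, hc, ht⟩⟩⟩
    have hX2 : ∀ m ∈ M, ∀ y, X y → X ((m : Matrix (Fin n) (Fin n) F) *ᵥ y) := by
      intro m hm y hXy
      rw [hXdef] at hXy ⊢
      obtain ⟨hy, hyt⟩ := hXy
      have hmiso := ((hG m).1 (hMG hm)).1
      refine ⟨by rw [hmiso]; exact hy, fun c hc t ht => ?_⟩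
      have h1 : m⁻¹ * t * m ∈ M := hyt c hc _ (fun x => by
        rw [Cfsg.Agent.S5643.mul_mv, Cfsg.Agent.S5643.mul_mv, ht, Matrix.mulVec_add,
          Matrix.mulVec_smul, Cfsg.Agent.S5643.inv_mv, Cfsg.Agent.S5643.inv_mv,
          ← Matrix.mulVec_smul, hmiso])
      have : t = m * (m⁻¹ * t * m) * m⁻¹ := by group
      rw [this]
      exact M.mul_mem (M.mul_mem hm h1) (M.inv_mem hm)
    have hX3 : ∀ (μ : F) (y : Fin n → F), X y → X (μ • y) := by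
      intro μ y hXy
      rw [hXdef] at hXy ⊢
      obtain ⟨hy, hyt⟩ := hXy
      refine ⟨by rw [C.hf.smul_left, f_smul_right C.hf, hy, mul_zero, mul_zero], fun c hc t ht => ?_⟩
      apply hyt (c * μ * σ μ) (by
        rw [map_mul, map_mul, hc, C.hf.involutive]
        ring) t
      intro x
      rw [ht, f_smul_right C.hf, f_smul_right C.hf, f_smul_right C.hf, smul_smul, map_mul, map_mul,
        C.hf.involutive]
      congr 2
      ring
    have hXz₀ : X (v₁ + θ • v₂) := by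
      rw [← hz₀]
      exact hX2 g hgM v (hX1 v hv)
    have hXall : ∀ z, f z z = 0 → X z := by
      intro z hz
      obtain ⟨w₁, w₂, hw1, hw2, rfl⟩ := vdec C hθ z
      by_cases hliw : LinearIndependent F ![w₁, w₂]
      · have hw12 : f w₁ w₂ = 0 := by
          rw [iso_formula C θ hw1 hw2] at hz
          exact (mul_eq_zero.1 hz).resolve_left (sub_ne_zero.2 hθ)
        obtain ⟨h, hh, hh1, hh2⟩ := trans_pair C h1 h2 hw1 hw2 h12 hw12 hli hliw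
        have : w₁ + θ • w₂ = (h : Matrix (Fin n) (Fin n) F) *ᵥ (v₁ + θ • v₂) := by
          rw [Matrix.mulVec_add, Matrix.mulVec_smul, hh1, hh2]
        rw [this]
        exact hX2 h (hHM (hH0 hh)) _ hXz₀
      · obtain ⟨μ, w, hw, hzw⟩ := rank1_of_dep θ hw1 hw2 hliw
        rw [hzw]
        exact hX3 μ w (hX1 w hw)
    intro g' hg'
    have hgen := gen C.hf hn g' ((hG g').1 hg').1 ((hG g').1 hg').2
    refine (Subgroup.closure_le M).2 ?_ hgen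
    rintro t ⟨y, c, hy, hc, ht⟩
    have := hXall y hy
    rw [hXdef] at this
    exact this.2 c hc t ht

end Cfsg.Agent.Lib.Helper28.SubF
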