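import Cfsg.Agent.Lib.Helper28.OTrans

set_option autoImplicit false

namespace Cfsg.Agent.Lib.Helper28.Os

open Matrix Cfsg.Agent.Lib.Lead Cfsg.Agent.Lib.Helper28.OTrans

variable {ι κ : Type} [Fintype ι] [DecidableEq ι] [Fintype κ] [DecidableEq κ]
  {F : Type*} [Field F]

theorem map_scalars_reindex (e : ι ≃ κ) :
    (Cfsg.Geo.scalars ι F).map (RI.glReindex (F := F) e).toMonoidHom = Cfsg.Geo.scalars κ F := by
  ext g
  rw [Subgroup.mem_map_equiv, Cfsg.Geo.mem_scalars_iff, Cfsg.Geo.mem_scalars_iff]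
  have hh : ((g : Matrix.GeneralLinearGroup κ F) : Matrix κ κ F) =
      Matrix.reindex e e (((RI.glReindex (F := F) e).symm g : Matrix.GeneralLinearGroup ι F) :
        Matrix ι ι F) := by
    rw [← RI.glReindex_coe, MulEquiv.apply_symm_apply]
  constructor
  · rintro ⟨c, hc⟩
    refine ⟨c, ?_⟩
    rw [hh, hc]
    ext i j
    simp [Matrix.one_apply]
  · rintro ⟨c, hc⟩
    refine ⟨c, ?_⟩
    have h1 : Matrix.reindex e e (((RI.glReindex (F := F) e).symm g :
        Matrix.GeneralLinearGroup ι F) : Matrix ι ι F) = Matrix.reindex e e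
        ((c : F) • (1 : Matrix ι ι F)) := by
      rw [← hh, hc]
      ext i j
      simp [Matrix.one_apply]
    exact (Matrix.reindex e e).injective h1

theorem map_rational_reindex (e : ι ≃ κ) (F₀ : Subfield F) :
    ((Matrix.GeneralLinearGroup.map (F₀.subtype : F₀ →+* F)).range :
      Subgroup (Matrix.GeneralLinearGroup ι F)).map (RI.glReindex (F := F) e).toMonoidHom =
      (Matrix.GeneralLinearGroup.map (F₀.subtype : F₀ →+* F)).range := by
  have key : ∀ {ι κ : Type} [Fintype ι] [DecidableEq ι] [Fintype κ] [DecidableEq κ] (e : ι ≃ κ)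
      (g₀ : Matrix.GeneralLinearGroup ι F₀),
      RI.glReindex (F := F) e (Matrix.GeneralLinearGroup.map (F₀.subtype : F₀ →+* F) g₀) =
        Matrix.GeneralLinearGroup.map (F₀.subtype : F₀ →+* F) (RI.glReindex (F := F₀) e g₀) := by
    intro ι κ _ _ _ _ e g₀
    apply Units.ext
    ext i j
    rfl
  ext g
  rw [Subgroup.mem_map]
  constructor
  · rintro ⟨x, ⟨g₀, rfl⟩, rfl⟩
    exact ⟨RI.glReindex (F := F₀) e g₀, (key e g₀).symm⟩
  · rintro ⟨g₀, rfl⟩
    refine ⟨_, ⟨(RI.glReindex (F := F₀) e).symm g₀, rfl⟩, ?_⟩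
    show RI.glReindex (F := F) e _ = _
    rw [key e, MulEquiv.apply_symm_apply]

theorem map_sub_reindex (e : ι ≃ κ) (F₀ : Subfield F) (P : Matrix.GeneralLinearGroup ι F) :
    (Cfsg.Geo.subfieldSubgroup F₀ P).map (RI.glReindex (F := F) e).toMonoidHom =
      Cfsg.Geo.subfieldSubgroup F₀ (RI.glReindex (F := F) e P) := by
  unfold Cfsg.Geo.subfieldSubgroup
  rw [Subgroup.map_map, ← map_scalars_reindex e, ← map_rational_reindex e F₀, ← Subgroup.map_sup,
    Subgroup.map_map]
  congr 1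
  ext g : 1
  simp only [MonoidHom.comp_apply, MulEquiv.coe_toMonoidHom, MulAut.conj_apply, map_mul, map_inv]

end Cfsg.Agent.Lib.Helper28.Os
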