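import Mathlib
import Cfsg.Agent.S4458
import Cfsg.Agent.Lib.Helper28.CD3.Defs
import Cfsg.Agent.Lib.Helper19.CD3BASIC

set_option autoImplicit false
open scoped commutatorElement

namespace Cfsg.Agent.Lib.Helper28.CD3

universe u

variable {G : Type u} [Group G]

/-- abelian groups have `G' = 1` -/
theorem cd3small_abelian (h : ∀ a b : G, a * b = b * a) : derivedSeries G 1 = ⊥ := by
  rw [derivedSeries_one, commutator_def, eq_bot_iff, Subgroup.commutator_le]
  intro a _ b _
  rw [Subgroup.mem_bot, commutatorElement_def, h a b]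
  group

/-- if the commutator subgroup is abelian then `G'' = 1` -/
theorem cd3small_metabelian (h : ∀ a ∈ commutator G, ∀ b ∈ commutator G, a * b = b * a) :
    derivedSeries G 2 = ⊥ := by
  rw [derivedSeries_succ, derivedSeries_one, eq_bot_iff, Subgroup.commutator_le]
  intro a ha b hb
  rw [Subgroup.mem_bot, commutatorElement_def, h a ha b hb]
  group

theorem dl_of_ncard_le_two [Finite G] (h : (Cfsg.charDegrees G).ncard ≤ 2) : derivedSeries G 2 = ⊥ := by
  have hfin := cd_finite G
  have h1 := one_mem_cd G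
  have hpos : 0 < (Cfsg.charDegrees G).ncard := (Set.ncard_pos hfin).mpr ⟨1, h1⟩
  have hcases : (Cfsg.charDegrees G).ncard = 1 ∨ (Cfsg.charDegrees G).ncard = 2 := by omega
  rcases hcases with hc | hc
  · obtain ⟨a, ha⟩ := Set.ncard_eq_one.mp hc
    have ha1 : a = 1 := by
      rw [ha] at h1
      exact (Set.mem_singleton_iff.mp h1).symm
    rw [ha1] at ha
    have hab := cd_eq_one_iff.mp ha
    have h0 := cd3small_abelian hab
    rw [derivedSeries_succ, h0]
    exact Subgroup.commutator_bot_left ⊥
  · obtain ⟨x, y, hxy, hS⟩ := Set.ncard_eq_two.mp hc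
    -- pick m ≠ 1 with cd = {1, m}
    have hm : ∃ m : ℕ, m ≠ 1 ∧ Cfsg.charDegrees G = {1, m} := by
      rw [hS] at h1
      simp only [Set.mem_insert_iff, Set.mem_singleton_iff] at h1
      rcases h1 with h1 | h1
      · rw [← h1] at hS hxy
        exact ⟨y, Ne.symm hxy, hS⟩
      · rw [← h1] at hS hxy
        refine ⟨x, hxy, ?_⟩
        rw [hS]
        exact Set.pair_comm x 1
    obtain ⟨m, hm1, hcd⟩ := hm
    apply cd3small_metabelian
    apply Cfsg.Agent.S4458.result m
    · intro χ
      have : Cfsg.charDegree (χ : G → ℂ) ∈ Cfsg.charDegrees G := ⟨χ, rfl⟩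
      rw [hcd] at this
      simpa using this
    · have : m ∈ Cfsg.charDegrees G := by rw [hcd]; simp
      exact this
    · exact hm1

end Cfsg.Agent.Lib.Helper28.CD3
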