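import Mathlib
import Cfsg.Agent.Lib.Lead.BCS.Defs
import Cfsg.Agent.S0292

set_option autoImplicit false
set_option linter.unusedVariables false

/-!
# Project BCS, row B0 (`bcs_lift`) (helper28), verbatim from `Lead/BCS/Skel.lean.txt`.
-/

namespace Cfsg.Agent.Lib.Lead.BCS

open Polynomial Module Matrix Cfsg.Agent.Lib.Helper13.S5955 Cfsg.Agent.Lib.helper15.S5972
  Cfsg.Agent.Lib.Helper18.ONE

/-- B0 [M]: `Cfsg.Agent.S0292.center_trivial h2 d hd`: `mk : Ω → PΩ` is injective (`QuotientGroup.eq_one_iff`, kernel `= ⊥`) and surjective, so `g̅ = mk g` with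
`orderOf g = orderOf g̅` (`orderOf_injective`); `X = ((g : isometryGroup) : GL)`, `X ∈ omegaGL` (`Subgroup.mem_map`), `orderOf X = orderOf g` (`Subgroup.orderOf_coe` twice). -/
theorem bcs_lift {F : Type*} [Field F] [Fintype F] (h2 : (2 : F) ≠ 0) (d : ℕ) (hd : 3 ≤ d) (N : ℕ)
    (hN : N ∈ Set.range (orderOf : Cfsg.POmega F (Cfsg.quadFormOdd d F) → ℕ)) :
    ∃ X : GL (Unit ⊕ (Fin d ⊕ Fin d)) F, X ∈ Cfsg.Geo.omegaGL (Cfsg.quadFormOdd d F) ∧
      orderOf X = N := by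
  obtain ⟨gbar, rfl⟩ := hN
  have hc := Cfsg.Agent.S0292.center_trivial h2 d hd
  obtain ⟨g, rfl⟩ := QuotientGroup.mk_surjective gbar
  have hinj : Function.Injective
      (QuotientGroup.mk' (Subgroup.center ↥(Cfsg.Omega F (Cfsg.quadFormOdd d F)))) := by
    rw [← MonoidHom.ker_eq_bot_iff, QuotientGroup.ker_mk', hc]
  have h1 : orderOf ((QuotientGroup.mk' (Subgroup.center ↥(Cfsg.Omega F (Cfsg.quadFormOdd d F)))) g) =
      orderOf g := orderOf_injective _ hinj g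
  refine ⟨((g : ↥(Cfsg.isometryGroup F (Cfsg.quadFormOdd d F))) : GL (Unit ⊕ (Fin d ⊕ Fin d)) F), ?_, ?_⟩
  · unfold Cfsg.Geo.omegaGL
    exact Subgroup.mem_map.mpr ⟨(g : ↥(Cfsg.isometryGroup F (Cfsg.quadFormOdd d F))), g.2, rfl⟩
  · rw [Subgroup.orderOf_coe, Subgroup.orderOf_coe]
    exact h1.symm

end Cfsg.Agent.Lib.Lead.BCS
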