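import Mathlib
import Cfsg.Agent.Lib.Helper21.XS2A

set_option autoImplicit false
open scoped commutatorElement

namespace Cfsg.Agent.Lib.Helper28.XsO

open Cfsg.Agent.Lib.Helper21 Cfsg.Agent.Lib.Helper20

variable {E : Type*} [Group E] {z : E}

/-- `0` on the identity, `1` elsewhere -/
noncomputable def eps (a : E) : ZMod 2 := by
  classical exact if a = 1 then 0 else 1

theorem eps_one : eps (1 : E) = 0 := by
  unfold eps; simp

theorem eps_of_ne {a : E} (h : a ≠ 1) : eps a = 1 := by
  unfold eps; simp [h]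

theorem eps_eq_zero_iff (a : E) : eps a = 0 ↔ a = 1 := by
  unfold eps; split_ifs with h <;> simp [h]

theorem eps_z (h : XS2 E z) : eps z = 1 := eps_of_ne h.z_ne

theorem eps_mul (h : XS2 E z) {a b : E} (ha : a = 1 ∨ a = z) (hb : b = 1 ∨ b = z) :
    eps (a * b) = eps a + eps b := by
  rcases ha with rfl | rfl <;> rcases hb with rfl | rfl
  · simp [eps_one]
  · simp [eps_one]
  · simp [eps_one]
  · rw [h.z_sq, eps_one, eps_z h]; decide

theorem eq_of_eps_eq (h : XS2 E z) {a b : E} (ha : a = 1 ∨ a = z) (hb : b = 1 ∨ b = z)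
    (hab : eps a = eps b) : a = b := by
  rcases ha with rfl | rfl <;> rcases hb with rfl | rfl
  · rfl
  · rw [eps_one, eps_z h] at hab; exact absurd hab (by decide)
  · rw [eps_one, eps_z h] at hab; exact absurd hab (by decide)
  · rfl

/-- the squaring form -/
noncomputable def qE (x : E) : ZMod 2 := eps (x ^ 2)

/-- the commutator form -/
noncomputable def bE (x y : E) : ZMod 2 := eps ⁅x, y⁆

theorem qE_eq_zero_iff (x : E) : qE x = 0 ↔ x ^ 2 = 1 := eps_eq_zero_iff _

theorem bE_eq_zero_iff (x y : E) : bE x y = 0 ↔ x * y = y * x := by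
  unfold bE
  rw [eps_eq_zero_iff, commutatorElement_eq_one_iff_mul_comm]

theorem qE_one : qE (1 : E) = 0 := by
  rw [qE_eq_zero_iff]; simp

theorem qE_z (h : XS2 E z) : qE z = 0 := by
  rw [qE_eq_zero_iff]; exact h.z_pow

theorem bE_mul_left (h : XS2 E z) (a b g : E) : bE (a * b) g = bE a g + bE b g := by
  unfold bE
  rw [h.comm_mul_left, eps_mul h (h.comm a g) (h.comm b g)]

theorem bE_symm (h : XS2 E z) (a b : E) : bE a b = bE b a := by
  unfold bE
  rw [h.comm_symm]

theorem bE_mul_right (h : XS2 E z) (g a b : E) : bE g (a * b) = bE g a + bE g b := by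
  rw [bE_symm h, bE_mul_left h, bE_symm h a, bE_symm h b]

theorem bE_self (x : E) : bE x x = 0 := by
  rw [bE_eq_zero_iff]

theorem qE_mul (h : XS2 E z) (x y : E) : qE (x * y) = qE x + qE y + bE x y := by
  unfold qE
  rw [sq_mul_eq x y (fun g => h.comm_central _ _ g),
    eps_mul h (h.comm y x) (by
      rcases h.sq x with e | e <;> rcases h.sq y with e' | e' <;> rw [e, e']
      · left; simp
      · right; simp
      · right; simp
      · left; rw [h.z_sq]),
    eps_mul h (h.sq x) (h.sq y)]
  show bE y x + _ = _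
  rw [bE_symm h y x]
  ring

theorem bE_z_right (h : XS2 E z) (x : E) : bE x z = 0 := by
  rw [bE_eq_zero_iff]; exact h.z_comm x

theorem bE_eq_polar (h : XS2 E z) (x y : E) : bE x y = qE (x * y) + qE x + qE y := by
  rw [qE_mul h]
  have h2 : ∀ a : ZMod 2, a + a = 0 := by decide
  calc bE x y = bE x y + 0 + 0 := by ring
    _ = bE x y + (qE x + qE x) + (qE y + qE y) := by rw [h2, h2]
    _ = _ := by ring

theorem sq_eq_of_qE_eq (h : XS2 E z) {x y : E} (hxy : qE x = qE y) : x ^ 2 = y ^ 2 :=
  eq_of_eps_eq h (h.sq x) (h.sq y) hxy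

theorem comm_eq_of_bE_eq (h : XS2 E z) {x y x' y' : E} (hxy : bE x y = bE x' y') :
    ⁅x, y⁆ = ⁅x', y'⁆ :=
  eq_of_eps_eq h (h.comm x y) (h.comm x' y') hxy

/-- a character of an "elementary abelian modulo `D`" group separating a given element from `D` -/
theorem exists_char {P : Type*} [Group P] (D : Subgroup P) (hcomm : ∀ x y : P, ⁅x, y⁆ ∈ D)
    (hsq : ∀ x : P, x ^ 2 ∈ D) (t : P) (ht : t ∉ D) :
    ∃ χ : P →* Multiplicative (ZMod 2), χ t ≠ 1 ∧ ∀ d ∈ D, χ d = 1 := by
  have hN : D.Normal := by
    constructor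
    intro d hd g
    have : g * d * g⁻¹ = ⁅g, d⁆ * d := by simp [commutatorElement_def]
    rw [this]
    exact D.mul_mem (hcomm g d) hd
  let A := P ⧸ D
  have hAc : ∀ a b : A, a * b = b * a := by
    intro a b
    induction a using QuotientGroup.induction_on with | _ x => ?_
    induction b using QuotientGroup.induction_on with | _ y => ?_
    rw [← QuotientGroup.mk_mul, ← QuotientGroup.mk_mul, QuotientGroup.eq]
    have : (x * y)⁻¹ * (y * x) = ⁅y⁻¹, x⁻¹⁆ := by simp [commutatorElement_def, mul_assoc]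
    rw [this]
    exact hcomm _ _
  have hA2 : ∀ a : A, a ^ 2 = 1 := by
    intro a
    induction a using QuotientGroup.induction_on with | _ x => ?_
    rw [← QuotientGroup.mk_pow, QuotientGroup.eq_one_iff]
    exact hsq x
  letI : CommGroup A := { (inferInstance : Group A) with mul_comm := hAc }
  letI : Module (ZMod 2) (Additive A) := AddCommGroup.zmodModule (n := 2) (by
    intro x
    have := hA2 x.toMul
    exact congrArg Additive.ofMul this)
  have hne : Additive.ofMul (QuotientGroup.mk t : A) ≠ 0 := by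
    intro h0
    apply ht
    have : (QuotientGroup.mk t : A) = 1 := congrArg Additive.toMul h0
    exact (QuotientGroup.eq_one_iff t).mp this
  have hex : ∃ φ : Module.Dual (ZMod 2) (Additive A),
      φ (Additive.ofMul (QuotientGroup.mk t : A)) ≠ 0 := by
    by_contra hcon
    push_neg at hcon
    exact hne ((Module.forall_dual_apply_eq_zero_iff (ZMod 2) _).mp hcon)
  obtain ⟨φ, hφ⟩ := hex
  refine ⟨{ toFun := fun p => Multiplicative.ofAdd (φ (Additive.ofMul (QuotientGroup.mk p : A)))
            map_one' := ?_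
            map_mul' := ?_ }, ?_, ?_⟩
  · show Multiplicative.ofAdd (φ (Additive.ofMul ((1 : A)))) = 1
    rw [ofMul_one, map_zero]; rfl
  · intro p q
    show Multiplicative.ofAdd (φ (Additive.ofMul ((QuotientGroup.mk p : A) * QuotientGroup.mk q)))
      = _
    rw [ofMul_mul, map_add]; rfl
  · intro h1
    apply hφ
    exact congrArg Multiplicative.toAdd h1
  · intro d hd
    show Multiplicative.ofAdd (φ (Additive.ofMul (QuotientGroup.mk d : A))) = 1
    have : (QuotientGroup.mk d : A) = 1 := (QuotientGroup.eq_one_iff d).mpr hd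
    rw [this, ofMul_one, map_zero]; rfl

end Cfsg.Agent.Lib.Helper28.XsO
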