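import Mathlib
import Cfsg.Prelude.Def_Classical
import Cfsg.Prelude.Def_KGroupFacts
import Cfsg.Agent.Lib.Helper28.XsOA
import Cfsg.Agent.Lib.Helper21.SympE

set_option autoImplicit false
open scoped commutatorElement

namespace Cfsg.Agent.Lib.Helper28.XsO

open Cfsg.Agent.Lib.Helper21 Cfsg.Agent.Lib.Helper20

/-- a subgroup of `E × E` which is the graph of an automorphism -/
theorem graph_equiv {E : Type*} [Group E] [Finite E] (K : Subgroup (E × E))
    (h1 : ∀ x : E, ∃ y : E, (x, y) ∈ K) (h2 : ∀ y : E, (1, y) ∈ K → y = 1)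
    (h3 : ∀ x : E, (x, 1) ∈ K → x = 1) : ∃ α : E ≃* E, ∀ x : E, (x, α x) ∈ K := by
  choose f hf using h1
  have huniq : ∀ x y y' : E, (x, y) ∈ K → (x, y') ∈ K → y = y' := by
    intro x y y' hy hy'
    have : ((x, y)⁻¹ * (x, y') : E × E) ∈ K := K.mul_mem (K.inv_mem hy) hy'
    have h4 : ((x, y)⁻¹ * (x, y') : E × E) = (1, y⁻¹ * y') := by
      ext <;> simp
    rw [h4] at this
    have := h2 _ this
    exact inv_mul_eq_one.mp this
  have hmul : ∀ x x' : E, f (x * x') = f x * f x' := by
    intro x x'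
    have : ((x, f x) * (x', f x') : E × E) ∈ K := K.mul_mem (hf x) (hf x')
    exact huniq _ _ _ (hf (x * x')) this
  let F : E →* E := MonoidHom.mk' f hmul
  have hinj : Function.Injective F := by
    rw [injective_iff_map_eq_one]
    intro x hx
    apply h3
    have := hf x
    have hx' : f x = 1 := hx
    rw [hx'] at this
    exact this
  have hbij : Function.Bijective F := Finite.injective_iff_bijective.mp hinj
  exact ⟨MulEquiv.ofBijective F hbij, fun x => hf x⟩

variable {E : Type*} [Group E] {z : E} {ι : Type} {Q : (ι → ZMod 2) → ZMod 2}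

/-- coordinates on `E / Z(E)` carrying the squaring form to `Q` -/
structure Coord (E : Type*) [Group E] (z : E) {ι : Type} (Q : (ι → ZMod 2) → ZMod 2) where
  c : E →* Multiplicative (ι → ZMod 2)
  surj : Function.Surjective c
  ker : ∀ x, c x = 1 ↔ x = 1 ∨ x = z
  sq : ∀ x, Q (c x).toAdd = qE x

namespace Coord

theorem c_z (C : Coord E z Q) : C.c z = 1 := (C.ker z).mpr (Or.inr rfl)

theorem c_eq_iff (C : Coord E z Q) (x y : E) : C.c x = C.c y ↔ y = x ∨ y = x * z := by
  have : C.c x = C.c y ↔ C.c (x⁻¹ * y) = 1 := by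
    rw [map_mul, map_inv, inv_mul_eq_one]
  rw [this, C.ker]
  constructor
  · rintro (e | e)
    · left; exact (inv_mul_eq_one.mp e).symm
    · right; rw [← e]; group
  · rintro (e | e)
    · left; rw [e]; group
    · right; rw [e]; group

theorem aut_z (h : XS2 E z) (α : E ≃* E) : α z = z := by
  have hc : ∀ y : E, α z * y = y * α z := by
    intro y
    obtain ⟨y', rfl⟩ := α.surjective y
    rw [← map_mul, ← map_mul, h.z_comm y']
  rcases h.center (α z) hc with e | e
  · exfalso
    apply h.z_ne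
    apply α.injective
    rw [e, map_one]
  · exact e

theorem aut_fix (h : XS2 E z) (α : E ≃* E) {a : E} (ha : a = 1 ∨ a = z) : α a = a := by
  rcases ha with rfl | rfl
  · exact map_one α
  · exact aut_z h α

theorem c_aut (h : XS2 E z) (C : Coord E z Q) (α : E ≃* E) {x y : E} (hxy : C.c x = C.c y) :
    C.c (α x) = C.c (α y) := by
  rcases (C.c_eq_iff x y).mp hxy with rfl | rfl
  · rfl
  · rw [map_mul, aut_z h, map_mul, C.c_z, mul_one]

/-- a section of the coordinate map -/
noncomputable def sec (C : Coord E z Q) (v : ι → ZMod 2) : E :=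
  Function.surjInv C.surj (Multiplicative.ofAdd v)

theorem c_sec (C : Coord E z Q) (v : ι → ZMod 2) : C.c (C.sec v) = Multiplicative.ofAdd v :=
  Function.surjInv_eq C.surj _

theorem exists_rep (C : Coord E z Q) (v : ι → ZMod 2) : ∃ x : E, v = (C.c x).toAdd :=
  ⟨C.sec v, by rw [C.c_sec]; rfl⟩

/-- the additive map induced on coordinates by an automorphism -/
noncomputable def bar (h : XS2 E z) (C : Coord E z Q) (α : E ≃* E) :
    (ι → ZMod 2) →+ (ι → ZMod 2) where
  toFun v := (C.c (α (C.sec v))).toAdd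
  map_zero' := by
    have h1 : C.c (C.sec 0) = C.c 1 := by rw [C.c_sec, map_one]; rfl
    rw [C.c_aut h α h1, map_one, map_one]; rfl
  map_add' v w := by
    have h1 : C.c (C.sec (v + w)) = C.c (C.sec v * C.sec w) := by
      rw [map_mul, C.c_sec, C.c_sec, C.c_sec]; rfl
    rw [C.c_aut h α h1, map_mul, map_mul]; rfl

theorem bar_apply (h : XS2 E z) (C : Coord E z Q) (α : E ≃* E) (x : E) :
    C.bar h α (C.c x).toAdd = (C.c (α x)).toAdd := by
  show (C.c (α (C.sec (C.c x).toAdd))).toAdd = _
  have h1 : C.c (C.sec (C.c x).toAdd) = C.c x := by rw [C.c_sec]; rfl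
  rw [C.c_aut h α h1]

theorem bar_mul (h : XS2 E z) (C : Coord E z Q) (α β : E ≃* E) (v : ι → ZMod 2) :
    C.bar h (α * β) v = C.bar h α (C.bar h β v) := by
  obtain ⟨x, rfl⟩ := C.exists_rep v
  rw [bar_apply, bar_apply, bar_apply, MulAut.mul_apply]

theorem bar_one (h : XS2 E z) (C : Coord E z Q) (v : ι → ZMod 2) :
    C.bar h (1 : MulAut E) v = v := by
  obtain ⟨x, rfl⟩ := C.exists_rep v
  rw [bar_apply, MulAut.one_apply]

theorem Q_bar (h : XS2 E z) (C : Coord E z Q) (α : E ≃* E) (v : ι → ZMod 2) :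
    Q (C.bar h α v) = Q v := by
  obtain ⟨x, rfl⟩ := C.exists_rep v
  rw [bar_apply, C.sq, C.sq]
  unfold qE
  rw [← map_pow, aut_fix h α (h.sq x)]

variable [Fintype ι] [DecidableEq ι]

/-- automorphisms as matrices -/
noncomputable def matHom (h : XS2 E z) (C : Coord E z Q) : MulAut E →* Matrix ι ι (ZMod 2) where
  toFun α := LinearMap.toMatrix' ((C.bar h α).toZModLinearMap 2)
  map_one' := by
    rw [← LinearMap.toMatrix'_id]
    congr 1
    refine LinearMap.ext fun v => ?_
    exact C.bar_one h v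
  map_mul' α β := by
    rw [← LinearMap.toMatrix'_comp]
    congr 1
    refine LinearMap.ext fun v => ?_
    exact C.bar_mul h α β v

theorem matHom_mulVec (h : XS2 E z) (C : Coord E z Q) (α : MulAut E) (v : ι → ZMod 2) :
    (C.matHom h α).mulVec v = C.bar h α v := by
  show (LinearMap.toMatrix' ((C.bar h α).toZModLinearMap 2)).mulVec v = _
  rw [LinearMap.toMatrix'_mulVec]; rfl

/-- automorphisms as invertible matrices -/
noncomputable def glHom (h : XS2 E z) (C : Coord E z Q) :
    MulAut E →* Matrix.GeneralLinearGroup ι (ZMod 2) :=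
  (C.matHom h).toHomUnits

theorem glHom_mulVec (h : XS2 E z) (C : Coord E z Q) (α : MulAut E) (v : ι → ZMod 2) :
    ((C.glHom h α : Matrix.GeneralLinearGroup ι (ZMod 2)) : Matrix ι ι (ZMod 2)).mulVec v =
      C.bar h α v :=
  C.matHom_mulVec h α v

theorem glHom_mem (h : XS2 E z) (C : Coord E z Q) (α : MulAut E) :
    C.glHom h α ∈ Cfsg.isometryGroup (ZMod 2) Q := by
  intro u _
  show Q (((C.glHom h α : Matrix.GeneralLinearGroup ι (ZMod 2)) : Matrix ι ι (ZMod 2)).mulVec u) =
    Q u
  rw [glHom_mulVec, C.Q_bar h α]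

theorem glHom_eq_one_iff (h : XS2 E z) (C : Coord E z Q) (α : MulAut E) :
    C.glHom h α = 1 ↔ ∀ x : E, C.c (α x) = C.c x := by
  constructor
  · intro h1 x
    have := C.glHom_mulVec h α (C.c x).toAdd
    rw [h1, Units.val_one, Matrix.one_mulVec, bar_apply] at this
    exact congrArg Multiplicative.ofAdd this.symm
  · intro h1
    apply Units.ext
    apply Matrix.mulVec_injective
    funext v
    rw [glHom_mulVec, Units.val_one, Matrix.one_mulVec]
    obtain ⟨x, rfl⟩ := C.exists_rep v
    rw [bar_apply, h1]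

theorem glHom_ker [Finite E] (h : XS2 E z) (C : Coord E z Q) : (C.glHom h).ker = Cfsg.Inn E := by
  have : Fact (Nat.Prime 2) := ⟨Nat.prime_two⟩
  ext α
  rw [MonoidHom.mem_ker, glHom_eq_one_iff]
  constructor
  · intro h1
    have hf : ∀ x : E, α x * x⁻¹ = 1 ∨ α x * x⁻¹ = z := by
      intro x
      rcases (C.c_eq_iff x (α x)).mp (h1 x).symm with e | e
      · left; rw [e]; group
      · right; rw [e, h.z_comm x]; group
    have hfz : ∀ x : E, α x * x⁻¹ ∈ Subgroup.zpowers z := fun x =>
      (h.mem_zpowers_iff _).mpr (hf x)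
    have hfc : ∀ x g : E, g * (α x * x⁻¹) = (α x * x⁻¹) * g := by
      intro x g
      rcases hf x with e | e <;> rw [e]
      · simp
      · exact h.z_comm g
    obtain ⟨e, -, he⟩ := Symp.exists_inner_of_hom (p := 2) h.isPGroup (⊤ : Subgroup E) z h.orderOf_z
      (Subgroup.mem_top z) (fun x _ => (h.z_comm x).symm)
      (fun x _ y _ => by
        have : x * y * x⁻¹ * y⁻¹ = ⁅x, y⁆ := by rw [commutatorElement_def]
        rw [this]
        exact (h.mem_zpowers_iff _).mpr (h.comm x y))
      (fun x _ hx => (h.mem_zpowers_iff _).mpr (h.center x (fun y => hx y (Subgroup.mem_top y))))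
      (fun x => α x * x⁻¹) (fun x _ => hfz x)
      (fun x _ y _ => by
        show α (x * y) * (x * y)⁻¹ = α x * x⁻¹ * (α y * y⁻¹)
        rw [map_mul, mul_inv_rev]
        calc α x * α y * (y⁻¹ * x⁻¹) = α x * ((α y * y⁻¹) * x⁻¹) := by group
          _ = α x * (x⁻¹ * (α y * y⁻¹)) := by rw [hfc y x⁻¹]
          _ = _ := by group)
      (fun a ha => by
        show α a * a⁻¹ = 1
        rw [aut_fix h α ((h.mem_zpowers_iff a).mp ha), mul_inv_cancel])
    refine ⟨e, ?_⟩
    ext x
    have := he x (Subgroup.mem_top x)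
    show e * x * e⁻¹ = α x
    have h2 : α x * x⁻¹ = e * x * e⁻¹ * x⁻¹ := this
    exact (mul_right_cancel h2).symm
  · rintro ⟨g, rfl⟩ x
    show C.c (g * x * g⁻¹) = C.c x
    rw [map_mul, map_mul, map_inv, mul_comm (C.c g), mul_assoc, mul_inv_cancel, mul_one]

end Coord

end Cfsg.Agent.Lib.Helper28.XsO
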