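import Mathlib
import Cfsg.Agent.Lib.Helper28.XsOB

set_option autoImplicit false
open scoped commutatorElement

namespace Cfsg.Agent.Lib.Helper28.XsO

open Cfsg.Agent.Lib.Helper21 Cfsg.Agent.Lib.Helper20

variable {E : Type*} [Group E] {z : E} {ι : Type} {Q : (ι → ZMod 2) → ZMod 2}

/-- the diagonal copy of `{1, z}` in `E × E` -/
def diagZ (h : XS2 E z) : Subgroup (E × E) where
  carrier := {p | p.1 = p.2 ∧ (p.1 = 1 ∨ p.1 = z)}
  one_mem' := ⟨rfl, Or.inl rfl⟩
  mul_mem' := by
    rintro ⟨a, a'⟩ ⟨b, b'⟩ ⟨h1, h2⟩ ⟨h3, h4⟩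
    simp only at h1 h2 h3 h4
    subst h1 h3
    refine ⟨rfl, ?_⟩
    show a * b = 1 ∨ a * b = z
    rcases h2 with rfl | rfl <;> rcases h4 with rfl | rfl
    · left; simp
    · right; simp
    · right; simp
    · left; exact h.z_sq
  inv_mem' := by
    rintro ⟨a, a'⟩ ⟨h1, h2⟩
    simp only at h1 h2
    subst h1
    refine ⟨rfl, ?_⟩
    show a⁻¹ = 1 ∨ a⁻¹ = z
    rcases h2 with rfl | rfl
    · left; simp
    · right; exact h.z_inv

theorem mem_diagZ (h : XS2 E z) (p : E × E) :
    p ∈ diagZ h ↔ p.1 = p.2 ∧ (p.1 = 1 ∨ p.1 = z) := Iff.rfl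

namespace Coord

/-- lifting an isometry of the squaring form to an automorphism -/
theorem exists_lift [Finite E] (h : XS2 E z) (C : Coord E z Q)
    (φ : (ι → ZMod 2) ≃+ (ι → ZMod 2)) (hφ : ∀ v, Q (φ v) = Q v) :
    ∃ α : E ≃* E, ∀ x, (C.c (α x)).toAdd = φ (C.c x).toAdd := by
  -- the fibre product
  let f1 : E × E →* Multiplicative (ι → ZMod 2) := C.c.comp (MonoidHom.snd E E)
  let f2 : E × E →* Multiplicative (ι → ZMod 2) :=
    (AddMonoidHom.toMultiplicative φ.toAddMonoidHom).comp (C.c.comp (MonoidHom.fst E E))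
  let P : Subgroup (E × E) := f1.eqLocus f2
  have hP : ∀ p : E × E, p ∈ P ↔ (C.c p.2).toAdd = φ (C.c p.1).toAdd := by
    intro p
    constructor
    · intro hp
      have : f1 p = f2 p := hp
      exact congrArg Multiplicative.toAdd this
    · intro hp
      show f1 p = f2 p
      exact congrArg Multiplicative.ofAdd hp
  have hq : ∀ p : E × E, p ∈ P → qE p.2 = qE p.1 := by
    intro p hp
    rw [← C.sq, ← C.sq, (hP p).mp hp, hφ]
  have hb : ∀ p q : E × E, p ∈ P → q ∈ P → bE p.2 q.2 = bE p.1 q.1 := by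
    intro p q hp hq'
    rw [bE_eq_polar h, bE_eq_polar h, hq p hp, hq q hq']
    have := hq (p * q) (P.mul_mem hp hq')
    rw [Prod.snd_mul, Prod.fst_mul] at this
    rw [this]
  let D : Subgroup P := (diagZ h).subgroupOf P
  have hD : ∀ p : P, p ∈ D ↔ (p : E × E).1 = (p : E × E).2 ∧
      ((p : E × E).1 = 1 ∨ (p : E × E).1 = z) := fun p => Iff.rfl
  have hcomm : ∀ x y : P, ⁅x, y⁆ ∈ D := by
    intro x y
    rw [hD]
    have e1 : ((⁅x, y⁆ : P) : E × E).1 = ⁅(x : E × E).1, (y : E × E).1⁆ := by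
      simp [commutatorElement_def]
    have e2 : ((⁅x, y⁆ : P) : E × E).2 = ⁅(x : E × E).2, (y : E × E).2⁆ := by
      simp [commutatorElement_def]
    rw [e1, e2]
    exact ⟨(comm_eq_of_bE_eq h (hb x y x.2 y.2)).symm, h.comm _ _⟩
  have hsq : ∀ x : P, x ^ 2 ∈ D := by
    intro x
    rw [hD]
    have e1 : ((x ^ 2 : P) : E × E).1 = (x : E × E).1 ^ 2 := by simp
    have e2 : ((x ^ 2 : P) : E × E).2 = (x : E × E).2 ^ 2 := by simp
    rw [e1, e2]
    exact ⟨(sq_eq_of_qE_eq h (hq x x.2)).symm, h.sq _⟩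
  have htP : ((1, z) : E × E) ∈ P := by
    rw [hP]
    show (C.c z).toAdd = φ (C.c 1).toAdd
    rw [C.c_z, C.c.map_one]
    exact (map_zero φ).symm
  let t : P := ⟨(1, z), htP⟩
  have htD : t ∉ D := by
    rw [hD]
    rintro ⟨h1, -⟩
    exact h.z_ne h1.symm
  obtain ⟨χ, hχt, hχD⟩ := exists_char D hcomm hsq t htD
  have hχt' : χ t = Multiplicative.ofAdd 1 := by
    have : ∀ a : ZMod 2, Multiplicative.ofAdd a ≠ 1 → a = 1 := by decide
    have h2 := this (χ t).toAdd hχt
    exact congrArg Multiplicative.ofAdd h2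
  let K : Subgroup (E × E) := χ.ker.map P.subtype
  have hK : ∀ p : E × E, p ∈ K ↔ ∃ hp : p ∈ P, χ ⟨p, hp⟩ = 1 := by
    intro p
    constructor
    · rintro ⟨q, hq1, rfl⟩
      exact ⟨q.2, hq1⟩
    · rintro ⟨hp, hp1⟩
      exact ⟨⟨p, hp⟩, hp1, rfl⟩
  have hzz : ∀ (hp : ((z, 1) : E × E) ∈ P), χ ⟨(z, 1), hp⟩ ≠ 1 := by
    intro hp hp1
    have hd : ((z, z) : E × E) ∈ P := by
      rw [hP]
      show (C.c z).toAdd = φ (C.c z).toAdd
      rw [C.c_z]
      exact (map_zero φ).symm
    have hdD : (⟨(z, z), hd⟩ : P) ∈ D := by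
      rw [hD]
      exact ⟨rfl, Or.inr rfl⟩
    have e : (⟨(z, z), hd⟩ : P) = ⟨(z, 1), hp⟩ * t := by
      apply Subtype.ext
      show ((z, z) : E × E) = (z, 1) * (1, z)
      ext <;> simp
    have := hχD _ hdD
    rw [e, map_mul, hp1, one_mul] at this
    exact hχt this
  have g1 : ∀ x : E, ∃ y : E, (x, y) ∈ K := by
    intro x
    have hp0 : ((x, C.sec (φ (C.c x).toAdd)) : E × E) ∈ P := by
      rw [hP]
      show (C.c (C.sec (φ (C.c x).toAdd))).toAdd = φ (C.c x).toAdd
      rw [C.c_sec]; rfl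
    by_cases h0 : χ ⟨_, hp0⟩ = 1
    · exact ⟨_, (hK _).mpr ⟨hp0, h0⟩⟩
    · refine ⟨C.sec (φ (C.c x).toAdd) * z, (hK _).mpr ?_⟩
      have hp1 : ((x, C.sec (φ (C.c x).toAdd) * z) : E × E) ∈ P := by
        have := P.mul_mem hp0 htP
        have e : ((x, C.sec (φ (C.c x).toAdd)) * (1, z) : E × E) =
            (x, C.sec (φ (C.c x).toAdd) * z) := by
          ext <;> simp
        rw [e] at this
        exact this
      refine ⟨hp1, ?_⟩
      have e : (⟨_, hp1⟩ : P) = ⟨_, hp0⟩ * t := by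
        apply Subtype.ext
        show ((x, C.sec (φ (C.c x).toAdd) * z) : E × E) = (x, C.sec (φ (C.c x).toAdd)) * (1, z)
        ext <;> simp
      rw [e, map_mul, hχt']
      have : ∀ a : Multiplicative (ZMod 2), a ≠ 1 → a * Multiplicative.ofAdd 1 = 1 := by decide
      exact this _ h0
  have g2 : ∀ y : E, (1, y) ∈ K → y = 1 := by
    intro y hy
    obtain ⟨hp, hp1⟩ := (hK _).mp hy
    have h1 : (C.c y).toAdd = φ (C.c 1).toAdd := (hP _).mp hp
    rw [map_one] at h1
    have h2 : C.c y = 1 := by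
      have : (C.c y).toAdd = 0 := by rw [h1]; exact map_zero φ
      exact congrArg Multiplicative.ofAdd this
    rcases (C.ker y).mp h2 with e | e
    · exact e
    · exfalso
      subst e
      exact hχt hp1
  have g3 : ∀ x : E, (x, 1) ∈ K → x = 1 := by
    intro x hx
    obtain ⟨hp, hp1⟩ := (hK _).mp hx
    have h1 : (C.c 1).toAdd = φ (C.c x).toAdd := (hP _).mp hp
    rw [map_one] at h1
    have h2 : C.c x = 1 := by
      have : φ (C.c x).toAdd = φ 0 := by rw [← h1, map_zero]; rfl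
      have := φ.injective this
      exact congrArg Multiplicative.ofAdd this
    rcases (C.ker x).mp h2 with e | e
    · exact e
    · exfalso
      subst e
      exact hzz hp hp1
  obtain ⟨α, hα⟩ := graph_equiv K g1 g2 g3
  refine ⟨α, fun x => ?_⟩
  obtain ⟨hp, -⟩ := (hK _).mp (hα x)
  exact (hP _).mp hp

variable [Fintype ι] [DecidableEq ι]

theorem glHom_range [Finite E] (h : XS2 E z) (C : Coord E z Q) :
    (C.glHom h).range = Cfsg.isometryGroup (ZMod 2) Q := by
  apply le_antisymm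
  · rintro _ ⟨α, rfl⟩
    exact C.glHom_mem h α
  · intro g hg
    have hg' : ∀ u : ι → ZMod 2, Q ((g : Matrix ι ι (ZMod 2)).mulVec u) = Q u :=
      fun u => hg u u
    let φ : (ι → ZMod 2) ≃+ (ι → ZMod 2) :=
      { toFun := fun v => (g : Matrix ι ι (ZMod 2)).mulVec v
        invFun := fun v => ((g⁻¹ : Matrix.GeneralLinearGroup ι (ZMod 2)) :
          Matrix ι ι (ZMod 2)).mulVec v
        left_inv := by
          intro v
          show Matrix.mulVec _ (Matrix.mulVec _ v) = v
          rw [Matrix.mulVec_mulVec, ← Units.val_mul, inv_mul_cancel, Units.val_one,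
            Matrix.one_mulVec]
        right_inv := by
          intro v
          show Matrix.mulVec _ (Matrix.mulVec _ v) = v
          rw [Matrix.mulVec_mulVec, ← Units.val_mul, mul_inv_cancel, Units.val_one,
            Matrix.one_mulVec]
        map_add' := fun v w => Matrix.mulVec_add _ v w }
    obtain ⟨α, hα⟩ := C.exists_lift h φ hg'
    refine ⟨α, ?_⟩
    apply Units.ext
    apply Matrix.mulVec_injective
    funext v
    rw [glHom_mulVec]
    obtain ⟨x, rfl⟩ := C.exists_rep v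
    rw [bar_apply]
    exact hα x

/-- the outer automorphism group of an extraspecial 2-group is the orthogonal group of its
squaring form -/
noncomputable def outEquiv [Finite E] (h : XS2 E z) (C : Coord E z Q) :
    Cfsg.Out E ≃* Cfsg.isometryGroup (ZMod 2) Q :=
  (QuotientGroup.quotientMulEquivOfEq (C.glHom_ker h).symm).trans
    ((QuotientGroup.quotientKerEquivRange (C.glHom h)).trans
      (MulEquiv.subgroupCongr (C.glHom_range h)))

end Coord

end Cfsg.Agent.Lib.Helper28.XsO
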