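import Mathlib
import Cfsg.Agent.Lib.Helper18.OCT.Defs

/-! # OCG row P1 (helper28): squares of `closure (L '' R ∪ M '' D)` lie in its commutator subgroup (pure group theory). -/

set_option autoImplicit false

namespace Cfsg.Agent.Lib.Helper18.OCT

open scoped commutatorElement

/-- every element of `closure (L '' R ∪ M '' D)` is `L r * M h` with `r ∈ R`, `h ∈ D`. -/
theorem ocgp1_decomp {X G : Type*} [Group X] [Group G] (L M : X → G)
    (hL : ∀ p p', L (p * p') = L p * L p') (hM : ∀ h h', M (h * h') = M h * M h')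
    (hLM : ∀ h p, M h * L p * (M h)⁻¹ = L (h * p * h⁻¹)) (D R : Subgroup X)
    (hRn : ∀ h ∈ D, ∀ r ∈ R, h * r * h⁻¹ ∈ R) :
    ∀ x ∈ Subgroup.closure (L '' (R : Set X) ∪ M '' (D : Set X)),
      ∃ r ∈ R, ∃ h ∈ D, x = L r * M h := by
  have hL1 : L 1 = 1 := by
    have := hL 1 1
    rw [mul_one] at this
    exact (left_eq_mul.1 this)
  have hM1 : M 1 = 1 := by
    have := hM 1 1
    rw [mul_one] at this
    exact (left_eq_mul.1 this)
  have hMinv : ∀ h, M h⁻¹ = (M h)⁻¹ := by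
    intro h
    apply eq_inv_of_mul_eq_one_left
    rw [← hM, inv_mul_cancel, hM1]
  have hLinv : ∀ p, L p⁻¹ = (L p)⁻¹ := by
    intro p
    apply eq_inv_of_mul_eq_one_left
    rw [← hL, inv_mul_cancel, hL1]
  -- `M h * L p = L (h p h⁻¹) * M h`
  have hswap : ∀ h p, M h * L p = L (h * p * h⁻¹) * M h := by
    intro h p
    rw [← hLM, inv_mul_cancel_right]
  intro x hx
  induction hx using Subgroup.closure_induction with
  | mem x hx =>
    rcases hx with ⟨r, hr, rfl⟩ | ⟨h, hh, rfl⟩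
    · exact ⟨r, hr, 1, D.one_mem, by rw [hM1, mul_one]⟩
    · exact ⟨1, R.one_mem, h, hh, by rw [hL1, one_mul]⟩
  | one => exact ⟨1, R.one_mem, 1, D.one_mem, by rw [hM1, hL1, mul_one]⟩
  | mul x y _ _ ihx ihy =>
    obtain ⟨r, hr, h, hh, rfl⟩ := ihx
    obtain ⟨r', hr', h', hh', rfl⟩ := ihy
    refine ⟨r * (h * r' * h⁻¹), R.mul_mem hr (hRn h hh r' hr'), h * h', D.mul_mem hh hh', ?_⟩
    rw [hL, hM, mul_assoc (L r), ← mul_assoc (M h), hswap h r']
    simp only [mul_assoc]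
  | inv x _ ih =>
    obtain ⟨r, hr, h, hh, rfl⟩ := ih
    refine ⟨h⁻¹ * r⁻¹ * h⁻¹⁻¹, hRn h⁻¹ (D.inv_mem hh) r⁻¹ (R.inv_mem hr), h⁻¹, D.inv_mem hh, ?_⟩
    rw [mul_inv_rev, ← hMinv, ← hLinv, hswap]

/-- P1 [M] (pure group theory). -/
theorem sq_mem_commutator_abs {X G : Type*} [Group X] [Group G] (L M : X → G)
    (hL : ∀ p p', L (p * p') = L p * L p') (hM : ∀ h h', M (h * h') = M h * M h')
    (hLM : ∀ h p, M h * L p * (M h)⁻¹ = L (h * p * h⁻¹)) (D R Z : Subgroup X) (hRD : R ≤ D)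
    (hRn : ∀ h ∈ D, ∀ r ∈ R, h * r * h⁻¹ ∈ R) (hZ : ∀ z ∈ Z, M z = 1)
    (h1 : ∀ r ∈ R, r ^ 2 ∈ ⁅R, D⁆) (h2 : ∀ h ∈ D, ∃ z ∈ Z, ∃ k ∈ ⁅D, D⁆, h ^ 2 = z * k) :
    ∀ x ∈ Subgroup.closure (L '' (R : Set X) ∪ M '' (D : Set X)),
      x ^ 2 ∈ ⁅Subgroup.closure (L '' (R : Set X) ∪ M '' (D : Set X)),
        Subgroup.closure (L '' (R : Set X) ∪ M '' (D : Set X))⁆ := by
  have _ := hRD
  intro x hx
  set K := Subgroup.closure (L '' (R : Set X) ∪ M '' (D : Set X)) with hK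
  have hLK : ∀ r ∈ R, L r ∈ K := fun r hr =>
    Subgroup.subset_closure (Or.inl ⟨r, hr, rfl⟩)
  have hMK : ∀ h ∈ D, M h ∈ K := fun h hh =>
    Subgroup.subset_closure (Or.inr ⟨h, hh, rfl⟩)
  let Lh : X →* G := MonoidHom.mk' L hL
  let Mh : X →* G := MonoidHom.mk' M hM
  have hLh : ∀ p, Lh p = L p := fun _ => rfl
  have hMh : ∀ p, Mh p = M p := fun _ => rfl
  have hLinv : ∀ p, L p⁻¹ = (L p)⁻¹ := fun p => by rw [← hLh, map_inv, hLh]
  have hMinv : ∀ p, M p⁻¹ = (M p)⁻¹ := fun p => by rw [← hMh, map_inv, hMh]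
  -- (ii)
  have hii : ⁅R, D⁆ ≤ (⁅K, K⁆).comap Lh := by
    rw [Subgroup.commutator_le]
    intro r hr d hd
    rw [Subgroup.mem_comap, hLh]
    have e : L ⁅r, d⁆ = ⁅L r, M d⁆ := by
      rw [commutatorElement_def, commutatorElement_def]
      have e0 : r * d * r⁻¹ * d⁻¹ = r * (d * r⁻¹ * d⁻¹) := by group
      rw [e0, hL, ← hLM, hLinv]
      group
    rw [e]
    exact Subgroup.commutator_mem_commutator (hLK r hr) (hMK d hd)
  -- (iii)
  have hiii : ⁅D, D⁆ ≤ (⁅K, K⁆).comap Mh := by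
    rw [Subgroup.commutator_le]
    intro d hd d' hd'
    rw [Subgroup.mem_comap, map_commutatorElement, hMh, hMh]
    exact Subgroup.commutator_mem_commutator (hMK d hd) (hMK d' hd')
  obtain ⟨r, hr, h, hh, rfl⟩ := ocgp1_decomp L M hL hM hLM D R hRn x hx
  obtain ⟨z, hz, k, hk, hzk⟩ := h2 h hh
  have hsq : (L r * M h) ^ 2 = L (r ^ 2) * ⁅L r⁻¹, M h⁆ * M (h ^ 2) := by
    rw [pow_two, pow_two, pow_two, hL, hM, commutatorElement_def, hLinv, inv_inv]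
    group
  rw [hsq]
  refine Subgroup.mul_mem _ (Subgroup.mul_mem _ ?_ ?_) ?_
  · have := hii (h1 r hr)
    rwa [Subgroup.mem_comap, hLh] at this
  · exact Subgroup.commutator_mem_commutator (hLK _ (R.inv_mem hr)) (hMK h hh)
  · rw [hzk, hM, hZ z hz, one_mul]
    have := hiii hk
    rwa [Subgroup.mem_comap, hMh] at this

end Cfsg.Agent.Lib.Helper18.OCT
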