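import Mathlib
import Cfsg.Agent.Lib.Helper18.OCT.Defs
import Cfsg.Agent.Lib.Helper28.OCGP1

/-! # OCG row P2 (helper28): the order of `closure (L '' R ∪ M '' D)` (pure group theory). -/

set_option autoImplicit false

namespace Cfsg.Agent.Lib.Helper18.OCT

/-- P2 [M] (pure group theory). -/
theorem card_closure_abs {X G : Type*} [Group X] [Group G] [Finite X] (L M : X → G)
    (hL : ∀ p p', L (p * p') = L p * L p') (hM : ∀ h h', M (h * h') = M h * M h')
    (hLM : ∀ h p, M h * L p * (M h)⁻¹ = L (h * p * h⁻¹)) (D R Z : Subgroup X) (hRD : R ≤ D)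
    (hRn : ∀ h ∈ D, ∀ r ∈ R, h * r * h⁻¹ ∈ R) (hint : ∀ p ∈ R, ∀ h ∈ D, L p = M h → p = 1)
    (hK : ∀ h ∈ D, M h = 1 ↔ h ∈ Z) :
    Nat.card (Subgroup.closure (L '' (R : Set X) ∪ M '' (D : Set X))) *
        Nat.card (D ⊓ Z : Subgroup X) = Nat.card R * Nat.card D := by
  classical
  have _ := hRD
  have hL1 : L 1 = 1 := by
    have := hL 1 1
    rw [mul_one] at this
    exact (left_eq_mul.1 this)
  have hM1 : M 1 = 1 := by
    have := hM 1 1
    rw [mul_one] at this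
    exact (left_eq_mul.1 this)
  have hMinv : ∀ h, M h⁻¹ = (M h)⁻¹ := by
    intro h
    apply eq_inv_of_mul_eq_one_left
    rw [← hM, inv_mul_cancel, hM1]
  have hLinv : ∀ p, L p⁻¹ = (L p)⁻¹ := by
    intro p
    apply eq_inv_of_mul_eq_one_left
    rw [← hL, inv_mul_cancel, hL1]
  have hdec := ocgp1_decomp L M hL hM hLM D R hRn
  choose! rr hrr hh hhh hxy using hdec
  -- the key computation
  have hkey : ∀ y ∈ Subgroup.closure (L '' (R : Set X) ∪ M '' (D : Set X)), ∀ z ∈ D ⊓ Z,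
      L (rr y) * M (z * hh y) = y := by
    intro y hy z hz
    rw [hM, (hK z hz.1).2 hz.2, one_mul]
    exact (hxy y hy).symm
  let e : ↥(Subgroup.closure (L '' (R : Set X) ∪ M '' (D : Set X))) × ↥(D ⊓ Z : Subgroup X) →
      ↥R × ↥D := fun yz =>
    (⟨rr yz.1, hrr _ yz.1.2⟩, ⟨yz.2 * hh yz.1, D.mul_mem yz.2.2.1 (hhh _ yz.1.2)⟩)
  have hinj : Function.Injective e := by
    rintro ⟨⟨y, hy⟩, ⟨z, hz⟩⟩ ⟨⟨y', hy'⟩, ⟨z', hz'⟩⟩ heq
    have h1 : rr y = rr y' := congrArg (fun t => (t.1 : X)) heq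
    have h2 : z * hh y = z' * hh y' := congrArg (fun t => (t.2 : X)) heq
    have hyy : y = y' := by
      rw [← hkey y hy z hz, ← hkey y' hy' z' hz', h1, h2]
    subst hyy
    have hzz : z = z' := mul_right_cancel h2
    subst hzz
    rfl
  have hsurj : Function.Surjective e := by
    rintro ⟨⟨r, hr⟩, ⟨h, hhD⟩⟩
    have hy : L r * M h ∈ Subgroup.closure (L '' (R : Set X) ∪ M '' (D : Set X)) :=
      Subgroup.mul_mem _ (Subgroup.subset_closure (Or.inl ⟨r, hr, rfl⟩))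
        (Subgroup.subset_closure (Or.inr ⟨h, hhD, rfl⟩))
    have hr' := hrr _ hy
    have hh' := hhh _ hy
    have heq := hxy _ hy
    have hLM' : L (r⁻¹ * rr (L r * M h)) = M (h * (hh (L r * M h))⁻¹) := by
      rw [hL, hM, hLinv, hMinv]
      calc (L r)⁻¹ * L (rr (L r * M h))
          = (L r)⁻¹ * (L (rr (L r * M h)) * M (hh (L r * M h))) * (M (hh (L r * M h)))⁻¹ := by
            group
        _ = (L r)⁻¹ * (L r * M h) * (M (hh (L r * M h)))⁻¹ := by rw [← heq]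
        _ = M h * (M (hh (L r * M h)))⁻¹ := by group
    have hmemR : r⁻¹ * rr (L r * M h) ∈ R := R.mul_mem (R.inv_mem hr) hr'
    have hmemD : h * (hh (L r * M h))⁻¹ ∈ D := D.mul_mem hhD (D.inv_mem hh')
    have hone : r⁻¹ * rr (L r * M h) = 1 := hint _ hmemR _ hmemD hLM'
    have hrr' : rr (L r * M h) = r := by
      have := inv_mul_eq_one.1 hone
      exact this.symm
    have hmemZ : h * (hh (L r * M h))⁻¹ ∈ Z := by
      rw [← hK _ hmemD, ← hLM', hone, hL1]
    refine ⟨(⟨L r * M h, hy⟩, ⟨h * (hh (L r * M h))⁻¹, ⟨hmemD, hmemZ⟩⟩), ?_⟩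
    apply Prod.ext
    · exact Subtype.ext hrr'
    · apply Subtype.ext
      show h * (hh (L r * M h))⁻¹ * hh (L r * M h) = h
      rw [inv_mul_cancel_right]
  have hcard := Nat.card_congr (Equiv.ofBijective e ⟨hinj, hsurj⟩)
  rw [Nat.card_prod, Nat.card_prod] at hcard
  exact hcard

end Cfsg.Agent.Lib.Helper18.OCT
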