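import Mathlib
import Cfsg.Agent.Lib.helper7.SAP.Defs
import Cfsg.Agent.Lib.Helper28.SAPPERM1

/-!
# Project SAP, row PERM4 (`arc_nodup th_pt th_ps th_conj_zh`): the gluing cycle (helper28).
-/

set_option autoImplicit false

namespace Cfsg.Agent.Lib.helper7.SAP

open Equiv

universe u

section perm
variable (p k l : ℕ)

theorem sapperm4_length : (arcO p k l ++ arcE p k).length = l + k := by
  simp [arcO, arcE]

theorem sapperm4_get_old (i : ℕ) (hi : i < l) (h : i < (arcO p k l ++ arcE p k).length) :
    (arcO p k l ++ arcE p k)[i] = po (((i + 1 : ℕ)) : ZMod p) := by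
  have h1 : i < (arcO p k l).length := by simp [arcO]; exact hi
  rw [List.getElem_append_left h1]
  simp [arcO]

theorem sapperm4_get_new (j : Fin k) (h : l + j.val < (arcO p k l ++ arcE p k).length) :
    (arcO p k l ++ arcE p k)[l + j.val] = pe j := by
  have h1 : (arcO p k l).length ≤ l + j.val := by simp [arcO]
  rw [List.getElem_append_right h1]
  simp [arcO, arcE]

theorem sapperm4_mem_old [NeZero p] (hlp : l + 1 ≤ p) (x : ZMod p) :
    (po x : Pt p k) ∈ arcO p k l ++ arcE p k ↔ 1 ≤ x.val ∧ x.val ≤ l := by
  constructor
  · intro h
    rcases List.mem_append.mp h with h | h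
    · unfold arcO at h
      obtain ⟨j, hj, hjx⟩ := List.mem_map.mp h
      have hj' : j < l := List.mem_range.mp hj
      have : (((j + 1 : ℕ)) : ZMod p) = x := by
        have := hjx
        simp only [po, Sum.inl.injEq] at this
        exact this
      rw [← this, ZMod.val_natCast_of_lt (by omega)]
      omega
    · unfold arcE at h
      obtain ⟨j, -, hjx⟩ := List.mem_map.mp h
      simp [pe, po] at hjx
  · rintro ⟨h1, h2⟩
    apply List.mem_append_left
    unfold arcO
    refine List.mem_map.mpr ⟨x.val - 1, List.mem_range.mpr (by omega), ?_⟩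
    have : x.val - 1 + 1 = x.val := by omega
    rw [this, ZMod.natCast_zmod_val]

/-- PERM4 [M]: the gluing cycle. -/
theorem arc_nodup [NeZero p] (hlp : l + 1 ≤ p) : (arcO p k l ++ arcE p k).Nodup := by
  rw [List.nodup_append]
  refine ⟨?_, ?_, ?_⟩
  · unfold arcO
    apply List.Nodup.map_on _ List.nodup_range
    intro a ha b hb hab
    have ha' : a < l := List.mem_range.mp ha
    have hb' : b < l := List.mem_range.mp hb
    simp only [po, Sum.inl.injEq] at hab
    have h1 := congrArg ZMod.val hab
    rw [ZMod.val_natCast_of_lt (by omega), ZMod.val_natCast_of_lt (by omega)] at h1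
    omega
  · unfold arcE
    apply List.Nodup.map _ (List.nodup_finRange k)
    intro a b hab
    simpa [pe] using hab
  · intro a ha b hb hab
    unfold arcO at ha
    unfold arcE at hb
    obtain ⟨j, -, rfl⟩ := List.mem_map.mp ha
    obtain ⟨i, -, rfl⟩ := List.mem_map.mp hb
    simp [po, pe] at hab

theorem th_pt [NeZero p] (hlp : l + 1 ≤ p) (hl : 1 ≤ l) (y : Ix p k) :
    th p k l (pt y) = pt (tauI p k l y) := by
  have hnd := arc_nodup p k l hlp
  have hlen := sapperm4_length p k l
  unfold th
  rcases y with x | j
  · show (arcO p k l ++ arcE p k).formPerm (po x) = pt (tauI p k l (Sum.inl x))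
    by_cases h1 : 1 ≤ x.val ∧ x.val < l
    · -- interior old point
      have hi : x.val - 1 < (arcO p k l ++ arcE p k).length := by rw [hlen]; omega
      have hget := sapperm4_get_old p k l (x.val - 1) (by omega) hi
      have hx : (((x.val - 1 + 1 : ℕ)) : ZMod p) = x := by
        have : x.val - 1 + 1 = x.val := by omega
        rw [this, ZMod.natCast_zmod_val]
      rw [hx] at hget
      have hform := List.formPerm_apply_getElem _ hnd (x.val - 1) hi
      rw [hget] at hform
      rw [hform]
      have hmod : (x.val - 1 + 1) % (arcO p k l ++ arcE p k).length = x.val := by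
        rw [hlen, show x.val - 1 + 1 = x.val by omega]
        exact Nat.mod_eq_of_lt (by omega)
      have hi2 : x.val < (arcO p k l ++ arcE p k).length := by rw [hlen]; omega
      have hget2 := sapperm4_get_old p k l x.val h1.2 hi2
      simp only [hmod]
      rw [hget2]
      simp only [tauI, if_pos h1, pt]
      congr 1
      push_cast
      rw [ZMod.natCast_zmod_val]
    · by_cases h2 : x.val = l
      · -- the last old point
        have hi : l - 1 < (arcO p k l ++ arcE p k).length := by rw [hlen]; omega
        have hget := sapperm4_get_old p k l (l - 1) (by omega) hi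
        have hx : (((l - 1 + 1 : ℕ)) : ZMod p) = x := by
          have : l - 1 + 1 = x.val := by omega
          rw [this, ZMod.natCast_zmod_val]
        rw [hx] at hget
        have hform := List.formPerm_apply_getElem _ hnd (l - 1) hi
        rw [hget] at hform
        rw [hform]
        simp only [tauI, if_neg h1, if_pos h2]
        by_cases hk : 0 < k
        · have hmod : (l - 1 + 1) % (arcO p k l ++ arcE p k).length = l + (⟨0, hk⟩ : Fin k).val := by
            rw [hlen, show l - 1 + 1 = l by omega]
            simp only [add_zero]
            exact Nat.mod_eq_of_lt (by omega)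
          have hi2 : l + (⟨0, hk⟩ : Fin k).val < (arcO p k l ++ arcE p k).length := by
            rw [hlen]; simp only [add_zero]; omega
          have hget2 := sapperm4_get_new p k l ⟨0, hk⟩ hi2
          simp only [hmod]
          rw [hget2, dif_pos hk]
          rfl
        · have hk0 : k = 0 := by omega
          have hmod : (l - 1 + 1) % (arcO p k l ++ arcE p k).length = 0 := by
            rw [hlen, show l - 1 + 1 = l by omega, hk0, add_zero, Nat.mod_self]
          have hi2 : 0 < (arcO p k l ++ arcE p k).length := by rw [hlen]; omega
          have hget2 := sapperm4_get_old p k l 0 (by omega) hi2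
          simp only [hmod]
          rw [hget2, dif_neg hk]
          simp [pt]
      · -- a fixed old point
        have hnot : (po x : Pt p k) ∉ arcO p k l ++ arcE p k := by
          rw [sapperm4_mem_old p k l hlp]
          omega
        rw [List.formPerm_apply_of_notMem hnot]
        simp only [tauI, if_neg h1, if_neg h2, pt]
  · show (arcO p k l ++ arcE p k).formPerm (pe j) = pt (tauI p k l (Sum.inr j))
    have hi : l + j.val < (arcO p k l ++ arcE p k).length := by rw [hlen]; have := j.isLt; omega
    have hget := sapperm4_get_new p k l j hi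
    have hform := List.formPerm_apply_getElem _ hnd (l + j.val) hi
    rw [hget] at hform
    rw [hform]
    simp only [tauI]
    by_cases hj : j.val + 1 < k
    · have hmod : (l + j.val + 1) % (arcO p k l ++ arcE p k).length = l + (⟨j.val + 1, hj⟩ : Fin k).val := by
        rw [hlen]
        simp only
        rw [Nat.mod_eq_of_lt (by omega)]
        omega
      have hi2 : l + (⟨j.val + 1, hj⟩ : Fin k).val < (arcO p k l ++ arcE p k).length := by
        rw [hlen]; simp only; omega
      have hget2 := sapperm4_get_new p k l ⟨j.val + 1, hj⟩ hi2
      simp only [hmod]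
      rw [hget2, dif_pos hj]
      rfl
    · have hjk : j.val + 1 = k := by have := j.isLt; omega
      have hmod : (l + j.val + 1) % (arcO p k l ++ arcE p k).length = 0 := by
        rw [hlen, show l + j.val + 1 = l + k by omega, Nat.mod_self]
      have hi2 : 0 < (arcO p k l ++ arcE p k).length := by rw [hlen]; omega
      have hget2 := sapperm4_get_old p k l 0 (by omega) hi2
      simp only [hmod]
      rw [hget2, dif_neg hj]
      simp [pt]

theorem th_ps [NeZero p] : th p k l ps1 = ps1 ∧ th p k l ps2 = ps2 := by
  have h1 : (ps1 : Pt p k) ∉ arcO p k l ++ arcE p k := by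
    intro h
    rcases List.mem_append.mp h with h | h
    · unfold arcO at h
      obtain ⟨j, -, hj⟩ := List.mem_map.mp h
      simp [po, ps1] at hj
    · unfold arcE at h
      obtain ⟨j, -, hj⟩ := List.mem_map.mp h
      simp [pe, ps1] at hj
  have h2 : (ps2 : Pt p k) ∉ arcO p k l ++ arcE p k := by
    intro h
    rcases List.mem_append.mp h with h | h
    · unfold arcO at h
      obtain ⟨j, -, hj⟩ := List.mem_map.mp h
      simp [po, ps2] at hj
    · unfold arcE at h
      obtain ⟨j, -, hj⟩ := List.mem_map.mp h
      simp [pe, ps2] at hj
  exact ⟨List.formPerm_apply_of_notMem h1, List.formPerm_apply_of_notMem h2⟩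

theorem th_conj_zh [NeZero p] (hlp : l + 1 ≤ p) (hl : 1 ≤ l) (y : Ix p k) :
    th p k l * zh y * (th p k l)⁻¹ = zh (tauI p k l y) := by
  unfold zh
  rw [sapperm1_c3_conj, th_pt p k l hlp hl, (th_ps p k l).1, (th_ps p k l).2]

end perm

end Cfsg.Agent.Lib.helper7.SAP
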