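import Mathlib
import Cfsg.Agent.Lib.Helper21.BSQ.Defs

/-! # BSQ row S3 (helper28): a generalised quaternion group whose commutators lie in a subgroup of order 2. -/

set_option autoImplicit false

namespace Cfsg.Agent.Lib.Helper21.BSQ

universe u

/-- S3 [M]. -/
theorem quat_comm_le (n : ℕ) (N : Subgroup (QuaternionGroup (2 ^ n))) (hN : Nat.card ↥N = 2)
    (hc : ∀ x y : QuaternionGroup (2 ^ n), x * y * x⁻¹ * y⁻¹ ∈ N) : n ≤ 1 := by
  have hmem := hc (QuaternionGroup.xa 0) (QuaternionGroup.a 1)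
  have hsq : (QuaternionGroup.xa (0 : ZMod (2 * 2 ^ n)) * QuaternionGroup.a 1 *
      (QuaternionGroup.xa 0)⁻¹ * (QuaternionGroup.a 1)⁻¹) ^ 2 = 1 := by
    have h := pow_card_eq_one' (G := ↥N) (x := ⟨_, hmem⟩)
    rw [hN] at h
    exact congrArg Subtype.val h
  have hcomm : QuaternionGroup.xa (0 : ZMod (2 * 2 ^ n)) * QuaternionGroup.a 1 *
      (QuaternionGroup.xa 0)⁻¹ * (QuaternionGroup.a 1)⁻¹ = QuaternionGroup.a (-2) := by
    have e1 : (QuaternionGroup.xa (0 : ZMod (2 * 2 ^ n)))⁻¹ =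
        QuaternionGroup.xa ((2 ^ n : ℕ) : ZMod (2 * 2 ^ n)) := by
      apply inv_eq_of_mul_eq_one_right
      rw [QuaternionGroup.xa_mul_xa, QuaternionGroup.one_def]
      congr 1
      have : (((2 ^ n : ℕ) : ZMod (2 * 2 ^ n)) + ((2 ^ n : ℕ) : ZMod (2 * 2 ^ n))) = 0 := by
        rw [← Nat.cast_add, ← two_mul]
        exact ZMod.natCast_self _
      rw [sub_zero]
      exact this
    have e2 : (QuaternionGroup.a (1 : ZMod (2 * 2 ^ n)))⁻¹ = QuaternionGroup.a (-1) := by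
      apply inv_eq_of_mul_eq_one_right
      rw [QuaternionGroup.a_mul_a, QuaternionGroup.one_def, add_neg_cancel]
    rw [e1, e2, QuaternionGroup.xa_mul_a, QuaternionGroup.xa_mul_xa, QuaternionGroup.a_mul_a]
    congr 1
    have : (((2 ^ n : ℕ) : ZMod (2 * 2 ^ n)) + ((2 ^ n : ℕ) : ZMod (2 * 2 ^ n))) = 0 := by
      rw [← Nat.cast_add, ← two_mul]
      exact ZMod.natCast_self _
    linear_combination this
  rw [hcomm, pow_two, QuaternionGroup.a_mul_a, QuaternionGroup.one_def] at hsq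
  have h4 : ((4 : ℕ) : ZMod (2 * 2 ^ n)) = 0 := by
    have h := QuaternionGroup.a.inj hsq
    push_cast
    linear_combination (-1 : ZMod (2 * 2 ^ n)) * h
  rw [ZMod.natCast_eq_zero_iff] at h4
  have hle := Nat.le_of_dvd (by norm_num) h4
  by_contra hn
  push Not at hn
  have : 2 ^ 2 ≤ 2 ^ n := Nat.pow_le_pow_right (by norm_num) hn
  omega

end Cfsg.Agent.Lib.Helper21.BSQ
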