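import Mathlib
import Cfsg.Agent.Lib.Helper21.BSQ.Defs
import Cfsg.Agent.Lib.Helper28.BSQS3
import Cfsg.Agent.Lib.Helper29.OddCyclic
import Cfsg.Agent.Lib.Helper1.TwoGroupUnique

/-! # BSQ row S4 (helper28), core: structure of a `p`-subgroup over `N` given uniqueness of the subgroup of order `p`. -/

set_option autoImplicit false

namespace Cfsg.Agent.Lib.Helper28

universe u

/-- Core of BSQ S4: the conclusion of S1 + S2 (a unique subgroup of order `p` in `↥S`) is a hypothesis. -/
theorem bsqs4_core {G : Type u} [Group G] [Finite G] (p : ℕ) [Fact p.Prime] (N : Subgroup G)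
    (hN : Nat.card ↥N = p) (S : Subgroup G) (hSp : IsPGroup p ↥S) (hNS : N ≤ S)
    (hc : ∀ x ∈ S, ∀ y ∈ S, x * y * x⁻¹ * y⁻¹ ∈ N)
    (huniq : ∀ H K : Subgroup ↥S, Nat.card ↥H = p → Nat.card ↥K = p → H = K) :
    IsCyclic ↥S ∨ (p = 2 ∧ Nonempty (↥S ≃* QuaternionGroup 2)) := by
  by_cases hp2 : p = 2
  · subst hp2
    rcases Cfsg.Agent.Lib.Helper1.cyclic_or_quaternion_of_unique hSp huniq with h | ⟨n, ⟨e⟩⟩
    · exact Or.inl h
    · -- transport `N` along `e`
      have hcardN' : Nat.card ↥((N.subgroupOf S).map e.toMonoidHom) = 2 := by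
        rw [Subgroup.card_map_of_injective (f := e.toMonoidHom) e.injective]
        rw [Nat.card_congr (Subgroup.subgroupOfEquivOfLe hNS).toEquiv]
        exact hN
      have hc' : ∀ x y : QuaternionGroup (2 ^ n),
          x * y * x⁻¹ * y⁻¹ ∈ (N.subgroupOf S).map e.toMonoidHom := by
        intro x y
        refine ⟨e.symm x * e.symm y * (e.symm x)⁻¹ * (e.symm y)⁻¹, ?_, ?_⟩
        · rw [SetLike.mem_coe, Subgroup.mem_subgroupOf]
          have := hc (e.symm x : G) (e.symm x).2 (e.symm y : G) (e.symm y).2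
          simpa using this
        · simp
      have hn := Cfsg.Agent.Lib.Helper21.BSQ.quat_comm_le n _ hcardN' hc'
      have hn01 : n = 0 ∨ n = 1 := by omega
      rcases hn01 with rfl | rfl
      · left
        have hcyc : IsCyclic (QuaternionGroup (2 ^ 0)) :=
          QuaternionGroup.quaternionGroup_one_isCyclic
        exact isCyclic_of_surjective e.symm.toMonoidHom e.symm.surjective
      · exact Or.inr ⟨rfl, ⟨e⟩⟩
  · exact Or.inl (Cfsg.Agent.Lib.Helper29.isCyclic_of_unique_subgroup_odd p hp2 hSp huniq)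

end Cfsg.Agent.Lib.Helper28
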