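import Mathlib
import Cfsg.Agent.Lib.Helper21.BSQ.Defs
import Cfsg.Agent.Lib.Helper28.BSQS4core
import Cfsg.Agent.Lib.Helper12.BSQS2
import Cfsg.Agent.S3909

/-! # BSQ row S4 (helper28): structure of a `p`-subgroup over `N` in a B*-group. -/

set_option autoImplicit false

namespace Cfsg.Agent.Lib.Helper21.BSQ

universe u

variable {G : Type u} [Group G]

/-- Spare copy of row S1 under an own name (elements of order `p` lie in `N`), from `S3909.result`. -/
theorem bsqs4_order_p_mem [Finite G] (hB : IsBStar G) (p : ℕ) [Fact p.Prime] (N : Subgroup G)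
    [N.Normal] (hN : Nat.card ↥N = p) (x : G) (hx : orderOf x = p) : x ∈ N := by
  have hp : p.Prime := Fact.out
  have hdvd : p ∣ Nat.card ↥N := by rw [hN]
  obtain ⟨m, hm⟩ := exists_prime_orderOf_dvd_card' (G := ↥N) p hdvd
  refine (Cfsg.Agent.S3909.result hB N).1 x ⟨(m : G), m.2, ?_⟩
  rw [hx, Subgroup.orderOf_coe, hm]

/-- S4 [M] (cites S1 S2 S3). -/
theorem struct [Finite G] (hB : IsBStar G) (p : ℕ) [Fact p.Prime] (N : Subgroup G) [N.Normal]
    (hN : Nat.card ↥N = p) (S : Subgroup G) (hSp : IsPGroup p ↥S) (hNS : N ≤ S)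
    (hc : ∀ x ∈ S, ∀ y ∈ S, x * y * x⁻¹ * y⁻¹ ∈ N) :
    IsCyclic ↥S ∨ (p = 2 ∧ Nonempty (↥S ≃* QuaternionGroup 2)) := by
  exact Cfsg.Agent.Lib.Helper28.bsqs4_core p N hN S hSp hNS hc
    (unique_sub_of_mem p N S hN hNS (fun x _ hx => bsqs4_order_p_mem hB p N hN x hx))

end Cfsg.Agent.Lib.Helper21.BSQ
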