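import Mathlib
import Cfsg.Agent.Lib.helper23.P4S.DefsC

set_option autoImplicit false

/-!
# Project P4C, rows R5 + R5P (helper28): `ρ₂ A` and `τ` preserve `JJ = J₂ ⊗ J₂`.
-/

namespace Cfsg.Agent.Lib.helper23.P4S

open Matrix
open scoped Kronecker

/-- `Aᵀ J₂ A = det A • J₂` for `2 × 2` matrices -/
theorem p4cr5_J2 {R : Type} [CommRing R] (A : Matrix (Fin 2) (Fin 2) R) :
    Aᵀ * J2 * A = A.det • (J2 : Matrix (Fin 2) (Fin 2) R) := by
  ext i j
  fin_cases i <;> fin_cases j <;>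
    simp [J2, Matrix.mul_apply, Fin.sum_univ_two, Matrix.det_fin_two] <;> ring

theorem rho2M_JJ {R : Type} [CommRing R] (φ : R →+* R) (A : Matrix (Fin 2) (Fin 2) R) (hdet : A.det = 1) :
    (rho2M φ A)ᵀ * JJ * rho2M φ A = JJ := by
  have h : (A.map φ).det = 1 := by
    have := RingHom.map_det φ A
    rw [RingHom.mapMatrix_apply] at this
    rw [← this, hdet, map_one]
  unfold rho2M JJ
  rw [← Matrix.kroneckerMap_transpose, ← Matrix.mul_kronecker_mul, ← Matrix.mul_kronecker_mul,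
    p4cr5_J2, p4cr5_J2, hdet, h, one_smul]

theorem tauM_JJ {R : Type} [CommRing R] :
    (tauM : Matrix (Fin 2 × Fin 2) (Fin 2 × Fin 2) R)ᵀ * JJ * tauM = JJ := by
  ext ⟨i, j⟩ ⟨k, l⟩
  fin_cases i <;> fin_cases j <;> fin_cases k <;> fin_cases l <;>
    simp [tauM, JJ, J2, Matrix.mul_apply, Matrix.kroneckerMap_apply]

end Cfsg.Agent.Lib.helper23.P4S
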