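import Mathlib
import Cfsg.Agent.Lib.helper23.P4S.DefsC

set_option autoImplicit false

/-!
# Project P4C, rows R6 + R6P (helper28): `det (ρ₂ A) = 1`, `det τ = -1`.
-/

namespace Cfsg.Agent.Lib.helper23.P4S

open Matrix
open scoped Kronecker

theorem rho2M_det {R : Type} [CommRing R] (φ : R →+* R) (A : Matrix (Fin 2) (Fin 2) R) (hdet : A.det = 1) :
    (rho2M φ A).det = 1 := by
  unfold rho2M
  rw [Matrix.det_kronecker]
  have h : (A.map φ).det = 1 := by
    have := RingHom.map_det φ A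
    rw [RingHom.mapMatrix_apply] at this
    rw [← this, hdet, map_one]
  rw [hdet, h]
  simp

/-- `tauM` is the permutation matrix of `Prod.swap` -/
theorem p4cr6_tauM_eq {R : Type} [CommRing R] :
    (tauM : Matrix (Fin 2 × Fin 2) (Fin 2 × Fin 2) R) =
      Equiv.Perm.permMatrix R (Equiv.prodComm (Fin 2) (Fin 2) : Equiv.Perm (Fin 2 × Fin 2)) := by
  ext ⟨i, j⟩ ⟨k, l⟩
  fin_cases i <;> fin_cases j <;> fin_cases k <;> fin_cases l <;>
    simp [tauM, Equiv.Perm.permMatrix, PEquiv.toMatrix_apply, Equiv.toPEquiv_apply]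

theorem tauM_det {R : Type} [CommRing R] :
    (tauM : Matrix (Fin 2 × Fin 2) (Fin 2 × Fin 2) R).det = -1 := by
  rw [p4cr6_tauM_eq, Matrix.det_permutation]
  have h : Equiv.Perm.sign (Equiv.prodComm (Fin 2) (Fin 2) : Equiv.Perm (Fin 2 × Fin 2)) = -1 := by
    decide
  rw [h]
  simp

end Cfsg.Agent.Lib.helper23.P4S
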