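import Mathlib
import Cfsg.Agent.Lib.helper23.P4S.DefsC

set_option autoImplicit false

/-!
# Project P4C, row R7 (helper28): an isometry of `JJ` of determinant `-1` has a fixed vector.
-/

namespace Cfsg.Agent.Lib.helper23.P4S

open Matrix
open scoped Kronecker

/-- `Mᵀ A M = A`, `det A ≠ 0`, `det (M - 1) ≠ 0` give `det M = (-1)^(card ι)` -/
theorem p4cr7_det {E : Type} [Field E] {ι : Type} [Fintype ι] [DecidableEq ι] (M A : Matrix ι ι E)
    (hMAM : Mᵀ * A * M = A) (hA : A.det ≠ 0) (hM1 : (M - 1).det ≠ 0) :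
    M.det = (-1) ^ Fintype.card ι := by
  have key : Mᵀ * A * (M - 1) = (1 - Mᵀ) * A := by
    rw [mul_sub, hMAM, mul_one, sub_mul, one_mul]
  have h1 : (1 - Mᵀ : Matrix ι ι E) = (-(M - 1))ᵀ := by
    rw [transpose_neg, transpose_sub, transpose_one]
    abel
  have h := congrArg Matrix.det key
  rw [det_mul, det_mul, det_mul, det_transpose, h1, det_transpose, det_neg] at h
  have h3 : (M.det - (-1) ^ Fintype.card ι) * (A.det * (M - 1).det) = 0 := by
    linear_combination h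
  rcases mul_eq_zero.mp h3 with h4 | h4
  · exact sub_eq_zero.mp h4
  · exact absurd h4 (mul_ne_zero hA hM1)

theorem p4cr7_JJ_det {R : Type} [CommRing R] :
    (JJ : Matrix (Fin 2 × Fin 2) (Fin 2 × Fin 2) R).det = 1 := by
  unfold JJ
  rw [Matrix.det_kronecker]
  have h : (J2 : Matrix (Fin 2) (Fin 2) R).det = 1 := by
    simp [J2, Matrix.det_fin_two]
  rw [h]
  simp

theorem fix_of_det {E : Type} [Field E] (h2 : (2 : E) ≠ 0) (M : Matrix (Fin 2 × Fin 2) (Fin 2 × Fin 2) E)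
    (hJ : Mᵀ * JJ * M = JJ) (hdet : M.det = -1) : ∃ v : Fin 2 × Fin 2 → E, v ≠ 0 ∧ M *ᵥ v = v := by
  have hd : (M - 1).det = 0 := by
    by_contra hne
    have h := p4cr7_det M JJ hJ (by rw [p4cr7_JJ_det]; exact one_ne_zero) hne
    rw [hdet] at h
    have hc : Fintype.card (Fin 2 × Fin 2) = 4 := by simp
    rw [hc] at h
    have h4 : ((-1 : E)) ^ 4 = 1 := by ring
    rw [h4] at h
    apply h2
    linear_combination -h
  obtain ⟨v, hv, hMv⟩ := Matrix.exists_mulVec_eq_zero_iff.2 hd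
  refine ⟨v, hv, ?_⟩
  rw [Matrix.sub_mulVec, Matrix.one_mulVec] at hMv
  exact sub_eq_zero.1 hMv

end Cfsg.Agent.Lib.helper23.P4S
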