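import Mathlib
import Cfsg.Agent.Lib.helper23.P4S.DefsC
import Cfsg.Agent.Lib.Helper28.P4CR5
import Cfsg.Agent.Lib.Helper28.P4CR6
import Cfsg.Agent.Lib.Helper28.P4CR7

set_option autoImplicit false

/-!
# Project P4C, rows OUT2 + OUT3 (helper28): the outer elements `ρ₂ A * τ` have even order and a fixed vector.
-/

namespace Cfsg.Agent.Lib.helper23.P4S

open Matrix
open scoped Kronecker

theorem p4cout2_det {E : Type} [Field E] (φ : E →+* E) (A : Matrix.SpecialLinearGroup (Fin 2) E) :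
    (rho2M φ A.1 * tauM).det = -1 := by
  rw [Matrix.det_mul, rho2M_det φ A.1 A.2, tauM_det, one_mul]

theorem outer_even {E : Type} [Field E] (h2 : (2 : E) ≠ 0) (φ : E →+* E) (A : Matrix.SpecialLinearGroup (Fin 2) E) :
    Even (orderOf (rho2 φ A * Tgl)) := by
  set y : GL (Fin 2 × Fin 2) E := rho2 φ A * Tgl with hy
  have hval : ((y : GL (Fin 2 × Fin 2) E) : Matrix (Fin 2 × Fin 2) (Fin 2 × Fin 2) E) = rho2M φ A.1 * tauM := by
    rw [hy, Units.val_mul, rho2_coe, Tgl_coe]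
  have hpow : y ^ orderOf y = 1 := pow_orderOf_eq_one y
  have h1 : (((y ^ orderOf y : GL (Fin 2 × Fin 2) E)) : Matrix (Fin 2 × Fin 2) (Fin 2 × Fin 2) E).det = 1 := by
    rw [hpow]
    simp
  rw [Units.val_pow_eq_pow_val, Matrix.det_pow, hval, p4cout2_det] at h1
  by_contra hodd
  rw [Nat.not_even_iff_odd] at hodd
  rw [hodd.neg_one_pow] at h1
  apply h2
  linear_combination -h1

theorem outer_fix {E : Type} [Field E] (h2 : (2 : E) ≠ 0) (φ : E →+* E) (A : Matrix.SpecialLinearGroup (Fin 2) E) :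
    ∃ v : Fin 2 × Fin 2 → E, v ≠ 0 ∧ (rho2M φ A.1 * tauM) *ᵥ v = v := by
  apply fix_of_det h2
  · rw [Matrix.transpose_mul]
    have : tauMᵀ * (rho2M φ A.1)ᵀ * JJ * (rho2M φ A.1 * tauM) =
        tauMᵀ * ((rho2M φ A.1)ᵀ * JJ * rho2M φ A.1) * tauM := by
      simp only [Matrix.mul_assoc]
    rw [this, rho2M_JJ φ A.1 A.2, tauM_JJ]
  · exact p4cout2_det φ A

end Cfsg.Agent.Lib.helper23.P4S
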