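import Mathlib
import Cfsg.Prelude.Def_Classical
import Cfsg.Agent.S2469
import Cfsg.Agent.S2472
import Cfsg.Agent.S0246
import Cfsg.Agent.Lib.Lead.SympCount

/-!
# S63 piece PB : odd part of the prime graph of `PSp(6,3)`
(instances of the landed S2469 and S2472).
-/

set_option autoImplicit false

namespace Cfsg.Agent.Lib.Helper28.S63

open Cfsg Matrix

theorem pb_card {F : Type*} [Field F] [Fintype F] (hF : Fintype.card F = 3) :
    Nat.card (Cfsg.PSp 3 F) = 4585351680 := by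
  classical
  have h1 := Cfsg.Agent.Lib.Lead.card_Sp_eq_prod (m := 3) (F := F)
  have h2 := Cfsg.Agent.S0246.result hF 3 (by norm_num)
  have h3 := Subgroup.card_eq_card_quotient_mul_card_subgroup
    (Subgroup.center (Matrix.symplecticGroup (Fin 3) F))
  rw [h1, h2, hF] at h3
  have h4 : Nat.card (Cfsg.PSp 3 F) =
      Nat.card (Matrix.symplecticGroup (Fin 3) F ⧸
        Subgroup.center (Matrix.symplecticGroup (Fin 3) F)) := rfl
  rw [h4]
  have h5 : (∏ i ∈ Finset.range 3, ((3 ^ (2 * (3 - i)) - 1) * 3 ^ (2 * (3 - i) - 1)) : ℕ)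
      = 9170703360 := by decide
  have h6 : Nat.gcd 2 (3 - 1) = 2 := by decide
  rw [h5, h6] at h3
  omega

theorem pb_ord5 : orderOf (((3 : ℕ) : ZMod 5)) = 4 := by
  rw [orderOf_eq_iff (by norm_num)]
  refine ⟨by decide, fun m hm hm0 => ?_⟩
  interval_cases m <;> decide

theorem pb_ord7 : orderOf (((3 : ℕ) : ZMod 7)) = 6 := by
  rw [orderOf_eq_iff (by norm_num)]
  refine ⟨by decide, fun m hm hm0 => ?_⟩
  interval_cases m <;> decide

theorem pb_ord13 : orderOf (((3 : ℕ) : ZMod 13)) = 3 := by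
  rw [orderOf_eq_iff (by norm_num)]
  refine ⟨by decide, fun m hm hm0 => ?_⟩
  interval_cases m <;> decide

/-- S63-PB -/
theorem psp_odd {F : Type*} [Field F] [Fintype F] (hF : Fintype.card F = 3) :
    (∃ g : Cfsg.PSp 3 F, orderOf g = 15) ∧ (∀ g : Cfsg.PSp 3 F, orderOf g ≠ 21) ∧
    (∀ g : Cfsg.PSp 3 F, orderOf g ≠ 35) ∧ (∀ g : Cfsg.PSp 3 F, orderOf g ≠ 39) ∧
    (∀ g : Cfsg.PSp 3 F, orderOf g ≠ 65) ∧ (∀ g : Cfsg.PSp 3 F, orderOf g ≠ 91) := by
  have : Fact (Nat.Prime 3) := ⟨by norm_num⟩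
  have : CharP F 3 := charP_of_card_eq_prime hF
  have hcard := pb_card hF
  have h5 : 5 ∣ Nat.card (Cfsg.PSp 3 F) := by rw [hcard]; norm_num
  have h7 : 7 ∣ Nat.card (Cfsg.PSp 3 F) := by rw [hcard]; norm_num
  have h13 : 13 ∣ Nat.card (Cfsg.PSp 3 F) := by rw [hcard]; norm_num
  have hsmall : (3 : ℕ) = 2 → 3 ≤ Fintype.card F := by intro h; omega
  have ho5 : (4 : ℕ) = orderOf ((Fintype.card F : ℕ) : ZMod 5) := by rw [hF, pb_ord5]
  have ho7 : (6 : ℕ) = orderOf ((Fintype.card F : ℕ) : ZMod 7) := by rw [hF, pb_ord7]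
  have ho13 : (3 : ℕ) = orderOf ((Fintype.card F : ℕ) : ZMod 13) := by rw [hF, pb_ord13]
  have e4 : (Odd 4 ∧ 2 = 4) ∨ (Even 4 ∧ 2 * 2 = 4) := Or.inr ⟨by decide, by norm_num⟩
  have e6 : (Odd 6 ∧ 3 = 6) ∨ (Even 6 ∧ 2 * 3 = 6) := Or.inr ⟨by decide, by norm_num⟩
  have e3 : (Odd 3 ∧ 3 = 3) ∨ (Even 3 ∧ 2 * 3 = 3) := Or.inl ⟨by decide, rfl⟩
  -- prime times characteristic
  have a15 := Cfsg.Agent.S2472.result (F := F) 3 3 (by norm_num) hsmall 5 (by norm_num)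
    (by norm_num) (by norm_num) h5 4 2 ho5 e4
  have a21 := Cfsg.Agent.S2472.result (F := F) 3 3 (by norm_num) hsmall 7 (by norm_num)
    (by norm_num) (by norm_num) h7 6 3 ho7 e6
  have a39 := Cfsg.Agent.S2472.result (F := F) 3 3 (by norm_num) hsmall 13 (by norm_num)
    (by norm_num) (by norm_num) h13 3 3 ho13 e3
  -- two odd primes
  have a35 := Cfsg.Agent.S2469.result (F := F) 3 3 (by norm_num) hsmall 5 7 (by norm_num)
    (by norm_num) (by norm_num) (by norm_num) (by norm_num) (by norm_num) (by norm_num) h5 h7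
    4 6 2 3 ho5 ho7 e4 e6 (by norm_num)
  have a65 := Cfsg.Agent.S2469.result (F := F) 3 3 (by norm_num) hsmall 5 13 (by norm_num)
    (by norm_num) (by norm_num) (by norm_num) (by norm_num) (by norm_num) (by norm_num) h5 h13
    4 3 2 3 ho5 ho13 e4 e3 (by norm_num)
  have a91 := Cfsg.Agent.S2469.result (F := F) 3 3 (by norm_num) hsmall 7 13 (by norm_num)
    (by norm_num) (by norm_num) (by norm_num) (by norm_num) (by norm_num) (by norm_num) h7 h13
    6 3 3 3 ho7 ho13 e6 e3 (by norm_num)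
  refine ⟨?_, ?_, ?_, ?_, ?_, ?_⟩
  · by_contra hne
    have : (5 * 3 : ℕ) ∉ Set.range (orderOf : Cfsg.PSp 3 F → ℕ) := by
      rintro ⟨g, hg⟩
      exact hne ⟨g, by rw [hg]⟩
    have := a15.1 this
    omega
  · intro g hg
    exact a21.2 (by norm_num) ⟨g, by rw [hg]⟩
  · intro g hg
    refine a35.2 ⟨by norm_num, ?_⟩ ⟨g, by rw [hg]⟩
    rintro ⟨t, -, ht⟩
    omega
  · intro g hg
    exact a39.2 (by norm_num) ⟨g, by rw [hg]⟩
  · intro g hg
    refine a65.2 ⟨by norm_num, ?_⟩ ⟨g, by rw [hg]⟩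
    rintro ⟨t, -, ht⟩
    omega
  · intro g hg
    refine a91.2 ⟨by norm_num, ?_⟩ ⟨g, by rw [hg]⟩
    rintro ⟨t, -, ht⟩
    omega

end Cfsg.Agent.Lib.Helper28.S63
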