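import Cfsg.Agent.Lib.Helper28.TOOPERP
import Cfsg.Agent.Lib.Helper13.TOOGA4
import Cfsg.Agent.Lib.Helper13.TOOGA5
import Cfsg.Agent.Lib.Helper27.TOOGA9

/-!
# Project TOO, rows GH3 (`sup_eq_perp`) and GA10 (`img_ts`, `finrank_img`) (helper28)
-/

set_option autoImplicit false
set_option linter.unusedVariables false
set_option linter.unusedSectionVars false

namespace Cfsg.Agent.Lib.Helper28.TOO

open Matrix
open scoped Kronecker
open Cfsg.Agent.Lib.helper7.TP Cfsg.Agent.Lib.Helper21.TS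

variable {a b : ℕ} {F : Type*} [Field F]
variable {J1 : Matrix (Fin a) (Fin a) F} {J2 : Matrix (Fin b) (Fin b) F}

/-- GH3 [M]. dimension count: `L^⊥ = U + L`. -/
theorem sup_eq_perp (C : OCtx J1 J2) (w₁ w₂ : Fin b → F) (hw : IsTS J2 w₁ w₂)
    (S : Submodule F (Fin a × Fin b → F)) (hSts : S ≤ perp (JV J1 J2) S) (hSdim : Module.finrank F ↥S = 2 * a)
    (hK : S ⊓ perp (JV J1 J2) (Lpl (a := a) w₁ w₂) ≤ Lpl (a := a) w₁ w₂) :
    perp (JV J1 J2) (Lpl (a := a) w₁ w₂) ≤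
      (perp (JV J1 J2) (Lpl (a := a) w₁ w₂) ⊓ perp (JV J1 J2) S) ⊔ Lpl (a := a) w₁ w₂ := by
  classical
  have hLle := Lpl_le_perp C w₁ w₂ hw
  have hLdim : Module.finrank F ↥(Lpl (a := a) w₁ w₂) = 2 * a := finrank_Lpl w₁ w₂ hw.2.2.2
  have hle : (perp (JV J1 J2) (Lpl (a := a) w₁ w₂) ⊓ perp (JV J1 J2) S) ⊔ Lpl (a := a) w₁ w₂ ≤
      perp (JV J1 J2) (Lpl (a := a) w₁ w₂) := sup_le inf_le_left hLle
  have h1 := perp_finrank C (Lpl (a := a) w₁ w₂)
  have h2 := perp_finrank C (Lpl (a := a) w₁ w₂ ⊔ S)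
  rw [perp_sup] at h2
  have h3 := Submodule.finrank_sup_add_finrank_inf_eq (Lpl (a := a) w₁ w₂) S
  have h4 := Submodule.finrank_sup_add_finrank_inf_eq
    (perp (JV J1 J2) (Lpl (a := a) w₁ w₂) ⊓ perp (JV J1 J2) S) (Lpl (a := a) w₁ w₂)
  have h5 : (perp (JV J1 J2) (Lpl (a := a) w₁ w₂) ⊓ perp (JV J1 J2) S) ⊓ Lpl (a := a) w₁ w₂ =
      Lpl (a := a) w₁ w₂ ⊓ perp (JV J1 J2) S := by
    apply le_antisymm
    · exact le_inf inf_le_right (inf_le_left.trans inf_le_right)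
    · exact le_inf (le_inf (inf_le_left.trans hLle) inf_le_right) inf_le_left
  have h6 := finrank_inf_perp_comm C (Lpl (a := a) w₁ w₂) S (by rw [hLdim, hSdim])
  have h7 : S ⊓ perp (JV J1 J2) (Lpl (a := a) w₁ w₂) = Lpl (a := a) w₁ w₂ ⊓ S := by
    apply le_antisymm
    · exact le_inf hK inf_le_left
    · exact le_inf inf_le_right (inf_le_left.trans hLle)
  rw [h5, h6, h7] at h4
  have h8 : Module.finrank F ↥(perp (JV J1 J2) (Lpl (a := a) w₁ w₂)) ≤
      Module.finrank F ↥((perp (JV J1 J2) (Lpl (a := a) w₁ w₂) ⊓ perp (JV J1 J2) S) ⊔ Lpl (a := a) w₁ w₂) := by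
    omega
  have h9 := Submodule.eq_of_le_of_finrank_le hle h8
  rw [h9]

/-- GA10 [S-M]. -/
theorem img_ts (g : Matrix.GeneralLinearGroup (Fin a × Fin b) F) (hg : g ∈ OV J1 J2)
    (S : Submodule F (Fin a × Fin b → F)) (h : S ≤ perp (JV J1 J2) S) :
    img g S ≤ perp (JV J1 J2) (img g S) := by
  have hiso := (mem_Iso_iff_bf (JV J1 J2) g).mp hg
  intro v hv s hs
  obtain ⟨v', hv', rfl⟩ := (mem_img g S v).mp hv
  obtain ⟨s', hs', rfl⟩ := (mem_img g S s).mp hs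
  rw [hiso]
  exact h hv' s' hs'

theorem finrank_img (g : Matrix.GeneralLinearGroup (Fin a × Fin b) F) (S : Submodule F (Fin a × Fin b → F)) :
    Module.finrank F ↥(img g S) = Module.finrank F ↥S := by
  unfold img
  have hinj : Function.Injective (Matrix.toLin' (g : Matrix (Fin a × Fin b) (Fin a × Fin b) F)) := by
    intro x y hxy
    have h1 := congrArg (fun v => ((g⁻¹ : Matrix.GeneralLinearGroup (Fin a × Fin b) F) :
      Matrix (Fin a × Fin b) (Fin a × Fin b) F) *ᵥ v) hxy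
    simp only [Matrix.toLin'_apply, Matrix.mulVec_mulVec, ← Units.val_mul, inv_mul_cancel, Units.val_one,
      Matrix.one_mulVec] at h1
    exact h1
  exact (LinearEquiv.finrank_eq (Submodule.equivMapOfInjective _ hinj S)).symm

end Cfsg.Agent.Lib.Helper28.TOO
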