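import Cfsg.Agent.Lib.helper6.TS4.Defs
import Cfsg.Agent.Lib.Helper27.TS2GRP
import Cfsg.Agent.Lib.Helper1.TSNTAa

/-!
# Project TS4, piece MEET (helper28): `meetA_of_ufpA`
The Sylow trick with `x = x_{u₀}(1)`, `r = x_u(1)`, `T = T0`; every element of `⟨r, g x g⁻¹⟩` fixes
`L_u^⊥ ∩ S^⊥` pointwise and moves every vector by an element of `L_u + S`.
-/

set_option autoImplicit false
set_option linter.unusedSectionVars false
set_option linter.unusedVariables false

namespace Cfsg.Agent.Lib.Helper21.TS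

open Matrix
open scoped Kronecker
open Cfsg.Agent.Lib.helper7.TP

variable {a b : ℕ} {F : Type*} [Field F]
variable {J1 : Matrix (Fin a) (Fin a) F} {J2 : Matrix (Fin b) (Fin b) F}

theorem ts4meet_XAm_pow (J1 : Matrix (Fin a) (Fin a) F) (u : Fin a → F) (hu : bf J1 u u = 0)
    (η : Matrix (Fin b) (Fin b) F) (n : ℕ) : XAm J1 u η ^ n = XAm J1 u ((n : F) • η) := by
  induction n with
  | zero => rw [pow_zero, Nat.cast_zero, zero_smul, XAm_zero]
  | succ n ih =>
    rw [pow_succ, ih, XAm_mul J1 u hu, Nat.cast_succ, add_smul, one_smul]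

theorem ts4meet_ten_zero (u : Fin a → F) : ten u (0 : Fin b → F) = 0 := by
  funext p
  simp [ten]

/-- `v ⊥ L_u` gives `π_u v = 0`. -/
theorem ts4meet_tsP_zero (C : Ctx J1 J2) (u : Fin a → F) (v : Fin a × Fin b → F)
    (h : ∀ y' : Fin b → F, bf (JV J1 J2) v (ten u y') = 0) : tsP J1 u v = 0 := by
  apply tsnta_bf_cancel C.det2
  intro y
  rw [← tsnta_bf_left, bf_zero_right, bf_alt (JV_transpose C.alt C.sym), h, neg_zero]

theorem ts4meet_inv_mulVec (g : Matrix.GeneralLinearGroup (Fin a × Fin b) F)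
    (v : Fin a × Fin b → F) :
    (g : Matrix (Fin a × Fin b) (Fin a × Fin b) F) *ᵥ
      (((g⁻¹ : Matrix.GeneralLinearGroup (Fin a × Fin b) F) :
        Matrix (Fin a × Fin b) (Fin a × Fin b) F) *ᵥ v) = v := by
  rw [Matrix.mulVec_mulVec, ← Units.val_mul, mul_inv_cancel, Units.val_one, Matrix.one_mulVec]

theorem ts4meet_inv_mulVec' (g : Matrix.GeneralLinearGroup (Fin a × Fin b) F)
    (v : Fin a × Fin b → F) :
    ((g⁻¹ : Matrix.GeneralLinearGroup (Fin a × Fin b) F) :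
        Matrix (Fin a × Fin b) (Fin a × Fin b) F) *ᵥ
      ((g : Matrix (Fin a × Fin b) (Fin a × Fin b) F) *ᵥ v) = v := by
  rw [Matrix.mulVec_mulVec, ← Units.val_mul, inv_mul_cancel, Units.val_one, Matrix.one_mulVec]

/-- MEET. -/
theorem meetA_of_ufpA [Fintype F] (p : ℕ) [Fact p.Prime] [CharP F p] (C : Ctx J1 J2)
    (M : Subgroup (Matrix.GeneralLinearGroup (Fin a × Fin b) F)) (hT0 : T0 J1 J2 ≤ M)
    (hMS : M ≤ SpV J1 J2) (hU : UfpA J1 J2 M)
    (g : Matrix.GeneralLinearGroup (Fin a × Fin b) F) (hg : g ∈ M)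
    (u₀ u : Fin a → F) (hu₀ : u₀ ≠ 0) (hu : u ≠ 0) :
    ∃ u' : Fin a → F, u' ≠ 0 ∧ MeetAt J1 J2 g u₀ u u' := by
  classical
  have huu : bf J1 u u = 0 := bf_self_alt C.alt C.two u
  have huu₀ : bf J1 u₀ u₀ = 0 := bf_self_alt C.alt C.two u₀
  have hp0 : ((p : ℕ) : F) = 0 := CharP.cast_eq_zero F p
  have hgS : g ∈ SpV J1 J2 := hMS hg
  have hgiso := (mem_Iso_iff_bf (JV J1 J2) g).mp hgS
  -- the two root elements
  have hxA_T : ∀ w : Fin a → F, xA C w 1 ∈ T0 J1 J2 := by
    intro w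
    have hww : bf J1 w w = 0 := bf_self_alt C.alt C.two w
    have hxeq : xA C w 1 = kronG (tvG J1 w hww 1) (1 : Matrix.GeneralLinearGroup (Fin b) F) := by
      apply Units.ext
      rw [xA_coe, kronG_coe, XAm_scalar, tvG_coe, Units.val_one]
    rw [hxeq]
    exact kronG_mem_T0 (tvG_mem_Iso C.alt w hww 1) (Subgroup.one_mem _)
  have hxA_p : ∀ w : Fin a → F, ∃ k : ℕ, (xA C w 1) ^ p ^ k = 1 := by
    intro w
    have hww : bf J1 w w = 0 := bf_self_alt C.alt C.two w
    refine ⟨1, ?_⟩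
    apply Units.ext
    rw [pow_one, Units.val_pow_eq_pow_val, xA_coe, ts4meet_XAm_pow J1 w hww, hp0, zero_smul, XAm_zero,
      Units.val_one]
  set x₀ : Matrix.GeneralLinearGroup (Fin a × Fin b) F := xA C u₀ 1 with hx₀
  set r : Matrix.GeneralLinearGroup (Fin a × Fin b) F := xA C u 1 with hr
  have hx₀coe : (x₀ : Matrix (Fin a × Fin b) (Fin a × Fin b) F) =
      XAm J1 u₀ ((1 : F) • (1 : Matrix (Fin b) (Fin b) F)) := xA_coe C u₀ 1
  have hrcoe : (r : Matrix (Fin a × Fin b) (Fin a × Fin b) F) =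
      XAm J1 u ((1 : F) • (1 : Matrix (Fin b) (Fin b) F)) := xA_coe C u 1
  -- the Sylow trick
  obtain ⟨d, hd, hdg⟩ := sylow_trick p (T0 J1 J2) M x₀ r g (hxA_T u₀) (hT0 (hxA_T u₀))
    (hT0 (hxA_T u)) hg (hxA_p u₀) (hxA_p u)
    (fun v hv hvx => hU u₀ 1 x₀ hu₀ one_ne_zero hx₀coe v hv hvx)
    (fun h hh hhr => hU u 1 r hu one_ne_zero hrcoe h hh hhr)
  obtain ⟨α, β, hαβ⟩ := (mem_K0 (d * g)).mp (Subgroup.mem_inf.mp hdg).1
  have hαu : (α : Matrix (Fin a) (Fin a) F) *ᵥ u₀ ≠ 0 := by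
    intro h0
    apply hu₀
    have : ((α⁻¹ : Matrix.GeneralLinearGroup (Fin a) F) : Matrix (Fin a) (Fin a) F) *ᵥ
        ((α : Matrix (Fin a) (Fin a) F) *ᵥ u₀) = u₀ := by
      rw [Matrix.mulVec_mulVec, ← Units.val_mul, inv_mul_cancel, Units.val_one, Matrix.one_mulVec]
    rw [← this, h0, Matrix.mulVec_zero]
  -- action of the generators
  have hr_act : ∀ v : Fin a × Fin b → F,
      (r : Matrix (Fin a × Fin b) (Fin a × Fin b) F) *ᵥ v =
        v + ten u (((1 : F) • (1 : Matrix (Fin b) (Fin b) F)) *ᵥ tsP J1 u v) := by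
    intro v
    rw [hrcoe, tsnta_XAm_mulVec]
  have hy_act : ∀ v : Fin a × Fin b → F,
      ((g * x₀ * g⁻¹ : Matrix.GeneralLinearGroup (Fin a × Fin b) F) :
        Matrix (Fin a × Fin b) (Fin a × Fin b) F) *ᵥ v =
        v + (g : Matrix (Fin a × Fin b) (Fin a × Fin b) F) *ᵥ
          ten u₀ (((1 : F) • (1 : Matrix (Fin b) (Fin b) F)) *ᵥ tsP J1 u₀
            (((g⁻¹ : Matrix.GeneralLinearGroup (Fin a × Fin b) F) :
              Matrix (Fin a × Fin b) (Fin a × Fin b) F) *ᵥ v)) := by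
    intro v
    rw [Units.val_mul, Units.val_mul, ← Matrix.mulVec_mulVec, ← Matrix.mulVec_mulVec, hx₀coe,
      tsnta_XAm_mulVec, Matrix.mulVec_add, ts4meet_inv_mulVec]
  -- the invariant of the closure
  have hP : ∀ d' ∈ Subgroup.closure ({r, g * x₀ * g⁻¹} :
      Set (Matrix.GeneralLinearGroup (Fin a × Fin b) F)),
      (∀ v : Fin a × Fin b → F, (∀ y' : Fin b → F, bf (JV J1 J2) v (ten u y') = 0) →
        (∀ y' : Fin b → F, bf (JV J1 J2) v
          ((g : Matrix (Fin a × Fin b) (Fin a × Fin b) F) *ᵥ ten u₀ y') = 0) →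
        (d' : Matrix (Fin a × Fin b) (Fin a × Fin b) F) *ᵥ v = v) ∧
      (∀ v : Fin a × Fin b → F, ∃ y₁ y₂ : Fin b → F,
        (d' : Matrix (Fin a × Fin b) (Fin a × Fin b) F) *ᵥ v =
          v + ten u y₁ + (g : Matrix (Fin a × Fin b) (Fin a × Fin b) F) *ᵥ ten u₀ y₂) := by
    intro d' hd'
    induction hd' using Subgroup.closure_induction with
    | mem y hy =>
      rcases hy with rfl | hy
      · constructor
        · intro v hv1 _
          rw [hr_act, ts4meet_tsP_zero C u v hv1, Matrix.mulVec_zero, ts4meet_ten_zero, add_zero]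
        · intro v
          refine ⟨((1 : F) • (1 : Matrix (Fin b) (Fin b) F)) *ᵥ tsP J1 u v, 0, ?_⟩
          rw [hr_act, ts4meet_ten_zero, Matrix.mulVec_zero, add_zero]
      · rw [Set.mem_singleton_iff] at hy
        subst hy
        constructor
        · intro v _ hv2
          have hz : tsP J1 u₀ (((g⁻¹ : Matrix.GeneralLinearGroup (Fin a × Fin b) F) :
              Matrix (Fin a × Fin b) (Fin a × Fin b) F) *ᵥ v) = 0 := by
            apply ts4meet_tsP_zero C
            intro y'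
            rw [← hgiso, ts4meet_inv_mulVec]
            exact hv2 y'
          rw [hy_act, hz, Matrix.mulVec_zero, ts4meet_ten_zero, Matrix.mulVec_zero, add_zero]
        · intro v
          refine ⟨0, ((1 : F) • (1 : Matrix (Fin b) (Fin b) F)) *ᵥ tsP J1 u₀
            (((g⁻¹ : Matrix.GeneralLinearGroup (Fin a × Fin b) F) :
              Matrix (Fin a × Fin b) (Fin a × Fin b) F) *ᵥ v), ?_⟩
          rw [hy_act, ts4meet_ten_zero, add_zero]
    | one =>
      constructor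
      · intro v _ _
        rw [Units.val_one, Matrix.one_mulVec]
      · intro v
        refine ⟨0, 0, ?_⟩
        rw [Units.val_one, Matrix.one_mulVec, ts4meet_ten_zero, ts4meet_ten_zero, Matrix.mulVec_zero,
          add_zero, add_zero]
    | mul y y' _ _ ihy ihy' =>
      constructor
      · intro v hv1 hv2
        rw [Units.val_mul, ← Matrix.mulVec_mulVec, ihy'.1 v hv1 hv2, ihy.1 v hv1 hv2]
      · intro v
        obtain ⟨y₁, y₂, h1⟩ := ihy'.2 v
        obtain ⟨z₁, z₂, h2⟩ := ihy.2 ((y' : Matrix (Fin a × Fin b) (Fin a × Fin b) F) *ᵥ v)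
        refine ⟨y₁ + z₁, y₂ + z₂, ?_⟩
        rw [Units.val_mul, ← Matrix.mulVec_mulVec, h2, h1, ten_add_right, ten_add_right,
          Matrix.mulVec_add]
        abel
    | inv y _ ihy =>
      constructor
      · intro v hv1 hv2
        have h1 := ihy.1 v hv1 hv2
        have h2 := ts4meet_inv_mulVec' y v
        rw [h1] at h2
        exact h2
      · intro v
        obtain ⟨y₁, y₂, h1⟩ := ihy.2 (((y⁻¹ : Matrix.GeneralLinearGroup (Fin a × Fin b) F) :
          Matrix (Fin a × Fin b) (Fin a × Fin b) F) *ᵥ v)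
        rw [ts4meet_inv_mulVec] at h1
        refine ⟨-y₁, -y₂, ?_⟩
        have e1 : ten u (-y₁) = -ten u y₁ := by
          have := ten_smul_right (-1 : F) u y₁
          rw [neg_one_smul, neg_one_smul] at this
          exact this
        have e2 : ten u₀ (-y₂) = -ten u₀ y₂ := by
          have := ten_smul_right (-1 : F) u₀ y₂
          rw [neg_one_smul, neg_one_smul] at this
          exact this
        have h1' : ((y⁻¹ : Matrix.GeneralLinearGroup (Fin a × Fin b) F) :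
            Matrix (Fin a × Fin b) (Fin a × Fin b) F) *ᵥ v =
            v - ten u y₁ - (g : Matrix (Fin a × Fin b) (Fin a × Fin b) F) *ᵥ ten u₀ y₂ := by
          rw [eq_sub_iff_add_eq, eq_sub_iff_add_eq, add_right_comm]
          exact h1.symm
        rw [e1, e2, Matrix.mulVec_neg, h1']
        abel
  obtain ⟨hfix, hmove⟩ := hP d hd
  have hdg_act : ∀ y : Fin b → F,
      (d : Matrix (Fin a × Fin b) (Fin a × Fin b) F) *ᵥ
        ((g : Matrix (Fin a × Fin b) (Fin a × Fin b) F) *ᵥ ten u₀ y) =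
      ten ((α : Matrix (Fin a) (Fin a) F) *ᵥ u₀) ((β : Matrix (Fin b) (Fin b) F) *ᵥ y) := by
    intro y
    rw [Matrix.mulVec_mulVec, ← Units.val_mul, hαβ, kron_mulVec_ten]
  refine ⟨(α : Matrix (Fin a) (Fin a) F) *ᵥ u₀, hαu, ?_, ?_⟩
  · intro y hy
    refine ⟨(β : Matrix (Fin b) (Fin b) F) *ᵥ y, ?_⟩
    have hs2 : ∀ y' : Fin b → F, bf (JV J1 J2)
        ((g : Matrix (Fin a × Fin b) (Fin a × Fin b) F) *ᵥ ten u₀ y)
        ((g : Matrix (Fin a × Fin b) (Fin a × Fin b) F) *ᵥ ten u₀ y') = 0 := by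
      intro y'
      rw [hgiso, bf_JV_ten, huu₀, zero_mul]
    have h1 := hfix _ hy hs2
    rw [hdg_act] at h1
    exact h1.symm
  · intro y
    set z : Fin b → F := ((β⁻¹ : Matrix.GeneralLinearGroup (Fin b) F) : Matrix (Fin b) (Fin b) F) *ᵥ y
      with hz
    have hβz : (β : Matrix (Fin b) (Fin b) F) *ᵥ z = y := by
      rw [hz, Matrix.mulVec_mulVec, ← Units.val_mul, mul_inv_cancel, Units.val_one, Matrix.one_mulVec]
    obtain ⟨y₁, y₂, h1⟩ := hmove ((g : Matrix (Fin a × Fin b) (Fin a × Fin b) F) *ᵥ ten u₀ z)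
    rw [hdg_act, hβz] at h1
    refine ⟨y₁, z + y₂, ?_⟩
    rw [h1, ten_add_right, Matrix.mulVec_add]
    abel

end Cfsg.Agent.Lib.Helper21.TS
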