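import Mathlib
import Cfsg.Agent.Lib.Lead.W2P.Defs
import Cfsg.Agent.Lib.Helper28.W2PPDUAL

/-!
# Project W2P, piece PERNORM : `∑_j |per (Φ j) x|² = p - f` on `P ∖ 1`
-/

set_option autoImplicit false
set_option linter.unusedVariables false
set_option linter.unusedSectionVars false
open scoped ComplexConjugate
open Classical

namespace Cfsg.Agent.Lib.Lead.W2P

open MulAction Cfsg.Agent.Lib.helper6.PermChar Cfsg.Agent.Lib.Helper25

universe u v

section C

variable {G : Type u} [Group G] [Fintype G] {p : ℕ} [Fact p.Prime] {P : Subgroup G}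

/-- conjugation by an element of the normalizer preserves `P` -/
theorem w2ppernorm_conj_mem {n : G} (hn : n ∈ Subgroup.normalizer (P : Set G)) {y : G} (hy : y ∈ P) :
    n⁻¹ * y * n ∈ P := by
  have hn' : n⁻¹ ∈ Subgroup.normalizer (P : Set G) := Subgroup.inv_mem _ hn
  have := (Subgroup.mem_normalizer_iff.mp hn' y).mp hy
  simpa using this

/-- `conj (φ y) = φ y⁻¹` for `y ∈ P` -/
theorem w2ppernorm_conj (hP : Nat.card P = p) {φ : G → ℂ} (hφ : IsPChar P φ) {y : G} (hy : y ∈ P) :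
    conj (φ y) = φ y⁻¹ := by
  have hpp : p.Prime := Fact.out
  have hyp : y ^ p = 1 := by
    have : (⟨y, hy⟩ : ↥P) ^ p = 1 := by
      rw [← hP]; exact pow_card_eq_one'
    exact congrArg Subtype.val this
  have h1 : φ y ^ p = 1 := by
    rw [← w2ppdual_pow hφ hy, hyp, hφ.one]
  have h2 : ‖φ y‖ = 1 := Complex.norm_eq_one_of_pow_eq_one h1 hpp.ne_zero
  have h3 : φ y⁻¹ * φ y = 1 := by
    rw [← hφ.mul _ (P.inv_mem hy) _ hy, inv_mul_cancel, hφ.one]
  have h4 : φ y ≠ 0 := by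
    intro h
    rw [h, mul_zero] at h3
    exact zero_ne_one h3
  rw [← Complex.inv_eq_conj h2]
  exact (eq_inv_of_mul_eq_one_left h3).symm

/-- `|N| = f |C|` -/
theorem w2ppernorm_card (P : Subgroup G) :
    Nat.card ↥(Subgroup.normalizer (P : Set G)) =
      fIdx P * Nat.card ↥(Subgroup.centralizer (P : Set G)) := by
  have hle : Subgroup.centralizer (P : Set G) ≤ Subgroup.normalizer (P : Set G) :=
    Subgroup.centralizer_le_normalizer _
  unfold fIdx Subgroup.relIndex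
  rw [← Subgroup.card_mul_index
    ((Subgroup.centralizer (P : Set G)).subgroupOf (Subgroup.normalizer (P : Set G))),
    Nat.card_congr (Subgroup.subgroupOfEquivOfLe hle).toEquiv, mul_comm]

/-- PERNORM : if the orbit sums `per (Φ j)` add up to `ρ_P - 1_P`, then `∑_j |per (Φ j) x|² = p - f` on `P ∖ 1` -/
theorem per_norm_sum (hP : Nat.card P = p) {ι : Type*} [Fintype ι] (Φ : ι → G → ℂ)
    (hΦ : ∀ j, IsPChar P (Φ j)) (hnt : ∀ j, ∃ x ∈ P, Φ j x ≠ 1)
    (hsum : ∀ x ∈ P, x ≠ 1 → ∑ j, per P (Φ j) x = -1)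
    (hcard : Fintype.card ι * fIdx P = p - 1) (x : G) (hx : x ∈ P) (hx1 : x ≠ 1) :
    ∑ j, per P (Φ j) x * conj (per P (Φ j) x) = (p : ℂ) - (fIdx P : ℂ) := by
  have hpp : p.Prime := Fact.out
  set N := Subgroup.normalizer (P : Set G) with hN
  set C := Subgroup.centralizer (P : Set G) with hC
  have hCN : C ≤ N := Subgroup.centralizer_le_normalizer _
  set c : ℂ := (Nat.card ↥C : ℂ) with hc
  have hc0 : c ≠ 0 := by
    rw [hc]; exact_mod_cast Nat.card_pos.ne'
  -- the function `A`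
  let A : G → ℂ := fun z => ∑ j, ∑ n : ↥N, Φ j ((n : G)⁻¹ * z * (n : G))
  have hper : ∀ (j : ι) (z : G), per P (Φ j) z = c⁻¹ * ∑ n : ↥N, Φ j ((n : G)⁻¹ * z * (n : G)) := by
    intro j z; rfl
  have hA1 : A 1 = (Fintype.card ι : ℂ) * (Nat.card ↥N : ℂ) := by
    show ∑ j, ∑ n : ↥N, Φ j ((n : G)⁻¹ * 1 * (n : G)) = _
    have : ∀ (j : ι) (n : ↥N), Φ j ((n : G)⁻¹ * 1 * (n : G)) = 1 := by
      intro j n
      rw [mul_one, inv_mul_cancel, (hΦ j).one]
    rw [Finset.sum_congr rfl (fun j _ => Finset.sum_congr rfl (fun n _ => this j n))]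
    simp only [Finset.sum_const, Finset.card_univ, nsmul_eq_mul, mul_one]
    rw [Nat.card_eq_fintype_card]
  have hAz : ∀ z ∈ P, z ≠ 1 → A z = -c := by
    intro z hz hz1
    have h := hsum z hz hz1
    simp only [hper] at h
    rw [← Finset.mul_sum] at h
    have : A z = c * (c⁻¹ * A z) := by
      rw [← mul_assoc, mul_inv_cancel₀ hc0, one_mul]
    rw [this]
    show c * (c⁻¹ * ∑ j, ∑ n : ↥N, Φ j ((n : G)⁻¹ * z * (n : G))) = -c
    rw [h]; ring
  -- the elements `z m`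
  let z : ↥N → G := fun m => x * (m : G)⁻¹ * x⁻¹ * (m : G)
  have hzP : ∀ m : ↥N, z m ∈ P := by
    intro m
    have h1 : (m : G)⁻¹ * x⁻¹ * (m : G) ∈ P := w2ppernorm_conj_mem m.2 (P.inv_mem hx)
    have : z m = x * ((m : G)⁻¹ * x⁻¹ * (m : G)) := by
      show x * (m : G)⁻¹ * x⁻¹ * (m : G) = _
      group
    rw [this]
    exact P.mul_mem hx h1
  have hz1 : ∀ m : ↥N, z m = 1 ↔ (m : G) ∈ C := by
    intro m
    constructor
    · intro h
      -- `m` commutes with `x`, hence with `P`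
      have hcomm : (m : G) * x = x * (m : G) := by
        have h' : x * (m : G)⁻¹ * x⁻¹ * (m : G) = 1 := h
        have : x * (m : G)⁻¹ * x⁻¹ = (m : G)⁻¹ := by
          have := congrArg (fun t => t * (m : G)⁻¹) h'
          simpa [mul_assoc] using this
        have h2 : (m : G) * (x * (m : G)⁻¹ * x⁻¹) * x * (m : G) = (m : G) * (m : G)⁻¹ * x * (m : G) := by
          rw [this]
        have h3 : (m : G) * (x * (m : G)⁻¹ * x⁻¹) * x * (m : G) = (m : G) * x := by group
        have h4 : (m : G) * (m : G)⁻¹ * x * (m : G) = x * (m : G) := by group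
        rw [h3, h4] at h2
        exact h2
      rw [hC, Subgroup.mem_centralizer_iff]
      intro y hy
      obtain ⟨k, rfl⟩ := w2ppdual_gen hP hx hx1 hy
      exact ((Commute.pow_right (show Commute (m : G) x from hcomm) k).eq).symm
    · intro h
      rw [hC, Subgroup.mem_centralizer_iff] at h
      have h1 : x * (m : G) = (m : G) * x := h x hx
      show x * (m : G)⁻¹ * x⁻¹ * (m : G) = 1
      have : x * (m : G)⁻¹ = (m : G)⁻¹ * x := by
        have := congrArg (fun t => (m : G)⁻¹ * t * (m : G)⁻¹) h1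
        simpa [mul_assoc] using this.symm
      rw [this]; group
  -- each summand
  have hterm : ∀ j : ι, per P (Φ j) x * conj (per P (Φ j) x) =
      c⁻¹ ^ 2 * ∑ m : ↥N, ∑ n : ↥N, Φ j ((n : G)⁻¹ * z m * (n : G)) := by
    intro j
    rw [hper j x, map_mul, map_sum]
    have hcc : conj c⁻¹ = c⁻¹ := by
      rw [hc, map_inv₀, Complex.conj_natCast]
    rw [hcc]
    have h1 : ∀ m : ↥N, conj (Φ j ((m : G)⁻¹ * x * (m : G))) = Φ j (((m : G)⁻¹ * x * (m : G))⁻¹) :=
      fun m => w2ppernorm_conj hP (hΦ j) (w2ppernorm_conj_mem m.2 hx)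
    simp only [h1]
    have h2 : (∑ n : ↥N, Φ j ((n : G)⁻¹ * x * (n : G))) *
        (∑ m : ↥N, Φ j (((m : G)⁻¹ * x * (m : G))⁻¹)) =
        ∑ m : ↥N, ∑ n : ↥N, Φ j ((n : G)⁻¹ * z m * (n : G)) := by
      rw [Finset.sum_mul, Finset.sum_comm]
      apply Finset.sum_congr rfl
      intro n _
      rw [Finset.mul_sum]
      rw [← Equiv.sum_comp (Equiv.mulRight n)
        (fun m : ↥N => Φ j ((n : G)⁻¹ * x * (n : G)) * Φ j (((m : G)⁻¹ * x * (m : G))⁻¹))]
      apply Finset.sum_congr rfl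
      intro m _
      simp only [Equiv.coe_mulRight, Subgroup.coe_mul]
      rw [← (hΦ j).mul _ (w2ppernorm_conj_mem n.2 hx) _
        (P.inv_mem (w2ppernorm_conj_mem (N.mul_mem m.2 n.2) hx))]
      congr 1
      show _ = (n : G)⁻¹ * (x * (m : G)⁻¹ * x⁻¹ * (m : G)) * (n : G)
      group
    calc c⁻¹ * (∑ n : ↥N, Φ j ((n : G)⁻¹ * x * (n : G))) *
          (c⁻¹ * ∑ m : ↥N, Φ j (((m : G)⁻¹ * x * (m : G))⁻¹))
        = c⁻¹ ^ 2 * ((∑ n : ↥N, Φ j ((n : G)⁻¹ * x * (n : G))) *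
          (∑ m : ↥N, Φ j (((m : G)⁻¹ * x * (m : G))⁻¹))) := by ring
      _ = _ := by rw [h2]
  simp only [hterm]
  rw [← Finset.mul_sum, Finset.sum_comm]
  have hAm : ∀ m : ↥N, ∑ j, ∑ n : ↥N, Φ j ((n : G)⁻¹ * z m * (n : G)) =
      if (m : G) ∈ C then (Fintype.card ι : ℂ) * (Nat.card ↥N : ℂ) else -c := by
    intro m
    by_cases hm : (m : G) ∈ C
    · rw [if_pos hm, (hz1 m).mpr hm]
      exact hA1
    · rw [if_neg hm]
      exact hAz (z m) (hzP m) (fun h => hm ((hz1 m).mp h))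
  simp only [hAm]
  -- count
  have hcount : ∑ m : ↥N, (if (m : G) ∈ C then (Fintype.card ι : ℂ) * (Nat.card ↥N : ℂ) else -c) =
      c * ((Fintype.card ι : ℂ) * (Nat.card ↥N : ℂ)) + ((Nat.card ↥N : ℂ) - c) * (-c) := by
    have h1 : ∀ m : ↥N, (if (m : G) ∈ C then (Fintype.card ι : ℂ) * (Nat.card ↥N : ℂ) else -c) =
        -c + (if m ∈ C.subgroupOf N then ((Fintype.card ι : ℂ) * (Nat.card ↥N : ℂ) + c) else 0) := by
      intro m
      by_cases hm : (m : G) ∈ C
      · rw [if_pos hm, if_pos (Subgroup.mem_subgroupOf.mpr hm)]; ring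
      · rw [if_neg hm, if_neg (fun h => hm (Subgroup.mem_subgroupOf.mp h)), add_zero]
    simp only [h1]
    rw [Finset.sum_add_distrib, Finset.sum_const, Finset.card_univ, nsmul_eq_mul,
      ← Finset.sum_filter, Finset.sum_const, nsmul_eq_mul]
    have h2 : ((Finset.univ.filter (fun m : ↥N => m ∈ C.subgroupOf N)).card : ℂ) = c := by
      rw [hc]
      congr 1
      rw [← Nat.card_congr (Subgroup.subgroupOfEquivOfLe hCN).toEquiv, Nat.card_eq_fintype_card,
        Fintype.card_subtype]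
    rw [h2, ← Nat.card_eq_fintype_card]
    ring
  rw [hcount]
  -- arithmetic
  have hNc : (Nat.card ↥N : ℂ) = (fIdx P : ℂ) * c := by
    rw [hc, hN, hC, w2ppernorm_card P]; push_cast; ring
  have hcard' : (Fintype.card ι : ℂ) * (fIdx P : ℂ) = (p : ℂ) - 1 := by
    have : ((Fintype.card ι * fIdx P : ℕ) : ℂ) = ((p - 1 : ℕ) : ℂ) := by rw [hcard]
    rw [Nat.cast_sub hpp.one_le] at this
    push_cast at this
    exact this
  rw [hNc]
  have : c⁻¹ ^ 2 * (c * ((Fintype.card ι : ℂ) * ((fIdx P : ℂ) * c)) + ((fIdx P : ℂ) * c - c) * -c) =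
      (Fintype.card ι : ℂ) * (fIdx P : ℂ) - (fIdx P : ℂ) + 1 := by
    field_simp
    ring
  rw [this, hcard']
  ring

end C

end Cfsg.Agent.Lib.Lead.W2P
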