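import Mathlib
import Cfsg.Agent.Lib.helper17.T3.DefsC

/-!
# T3C row E2 (`LongLift.eqv_refl`): the reflected equivariance of the long lifts (helper28)
-/

set_option autoImplicit false

namespace Cfsg.Agent.Lib.helper17.T3

open Cfsg.Agent.Lib.helper15.St2 Cfsg.Agent.Lib.helper7.Ce Matrix

variable {F K : Type*} [Field F] [Field K] [Algebra F K]

variable {C : Cub F K} {G Γ : Type*} [Group G] [Group Γ]

section E

variable {S : SysT C G} {σ : Γ →* G} {L : ShortLift S σ}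

theorem t3ce2h28_Y_zero (M : LongLift S σ L) (k : ZMod 6) : M.Y k 0 = 1 := by
  have h := M.add k 0 0
  rw [add_zero] at h
  exact mul_eq_left.1 h

theorem t3ce2h28_Y_neg (M : LongLift S σ L) (k : ZMod 6) (c : F) : M.Y k (-c) = (M.Y k c)⁻¹ := by
  have h := M.add k c (-c)
  rw [add_neg_cancel, t3ce2h28_Y_zero] at h
  exact eq_inv_of_mul_eq_one_right h

/-- `tr (c0 x) = c0 tr x` for `c0 : F` -/
theorem t3ce2h28_tr_algebraMap_mul (C : Cub F K) (c0 : F) (x : K) : C.tr (algebraMap F K c0 * x) = c0 * C.tr x := by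
  apply (algebraMap F K).injective
  simp only [map_mul, C.htr, C.θF]
  ring

/-- [E2] [S] the reflected version. -/
theorem LongLift.eqv_refl (hC : C.Good) (M : LongLift S σ L) (e : Γ) (k k' : ZMod 6) {a b : K} {c0 : F} (ha : a ≠ 0) (hb : b ≠ 0) (hk : S.MapsPair (σ e) k (k' + 1) a)
    (hk1 : S.MapsPair (σ e) (k + 1) k' b) (hab : a * b = algebraMap F K c0) (c : F) : cj e (M.Y k c) = M.Y k' (-(c0 * c)) := by
  obtain ⟨s, hs⟩ := hC.tr_surj (-c)
  have h1 : M.Y k c = cm (L.X k s) (L.X (k + 1) 1) := by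
    rw [M.ss1 k s 1, mul_one, hs, neg_neg]
  rw [h1, cj_cm, L.eqv e k (k' + 1) a ha hk s, L.eqv e (k + 1) k' b hb hk1 1, ← cm_inv_swap, M.ss1 k' (b * 1) (a * s), t3ce2h28_Y_neg, inv_inv]
  congr 1
  have h2 : b * 1 * (a * s) = algebraMap F K c0 * s := by
    rw [← hab]; ring
  rw [h2, t3ce2h28_tr_algebraMap_mul, hs, mul_neg]

end E

end Cfsg.Agent.Lib.helper17.T3
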