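import Mathlib
import Cfsg.Agent.Lib.Lead.BCS.Defs
import Cfsg.Agent.Lib.Helper24.S5972SPLIT
import Cfsg.Agent.Lib.Helper24.ElR

set_option autoImplicit false
set_option linter.unusedVariables false

/-!
# Project BCS, row A10 (`bcs_abs_shape`) (helper28): core, with the conclusions of A1 A3 A6a/A6b A7 A8 A9 as hypotheses.
-/

namespace Cfsg.Agent.Lib.Lead.BCS

open Polynomial Module Matrix Cfsg.Agent.Lib.Helper13.S5955 Cfsg.Agent.Lib.helper15.S5972
  Cfsg.Agent.Lib.Helper18.ONE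

/-- A10 core.  `hA1` = conclusion of A1 `bcs_cyc_dim`; `hA3` = A3 `bcs_comm_inv` for `y`; `hA6` = conclusion of A6a / A6b;
`hA7` = A7 `bcs_unip_rank` for `B`, `u`; `hA8` = A8 `bcs_invol_pm` for `u`, `z`; `hA9` = conclusion of A9 `bcs_invol_cyc`. -/
theorem bcsa10_core {F : Type*} [Field F] [Fintype F] {p : ℕ} [Fact p.Prime] [CharP F p]
    (h2 : (2 : F) ≠ 0) {V : Type*} [AddCommGroup V] [Module F V] [FiniteDimensional F V]
    {ℓ : ℕ} [Fact ℓ.Prime] (hℓp : ℓ ≠ p) {B : LinearMap.BilinForm F V}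
    {y u z : Module.End F V} (h : OCtx ℓ B y) (hu : OCtx p B u) (hz : OCtx 2 B z)
    (huy : Commute u y) (hzy : Commute z y) (hu1 : u ≠ 1)
    (hz1 : z ≠ 1) (m : ℕ) (hV : finrank F V = 2 * m + 3)
    (hev : Even (finrank F (cycS 2 z)))
    (hA1 : finrank F (cycS ℓ y) = 2 * m ∧ finrank F (fixS y) = 3)
    (hA3 : ∀ g : Module.End F V, Commute g y → SInv g (fixS y) ∧ SInv g (cycS ℓ y))
    (hA6 : ∀ w ∈ cycS ℓ y, u w = w)
    (hA7 : ∀ k : ℕ, (u - 1) ^ k = 0 → ∀ U : Submodule F V, SInv u U → SND B U →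
      finrank F U ≤ finrank F ↥(U ⊓ fixS u) + 1 → ∀ w ∈ U, u w = w)
    (hA8 : ∀ k : ℕ, (u - 1) ^ k = 0 → ∀ U : Submodule F V, SInv u U → SInv z U →
      finrank F ↥(U ⊓ fixS u) ≤ 1 → (∀ w ∈ U, z w = w) ∨ (∀ w ∈ U, z w = -w))
    (hA9 : (∀ w ∈ cycS ℓ y, z w = w) ∨ (∀ w ∈ cycS ℓ y, z w = -w)) :
    cycS 2 z = cycS ℓ y := by
  obtain ⟨horth, hcompl, hfnd, hcnd⟩ := o_split hℓp h
  obtain ⟨hcdim, hfdim⟩ := hA1
  have hk : (u - 1) ^ p = 0 := by
    rw [Cfsg.Agent.Lib.Helper24.el_sub_one_pow_char, hu.pow, sub_self]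
  have hdec : ∀ v : V, ∃ f ∈ fixS y, ∃ c ∈ cycS ℓ y, v = f + c := by
    intro v
    have hv : v ∈ fixS y ⊔ cycS ℓ y := by
      rw [hcompl.sup_eq_top]
      exact Submodule.mem_top
    obtain ⟨f, hf, c, hc, rfl⟩ := Submodule.mem_sup.1 hv
    exact ⟨f, hf, c, hc, rfl⟩
  have hufix : ¬ ∀ w ∈ fixS y, u w = w := by
    intro hall
    apply hu1
    apply LinearMap.ext
    intro v
    obtain ⟨f, hf, c, hc, rfl⟩ := hdec v
    rw [map_add, hall f hf, hA6 c hc, Module.End.one_apply]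
  have hfixu : finrank F ↥(fixS y ⊓ fixS u) ≤ 1 := by
    by_contra hcon
    push Not at hcon
    apply hufix
    exact hA7 p hk (fixS y) (hA3 u huy).1 hfnd (by rw [hfdim]; omega)
  have hz8 := hA8 p hk (fixS y) (hA3 u huy).1 (hA3 z hzy).1 hfixu
  rcases hz8 with hzf | hzf <;> rcases hA9 with hzc | hzc
  · exfalso
    apply hz1
    apply LinearMap.ext
    intro v
    obtain ⟨f, hf, c, hc, rfl⟩ := hdec v
    rw [map_add, hzf f hf, hzc c hc, Module.End.one_apply]
  · ext v
    rw [bcs_mem_cyc_two]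
    constructor
    · intro hv
      obtain ⟨f, hf, c, hc, rfl⟩ := hdec v
      rw [map_add, hzf f hf, hzc c hc, neg_add] at hv
      have hff : f = -f := add_right_cancel hv
      have h3 : (2 : F) • f = 0 := by
        rw [two_smul]
        nth_rewrite 1 [hff]
        exact neg_add_cancel f
      have hf0 : f = 0 := (smul_eq_zero.1 h3).resolve_left h2
      rw [hf0, zero_add]
      exact hc
    · intro hv
      exact hzc v hv
  · exfalso
    have hEq : cycS 2 z = fixS y := by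
      ext v
      rw [bcs_mem_cyc_two]
      constructor
      · intro hv
        obtain ⟨f, hf, c, hc, rfl⟩ := hdec v
        rw [map_add, hzf f hf, hzc c hc, neg_add] at hv
        have hcc : c = -c := add_left_cancel hv
        have h3 : (2 : F) • c = 0 := by
          rw [two_smul]
          nth_rewrite 1 [hcc]
          exact neg_add_cancel c
        have hc0 : c = 0 := (smul_eq_zero.1 h3).resolve_left h2
        rw [hc0, add_zero]
        exact hf
      · intro hv
        exact hzf v hv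
    rw [hEq, hfdim] at hev
    exact absurd hev (by decide)
  · exfalso
    have hEq : cycS 2 z = ⊤ := by
      rw [eq_top_iff]
      intro v _
      rw [bcs_mem_cyc_two]
      obtain ⟨f, hf, c, hc, rfl⟩ := hdec v
      rw [map_add, hzf f hf, hzc c hc, neg_add]
    rw [hEq, finrank_top, hV] at hev
    obtain ⟨k, hk'⟩ := hev
    omega

end Cfsg.Agent.Lib.Lead.BCS
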