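import Mathlib
import Cfsg.Agent.Lib.Lead.BCS.Defs
import Cfsg.Agent.Lib.Helper28.BCSA10core
import Cfsg.Agent.Lib.helper17.BCSA1
import Cfsg.Agent.Lib.helper7.BCSA3
import Cfsg.Agent.Lib.Helper11.BCSA6a
import Cfsg.Agent.Lib.helper6.BCSA7
import Cfsg.Agent.Lib.helper6.BCSA8
import Cfsg.Agent.Lib.Helper24.BCSA9h24

set_option autoImplicit false
set_option linter.unusedVariables false

/-!
# Project BCS, row A10 (helper28): second core, only the statement of A6b `bcs_unip_cyc_split` (for the objects at hand) is left as a hypothesis.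
-/

namespace Cfsg.Agent.Lib.Lead.BCS

open Polynomial Module Matrix Cfsg.Agent.Lib.Helper13.S5955 Cfsg.Agent.Lib.helper15.S5972
  Cfsg.Agent.Lib.Helper18.ONE

theorem bcsa10_core2 {F : Type*} [Field F] [Fintype F] {p : ℕ} [Fact p.Prime] [CharP F p]
    (h2 : (2 : F) ≠ 0) {V : Type*} [AddCommGroup V] [Module F V] [FiniteDimensional F V]
    {ℓ : ℕ} [Fact ℓ.Prime] (hℓp : ℓ ≠ p) (hℓ2 : ℓ ≠ 2) {B : LinearMap.BilinForm F V}
    {y u z : Module.End F V} (h : OCtx ℓ B y) (hu : OCtx p B u) (hz : OCtx 2 B z)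
    (huy : Commute u y) (hzy : Commute z y) (hzu : Commute z u) (hy1 : y ≠ 1) (hu1 : u ≠ 1)
    (hz1 : z ≠ 1) (m : ℕ) (hm : 2 ≤ m) (hV : finrank F V = 2 * m + 3)
    (hi : OrdC (Fintype.card F) m ℓ) (hev : Even (finrank F (cycS 2 z)))
    (hA6b : Odd m → orderOf ((Fintype.card F : ℕ) : ZMod ℓ) = m →
      finrank F (cycS ℓ y) = 2 * m → ∀ w ∈ cycS ℓ y, u w = w) :
    cycS 2 z = cycS ℓ y := by
  have hA1 := bcs_cyc_dim hℓp hℓ2 h hy1 m hm hV hi
  have hA6 : ∀ w ∈ cycS ℓ y, u w = w := by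
    rcases hi with hi' | ⟨hi', hmo⟩
    · exact bcs_unip_cyc_irr hℓp y u huy hu.pow (by rw [hA1.1, hi'])
    · exact hA6b hmo hi' hA1.1
  have hzz : z * z = 1 := by
    have := hz.pow
    rwa [pow_two] at this
  exact bcsa10_core h2 hℓp h hu hz huy hzy hu1 hz1 m hV hev hA1
    (fun g hc => bcs_comm_inv g y hc ℓ) hA6
    (fun k hk U hU hUnd hr => bcs_unip_rank h2 B hu.symm u hu.pres k hk U hU hUnd hr)
    (fun k hk U hUu hUz hfix => bcs_invol_pm h2 u z hzu hzz k hk U hUu hUz hfix)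
    (bcsa9_h24 h2 hℓp hℓ2 h hz hzy m (by omega) hi hA1.1)

end Cfsg.Agent.Lib.Lead.BCS
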