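import Mathlib
import Cfsg.Agent.Lib.Lead.BCS.Defs
import Cfsg.Agent.Lib.Helper28.BCSA10core2
import Cfsg.Agent.Lib.Helper21.BCSA6Bh21w

set_option autoImplicit false
set_option linter.unusedVariables false

/-!
# Project BCS, row A10 (`bcs_abs_shape`) (helper28), verbatim from `Lead/BCS/Skel.lean.txt`:
`bcsa10_core2` (A1 A3 A6a A7 A8 A9 cited) + helper21's copy `bcsa6b_h21` of A6b.
-/

namespace Cfsg.Agent.Lib.Lead.BCS

open Polynomial Module Matrix Cfsg.Agent.Lib.Helper13.S5955 Cfsg.Agent.Lib.helper15.S5972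
  Cfsg.Agent.Lib.Helper18.ONE

/-- A10 [M-L]: A1: `dim cycS = 2m`, `dim fixS y = 3`.  A6a / A6b: `u = 1` on `cycS`; `u ≠ 1` and `fixS y ⊔ cycS = ⊤` (`o_split`): `u ≠ 1` on `fixS y`; A7 (contrapositive; `fixS y` is `u`-invariant by A3,
nondegenerate by `o_split`; `(u-1)^p = 0`): `dim (fixS y ⊓ fixS u) ≤ 1`.  A8: `z = ±1` on `fixS y`; A9: `z = ±1` on `cycS`.  `(+,+)`: `z = 1`.  `(-,-)`: `cycS 2 z = ⊤` of odd dimension `2m + 3`.
`(-,+)`: `cycS 2 z = fixS y` of dimension `3`.  `(+,-)`: `cycS 2 z = cycS ℓ y` (`bcs_mem_cyc_two`; `v = f + c`, `z v = f - c = -f - c` forces `f = 0`). -/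
theorem bcs_abs_shape {F : Type*} [Field F] [Fintype F] {p : ℕ} [Fact p.Prime] [CharP F p]
    (h2 : (2 : F) ≠ 0) {V : Type*} [AddCommGroup V] [Module F V] [FiniteDimensional F V]
    {ℓ : ℕ} [Fact ℓ.Prime] (hℓp : ℓ ≠ p) (hℓ2 : ℓ ≠ 2) {B : LinearMap.BilinForm F V}
    {y u z : Module.End F V} (h : OCtx ℓ B y) (hu : OCtx p B u) (hz : OCtx 2 B z)
    (huy : Commute u y) (hzy : Commute z y) (hzu : Commute z u) (hy1 : y ≠ 1) (hu1 : u ≠ 1)
    (hz1 : z ≠ 1) (m : ℕ) (hm : 2 ≤ m) (hV : finrank F V = 2 * m + 3)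
    (hi : OrdC (Fintype.card F) m ℓ) (hev : Even (finrank F (cycS 2 z))) :
    cycS 2 z = cycS ℓ y := by
  exact bcsa10_core2 h2 hℓp hℓ2 h hu hz huy hzy hzu hy1 hu1 hz1 m hm hV hi hev
    (fun hmo hord hdim => bcsa6b_h21 h2 hℓp h hu huy m hmo hord hdim)

end Cfsg.Agent.Lib.Lead.BCS
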