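import Mathlib
import Cfsg.Agent.Lib.helper8.OME.Defs
import Cfsg.Agent.Lib.Helper28.OMESCALREDh28

set_option autoImplicit false
set_option linter.unusedVariables false

/-!
# Project OME, row SCALRED (`ome_scal_red`), verbatim from `helper8/OME/Skel.lean.txt` (helper28; one-liner on `omescalred_h28`).
-/

namespace Cfsg.Agent.Lib.helper8.OME

open Polynomial Module Cfsg.Agent.Lib.Helper13.S5955 Cfsg.Agent.Lib.helper15.S5972
  Cfsg.Agent.Lib.Helper18.OPE
open scoped Matrix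

/-- SCALRED [M] (twin of OPE `scal_red`; `Q ≠ 0`: `Q (Pi.single (Sum.inr 0) 1) = 1`). -/
theorem ome_scal_red {F : Type*} [Field F] (d : ℕ) (a b : F) (r : ℕ) (x : GL (MI d) F)
    (hx : x ∈ Cfsg.isometryGroup F (Cfsg.quadFormMinus (d - 1) F a b)) (z : F)
    (hxr : ((x ^ r : GL (MI d) F) : Matrix (MI d) (MI d) F) = z • (1 : Matrix (MI d) (MI d) F))
    (hns : ∀ z : F, (x : Matrix (MI d) (MI d) F) ≠ z • (1 : Matrix (MI d) (MI d) F)) :
    (z = 1 ∨ z = -1) ∧
      (Odd r → ∃ x' : GL (MI d) F, x' ∈ Cfsg.isometryGroup F (Cfsg.quadFormMinus (d - 1) F a b) ∧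
        x' ^ r = 1 ∧ x' ≠ 1 ∧
        ∀ W : Submodule F (MI d → F),
          W.map (Matrix.toLin' (x' : Matrix (MI d) (MI d) F)) ≤ W →
          W.map (Matrix.toLin' (x : Matrix (MI d) (MI d) F)) ≤ W) := by
  exact omescalred_h28 d a b r x hx z hxr hns

end Cfsg.Agent.Lib.helper8.OME
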