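import Mathlib
import Cfsg.Agent.Lib.Helper28.CD3.Defs
import Cfsg.Agent.Lib.Helper19.CD3BASIC

set_option autoImplicit false

namespace Cfsg.Agent.Lib.Helper28.CD3

universe u

/-- a set of positive naturals of size three containing `1` is `{1, m, n}` with `1 < m < n` -/
theorem cd3form_set (S : Set ℕ) (h1 : 1 ∈ S) (hpos : ∀ d ∈ S, 0 < d) (h : S.ncard = 3) :
    ∃ m n : ℕ, 1 < m ∧ m < n ∧ S = {1, m, n} := by
  obtain ⟨x, y, z, hxy, hxz, hyz, rfl⟩ := Set.ncard_eq_three.mp h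
  -- a general helper: given the other two elements a ≠ b, both ≠ 1 and positive
  have key : ∀ a b : ℕ, a ≠ b → a ≠ 1 → b ≠ 1 → 0 < a → 0 < b →
      ∃ m n : ℕ, 1 < m ∧ m < n ∧ ({1, a, b} : Set ℕ) = {1, m, n} := by
    intro a b hab ha hb ha0 hb0
    rcases lt_or_gt_of_ne hab with hlt | hgt
    · exact ⟨a, b, by omega, hlt, rfl⟩
    · refine ⟨b, a, by omega, hgt, ?_⟩
      ext t
      simp only [Set.mem_insert_iff, Set.mem_singleton_iff]
      tauto
  have hx0 := hpos x (by simp)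
  have hy0 := hpos y (by simp)
  have hz0 := hpos z (by simp)
  simp only [Set.mem_insert_iff, Set.mem_singleton_iff] at h1
  rcases h1 with h1 | h1 | h1
  · subst h1
    exact key y z hyz (Ne.symm hxy) (Ne.symm hxz) hy0 hz0
  · subst h1
    obtain ⟨m, n, hm, hmn, he⟩ := key x z hxz hxy (Ne.symm hyz) hx0 hz0
    refine ⟨m, n, hm, hmn, ?_⟩
    rw [← he]
    ext t
    simp only [Set.mem_insert_iff, Set.mem_singleton_iff]
    tauto
  · subst h1
    obtain ⟨m, n, hm, hmn, he⟩ := key x y hxy hxz hyz hx0 hy0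
    refine ⟨m, n, hm, hmn, ?_⟩
    rw [← he]
    ext t
    simp only [Set.mem_insert_iff, Set.mem_singleton_iff]
    tauto

variable {G : Type u} [Group G] [Finite G]

theorem three_form (h : (Cfsg.charDegrees G).ncard = 3) :
    ∃ m n : ℕ, 1 < m ∧ m < n ∧ Cfsg.charDegrees G = {1, m, n} :=
  cd3form_set _ (one_mem_cd G) (fun _ hd => cd_pos hd) h

end Cfsg.Agent.Lib.Helper28.CD3
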