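import Mathlib
import Cfsg.Agent.Lib.Helper28.CD3.Defs
import Cfsg.Agent.Lib.Helper28.CD3RHO3

/-!
# CD3 piece RHO (core): assembly of the regular character trick from `rho2` (as a hypothesis)
and `rho3`.
-/

set_option autoImplicit false

namespace Cfsg.Agent.Lib.Helper28.CD3

universe u

theorem cd3rho_core {G : Type u} [Group G] [Finite G] {m n : ℕ} (hm : 1 < m) (hmn : m < n)
    (hcd : Cfsg.charDegrees G = {1, m, n})
    (hrho2 : ∀ χ χ' ψ : Cfsg.IrrCharacter G,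
      Cfsg.charDegree (χ : G → ℂ) = m → Cfsg.charDegree (χ' : G → ℂ) = m →
      Cfsg.charDegree (ψ : G → ℂ) = n →
      (∀ g : G, (ψ : G → ℂ) g = (ψ : G → ℂ) 1 → g = 1) →
      @Cfsg.classInner G _ (Fintype.ofFinite G) ((χ : G → ℂ) * (ψ : G → ℂ)) (χ' : G → ℂ) = 0)
    (hfaith : ∀ χ : Cfsg.IrrCharacter G, Cfsg.charDegree (χ : G → ℂ) ≠ 1 →
      ∀ g : G, (χ : G → ℂ) g = (χ : G → ℂ) 1 → g = 1) : False := by
  letI : Fintype G := Fintype.ofFinite G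
  obtain ⟨χ₀, hχ₀⟩ : ∃ χ : Cfsg.IrrCharacter G, Cfsg.charDegree (χ : G → ℂ) = m := by
    have : m ∈ Cfsg.charDegrees G := by rw [hcd]; simp
    exact this
  refine rho3 hm hmn hcd ?_ χ₀ hχ₀ (hfaith χ₀ (by omega))
  intro χ χ' ψ hχ hχ' hψ
  exact hrho2 χ χ' ψ hχ hχ' hψ (hfaith ψ (by omega))

end Cfsg.Agent.Lib.Helper28.CD3
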