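import Mathlib
import Cfsg.Agent.Lib.Helper28.CD3.Defs
import Cfsg.Agent.Lib.Helper28.CD3RHOcore
import Cfsg.Agent.Lib.Helper16.CD3RHO2

/-!
# CD3 piece RHO: the regular character trick (assembly of `rho2` and `rho3`).
-/

set_option autoImplicit false

namespace Cfsg.Agent.Lib.Helper28.CD3

universe u

section
variable {G : Type u} [Group G] [Finite G]

theorem rho_trick {m n : ℕ} (hm : 1 < m) (hmn : m < n) (hcop : m.Coprime n)
    (hcd : Cfsg.charDegrees G = {1, m, n})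
    (hfaith : ∀ χ : Cfsg.IrrCharacter G, Cfsg.charDegree (χ : G → ℂ) ≠ 1 →
      ∀ g : G, (χ : G → ℂ) g = (χ : G → ℂ) 1 → g = 1) : False :=
  cd3rho_core hm hmn hcd
    (fun χ χ' ψ hχ hχ' hψ hf =>
      @rho2 G _ (Fintype.ofFinite G) m n hm hmn hcop hcd χ χ' ψ hχ hχ' hψ hf) hfaith

end

end Cfsg.Agent.Lib.Helper28.CD3
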