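import Mathlib
import Cfsg.Agent.Lib.helper14.DegGraph
import Cfsg.Agent.Lib.Helper28.CD3.Defs
import Cfsg.Agent.Lib.Helper19.CD3BASIC
import Cfsg.Agent.Lib.helper23.CD3DERQ
import Cfsg.Agent.Lib.Helper28.CD3FORM

set_option autoImplicit false
open scoped commutatorElement

namespace Cfsg.Agent.Lib.Helper28.CD3

universe u

variable {G : Type u} [Group G] [Finite G]

theorem minCE_of_counter (hIH : Below.{u} (Nat.card G)) (hcd : (Cfsg.charDegrees G).ncard = 3)
    (hne : derivedSeries G 3 ≠ ⊥) : ∃ m n : ℕ, MinCE G m n := by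
  obtain ⟨m, n, hm, hmn, hS⟩ := three_form hcd
  refine ⟨m, n, hm, hmn, hS, hne, ?_, ?_⟩
  · intro N hN hNb
    have := hN
    apply derived_le_of_quot N 3
    apply hIH (G ⧸ N)
    · have h1 := Subgroup.card_eq_card_quotient_mul_card_subgroup N
      have h2 : 1 < Nat.card N := (Subgroup.one_lt_card_iff_ne_bot N).mpr hNb
      have h3 : 0 < Nat.card (G ⧸ N) := Nat.card_pos
      nlinarith
    · calc (Cfsg.charDegrees (G ⧸ N)).ncard ≤ (Cfsg.charDegrees G).ncard :=
            Set.ncard_le_ncard (Cfsg.Agent.Lib.helper14.charDegrees_quot_subset N) (cd_finite G)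
        _ ≤ 3 := hcd.le
  · intro N hN hN3
    apply hIH N _ hN3
    have hle : Nat.card N ≤ Nat.card G := Subgroup.card_le_card_group N
    rcases hle.lt_or_eq with h | h
    · exact h
    · exact absurd ((Subgroup.card_eq_iff_eq_top N).mp h) hN

end Cfsg.Agent.Lib.Helper28.CD3
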