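import Mathlib
import Cfsg.Agent.Lib.helper8.RSM.Defs
import Cfsg.Agent.Lib.helper4.RSMC1

/-! RSM row C5 (`mem_U_iff`), helper28. -/

set_option autoImplicit false

namespace Cfsg.Agent.Lib.helper8.RSM

universe u v w

variable {G : Type u} [Group G] {K : Type v} [Field K] [Fintype K] {m : ℕ}

omit [Fintype K] in
/-- the twisted cube is odd -/
theorem rsmc5_phi_neg (m : ℕ) (t : K) : ((-t) ^ 3 ^ m) ^ 3 = -((t ^ 3 ^ m) ^ 3) := by
  have h1 : Odd (3 ^ m) := Odd.pow (by decide)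
  have h2 : Odd 3 := by decide
  rw [h1.neg_pow, h2.neg_pow]

/-- explicit inverse -/
theorem rsmc5_inv (RU : ReeU G K m) (t u v : K) :
    (RU.x t u v)⁻¹ =
      RU.x (-t) (-u - t * (t ^ 3 ^ m) ^ 3) (-v - t * u - 2 * t ^ 2 * (t ^ 3 ^ m) ^ 3) := by
  apply inv_eq_of_mul_eq_one_right
  rw [RU.x_mul, rsmc5_phi_neg, ← (x_basic RU).1]
  apply rsmc1_congr RU <;> ring

/-- C5 [S-M]. The set `{x t u v}` is closed under products and inverses (C2, `x_mul`) and contains
`1` (C1), so it is the closure. -/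
theorem mem_U_iff (RU : ReeU G K m) (g : G) : g ∈ RU.U ↔ RU.InU g := by
  constructor
  · intro hg
    refine Subgroup.closure_induction (p := fun g _ => RU.InU g) ?_ ?_ ?_ ?_ hg
    · intro x hx
      exact hx
    · exact ⟨0, 0, 0, (x_basic RU).1.symm⟩
    · rintro x y _ _ ⟨t, u, v, rfl⟩ ⟨t', u', v', rfl⟩
      exact ⟨_, _, _, RU.x_mul t u v t' u' v'⟩
    · rintro x _ ⟨t, u, v, rfl⟩
      exact ⟨_, _, _, rsmc5_inv RU t u v⟩
  · intro hg
    exact Subgroup.subset_closure hg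

end Cfsg.Agent.Lib.helper8.RSM
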