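import Mathlib
import Cfsg.Prelude.Def_LieTypeChar
import Cfsg.Agent.Lib.helper14.SQD.Defs
import Cfsg.Agent.Lib.helper14.SQD.DefsU
import Cfsg.Agent.S0280

/-!
Project SQD, row UE10 (`card_psu_two_part`): the 2-part of the order of `PSU_n(2^e)` (helper28).
-/

set_option autoImplicit false

namespace Cfsg.Agent.Lib.helper14.SQD

open Cfsg Cfsg.Lie Matrix

universe u v

/-- the 2-part from an order formula `d * n = 2 ^ a * M` with `d`, `M` odd -/
theorem sqdue10_two_part (a n M d : ℕ) (hd : d * n = 2 ^ a * M) (hdo : ¬ 2 ∣ d) (hMo : ¬ 2 ∣ M) :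
    ∃ r, n = 2 ^ a * r ∧ ¬ 2 ∣ r := by
  have hcop : Nat.Coprime (2 ^ a) d := by
    apply Nat.Coprime.pow_left
    exact (Nat.Prime.coprime_iff_not_dvd Nat.prime_two).mpr hdo
  have hdvd : 2 ^ a ∣ d * n := ⟨M, hd⟩
  obtain ⟨r, hr⟩ := hcop.dvd_of_dvd_mul_left hdvd
  refine ⟨r, hr, ?_⟩
  intro h2
  apply hMo
  have h1 : 2 ^ a * (d * r) = 2 ^ a * M := by rw [← hd, hr]; ring
  have h3 : d * r = M := Nat.eq_of_mul_eq_mul_left (by positivity) h1
  rw [← h3]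
  exact Dvd.dvd.mul_left h2 d

section UE
variable {F : Type} [Field F] [Fintype F] [CharP F 2] (e : ℕ) {k : ℕ}

/-- UE10 [M]. -/
theorem card_psu_two_part (hF : Fintype.card F = (2 ^ e) ^ 2) (n : ℕ) (hn : 2 ≤ n) :
    ∃ r, Nat.card (PSU n F (2 ^ e)) = 2 ^ (e * (n * (n - 1) / 2)) * r ∧ ¬ 2 ∣ r := by
  have he : 1 ≤ e := by
    by_contra h
    have h0 : e = 0 := by omega
    rw [h0] at hF
    have := Fintype.one_lt_card (α := F)
    simp at hF
    omega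
  have hq2 : 2 ∣ 2 ^ e := dvd_pow_self 2 (by omega)
  have hformula := Cfsg.Agent.S0280.result (F := F) (q := 2 ^ e) hF n hn
  have hodd1 : ¬ 2 ∣ (2 ^ e + 1) := by
    intro h
    have : 2 ∣ 1 := (Nat.dvd_add_right hq2).mp h
    omega
  have hdo : ¬ 2 ∣ Nat.gcd n (2 ^ e + 1) * (2 ^ e + 1) := by
    intro h
    rcases (Nat.Prime.dvd_mul Nat.prime_two).mp h with h1 | h1
    · exact hodd1 (h1.trans (Nat.gcd_dvd_right _ _))
    · exact hodd1 h1
  have hMo : ¬ 2 ∣ ∏ i ∈ Finset.range n,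
      (if Even i then (2 ^ e) ^ (i + 1) + 1 else (2 ^ e) ^ (i + 1) - 1) := by
    intro h
    obtain ⟨i, -, hi⟩ := (Prime.dvd_finsetProd_iff Nat.prime_two.prime _).mp h
    have hpow : 2 ∣ (2 ^ e) ^ (i + 1) := dvd_pow hq2 (by omega)
    have hpos : 2 ≤ (2 ^ e) ^ (i + 1) := Nat.le_of_dvd (by positivity) hpow
    split_ifs at hi
    · have : 2 ∣ 1 := (Nat.dvd_add_right hpow).mp hi
      omega
    · omega
  have hd : Nat.gcd n (2 ^ e + 1) * (2 ^ e + 1) * Nat.card (PSU n F (2 ^ e)) =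
      2 ^ (e * (n * (n - 1) / 2)) * ∏ i ∈ Finset.range n,
        (if Even i then (2 ^ e) ^ (i + 1) + 1 else (2 ^ e) ^ (i + 1) - 1) := by
    rw [mul_assoc, hformula, ← pow_mul]
  exact sqdue10_two_part _ _ _ _ hd hdo hMo

end UE

end Cfsg.Agent.Lib.helper14.SQD
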