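import Mathlib
import Cfsg.Prelude.Def_LieTypeChar
import Cfsg.Agent.Lib.helper14.SQD.Defs
import Cfsg.Agent.Lib.helper14.SQD.DefsU
import Cfsg.Agent.Lib.Helper28.SQDT1

/-!
Project SQD, row UE7 (`sgE_le_range`), core on the statement of UE4 (`mem_range_psiE`) (helper28).
-/

set_option autoImplicit false

namespace Cfsg.Agent.Lib.helper14.SQD

open Cfsg Cfsg.Lie Matrix

universe u v

section UE
variable {F : Type} [Field F] [Fintype F] [CharP F 2] (e : ℕ) {k : ℕ}

/-- `x ↦ x ^ q` is an involution when `card F = q ^ 2` (own copy of UF2) -/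
theorem sqdue7_frob_frob (hF : Fintype.card F = (2 ^ e) ^ 2) (x : F) :
    frobE F e (frobE F e x) = x := by
  unfold frobE
  rw [iterateFrobenius_def, iterateFrobenius_def, ← pow_mul, ← pow_two, ← hF, FiniteField.pow_card]

/-- entrywise: `(A^τ)^τ = A` -/
theorem sqdue7_map_map (hF : Fintype.card F = (2 ^ e) ^ 2) {m n : Type*} (A : Matrix m n F) :
    (A.map (frobE F e)).map (frobE F e) = A := by
  ext i j
  simp only [Matrix.map_apply]
  exact sqdue7_frob_frob e hF _

omit [Fintype F] in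
/-- the Siegel generators satisfy the unitary condition for `J = [[0, 1], [1, 0]]` -/
theorem sqdue7_sieg (S : Matrix (Fin k) (Fin k) F) (hS : S ∈ hermAdd k (frobE F e)) :
    (Matrix.fromBlocks (1 : Matrix (Fin k) (Fin k) F) S 0 (1 : Matrix (Fin k) (Fin k) F)).det = 1 ∧
      (Matrix.fromBlocks (1 : Matrix (Fin k) (Fin k) F) S 0 (1 : Matrix (Fin k) (Fin k) F))ᵀ *
        Matrix.fromBlocks 0 1 1 0 *
        (Matrix.fromBlocks (1 : Matrix (Fin k) (Fin k) F) S 0 (1 : Matrix (Fin k) (Fin k) F)).map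
          (frobE F e) =
        Matrix.fromBlocks 0 1 1 0 := by
  constructor
  · rw [Matrix.det_fromBlocks_zero₂₁, Matrix.det_one, mul_one]
  · have hS' : S.map (frobE F e) = Sᵀ := by
      have h : tadj (frobE F e) S = S := hS
      unfold tadj at h
      rw [← h, Matrix.transpose_transpose, h]
    rw [Matrix.fromBlocks_transpose, Matrix.fromBlocks_map, Matrix.fromBlocks_multiply,
      Matrix.fromBlocks_multiply]
    simp only [Matrix.transpose_one, Matrix.transpose_zero, Matrix.map_zero _ (map_zero _),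
      Matrix.map_one _ (map_zero _) (map_one _), Matrix.one_mul, Matrix.mul_one, Matrix.mul_zero,
      Matrix.zero_mul, add_zero, zero_add, hS']
    congr 1
    ext i j
    rw [Matrix.add_apply, Matrix.zero_apply]
    exact CharTwo.add_self_eq_zero _

/-- the Levi generators satisfy the unitary condition for `J = [[0, 1], [1, 0]]` -/
theorem sqdue7_lev (hF : Fintype.card F = (2 ^ e) ^ 2) (g : GL (Fin k) F)
    (hg : IsUUT (g : Matrix (Fin k) (Fin k) F)) :
    ((levHom (frobE F e) g : GL (Fin k ⊕ Fin k) F) : Matrix (Fin k ⊕ Fin k) (Fin k ⊕ Fin k) F).det = 1 ∧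
      ((levHom (frobE F e) g : GL (Fin k ⊕ Fin k) F) : Matrix (Fin k ⊕ Fin k) (Fin k ⊕ Fin k) F)ᵀ *
        Matrix.fromBlocks 0 1 1 0 *
        ((levHom (frobE F e) g : GL (Fin k ⊕ Fin k) F) :
          Matrix (Fin k ⊕ Fin k) (Fin k ⊕ Fin k) F).map (frobE F e) =
        Matrix.fromBlocks 0 1 1 0 := by
  set A : Matrix (Fin k) (Fin k) F := (g : Matrix (Fin k) (Fin k) F) with hA
  set B : Matrix (Fin k) (Fin k) F := ((g⁻¹ : GL (Fin k) F) : Matrix (Fin k) (Fin k) F) with hB
  have hBA : B * A = 1 := by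
    rw [hA, hB, ← Units.val_mul, inv_mul_cancel, Units.val_one]
  have hBuut : IsUUT B := by
    rw [hB, Matrix.coe_units_inv]
    exact uut_inv hg
  rw [levHom_coe]
  constructor
  · rw [Matrix.det_fromBlocks_zero₂₁, uut_det hg, one_mul]
    unfold tadj
    rw [Matrix.det_transpose]
    have : (B.map (frobE F e)).det = (frobE F e) B.det := by
      rw [RingHom.map_det]; rfl
    rw [this, uut_det hBuut, map_one]
  · unfold tadj
    rw [Matrix.fromBlocks_transpose, Matrix.fromBlocks_map, Matrix.fromBlocks_multiply,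
      Matrix.fromBlocks_multiply]
    simp only [Matrix.transpose_zero, Matrix.map_zero _ (map_zero _), Matrix.mul_one, Matrix.mul_zero,
      Matrix.zero_mul, add_zero, zero_add, Matrix.transpose_transpose]
    have h1 : Aᵀ * ((B.map (frobE F e))ᵀ).map (frobE F e) = 1 := by
      have : ((B.map (frobE F e))ᵀ).map (frobE F e) = Bᵀ := by
        rw [Matrix.transpose_map, sqdue7_map_map e hF]
      rw [this, ← Matrix.transpose_mul, hBA, Matrix.transpose_one]
    have h2 : B.map (frobE F e) * A.map (frobE F e) = 1 := by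
      rw [← Matrix.map_mul, hBA, Matrix.map_one _ (map_zero _) (map_one _)]
    rw [h1, h2]

/-- UE7 core: from the statement of UE4. -/
theorem sqdue7_core (hF : Fintype.card F = (2 ^ e) ^ 2) (a : F)
    (hUE4 : ∀ w : GL (Fin k ⊕ Fin k) F, w ∈ (psiE (k := k) (F := F) (2 ^ e) a).range ↔
      (w : Matrix (Fin k ⊕ Fin k) (Fin k ⊕ Fin k) F).det = 1 ∧
      (w : Matrix (Fin k ⊕ Fin k) (Fin k ⊕ Fin k) F)ᵀ * Matrix.fromBlocks 0 1 1 0 *
        (w : Matrix (Fin k ⊕ Fin k) (Fin k ⊕ Fin k) F).map (frobE F e) = Matrix.fromBlocks 0 1 1 0) :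
    sgGrp (frobE F e) (hermAdd k (frobE F e)) ≤ (psiE (k := k) (F := F) (2 ^ e) a).range := by
  unfold sgGrp
  apply sup_le
  · unfold siegGrp
    rw [Subgroup.map_le_iff_le_comap]
    intro S hS
    rw [Subgroup.mem_comap, hUE4, siegHom_coe]
    exact sqdue7_sieg e (Multiplicative.toAdd S) hS
  · unfold levGrp
    rw [Subgroup.map_le_iff_le_comap]
    intro g hg
    rw [Subgroup.mem_comap, hUE4]
    exact sqdue7_lev e hF g ((mem_uutGL g).mp hg)

end UE

end Cfsg.Agent.Lib.helper14.SQD
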