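import Mathlib
import Cfsg.Prelude.Def_LieTypeChar
import Cfsg.Agent.Lib.helper14.SQD.Defs
import Cfsg.Agent.Lib.helper14.SQD.DefsU
import Cfsg.Agent.Lib.Helper13.SQDUE4
import Cfsg.Agent.Lib.Helper28.SQDUE7core

/-!
Project SQD, row UE7 (`sgE_le_range`), verbatim (helper28).
-/

set_option autoImplicit false

namespace Cfsg.Agent.Lib.helper14.SQD

open Cfsg Cfsg.Lie Matrix

universe u v

section UE
variable {F : Type} [Field F] [Fintype F] [CharP F 2] (e : ℕ) {k : ℕ}

/-- UE7 [M]. -/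
theorem sgE_le_range (hF : Fintype.card F = (2 ^ e) ^ 2) (a : F) (ha : a ^ 2 ^ e + a = 1) :
    sgGrp (frobE F e) (hermAdd k (frobE F e)) ≤ (psiE (k := k) (F := F) (2 ^ e) a).range :=
  sqdue7_core e hF a (fun w => mem_range_psiE e a ha w)

end UE

end Cfsg.Agent.Lib.helper14.SQD
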