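import Mathlib
import Cfsg.Agent.Lib.helper14.OBNd
import Cfsg.Agent.Lib.helper14.DBN.Defs

set_option autoImplicit false
set_option linter.unusedVariables false

/-!
# Project DBN, row DCOQ (helper28): cores of `dc_OQ` and `OQ_bruhat`, on the statements of QBASIC (`OQ_eq_top`),
XL1 (`isXL_inv`, `exists_xl_right`, `exists_xl_left`) and XL3 (`xl_mono_xl`) as hypotheses.
-/

namespace Cfsg.Agent.Lib.helper14.DBN

open Matrix DoubleCoset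
open Cfsg.Agent.Lib.helper14.UBN Cfsg.Agent.Lib.helper14.OBN

universe u
variable {F : Type u} [Field F] {n : ℕ}

/-- the weak `B_{n/2}` system of the ambient group -/
theorem dbndcoq_weakBN (n : ℕ) (F : Type u) [Field F] :
    WeakBN (BU n (Sid F)) (NU n (Sid F)) (SSet n (Sid F)) where
  subset := SSet_subset_NU
  conj_mem := fun m hm t ht => conj_torus_mem m t hm ht
  sq_mem := by
    rintro _ ⟨k, rfl⟩
    rw [sRef_mul_self]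
    exact Subgroup.one_mem _
  inj := by
    rintro _ ⟨k, rfl⟩ _ ⟨k', rfl⟩ h
    rw [sRef_injective_mod k k' h]
  closure_sup := closure_SSet_sup
  mul_mem_union := by
    rintro _ ⟨k, rfl⟩ m hm b hb
    exact gu_mul_mem_union k m hm b hb

/-- DCOQ core, part 1 -/
theorem dbndcoq_dc_core
    (hQtop : (2 : F) ≠ 0 → OQ n F = ⊤)
    (hinv : (2 : F) = 0 → ∀ x : GS n F, IsXL x → IsXL x⁻¹)
    (hxr : (2 : F) = 0 → ∀ b : GS n F, b ∈ BU n (Sid F) → ∃ x : GS n F, IsXL x ∧ b * x ∈ BO n F)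
    (hxl : (2 : F) = 0 → ∀ b : GS n F, b ∈ BU n (Sid F) → ∃ x : GS n F, IsXL x ∧ x * b ∈ BO n F)
    (hx3 : (2 : F) = 0 → ∀ x₁ x₂ n₁ : GS n F, IsXL x₁ → IsXL x₂ → n₁ ∈ NU n (Sid F) →
      x₁ * n₁ * x₂ ∈ OQ n F → x₁ * n₁ * x₂ = n₁)
    (g : GS n F) (hg : g ∈ OQ n F) (n₁ : GS n F)
    (hn₁ : n₁ ∈ NU n (Sid F))
    (h : g ∈ doubleCoset n₁ (BU n (Sid F) : Set (GS n F)) (BU n (Sid F))) :
    g ∈ doubleCoset n₁ (BO n F : Set (GS n F)) (BO n F) := by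
  by_cases h2 : (2 : F) = 0
  · obtain ⟨b₁, hb₁, b₂, hb₂, rfl⟩ := mem_doubleCoset.1 h
    obtain ⟨x₁, hx₁, hβ₁⟩ := hxr h2 b₁ hb₁
    obtain ⟨x₂, hx₂, hβ₂⟩ := hxl h2 b₂ hb₂
    have hmem : x₁⁻¹ * n₁ * x₂⁻¹ ∈ OQ n F := by
      have e : x₁⁻¹ * n₁ * x₂⁻¹ = (b₁ * x₁)⁻¹ * (b₁ * n₁ * b₂) * (x₂ * b₂)⁻¹ := by group
      rw [e]
      exact (OQ n F).mul_mem ((OQ n F).mul_mem ((OQ n F).inv_mem hβ₁.2) hg) ((OQ n F).inv_mem hβ₂.2)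
    have heq := hx3 h2 x₁⁻¹ x₂⁻¹ n₁ (hinv h2 x₁ hx₁) (hinv h2 x₂ hx₂) hn₁ hmem
    refine mem_doubleCoset.2 ⟨b₁ * x₁, hβ₁, x₂ * b₂, hβ₂, ?_⟩
    calc b₁ * n₁ * b₂ = (b₁ * x₁) * (x₁⁻¹ * n₁ * x₂⁻¹) * (x₂ * b₂) := by group
      _ = (b₁ * x₁) * n₁ * (x₂ * b₂) := by rw [heq]
  · have htop := hQtop h2
    have hBO : BO n F = BU n (Sid F) := by
      unfold BO
      rw [htop, inf_top_eq]
    rw [hBO]
    exact h

/-- DCOQ core, part 2: Bruhat decomposition of `OQ` -/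
theorem dbndcoq_bruhat_core
    (hdc : ∀ (g : GS n F), g ∈ OQ n F → ∀ n₁ : GS n F, n₁ ∈ NU n (Sid F) →
      g ∈ doubleCoset n₁ (BU n (Sid F) : Set (GS n F)) (BU n (Sid F)) →
      g ∈ doubleCoset n₁ (BO n F : Set (GS n F)) (BO n F))
    (g : GS n F) (hg : g ∈ OQ n F) :
    ∃ n₁ ∈ NU n (Sid F), g ∈ doubleCoset n₁ (BO n F : Set (GS n F)) (BO n F) := by
  have hgtop : g ∈ BU n (Sid F) ⊔ NU n (Sid F) := by
    rw [BU_sup_NU]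
    exact Subgroup.mem_top g
  obtain ⟨n₁, hn₁, hmem⟩ := weak_bruhat (dbndcoq_weakBN n F) g hgtop
  exact ⟨n₁, hn₁, hdc g hg n₁ hn₁ hmem⟩

end Cfsg.Agent.Lib.helper14.DBN
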