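import Mathlib
import Cfsg.Agent.Lib.helper14.OBNd
import Cfsg.Agent.Lib.helper14.DBN.Defs
import Cfsg.Agent.Lib.Helper25.DBNQBASIC
import Cfsg.Agent.Lib.helper14.DBNXL3
import Cfsg.Agent.Lib.Helper24.DBNXL1
import Cfsg.Agent.Lib.Helper28.DBNDCOQcore

set_option autoImplicit false

/-!
# Project DBN, row DCOQ (helper28): `dc_OQ` and `OQ_bruhat`, verbatim, from the cores of
`Helper28.DBNDCOQcore` and the rows QBASIC, XL1, XL3.
-/

namespace Cfsg.Agent.Lib.helper14.DBN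

open Matrix DoubleCoset
open Cfsg.Agent.Lib.helper3 Cfsg.Agent.Lib.helper14
open Cfsg.Agent.Lib.helper14.UBN Cfsg.Agent.Lib.helper14.OBN

universe u
variable {F : Type u} [Field F] {n : ℕ}

theorem dc_OQ (hn : n % 2 = 0) (g : GS n F) (hg : g ∈ OQ n F) (n₁ : GS n F)
    (hn₁ : n₁ ∈ NU n (Sid F))
    (h : g ∈ doubleCoset n₁ (BU n (Sid F) : Set (GS n F)) (BU n (Sid F))) :
    g ∈ doubleCoset n₁ (BO n F : Set (GS n F)) (BO n F) := by
  exact dbndcoq_dc_core (fun h2 => OQ_eq_top hn h2) (fun h2 x hx => isXL_inv h2 x hx)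
    (fun h2 b hb => exists_xl_right hn h2 b hb) (fun h2 b hb => exists_xl_left hn h2 b hb)
    (fun h2 x₁ x₂ n₁ h1 h2' hn₁ h => xl_mono_xl hn h2 x₁ x₂ n₁ h1 h2' hn₁ h) g hg n₁ hn₁ h

/-- Bruhat decomposition of `OQ` -/
theorem OQ_bruhat (hn : n % 2 = 0) (g : GS n F) (hg : g ∈ OQ n F) :
    ∃ n₁ ∈ NU n (Sid F), g ∈ doubleCoset n₁ (BO n F : Set (GS n F)) (BO n F) := by
  exact dbndcoq_bruhat_core (fun g hg n₁ hn₁ h => dc_OQ hn g hg n₁ hn₁ h) g hg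

end Cfsg.Agent.Lib.helper14.DBN
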