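import Mathlib
import Cfsg.Agent.Lib.helper7.NCV.Defs

/-! # NCV row C1 (helper28): an irreducible 2×2 matrix has nonzero off-diagonal entries. -/

set_option autoImplicit false

namespace Cfsg.Agent.Lib.helper7.NCV

open Matrix

universe u

variable {F : Type u} [Field F] {n : ℕ}

/-- **C1.** -/
theorem irr_ne (g : Matrix (Fin 2) (Fin 2) F) (h : Irr g) : g 0 1 ≠ 0 ∧ g 1 0 ≠ 0 := by
  constructor
  · intro h0
    apply h ![0, 1] (by
      intro hv
      have := congrFun hv 1
      simp at this) (g 1 1)
    ext i
    fin_cases i <;> simp [Matrix.mulVec, dotProduct, Fin.sum_univ_two, h0]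
  · intro h0
    apply h ![1, 0] (by
      intro hv
      have := congrFun hv 0
      simp at this) (g 0 0)
    ext i
    fin_cases i <;> simp [Matrix.mulVec, dotProduct, Fin.sum_univ_two, h0]

end Cfsg.Agent.Lib.helper7.NCV
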