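import Mathlib
import Cfsg.Agent.Lib.helper7.NCV.Defs

/-! # NCV row C2 (helper28): the commutant of a 2×2 matrix with `g 0 1 ≠ 0`. -/

set_option autoImplicit false

namespace Cfsg.Agent.Lib.helper7.NCV

open Matrix

universe u

variable {F : Type u} [Field F] {n : ℕ}

/-- **C2 (COMM).** -/
theorem comm_affine (g m : Matrix (Fin 2) (Fin 2) F) (h01 : g 0 1 ≠ 0) (h : m * g = g * m) :
    ∃ α β : F, m = α • (1 : Matrix (Fin 2) (Fin 2) F) + β • g := by
  have e00 := congrFun (congrFun h 0) 0
  have e01 := congrFun (congrFun h 0) 1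
  simp only [Matrix.mul_apply, Fin.sum_univ_two] at e00 e01
  refine ⟨m 0 0 - m 0 1 / g 0 1 * g 0 0, m 0 1 / g 0 1, ?_⟩
  ext i j
  fin_cases i <;> fin_cases j <;>
    simp only [Fin.zero_eta, Fin.mk_one, Matrix.add_apply, Matrix.smul_apply, Matrix.one_apply_eq,
      smul_eq_mul, ne_eq, zero_ne_one, one_ne_zero, not_false_eq_true, Matrix.one_apply_ne,
      mul_one, mul_zero, zero_add, Fin.isValue]
  · ring
  · field_simp
  · field_simp
    linear_combination (-1 : F) * e00
  · field_simp
    linear_combination (-1 : F) * e01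

end Cfsg.Agent.Lib.helper7.NCV
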