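import Mathlib
import Cfsg.Agent.Lib.helper7.NCV.Defs

/-! # NCV row C3 (helper28): three basic facts on 2×2 matrices. -/

set_option autoImplicit false

namespace Cfsg.Agent.Lib.helper7.NCV

open Matrix

universe u

variable {F : Type u} [Field F] {n : ℕ}

/-- **C3 (IRRAFF).** -/
theorem irr_affine (g : Matrix (Fin 2) (Fin 2) F) (h : Irr g) (α β : F) (hβ : β ≠ 0) :
    Irr (α • (1 : Matrix (Fin 2) (Fin 2) F) + β • g) := by
  intro v hv c hc
  apply h v hv ((c - α) / β)
  rw [Matrix.add_mulVec, Matrix.smul_mulVec, Matrix.smul_mulVec, Matrix.one_mulVec] at hc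
  have h1 : β • g *ᵥ v = (c - α) • v := by
    rw [sub_smul, ← hc]; abel
  calc g *ᵥ v = β⁻¹ • (β • g *ᵥ v) := by rw [smul_smul, inv_mul_cancel₀ hβ, one_smul]
    _ = ((c - α) / β) • v := by rw [h1, smul_smul, div_eq_inv_mul]

/-- **C3'.** -/
theorem irr_charpoly_ne (g : Matrix (Fin 2) (Fin 2) F) (h : Irr g) (c : F) :
    c ^ 2 - g.trace * c + g.det ≠ 0 := by
  intro h0
  have hdet : (g - c • (1 : Matrix (Fin 2) (Fin 2) F)).det = 0 := by
    rw [Matrix.det_fin_two]
    rw [Matrix.det_fin_two, Matrix.trace_fin_two] at h0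
    simp only [Matrix.sub_apply, Matrix.smul_apply, Matrix.one_apply_eq, smul_eq_mul, ne_eq,
      zero_ne_one, one_ne_zero, not_false_eq_true, Matrix.one_apply_ne, mul_one, mul_zero, sub_zero]
    linear_combination h0
  obtain ⟨v, hv, hv0⟩ := Matrix.exists_mulVec_eq_zero_iff.mpr hdet
  apply h v hv c
  rw [Matrix.sub_mulVec, Matrix.smul_mulVec, Matrix.one_mulVec, sub_eq_zero] at hv0
  exact hv0

/-- **C3''.** Cayley–Hamilton for 2×2. -/
theorem cayley2 (g : Matrix (Fin 2) (Fin 2) F) :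
    g * g = g.trace • g - g.det • (1 : Matrix (Fin 2) (Fin 2) F) := by
  rw [Matrix.det_fin_two, Matrix.trace_fin_two]
  ext i j
  fin_cases i <;> fin_cases j <;>
    simp only [Fin.zero_eta, Fin.mk_one, Matrix.mul_apply, Fin.sum_univ_two, Matrix.sub_apply,
      Matrix.smul_apply, Matrix.one_apply_eq, smul_eq_mul, ne_eq, zero_ne_one, one_ne_zero,
      not_false_eq_true, Matrix.one_apply_ne, mul_one, mul_zero, sub_zero, Fin.isValue] <;>
    ring

end Cfsg.Agent.Lib.helper7.NCV
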