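import Mathlib
import Cfsg.Agent.Lib.helper7.NCV.Defs
import Cfsg.Agent.Lib.Helper28.NCVC1
import Cfsg.Agent.Lib.Helper28.NCVC2
import Cfsg.Agent.Lib.Helper28.NCVC3

/-! # NCV row C15d (helper28). -/

set_option autoImplicit false

namespace Cfsg.Agent.Lib.helper7.NCV

open Matrix

universe u

variable {F : Type u} [Field F] {n : ℕ}

/-- **C15d (POWIRR).** -/
theorem pow_irr_or_scalar (g : Matrix (Fin 2) (Fin 2) F) (hi : Irr g) (k : ℕ) :
    (∃ z : F, g ^ k = z • (1 : Matrix (Fin 2) (Fin 2) F)) ∨ Irr (g ^ k) := by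
  have hc : g ^ k * g = g * g ^ k := by
    rw [← pow_succ, ← pow_succ']
  obtain ⟨α, β, hab⟩ := comm_affine g (g ^ k) (irr_ne g hi).1 hc
  by_cases hβ : β = 0
  · left
    refine ⟨α, ?_⟩
    rw [hab, hβ, zero_smul, add_zero]
  · right
    rw [hab]
    exact irr_affine g hi α β hβ

end Cfsg.Agent.Lib.helper7.NCV
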