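import Mathlib
import Cfsg.Agent.Lib.helper7.NCV.Defs
import Cfsg.Agent.Lib.Helper28.NCVC15D

/-! # NCV row C15e (helper28), core: the statement of C15c (`h4`) enters as a hypothesis. -/

set_option autoImplicit false

namespace Cfsg.Agent.Lib.helper7.NCV

open Matrix

universe u

variable {F : Type u} [Field F] {n : ℕ}

theorem ncvc15e_core (g : Matrix (Fin 2) (Fin 2) F) (hi : Irr g)
    (hH4 : ∀ y : Matrix (Fin 2) (Fin 2) F, Irr y → ∀ z : F,
      y ^ 4 = z • (1 : Matrix (Fin 2) (Fin 2) F) →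
      ∃ z' : F, y ^ 2 = z' • (1 : Matrix (Fin 2) (Fin 2) F))
    (k : ℕ) (z : F) (h : g ^ (2 ^ k) = z • (1 : Matrix (Fin 2) (Fin 2) F)) :
    ∃ z' : F, g ^ 2 = z' • (1 : Matrix (Fin 2) (Fin 2) F) := by
  induction k generalizing z with
  | zero =>
    rw [pow_zero, pow_one] at h
    refine ⟨z * z, ?_⟩
    rw [pow_two, h, smul_mul_smul_comm, mul_one]
  | succ k ih =>
    rcases Nat.eq_zero_or_pos k with hk | hk
    · subst hk
      exact ⟨z, by simpa using h⟩
    · obtain ⟨j, rfl⟩ : ∃ j, k = j + 1 := ⟨k - 1, by omega⟩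
      have h4pow : (g ^ (2 ^ j)) ^ 4 = z • (1 : Matrix (Fin 2) (Fin 2) F) := by
        rw [← pow_mul, ← h]
        congr 1
        ring
      have hsq : (g ^ (2 ^ j)) ^ 2 = g ^ (2 ^ (j + 1)) := by
        rw [← pow_mul]
        congr 1
      rcases pow_irr_or_scalar g hi (2 ^ j) with ⟨z₀, hz₀⟩ | hirr
      · apply ih (z₀ * z₀)
        rw [← hsq, hz₀, pow_two, smul_mul_smul_comm, mul_one]
      · obtain ⟨z', hz'⟩ := hH4 _ hirr z h4pow
        apply ih z'
        rw [← hsq, hz']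

end Cfsg.Agent.Lib.helper7.NCV
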