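import Mathlib
import Cfsg.Agent.Lib.helper7.NCV.Defs
import Cfsg.Agent.Lib.Helper28.NCVC15Ecore
import Cfsg.Agent.Lib.Helper13.NCVC15C

/-! # NCV row C15e (helper28), verbatim. -/

set_option autoImplicit false

namespace Cfsg.Agent.Lib.helper7.NCV

open Matrix

universe u

variable {F : Type u} [Field F] {n : ℕ}

/-- **C15e (DESC).** -/
theorem pow2_descent (g : Matrix (Fin 2) (Fin 2) F) (hi : Irr g) (s : F) (hs : s ^ 2 = -1)
    (k : ℕ) (z : F) (h : g ^ (2 ^ k) = z • (1 : Matrix (Fin 2) (Fin 2) F)) :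
    ∃ z' : F, g ^ 2 = z' • (1 : Matrix (Fin 2) (Fin 2) F) :=
  ncvc15e_core g hi (fun y hy z hz => h4 y hy s hs z hz) k z h

end Cfsg.Agent.Lib.helper7.NCV
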