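import Mathlib
import Cfsg.Agent.Lib.helper7.NCV.Defs
import Cfsg.Agent.Lib.Helper28.NCVC1
import Cfsg.Agent.Lib.Helper28.NCVC3

/-! # NCV row C15f (helper28). -/

set_option autoImplicit false

namespace Cfsg.Agent.Lib.helper7.NCV

open Matrix

universe u

variable {F : Type u} [Field F] {n : ℕ}

/-- **C15f (SQSCAL).** -/
theorem tr_zero_of_sq_scalar (g : Matrix (Fin 2) (Fin 2) F) (hi : Irr g) (z : F)
    (h : g ^ 2 = z • (1 : Matrix (Fin 2) (Fin 2) F)) : g.trace = 0 := by
  rw [pow_two, cayley2] at h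
  have h01 := congrFun (congrFun h 0) 1
  simp only [Matrix.sub_apply, Matrix.smul_apply, smul_eq_mul, ne_eq, zero_ne_one,
    not_false_eq_true, Matrix.one_apply_ne, mul_zero, sub_zero] at h01
  rcases mul_eq_zero.mp h01 with h1 | h1
  · exact h1
  · exact absurd h1 (irr_ne g hi).1

end Cfsg.Agent.Lib.helper7.NCV
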