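import Mathlib
import Cfsg.Agent.Lib.helper8.A7R.Defs

set_option autoImplicit false

/-!
# Project A7R, row A03 (helper28): the `A_4`-relation `(t x)^3 = 1`.
-/

namespace Cfsg.Agent.Lib.helper8.A7R

universe u

variable {G : Type u} [Group G]

theorem a7ra03_mem_Cz (k g : G) : g ∈ Cz k ↔ g * k = k * g := by
  unfold Cz
  rw [Subgroup.mem_centralizer_singleton_iff]

/-- in a group of order 4 and exponent 2, the product of two distinct involutions is the third one -/
theorem a7ra03_four (V : Subgroup G) (hV4 : Nat.card V = 4) (a b c : G) (ha : a ∈ V) (hb : b ∈ V) (hc : c ∈ V)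
    (ha1 : a ≠ 1) (hb1 : b ≠ 1) (hc1 : c ≠ 1) (hab : a ≠ b) (hac : a ≠ c) (hbc : b ≠ c)
    (ha2 : a ^ 2 = 1) : a * b = c := by
  classical
  have hfin : Finite V := Nat.finite_of_card_ne_zero (by rw [hV4]; norm_num)
  have : Fintype V := Fintype.ofFinite V
  let s : Finset ↥V := {1, ⟨a, ha⟩, ⟨b, hb⟩, ⟨c, hc⟩}
  have hs : s.card = 4 := by
    have h1 : (1 : ↥V) ≠ ⟨a, ha⟩ := fun h => ha1 (congrArg Subtype.val h).symm
    have h2 : (1 : ↥V) ≠ ⟨b, hb⟩ := fun h => hb1 (congrArg Subtype.val h).symm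
    have h3 : (1 : ↥V) ≠ ⟨c, hc⟩ := fun h => hc1 (congrArg Subtype.val h).symm
    have h4 : (⟨a, ha⟩ : ↥V) ≠ ⟨b, hb⟩ := fun h => hab (congrArg Subtype.val h)
    have h5 : (⟨a, ha⟩ : ↥V) ≠ ⟨c, hc⟩ := fun h => hac (congrArg Subtype.val h)
    have h6 : (⟨b, hb⟩ : ↥V) ≠ ⟨c, hc⟩ := fun h => hbc (congrArg Subtype.val h)
    simp only [s]
    rw [Finset.card_insert_of_notMem, Finset.card_insert_of_notMem, Finset.card_insert_of_notMem,
      Finset.card_singleton]
    · simp [h6]
    · simp [h4, h5]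
    · simp [h1, h2, h3]
  have huniv : s = Finset.univ := by
    apply Finset.eq_univ_of_card
    rw [hs, ← Nat.card_eq_fintype_card, hV4]
  have hmem : (⟨a * b, mul_mem ha hb⟩ : ↥V) ∈ s := by
    rw [huniv]
    exact Finset.mem_univ _
  simp only [s, Finset.mem_insert, Finset.mem_singleton, Subtype.ext_iff] at hmem
  rcases hmem with h | h | h | h
  · -- a * b = 1 : b = a⁻¹ = a
    exfalso
    apply hab
    have h' : a * b = 1 := h
    have haa : a * a = 1 := by rw [← pow_two]; exact ha2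
    have : a * b = a * a := by rw [h', haa]
    exact (mul_left_cancel this).symm
  · exfalso
    apply hb1
    have h' : a * b = a := h
    exact mul_eq_left.1 h'
  · exfalso
    apply ha1
    have h' : a * b = b := h
    exact mul_eq_right.1 h'
  · exact h

theorem A4_rel (hS : Std G) (h3 : St3 G) (h4 : St4 G) (y x t : G) (hy : Is3A y) (hx : x ∈ Cz y) (hx3 : orderOf x = 3)
    (hxy : x ∉ Subgroup.zpowers y) (ht : t ∈ Cz y) (ht2 : orderOf t = 2) : (t * x) ^ 3 = 1 := by
  obtain ⟨V, hVle, hV4, hVexp, hVnorm, hVinv⟩ := h3.cent3V y hy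
  have htV : t ∈ V := hVinv t ht ht2
  have ht1 : t ≠ 1 := by
    intro h
    rw [h, orderOf_one] at ht2
    omega
  have hx3' : x ^ 3 = 1 := by
    rw [← hx3]
    exact pow_orderOf_eq_one x
  -- `x` centralizes no nontrivial element of `V`
  have hfree : ∀ v ∈ V, v ≠ 1 → x * v ≠ v * x := by
    intro v hv hv1 hcomm
    have hv2 : orderOf v = 2 := by
      have : Fact (Nat.Prime 2) := ⟨Nat.prime_two⟩
      exact orderOf_eq_prime (hVexp v hv) hv1
    obtain ⟨z, hz, hzA, huniq⟩ := h4.inv3 v hv2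
    have hxv : x ∈ Cz v := (a7ra03_mem_Cz v x).2 hcomm
    have hyv : y ∈ Cz v := by
      rw [a7ra03_mem_Cz]
      exact ((a7ra03_mem_Cz y v).1 (hVle hv)).symm
    apply hxy
    rcases huniq x hxv hx3 with h1 | h1 <;> rcases huniq y hyv hy.1 with h2 | h2
    · rw [h1, ← h2]
      exact Subgroup.mem_zpowers y
    · have : x = y⁻¹ := by rw [h1, h2, inv_inv]
      rw [this]
      exact inv_mem (Subgroup.mem_zpowers y)
    · have : x = y⁻¹ := by rw [h1, h2]
      rw [this]
      exact inv_mem (Subgroup.mem_zpowers y)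
    · have : x = y := by rw [h1, h2]
      rw [this]
      exact Subgroup.mem_zpowers y
  set t1 := x * t * x⁻¹ with ht1def
  set t2 := x * t1 * x⁻¹ with ht2def
  have ht1V : t1 ∈ V := hVnorm x hx t htV
  have ht2V : t2 ∈ V := hVnorm x hx t1 ht1V
  have ht1ne : t1 ≠ 1 := by
    intro h
    apply ht1
    have : t = x⁻¹ * t1 * x := by rw [ht1def]; group
    rw [this, h]
    group
  have ht2ne : t2 ≠ 1 := by
    intro h
    apply ht1ne
    have : t1 = x⁻¹ * t2 * x := by rw [ht2def]; group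
    rw [this, h]
    group
  have h01 : t ≠ t1 := by
    intro h
    apply hfree t htV ht1
    have : x * t = t1 * x := by rw [ht1def]; group
    rw [this, ← h]
  have h12 : t1 ≠ t2 := by
    intro h
    apply hfree t1 ht1V ht1ne
    have : x * t1 = t2 * x := by rw [ht2def]; group
    rw [this, ← h]
  have h02 : t ≠ t2 := by
    intro h
    apply hfree t htV ht1
    -- `x^2 t x^-2 = t`, and `x^2 = x⁻¹`
    have hx2 : x * x = x⁻¹ := by
      have : x * x * x = 1 := by
        rw [← hx3', pow_succ, pow_two]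
      exact eq_inv_of_mul_eq_one_left this
    have h' : t = x * x * t * (x * x)⁻¹ := by
      have : t2 = x * x * t * (x * x)⁻¹ := by rw [ht2def, ht1def]; group
      rw [← this]
      exact h
    rw [hx2, inv_inv] at h'
    -- t = x⁻¹ t x
    have : x * t = x * (x⁻¹ * t * x) := by rw [← h']
    rw [this]
    group
  have hprod : t * t1 = t2 :=
    a7ra03_four V hV4 t t1 t2 htV ht1V ht2V ht1 ht1ne ht2ne h01 h02 h12 (hVexp t htV)
  have hexp : (t * x) ^ 3 = t * t1 * t2 * x ^ 3 := by
    rw [ht2def, ht1def, pow_succ, pow_two, pow_succ, pow_two]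
    group
  rw [hexp, hprod, hx3', mul_one, ← pow_two]
  exact hVexp t2 ht2V

end Cfsg.Agent.Lib.helper8.A7R
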