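import Mathlib
import Cfsg.Agent.Lib.helper8.A7R.Defs
import Cfsg.Agent.Lib.helper8.SubgroupCard

set_option autoImplicit false

/-!
# Project A7R, row A08 (helper28): change of `t` inside `N(K) \ K`.
-/

namespace Cfsg.Agent.Lib.helper8.A7R

universe u

variable {G : Type u} [Group G]

/-- `t' = t c` with `c ∈ K`: both lie in `N(K) \ K` and `K` has index 2 in `N(K)` -/
theorem a7ra08_diff (k t t' : G) (hk4 : orderOf k = 4)
    (hcardNK : Nat.card (Nz (Subgroup.zpowers k)) = 8)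
    (ht : t ∈ Nz (Subgroup.zpowers k)) (htK : t ∉ Subgroup.zpowers k)
    (ht' : t' ∈ Nz (Subgroup.zpowers k)) (ht'K : t' ∉ Subgroup.zpowers k) :
    t⁻¹ * t' ∈ Subgroup.zpowers k := by
  have hle : Subgroup.zpowers k ≤ Nz (Subgroup.zpowers k) := Subgroup.le_normalizer
  have hidx : (Subgroup.zpowers k).relIndex (Nz (Subgroup.zpowers k)) = 2 := by
    have := h8_card_mul_relIndex hle
    rw [hcardNK, Nat.card_zpowers, hk4] at this
    omega
  unfold Subgroup.relIndex at hidx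
  have h := Subgroup.mul_mem_iff_of_index_two hidx
    (a := (⟨t, ht⟩ : ↥(Nz (Subgroup.zpowers k)))⁻¹) (b := ⟨t', ht'⟩)
  have h1 : ¬ ((⟨t, ht⟩ : ↥(Nz (Subgroup.zpowers k)))⁻¹ ∈
      (Subgroup.zpowers k).subgroupOf (Nz (Subgroup.zpowers k))) := by
    rw [inv_mem_iff, Subgroup.mem_subgroupOf]
    exact htK
  have h2 : ¬ ((⟨t', ht'⟩ : ↥(Nz (Subgroup.zpowers k))) ∈
      (Subgroup.zpowers k).subgroupOf (Nz (Subgroup.zpowers k))) := by
    rw [Subgroup.mem_subgroupOf]
    exact ht'K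
  have h3 := h.2 ⟨fun h' => absurd h' h1, fun h' => absurd h' h2⟩
  rw [Subgroup.mem_subgroupOf] at h3
  exact h3

/-- `t` inverts every element of `K` -/
theorem a7ra08_inv (k t c : G) (htk : t * k * t⁻¹ = k⁻¹) (hc : c ∈ Subgroup.zpowers k) :
    t * c * t⁻¹ = c⁻¹ := by
  obtain ⟨i, rfl⟩ := Subgroup.mem_zpowers_iff.1 hc
  rw [← conj_zpow, htk, inv_zpow]

theorem a7ra08_conjS (P : Subgroup G) (t c : G) (hc : c ∈ Nz P) : conjS (t * c) P = conjS t P := by
  ext x
  rw [mem_conjS, mem_conjS]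
  have hc' : c⁻¹ ∈ Nz P := inv_mem hc
  have h := (Subgroup.mem_normalizer_iff.1 hc') (t⁻¹ * x * t)
  rw [inv_inv] at h
  rw [h]
  have : (t * c)⁻¹ * x * (t * c) = c⁻¹ * (t⁻¹ * x * t) * c := by group
  rw [this]

theorem ctx_change {P : Sylow 3 G} {k t : G} (hC : Ctx P k t) (t' : G) (ht' : t' ∈ Nz (Subgroup.zpowers k))
    (ht'K : t' ∉ Subgroup.zpowers k) : Ctx P k t' := by
  have hcK := a7ra08_diff k t t' hC.hk4 hC.cardNK hC.ht hC.htK ht' ht'K
  set c := t⁻¹ * t' with hc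
  have ht'eq : t' = t * c := by
    rw [hc]
    group
  have hKN : Subgroup.zpowers k ≤ Nz (P : Subgroup G) := by
    rw [Subgroup.zpowers_le]
    exact hC.hk
  have hcN : c ∈ Nz (P : Subgroup G) := hKN hcK
  have hconj : conjS t' (P : Subgroup G) = conjS t (P : Subgroup G) := by
    rw [ht'eq]
    exact a7ra08_conjS _ t c hcN
  have hck : c * k = k * c := by
    obtain ⟨i, hi⟩ := Subgroup.mem_zpowers_iff.1 hcK
    rw [← hi]
    exact ((Commute.refl k).zpow_left i).eq
  have htinv : t * c * t⁻¹ = c⁻¹ := a7ra08_inv k t c hC.htk hcK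
  have ht2 : t ^ 2 = 1 := by
    rw [← hC.ht2]
    exact pow_orderOf_eq_one t
  have htt : t⁻¹ = t := by
    have : t * t = 1 := by rw [← pow_two]; exact ht2
    exact inv_eq_of_mul_eq_one_left this
  refine ⟨hC.hk, hC.hk4, hC.inv, hC.nofix, hC.prod, hC.cardN, ht', ht'K, ?_, ?_, ?_, hC.cardNK, ?_, ?_⟩
  · -- order 2
    have : Fact (Nat.Prime 2) := ⟨Nat.prime_two⟩
    apply orderOf_eq_prime
    · rw [ht'eq, pow_two]
      have h1 : t * c * (t * c) = (t * c * t⁻¹) * (t * t) * c := by group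
      rw [h1, htinv, ← pow_two, ht2]
      group
    · intro h
      apply ht'K
      rw [h]
      exact one_mem _
  · -- inverts k
    rw [ht'eq]
    have h1 : t * c * k * (t * c)⁻¹ = t * (c * k * c⁻¹) * t⁻¹ := by group
    rw [h1, hck]
    have h2 : k * c * c⁻¹ = k := by group
    rw [h2, hC.htk]
  · -- not in N(P)
    intro h
    apply hC.htP
    have : t = t' * c⁻¹ := by
      rw [ht'eq]
      group
    rw [this]
    exact mul_mem h (inv_mem hcN)
  · intro P' hP'
    rw [hconj]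
    exact hC.fixK P' hP'
  · intro g hg hg'
    rw [hconj] at hg'
    exact hC.inter g hg hg'

end Cfsg.Agent.Lib.helper8.A7R
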