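import Mathlib
import Cfsg.Agent.Lib.helper8.A7R.Defs
import Cfsg.Agent.Lib.helper8.SylowBasic
import Cfsg.Agent.Lib.helper8.SubgroupCard

set_option autoImplicit false

/-!
# Project A7R, row B25 (helper28): the centralizer of an element of order 4 has order 4.
-/

namespace Cfsg.Agent.Lib.helper8.A7R

universe u

variable {G : Type u} [Group G]

theorem a7rb25_mem_Cz (k g : G) : g ∈ Cz k ↔ k * g = g * k := by
  unfold Cz
  rw [Subgroup.mem_centralizer_singleton_iff]
  exact eq_comm

/-- no element of order 4 is central in a dihedral group of order 8 -/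
theorem a7rb25_d8 [Finite G] (S : Subgroup G) (hS : IsD8 S) (k : G) (hk : orderOf k = 4) (hkS : k ∈ S)
    (hc : ∀ g ∈ S, k * g = g * k) : False := by
  obtain ⟨hcard, r, s, hr, hs, hr4, hs2, hsr, hsn⟩ := hS
  have hk2 : k ^ 2 ≠ 1 := by
    intro h
    have := orderOf_dvd_of_pow_eq_one h
    rw [hk] at this
    omega
  have hr2 : r ^ 2 ≠ 1 := by
    intro h
    have := orderOf_dvd_of_pow_eq_one h
    rw [hr4] at this
    omega
  by_cases hkr : k ∈ Subgroup.zpowers r
  · obtain ⟨i, rfl⟩ := Subgroup.mem_zpowers_iff.1 hkr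
    have h1 : s * r ^ i * s⁻¹ = (r ^ i)⁻¹ := by
      rw [← conj_zpow, hsr, inv_zpow]
    have h2 : s * r ^ i * s⁻¹ = r ^ i := by
      rw [← hc s hs]
      group
    apply hk2
    rw [pow_two]
    nth_rewrite 1 [← h2]
    rw [h1, inv_mul_cancel]
  · have hle : Subgroup.zpowers r ≤ S := by
      rw [Subgroup.zpowers_le]
      exact hr
    have hidx : (Subgroup.zpowers r).relIndex S = 2 := by
      have := h8_card_mul_relIndex hle
      rw [hcard, Nat.card_zpowers, hr4] at this
      omega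
    unfold Subgroup.relIndex at hidx
    obtain ⟨a, ha⟩ := Subgroup.index_eq_two_iff.1 hidx
    have hsa : (⟨s, hs⟩ : ↥S) * a ∈ (Subgroup.zpowers r).subgroupOf S := by
      rcases ha ⟨s, hs⟩ with h | h
      · exact h.1
      · exact absurd (Subgroup.mem_subgroupOf.1 h.1) hsn
    have hka : (⟨k, hkS⟩ : ↥S) * a ∈ (Subgroup.zpowers r).subgroupOf S := by
      rcases ha ⟨k, hkS⟩ with h | h
      · exact h.1
      · exact absurd (Subgroup.mem_subgroupOf.1 h.1) hkr
    rw [Subgroup.mem_subgroupOf] at hsa hka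
    obtain ⟨i, hi⟩ := Subgroup.mem_zpowers_iff.1 hsa
    obtain ⟨j, hj⟩ := Subgroup.mem_zpowers_iff.1 hka
    have hsi : s * (a : G) = r ^ i := hi.symm
    have hkj : k * (a : G) = r ^ j := hj.symm
    have ha' : (a : G) = k⁻¹ * r ^ j := by
      rw [← hkj]
      group
    have hs' : s = r ^ i * (r ^ j)⁻¹ * k := by
      have : s = r ^ i * (a : G)⁻¹ := by
        rw [← hsi]
        group
      rw [this, ha']
      group
    have hkr' : k * r = r * k := hc r hr
    have hcomm : s * r = r * s := by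
      have c1 : Commute (r ^ i) r := (Commute.refl r).zpow_left i
      have c2 : Commute ((r ^ j)⁻¹) r := ((Commute.refl r).zpow_left j).inv_left
      have c3 : Commute k r := hkr'
      have c4 : Commute (r ^ i * (r ^ j)⁻¹ * k) r := (c1.mul_left c2).mul_left c3
      rw [hs']
      exact c4.eq
    have h3 : s * r * s⁻¹ = r := by
      rw [hcomm]
      group
    apply hr2
    rw [pow_two]
    nth_rewrite 1 [← h3]
    rw [hsr, inv_mul_cancel]

theorem cent_four (hS : Std G) (h3 : St3 G) (hd8 : ∀ S : Sylow 2 G, IsD8 (S : Subgroup G))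
    (hord : ∀ g : G, orderOf g ∈ ({1, 2, 4, 8, 3, 6, 5, 10, 7} : Finset ℕ))
    (h24 : ∀ u : G, orderOf u = 2 → Nat.card (Cz u) = 24)
    (hi3 : ∀ u : G, orderOf u = 2 → ∃ x ∈ Cz u, Is3A x ∧ ∀ y ∈ Cz u, orderOf y = 3 → y = x ∨ y = x⁻¹)
    (k : G) (hk : orderOf k = 4) : Nat.card (Cz k) = 4 := by
  have := hS.finite
  have hu : orderOf (k ^ 2) = 2 := by
    rw [orderOf_pow' k (by norm_num : (2 : ℕ) ≠ 0), hk]
    rfl
  have hle : Cz k ≤ Cz (k ^ 2) := by
    intro g hg
    rw [a7rb25_mem_Cz] at hg ⊢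
    rw [pow_two, mul_assoc, hg, ← mul_assoc, hg, mul_assoc]
  have hdvd : Nat.card (Cz k) ∣ 24 := by
    rw [← h24 (k ^ 2) hu]
    exact Subgroup.card_dvd_of_le hle
  have hzle : Subgroup.zpowers k ≤ Cz k := by
    rw [Subgroup.zpowers_le, a7rb25_mem_Cz]
  have h4 : 4 ∣ Nat.card (Cz k) := by
    have := Subgroup.card_dvd_of_le hzle
    rwa [Nat.card_zpowers, hk] at this
  have h3n : ¬ 3 ∣ Nat.card (Cz k) := by
    intro h
    have : Fact (Nat.Prime 3) := ⟨by norm_num⟩
    obtain ⟨y, hy⟩ := exists_prime_orderOf_dvd_card' 3 h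
    have hy3 : orderOf (y : G) = 3 := by
      rw [Subgroup.orderOf_coe]
      exact hy
    have hc : Commute k (y : G) := (a7rb25_mem_Cz k y).1 y.2
    have h12 : orderOf (k * (y : G)) = 12 := by
      rw [hc.orderOf_mul_eq_mul_orderOf_of_coprime (by rw [hk, hy3]; norm_num), hk, hy3]
    have := hord (k * (y : G))
    rw [h12] at this
    revert this
    decide
  have hcases : Nat.card (Cz k) = 4 ∨ Nat.card (Cz k) = 8 := by
    generalize Nat.card (Cz k) = c at hdvd h4 h3n
    have hc24 : c ≤ 24 := Nat.le_of_dvd (by norm_num) hdvd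
    interval_cases c <;> omega
  rcases hcases with h | h8
  · exact h
  · exfalso
    have : Fact (Nat.Prime 2) := ⟨by norm_num⟩
    have hp : IsPGroup 2 ↥(Cz k) := IsPGroup.of_card (n := 3) (by rw [h8]; norm_num)
    obtain ⟨Q, hQ⟩ := hp.exists_le_sylow
    have hQ8 : Nat.card (Q : Subgroup G) = 2 ^ 3 :=
      h8_sylow_card 2 3 315 (by rw [hS.card]; norm_num) (by norm_num) Q
    have heq : Cz k = (Q : Subgroup G) := by
      apply Subgroup.eq_of_le_of_card_ge hQ
      rw [hQ8, h8]
      norm_num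
    have hD := hd8 Q
    rw [← heq] at hD
    exact a7rb25_d8 (Cz k) hD k hk (hzle (Subgroup.mem_zpowers k))
      (fun g hg => (a7rb25_mem_Cz k g).1 hg)

end Cfsg.Agent.Lib.helper8.A7R
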