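import Cfsg.Agent.Lib.Helper28.TvE

set_option autoImplicit false

/-! The affine group `[[1,r],[0,B]]` inside `SL_{n+2}(2)`. -/

namespace Cfsg.Agent.Lib.Helper28.Tv

open Matrix

variable {n : ℕ}

/-- the block matrix `[[1,r],[0,B]]` -/
def amat (r : Fin (n + 1) → R2) (B : Matrix (Fin (n + 1)) (Fin (n + 1)) R2) :
    Matrix (Fin (n + 2)) (Fin (n + 2)) R2 :=
  Matrix.of fun i j =>
    Fin.cases (motive := fun _ => R2)
      (Fin.cases (motive := fun _ => R2) 1 (fun j' => r j') j)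
      (fun i' => Fin.cases (motive := fun _ => R2) 0 (fun j' => B i' j') j) i

variable (r r' : Fin (n + 1) → R2) (B B' : Matrix (Fin (n + 1)) (Fin (n + 1)) R2)

@[simp] theorem amat_00 : amat r B 0 0 = 1 := rfl
@[simp] theorem amat_0s (j : Fin (n + 1)) : amat r B 0 j.succ = r j := rfl
@[simp] theorem amat_s0 (i : Fin (n + 1)) : amat r B i.succ 0 = 0 := rfl
@[simp] theorem amat_ss (i j : Fin (n + 1)) : amat r B i.succ j.succ = B i j := rfl

theorem ext2 {M N : Matrix (Fin (n + 2)) (Fin (n + 2)) R2}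
    (h00 : M 0 0 = N 0 0) (h0s : ∀ j : Fin (n + 1), M 0 j.succ = N 0 j.succ)
    (hs0 : ∀ i : Fin (n + 1), M i.succ 0 = N i.succ 0)
    (hss : ∀ i j : Fin (n + 1), M i.succ j.succ = N i.succ j.succ) : M = N := by
  ext i j
  refine Fin.cases ?_ (fun i' => ?_) i
  · refine Fin.cases h00 (fun j' => h0s j') j
  · refine Fin.cases (hs0 i') (fun j' => hss i' j') j

theorem amat_mul : amat r B * amat r' B' = amat (r' + r ᵥ* B') (B * B') := by
  apply ext2
  · simp [Matrix.mul_apply, Fin.sum_univ_succ]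
  · intro j
    simp [Matrix.mul_apply, Fin.sum_univ_succ, Matrix.vecMul, dotProduct]
  · intro i
    simp [Matrix.mul_apply, Fin.sum_univ_succ]
  · intro i j
    simp [Matrix.mul_apply, Fin.sum_univ_succ]

theorem amat_one : amat (n := n) 0 1 = 1 := by
  apply ext2
  · simp
  · intro j
    simp [(Fin.succ_ne_zero j).symm]
  · intro i
    simp [Fin.succ_ne_zero i]
  · intro i j
    simp [Matrix.one_apply, Fin.succ_inj]

theorem amat_inj {r r' : Fin (n + 1) → R2} {B B' : Matrix (Fin (n + 1)) (Fin (n + 1)) R2}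
    (h : amat r B = amat r' B') : r = r' ∧ B = B' := by
  constructor
  · funext j
    have := congrFun (congrFun h 0) j.succ
    simpa using this
  · ext i j
    have := congrFun (congrFun h i.succ) j.succ
    simpa using this

theorem amat_of_col {M : Matrix (Fin (n + 2)) (Fin (n + 2)) R2} (h0 : M 0 0 = 1)
    (hs : ∀ i : Fin (n + 1), M i.succ 0 = 0) :
    M = amat (fun j => M 0 j.succ) (Matrix.of fun i j => M i.succ j.succ) := by
  apply ext2
  · simp [h0]
  · intro j; simp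
  · intro i; simp [hs]
  · intro i j; simp

/-- `bmat` is of `amat` form -/
theorem bmat_col0 (a : R2) (u v : Fin n → R2) (A : Matrix (Fin n) (Fin n) R2) :
    bmat a u v A 0 0 = 1 ∧ ∀ i : Fin (n + 1), bmat a u v A i.succ 0 = 0 := by
  refine ⟨rfl, fun i => ?_⟩
  refine Fin.cases ?_ (fun k => ?_) i
  · rfl
  · rfl

/-- the translation part -/
def tr (x : Fin (n + 1) → R2) : SLn2 n :=
  ⟨amat x 1, det_eq_one_of_mul_eq_one (M' := amat x 1) (by
    rw [amat_mul, Matrix.vecMul_one, Matrix.one_mul, fun_add_self, amat_one])⟩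

@[simp] theorem tr_coe (x : Fin (n + 1) → R2) :
    ((tr x : SLn2 n) : Matrix (Fin (n + 2)) (Fin (n + 2)) R2) = amat x 1 := rfl

theorem tr_add (x y : Fin (n + 1) → R2) : tr (x + y) = tr x * tr y := by
  apply Subtype.ext
  rw [Matrix.SpecialLinearGroup.coe_mul, tr_coe, tr_coe, tr_coe, amat_mul, Matrix.vecMul_one,
    Matrix.one_mul, add_comm x y]

theorem tr_zero : tr (n := n) 0 = 1 := by
  apply Subtype.ext
  rw [tr_coe, amat_one]; rfl

/-- translations as a hom -/
def trHom (n : ℕ) : Multiplicative (Fin (n + 1) → R2) →* SLn2 n where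
  toFun x := tr x.toAdd
  map_one' := tr_zero
  map_mul' x y := tr_add _ _

theorem trHom_apply (x : Multiplicative (Fin (n + 1) → R2)) : trHom n x = tr x.toAdd := rfl

theorem tr_injective : Function.Injective (tr (n := n)) := by
  intro x y h
  have := congrArg (fun g : SLn2 n => (g : Matrix (Fin (n + 2)) (Fin (n + 2)) R2)) h
  simp only [tr_coe] at this
  exact (amat_inj this).1

/-- the linear part (contragredient) -/
def cg (D : (Matrix (Fin (n + 1)) (Fin (n + 1)) R2)ˣ) : SLn2 n :=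
  ⟨amat 0 ((↑D⁻¹ : Matrix (Fin (n + 1)) (Fin (n + 1)) R2)ᵀ),
    det_eq_one_of_mul_eq_one (M' := amat 0 ((↑D : Matrix (Fin (n + 1)) (Fin (n + 1)) R2)ᵀ)) (by
      rw [amat_mul, Matrix.zero_vecMul, add_zero, ← Matrix.transpose_mul, Units.mul_inv,
        Matrix.transpose_one, amat_one])⟩

@[simp] theorem cg_coe (D : (Matrix (Fin (n + 1)) (Fin (n + 1)) R2)ˣ) :
    ((cg D : SLn2 n) : Matrix (Fin (n + 2)) (Fin (n + 2)) R2) =
      amat 0 ((↑D⁻¹ : Matrix (Fin (n + 1)) (Fin (n + 1)) R2)ᵀ) := rfl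

theorem cg_mul (D E : (Matrix (Fin (n + 1)) (Fin (n + 1)) R2)ˣ) : cg (D * E) = cg D * cg E := by
  apply Subtype.ext
  rw [Matrix.SpecialLinearGroup.coe_mul, cg_coe, cg_coe, cg_coe, amat_mul, Matrix.zero_vecMul,
    add_zero, ← Matrix.transpose_mul, _root_.mul_inv_rev, Units.val_mul]

theorem cg_one : cg (n := n) 1 = 1 := by
  apply Subtype.ext
  rw [cg_coe, inv_one, Units.val_one, Matrix.transpose_one, amat_one]; rfl

/-- linear part as a hom -/
def cgHom (n : ℕ) : (Matrix (Fin (n + 1)) (Fin (n + 1)) R2)ˣ →* SLn2 n where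
  toFun D := cg D
  map_one' := cg_one
  map_mul' D E := cg_mul D E

theorem cgHom_apply (D : (Matrix (Fin (n + 1)) (Fin (n + 1)) R2)ˣ) : cgHom n D = cg D := rfl

theorem tr_mul_cg_coe (x : Fin (n + 1) → R2) (D : (Matrix (Fin (n + 1)) (Fin (n + 1)) R2)ˣ) :
    ((tr x * cg D : SLn2 n) : Matrix (Fin (n + 2)) (Fin (n + 2)) R2) =
      amat ((↑D⁻¹ : Matrix (Fin (n + 1)) (Fin (n + 1)) R2) *ᵥ x)
        ((↑D⁻¹ : Matrix (Fin (n + 1)) (Fin (n + 1)) R2)ᵀ) := by
  rw [Matrix.SpecialLinearGroup.coe_mul, tr_coe, cg_coe, amat_mul, zero_add, Matrix.one_mul,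
    Matrix.vecMul_transpose]

/-- conjugation relation -/
theorem cg_mul_tr (x : Fin (n + 1) → R2) (D : (Matrix (Fin (n + 1)) (Fin (n + 1)) R2)ˣ) :
    cg D * tr x = tr ((↑D : Matrix (Fin (n + 1)) (Fin (n + 1)) R2) *ᵥ x) * cg D := by
  apply Subtype.ext
  rw [tr_mul_cg_coe, Matrix.SpecialLinearGroup.coe_mul, tr_coe, cg_coe, amat_mul,
    Matrix.zero_vecMul, add_zero, Matrix.mul_one, Matrix.mulVec_mulVec, Units.inv_mul,
    Matrix.one_mulVec]

theorem tr_mul_cg_eq_one {x : Fin (n + 1) → R2} {D : (Matrix (Fin (n + 1)) (Fin (n + 1)) R2)ˣ}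
    (h : tr x * cg D = 1) : x = 0 ∧ D = 1 := by
  have h1 := congrArg (fun g : SLn2 n => (g : Matrix (Fin (n + 2)) (Fin (n + 2)) R2)) h
  simp only [tr_mul_cg_coe, Matrix.SpecialLinearGroup.coe_one] at h1
  rw [← amat_one] at h1
  obtain ⟨h2, h3⟩ := amat_inj h1
  have h4 : (↑D⁻¹ : Matrix (Fin (n + 1)) (Fin (n + 1)) R2) = 1 := by
    have := congrArg Matrix.transpose h3
    simpa using this
  have h5 : D⁻¹ = 1 := Units.ext h4
  have h6 : D = 1 := inv_eq_one.mp h5
  refine ⟨?_, h6⟩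
  rw [h4, Matrix.one_mulVec] at h2
  exact h2

/-- `z0` is a translation -/
theorem z0_eq_tr : z0 n = tr (Pi.single 0 1) := by
  apply Subtype.ext
  rw [z0_coe, tr_coe]
  apply ext2
  · simp [Matrix.transvection, Matrix.one_apply, Matrix.single_apply, zero_ne_one']
  · intro j
    rw [amat_0s]
    simp only [Matrix.transvection, Matrix.add_apply, Matrix.one_apply, Matrix.single_apply]
    rw [if_neg (Fin.succ_ne_zero j).symm, zero_add]
    by_cases hj : j = 0
    · subst hj; simp [Fin.succ_zero_eq_one]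
    · have : ¬ ((1 : Fin (n + 2)) = j.succ) := by
        rw [one_eq_succ]; intro h; exact hj (Fin.succ_injective _ h).symm
      simp [this, hj]
  · intro i
    simp [Matrix.transvection, Matrix.one_apply, Matrix.single_apply, Fin.succ_ne_zero i,
      (Fin.succ_ne_zero i).symm]
  · intro i j
    simp [Matrix.transvection, Matrix.one_apply, Matrix.single_apply, Fin.succ_inj,
      (Fin.succ_ne_zero i).symm]

/-- every element of `Cz n` is a translation times a linear part -/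
theorem exists_tr_cg_of_mem_Cz {g : SLn2 n} (hg : g ∈ Cz n) :
    ∃ (x : Fin (n + 1) → R2) (D : (Matrix (Fin (n + 1)) (Fin (n + 1)) R2)ˣ), g = tr x * cg D := by
  have hg' : g⁻¹ ∈ Cz n := (Cz n).inv_mem hg
  obtain ⟨a, u, v, A, h1⟩ := mem_Cz_iff.mp hg
  obtain ⟨a', u', v', A', h2⟩ := mem_Cz_iff.mp hg'
  obtain ⟨c1, c2⟩ := bmat_col0 a u v A
  obtain ⟨c1', c2'⟩ := bmat_col0 a' u' v' A'
  rw [← h1] at c1 c2
  rw [← h2] at c1' c2'
  have e1 := amat_of_col c1 c2
  have e2 := amat_of_col c1' c2'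
  set r := fun j : Fin (n + 1) => (g : Matrix (Fin (n + 2)) (Fin (n + 2)) R2) 0 j.succ with hr
  set B : Matrix (Fin (n + 1)) (Fin (n + 1)) R2 :=
    Matrix.of fun i j => (g : Matrix (Fin (n + 2)) (Fin (n + 2)) R2) i.succ j.succ with hB
  set r' := fun j : Fin (n + 1) => (g⁻¹ : SLn2 n).1 0 j.succ with hr'
  set B' : Matrix (Fin (n + 1)) (Fin (n + 1)) R2 :=
    Matrix.of fun i j => (g⁻¹ : SLn2 n).1 i.succ j.succ with hB'
  have m1 : amat r B * amat r' B' = 1 := by
    have : (g : Matrix (Fin (n + 2)) (Fin (n + 2)) R2) * (g⁻¹ : SLn2 n).1 = 1 := by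
      rw [← Matrix.SpecialLinearGroup.coe_mul, mul_inv_cancel]; rfl
    rw [← e1, ← e2]; exact this
  have m2 : amat r' B' * amat r B = 1 := by
    have : (g⁻¹ : SLn2 n).1 * (g : Matrix (Fin (n + 2)) (Fin (n + 2)) R2) = 1 := by
      rw [← Matrix.SpecialLinearGroup.coe_mul, inv_mul_cancel]; rfl
    rw [← e1, ← e2]; exact this
  rw [amat_mul, ← amat_one] at m1 m2
  have hBB' : B * B' = 1 := (amat_inj m1).2
  have hB'B : B' * B = 1 := (amat_inj m2).2
  let D : (Matrix (Fin (n + 1)) (Fin (n + 1)) R2)ˣ :=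
    ⟨B'ᵀ, Bᵀ, by rw [← Matrix.transpose_mul, hBB', Matrix.transpose_one],
      by rw [← Matrix.transpose_mul, hB'B, Matrix.transpose_one]⟩
  refine ⟨r ᵥ* B', D, ?_⟩
  apply Subtype.ext
  rw [tr_mul_cg_coe]
  have hD : (↑D⁻¹ : Matrix (Fin (n + 1)) (Fin (n + 1)) R2) = Bᵀ := rfl
  rw [hD, Matrix.transpose_transpose, Matrix.mulVec_transpose, Matrix.vecMul_vecMul, hB'B,
    Matrix.vecMul_one]
  exact e1

end Cfsg.Agent.Lib.Helper28.Tv
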