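import Cfsg.Agent.Lib.Helper28.AffA

set_option autoImplicit false

/-! Coordinates on an elementary abelian 2-group and the embedding of the holomorph. -/

namespace Cfsg.Agent.Lib.Helper28.Tv

open Matrix

variable {n : ℕ}

/-- coordinates on an elementary abelian `2`-group with a prescribed first basis vector -/
theorem exists_coords {A : Type*} [Group A] [Finite A] (hc : ∀ a b : A, a * b = b * a)
    (h2 : ∀ a : A, a ^ 2 = 1) (hcard : Nat.card A = 2 ^ (n + 1)) (z : A) (hz : z ≠ 1) :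
    ∃ e : A ≃* Multiplicative (Fin (n + 1) → R2),
      e z = Multiplicative.ofAdd (Pi.single 0 1) := by
  letI : CommGroup A := { (inferInstance : Group A) with mul_comm := hc }
  letI : Module (ZMod 2) (Additive A) := AddCommGroup.zmodModule (n := 2) (fun x => by
    have := h2 x.toMul
    exact congrArg Additive.ofMul this)
  haveI : Fact (Nat.Prime 2) := ⟨Nat.prime_two⟩
  haveI : Fintype (Additive A) := Fintype.ofFinite _
  have hfr : Module.finrank (ZMod 2) (Additive A) = n + 1 := by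
    have h1 := Module.card_eq_pow_finrank (K := ZMod 2) (V := Additive A)
    rw [ZMod.card, ← Nat.card_eq_fintype_card] at h1
    have h3 : Nat.card (Additive A) = 2 ^ (n + 1) := hcard
    rw [h3] at h1
    exact (Nat.pow_right_injective (le_refl 2) h1).symm
  let y : Additive A := Additive.ofMul z
  have hy : y ≠ 0 := fun h => hz (congrArg Additive.toMul h)
  obtain ⟨W, hW⟩ := Submodule.exists_isCompl (Submodule.span (ZMod 2) {y})
  have hWfr : Module.finrank (ZMod 2) W = n := by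
    have h1 := Submodule.finrank_add_eq_of_isCompl hW
    rw [finrank_span_singleton hy, hfr] at h1
    omega
  let bW := Module.finBasisOfFinrankEq (ZMod 2) W hWfr
  have hli : ∀ (c : ZMod 2), ∀ x ∈ W, c • y + x = 0 → c = 0 := by
    intro c x hx hcx
    have h1 : c • y ∈ Submodule.span (ZMod 2) {y} :=
      Submodule.smul_mem _ _ (Submodule.mem_span_singleton_self y)
    have h2' : c • y ∈ W := by
      have : c • y = -x := eq_neg_of_add_eq_zero_left hcx
      rw [this]; exact W.neg_mem hx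
    have h3 : c • y = 0 := by
      have := hW.disjoint.le_bot ⟨h1, h2'⟩
      simpa using this
    rcases smul_eq_zero.mp h3 with h | h
    · exact h
    · exact absurd h hy
  have hsp : ∀ w : Additive A, ∃ c : ZMod 2, w + c • y ∈ W := by
    intro w
    have h1 : w ∈ Submodule.span (ZMod 2) {y} ⊔ W := by rw [hW.sup_eq_top]; trivial
    obtain ⟨s, hs, t, ht, hst⟩ := Submodule.mem_sup.mp h1
    obtain ⟨c, rfl⟩ := Submodule.mem_span_singleton.mp hs
    refine ⟨-c, ?_⟩
    rw [← hst]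
    have : c • y + t + -c • y = t := by rw [neg_smul]; abel
    rw [this]; exact ht
  let b := Module.Basis.mkFinCons y bW hli hsp
  have hb0 : b 0 = y := by
    have := congrFun (Module.Basis.coe_mkFinCons y bW hli hsp) 0
    rw [Fin.cons_zero] at this
    exact this
  let f : Additive A ≃+ (Fin (n + 1) → R2) := b.equivFun.toAddEquiv
  refine ⟨AddEquiv.toMultiplicativeRight f, ?_⟩
  show Multiplicative.ofAdd (f (Additive.ofMul z)) = _
  congr 1
  show b.equivFun y = _
  rw [← hb0]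
  funext j
  rw [Module.Basis.equivFun_self, Pi.single_apply]
  by_cases h : j = 0
  · simp [h]
  · simp [h, Ne.symm h]

section embed

variable {G : Type*} [Group G] (U : Subgroup G) [U.Normal]
  (e : ↥U ≃* Multiplicative (Fin (n + 1) → R2))

/-- conjugation in coordinates, as an additive map -/
def conjAdd (g : G) : (Fin (n + 1) → R2) →+ (Fin (n + 1) → R2) where
  toFun x := (e (MulAut.conjNormal g (e.symm (Multiplicative.ofAdd x)))).toAdd
  map_zero' := by
    rw [ofAdd_zero, map_one, map_one, map_one]; rfl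
  map_add' x y := by
    rw [ofAdd_add, map_mul, map_mul, map_mul, toAdd_mul]

theorem conjAdd_apply (g : G) (u : ↥U) :
    conjAdd U e g (e u).toAdd = (e (MulAut.conjNormal g u)).toAdd := by
  show (e (MulAut.conjNormal g (e.symm (Multiplicative.ofAdd (e u).toAdd)))).toAdd = _
  rw [ofAdd_toAdd, MulEquiv.symm_apply_apply]

theorem conjAdd_mul (g h : G) (x : Fin (n + 1) → R2) :
    conjAdd U e (g * h) x = conjAdd U e g (conjAdd U e h x) := by
  obtain ⟨u, rfl⟩ : ∃ u : ↥U, x = (e u).toAdd :=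
    ⟨e.symm (Multiplicative.ofAdd x), by rw [MulEquiv.apply_symm_apply]; rfl⟩
  rw [conjAdd_apply, conjAdd_apply, conjAdd_apply, map_mul, MulAut.mul_apply]

theorem conjAdd_one (x : Fin (n + 1) → R2) : conjAdd U e 1 x = x := by
  obtain ⟨u, rfl⟩ : ∃ u : ↥U, x = (e u).toAdd :=
    ⟨e.symm (Multiplicative.ofAdd x), by rw [MulEquiv.apply_symm_apply]; rfl⟩
  rw [conjAdd_apply, map_one, MulAut.one_apply]

/-- the matrix of conjugation -/
noncomputable def cmatHom : G →* Matrix (Fin (n + 1)) (Fin (n + 1)) R2 where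
  toFun g := LinearMap.toMatrix' ((conjAdd U e g).toZModLinearMap 2)
  map_one' := by
    rw [← LinearMap.toMatrix'_id]
    congr 1
    apply LinearMap.ext
    intro x
    exact conjAdd_one U e x
  map_mul' g h := by
    rw [← LinearMap.toMatrix'_comp]
    congr 1
    apply LinearMap.ext
    intro x
    exact conjAdd_mul U e g h x

theorem cmatHom_mulVec (g : G) (x : Fin (n + 1) → R2) :
    cmatHom U e g *ᵥ x = conjAdd U e g x := by
  show LinearMap.toMatrix' ((conjAdd U e g).toZModLinearMap 2) *ᵥ x = _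
  rw [LinearMap.toMatrix'_mulVec]; rfl

/-- conjugation matrices as units -/
noncomputable def cunit : G →* (Matrix (Fin (n + 1)) (Fin (n + 1)) R2)ˣ :=
  (cmatHom U e).toHomUnits

theorem cunit_mulVec (g : G) (u : ↥U) :
    ((cunit U e g : (Matrix (Fin (n + 1)) (Fin (n + 1)) R2)ˣ) :
      Matrix (Fin (n + 1)) (Fin (n + 1)) R2) *ᵥ (e u).toAdd =
      (e (MulAut.conjNormal g u)).toAdd := by
  show cmatHom U e g *ᵥ (e u).toAdd = _
  rw [cmatHom_mulVec, conjAdd_apply]

theorem cunit_eq_one_iff (g : G) : cunit U e g = 1 ↔ ∀ u ∈ U, g * u * g⁻¹ = u := by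
  constructor
  · intro h u hu
    have h1 := cunit_mulVec U e g ⟨u, hu⟩
    rw [h, Units.val_one, Matrix.one_mulVec] at h1
    have h2 : e ⟨u, hu⟩ = e (MulAut.conjNormal g ⟨u, hu⟩) := h1
    have h3 := e.injective h2
    have h4 := congrArg Subtype.val h3
    rw [MulAut.conjNormal_apply] at h4
    exact h4.symm
  · intro h
    apply Units.ext
    rw [Units.val_one]
    apply Matrix.toLin'.injective
    apply LinearMap.ext
    intro x
    obtain ⟨u, rfl⟩ : ∃ u : ↥U, x = (e u).toAdd :=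
      ⟨e.symm (Multiplicative.ofAdd x), by rw [MulEquiv.apply_symm_apply]; rfl⟩
    rw [Matrix.toLin'_apply, cunit_mulVec, Matrix.toLin'_one, LinearMap.id_apply]
    congr 2
    apply Subtype.ext
    rw [MulAut.conjNormal_apply]
    exact h u u.2

variable (M : Subgroup G)

theorem lift_compat (φ : ↥M →* MulAut ↥U)
    (hφ : ∀ (m : ↥M) (u : ↥U), ((φ m u : ↥U) : G) = m * u * (m : G)⁻¹) (m : ↥M) :
    ((trHom n).comp e.toMonoidHom).comp (φ m).toMonoidHom =
      (MulAut.conj (((cgHom n).comp ((cunit U e).comp M.subtype)) m)).toMonoidHom.comp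
        ((trHom n).comp e.toMonoidHom) := by
  ext u : 1
  show trHom n (e (φ m u)) = cg (cunit U e (m : G)) * trHom n (e u) * (cg (cunit U e (m : G)))⁻¹
  rw [trHom_apply, trHom_apply, cg_mul_tr, mul_inv_cancel_right, cunit_mulVec]
  congr 3
  apply Subtype.ext
  rw [hφ, MulAut.conjNormal_apply]

/-- the embedding, on the semidirect product -/
noncomputable def iotaS (φ : ↥M →* MulAut ↥U)
    (hφ : ∀ (m : ↥M) (u : ↥U), ((φ m u : ↥U) : G) = m * u * (m : G)⁻¹) :
    ↥U ⋊[φ] ↥M →* SLn2 n :=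
  SemidirectProduct.lift ((trHom n).comp e.toMonoidHom)
    ((cgHom n).comp ((cunit U e).comp M.subtype)) (lift_compat U e M φ hφ)

theorem iotaS_apply (φ : ↥M →* MulAut ↥U)
    (hφ : ∀ (m : ↥M) (u : ↥U), ((φ m u : ↥U) : G) = m * u * (m : G)⁻¹) (x : ↥U ⋊[φ] ↥M) :
    iotaS U e M φ hφ x = tr (e x.left).toAdd * cg (cunit U e (x.right : G)) := rfl

theorem iotaS_injective (φ : ↥M →* MulAut ↥U)
    (hφ : ∀ (m : ↥M) (u : ↥U), ((φ m u : ↥U) : G) = m * u * (m : G)⁻¹)
    (hfaith : ∀ m ∈ M, (∀ u ∈ U, m * u * m⁻¹ = u) → m = 1) :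
    Function.Injective (iotaS U e M φ hφ) := by
  rw [injective_iff_map_eq_one]
  intro x hx
  rw [iotaS_apply] at hx
  obtain ⟨h1, h2⟩ := tr_mul_cg_eq_one hx
  have h3 : x.left = 1 := by
    apply e.injective
    rw [map_one]
    exact h1
  have h4 : x.right = 1 := by
    apply Subtype.ext
    exact hfaith _ x.right.2 ((cunit_eq_one_iff U e _).mp h2)
  exact SemidirectProduct.ext h3 h4

theorem exists_cunit_eq
    (hfull : ∀ ψ : ↥U ≃* ↥U, ∃ m ∈ M, ∀ u : ↥U, ((ψ u : ↥U) : G) = m * u * m⁻¹)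
    (D : (Matrix (Fin (n + 1)) (Fin (n + 1)) R2)ˣ) : ∃ m ∈ M, cunit U e m = D := by
  let ψ : (Fin (n + 1) → R2) ≃+ (Fin (n + 1) → R2) :=
    { toFun := fun x => (D : Matrix (Fin (n + 1)) (Fin (n + 1)) R2) *ᵥ x
      invFun := fun x => (↑D⁻¹ : Matrix (Fin (n + 1)) (Fin (n + 1)) R2) *ᵥ x
      left_inv := fun x => by
        show (↑D⁻¹ : Matrix (Fin (n + 1)) (Fin (n + 1)) R2) *ᵥ
          ((D : Matrix (Fin (n + 1)) (Fin (n + 1)) R2) *ᵥ x) = x
        rw [Matrix.mulVec_mulVec, Units.inv_mul, Matrix.one_mulVec]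
      right_inv := fun x => by
        show (D : Matrix (Fin (n + 1)) (Fin (n + 1)) R2) *ᵥ
          ((↑D⁻¹ : Matrix (Fin (n + 1)) (Fin (n + 1)) R2) *ᵥ x) = x
        rw [Matrix.mulVec_mulVec, Units.mul_inv, Matrix.one_mulVec]
      map_add' := fun x y => Matrix.mulVec_add _ x y }
  let Φ : ↥U ≃* ↥U := (e.trans (AddEquiv.toMultiplicative ψ)).trans e.symm
  obtain ⟨m, hm, hmΦ⟩ := hfull Φ
  refine ⟨m, hm, ?_⟩
  apply Units.ext
  apply Matrix.toLin'.injective
  apply LinearMap.ext
  intro x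
  obtain ⟨u, rfl⟩ : ∃ u : ↥U, x = (e u).toAdd :=
    ⟨e.symm (Multiplicative.ofAdd x), by rw [MulEquiv.apply_symm_apply]; rfl⟩
  rw [Matrix.toLin'_apply, cunit_mulVec, Matrix.toLin'_apply]
  have h1 : MulAut.conjNormal m u = Φ u := by
    apply Subtype.ext
    rw [MulAut.conjNormal_apply, hmΦ]
  rw [h1]
  show (e (e.symm (AddEquiv.toMultiplicative ψ (e u)))).toAdd = _
  rw [MulEquiv.apply_symm_apply]
  rfl

theorem Cz_le_range_iotaS (φ : ↥M →* MulAut ↥U)
    (hφ : ∀ (m : ↥M) (u : ↥U), ((φ m u : ↥U) : G) = m * u * (m : G)⁻¹)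
    (hfull : ∀ ψ : ↥U ≃* ↥U, ∃ m ∈ M, ∀ u : ↥U, ((ψ u : ↥U) : G) = m * u * m⁻¹) :
    Cz n ≤ (iotaS U e M φ hφ).range := by
  intro g hg
  obtain ⟨x, D, rfl⟩ := exists_tr_cg_of_mem_Cz hg
  obtain ⟨m, hm, hmD⟩ := exists_cunit_eq U e M hfull D
  refine ⟨⟨e.symm (Multiplicative.ofAdd x), ⟨m, hm⟩⟩, ?_⟩
  rw [iotaS_apply]
  show tr (e (e.symm (Multiplicative.ofAdd x))).toAdd * cg (cunit U e m) = _
  rw [MulEquiv.apply_symm_apply, hmD]
  rfl

/-- the conjugation action of `M` on `U` -/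
abbrev phiM : ↥M →* MulAut ↥U :=
  (U.normalizerMonoidHom).comp (Subgroup.inclusion (U.normalizer_eq_top ▸ le_top))

theorem phiM_apply (m : ↥M) (u : ↥U) : ((phiM U M m u : ↥U) : G) = m * u * (m : G)⁻¹ := rfl

/-- the embedding of `G = U ⋊ M` -/
noncomputable def iota (h : U.IsComplement' M) : G →* SLn2 n :=
  (iotaS U e M (phiM U M) (phiM_apply U M)).comp
    (SemidirectProduct.mulEquivSubgroup h).symm.toMonoidHom

theorem iota_apply (h : U.IsComplement' M) (g : G) :
    iota U e M h g = iotaS U e M (phiM U M) (phiM_apply U M)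
      ((SemidirectProduct.mulEquivSubgroup h).symm g) := rfl

theorem iota_injective (h : U.IsComplement' M)
    (hfaith : ∀ m ∈ M, (∀ u ∈ U, m * u * m⁻¹ = u) → m = 1) :
    Function.Injective (iota U e M h) := by
  intro a b hab
  rw [iota_apply, iota_apply] at hab
  exact (MulEquiv.injective _) (iotaS_injective U e M _ _ hfaith hab)

theorem Cz_le_range_iota (h : U.IsComplement' M)
    (hfull : ∀ ψ : ↥U ≃* ↥U, ∃ m ∈ M, ∀ u : ↥U, ((ψ u : ↥U) : G) = m * u * m⁻¹) :
    Cz n ≤ (iota U e M h).range := by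
  intro g hg
  obtain ⟨x, hx⟩ := Cz_le_range_iotaS U e M (phiM U M) (phiM_apply U M) hfull hg
  exact ⟨SemidirectProduct.mulEquivSubgroup h x, by
    rw [iota_apply, MulEquiv.symm_apply_apply]; exact hx⟩

theorem iota_of_mem (h : U.IsComplement' M) (u : ↥U) :
    iota U e M h (u : G) = tr (e u).toAdd := by
  have h1 : (SemidirectProduct.mulEquivSubgroup h).symm (u : G) = SemidirectProduct.inl u := by
    rw [MulEquiv.symm_apply_eq]
    simp
  rw [iota_apply, h1, iotaS_apply]
  simp [cg_one]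

end embed

end Cfsg.Agent.Lib.Helper28.Tv
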