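import Cfsg.Agent.Lib.Helper28.AffB
import Cfsg.Prelude.Def_MonsterType

set_option autoImplicit false

/-! Transport of the structure of `Cz n` along an embedding. -/

namespace Cfsg.Agent.Lib.Helper28.Tv

open Matrix

variable {n : ℕ}

section generic

variable {P P' : Type*} [Group P] [Group P']

/-- the preimage of a subgroup of the range under an injective hom -/
noncomputable def comapEquiv {A B : Type*} [Group A] [Group B] (f : A →* B)
    (hf : Function.Injective f) (S : Subgroup B) (hS : S ≤ f.range) : ↥(S.comap f) ≃* ↥S :=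
  MulEquiv.ofBijective (f.subgroupComap S)
    ⟨fun a b hab => Subtype.ext (hf (congrArg Subtype.val hab)),
     fun s => by
      obtain ⟨a, ha⟩ := hS s.2
      exact ⟨⟨a, by rw [Subgroup.mem_comap, ha]; exact s.2⟩, Subtype.ext ha⟩⟩

theorem comapEquiv_coe {A B : Type*} [Group A] [Group B] (f : A →* B)
    (hf : Function.Injective f) (S : Subgroup B) (hS : S ≤ f.range) (a : ↥(S.comap f)) :
    ((comapEquiv f hf S hS a : ↥S) : B) = f a := rfl

theorem comap_frattini_equiv (e : P ≃* P') : (frattini P').comap e.toMonoidHom = frattini P := by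
  apply le_antisymm
  · have h1 : frattini P' ≤ (frattini P).comap e.symm.toMonoidHom :=
      frattini_le_comap_frattini_of_surjective e.symm.surjective
    intro x hx
    have h2 := h1 hx
    rw [Subgroup.mem_comap] at h2
    simpa using h2
  · exact frattini_le_comap_frattini_of_surjective e.surjective

theorem comap_center_equiv (e : P ≃* P') :
    (Subgroup.center P').comap e.toMonoidHom = Subgroup.center P := by
  ext x
  rw [Subgroup.mem_comap, Subgroup.mem_center_iff, Subgroup.mem_center_iff]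
  constructor
  · intro h y
    apply e.injective
    rw [map_mul, map_mul]
    exact h (e y)
  · intro h y'
    obtain ⟨y, rfl⟩ := e.surjective y'
    show e y * e x = e x * e y
    rw [← map_mul, ← map_mul, h y]

theorem comap_commutator_equiv (e : P ≃* P') :
    (commutator P').comap e.toMonoidHom = commutator P := by
  have h1 : (commutator P).map e.toMonoidHom = commutator P' := by
    rw [map_commutator_eq, commutator_def]
    have : e.toMonoidHom.range = ⊤ := MonoidHom.range_eq_top.mpr e.surjective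
    rw [this]
  rw [← h1, Subgroup.comap_map_eq_self_of_injective e.injective]

theorem isExtraspecial_of_mulEquiv {p : ℕ} (e : P ≃* P') (h : Cfsg.IsExtraspecial p P) :
    Cfsg.IsExtraspecial p P' := by
  obtain ⟨⟨hp, hf, hk⟩, hc⟩ := h
  have hsurj : Function.Surjective e.toMonoidHom := e.surjective
  refine ⟨⟨hp.of_equiv e, ?_, ?_⟩, ?_⟩
  · apply Subgroup.comap_injective hsurj
    rw [comap_frattini_equiv, comap_center_equiv, hf]
  · apply Subgroup.comap_injective hsurj
    rw [comap_commutator_equiv, comap_center_equiv, hk]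
  · rw [← hc, ← comap_center_equiv e]
    exact (Nat.card_congr (comapEquiv e.toMonoidHom e.injective (Subgroup.center P')
      (by rw [MonoidHom.range_eq_top.mpr e.surjective]; exact le_top)).toEquiv).symm

theorem pCore_le_comap_equiv (p : ℕ) (e : P ≃* P') :
    Cfsg.pCore p P ≤ (Cfsg.pCore p P').comap e.toMonoidHom := by
  unfold Cfsg.pCore
  apply sSup_le
  rintro N ⟨hN, hNp⟩
  rw [← Subgroup.map_le_iff_le_comap]
  apply le_sSup
  exact ⟨hN.map _ e.surjective, hNp.map _⟩

theorem comap_pCore_equiv (p : ℕ) (e : P ≃* P') :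
    (Cfsg.pCore p P').comap e.toMonoidHom = Cfsg.pCore p P := by
  apply le_antisymm
  · intro x hx
    rw [Subgroup.mem_comap] at hx
    have h2 := pCore_le_comap_equiv p e.symm hx
    rw [Subgroup.mem_comap] at h2
    simpa using h2
  · exact pCore_le_comap_equiv p e

theorem center_map_subtype (Q : Subgroup P) :
    (Subgroup.center ↥Q).map Q.subtype = Q ⊓ Subgroup.centralizer (Q : Set P) := by
  ext g
  rw [Subgroup.mem_map, Subgroup.mem_inf, Subgroup.mem_centralizer_iff]
  constructor
  · rintro ⟨x, hx, rfl⟩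
    refine ⟨x.2, fun y hy => ?_⟩
    have := Subgroup.mem_center_iff.mp hx ⟨y, hy⟩
    exact congrArg Subtype.val this
  · rintro ⟨hgQ, hg⟩
    refine ⟨⟨g, hgQ⟩, ?_, rfl⟩
    rw [Subgroup.mem_center_iff]
    intro y
    apply Subtype.ext
    exact hg y.1 y.2

end generic

theorem subsingleton_SLn (hn : n < 2) : Subsingleton (SLn n) := by
  constructor
  intro g h
  apply Subtype.ext
  interval_cases n
  · ext i; exact i.elim0
  · ext i j
    have hg := g.2
    have hh := h.2
    rw [Matrix.det_fin_one] at hg hh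
    have hi : i = 0 := Subsingleton.elim _ _
    have hj : j = 0 := Subsingleton.elim _ _
    subst hi; subst hj
    rw [hg, hh]

theorem o2_sl_eq_bot' (N : Subgroup (SLn n)) [hNn : N.Normal] (hN : IsPGroup 2 N) : N = ⊥ := by
  rcases Nat.lt_or_ge n 2 with h | h
  · have := subsingleton_SLn h
    exact Subsingleton.elim _ _
  · exact o2_sl_eq_bot h N hN

/-- the `2`-core of the centralizer, for all `n` -/
theorem pCore_Cz' :
    (Cfsg.pCore 2 ↥(Cz n)).map (Cz n).subtype = Qs n := by
  have hnorm : (Cfsg.pCore 2 ↥(Cz n)).Normal := by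
    unfold Cfsg.pCore
    rw [sSup_eq_iSup']
    have : ∀ i : {N : Subgroup ↥(Cz n) | N.Normal ∧ IsPGroup 2 N}, (i : Subgroup ↥(Cz n)).Normal :=
      fun i => i.2.1
    infer_instance
  have hp : IsPGroup 2 (Cfsg.pCore 2 ↥(Cz n)) := by
    unfold Cfsg.pCore
    exact Sylow.sSup_of_normal _ (fun H hH => hH.2) (fun H hH => hH.1)
  have hker : Cfsg.pCore 2 ↥(Cz n) = (piHom n).ker := by
    apply le_antisymm
    · have h1 : ((Cfsg.pCore 2 ↥(Cz n)).map (piHom n)).Normal :=
        hnorm.map _ piHom_surjective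
      have h2 : IsPGroup 2 ((Cfsg.pCore 2 ↥(Cz n)).map (piHom n)) := hp.map _
      have h3 := o2_sl_eq_bot' _ h2
      rw [← Subgroup.map_eq_bot_iff, h3]
    · unfold Cfsg.pCore
      apply le_sSup
      refine ⟨(piHom n).normal_ker, ?_⟩
      have e : ↥(piHom n).ker ≃* ↥(Qs n) :=
        { toFun := fun g => ⟨g.1.1, mem_ker_piHom.mp g.2⟩
          invFun := fun g => ⟨⟨g.1, Qs_le_Cz g.2⟩, mem_ker_piHom.mpr g.2⟩
          left_inv := fun g => rfl
          right_inv := fun g => rfl
          map_mul' := fun g h => rfl }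
      exact Qs_isPGroup.of_equiv e.symm
  rw [hker, Qs_eq_map]

/-- `SL_n(2) ≃ GL_n(2)` -/
noncomputable def slEquivGL (n : ℕ) : SLn n ≃* Matrix.GeneralLinearGroup (Fin n) (ZMod 2) :=
  MulEquiv.ofBijective (Matrix.SpecialLinearGroup.toGL : SLn n →* _)
    ⟨Matrix.SpecialLinearGroup.toGL_injective, fun g =>
      ⟨⟨(g : Matrix (Fin n) (Fin n) (ZMod 2)),
        det_eq_one_of_mul_eq_one (M' := ((g⁻¹ : Matrix.GeneralLinearGroup (Fin n) (ZMod 2)) :
          Matrix (Fin n) (Fin n) (ZMod 2))) (by
          rw [← Matrix.GeneralLinearGroup.coe_mul, mul_inv_cancel]; rfl)⟩,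
        Units.ext rfl⟩⟩

end Cfsg.Agent.Lib.Helper28.Tv

namespace Cfsg.Agent.Lib.Helper28.Tv

open Matrix

variable {n : ℕ}

section transport

variable {G : Type*} [Group G] (ι : G →* SLn2 n) (hι : Function.Injective ι) (z : G)
  (hz : ι z = z0 n) (hr : Cz n ≤ ι.range)

include hι hz in
theorem comap_Cz : (Cz n).comap ι = Subgroup.centralizer {z} := by
  ext g
  rw [Subgroup.mem_comap, Cz, Subgroup.mem_centralizer_iff, Subgroup.mem_centralizer_iff]
  constructor
  · intro h x hx
    rw [Set.mem_singleton_iff] at hx; subst hx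
    apply hι; rw [map_mul, map_mul, hz]; exact h _ rfl
  · intro h x hx
    rw [Set.mem_singleton_iff] at hx; subst hx
    rw [← hz, ← map_mul, ← map_mul, h z rfl]

include hι hz hr in
theorem pCore_centralizer :
    (Cfsg.pCore 2 ↥(Subgroup.centralizer ({z} : Set G))).map
      (Subgroup.centralizer ({z} : Set G)).subtype = (Qs n).comap ι := by
  rw [← comap_Cz ι hι z hz]
  have hj := comap_pCore_equiv 2 (comapEquiv ι hι (Cz n) hr)
  rw [← hj, ← pCore_Cz']
  ext g
  rw [Subgroup.mem_map, Subgroup.mem_comap, Subgroup.mem_map]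
  constructor
  · rintro ⟨c, hc, rfl⟩
    rw [Subgroup.mem_comap] at hc
    exact ⟨_, hc, rfl⟩
  · rintro ⟨d, hd, hdg⟩
    have hg : g ∈ (Cz n).comap ι := by
      rw [Subgroup.mem_comap, ← hdg]; exact d.2
    refine ⟨⟨g, hg⟩, ?_, rfl⟩
    rw [Subgroup.mem_comap]
    have : (comapEquiv ι hι (Cz n) hr).toMonoidHom ⟨g, hg⟩ = d := Subtype.ext hdg.symm
    rw [this]; exact hd

include hι hz hr in
theorem Qs_le_range : Qs n ≤ ι.range := Qs_le_Cz.trans hr

include hι hz hr in
theorem z_mem_comap_Qs : z ∈ (Qs n).comap ι := by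
  rw [Subgroup.mem_comap, hz]; exact z0_mem_Qs

include hι hz hr in
theorem centralizer_comap_Qs :
    Subgroup.centralizer (((Qs n).comap ι : Subgroup G) : Set G) = Subgroup.zpowers z := by
  have hQr : Qs n ≤ ι.range := Qs_le_Cz.trans hr
  ext g
  constructor
  · intro hg
    have h1 : ι g ∈ Subgroup.centralizer (Qs n : Set (SLn2 n)) := by
      rw [Subgroup.mem_centralizer_iff]
      intro q' hq'
      obtain ⟨q, rfl⟩ := hQr hq'
      rw [← map_mul, ← map_mul]
      congr 1
      exact (Subgroup.mem_centralizer_iff.mp hg) q hq'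
    rw [centralizer_Qs, ← hz, ← MonoidHom.map_zpowers] at h1
    obtain ⟨g', hg', hgg'⟩ := h1
    rw [← hι hgg']; exact hg'
  · intro hg
    rw [Subgroup.mem_centralizer_iff]
    intro q hq
    have h1 : ι g ∈ Subgroup.centralizer (Qs n : Set (SLn2 n)) := by
      rw [centralizer_Qs, ← hz, ← MonoidHom.map_zpowers]
      exact Subgroup.mem_map_of_mem _ hg
    apply hι
    rw [map_mul, map_mul]
    exact (Subgroup.mem_centralizer_iff.mp h1) (ι q) hq

include hι hz hr in
theorem center_comap_Qs :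
    (Subgroup.center ↥((Qs n).comap ι)).map ((Qs n).comap ι).subtype = Subgroup.zpowers z := by
  rw [center_map_subtype, centralizer_comap_Qs ι hι z hz hr]
  exact inf_eq_right.mpr (Subgroup.zpowers_le.mpr (z_mem_comap_Qs ι hι z hz hr))

include hι hz hr in
theorem comap_Qs_extraspecial (hn : 1 ≤ n) : Cfsg.IsExtraspecial 2 ↥((Qs n).comap ι) :=
  isExtraspecial_of_mulEquiv (comapEquiv ι hι (Qs n) (Qs_le_Cz.trans hr)).symm
    (Qs_extraspecial hn)

include hι hz hr in
theorem card_comap_Qs : Nat.card ↥((Qs n).comap ι) = 2 ^ (2 * n + 1) := by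
  rw [Nat.card_congr (comapEquiv ι hι (Qs n) (Qs_le_Cz.trans hr)).toEquiv, card_Qs]

include hι hz hr in
theorem comap_Qs_large [Finite G] (hn : 1 ≤ n) : Cfsg.IsLargeExtraspecial ((Qs n).comap ι) := by
  have hQr : Qs n ≤ ι.range := Qs_le_Cz.trans hr
  refine ⟨comap_Qs_extraspecial ι hι z hz hr hn, ?_, ?_, ?_⟩
  · rw [center_comap_Qs ι hι z hz hr, centralizer_comap_Qs ι hι z hz hr]
  · rw [center_comap_Qs ι hι z hz hr]
    intro g hg
    have hg' : g ∈ (Cz n).comap ι := by
      rw [comap_Cz ι hι z hz, Subgroup.mem_centralizer_iff]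
      intro x hx
      rw [Set.mem_singleton_iff] at hx; subst hx
      exact (Subgroup.mem_centralizer_iff.mp hg) _ (Subgroup.mem_zpowers _)
    rw [Subgroup.mem_comap] at hg'
    have h1 := Cz_le_normalizer_Qs hg'
    rw [Subgroup.mem_normalizer_iff] at h1 ⊢
    intro q
    rw [Subgroup.mem_comap, Subgroup.mem_comap, map_mul, map_mul, map_inv]
    exact h1 (ι q)
  · intro K hK hQK
    have h1 : Odd (Nat.card ↥(K.map ι)) := by
      rw [Subgroup.card_map_of_injective hι]; exact hK
    have h2 : Qs n ≤ Subgroup.normalizer ((K.map ι : Subgroup (SLn2 n)) : Set (SLn2 n)) := by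
      intro q' hq'
      obtain ⟨q, rfl⟩ := hQr hq'
      have hq : q ∈ Subgroup.normalizer (K : Set G) := hQK hq'
      rw [Subgroup.mem_normalizer_iff] at hq ⊢
      intro y
      constructor
      · rintro ⟨k, hk, rfl⟩
        exact ⟨q * k * q⁻¹, (hq k).mp hk, by rw [map_mul, map_mul, map_inv]⟩
      · rintro ⟨k, hk, hk'⟩
        have h3 : ι (q⁻¹ * k * q) = y := by
          rw [map_mul, map_mul, map_inv, hk']; group
        have h4 : q⁻¹ * k * q ∈ K := by
          have := (hq (q⁻¹ * k * q)).mpr (by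
            have e : q * (q⁻¹ * k * q) * q⁻¹ = k := by group
            rw [e]; exact hk)
          exact this
        exact ⟨_, h4, h3⟩
    have h3 := odd_normalized_trivial hn _ h1 h2
    exact (Subgroup.map_eq_bot_iff_of_injective K hι).mp h3

include hι hz hr in
theorem comap_Es_props :
    (Es n).comap ι ≤ (Qs n).comap ι ∧ Cfsg.IsElementaryAbelian 2 ((Es n).comap ι) ∧
      Nat.card ↥((Es n).comap ι) = 2 ^ (n + 1) := by
  refine ⟨Subgroup.comap_mono Es_le_Qs, ⟨?_, ?_⟩, ?_⟩
  · obtain ⟨hc, -⟩ := Es_elementary (n := n)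
    refine ⟨⟨fun a b => ?_⟩⟩
    apply Subtype.ext
    apply hι
    have := mul_comm' (⟨ι a.1, a.2⟩ : ↥(Es n)) ⟨ι b.1, b.2⟩
    have h2 := congrArg Subtype.val this
    simpa using h2
  · intro a ha
    apply hι
    rw [map_pow, map_one]
    exact Es_elementary.2 _ ha
  · rw [Nat.card_congr (comapEquiv ι hι (Es n) ((Es_le_Qs.trans Qs_le_Cz).trans hr)).toEquiv,
      card_Es]

include hι hz hr in
theorem comap_Ks_props :
    (Ks n).comap ι ≤ Subgroup.centralizer ({z} : Set G) ∧
      (Qs n).comap ι ⊓ (Ks n).comap ι = ⊥ ∧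
      (Qs n).comap ι ⊔ (Ks n).comap ι = Subgroup.centralizer ({z} : Set G) ∧
      Nonempty (↥((Ks n).comap ι) ≃* Matrix.GeneralLinearGroup (Fin n) (ZMod 2)) := by
  refine ⟨?_, ?_, ?_, ?_⟩
  · rw [← comap_Cz ι hι z hz]; exact Subgroup.comap_mono Ks_le_Cz
  · rw [← Subgroup.comap_inf, Qs_inf_Ks]
    exact (MonoidHom.ker_eq_bot_iff ι).mpr hι
  · rw [Subgroup.comap_sup_eq_of_le_range ι (Qs_le_Cz.trans hr) (Ks_le_Cz.trans hr), Qs_sup_Ks,
      comap_Cz ι hι z hz]
  · exact ⟨((comapEquiv ι hι (Ks n) (Ks_le_Cz.trans hr)).trans (KsEquiv n)).trans (slEquivGL n)⟩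

end transport

end Cfsg.Agent.Lib.Helper28.Tv
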