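import Cfsg.Agent.Lib.Helper28.AffC

set_option autoImplicit false

/-! Transport of the structure of `Cz n` along an isomorphism of the centralizer of an involution. -/

namespace Cfsg.Agent.Lib.Helper28.Tv

open Matrix

variable {n : ℕ}

theorem pCore_normal (p : ℕ) (A : Type*) [Group A] : (Cfsg.pCore p A).Normal := by
  unfold Cfsg.pCore
  rw [sSup_eq_iSup']
  have : ∀ i : {N : Subgroup A | N.Normal ∧ IsPGroup p N}, (i : Subgroup A).Normal :=
    fun i => i.2.1
  infer_instance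

theorem pCore_Cz_eq_comap : Cfsg.pCore 2 ↥(Cz n) = (Qs n).comap (Cz n).subtype := by
  rw [← pCore_Cz', Subgroup.comap_map_eq_self_of_injective (Cz n).subtype_injective]

theorem le_normalizer_map_subtype {H : Type*} [Group H] (C : Subgroup H) (N : Subgroup ↥C)
    [hN : N.Normal] : C ≤ Subgroup.normalizer ((N.map C.subtype : Subgroup H) : Set H) := by
  intro c hc
  rw [Subgroup.mem_normalizer_iff]
  intro x
  constructor
  · rintro ⟨y, hy, rfl⟩
    exact ⟨⟨c, hc⟩ * y * ⟨c, hc⟩⁻¹, hN.conj_mem y hy ⟨c, hc⟩, rfl⟩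
  · rintro ⟨y, hy, hyx⟩
    have hxC : x ∈ C := by
      have h1 : c * x * c⁻¹ ∈ C := by rw [← hyx]; exact y.2
      have h2 := C.mul_mem (C.mul_mem (C.inv_mem hc) h1) hc
      have e : c⁻¹ * (c * x * c⁻¹) * c = x := by group
      rwa [e] at h2
    refine ⟨⟨x, hxC⟩, ?_, rfl⟩
    have h3 := hN.conj_mem y hy ⟨c, hc⟩⁻¹
    have e : (⟨c, hc⟩ : ↥C)⁻¹ * y * (⟨c, hc⟩ : ↥C)⁻¹⁻¹ = ⟨x, hxC⟩ := by
      apply Subtype.ext
      show c⁻¹ * (y : H) * c⁻¹⁻¹ = x
      have : (y : H) = c * x * c⁻¹ := hyx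
      rw [this]; group
    rwa [e] at h3

section

variable {H : Type*} [Group H] [Finite H] (z : H)
  (κ : ↥(Subgroup.centralizer ({z} : Set H)) ≃* ↥(Cz n))

/-- the induced embedding of the centralizer -/
def kHom : ↥(Subgroup.centralizer ({z} : Set H)) →* SLn2 n := (Cz n).subtype.comp κ.toMonoidHom

theorem kHom_injective : Function.Injective (kHom z κ) :=
  (Cz n).subtype_injective.comp κ.injective

theorem Cz_le_range_kHom : Cz n ≤ (kHom z κ).range := by
  intro g hg
  obtain ⟨c, hc⟩ := κ.surjective ⟨g, hg⟩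
  exact ⟨c, by show ((κ c : ↥(Cz n)) : SLn2 n) = g; rw [hc]⟩

theorem z_mem_centralizer : z ∈ Subgroup.centralizer ({z} : Set H) := by
  rw [Subgroup.mem_centralizer_iff]
  intro x hx
  rw [Set.mem_singleton_iff] at hx; subst hx; rfl

theorem centralizer_zc_eq_top :
    Subgroup.centralizer ({(⟨z, z_mem_centralizer z⟩ : ↥(Subgroup.centralizer ({z} : Set H)))} :
      Set ↥(Subgroup.centralizer ({z} : Set H))) = ⊤ := by
  rw [eq_top_iff]
  intro c _
  rw [Subgroup.mem_centralizer_iff]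
  intro x hx
  rw [Set.mem_singleton_iff] at hx; subst hx
  apply Subtype.ext
  exact (Subgroup.mem_centralizer_iff.mp c.2) z rfl

theorem pCore_centralizer_eq :
    Cfsg.pCore 2 ↥(Subgroup.centralizer ({z} : Set H)) = (Qs n).comap (kHom z κ) := by
  rw [← comap_pCore_equiv 2 κ, pCore_Cz_eq_comap, Subgroup.comap_comap]
  rfl

variable (hκ : ((κ ⟨z, z_mem_centralizer z⟩ : ↥(Cz n)) : SLn2 n) = z0 n)

include hκ in
/-- the structure of the centralizer of `z`, apart from the odd-order condition -/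
theorem package_of_equiv (hn : 1 ≤ n) (Q : Subgroup H)
    (hQ : Q = (Cfsg.pCore 2 ↥(Subgroup.centralizer ({z} : Set H))).map
      (Subgroup.centralizer ({z} : Set H)).subtype) :
    Cfsg.IsExtraspecial 2 ↥Q ∧ Nat.card ↥Q = 2 ^ (2 * n + 1) ∧
    (∃ E : Subgroup H, E ≤ Q ∧ Cfsg.IsElementaryAbelian 2 E ∧ Nat.card ↥E = 2 ^ (n + 1)) ∧
    (Subgroup.centralizer (Q : Set H) = (Subgroup.center ↥Q).map Q.subtype ∧
      Subgroup.centralizer (((Subgroup.center ↥Q).map Q.subtype : Subgroup H) : Set H) ≤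
        Subgroup.normalizer (Q : Set H) ∧
      (∀ K : Subgroup H, Odd (Nat.card K) → Q ≤ Subgroup.normalizer (K : Set H) →
        K ≤ Subgroup.centralizer ({z} : Set H) → K = ⊥)) ∧
    z ∈ Q ∧
    ∃ K : Subgroup H, K ≤ Subgroup.centralizer ({z} : Set H) ∧ Q ⊓ K = ⊥ ∧
      Q ⊔ K = Subgroup.centralizer ({z} : Set H) ∧
      Nonempty (↥K ≃* Matrix.SpecialLinearGroup (Fin n) (ZMod 2)) := by
  have hι := kHom_injective z κ
  have hr := Cz_le_range_kHom z κ
  have hz : kHom z κ ⟨z, z_mem_centralizer z⟩ = z0 n := hκ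
  have hQ' : Q = ((Qs n).comap (kHom z κ)).map (Subgroup.centralizer ({z} : Set H)).subtype := by
    rw [hQ, pCore_centralizer_eq z κ]
  have hinj := (Subgroup.centralizer ({z} : Set H)).subtype_injective
  -- the isomorphism `Q' ≃ Q`
  have eQ : ↥((Qs n).comap (kHom z κ)) ≃* ↥Q := by
    rw [hQ']
    exact Subgroup.equivMapOfInjective _ _ hinj
  have hzQ : z ∈ Q := by
    rw [hQ']
    exact ⟨⟨z, z_mem_centralizer z⟩, z_mem_comap_Qs _ hι _ hz hr, rfl⟩
  have hQC : Q ≤ Subgroup.centralizer ({z} : Set H) := by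
    rw [hQ']; exact Subgroup.map_subtype_le _
  have hlarge := comap_Qs_large _ hι _ hz hr hn
  obtain ⟨-, hl2, -, hl4⟩ := hlarge
  -- `C_H(Q) ≤ Q`
  have hCQ : Subgroup.centralizer (Q : Set H) ≤ Q := by
    intro h hh
    have hhC : h ∈ Subgroup.centralizer ({z} : Set H) := by
      rw [Subgroup.mem_centralizer_iff] at hh ⊢
      intro x hx
      rw [Set.mem_singleton_iff] at hx; subst hx
      exact hh x hzQ
    have h1 : (⟨h, hhC⟩ : ↥(Subgroup.centralizer ({z} : Set H))) ∈
        Subgroup.centralizer (((Qs n).comap (kHom z κ) : Subgroup _) : Set _) := by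
      rw [Subgroup.mem_centralizer_iff]
      intro q hq
      apply Subtype.ext
      have hqQ : (q : H) ∈ Q := by rw [hQ']; exact ⟨q, hq, rfl⟩
      exact (Subgroup.mem_centralizer_iff.mp hh) _ hqQ
    rw [hl2] at h1
    obtain ⟨x, -, hx⟩ := h1
    rw [hQ']
    exact ⟨⟨h, hhC⟩, by rw [← hx]; exact x.2, rfl⟩
  have hcen : (Subgroup.center ↥Q).map Q.subtype = Subgroup.centralizer (Q : Set H) := by
    rw [center_map_subtype]
    exact inf_eq_right.mpr hCQ
  refine ⟨isExtraspecial_of_mulEquiv eQ (comap_Qs_extraspecial _ hι _ hz hr hn),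
    by rw [← Nat.card_congr eQ.toEquiv]; exact card_comap_Qs _ hι _ hz hr, ?_, ⟨hcen.symm, ?_, ?_⟩,
    hzQ, ?_⟩
  · -- the elementary abelian subgroup
    obtain ⟨hE1, ⟨hE2, hE3⟩, hE4⟩ := comap_Es_props _ hι ⟨z, z_mem_centralizer z⟩ hz hr
    refine ⟨((Es n).comap (kHom z κ)).map (Subgroup.centralizer ({z} : Set H)).subtype, ?_,
      ⟨?_, ?_⟩, ?_⟩
    · rw [hQ']; exact Subgroup.map_mono hE1
    · haveI := hE2
      infer_instance
    · rintro _ ⟨a, ha, rfl⟩
      have := hE3 a ha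
      rw [← map_pow, this, map_one]
    · rw [Subgroup.card_map_of_injective hinj, hE4]
  · -- the centralizer of the centre normalizes `Q`
    rw [hcen]
    intro h hh
    have hzc : z ∈ Subgroup.centralizer (Q : Set H) := by
      rw [Subgroup.mem_centralizer_iff]
      intro q hq
      exact ((Subgroup.mem_centralizer_iff.mp (hQC hq)) z rfl).symm
    have hhC : h ∈ Subgroup.centralizer ({z} : Set H) := by
      rw [Subgroup.mem_centralizer_iff] at hh ⊢
      intro x hx
      rw [Set.mem_singleton_iff] at hx; subst hx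
      exact hh x hzc
    rw [hQ]
    haveI := pCore_normal 2 ↥(Subgroup.centralizer ({z} : Set H))
    exact le_normalizer_map_subtype _ _ hhC
  · -- the odd-order condition inside the centralizer
    intro K hK hQK hKC
    have h1 : Odd (Nat.card ↥(K.subgroupOf (Subgroup.centralizer ({z} : Set H)))) := by
      rw [Nat.card_congr (Subgroup.subgroupOfEquivOfLe hKC).toEquiv]; exact hK
    have h2 : (Qs n).comap (kHom z κ) ≤ Subgroup.normalizer
        ((K.subgroupOf (Subgroup.centralizer ({z} : Set H)) : Subgroup _) : Set _) := by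
      intro q hq
      have hqQ : (q : H) ∈ Q := by rw [hQ']; exact ⟨q, hq, rfl⟩
      have h3 := hQK hqQ
      rw [Subgroup.mem_normalizer_iff] at h3 ⊢
      intro x
      rw [Subgroup.mem_subgroupOf, Subgroup.mem_subgroupOf]
      exact h3 x
    have h4 := hl4 _ h1 h2
    rw [Subgroup.subgroupOf_eq_bot] at h4
    exact disjoint_iff.mp h4 ▸ (inf_eq_left.mpr hKC).symm
  · -- the complement
    obtain ⟨-, hK2, hK3, ⟨hK4⟩⟩ := comap_Ks_props _ hι ⟨z, z_mem_centralizer z⟩ hz hr
    rw [centralizer_zc_eq_top] at hK3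
    refine ⟨((Ks n).comap (kHom z κ)).map (Subgroup.centralizer ({z} : Set H)).subtype,
      Subgroup.map_subtype_le _, ?_, ?_, ?_⟩
    · rw [hQ', ← Subgroup.map_inf _ _ _ hinj, hK2, Subgroup.map_bot]
    · rw [hQ', ← Subgroup.map_sup, hK3, ← MonoidHom.range_eq_map, Subgroup.range_subtype]
    · exact ⟨((Subgroup.equivMapOfInjective _ _ hinj).symm.trans
        (comapEquiv _ hι (Ks n) (Ks_le_Cz.trans hr))).trans (KsEquiv n)⟩

end

end Cfsg.Agent.Lib.Helper28.Tv
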