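import Mathlib
import Cfsg.Agent.Lib.Helper27.AltFus.Defs
import Cfsg.Agent.Lib.helper17.AltFusO0
import Cfsg.Agent.Lib.helper17.AltFusO2
import Cfsg.Agent.Lib.helper3.AltFusO7

set_option autoImplicit false

/-! Project AltFus (S5165), piece O8 : `W0`, `R2` and the torus element (helper28). -/

namespace Cfsg.Agent.Lib.Helper28.AltFus

open Cfsg.Agent.Lib.Helper27.AltFus Equiv Cfsg.Agent.Lib.helper17.AltFus
  Cfsg.Agent.Lib.helper3.AltFus

theorem o8_nrm11_pow {p : ℕ} [Fact p.Prime] {I : Type*} (b : I → ZMod p) (n : ℕ) :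
    (nrm (1 : Perm I) (1 : I → (ZMod p)ˣ) b) ^ n = nrm 1 1 (n • b) := by
  induction n with
  | zero => rw [pow_zero, zero_smul, nrm11_zero]
  | succ n ih => rw [pow_succ, ih, nrm11_mul, succ_nsmul]

theorem o8_B0_pgroup (p : ℕ) [Fact p.Prime] (m' r : ℕ) : IsPGroup p ↥(B0 p m' r) := by
  intro g
  obtain ⟨b, hb⟩ := (mem_B0_iff p m' r g.1).1 g.2
  refine ⟨1, Subtype.ext ?_⟩
  rw [pow_one, Subgroup.coe_pow, hb, ← ext_pow, o8_nrm11_pow]
  have : p • b = 0 := by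
    funext i
    simp
  rw [this, nrm11_zero, ext_one]
  rfl

theorem o8_sig_pow_p (p : ℕ) [Fact p.Prime] (m' r : ℕ) :
    (ext (sig p m') : Perm (Mdl p m' r)) ^ p = 1 := by
  rw [← ext_pow, ← sgn_one, sgn_pow, mul_one, ZMod.natCast_self, sgn_zero, ext_one]

theorem o8_W0_eq (p : ℕ) [Fact p.Prime] (m' r : ℕ) :
    W0 p m' r = Subgroup.zpowers (ext (sig p m') : Perm (Mdl p m' r)) ⊔ B0 p m' r := by
  unfold W0 B0
  rw [Subgroup.closure_union, Subgroup.zpowers_eq_closure, sup_comm]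

theorem W0_pgroup (p : ℕ) [Fact p.Prime] (m' r : ℕ) : IsPGroup p ↥(W0 p m' r) := by
  rw [o8_W0_eq]
  apply IsPGroup.to_sup_of_normal_right' _ (o8_B0_pgroup p m' r)
  · rw [Subgroup.zpowers_le]
    exact nrm_mem_normalizer_B0 p m' r _ _ _
  · rw [IsPGroup.iff_orderOf]
    intro g
    have h1 : (g.1 : Perm (Mdl p m' r)) ^ p = 1 := by
      obtain ⟨k, hk⟩ := Subgroup.mem_zpowers_iff.1 g.2
      rw [← hk, ← zpow_natCast, ← zpow_mul, mul_comm, zpow_mul, zpow_natCast, o8_sig_pow_p,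
        one_zpow]
    have h2 : g ^ p = 1 := Subtype.ext (by rw [Subgroup.coe_pow, h1]; rfl)
    have h3 := orderOf_dvd_of_pow_eq_one h2
    rcases (Nat.dvd_prime (Fact.out : p.Prime)).1 h3 with h | h
    · exact ⟨0, by rw [h, pow_zero]⟩
    · exact ⟨1, by rw [h, pow_one]⟩

theorem B0_le_W0 (p : ℕ) [Fact p.Prime] (m' r : ℕ) : B0 p m' r ≤ W0 p m' r :=
  Subgroup.closure_mono Set.subset_union_left

theorem o8_sig_mem_W0 (p : ℕ) [Fact p.Prime] (m' r : ℕ) :
    (ext (sig p m') : Perm (Mdl p m' r)) ∈ W0 p m' r :=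
  Subgroup.subset_closure (Set.mem_union_right _ rfl)

theorem R2_le_W0 (p : ℕ) [Fact p.Prime] (m' r : ℕ) : R2 p m' r ≤ W0 p m' r := by
  unfold R2
  rw [Subgroup.closure_le]
  rintro x (hx | ⟨k, rfl⟩)
  · rcases hx with rfl | rfl
    · exact o8_sig_mem_W0 p m' r
    · exact B0_le_W0 p m' r (ext_nrm11_mem p m' r _)
  · exact Subgroup.subset_closure (Set.mem_union_left _ ⟨Sum.inr k, rfl⟩)

theorem W0_le_alt (p : ℕ) [Fact p.Prime] (hp : p ≠ 2) (m' r : ℕ) :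
    W0 p m' r ≤ alternatingGroup (Mdl p m' r) := by
  unfold W0
  rw [Subgroup.closure_le]
  rintro x (⟨i, rfl⟩ | hx)
  · exact Perm.mem_alternatingGroup.2
      (o7_sign_eq_one_of_pow Fact.out hp _ (ext_cyc_pow_p p m' r i))
  · rw [Set.mem_singleton_iff] at hx
    rw [hx]
    exact Perm.mem_alternatingGroup.2
      (o7_sign_eq_one_of_pow Fact.out hp _ (o8_sig_pow_p p m' r))

theorem B0_ne_bot (p : ℕ) [Fact p.Prime] (m' r : ℕ) : B0 p m' r ≠ ⊥ := by
  intro h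
  have h1 : (ext (cyc p m' (Sum.inl 0)) : Perm (Mdl p m' r)) ∈ B0 p m' r :=
    Subgroup.subset_closure (Set.mem_range_self _)
  rw [h, Subgroup.mem_bot] at h1
  exact ext_cyc_ne_one p m' r _ h1

theorem o8_uu_mul_sgn (p : ℕ) [Fact p.Prime] (m' : ℕ) (l : (ZMod p)ˣ) (c : ZMod p) :
    uu p m' l * sgn p m' c = sgn p m' (((l⁻¹ : (ZMod p)ˣ) : ZMod p) * c) * uu p m' l := by
  ext1 q
  rcases q with ⟨j | k, x⟩
  · rw [Perm.mul_apply, Perm.mul_apply, sgn_inl, uu_inl, uu_inl, sgn_inl, mul_add]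
  · rw [Perm.mul_apply, Perm.mul_apply, sgn_inr, uu_inr, sgn_inr]

theorem o8_sgn_mem_W0 (p : ℕ) [Fact p.Prime] (m' r : ℕ) (c : ZMod p) :
    (ext (sgn p m' c) : Perm (Mdl p m' r)) ∈ W0 p m' r := by
  rw [sgn_eq_pow, ext_pow]
  exact pow_mem (o8_sig_mem_W0 p m' r) _

theorem uu_mem_normalizer_W0 (p : ℕ) [Fact p.Prime] (m' r : ℕ) (l : (ZMod p)ˣ) :
    (ext (uu p m' l) : Perm (Mdl p m' r)) ∈
      Subgroup.normalizer ((W0 p m' r : Subgroup (Perm (Mdl p m' r))) : Set (Perm (Mdl p m' r))) := by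
  have hN : (ext (uu p m' l) : Perm (Mdl p m' r)) ∈
      Subgroup.normalizer ((B0 p m' r : Subgroup (Perm (Mdl p m' r))) : Set (Perm (Mdl p m' r))) :=
    nrm_mem_normalizer_B0 p m' r _ _ _
  unfold W0
  apply o7_mem_normalizer_closure
  · rintro s (⟨i, rfl⟩ | hs)
    · have h1 : (ext (cyc p m' i) : Perm (Mdl p m' r)) ∈ B0 p m' r :=
        Subgroup.subset_closure (Set.mem_range_self _)
      exact B0_le_W0 p m' r ((Subgroup.mem_normalizer_iff.1 hN _).1 h1)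
    · rw [Set.mem_singleton_iff] at hs
      rw [hs, ← sgn_one, ← ext_mul, o8_uu_mul_sgn, ext_mul, mul_inv_cancel_right]
      exact o8_sgn_mem_W0 p m' r _
  · rintro s (⟨i, rfl⟩ | hs)
    · have h1 : (ext (cyc p m' i) : Perm (Mdl p m' r)) ∈ B0 p m' r :=
        Subgroup.subset_closure (Set.mem_range_self _)
      have h2 := (Subgroup.mem_normalizer_iff.1 (inv_mem hN) _).1 h1
      rw [inv_inv] at h2
      exact B0_le_W0 p m' r h2
    · rw [Set.mem_singleton_iff] at hs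
      have h1 : (ext (sig p m') : Perm (Mdl p m' r)) * ext (uu p m' l) =
          ext (uu p m' l) * ext (sgn p m' (l : ZMod p)) := by
        rw [← ext_mul, ← ext_mul, o8_uu_mul_sgn, ← Units.val_mul, inv_mul_cancel, Units.val_one,
          sgn_one]
      rw [hs, mul_assoc, h1, inv_mul_cancel_left]
      exact o8_sgn_mem_W0 p m' r _

end Cfsg.Agent.Lib.Helper28.AltFus
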