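import Mathlib
import Cfsg.Agent.Lib.Lead.BCG.Defs
import Cfsg.Agent.Lib.Helper25.BCSB13h25
import Cfsg.Agent.Lib.Helper24.S5972SPLIT
import Cfsg.Agent.Lib.helper7.BCSA3
import Cfsg.Agent.Lib.helper7.BCSA9
import Cfsg.Agent.Lib.Helper22.BCSB12
import Cfsg.Agent.Lib.Helper20.BCGR1

set_option autoImplicit false
set_option linter.unusedVariables false

/-!
# Project BCG, row O3 (`o_2s_nec`) (helper28): core, with the statements of A16 `o_cyc_dim` and O6 `o_type_cond` (on the standard space) as hypotheses.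
-/

namespace Cfsg.Agent.Lib.Lead.BCG

open Polynomial Module Matrix Cfsg.Agent.Lib.Helper13.S5955 Cfsg.Agent.Lib.helper15.S5972
  Cfsg.Agent.Lib.Helper18.ONE Cfsg.Agent.Lib.Lead.BCS

/-- an involution preserving a line is `±1` on it -/
theorem bcgo3_line {F : Type*} [Field F] {V : Type*} [AddCommGroup V] [Module F V]
    (z : Module.End F V) (hzz : ∀ v, z (z v) = v) (L : Submodule F V) (hL : SInv z L)
    (hdim : finrank F L = 1) : (∀ w ∈ L, z w = w) ∨ (∀ w ∈ L, z w = -w) := by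
  obtain ⟨⟨f, hfL⟩, hf0, hspan⟩ := finrank_eq_one_iff'.1 hdim
  have hf0' : f ≠ 0 := fun h => hf0 (Subtype.ext h)
  have hrep : ∀ w ∈ L, ∃ c : F, w = c • f := by
    intro w hw
    obtain ⟨c, hc⟩ := hspan ⟨w, hw⟩
    exact ⟨c, by have := congrArg Subtype.val hc; simpa using this.symm⟩
  obtain ⟨a, ha⟩ := hrep (z f) (hL f hfL)
  have haa : a * a = 1 := by
    have h1 := hzz f
    rw [ha, map_smul, ha, smul_smul] at h1
    have h3 : (a * a - 1) • f = 0 := by rw [sub_smul, h1, one_smul, sub_self]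
    rcases smul_eq_zero.1 h3 with h | h
    · linear_combination h
    · exact absurd h hf0'
  have h3 : (a - 1) * (a + 1) = 0 := by linear_combination haa
  rcases mul_eq_zero.1 h3 with h | h
  · left
    intro w hw
    obtain ⟨c, rfl⟩ := hrep w hw
    rw [map_smul, ha, show a = 1 by linear_combination h, one_smul]
  · right
    intro w hw
    obtain ⟨c, rfl⟩ := hrep w hw
    rw [map_smul, ha, show a = -1 by linear_combination h, neg_smul, one_smul, smul_neg]

/-- O3 core -/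
theorem bcgo3_core {F : Type*} [Field F] [Fintype F] {p : ℕ} [Fact p.Prime] [CharP F p]
    (hodd : Odd (Fintype.card F)) (n : ℕ) (hn : 3 ≤ n) (s : ℕ) [Fact s.Prime] (hsp : s ≠ p)
    (hs2 : s ≠ 2)
    (hA16 : ∀ y : Module.End F (Unit ⊕ (Fin n ⊕ Fin n) → F), OCtx s (stdO n F) y → y ≠ 1 →
      0 < finrank F (cycS s y) ∧ cOf (Fintype.card F) s ∣ finrank F (cycS s y) ∧
        finrank F (fixS y) + finrank F (cycS s y) = finrank F (Unit ⊕ (Fin n ⊕ Fin n) → F))
    (hO6 : ∀ Z Y : GL (Unit ⊕ (Fin n ⊕ Fin n)) F,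
      Z ∈ Cfsg.Geo.omegaGL (Cfsg.quadFormOdd n F) → Z ^ 2 = 1 →
      Y ∈ Cfsg.isometryGroup F (Cfsg.quadFormOdd n F) → Y ^ s = 1 →
      cycS 2 (Matrix.toLin' (Z : Matrix (Unit ⊕ (Fin n ⊕ Fin n)) (Unit ⊕ (Fin n ⊕ Fin n)) F)) =
        cycS s (Matrix.toLin' (Y : Matrix (Unit ⊕ (Fin n ⊕ Fin n)) (Unit ⊕ (Fin n ⊕ Fin n)) F)) →
      finrank F (cycS s (Matrix.toLin'
        (Y : Matrix (Unit ⊕ (Fin n ⊕ Fin n)) (Unit ⊕ (Fin n ⊕ Fin n)) F))) = 2 * n →
      cOf (Fintype.card F) s = 2 * n →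
      (Odd (orderOf ((Fintype.card F : ℕ) : ZMod s)) ↔ Fintype.card F ^ n % 4 = 1))
    (h : InO n F (2 * s)) : Crit2 (Fintype.card F) n s := by
  have h2 : (2 : F) ≠ 0 := bcsb13h25_two_ne hodd
  have hsP : s.Prime := Fact.out
  have hpP : p.Prime := Fact.out
  obtain ⟨X, hX, hord⟩ := h
  by_cases hc : cOf (Fintype.card F) s + 2 ≤ 2 * n
  · exact Or.inl hc
  right
  have hsq : ¬ s ∣ Fintype.card F := by
    obtain ⟨k, _, hk⟩ := FiniteField.card F p
    rw [hk]
    intro hdvd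
    have := hsP.dvd_of_dvd_pow hdvd
    exact hsp ((Nat.prime_dvd_prime_iff_eq hsP hpP).1 this)
  obtain ⟨hcev, hc2, -⟩ := cof_facts (Fintype.card F) s hsP hs2 hsq
  have hXpow : X ^ (2 * s) = 1 := by rw [← hord]; exact pow_orderOf_eq_one X
  have hYΩ : X ^ 2 ∈ Cfsg.Geo.omegaGL (Cfsg.quadFormOdd n F) := Subgroup.pow_mem _ hX _
  have hZΩ : X ^ s ∈ Cfsg.Geo.omegaGL (Cfsg.quadFormOdd n F) := Subgroup.pow_mem _ hX _
  have hYs : (X ^ 2) ^ s = 1 := by rw [← pow_mul]; exact hXpow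
  have hZ2 : (X ^ s) ^ 2 = 1 := by rw [← pow_mul, mul_comm]; exact hXpow
  have hY1 : X ^ 2 ≠ 1 := by
    intro h'
    have h1 := orderOf_dvd_of_pow_eq_one h'
    rw [hord] at h1
    have h3 : 2 * s ∣ 2 * 1 := by rw [mul_one]; exact h1
    have h4 : s ∣ 1 := Nat.dvd_of_mul_dvd_mul_left (by norm_num) h3
    exact hsP.one_lt.ne' (Nat.dvd_one.mp h4)
  have hZ1 : X ^ s ≠ 1 := by
    intro h'
    have h1 := orderOf_dvd_of_pow_eq_one h'
    rw [hord, mul_comm] at h1
    have h3 : s * 2 ∣ s * 1 := by rw [mul_one]; exact h1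
    have h4 : 2 ∣ 1 := Nat.dvd_of_mul_dvd_mul_left hsP.pos h3
    omega
  have hy := std_octx h2 n s (X ^ 2) (omegaGL_le _ _ hYΩ) hYs
  have hz := std_octx h2 n 2 (X ^ s) (omegaGL_le _ _ hZΩ) hZ2
  have hzy := bcsb13h25_comm (X ^ s) (X ^ 2) (pow_mul_comm X _ _)
  have hy1 := bcsb13h25_ne_one _ hY1
  have hz1 := bcsb13h25_ne_one _ hZ1
  obtain ⟨y, hydef⟩ : ∃ y, y = Matrix.toLin'
    ((X ^ 2 : GL (Unit ⊕ (Fin n ⊕ Fin n)) F) : Matrix (Unit ⊕ (Fin n ⊕ Fin n)) (Unit ⊕ (Fin n ⊕ Fin n)) F) :=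
    ⟨_, rfl⟩
  obtain ⟨z, hzdef⟩ : ∃ z, z = Matrix.toLin'
    ((X ^ s : GL (Unit ⊕ (Fin n ⊕ Fin n)) F) : Matrix (Unit ⊕ (Fin n ⊕ Fin n)) (Unit ⊕ (Fin n ⊕ Fin n)) F) :=
    ⟨_, rfl⟩
  rw [← hydef] at hy hzy hy1
  rw [← hzdef] at hz hzy hz1
  obtain ⟨hpos, hdvd, hsum⟩ := hA16 y hy hy1
  rw [bcsb13h25_finrank] at hsum
  -- the dimensions
  have hcn : cOf (Fintype.card F) s = 2 * n ∧ finrank F (cycS s y) = 2 * n := by
    obtain ⟨j, hj⟩ := hcev
    obtain ⟨k, hk⟩ := hdvd
    have hk1 : k = 1 := by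
      rcases Nat.lt_or_ge k 1 with h0 | h1
      · have hk0 : k = 0 := by omega
        rw [hk0, mul_zero] at hk
        omega
      · rcases Nat.lt_or_ge k 2 with h2' | h2'
        · omega
        · exfalso
          have : 2 * cOf (Fintype.card F) s ≤ finrank F (cycS s y) := by
            rw [hk]
            nlinarith
          omega
    rw [hk1, mul_one] at hk
    omega
  obtain ⟨hc', hfc⟩ := hcn
  have hff : finrank F (fixS y) = 1 := by omega
  have hi : OrdC (Fintype.card F) n s := ordc_of_cof hc'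
  obtain ⟨horth, hcompl, hfnd, hcnd⟩ := o_split hsp hy
  have hdec : ∀ v, ∃ f ∈ fixS y, ∃ c ∈ cycS s y, v = f + c := by
    intro v
    have hv : v ∈ fixS y ⊔ cycS s y := by
      rw [hcompl.sup_eq_top]
      exact Submodule.mem_top
    obtain ⟨f, hf, c, hc, rfl⟩ := Submodule.mem_sup.1 hv
    exact ⟨f, hf, c, hc, rfl⟩
  have hzz : ∀ v, z (z v) = v := by
    intro v
    have := hz.pow
    rw [pow_two] at this
    have h1 := congrArg (fun g : Module.End F (Unit ⊕ (Fin n ⊕ Fin n) → F) => g v) this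
    simpa using h1
  have hA9 := bcs_invol_cyc h2 hsp hs2 hy hz hzy n (by omega) hi hfc
  have hline := bcgo3_line z hzz (fixS y) (bcs_comm_inv z y hzy s).1 hff
  have hev : Even (finrank F (cycS 2 z)) := by
    rw [hzdef]
    exact (bcs_invol_omega_ty hodd n (X ^ s) hZΩ hZ2).1
  have heq : cycS 2 z = cycS s y := by
    rcases hline with hzf | hzf <;> rcases hA9 with hzc | hzc
    · exfalso
      apply hz1
      apply LinearMap.ext
      intro v
      obtain ⟨f, hf, c, hc, rfl⟩ := hdec v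
      rw [map_add, hzf f hf, hzc c hc, Module.End.one_apply]
    · ext v
      rw [bcs_mem_cyc_two]
      constructor
      · intro hv
        obtain ⟨f, hf, c, hc, rfl⟩ := hdec v
        rw [map_add, hzf f hf, hzc c hc, neg_add] at hv
        have hff' : f = -f := add_right_cancel hv
        have h3 : (2 : F) • f = 0 := by
          rw [two_smul]
          nth_rewrite 1 [hff']
          exact neg_add_cancel f
        have hf0 : f = 0 := (smul_eq_zero.1 h3).resolve_left h2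
        rw [hf0, zero_add]
        exact hc
      · intro hv
        exact hzc v hv
    · exfalso
      have hEq : cycS 2 z = fixS y := by
        ext v
        rw [bcs_mem_cyc_two]
        constructor
        · intro hv
          obtain ⟨f, hf, c, hc, rfl⟩ := hdec v
          rw [map_add, hzf f hf, hzc c hc, neg_add] at hv
          have hcc : c = -c := add_left_cancel hv
          have h3 : (2 : F) • c = 0 := by
            rw [two_smul]
            nth_rewrite 1 [hcc]
            exact neg_add_cancel c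
          have hc0 : c = 0 := (smul_eq_zero.1 h3).resolve_left h2
          rw [hc0, add_zero]
          exact hf
        · intro hv
          exact hzf v hv
      rw [hEq, hff] at hev
      exact absurd hev (by decide)
    · exfalso
      have hEq : cycS 2 z = ⊤ := by
        rw [eq_top_iff]
        intro v _
        rw [bcs_mem_cyc_two]
        obtain ⟨f, hf, c, hc, rfl⟩ := hdec v
        rw [map_add, hzf f hf, hzc c hc, neg_add]
      rw [hEq, finrank_top, bcsb13h25_finrank] at hev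
      obtain ⟨k, hk'⟩ := hev
      omega
  refine ⟨hc', ?_⟩
  rw [hydef] at heq hfc
  rw [hzdef] at heq
  exact hO6 (X ^ s) (X ^ 2) hZΩ hZ2 (omegaGL_le _ _ hYΩ) hYs heq hfc hc'

end Cfsg.Agent.Lib.Lead.BCG
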