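import Mathlib
import Cfsg.Agent.Lib.Lead.BCG.Defs
import Cfsg.Agent.Lib.Helper28.BCGO3core
import Cfsg.Agent.Lib.Helper20.BCGA16
import Cfsg.Agent.Lib.Helper16.BCGO6h16

set_option autoImplicit false
set_option linter.unusedVariables false

/-!
# Project BCG, row O3 (`o_2s_nec`) (helper28), verbatim from `Lead/BCG/Skel.lean.txt`:
`bcgo3_core` + Helper20 `o_cyc_dim` (A16) + Helper16 `bcgo6_h16` (the statement of O6).
-/

namespace Cfsg.Agent.Lib.Lead.BCG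

open Polynomial Module Matrix Cfsg.Agent.Lib.Helper13.S5955 Cfsg.Agent.Lib.helper15.S5972
  Cfsg.Agent.Lib.Helper18.ONE Cfsg.Agent.Lib.Lead.BCS

/-- O3 [M-L]: `X` of order `2s`: `Y = X^2`, `Z = X^s`.  If `c + 2 ≤ 2n` done.  Else (as in O1) `finrank cycS = c = 2n`, `fixS y` a line.  BCS A9 (`m = n`): `z = ±1` on `cycS`; `z = ±1` on the line
(`z` preserves it, BCS A3; `z² = 1`); BCS B12: `finrank (cycS 2 z)` is even, so (`z ≠ 1`) `z = -1` on `cycS`, `1` on the line: `cycS 2 z = cycS s y`; O6. -/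
theorem o_2s_nec {F : Type*} [Field F] [Fintype F] {p : ℕ} [Fact p.Prime] [CharP F p]
    (hodd : Odd (Fintype.card F)) (n : ℕ) (hn : 3 ≤ n) (s : ℕ) [Fact s.Prime] (hsp : s ≠ p)
    (hs2 : s ≠ 2) (h : InO n F (2 * s)) : Crit2 (Fintype.card F) n s := by
  exact bcgo3_core hodd n hn s hsp hs2
    (fun y hy hy1 => o_cyc_dim hsp hs2 hy hy1)
    (fun Z Y hZ hZ2 hY hYs heq hdim hc =>
      bcgo6_h16 hodd n (by omega) s hsp hs2 Z Y hZ hZ2 hY hYs heq hdim hc)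
    h

end Cfsg.Agent.Lib.Lead.BCG
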