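import Mathlib
import Cfsg.Agent.Lib.Lead.BCG.Defs
import Cfsg.Agent.Lib.helper17.BCGPSP

set_option autoImplicit false
set_option linter.unusedVariables false

/-!
# Project BCG, row S8 (`s_2s_suf`) (helper28): core, with the conclusions of R1 `cof_facts`, R2 `crit_arith`, S1 `sp_cauchy` (at `m = n - 1`),
S2 `sp_torus_plus`, S3 `sp_torus_minus`, L3 `ins_two_s` (direction `←`, at `d = n`) as hypotheses.
-/

namespace Cfsg.Agent.Lib.Lead.BCG

open Polynomial Module Matrix Cfsg.Agent.Lib.Helper13.S5955 Cfsg.Agent.Lib.helper15.S5972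
  Cfsg.Agent.Lib.Helper18.ONE Cfsg.Agent.Lib.Lead.BCS

/-- `-1 ≠ 1` in `Sp_{2m}`, `m ≥ 1`, `2 ≠ 0` -/
theorem bcgs8_negOne_ne {F : Type*} [Field F] (h2F : (2 : F) ≠ 0) (m : ℕ) (hm : 1 ≤ m) :
    Cfsg.Agent.S0246.negOne F m ≠ 1 := by
  intro h
  have h1 := congrArg (fun g : Matrix.symplecticGroup (Fin m) F =>
    (g : Matrix (Fin m ⊕ Fin m) (Fin m ⊕ Fin m) F) (Sum.inl ⟨0, by omega⟩) (Sum.inl ⟨0, by omega⟩)) h
  simp only [Cfsg.Agent.S0246.negOne_coe] at h1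
  have h3 : ((1 : Matrix.symplecticGroup (Fin m) F) : Matrix (Fin m ⊕ Fin m) (Fin m ⊕ Fin m) F) = 1 := rfl
  rw [h3, Matrix.neg_apply, Matrix.one_apply_eq] at h1
  apply h2F
  linear_combination -h1

theorem bcgs8_negOne_sq {F : Type*} [Field F] (m : ℕ) :
    Cfsg.Agent.S0246.negOne F m * Cfsg.Agent.S0246.negOne F m = 1 := by
  apply Subtype.ext
  rw [Submonoid.coe_mul, Cfsg.Agent.S0246.negOne_coe]
  simp

/-- `-y` has order `2 s` for `y` of odd prime order `s` -/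
theorem bcgs8_neg_order {F : Type*} [Field F] (h2F : (2 : F) ≠ 0) (m : ℕ) (hm : 1 ≤ m) (s : ℕ)
    (hs : s.Prime) (hs2 : s ≠ 2) (y : Matrix.symplecticGroup (Fin m) F) (hy : orderOf y = s) :
    orderOf (Cfsg.Agent.S0246.negOne F m * y) = 2 * s := by
  have hneg_sq : Cfsg.Agent.S0246.negOne F m ^ 2 = 1 := by
    rw [pow_two]
    exact bcgs8_negOne_sq m
  have hneg_ord : orderOf (Cfsg.Agent.S0246.negOne F m) = 2 :=
    orderOf_eq_prime hneg_sq (bcgs8_negOne_ne h2F m hm)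
  have hcomm1 : Commute (Cfsg.Agent.S0246.negOne F m) y :=
    (Subgroup.mem_center_iff.1 Cfsg.Agent.S0246.negOne_mem_center y).symm
  rw [hcomm1.orderOf_mul_eq_mul_orderOf_of_coprime, hneg_ord, hy]
  rw [hneg_ord, hy]
  exact (Nat.coprime_primes Nat.prime_two hs).2 (Ne.symm hs2)

/-- S8 core -/
theorem bcgs8_core {F : Type*} [Field F] [Fintype F] {p : ℕ} [Fact p.Prime] [CharP F p]
    (hodd : Odd (Fintype.card F)) (n : ℕ) (hn : 3 ≤ n) (s : ℕ) [Fact s.Prime] (hsp : s ≠ p)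
    (hs2 : s ≠ 2) (h : Crit2 (Fintype.card F) n s)
    (hR1 : ¬ s ∣ Fintype.card F → Even (cOf (Fintype.card F) s) ∧ 2 ≤ cOf (Fintype.card F) s ∧
      s ∣ Fintype.card F ^ cOf (Fintype.card F) s - 1)
    (hR2 : ¬ s ∣ Fintype.card F → cOf (Fintype.card F) s = 2 * n →
      (Odd (orderOf ((Fintype.card F : ℕ) : ZMod s)) ↔ Fintype.card F ^ n % 4 = 1) →
      (Fintype.card F % 4 = 1 ∧ s ∣ Fintype.card F ^ n - 1) ∨
        (Fintype.card F ^ n % 4 = 3 ∧ s ∣ Fintype.card F ^ n + 1))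
    (hS1 : ∀ j : ℕ, 1 ≤ j → j ≤ n - 1 → s ∣ Fintype.card F ^ (2 * j) - 1 →
      ∃ y : Matrix.symplecticGroup (Fin (n - 1)) F, orderOf y = s)
    (hS2 : Fintype.card F % 4 = 1 → s ∣ Fintype.card F ^ n - 1 →
      ∃ t y : Matrix.symplecticGroup (Fin n) F, Commute t y ∧ orderOf y = s ∧
        t * t = Cfsg.Agent.S0246.negOne F n)
    (hS3 : Fintype.card F ^ n % 4 = 3 → s ∣ Fintype.card F ^ n + 1 →
      ∃ t y : Matrix.symplecticGroup (Fin n) F, Commute t y ∧ orderOf y = s ∧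
        t * t = Cfsg.Agent.S0246.negOne F n)
    (hL3 : (∃ t y : Matrix.symplecticGroup (Fin n) F, Commute t y ∧ orderOf y = s ∧
        (t * t = 1 ∨ t * t = Cfsg.Agent.S0246.negOne F n) ∧ t ≠ 1 ∧
        t ≠ Cfsg.Agent.S0246.negOne F n) →
      2 * s ∈ Set.range (orderOf : Cfsg.PSp n F → ℕ)) :
    2 * s ∈ Set.range (orderOf : Cfsg.PSp n F → ℕ) := by
  have hsP : s.Prime := Fact.out
  have hpP : p.Prime := Fact.out
  have h2F : (2 : F) ≠ 0 := by
    intro h'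
    have := (Cfsg.Agent.S0246.two_eq_zero_iff (F := F)).1 h'
    exact (Nat.not_even_iff_odd.2 hodd) this
  have hsq : ¬ s ∣ Fintype.card F := by
    obtain ⟨k, _, hk⟩ := FiniteField.card F p
    rw [hk]
    intro hdvd
    have := hsP.dvd_of_dvd_pow hdvd
    exact hsp ((Nat.prime_dvd_prime_iff_eq hsP hpP).1 this)
  rcases h with hc | ⟨hc, hcond⟩
  · obtain ⟨hev, hc2, hdvd⟩ := hR1 hsq
    obtain ⟨j, hj⟩ := hev
    have hj' : cOf (Fintype.card F) s = 2 * j := by omega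
    rw [hj'] at hdvd
    obtain ⟨y₀, hy₀⟩ := hS1 j (by omega) (by omega) hdvd
    have hw := bcgs8_neg_order h2F (n - 1) (by omega) s hsP hs2 y₀ hy₀
    have hmem := Cfsg.Agent.Lib.helper17.BCGPSP.bcgpsp_emb_order h2F (n - 1)
      (Cfsg.Agent.S0246.negOne F (n - 1) * y₀)
    rw [hw] at hmem
    have hn1 : n - 1 + 1 = n := by omega
    rw [hn1] at hmem
    exact hmem
  · have hty : ∃ t y : Matrix.symplecticGroup (Fin n) F, Commute t y ∧ orderOf y = s ∧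
        t * t = Cfsg.Agent.S0246.negOne F n := by
      rcases hR2 hsq hc hcond with ⟨h4, hd⟩ | ⟨h4, hd⟩
      · exact hS2 h4 hd
      · exact hS3 h4 hd
    obtain ⟨t, y, hcomm, hy, htt⟩ := hty
    apply hL3
    refine ⟨t, y, hcomm, hy, Or.inr htt, ?_, ?_⟩
    · rintro rfl
      rw [mul_one] at htt
      exact bcgs8_negOne_ne h2F n (by omega) htt.symm
    · rintro rfl
      rw [bcgs8_negOne_sq] at htt
      exact bcgs8_negOne_ne h2F n (by omega) htt.symm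

end Cfsg.Agent.Lib.Lead.BCG
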