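import Mathlib
import Cfsg.Agent.Lib.Lead.BCG.Defs
import Cfsg.Agent.Lib.Helper28.BCGS8core
import Cfsg.Agent.Lib.Helper20.BCGR1
import Cfsg.Agent.Lib.Helper22.BCGR2
import Cfsg.Agent.Lib.Helper11.BCGS1
import Cfsg.Agent.Lib.Helper5.BCGS2
import Cfsg.Agent.Lib.helper3.BCGS3
import Cfsg.Agent.Lib.Helper24.BCGL3

set_option autoImplicit false
set_option linter.unusedVariables false

/-!
# Project BCG, row S8 (`s_2s_suf`) (helper28), verbatim from `Lead/BCG/Skel.lean.txt`: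
`bcgs8_core` + R1 `cof_facts` + R2 `crit_arith` + S1 `sp_cauchy` + S2 `sp_torus_plus` + S3 `sp_torus_minus` + L3 `ins_two_s`.
-/

namespace Cfsg.Agent.Lib.Lead.BCG

open Polynomial Module Matrix Cfsg.Agent.Lib.Helper13.S5955 Cfsg.Agent.Lib.helper15.S5972
  Cfsg.Agent.Lib.Helper18.ONE Cfsg.Agent.Lib.Lead.BCS

/-- S8 [M-L]: first case: S1 in `Sp_{2(n-1)}`: `y₀`; `w = negOne F (n-1) * y₀` of order `2s`; BCS C1: `x = φ w` of order `2s` fixes `u`; L4.  Second case: R2, then S2 or S3: `t`, `y`; L3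
(`t ≠ 1`, `t ≠ negOne` as `t * t = negOne ≠ 1`). -/
theorem s_2s_suf {F : Type*} [Field F] [Fintype F] {p : ℕ} [Fact p.Prime] [CharP F p]
    (hodd : Odd (Fintype.card F)) (n : ℕ) (hn : 3 ≤ n) (s : ℕ) [Fact s.Prime] (hsp : s ≠ p)
    (hs2 : s ≠ 2) (h : Crit2 (Fintype.card F) n s) :
    2 * s ∈ Set.range (orderOf : Cfsg.PSp n F → ℕ) := by
  have hsP : s.Prime := Fact.out
  have h2F : (2 : F) ≠ 0 := by
    intro h'
    have := (Cfsg.Agent.S0246.two_eq_zero_iff (F := F)).1 h'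
    exact (Nat.not_even_iff_odd.2 hodd) this
  exact bcgs8_core hodd n hn s hsp hs2 h
    (fun hsq => cof_facts (Fintype.card F) s hsP hs2 hsq)
    (fun hsq hc hcond => crit_arith (Fintype.card F) n s hodd hsP hs2 hsq (by omega) hc hcond)
    (fun j hj1 hjm hs => sp_cauchy (n - 1) s j hj1 hjm hs)
    (fun h4 hs => sp_torus_plus h4 n (by omega) s hs)
    (fun h4 hs => sp_torus_minus (p := p) n (by omega) h4 s hs2 hs)
    (fun hex => (ins_two_s h2F n (by omega) s hsP hs2).mpr hex)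

end Cfsg.Agent.Lib.Lead.BCG
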