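import Mathlib
import Cfsg.Agent.Lib.Lead.BCG.Defs
import Cfsg.Agent.Lib.helper17.BCGPSP

set_option autoImplicit false
set_option linter.unusedVariables false

/-!
# Project BCG, row S9 (`s_2p`) (helper28), verbatim from `Lead/BCG/Skel.lean.txt`: restatement of helper17's `bcgpsp_two_p`.
-/

namespace Cfsg.Agent.Lib.Lead.BCG

open Polynomial Module Matrix Cfsg.Agent.Lib.Helper13.S5955 Cfsg.Agent.Lib.helper15.S5972
  Cfsg.Agent.Lib.Helper18.ONE Cfsg.Agent.Lib.Lead.BCS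

/-- `2 ≠ 0` in a finite field of odd order -/
theorem bcgs9_two_ne {F : Type*} [Field F] [Fintype F] (hodd : Odd (Fintype.card F)) : (2 : F) ≠ 0 := by
  intro h
  have := (Cfsg.Agent.S0246.two_eq_zero_iff (F := F)).1 h
  exact (Nat.not_even_iff_odd.2 hodd) this

/-- S9 [M]: BCS C1 (`m = n - 1`): `φ`, `u`; BCS C2: `t`; `x = φ (negOne F (n-1)) * t` has order `2p` and fixes `u`; L4. -/
theorem s_2p {F : Type*} [Field F] [Fintype F] {p : ℕ} [Fact p.Prime] [CharP F p]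
    (hodd : Odd (Fintype.card F)) (n : ℕ) (hn : 3 ≤ n) :
    2 * p ∈ Set.range (orderOf : Cfsg.PSp n F → ℕ) := by
  obtain ⟨m, rfl⟩ : ∃ m, n = m + 1 := ⟨n - 1, by omega⟩
  exact Cfsg.Agent.Lib.helper17.BCGPSP.bcgpsp_two_p (bcgs9_two_ne hodd) m (by omega)

end Cfsg.Agent.Lib.Lead.BCG
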