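import Mathlib
import Cfsg.Agent.Lib.Lead.BCG.Defs
import Cfsg.Agent.Lib.helper15.S5972STDCTX
import Cfsg.Agent.Lib.helper15.BCGT4
import Cfsg.Agent.Lib.Helper10.BCGT6
import Cfsg.Agent.Lib.Helper11.BCGX2
import Cfsg.Agent.Lib.Helper11.BCGX3
import Cfsg.Agent.Lib.Helper25.BCGX4

set_option autoImplicit false
set_option linter.unusedVariables false

/-!
# Project BCG, row T8 (`odd_O_to_S`) (helper28), verbatim from `Lead/BCG/Skel.lean.txt`.
-/

namespace Cfsg.Agent.Lib.Lead.BCG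

open Polynomial Module Matrix Cfsg.Agent.Lib.Helper13.S5955 Cfsg.Agent.Lib.helper15.S5972
  Cfsg.Agent.Lib.Helper18.ONE Cfsg.Agent.Lib.Lead.BCS

/-- `2 ≠ 0` in a finite field of odd order -/
theorem bcgt8_two_ne {F : Type*} [Field F] [Fintype F] (hodd : Odd (Fintype.card F)) : (2 : F) ≠ 0 := by
  intro h
  have := (Cfsg.Agent.S0246.two_eq_zero_iff (F := F)).1 h
  exact (Nat.not_even_iff_odd.2 hodd) this

/-- the dimension of the standard odd-dimensional space -/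
theorem bcgt8_finrank {F : Type*} [Field F] (n : ℕ) :
    finrank F (Unit ⊕ (Fin n ⊕ Fin n) → F) = 2 * n + 1 := by
  rw [Module.finrank_fintype_fun_eq_card]
  simp
  omega

/-- T8 [M]: helper15 `std_octx` + `omegaGL_le`, T4 (`2h' ≤ 2n + 1`), T6, X2 (`pres` of the `SCtx`), X3 / X4. -/
theorem odd_O_to_S {F : Type*} [Field F] [Fintype F] {p : ℕ} [Fact p.Prime] [CharP F p]
    (hodd : Odd (Fintype.card F)) (n : ℕ) (hn : 3 ≤ n) (N : ℕ) (hNo : Odd N) (hN1 : 1 < N)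
    (hNp : ¬ p ∣ N) (hX : InO n F N) :
    ∃ x : Matrix.symplecticGroup (Fin n) F, orderOf x = N := by
  have h2 : (2 : F) ≠ 0 := bcgt8_two_ne hodd
  obtain ⟨X, hXmem, hXord⟩ := hX
  have hXpow : X ^ N = 1 := by rw [← hXord]; exact pow_orderOf_eq_one X
  have hctx := std_octx h2 n N X (omegaGL_le n X hXmem) hXpow
  have hN : (N : F) ≠ 0 := by
    intro h
    exact hNp ((CharP.cast_eq_zero_iff F p N).1 h)
  obtain ⟨h', y₀, hy₀, hfix, hdim, hsame⟩ := o_restrict_geo hNo hN hctx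
  have hh : h' ≤ n := by
    rw [bcgt8_finrank] at hdim
    omega
  obtain ⟨x', hx', hsame'⟩ := s_extend_std h' n hh y₀ hy₀
  obtain ⟨x, hx⟩ := sp_realize n x' hx'.pres
  refine ⟨x, ?_⟩
  rw [← hXord]
  rw [orderOf_eq_orderOf_iff]
  intro k
  rw [sp_same n x k, hx, gl_same X k]
  exact (hsame' k).trans (hsame k)

end Cfsg.Agent.Lib.Lead.BCG
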