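import Mathlib
import Cfsg.Agent.Lib.Lead.BCS.Defs
import Cfsg.Agent.Lib.Helper28.BCSC4core
import Cfsg.Agent.Lib.Helper22.BCSC1
import Cfsg.Agent.Lib.Helper25.BCSC2
import Cfsg.Agent.Lib.Helper9.BCSC3

set_option autoImplicit false
set_option linter.unusedVariables false

/-!
# Project BCS, row C4 (`bcs_psp_mem`) (helper28), verbatim from `Lead/BCS/Skel.lean.txt`: `bcsc4_core` on C1 (helper22), C2 (helper25), C3 (helper9).
-/

namespace Cfsg.Agent.Lib.Lead.BCS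

open Polynomial Module Matrix Cfsg.Agent.Lib.Helper13.S5955 Cfsg.Agent.Lib.helper15.S5972
  Cfsg.Agent.Lib.Helper18.ONE

/-- C4 [M]: `y` (C3), `w = negOne F m * y` of order `2ℓ` (`Cfsg.Agent.S0246.negOne`: central, of order `2` as `2 ≠ 0`, `m ≥ 1`;
`Commute.orderOf_mul_eq_mul_orderOf_of_coprime`), `φ`, `u` (C1), `t` (C2 with `n = m + 1`), `x = φ w * t`: `orderOf (φ w) = 2ℓ` (`orderOf_injective`),
`orderOf t = p` (`orderOf_eq_prime`), `p ∤ 2ℓ`: `orderOf x = 2ℓp`.  `x u = u`.  In `PSp`: `(mk x)^k = 1 ↔ x^k ∈ center ↔ x^k = 1 ∨ x^k = negOne`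
(`Cfsg.Agent.S0246.center_cases`, `negOne_mem_center`), and `x^k = negOne` is impossible (`x^k u = u ≠ -u`); `orderOf_eq_orderOf_iff`. -/
theorem bcs_psp_mem {F : Type*} [Field F] [Fintype F] {p : ℕ} [Fact p.Prime] [CharP F p]
    (hodd : Odd (Fintype.card F)) (m : ℕ) (hm : 1 ≤ m) (ℓ : ℕ) [Fact ℓ.Prime] (hℓp : ℓ ≠ p)
    (hℓ2 : ℓ ≠ 2) (hℓ : ℓ ∣ Fintype.card F ^ (2 * m) - 1) :
    2 * p * ℓ ∈ Set.range (orderOf : Cfsg.PSp (m + 1) F → ℕ) := by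
  exact bcsc4_core hodd m hm ℓ hℓp hℓ2 (bcs_sp_emb m) (fun u hu => bcs_sp_transv (m + 1) u hu)
    (bcs_sp_cauchy m hm ℓ hℓ)

end Cfsg.Agent.Lib.Lead.BCS
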