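import Mathlib
import Cfsg.Prelude.Def_OddOrderLocal
import Cfsg.Agent.S1353
import Cfsg.Agent.S1360
import Cfsg.Agent.S1430
import Cfsg.Agent.Lib.Helper1.BG14.UAbelian
import Cfsg.Agent.Lib.Helper11.KappaTauFinal
import Cfsg.Agent.Lib.Helper11.FrobFourTerm2
import Cfsg.Agent.Lib.Helper18.LemLFinal
import Cfsg.Agent.Lib.Helper28.BGtW

set_option autoImplicit false

/-! `U ≠ 1 ⇒ |K|` prime (type `𝒫₂`), via the Frobenius–Wielandt fixed point formula — helper28. -/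

namespace Cfsg.Agent.Lib.Helper28.BGt

open Cfsg Cfsg.Agent.Lib.Helper18 Cfsg.Agent.Lib.Helper1.BG14 Cfsg.Agent.Lib.Helper1.BG12b

variable {G : Type*} [Group G] [Finite G]

/-- `U` is abelian (unconditional wrapper) -/
theorem decomp_U_abelian (hG : Cfsg.IsMinSimpleOddOrder G) {M K U : Subgroup G}
    (hM : IsCoatom M) (hKU : Cfsg.IsSigmaDecomposition M K U) (hK1 : K ≠ ⊥) :
    IsMulCommutative U := by
  have Hκ := Cfsg.Agent.Lib.Helper11.KappaTauFinal.kappa_sub_tau1 hG hM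
  have HL : T1312 M := T1312_of_lemL hG hM
    (fun E P R p r hE hp hr hPE hPc hK hRE hRc =>
      Cfsg.Agent.Lib.Helper18.LemLFinal.lemma_L hG hM hE hp hr hPE hPc hK hRE hRc)
  exact U_abelian hG hM Hκ HL hKU hK1

/-- **the order formula**: if `U ≠ 1` then `|M_σ| = |K*| ^ o(k)` for every `k ∈ K#`. -/
theorem card_sigmaCore_eq_pow (hG : Cfsg.IsMinSimpleOddOrder G) {M K U : Subgroup G}
    (hM : IsCoatom M) (hKU : Cfsg.IsSigmaDecomposition M K U) (hK1 : K ≠ ⊥) (hU1 : U ≠ ⊥)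
    {k : G} (hk : k ∈ K) (hk1 : k ≠ 1) :
    Nat.card (Cfsg.sigmaCore M) =
      Nat.card ↥(Cfsg.sigmaCore M ⊓ Subgroup.centralizer (K : Set G)) ^ orderOf k := by
  have hK := hKU.hall
  have hUab := decomp_U_abelian hG hM hKU hK1
  -- a prime `r` dividing `|U|`
  have hc1 : Nat.card U ≠ 1 := fun h => hU1 (Subgroup.card_eq_one.mp h)
  obtain ⟨r, hr, hrd⟩ := Nat.exists_prime_and_dvd hc1
  haveI : Fact r.Prime := ⟨hr⟩
  obtain ⟨U₀, hU₀U, hexp, hreg⟩ := Cfsg.Agent.S1360.result hG M hM K U hKU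
  -- an element of order `r` in `U₀`
  have hrexp : r ∣ Monoid.exponent U₀ := by
    rw [hexp]
    obtain ⟨u, hu⟩ := exists_prime_orderOf_dvd_card' r hrd
    rw [← hu]
    exact Monoid.order_dvd_exponent u
  have hU₀r : r ∣ Nat.card U₀ := by
    have h1 : Monoid.exponent U₀ ∣ Nat.card U₀ := Group.exponent_dvd_nat_card
    exact hrexp.trans h1
  obtain ⟨⟨u₀, hu₀⟩, hu₀o⟩ := exists_prime_orderOf_dvd_card' r hU₀r
  have hu₀o' : orderOf u₀ = r := by rw [← hu₀o, ← Subgroup.orderOf_coe]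
  have hu₀1 : u₀ ≠ 1 := by
    intro h
    rw [h, orderOf_one] at hu₀o'
    exact hr.one_lt.ne hu₀o'
  have hu₀r : u₀ ^ r = 1 := by rw [← hu₀o']; exact pow_orderOf_eq_one u₀
  set Ω := omegaOf r U hUab with hΩ
  have hu₀Ω : u₀ ∈ Ω := ⟨hU₀U hu₀, hu₀r⟩
  have hΩU : Ω ≤ U := fun v hv => hv.1
  have hUM : U ≤ M := hKU.compl.1
  -- `C_{M_σ}(Ω) = 1`
  have hCΩ : Cfsg.sigmaCore M ⊓ Subgroup.centralizer (Ω : Set G) = ⊥ := by
    rw [eq_bot_iff]
    intro y hy
    obtain ⟨hyσ, hyC⟩ := Subgroup.mem_inf.mp hy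
    rw [Subgroup.mem_bot]
    by_contra hy1
    apply hu₀1
    apply hreg u₀ hu₀
    refine ⟨hUM (hU₀U hu₀), y, hyσ, hy1, ?_⟩
    exact (Subgroup.mem_centralizer_iff.mp hyC u₀ hu₀Ω)
  -- the group `E = <k>`
  set E := Subgroup.zpowers k with hE
  have hEK : E ≤ K := Subgroup.zpowers_le.mpr hk
  have hKNΩ : K ≤ Subgroup.normalizer (Ω : Set G) := by
    intro c hc
    apply mem_normalizer_of_conjSub_le
    intro v hv
    rw [mem_conjSub] at hv
    obtain ⟨hvU, hvp⟩ := hv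
    have hcU := conj_mem_of_le_normalizer hKU.normal hc hvU
    have e : c * (c⁻¹ * v * c) * c⁻¹ = v := by group
    rw [e] at hcU
    refine ⟨hcU, ?_⟩
    have e2 : v = c * (c⁻¹ * v * c) * c⁻¹ := e.symm
    rw [e2, conj_pow, hvp, mul_one, mul_inv_cancel]
  have hΩp : IsPGroup r Ω := by
    rintro ⟨v, hv⟩
    refine ⟨1, ?_⟩
    apply Subtype.ext
    rw [pow_one, Subgroup.coe_pow]
    exact hv.2
  have hΩnil : Group.IsNilpotent Ω := hΩp.isNilpotent
  have hfpf : ∀ e ∈ E, e ≠ 1 → Ω ⊓ Subgroup.centralizer ({e} : Set G) = ⊥ := by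
    intro e he he1
    rw [eq_bot_iff, ← Cfsg.Agent.S1353.result hG M hM K U hKU e (hEK he) he1]
    exact inf_le_inf_right _ hΩU
  have hMσN : M ≤ Subgroup.normalizer (Cfsg.sigmaCore M : Set G) := le_normalizer_sigmaCore M
  have hsolv : Group.IsSolvable (Cfsg.sigmaCore M) := by
    haveI : Group.IsSolvable ↥M := hG.2.2.2 M hM.1
    exact Group.isSolvable_of_isSolvable_injective (Subgroup.inclusion_injective (sigmaCore_le M))
  have hrU : ∀ q : ℕ, q.Prime → q ∣ Nat.card U → q ∉ Cfsg.sigma M := by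
    intro q hq hqd hqσ
    -- `U ∩ M_σ = 1`
    have hbot : U ⊓ Cfsg.sigmaCore M = ⊥ := by
      rw [eq_bot_iff, ← hKU.compl.2.2.1]
      exact inf_le_inf_left U le_sup_right
    haveI : Fact q.Prime := ⟨hq⟩
    obtain ⟨⟨u, hu⟩, huo⟩ := exists_prime_orderOf_dvd_card' q hqd
    have huo' : orderOf u = q := by rw [← huo, ← Subgroup.orderOf_coe]
    have huσ : u ∈ Cfsg.sigmaCore M := by
      apply sigma_elt_mem hG hM (hUM hu)
      intro q' hq' hq'd
      rw [huo'] at hq'd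
      rw [(Nat.prime_dvd_prime_iff_eq hq' hq).mp hq'd]
      exact hqσ
    have : u ∈ U ⊓ Cfsg.sigmaCore M := Subgroup.mem_inf.mpr ⟨hu, huσ⟩
    rw [hbot, Subgroup.mem_bot] at this
    rw [this, orderOf_one] at huo'
    exact hq.one_lt.ne huo'
  have hcopΩ : (Nat.card (Cfsg.sigmaCore M)).Coprime (Nat.card Ω) := by
    apply Nat.coprime_of_dvd
    intro q hq h1 h2
    exact hrU q hq (h2.trans (Subgroup.card_dvd_of_le hΩU)) (prime_sigmaCore hG hM hq h1)
  have hcopE : (Nat.card (Cfsg.sigmaCore M)).Coprime (Nat.card E) := by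
    apply Nat.coprime_of_dvd
    intro q hq h1 h2
    exact (hK.2.1 q hq (h2.trans (Subgroup.card_dvd_of_le hEK))).2.2.1
      (prime_sigmaCore hG hM hq h1)
  have key := Cfsg.Agent.Lib.Helper11.FrobFourTerm2.four_term_conc (Cfsg.sigmaCore M) Ω E
    ((hΩU.trans hUM).trans hMσN) ((hEK.trans hK.1).trans hMσN) (hEK.trans hKNΩ) hΩnil hfpf hsolv
    hcopΩ hcopE
  have h1 : Cfsg.sigmaCore M ⊓ Subgroup.centralizer ((Ω ⊔ E : Subgroup G) : Set G) = ⊥ := by
    rw [eq_bot_iff, ← hCΩ]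
    apply inf_le_inf_left
    exact Subgroup.centralizer_le (SetLike.coe_subset_coe.mpr le_sup_left)
  have h2 : Cfsg.sigmaCore M ⊓ Subgroup.centralizer (E : Set G) =
      Cfsg.sigmaCore M ⊓ Subgroup.centralizer (K : Set G) := by
    rw [hE, centralizer_zpowers_eq]
    exact (Cfsg.Agent.S1430.result hG M hM K hK hK1).1 k hk hk1
  rw [h1, hCΩ, h2, Subgroup.card_bot, one_pow, one_mul, mul_one, Nat.card_zpowers] at key
  exact key

/-- **type `𝒫₂`**: if `U ≠ 1` then `|K|` is prime. -/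
theorem card_prime_of_U_ne_bot (hG : Cfsg.IsMinSimpleOddOrder G) {M K U : Subgroup G}
    (hM : IsCoatom M) (hKU : Cfsg.IsSigmaDecomposition M K U) (hK1 : K ≠ ⊥) (hU1 : U ≠ ⊥) :
    (Nat.card K).Prime := by
  have hK := hKU.hall
  have hKs1 : Cfsg.sigmaCore M ⊓ Subgroup.centralizer (K : Set G) ≠ ⊥ :=
    Cfsg.Agent.Lib.Helper13.BG14.bg14_kstar_ne_bot hG hM hK hK1
  have hks : 1 < Nat.card ↥(Cfsg.sigmaCore M ⊓ Subgroup.centralizer (K : Set G)) := by
    rcases Nat.lt_or_ge 1 (Nat.card ↥(Cfsg.sigmaCore M ⊓ Subgroup.centralizer (K : Set G)))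
      with h | h
    · exact h
    · exfalso
      have hpos : 0 < Nat.card ↥(Cfsg.sigmaCore M ⊓ Subgroup.centralizer (K : Set G)) :=
        Nat.card_pos
      exact hKs1 (Subgroup.card_eq_one.mp (by omega))
  -- a generator and an element of prime order
  haveI := hKU.cyclic
  obtain ⟨⟨g, hgK⟩, hg⟩ := IsCyclic.exists_generator (α := K)
  have hgo : orderOf g = Nat.card K := by
    have := orderOf_eq_card_of_forall_mem_zpowers hg
    rw [← this, Subgroup.orderOf_mk]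
  have hg1 : g ≠ 1 := by
    intro h
    rw [h, orderOf_one] at hgo
    exact hK1 (Subgroup.card_eq_one.mp hgo.symm)
  obtain ⟨p, hp, -, hpo⟩ := Cfsg.Agent.Lib.Helper18.KStar.exists_prime_pow hg1
  have hx1 : g ^ (orderOf g / p) ≠ 1 := by
    intro h
    rw [h, orderOf_one] at hpo
    exact hp.one_lt.ne hpo
  have e1 := card_sigmaCore_eq_pow hG hM hKU hK1 hU1 hgK hg1
  have e2 := card_sigmaCore_eq_pow hG hM hKU hK1 hU1 (K.pow_mem hgK (orderOf g / p)) hx1
  rw [e1, hpo, hgo] at e2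
  have := Nat.pow_right_injective hks e2
  rw [this]
  exact hp

end Cfsg.Agent.Lib.Helper28.BGt
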