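import Mathlib
import Cfsg.Agent.Lib.Helper11.FrobKernelNil
import Cfsg.Agent.Lib.Helper11.FrobDerived
import Cfsg.Agent.Lib.Helper11.RegB

set_option autoImplicit false

/-! # A nilpotency criterion: fixed points in a central subgroup (helper28) -/

namespace Cfsg.Agent.Lib.Helper28.BGt

open Cfsg

/-- if `E` acts coprimely on `H` and every element of `E` outside the central subgroup `Z ≤ H`
(normal in the ambient group) has all its fixed points on `H` inside `Z`, then `H` is nilpotent -/
theorem nilpotent_of_central_fixed {X : Type*} [Group X] [Finite X] (H Z E : Subgroup X)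
    [hZn : Z.Normal] (hZH : Z ≤ H) (hZc : ∀ z ∈ Z, ∀ h ∈ H, z * h = h * z)
    (hEH : E ≤ Subgroup.normalizer (H : Set X)) (hE1 : ∃ e ∈ E, e ∉ Z)
    (hcop : (Nat.card E).Coprime (Nat.card H)) (hsolv : Group.IsSolvable H)
    (hfix : ∀ e ∈ E, e ∉ Z → H ⊓ Subgroup.centralizer ({e} : Set X) ≤ Z) :
    Group.IsNilpotent H := by
  have hU : Group.IsNilpotent ↥(H.map (QuotientGroup.mk' Z)) := by
    apply Cfsg.Agent.Lib.Helper11.FrobKernelNil.kernel_nilpotent (H.map (QuotientGroup.mk' Z))
      (E.map (QuotientGroup.mk' Z))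
    · obtain ⟨e, he, heZ⟩ := hE1
      intro h
      have : QuotientGroup.mk' Z e ∈ E.map (QuotientGroup.mk' Z) := Subgroup.mem_map_of_mem _ he
      rw [h, Subgroup.mem_bot] at this
      exact heZ ((QuotientGroup.eq_one_iff e).mp this)
    · rintro _ ⟨e, he, rfl⟩
      apply Cfsg.Agent.Lib.Helper11.RegB.mem_normalizer_of_conj_mem
      rintro _ ⟨h, hh, rfl⟩
      refine ⟨e * h * e⁻¹, ?_, by simp⟩
      exact ((Subgroup.mem_normalizer_iff.mp (hEH he)) h).mp hh
    · rintro _ ⟨e, he, rfl⟩ he1 _ ⟨h, hh, rfl⟩ hcomm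
      have heZ : e ∉ Z := fun h' => he1 ((QuotientGroup.eq_one_iff e).mpr h')
      have hBH : Subgroup.zpowers e ≤ Subgroup.normalizer (H : Set X) :=
        Subgroup.zpowers_le.mpr (hEH he)
      have hBc : (Nat.card (Subgroup.zpowers e)).Coprime (Nat.card H) :=
        Nat.Coprime.coprime_dvd_left
          (Subgroup.card_dvd_of_le (Subgroup.zpowers_le.mpr he)) hcop
      have key := Cfsg.Agent.Lib.Helper11.FrobDerived.map_fixed_quot Z H (Subgroup.zpowers e) hZH
        hBH hBc hsolv
      have hmem : QuotientGroup.mk' Z h ∈ H.map (QuotientGroup.mk' Z) ⊓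
          Subgroup.centralizer
            (((Subgroup.zpowers e).map (QuotientGroup.mk' Z) : Subgroup (X ⧸ Z)) : Set (X ⧸ Z)) := by
        refine ⟨Subgroup.mem_map_of_mem _ hh, ?_⟩
        show QuotientGroup.mk' Z h ∈ Subgroup.centralizer
            (((Subgroup.zpowers e).map (QuotientGroup.mk' Z) : Subgroup (X ⧸ Z)) : Set (X ⧸ Z))
        rw [Subgroup.mem_centralizer_iff]
        rintro _ ⟨b, hb, rfl⟩
        obtain ⟨n, rfl⟩ := Subgroup.mem_zpowers_iff.mp hb
        rw [map_zpow]
        exact (Commute.zpow_left (show Commute (QuotientGroup.mk' Z e) (QuotientGroup.mk' Z h)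
          from hcomm) n).eq
      rw [← key] at hmem
      obtain ⟨y, hy, hyh⟩ := hmem
      have hyZ : y ∈ Z := by
        apply hfix e he heZ
        refine ⟨hy.1, ?_⟩
        show y ∈ Subgroup.centralizer ({e} : Set X)
        rw [Subgroup.mem_centralizer_iff]
        intro b hb
        rw [Set.mem_singleton_iff] at hb
        rw [hb]
        exact (Subgroup.mem_centralizer_iff.mp hy.2) e (Subgroup.mem_zpowers e)
      rw [← hyh]
      exact (QuotientGroup.eq_one_iff y).mpr hyZ
  have hker : ((QuotientGroup.mk' Z).subgroupMap H).ker ≤ Subgroup.center ↥H := by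
    intro x hx
    rw [MonoidHom.mem_ker] at hx
    have h1 : QuotientGroup.mk' Z (x : X) = 1 := by
      have := congrArg Subtype.val hx
      simpa using this
    have hxZ : (x : X) ∈ Z := (QuotientGroup.eq_one_iff _).mp h1
    rw [Subgroup.mem_center_iff]
    intro g
    apply Subtype.ext
    show (g : X) * (x : X) = (x : X) * (g : X)
    exact (hZc _ hxZ _ g.2).symm
  have := hU
  exact Subgroup.isNilpotent_of_ker_le_center ((QuotientGroup.mk' Z).subgroupMap H) hker

end Cfsg.Agent.Lib.Helper28.BGt
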