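import Mathlib
import Cfsg.Agent.Lib.Helper10.PPairF
import Cfsg.Agent.Lib.Helper11.RegB
import Cfsg.Agent.Lib.Helper28.BGtV
import Cfsg.Agent.Lib.Helper28.BGtW
import Cfsg.Agent.Lib.Helper28.BGtZ
import Cfsg.Agent.Lib.Helper1.BG12b.EThree
import Cfsg.Agent.Lib.Helper1.BG14.SigmaATI
import Cfsg.Agent.Lib.Helper1.BG12b.RegLineA
import Cfsg.Agent.Lib.Helper1.BG15.SigmaDecomp
import Cfsg.Agent.Lib.Helper11.ExcF
import Cfsg.Agent.S1365
import Cfsg.Agent.S1352

set_option autoImplicit false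

/-! # The centralizer of `K` in a pair `(M, M*)` (helper28)

For a pair `(M, M*)` as in B & G, Theorem 14.7 with `K` of prime order: `N_G(K) = C_G(K) ≤ M*`. -/

namespace Cfsg.Agent.Lib.Helper28.BGt

open Cfsg Cfsg.Agent.Lib.Helper10.PPair

variable {G : Type*} [Group G] [Finite G] {M Ms K : Subgroup G}

/-- `N_G(K) ≤ M*` when `K` has prime order -/
theorem normalizer_le_partner (c : Pair M Ms K) (hKp : (Nat.card K).Prime) :
    Subgroup.normalizer (K : Set G) ≤ Ms := by
  haveI : Fact (Nat.card K).Prime := ⟨hKp⟩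
  exact c.normalizer_le_star rfl le_rfl

/-- `K` is abelian -/
theorem pair_K_comm (c : Pair M Ms K) {a b : G} (ha : a ∈ K) (hb : b ∈ K) : a * b = b * a :=
  commute_of_isCyclic c.k_cyclic ha hb

/-- `K* ≤ C_G(K)` -/
theorem pair_kstar_le_centralizer (M K : Subgroup G) :
    Cfsg.sigmaCore M ⊓ Subgroup.centralizer (K : Set G) ≤ Subgroup.centralizer (K : Set G) :=
  inf_le_right

/-- `M* ∩ N_G(K*) = K* K` -/
theorem pair_normalizer_kstar (c : Pair M Ms K) :
    Ms ⊓ Subgroup.normalizer ((Cfsg.sigmaCore M ⊓ Subgroup.centralizer (K : Set G) : Subgroup G) : Set G) =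
      (Cfsg.sigmaCore M ⊓ Subgroup.centralizer (K : Set G)) ⊔ K := by
  obtain ⟨p, X, hp, hXK, hXc⟩ := Cfsg.Agent.Lib.Helper18.KStar.exists_prime_card_le c.symm.hK1
  have h := ((Cfsg.Agent.S1430.result c.hG Ms c.hMs _ c.hKstH c.symm.hK1).2.2 X hXK
    (by rw [hXc]; exact hp)).2.1
  rw [h, ← c.hKst]

/-- **`N_G(K) = C_G(K)`** for `K` of prime order -/
theorem normalizer_le_centralizer (c : Pair M Ms K) (hKp : (Nat.card K).Prime) :
    Subgroup.normalizer (K : Set G) ≤ Subgroup.centralizer (K : Set G) := by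
  intro e he
  obtain ⟨Ks, hKs⟩ : ∃ Ks : Subgroup G,
    Ks = Cfsg.sigmaCore M ⊓ Subgroup.centralizer (K : Set G) := ⟨_, rfl⟩
  obtain ⟨W, hW⟩ : ∃ W : Subgroup G, W = Subgroup.centralizer (K : Set G) := ⟨_, rfl⟩
  have hWN : W ≤ Subgroup.normalizer (K : Set G) := by
    rw [hW]
    intro a ha
    apply Cfsg.Agent.Lib.Helper11.RegB.mem_normalizer_of_conj_mem
    intro b hb
    have := (Subgroup.mem_centralizer_iff.mp ha) b hb
    rw [← this]
    simpa using hb
  have hWMs : W ≤ Ms := hWN.trans (normalizer_le_partner c hKp)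
  have hMsS : Group.IsSolvable ↥Ms := c.hG.2.2.2 Ms c.hMs.1
  have hWs : Group.IsSolvable ↥W :=
    Group.isSolvable_of_isSolvable_injective (Subgroup.inclusion_injective hWMs)
  have hKsW : Ks ≤ W := by rw [hKs, hW]; exact inf_le_right
  have hKsMs : Ks ≤ Ms := hKsW.trans hWMs
  have hKsH : Cfsg.IsPiHallOf (Cfsg.kappa Ms) Ks Ms := by rw [hKs]; exact c.hKstH
  -- the conjugate
  obtain ⟨Y, hY⟩ : ∃ Y : Subgroup G, Y = Ks.map (MulAut.conj e).toMonoidHom := ⟨_, rfl⟩
  have hconjK : ∀ a ∈ K, e⁻¹ * a * e ∈ K := by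
    intro a ha
    have he' : e⁻¹ ∈ Subgroup.normalizer (K : Set G) := Subgroup.inv_mem _ he
    have := (Subgroup.mem_normalizer_iff.mp he' a).mp ha
    simpa using this
  have hYW : Y ≤ W := by
    rw [hY, hW]
    rintro _ ⟨k, hk, rfl⟩
    rw [Subgroup.mem_centralizer_iff]
    intro a ha
    have hk' : k ∈ Subgroup.centralizer (K : Set G) := by
      rw [hKs] at hk; exact hk.2
    have h1 := (Subgroup.mem_centralizer_iff.mp hk') _ (hconjK a ha)
    show a * (e * k * e⁻¹) = e * k * e⁻¹ * a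
    calc a * (e * k * e⁻¹) = e * (e⁻¹ * a * e * k) * e⁻¹ := by group
      _ = e * (k * (e⁻¹ * a * e)) * e⁻¹ := by rw [h1]
      _ = e * k * e⁻¹ * a := by group
  -- Hall conjugacy inside `W`
  have hcard : Nat.card W = Nat.card Ks * Ks.relIndex W :=
    (Cfsg.Agent.Lib.Helper1.BG12.card_mul_relIndex_of_le hKsW).symm
  have hcop : (Nat.card Ks).Coprime (Ks.relIndex W) := by
    apply Nat.Coprime.coprime_dvd_right
      (Dvd.intro _ (Subgroup.relIndex_mul_relIndex Ks W Ms hKsW hWMs))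
    apply Nat.coprime_of_dvd
    intro q hq h1 h2
    exact hKsH.2.2 q hq (hKsH.2.1 q hq h1) h2
  have hYc : Nat.card Y = Nat.card Ks := by
    rw [hY]
    exact Nat.card_congr
      (Ks.equivMapOfInjective _ (MulAut.conj e).injective).symm.toEquiv
  obtain ⟨w, hwW, hw⟩ := Cfsg.Agent.Lib.Helper1.BG14.hall_conj_into hWs hKsW hYW hcard hcop
    (by rw [hYc]; exact hcop)
  -- `f = w⁻¹ e` normalizes `K*`
  have hf : w⁻¹ * e ∈ Subgroup.normalizer (Ks : Set G) := by
    apply Cfsg.Agent.Lib.Helper11.RegB.mem_normalizer_of_conj_mem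
    intro k hk
    have h1 : e * k * e⁻¹ ∈ Y := by rw [hY]; exact ⟨k, hk, rfl⟩
    have h2 := hw _ h1
    have e1 : w⁻¹ * e * k * (w⁻¹ * e)⁻¹ = w⁻¹ * (e * k * e⁻¹) * w := by group
    rw [e1]; exact h2
  have hfMs : w⁻¹ * e ∈ Ms :=
    Ms.mul_mem (Ms.inv_mem (hWMs hwW)) (normalizer_le_partner c hKp he)
  have hfZ : w⁻¹ * e ∈ Ks ⊔ K := by
    have := pair_normalizer_kstar c
    rw [← hKs] at this
    rw [← this]
    exact ⟨hfMs, hf⟩
  have hZW : Ks ⊔ K ≤ W := by
    refine sup_le hKsW ?_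
    rw [hW]
    intro a ha
    rw [Subgroup.mem_centralizer_iff]
    intro b hb
    exact pair_K_comm c hb ha
  have : e = w * (w⁻¹ * e) := by group
  rw [this, ← hW]
  exact W.mul_mem hwW (hZW hfZ)

/-- for a standard factorisation with `K ≠ 1`: `M'` is a normal complement of `K` of coprime order -/
theorem derived_compl_facts (hG : Cfsg.IsMinSimpleOddOrder G) {M K U : Subgroup G}
    (hM : IsCoatom M) (hKU : Cfsg.IsSigmaDecomposition M K U) (hK1 : K ≠ ⊥) :
    (Nat.card ↥⁅M, M⁆).Coprime (Nat.card K) ∧ ⁅M, M⁆ ⊓ K = ⊥ ∧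
      ∀ m ∈ M, ∃ d ∈ ⁅M, M⁆, ∃ k ∈ K, m = d * k := by
  have hD := (Cfsg.Agent.S1365.result hG M hM K U hKU hK1).1
  have hK := hKU.hall
  have hKM : K ≤ M := hK.1
  have hUM : U ≤ M := hKU.compl.1
  have hKs : K ⊓ Cfsg.sigmaCore M = ⊥ :=
    Cfsg.Agent.Lib.Helper1.BG15.kappa_inf_sigmaCore hG hM hK.2.1
  have hKN : K ≤ Subgroup.normalizer (Cfsg.sigmaCore M : Set G) :=
    hKM.trans (Cfsg.Agent.Lib.Helper1.BG12.le_normalizer_sigmaCore M)
  have hUN : U ≤ Subgroup.normalizer (Cfsg.sigmaCore M : Set G) :=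
    hUM.trans (Cfsg.Agent.Lib.Helper1.BG12.le_normalizer_sigmaCore M)
  have hUs : U ⊓ Cfsg.sigmaCore M = ⊥ := by
    rw [eq_bot_iff, ← hKU.compl.2.2.1]
    exact inf_le_inf_left _ le_sup_right
  have c1 := Cfsg.Agent.Lib.Helper1.BG12b.card_sup_of_inf_eq_bot hKN hKs
  have c2 := Cfsg.Agent.Lib.Helper1.BG12b.card_sup_of_inf_eq_bot hUN hUs
  have c3 := Cfsg.Agent.Lib.Helper1.BG15.card_of_isComplIn hKU.compl
  have c4 := Cfsg.Agent.Lib.Helper1.BG12.card_mul_relIndex_of_le hKM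
  have hrel : K.relIndex M = Nat.card ↥⁅M, M⁆ := by
    rw [hD, c2]
    have hKpos : 0 < Nat.card K := Nat.card_pos
    apply Nat.eq_of_mul_eq_mul_left hKpos
    rw [c4, c3, c1]
    ring
  have hcop : (Nat.card ↥⁅M, M⁆).Coprime (Nat.card K) := by
    apply Nat.coprime_of_dvd
    intro q hq h1 h2
    apply hK.2.2 q hq (hK.2.1 q hq h2)
    rw [hrel]; exact h1
  refine ⟨hcop, Subgroup.inf_eq_bot_of_coprime hcop, ?_⟩
  intro m hm
  obtain ⟨u, hu, b, hb, hmb⟩ := hKU.compl.2.2.2 m hm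
  rw [sup_comm] at hb
  obtain ⟨s, hs, k, hk, hbk⟩ :=
    Cfsg.Agent.Lib.Helper11.ExcF.exists_mul_of_mem_sup (Cfsg.sigmaCore M) K hKN b hb
  refine ⟨u * s, ?_, k, hk, ?_⟩
  · rw [hD]
    exact Subgroup.mul_mem _ (Subgroup.mem_sup_left hu) (Subgroup.mem_sup_right hs)
  · rw [hmb, hbk, mul_assoc]

/-- `D = C_G(K) ∩ (M*)'` -/
def pairD (Ms K : Subgroup G) : Subgroup G := Subgroup.centralizer (K : Set G) ⊓ ⁅Ms, Ms⁆

theorem pairD_le_centralizer (Ms K : Subgroup G) : pairD Ms K ≤ Subgroup.centralizer (K : Set G) :=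
  inf_le_left

theorem pairD_le_derived (Ms K : Subgroup G) : pairD Ms K ≤ ⁅Ms, Ms⁆ := inf_le_right

theorem pairD_le (Ms K : Subgroup G) : pairD Ms K ≤ Ms :=
  inf_le_right.trans (Cfsg.Agent.Lib.Helper1.BG12.derived_le Ms)

/-- the facts on `D`, given a standard factorisation of `M*` -/
theorem pairD_facts (c : Pair M Ms K) :
    (Nat.card ↥(pairD Ms K)).Coprime
        (Nat.card ↥(Cfsg.sigmaCore M ⊓ Subgroup.centralizer (K : Set G))) ∧
      (∀ a ∈ Subgroup.centralizer (K : Set G), a ∈ Ms → ∃ d ∈ pairD Ms K,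
        ∃ k ∈ Cfsg.sigmaCore M ⊓ Subgroup.centralizer (K : Set G), a = d * k) ∧
      ∀ k ∈ Cfsg.sigmaCore M ⊓ Subgroup.centralizer (K : Set G), k ≠ 1 →
        pairD Ms K ⊓ Subgroup.centralizer ({k} : Set G) = K := by
  obtain ⟨Ks, hKs⟩ : ∃ Ks : Subgroup G,
    Ks = Cfsg.sigmaCore M ⊓ Subgroup.centralizer (K : Set G) := ⟨_, rfl⟩
  rw [← hKs]
  have hKsH : Cfsg.IsPiHallOf (Cfsg.kappa Ms) Ks Ms := by rw [hKs]; exact c.hKstH
  have hKs1 : Ks ≠ ⊥ := by rw [hKs]; exact c.hKs1
  have hKsc : IsCyclic Ks := by rw [hKs]; exact c.kstar_cyclic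
  obtain ⟨Us, hUs⟩ := (Cfsg.Agent.S1352.result c.hG Ms c.hMs Ks hKsc hKsH).1
  obtain ⟨hcop, hinf, hfac⟩ := derived_compl_facts c.hG c.hMs hUs hKs1
  have hKsC : Ks ≤ Subgroup.centralizer (K : Set G) := by rw [hKs]; exact inf_le_right
  refine ⟨?_, ?_, ?_⟩
  · exact Nat.Coprime.coprime_dvd_left (Subgroup.card_dvd_of_le (pairD_le_derived Ms K)) hcop
  · intro a ha haMs
    obtain ⟨d, hd, k, hk, hak⟩ := hfac a haMs
    refine ⟨d, ⟨?_, hd⟩, k, hk, hak⟩
    have : d = a * k⁻¹ := by rw [hak]; group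
    rw [this]
    exact Subgroup.mul_mem _ ha (Subgroup.inv_mem _ (hKsC hk))
  · intro k hk hk1
    apply le_antisymm
    · intro d hd
      have hdD := hd.1
      have hdMs : d ∈ Ms := pairD_le Ms K hdD
      have h1 := inf_centralizer_le_sup c.hG c.hMs hKsH hk hk1 ⟨hdMs, hd.2⟩
      rw [hKs, ← c.hKst, ← hKs] at h1
      -- `d ∈ K* K ∩ (M*)'`
      have hKsN : K ≤ Subgroup.normalizer (Ks : Set G) := by
        intro a ha
        apply Cfsg.Agent.Lib.Helper11.RegB.mem_normalizer_of_conj_mem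
        intro b hb
        have := (Subgroup.mem_centralizer_iff.mp (hKsC hb)) a ha
        have e1 : a * b * a⁻¹ = b := by rw [this]; group
        rw [e1]; exact hb
      obtain ⟨k₁, hk₁, a, ha, hda⟩ :=
        Cfsg.Agent.Lib.Helper11.ExcF.exists_mul_of_mem_sup Ks K hKsN d h1
      have haD : a ∈ ⁅Ms, Ms⁆ := by
        have h2 : K ≤ Cfsg.sigmaCore Ms := c.hKσ
        have h3 := (Cfsg.Agent.S1365.result c.hG Ms c.hMs Ks Us hUs hKs1).1
        rw [h3]
        exact Subgroup.mem_sup_right (h2 ha)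
      have hk₁D : k₁ ∈ ⁅Ms, Ms⁆ ⊓ Ks := by
        refine ⟨?_, hk₁⟩
        have : k₁ = d * a⁻¹ := by rw [hda]; group
        rw [this]
        exact Subgroup.mul_mem _ (pairD_le_derived Ms K hdD) (Subgroup.inv_mem _ haD)
      rw [hinf, Subgroup.mem_bot] at hk₁D
      rw [hda, hk₁D, one_mul]
      exact ha
    · intro a ha
      refine ⟨⟨?_, ?_⟩, ?_⟩
      · show a ∈ Subgroup.centralizer (K : Set G)
        rw [Subgroup.mem_centralizer_iff]
        intro b hb
        exact pair_K_comm c hb ha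
      · have h3 := (Cfsg.Agent.S1365.result c.hG Ms c.hMs Ks Us hUs hKs1).1
        rw [h3]
        exact Subgroup.mem_sup_right (c.hKσ ha)
      · show a ∈ Subgroup.centralizer ({k} : Set G)
        rw [Subgroup.mem_centralizer_iff]
        intro b hb
        rw [Set.mem_singleton_iff] at hb
        rw [hb]
        exact ((Subgroup.mem_centralizer_iff.mp (hKsC hk)) a ha).symm

/-- `K ≤ D` -/
theorem pair_K_le_pairD (c : Pair M Ms K) : K ≤ pairD Ms K := by
  obtain ⟨k, hk, hk1⟩ := exists_ne_one_of_ne_bot' c.hKs1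
  have := (pairD_facts c).2.2 k hk hk1
  intro a ha
  rw [← this] at ha
  exact ha.1

/-- `C_G(K)` normalizes `D` -/
theorem centralizer_le_normalizer_pairD (c : Pair M Ms K) (hKp : (Nat.card K).Prime) :
    Subgroup.centralizer (K : Set G) ≤ Subgroup.normalizer (pairD Ms K : Set G) := by
  intro a ha
  have haMs : a ∈ Ms := by
    apply normalizer_le_partner c hKp
    apply Cfsg.Agent.Lib.Helper11.RegB.mem_normalizer_of_conj_mem
    intro b hb
    have := (Subgroup.mem_centralizer_iff.mp ha) b hb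
    rw [← this]
    simpa using hb
  apply Cfsg.Agent.Lib.Helper11.RegB.mem_normalizer_of_conj_mem
  intro d hd
  refine ⟨?_, ?_⟩
  · exact Subgroup.mul_mem _ (Subgroup.mul_mem _ ha hd.1) (Subgroup.inv_mem _ ha)
  · exact ((Subgroup.mem_normalizer_iff.mp (le_normalizer_derived' Ms haMs)) d).mp hd.2

/-- **`D = C_G(K) ∩ (M*)'` is nilpotent** -/
theorem pairD_nilpotent (c : Pair M Ms K) (hKp : (Nat.card K).Prime) :
    Group.IsNilpotent ↥(pairD Ms K) := by
  obtain ⟨Ks, hKs⟩ : ∃ Ks : Subgroup G,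
    Ks = Cfsg.sigmaCore M ⊓ Subgroup.centralizer (K : Set G) := ⟨_, rfl⟩
  obtain ⟨hcop, -, hfix⟩ := pairD_facts c
  rw [← hKs] at hcop hfix
  obtain ⟨W, hW⟩ : ∃ W : Subgroup G, W = Subgroup.centralizer (K : Set G) := ⟨_, rfl⟩
  have hDW : pairD Ms K ≤ W := by rw [hW]; exact pairD_le_centralizer Ms K
  have hKsW : Ks ≤ W := by rw [hKs, hW]; exact inf_le_right
  have hKD : K ≤ pairD Ms K := pair_K_le_pairD c
  have hKW : K ≤ W := hKD.trans hDW
  have hWMs : W ≤ Ms := by
    rw [hW]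
    intro a ha
    apply normalizer_le_partner c hKp
    apply Cfsg.Agent.Lib.Helper11.RegB.mem_normalizer_of_conj_mem
    intro b hb
    have := (Subgroup.mem_centralizer_iff.mp ha) b hb
    rw [← this]
    simpa using hb
  have hMsS : Group.IsSolvable ↥Ms := c.hG.2.2.2 Ms c.hMs.1
  have hWs : Group.IsSolvable ↥W :=
    Group.isSolvable_of_isSolvable_injective (Subgroup.inclusion_injective hWMs)
  have hZn : (K.subgroupOf W).Normal := by
    constructor
    intro z hz g
    rw [Subgroup.mem_subgroupOf] at hz ⊢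
    have hg : (g : G) ∈ Subgroup.centralizer (K : Set G) := by rw [← hW]; exact g.2
    have := (Subgroup.mem_centralizer_iff.mp hg) _ hz
    have e1 : ((g * z * g⁻¹ : W) : G) = (z : G) := by
      push_cast
      rw [← this]; group
    rw [e1]; exact hz
  have hnil : Group.IsNilpotent ↥((pairD Ms K).subgroupOf W) := by
    apply nilpotent_of_central_fixed ((pairD Ms K).subgroupOf W) (K.subgroupOf W)
      (Ks.subgroupOf W)
    · intro z hz
      rw [Subgroup.mem_subgroupOf] at hz ⊢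
      exact hKD hz
    · intro z hz h hh
      rw [Subgroup.mem_subgroupOf] at hz hh
      apply Subtype.ext
      push_cast
      have := (Subgroup.mem_centralizer_iff.mp (pairD_le_centralizer Ms K hh)) _ hz
      exact this
    · intro e _
      apply Cfsg.Agent.Lib.Helper11.RegB.mem_normalizer_of_conj_mem
      intro d hd
      rw [Subgroup.mem_subgroupOf] at hd ⊢
      have he : (e : G) ∈ Subgroup.centralizer (K : Set G) := by rw [← hW]; exact e.2
      have := centralizer_le_normalizer_pairD c hKp he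
      have h2 := ((Subgroup.mem_normalizer_iff.mp this) _).mp hd
      simpa using h2
    · obtain ⟨k, hk, hk1⟩ := exists_ne_one_of_ne_bot' c.hKs1
      rw [← hKs] at hk
      refine ⟨⟨k, hKsW hk⟩, ?_, ?_⟩
      · rw [Subgroup.mem_subgroupOf]; exact hk
      · rw [Subgroup.mem_subgroupOf]
        intro hkK
        have h1 : K ⊓ Cfsg.sigmaCore M = ⊥ :=
          Cfsg.Agent.Lib.Helper1.BG15.kappa_inf_sigmaCore c.hG c.hM c.hK.2.1
        have : k ∈ K ⊓ Cfsg.sigmaCore M := by
          rw [hKs] at hk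
          exact ⟨hkK, hk.1⟩
        rw [h1, Subgroup.mem_bot] at this
        exact hk1 this
    · rw [Nat.card_congr (Subgroup.subgroupOfEquivOfLe hKsW).toEquiv,
        Nat.card_congr (Subgroup.subgroupOfEquivOfLe hDW).toEquiv]
      exact hcop.symm
    · infer_instance
    · intro e he heZ y hy
      rw [Subgroup.mem_subgroupOf] at he heZ ⊢
      have he1 : (e : G) ≠ 1 := by
        intro h
        apply heZ
        rw [h]; exact K.one_mem
      rw [← hfix _ he he1]
      refine ⟨?_, ?_⟩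
      · have : y ∈ (pairD Ms K).subgroupOf W := hy.1
        rw [Subgroup.mem_subgroupOf] at this
        exact this
      · have h2 : y ∈ Subgroup.centralizer ({e} : Set W) := hy.2
        show (y : G) ∈ Subgroup.centralizer ({(e : G)} : Set G)
        rw [Subgroup.mem_centralizer_iff] at h2 ⊢
        intro b hb
        rw [Set.mem_singleton_iff] at hb
        rw [hb]
        have := h2 e (Set.mem_singleton e)
        exact_mod_cast congrArg Subtype.val this
  have := hnil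
  exact Group.nilpotent_of_mulEquiv (Subgroup.subgroupOfEquivOfLe hDW)

/-- `C_G(K) ≤ M*` -/
theorem centralizer_le_partner (c : Pair M Ms K) (hKp : (Nat.card K).Prime) :
    Subgroup.centralizer (K : Set G) ≤ Ms := by
  intro a ha
  apply normalizer_le_partner c hKp
  apply Cfsg.Agent.Lib.Helper11.RegB.mem_normalizer_of_conj_mem
  intro b hb
  have := (Subgroup.mem_centralizer_iff.mp ha) b hb
  rw [← this]
  simpa using hb

/-- `C_G(K) = D ⋊ K*` -/
theorem pairD_compl (c : Pair M Ms K) (hKp : (Nat.card K).Prime) :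
    Cfsg.IsComplIn (pairD Ms K) (Cfsg.sigmaCore M ⊓ Subgroup.centralizer (K : Set G))
      (Subgroup.centralizer (K : Set G)) := by
  obtain ⟨hcop, hfac, -⟩ := pairD_facts c
  refine ⟨pairD_le_centralizer Ms K, inf_le_right, Subgroup.inf_eq_bot_of_coprime hcop, ?_⟩
  intro a ha
  exact hfac a ha (centralizer_le_partner c hKp ha)

/-- a subgroup of `C_G(K)` of order coprime to `|K*|` lies in `D` -/
theorem le_pairD_of_coprime (c : Pair M Ms K) (hKp : (Nat.card K).Prime) {X : Subgroup G}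
    (hXC : X ≤ Subgroup.centralizer (K : Set G))
    (hX : (Nat.card X).Coprime
      (Nat.card ↥(Cfsg.sigmaCore M ⊓ Subgroup.centralizer (K : Set G)))) :
    X ≤ pairD Ms K := by
  apply Cfsg.Agent.Lib.Helper1.BG12b.le_of_coprime_relIndex (pairD_le_centralizer Ms K) hXC
    (centralizer_le_normalizer_pairD c hKp)
  have h1 := Cfsg.Agent.Lib.Helper1.BG15.card_of_isComplIn (pairD_compl c hKp)
  have h2 := Cfsg.Agent.Lib.Helper1.BG12.card_mul_relIndex_of_le (pairD_le_centralizer Ms K)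
  have hpos : 0 < Nat.card ↥(pairD Ms K) := Nat.card_pos
  have h3 : (pairD Ms K).relIndex (Subgroup.centralizer (K : Set G)) =
      Nat.card ↥(Cfsg.sigmaCore M ⊓ Subgroup.centralizer (K : Set G)) := by
    apply Nat.eq_of_mul_eq_mul_left hpos
    rw [h2, h1]
  rw [h3]
  exact hX

end Cfsg.Agent.Lib.Helper28.BGt
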