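import Mathlib
import Cfsg.Agent.Lib.Helper1.Cores
import Cfsg.Agent.Lib.Helper11.MaxLocB
import Cfsg.Agent.Lib.Helper11.NilpCoprime
import Cfsg.Agent.Lib.Helper11.BenderP
import Cfsg.Agent.Lib.Helper1.BG12.TauHall
import Cfsg.Agent.Lib.Helper1.BG15.URegular
import Cfsg.Agent.Lib.Helper1.BG14.SigmaATI
import Cfsg.Agent.Lib.Helper28.BGtH
import Cfsg.Agent.Lib.Helper28.BGtT
import Cfsg.Agent.Lib.Helper28.BGtD
import Cfsg.Agent.Lib.Helper28.BGtJ

set_option autoImplicit false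

/-! # Tools for B & G, Corollary 15.9 (helper28) -/

namespace Cfsg.Agent.Lib.Helper28.BGt

open Cfsg

variable {G : Type*} [Group G] [Finite G]

/-- elements of coprime orders in `F(E)` commute -/
theorem commute_of_mem_fittingOf (E : Subgroup G) {a b : G} (ha : a ∈ Cfsg.fittingOf E)
    (hb : b ∈ Cfsg.fittingOf E) (hcop : (orderOf a).Coprime (orderOf b)) : a * b = b * a := by
  have hnil := Cfsg.Agent.Lib.Helper11.MaxLocB.fittingOf_nilpotent E
  have h := Cfsg.Agent.Lib.Helper11.commute_of_coprime_orderOf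
    (⟨a, ha⟩ : ↥(Cfsg.fittingOf E)) ⟨b, hb⟩ (by
      rw [Subgroup.orderOf_mk, Subgroup.orderOf_mk]; exact hcop)
  exact congrArg Subtype.val h.eq

/-- elements of coprime orders in a nilpotent subgroup commute -/
theorem commute_of_mem_nilpotent {D : Subgroup G} (hD : Group.IsNilpotent D) {a b : G}
    (ha : a ∈ D) (hb : b ∈ D) (hcop : (orderOf a).Coprime (orderOf b)) : a * b = b * a := by
  have := hD
  have h := Cfsg.Agent.Lib.Helper11.commute_of_coprime_orderOf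
    (⟨a, ha⟩ : ↥D) ⟨b, hb⟩ (by
      rw [Subgroup.orderOf_mk, Subgroup.orderOf_mk]; exact hcop)
  exact congrArg Subtype.val h.eq

/-- a `p`-subgroup of `M` for `p ∉ σ(M) ∪ τ₂(M)` is cyclic -/
theorem cyclic_of_not_tau2 (hG : Cfsg.IsMinSimpleOddOrder G) {M : Subgroup G} (hM : IsCoatom M)
    {p : ℕ} (hp : p.Prime) (hσ : p ∉ Cfsg.sigma M) (h2 : p ∉ Cfsg.tau2 M) {P : Subgroup G}
    (hPM : P ≤ M) (hP : IsPGroup p P) : IsCyclic P := by
  have : Fact p.Prime := ⟨hp⟩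
  have hr2 := Cfsg.Agent.Lib.Helper1.BG15.rank_le_two_of_not_sigma hG hM hp hσ
  have hr1 : Cfsg.PRankLE p 1 ↥M := by
    by_contra h
    exact h2 ⟨hp, hσ, hr2, h⟩
  by_cases hP1 : P = ⊥
  · rw [hP1]; infer_instance
  have hp2 : p ≠ 2 := by
    rintro rfl
    have hodd : Odd (Nat.card G) := hG.1
    obtain ⟨x, hx, hx1⟩ := exists_ne_one_of_ne_bot' hP1
    obtain ⟨k, hk⟩ := (IsPGroup.iff_orderOf.mp hP) ⟨x, hx⟩
    rw [Subgroup.orderOf_mk] at hk
    have hk0 : k ≠ 0 := by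
      rintro rfl
      rw [pow_zero, orderOf_eq_one_iff] at hk
      exact hx1 hk
    have h2d : 2 ∣ orderOf x := by rw [hk]; exact dvd_pow_self 2 hk0
    have := h2d.trans (orderOf_dvd_natCard x)
    rw [Nat.odd_iff] at hodd
    omega
  have hc := Cfsg.Agent.Lib.Helper1.BG12.cyclic_of_rank_one (Γ := ↥M) p hp2 (P.subgroupOf M)
    (hP.comap_of_injective M.subtype M.subtype_injective) hr1
  exact isCyclic_of_surjective _ (Subgroup.subgroupOfEquivOfLe hPM).surjective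

/-- a `σ(M)'`-subgroup of `M` is conjugate in `M` into a given complement of `M_σ` -/
theorem conj_into_compl (hG : Cfsg.IsMinSimpleOddOrder G) {M E Y : Subgroup G} (hM : IsCoatom M)
    (hE : Cfsg.IsComplIn E (Cfsg.sigmaCore M) M) (hYM : Y ≤ M)
    (hY : ∀ q : ℕ, q.Prime → q ∣ Nat.card Y → q ∉ Cfsg.sigma M) :
    ∃ m ∈ M, ∀ y ∈ Y, m⁻¹ * y * m ∈ E := by
  have hMs : Group.IsSolvable ↥M := Cfsg.Agent.Lib.Helper11.MaxSubB.coatom_solvable hG M hM
  have hcard : Nat.card ↥M = Nat.card E * Nat.card (Cfsg.sigmaCore M) := by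
    rw [card_compl hE, mul_comm]
  have hcop : (Nat.card E).Coprime (Nat.card (Cfsg.sigmaCore M)) := by
    apply Nat.coprime_of_dvd
    intro q hq hqE hqs
    exact compl_prime_not_sigma hG hM hE hq hqE (prime_sigmaCore hG hM hq hqs)
  have hcY : (Nat.card Y).Coprime (Nat.card (Cfsg.sigmaCore M)) := by
    apply Nat.coprime_of_dvd
    intro q hq hqY hqs
    exact hY q hq hqY (prime_sigmaCore hG hM hq hqs)
  exact Cfsg.Agent.Lib.Helper1.BG14.hall_conj_into hMs hE.1 hYM hcard hcop hcY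

/-- for `p ∈ τ₂(M)` a complement of `M_σ` contains an elementary abelian subgroup of order `p²` -/
theorem exists_sq_in_compl (hG : Cfsg.IsMinSimpleOddOrder G) {M E : Subgroup G} (hM : IsCoatom M)
    (hE : Cfsg.IsComplIn E (Cfsg.sigmaCore M) M) {p : ℕ} (hp : p ∈ Cfsg.tau2 M) :
    ∃ A : Subgroup G, A ≤ E ∧ Cfsg.IsElementaryAbelian p A ∧ Nat.card A = p ^ 2 := by
  have hpp : p.Prime := hp.1
  have : Fact p.Prime := ⟨hpp⟩
  have h1 := hp.2.2.2
  unfold Cfsg.PRankLE at h1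
  push Not at h1
  obtain ⟨B, hBc, hBexp, hBcard⟩ := h1
  have hBe' : Cfsg.IsElementaryAbelian p (B.map M.subtype) := by
    refine ⟨⟨⟨?_⟩⟩, ?_⟩
    · rintro ⟨_, a, ha, rfl⟩ ⟨_, b, hb, rfl⟩
      apply Subtype.ext
      show M.subtype a * M.subtype b = M.subtype b * M.subtype a
      rw [← map_mul, ← map_mul]
      congr 1
      exact congrArg Subtype.val (hBc.is_comm.comm ⟨a, ha⟩ ⟨b, hb⟩)
    · rintro _ ⟨a, ha, rfl⟩
      rw [← map_pow, hBexp a ha, map_one]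
  have hBM : B.map M.subtype ≤ M := by
    rintro _ ⟨x, _, rfl⟩
    exact x.2
  have hc2 : p ^ 2 ≤ Nat.card (B.map M.subtype) := by
    have hcard : Nat.card (B.map M.subtype) = Nat.card B :=
      Subgroup.card_map_of_injective (Subgroup.subtype_injective M)
    have hBp : IsPGroup p (B.map M.subtype) := by
      rintro ⟨a, ha⟩
      exact ⟨1, Subtype.ext (by simpa using hBe'.2 a ha)⟩
    obtain ⟨k, hk⟩ := IsPGroup.iff_card.mp hBp
    rw [hk]
    rw [← hcard, hk] at hBcard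
    have : 1 < k := (Nat.pow_lt_pow_iff_right hpp.one_lt).mp hBcard
    exact Nat.pow_le_pow_right hpp.pos this
  obtain ⟨A₂, hA₂le, hA₂e, hA₂c⟩ :=
    Cfsg.Agent.Lib.Helper11.BenderP.exists_sq_le p (B.map M.subtype) hBe' hc2
  have hA₂M : A₂ ≤ M := hA₂le.trans hBM
  have hA₂σ : ∀ q : ℕ, q.Prime → q ∣ Nat.card A₂ → q ∉ Cfsg.sigma M := by
    intro q hq hqd
    rw [hA₂c] at hqd
    have : q = p := (Nat.prime_dvd_prime_iff_eq hq hpp).mp (hq.dvd_of_dvd_pow hqd)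
    rw [this]; exact hp.2.1
  obtain ⟨m, -, hm⟩ := conj_into_compl hG hM hE hA₂M hA₂σ
  refine ⟨A₂.map (MulAut.conj m⁻¹).toMonoidHom, ?_, ⟨⟨⟨?_⟩⟩, ?_⟩, ?_⟩
  · rintro _ ⟨a, ha, rfl⟩
    have := hm a ha
    simpa using this
  · rintro ⟨_, a, ha, rfl⟩ ⟨_, b, hb, rfl⟩
    apply Subtype.ext
    show (MulAut.conj m⁻¹).toMonoidHom a * (MulAut.conj m⁻¹).toMonoidHom b =
      (MulAut.conj m⁻¹).toMonoidHom b * (MulAut.conj m⁻¹).toMonoidHom a
    rw [← map_mul, ← map_mul]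
    congr 1
    exact congrArg Subtype.val (hA₂e.1.is_comm.comm ⟨a, ha⟩ ⟨b, hb⟩)
  · rintro _ ⟨a, ha, rfl⟩
    rw [← map_pow, hA₂e.2 a ha, map_one]
  · rw [Subgroup.card_map_of_injective (MulAut.conj m⁻¹).injective, hA₂c]

end Cfsg.Agent.Lib.Helper28.BGt
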