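import Mathlib
import Cfsg.Agent.Lib.Helper28.BGtY
import Cfsg.Agent.Lib.Helper28.BGuA
import Cfsg.Agent.Lib.Helper28.BGtX
import Cfsg.Agent.Lib.Helper28.BGtC
import Cfsg.Agent.Lib.Helper13.BG14M
import Cfsg.Agent.Lib.Helper11.FrobFourTerm2
import Cfsg.Agent.S1353
import Cfsg.Agent.S1416
import Cfsg.Agent.S1418
import Cfsg.Agent.S1419
import Cfsg.Agent.S1420
import Cfsg.Agent.S1429
import Cfsg.Agent.S1431
import Cfsg.Agent.S1432

set_option autoImplicit false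

/-! # B & G, Corollary 15.9: the situation after Lemma 15.1 (helper28)

`x ∈ M_σ#` with `C_G(x) ≤ N`, `N` of type `𝒫₂` with factorisation `N = K U N_σ` adapted to `M`
(`M ∩ N = U K`), `N*` the partner of `N`, and (Lemma 15.1) `E = M ∩ N*` a complement of `M_σ` in
`M` with `K ≤ F(E)`, `κ(M) = ∅`.  We prove `τ₂(M) = ∅`, that `E` acts semiregularly on `M_σ`, and
that `E` is cyclic. -/

namespace Cfsg.Agent.Lib.Helper28.BGt

open Cfsg Cfsg.Agent.Lib.Helper10.PPair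

variable {G : Type*} [Group G] [Finite G]

/-- the context of Corollary 15.9 after Lemma 15.1 -/
structure Ctx159 (M N Ns K U : Subgroup G) (x : G) : Prop where
  hM : IsCoatom M
  c : Pair N Ns K
  hKU : Cfsg.IsSigmaDecomposition N K U
  hKp : (Nat.card K).Prime
  hMN : M ⊓ N = U ⊔ K
  hx : x ∈ Cfsg.sigmaCore M
  hx1 : x ≠ 1
  hxU : x ∈ U
  hxN : Subgroup.centralizer ({x} : Set G) ≤ N
  hκ : Cfsg.kappa M = ∅
  hE : Cfsg.IsComplIn (M ⊓ Ns) (Cfsg.sigmaCore M) M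
  hKF : K ≤ Cfsg.fittingOf (M ⊓ Ns)

namespace Ctx159

variable {M N Ns K U : Subgroup G} {x : G}

theorem hG (d : Ctx159 M N Ns K U x) : Cfsg.IsMinSimpleOddOrder G := d.c.hG

theorem fittingOf_le' (E : Subgroup G) : Cfsg.fittingOf E ≤ E := by
  unfold Cfsg.fittingOf
  exact Subgroup.map_subtype_le _

theorem hKE (d : Ctx159 M N Ns K U x) : K ≤ M ⊓ Ns := d.hKF.trans (fittingOf_le' _)

theorem hKM (d : Ctx159 M N Ns K U x) : K ≤ M := d.hKE.trans inf_le_left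

theorem hne (d : Ctx159 M N Ns K U x) : M ≠ Ns := by
  intro h
  have h1 : Nat.card ↥(Cfsg.sigmaCore N ⊓ Subgroup.centralizer (K : Set G)) ≠ 1 := by
    intro h2
    exact d.c.hKs1 (Subgroup.card_eq_one.mp h2)
  obtain ⟨q, hq, hqd⟩ := Nat.exists_prime_and_dvd h1
  have := d.c.hKstH.2.1 q hq hqd
  rw [← h, d.hκ] at this
  exact this

theorem prime (d : Ctx159 M N Ns K U x) : (Nat.card K).Prime := d.hKp

/-- `p = |K| ∉ σ(M)` -/
theorem p_not_sigma (d : Ctx159 M N Ns K U x) : Nat.card K ∉ Cfsg.sigma M := by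
  intro hσ
  apply d.c.hK1
  rw [eq_bot_iff]
  intro k hk
  have h1 : k ∈ Cfsg.sigmaCore M := by
    apply pelem_mem_sigmaCore d.hG d.hM hσ (d.hKM hk) (k := 1)
    rw [pow_one]
    exact orderOf_dvd_iff_pow_eq_one.mp (Subgroup.orderOf_dvd_natCard K hk)
  have : k ∈ (M ⊓ Ns) ⊓ Cfsg.sigmaCore M := ⟨d.hKE hk, h1⟩
  rw [d.hE.2.2.1] at this
  exact this

theorem p_dvd (d : Ctx159 M N Ns K U x) : Nat.card K ∣ Nat.card M :=
  Subgroup.card_dvd_of_le d.hKM

/-- `M_σ` is nilpotent -/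
theorem sigmaCore_nilpotent (d : Ctx159 M N Ns K U x) : Group.IsNilpotent (Cfsg.sigmaCore M) := by
  have : Fact (Nat.card K).Prime := ⟨d.hKp⟩
  have hP1 : ¬ (∀ q : ℕ, q.Prime → q ∣ Nat.card M → q ∉ Cfsg.sigma M → q ∈ Cfsg.kappa M) := by
    intro h
    have := h _ d.hKp d.p_dvd d.p_not_sigma
    rw [d.hκ] at this
    exact this
  have hnot : Nat.card K ∉ Cfsg.sigma M ∪ Cfsg.kappa M := by
    rintro (h | h)
    · exact d.p_not_sigma h
    · rw [d.hκ] at h; exact h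
  exact (Cfsg.Agent.S1429.result d.hG M d.hM hP1 (Nat.card K) d.p_dvd hnot default).2.2

/-- `|K| ∉ τ₂(M)` -/
theorem p_not_tau2 (d : Ctx159 M N Ns K U x) : Nat.card K ∉ Cfsg.tau2 M := by
  intro hp2
  obtain ⟨p, hp⟩ : ∃ p, p = Nat.card K := ⟨_, rfl⟩
  rw [← hp] at hp2
  have hpp : p.Prime := hp ▸ d.hKp
  have : Fact p.Prime := ⟨hpp⟩
  obtain ⟨A, hAE, hAe, hA2⟩ := exists_sq_in_compl d.hG d.hM d.hE hp2
  have hAM : A ≤ M := hAE.trans inf_le_left
  have h18 := Cfsg.Agent.S1418.result d.hG M d.hM (M ⊓ Ns) d.hE p hp2 A ⟨hAE, hAe, hA2⟩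
  have hKA : K ≤ A := h18.1.2 K d.hKE hp.symm
  have hAcomm : ∀ a ∈ A, ∀ b ∈ A, a * b = b * a := by
    intro a ha b hb
    exact congrArg Subtype.val (hAe.1.is_comm.comm ⟨a, ha⟩ ⟨b, hb⟩)
  have hAC : A ≤ Subgroup.centralizer (K : Set G) := by
    intro a ha
    rw [Subgroup.mem_centralizer_iff]
    intro k hk
    exact hAcomm k (hKA hk) a ha
  have hANs : A ≤ Ns := hAC.trans (centralizer_le_partner d.c d.hKp)
  have hpσ : p ∈ Cfsg.sigma Ns := by
    apply prime_sigmaCore d.hG d.c.hMs hpp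
    rw [hp]
    exact Subgroup.card_dvd_of_le d.c.hKσ
  have hAσ : A ≤ Cfsg.sigmaCore Ns := by
    intro a ha
    apply pelem_mem_sigmaCore d.hG d.c.hMs hpσ (hANs ha) (k := 1)
    rw [pow_one]; exact hAe.2 a ha
  have hAp : IsPGroup p (A.subgroupOf (Cfsg.sigmaCore Ns)) := by
    rintro ⟨a, ha⟩
    refine ⟨1, Subtype.ext (Subtype.ext ?_)⟩
    have := hAe.2 (a : G) (Subgroup.mem_subgroupOf.mp ha)
    simpa using this
  obtain ⟨Q, hQ⟩ := IsPGroup.exists_le_sylow hAp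
  have hpd : p ∣ Nat.card ↥(Cfsg.sigmaCore Ns ⊓ Subgroup.centralizer
      ((Cfsg.sigmaCore N ⊓ Subgroup.centralizer (K : Set G) : Subgroup G) : Set G)) := by
    rw [← d.c.hKst, hp]
  have h31 := (Cfsg.Agent.S1431.result d.hG Ns d.c.hMs _ d.c.hKstH d.c.symm.hK1).2.2.1 p hpp hpd Q
  obtain ⟨Qg, hQg⟩ : ∃ Qg : Subgroup G,
    Qg = (Q : Subgroup ↥(Cfsg.sigmaCore Ns)).map (Cfsg.sigmaCore Ns).subtype := ⟨_, rfl⟩
  rw [← hQg] at h31
  have hAQ : A ≤ Qg := by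
    intro a ha
    rw [hQg]
    exact ⟨⟨a, hAσ ha⟩, hQ (Subgroup.mem_subgroupOf.mpr ha), rfl⟩
  have hQp : IsPGroup p Qg := by
    rw [hQg]; exact Q.2.map _
  -- the Sylow `p`-subgroups of `G` are non-abelian
  have hS : ∀ S : Sylow p G, ¬ IsMulCommutative (S : Subgroup G) := by
    intro S hSc
    obtain ⟨S', hS'⟩ := IsPGroup.exists_le_sylow hQp
    have hS'c : ∀ a b : ↥(S' : Subgroup G), a * b = b * a := by
      intro a b
      have e := Sylow.equiv S' S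
      apply e.injective
      rw [map_mul, map_mul]
      exact hSc.is_comm.comm _ _
    have hQgM : Qg ≤ M := by
      apply le_trans _ (Cfsg.Agent.S1416.result d.hG M d.hM p A ⟨hAM, hAe, hA2⟩).1
      intro q hq
      rw [Subgroup.mem_centralizer_iff]
      intro a ha
      exact congrArg Subtype.val (hS'c ⟨a, hS' (hAQ ha)⟩ ⟨q, hS' hq⟩)
    exact d.hne (h31.1.unique ⟨d.hM, hQgM⟩ ⟨d.c.hMs, h31.2.1⟩)
  have h19 := Cfsg.Agent.S1419.result d.hG M d.hM (M ⊓ Ns) d.hE p hp2 hS A ⟨hAE, hAe, hA2⟩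
  have hA₀ := h19.2.1.1
  have hA₀1 : A ⊓ Subgroup.centralizer (Cfsg.sigmaCore M : Set G) ≠ ⊥ := by
    intro h
    rw [h, Subgroup.card_bot] at hA₀
    exact hpp.one_lt.ne hA₀
  obtain ⟨a₀, ha₀, ha₀1⟩ := exists_ne_one_of_ne_bot' hA₀1
  have hax : a₀ * x = x * a₀ := ((Subgroup.mem_centralizer_iff.mp ha₀.2) x d.hx).symm
  have ha₀N : a₀ ∈ N := by
    apply d.hxN
    rw [Subgroup.mem_centralizer_iff]
    intro b hb
    rw [Set.mem_singleton_iff] at hb
    rw [hb]; exact hax.symm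
  have ha₀UK : a₀ ∈ U ⊔ K := by
    rw [← d.hMN]; exact ⟨hAM ha₀.1, ha₀N⟩
  obtain ⟨u, hu, k, hk, hauk⟩ :=
    Cfsg.Agent.Lib.Helper11.ExcF.exists_mul_of_mem_sup U K d.hKU.normal a₀ ha₀UK
  by_cases hk1 : k = 1
  · rw [hk1, mul_one] at hauk
    have ho : orderOf a₀ = p := orderOf_eq_prime (hAe.2 a₀ ha₀.1) ha₀1
    have hpU : p ∣ Nat.card U := by
      rw [← ho, hauk]; exact Subgroup.orderOf_dvd_natCard U hu
    apply Cfsg.Agent.Lib.Helper1.BG15.not_kappa_of_dvd_U d.hKU hpU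
    exact d.c.hK.2.1 p hpp (by rw [hp])
  · have hUc := decomp_U_abelian d.hG d.c.hM d.hKU d.c.hK1
    have hux : u * x = x * u := congrArg Subtype.val (hUc.is_comm.comm ⟨u, hu⟩ ⟨x, d.hxU⟩)
    have hkx : k * x = x * k := by
      have h1 : u * k * x = x * (u * k) := by rw [← hauk]; exact hax
      have h2 : u * (k * x) = u * (x * k) := by
        rw [← mul_assoc, h1, ← mul_assoc, ← hux, mul_assoc]
      exact mul_left_cancel h2
    have hxC : x ∈ U ⊓ Subgroup.centralizer ({k} : Set G) := by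
      refine ⟨d.hxU, ?_⟩
      show x ∈ Subgroup.centralizer ({k} : Set G)
      rw [Subgroup.mem_centralizer_iff]
      intro b hb
      rw [Set.mem_singleton_iff] at hb
      rw [hb]; exact hkx
    rw [Cfsg.Agent.S1353.result d.hG N d.c.hM K U d.hKU k hk hk1, Subgroup.mem_bot] at hxC
    exact d.hx1 hxC

/-- `τ₂(M) = ∅` -/
theorem tau2_empty (d : Ctx159 M N Ns K U x) : Cfsg.tau2 M = ∅ := by
  rw [Set.eq_empty_iff_forall_notMem]
  intro t ht
  obtain ⟨p, hp⟩ : ∃ p, p = Nat.card K := ⟨_, rfl⟩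
  have hpp : p.Prime := hp ▸ d.hKp
  have htp : t ≠ p := by
    rintro rfl
    rw [hp] at ht
    exact d.p_not_tau2 ht
  have htt : t.Prime := ht.1
  have : Fact t.Prime := ⟨htt⟩
  have : Fact p.Prime := ⟨hpp⟩
  have hcop : t.Coprime p := (Nat.coprime_primes htt hpp).mpr htp
  obtain ⟨A, hAE, hAe, hA2⟩ := exists_sq_in_compl d.hG d.hM d.hE ht
  have hAM : A ≤ M := hAE.trans inf_le_left
  have hANs : A ≤ Ns := hAE.trans inf_le_right
  have h18 := Cfsg.Agent.S1418.result d.hG M d.hM (M ⊓ Ns) d.hE t ht A ⟨hAE, hAe, hA2⟩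
  have hAcomm : ∀ a ∈ A, ∀ b ∈ A, a * b = b * a := by
    intro a ha b hb
    exact congrArg Subtype.val (hAe.1.is_comm.comm ⟨a, ha⟩ ⟨b, hb⟩)
  have hAnil : Group.IsNilpotent A := by
    let _ : CommGroup A :=
      { (inferInstance : Group A) with mul_comm := fun a b => hAe.1.is_comm.comm a b }
    infer_instance
  have hAF : A ≤ Cfsg.fittingOf (M ⊓ Ns) := le_fittingOf hAE h18.1.1 hAnil
  have hoA : ∀ a ∈ A, orderOf a ∣ t := fun a ha => orderOf_dvd_of_pow_eq_one (hAe.2 a ha)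
  have hoK : ∀ k ∈ K, orderOf k ∣ p := fun k hk => by
    rw [hp]; exact Subgroup.orderOf_dvd_natCard K hk
  have hAC : A ≤ Subgroup.centralizer (K : Set G) := by
    intro a ha
    rw [Subgroup.mem_centralizer_iff]
    intro k hk
    exact (commute_of_mem_fittingOf (M ⊓ Ns) (hAF ha) (d.hKF hk)
      (Nat.Coprime.of_dvd (hoA a ha) (hoK k hk) hcop)).symm
  -- `t ∤ |K*|`
  have htKs : ¬ t ∣ Nat.card ↥(Cfsg.sigmaCore N ⊓ Subgroup.centralizer (K : Set G)) := by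
    intro htd
    have htκ : t ∈ Cfsg.kappa Ns := d.c.hKstH.2.1 t htt htd
    have h1 := Cfsg.Agent.Lib.Helper1.BG10.pRankLE_card_le
      (Cfsg.Agent.Lib.Helper1.BG14.kappa_pRankLE_one htκ) hANs hAe
    rw [hA2, pow_one] at h1
    have : t < t ^ 2 := by
      have := htt.one_lt
      nlinarith
    omega
  have hAD : A ≤ pairD Ns K := by
    apply le_pairD_of_coprime d.c d.hKp hAC
    rw [hA2]
    exact Nat.Coprime.pow_left 2 ((Nat.Prime.coprime_iff_not_dvd htt).mpr htKs)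
  have hDnil := pairD_nilpotent d.c d.hKp
  -- a Sylow `p`-subgroup of `N*_σ` containing `K`
  have hpσ : p ∈ Cfsg.sigma Ns := by
    apply prime_sigmaCore d.hG d.c.hMs hpp
    rw [hp]
    exact Subgroup.card_dvd_of_le d.c.hKσ
  have hKp' : IsPGroup p (K.subgroupOf (Cfsg.sigmaCore Ns)) := by
    have : IsPGroup p K := IsPGroup.of_card (n := 1) (by rw [pow_one, hp])
    exact this.comap_subtype
  obtain ⟨Q, hQ⟩ := IsPGroup.exists_le_sylow hKp'
  have hpd : p ∣ Nat.card ↥(Cfsg.sigmaCore Ns ⊓ Subgroup.centralizer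
      ((Cfsg.sigmaCore N ⊓ Subgroup.centralizer (K : Set G) : Subgroup G) : Set G)) := by
    rw [← d.c.hKst, hp]
  have h31 := (Cfsg.Agent.S1431.result d.hG Ns d.c.hMs _ d.c.hKstH d.c.symm.hK1).2.2.1 p hpp hpd Q
  obtain ⟨Qg, hQg⟩ : ∃ Qg : Subgroup G,
    Qg = (Q : Subgroup ↥(Cfsg.sigmaCore Ns)).map (Cfsg.sigmaCore Ns).subtype := ⟨_, rfl⟩
  rw [← hQg] at h31
  have hKQ : K ≤ Qg := by
    intro a ha
    rw [hQg]
    exact ⟨⟨a, d.c.hKσ ha⟩, hQ (Subgroup.mem_subgroupOf.mpr ha), rfl⟩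
  have hQp : IsPGroup p Qg := by
    rw [hQg]; exact Q.2.map _
  have hQσ : Qg ≤ Cfsg.sigmaCore Ns := by
    rw [hQg]; exact Subgroup.map_subtype_le _
  -- `C := C_Q(K)` lies in `M` and is cyclic
  have hCD : Qg ⊓ Subgroup.centralizer (K : Set G) ≤ pairD Ns K := by
    intro c hc
    exact ⟨hc.2, sigmaCore_le_derived d.hG d.c.hMs (hQσ hc.1)⟩
  have hCp : IsPGroup p ↥(Qg ⊓ Subgroup.centralizer (K : Set G)) :=
    hQp.to_le inf_le_left
  have hCM : Qg ⊓ Subgroup.centralizer (K : Set G) ≤ M := by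
    apply le_trans _ (Cfsg.Agent.S1416.result d.hG M d.hM t A ⟨hAM, hAe, hA2⟩).1
    intro c hc
    rw [Subgroup.mem_centralizer_iff]
    intro a ha
    obtain ⟨k, hk⟩ := (IsPGroup.iff_orderOf.mp hCp) ⟨c, hc⟩
    rw [Subgroup.orderOf_mk] at hk
    apply commute_of_mem_nilpotent hDnil (hAD ha) (hCD hc)
    rw [hk]
    exact Nat.Coprime.pow_right k (Nat.Coprime.of_dvd (hoA a ha) (dvd_refl p) hcop)
  have hCcyc : IsCyclic ↥(Qg ⊓ Subgroup.centralizer (K : Set G)) :=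
    cyclic_of_not_tau2 d.hG d.hM hpp (hp ▸ d.p_not_sigma) (hp ▸ d.p_not_tau2) hCM hCp
  have hKC : K ≤ Qg ⊓ Subgroup.centralizer (K : Set G) := by
    intro k hk
    refine ⟨hKQ hk, ?_⟩
    show k ∈ Subgroup.centralizer (K : Set G)
    rw [Subgroup.mem_centralizer_iff]
    intro b hb
    exact pair_K_comm d.c hb hk
  -- the centre of `Q`
  have hQnt : Nontrivial ↥Qg := by
    obtain ⟨k, hk, hk1⟩ := exists_ne_one_of_ne_bot' d.c.hK1
    exact ⟨⟨⟨k, hKQ hk⟩, 1, fun h => hk1 (congrArg Subtype.val h)⟩⟩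
  have hZp : IsPGroup p ↥(Subgroup.center ↥Qg) := hQp.to_subgroup _
  have hZd : p ∣ Nat.card ↥(Subgroup.center ↥Qg) := by
    rcases hZp.card_eq_or_dvd with h | h
    · exfalso
      have := hQp.bot_lt_center
      rw [Subgroup.card_eq_one] at h
      rw [h] at this
      exact lt_irrefl _ this
    · exact h
  obtain ⟨⟨⟨z, hzQ⟩, hzZ⟩, hz⟩ := exists_prime_orderOf_dvd_card' p hZd
  rw [Subgroup.orderOf_mk, Subgroup.orderOf_mk] at hz
  have hzc : ∀ q ∈ Qg, q * z = z * q := by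
    intro q hq
    have := (Subgroup.mem_center_iff.mp hzZ) ⟨q, hq⟩
    exact congrArg Subtype.val this
  have hzC : Subgroup.zpowers z ≤ Qg ⊓ Subgroup.centralizer (K : Set G) := by
    rw [Subgroup.zpowers_le]
    refine ⟨hzQ, ?_⟩
    show z ∈ Subgroup.centralizer (K : Set G)
    rw [Subgroup.mem_centralizer_iff]
    intro k hk
    exact hzc k (hKQ hk)
  have hzK : Subgroup.zpowers z = K :=
    Cfsg.Agent.Lib.Helper10.SigmaJsubA.eq_of_card_eq_of_le_cyclic hCcyc hzC hKC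
      (by rw [Nat.card_zpowers, hz, hp])
  have hQC : Qg ≤ Subgroup.centralizer (K : Set G) := by
    intro q hq
    rw [Subgroup.mem_centralizer_iff]
    intro k hk
    rw [← hzK] at hk
    obtain ⟨i, rfl⟩ := Subgroup.mem_zpowers_iff.mp hk
    have hc : Commute q z := hzc q hq
    exact (hc.zpow_right i).eq.symm
  have hQgM : Qg ≤ M := fun q hq => hCM ⟨hq, hQC hq⟩
  exact d.hne (h31.1.unique ⟨d.hM, hQgM⟩ ⟨d.c.hMs, h31.2.1⟩)

end Ctx159

end Cfsg.Agent.Lib.Helper28.BGt
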