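import Mathlib
import Cfsg.Agent.Lib.Helper28.BGuB
import Cfsg.Agent.Lib.Helper1.CoprimeAbelian
import Cfsg.Agent.Lib.Helper9.FittingExtra

set_option autoImplicit false

/-! # B & G, Corollary 15.9: `E = M ∩ N*` is semiregular on `M_σ` and cyclic (helper28) -/

namespace Cfsg.Agent.Lib.Helper28.BGt

open Cfsg Cfsg.Agent.Lib.Helper10.PPair
open scoped commutatorElement

variable {G : Type*} [Group G] [Finite G]

omit [Finite G] in
theorem nilp_of_le {X Y : Subgroup G} (h : X ≤ Y) (hY : Group.IsNilpotent Y) :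
    Group.IsNilpotent X := by
  have h1 : Group.IsNilpotent (X.subgroupOf Y) := inferInstance
  exact (Group.isNilpotent_congr (Subgroup.subgroupOfEquivOfLe h)).mp h1

namespace Ctx159

variable {M N Ns K U : Subgroup G} {x : G}

/-- `E` acts semiregularly on `M_σ` -/
theorem semiregular (d : Ctx159 M N Ns K U x) {e y : G} (he : e ∈ M ⊓ Ns) (he1 : e ≠ 1)
    (hy : y ∈ Cfsg.sigmaCore M) (hy1 : y ≠ 1) (hc : e * y = y * e) : False := by
  have hσ : ∀ p : ℕ, p.Prime → p ∣ orderOf e → p ∉ Cfsg.sigma M := by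
    intro q hq hqe
    exact compl_prime_not_sigma d.hG d.hM d.hE hq
      (hqe.trans (Subgroup.orderOf_dvd_natCard _ he))
  have he' : e ∈ M ⊓ Subgroup.centralizer ({y} : Set G) := by
    refine ⟨he.1, ?_⟩
    show e ∈ Subgroup.centralizer ({y} : Set G)
    rw [Subgroup.mem_centralizer_iff]
    intro b hb
    rw [Set.mem_singleton_iff] at hb
    rw [hb]; exact hc.symm
  obtain ⟨q, hq, hqe⟩ := Nat.exists_prime_and_dvd (fun h => he1 (orderOf_eq_one_iff.mp h))
  rcases Cfsg.Agent.S1432.result d.hG M d.hM y hy hy1 e he' he1 hσ with h | h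
  · have := h.1 q hq hqe
    rw [d.hκ] at this
    exact this
  · have := h.1 q hq hqe
    rw [d.tau2_empty] at this
    exact this

/-- `|E|` and `|M_σ|` are coprime -/
theorem cop_E (d : Ctx159 M N Ns K U x) :
    (Nat.card ↥(M ⊓ Ns)).Coprime (Nat.card ↥(Cfsg.sigmaCore M)) := by
  apply Nat.coprime_of_dvd
  intro q hq hqE hqs
  exact compl_prime_not_sigma d.hG d.hM d.hE hq hqE (prime_sigmaCore d.hG d.hM hq hqs)

/-- every `q`-subgroup of `E` is cyclic -/
theorem cyclic_of_pgroup (d : Ctx159 M N Ns K U x) {q : ℕ} (hq : q.Prime) {P : Subgroup G}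
    (hPE : P ≤ M ⊓ Ns) (hP : IsPGroup q P) : IsCyclic P := by
  have : Fact q.Prime := ⟨hq⟩
  by_cases hqE : q ∣ Nat.card ↥(M ⊓ Ns)
  · have hσ := compl_prime_not_sigma d.hG d.hM d.hE hq hqE
    have h2 : q ∉ Cfsg.tau2 M := by rw [d.tau2_empty]; exact fun h => h
    exact cyclic_of_not_tau2 d.hG d.hM hq hσ h2 (hPE.trans inf_le_left) hP
  · rcases hP.card_eq_or_dvd with h | h
    · rw [Subgroup.card_eq_one] at h
      rw [h]; infer_instance
    · exact absurd (h.trans (Subgroup.card_dvd_of_le hPE)) hqE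

/-- `E` is a `Z`-group -/
theorem zgroup (d : Ctx159 M N Ns K U x) : IsZGroup ↥(M ⊓ Ns) := by
  refine ⟨fun q hq S => ?_⟩
  have : Fact q.Prime := ⟨hq⟩
  have h1 : IsCyclic ↥((S : Subgroup ↥(M ⊓ Ns)).map (M ⊓ Ns).subtype) :=
    d.cyclic_of_pgroup hq (Subgroup.map_subtype_le _) (S.2.map _)
  exact (MulEquiv.isCyclic ((S : Subgroup ↥(M ⊓ Ns)).equivMapOfInjective (M ⊓ Ns).subtype
    (M ⊓ Ns).subtype_injective)).mpr h1

/-- `F(E)` is cyclic -/
theorem fitting_cyclic (d : Ctx159 M N Ns K U x) : IsCyclic ↥(Cfsg.fittingOf (M ⊓ Ns)) := by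
  have hz := d.zgroup
  have hnil := Cfsg.Agent.Lib.Helper11.MaxLocB.fittingOf_nilpotent (M ⊓ Ns)
  have hz' : IsZGroup ↥(Cfsg.fittingOf (M ⊓ Ns)) :=
    IsZGroup.of_injective (f := Subgroup.inclusion (fittingOf_le' (M ⊓ Ns)))
      (Subgroup.inclusion_injective _)
  infer_instance

/-- `K ⊴ E` -/
theorem le_normalizer_K (d : Ctx159 M N Ns K U x) :
    M ⊓ Ns ≤ Subgroup.normalizer (K : Set G) := by
  intro u hu
  have hF := d.fitting_cyclic
  have huF := Cfsg.Agent.Lib.Helper11.MaxLocB.le_normalizer_fittingOf (M ⊓ Ns) hu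
  have h1 : K.map (MulAut.conj u).toMonoidHom ≤ Cfsg.fittingOf (M ⊓ Ns) := by
    rintro _ ⟨k, hk, rfl⟩
    exact (Subgroup.mem_normalizer_iff.mp huF k).mp (d.hKF hk)
  have h2 : Nat.card ↥(K.map (MulAut.conj u).toMonoidHom) = Nat.card K :=
    (Nat.card_congr (K.equivMapOfInjective _ (MulAut.conj u).injective).toEquiv).symm
  have h3 := Cfsg.Agent.Lib.Helper10.SigmaJsubA.eq_of_card_eq_of_le_cyclic hF h1 d.hKF h2
  apply Cfsg.Agent.Lib.Helper11.RegB.mem_normalizer_of_conj_mem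
  intro e he
  rw [← h3]
  exact ⟨e, he, rfl⟩

/-- `E ≤ C_G(K)` -/
theorem le_centralizer_K (d : Ctx159 M N Ns K U x) :
    M ⊓ Ns ≤ Subgroup.centralizer (K : Set G) :=
  d.le_normalizer_K.trans (normalizer_le_centralizer d.c d.hKp)

/-- `M_σ ∩ C_G(A) = 1` for a non-trivial subgroup `A` of `E` -/
theorem centralizer_eq_bot (d : Ctx159 M N Ns K U x) {A : Subgroup G} (hAE : A ≤ M ⊓ Ns)
    (hA1 : A ≠ ⊥) : Cfsg.sigmaCore M ⊓ Subgroup.centralizer (A : Set G) = ⊥ := by
  obtain ⟨a, ha, ha1⟩ := exists_ne_one_of_ne_bot' hA1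
  rw [eq_bot_iff]
  intro y hy
  rw [Subgroup.mem_bot]
  by_contra hy1
  exact d.semiregular (hAE ha) ha1 hy.1 hy1 ((Subgroup.mem_centralizer_iff.mp hy.2) a ha)

/-- there is no Frobenius-like subgroup `L ⋊ A` in `E` -/
theorem no_frob (d : Ctx159 M N Ns K U x) {L A : Subgroup G} (hLE : L ≤ M ⊓ Ns)
    (hAE : A ≤ M ⊓ Ns) (hAL : A ≤ Subgroup.normalizer (L : Set G))
    (hLnil : Group.IsNilpotent L)
    (hfpf : ∀ e ∈ A, e ≠ 1 → L ⊓ Subgroup.centralizer ({e} : Set G) = ⊥)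
    (hA1 : A ≠ ⊥) : L = ⊥ := by
  by_contra hL1
  have hMn := le_normalizer_sigmaCore M
  have hsolv : Group.IsSolvable ↥(Cfsg.sigmaCore M) := by
    have := Cfsg.Agent.Lib.Helper11.MaxSubB.coatom_solvable d.hG M d.hM
    exact Group.isSolvable_of_isSolvable_injective
      (f := Subgroup.inclusion (sigmaCore_le M)) (Subgroup.inclusion_injective _)
  have hcop := d.cop_E
  have key := Cfsg.Agent.Lib.Helper11.FrobFourTerm2.four_term_conc (Cfsg.sigmaCore M) L A
    ((hLE.trans inf_le_left).trans hMn) ((hAE.trans inf_le_left).trans hMn) hAL hLnil hfpf hsolv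
    (Nat.Coprime.of_dvd_right (Subgroup.card_dvd_of_le hLE) hcop.symm)
    (Nat.Coprime.of_dvd_right (Subgroup.card_dvd_of_le hAE) hcop.symm)
  have hLA1 : L ⊔ A ≠ ⊥ := fun h => hA1 (eq_bot_iff.mpr (h ▸ le_sup_right))
  rw [d.centralizer_eq_bot hAE hA1, d.centralizer_eq_bot hLE hL1,
    d.centralizer_eq_bot (sup_le hLE hAE) hLA1, Subgroup.card_bot, one_pow, one_mul,
    mul_one] at key
  have : Cfsg.sigmaCore M = ⊥ := Subgroup.card_eq_one.mp key
  have hx := d.hx
  rw [this, Subgroup.mem_bot] at hx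
  exact d.hx1 hx

/-- if `E ≰ D` then `E ∩ D = K` -/
theorem inf_pairD_eq (d : Ctx159 M N Ns K U x) (hED : ¬ M ⊓ Ns ≤ pairD Ns K) :
    (M ⊓ Ns) ⊓ pairD Ns K = K := by
  obtain ⟨Ks, hKs⟩ : ∃ Ks : Subgroup G,
    Ks = Cfsg.sigmaCore N ⊓ Subgroup.centralizer (K : Set G) := ⟨_, rfl⟩
  obtain ⟨hcopD, -, hfix⟩ := pairD_facts d.c
  rw [← hKs] at hcopD hfix
  have hEC := d.le_centralizer_K
  -- a prime `ℓ` dividing `|E|` and `|K*|`
  have hnc : ¬ (Nat.card ↥(M ⊓ Ns)).Coprime (Nat.card Ks) := by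
    intro h
    apply hED
    apply le_pairD_of_coprime d.c d.hKp hEC
    rw [← hKs]; exact h
  obtain ⟨l, hl, hlE, hlK⟩ := Nat.Prime.not_coprime_iff_dvd.mp hnc
  have : Fact l.Prime := ⟨hl⟩
  obtain ⟨⟨e, heE⟩, he⟩ := exists_prime_orderOf_dvd_card' l hlE
  rw [Subgroup.orderOf_mk] at he
  have he1 : e ≠ 1 := by
    rintro rfl
    rw [orderOf_one] at he
    exact hl.one_lt.ne he
  have hlD : l.Coprime (Nat.card ↥(pairD Ns K)) :=
    (Nat.Coprime.of_dvd_right hlK hcopD).symm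
  -- conjugate `e` into `K*`
  have hCs : Group.IsSolvable ↥(Subgroup.centralizer (K : Set G)) := by
    have := Cfsg.Agent.Lib.Helper11.MaxSubB.coatom_solvable d.hG Ns d.c.hMs
    exact Group.isSolvable_of_isSolvable_injective
      (f := Subgroup.inclusion (centralizer_le_partner d.c d.hKp))
      (Subgroup.inclusion_injective _)
  have hcard : Nat.card ↥(Subgroup.centralizer (K : Set G)) =
      Nat.card Ks * Nat.card ↥(pairD Ns K) := by
    rw [Cfsg.Agent.Lib.Helper1.BG15.card_of_isComplIn (pairD_compl d.c d.hKp), ← hKs, mul_comm]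
  have hYC : Subgroup.zpowers e ≤ Subgroup.centralizer (K : Set G) := by
    rw [Subgroup.zpowers_le]; exact hEC heE
  obtain ⟨w, hw, hwe⟩ := Cfsg.Agent.Lib.Helper1.BG14.hall_conj_into hCs
    (hKs ▸ inf_le_right : Ks ≤ Subgroup.centralizer (K : Set G)) hYC hcard hcopD.symm
    (by rw [Nat.card_zpowers, he]; exact hlD)
  have hk := hwe e (Subgroup.mem_zpowers e)
  have hk1 : w⁻¹ * e * w ≠ 1 := by
    intro h
    apply he1
    have : e = w * (w⁻¹ * e * w) * w⁻¹ := by group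
    rw [this, h]; group
  have hfix' := hfix _ hk hk1
  have hwD := centralizer_le_normalizer_pairD d.c d.hKp hw
  -- `C_D(e) = K`
  have hCDe : pairD Ns K ⊓ Subgroup.centralizer ({e} : Set G) ≤ K := by
    intro v hv
    have hv1 : w⁻¹ * v * w ∈ pairD Ns K := (Subgroup.mem_normalizer_iff''.mp hwD v).mp hv.1
    have hv2 : w⁻¹ * v * w ∈ Subgroup.centralizer ({w⁻¹ * e * w} : Set G) := by
      rw [Subgroup.mem_centralizer_iff]
      intro b hb
      rw [Set.mem_singleton_iff] at hb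
      have hve : e * v = v * e :=
        (Subgroup.mem_centralizer_iff.mp hv.2) e (Set.mem_singleton e)
      rw [hb]
      calc w⁻¹ * e * w * (w⁻¹ * v * w) = w⁻¹ * (e * v) * w := by group
        _ = w⁻¹ * (v * e) * w := by rw [hve]
        _ = w⁻¹ * v * w * (w⁻¹ * e * w) := by group
    have hv3 : w⁻¹ * v * w ∈ K := by
      rw [← hfix']; exact ⟨hv1, hv2⟩
    have hwc := (Subgroup.mem_centralizer_iff.mp hw) _ hv3
    have : v = w * (w⁻¹ * v * w) * w⁻¹ := by group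
    rw [this, ← hwc]
    simpa using hv3
  -- `V = E ∩ D` is abelian
  obtain ⟨V, hV⟩ : ∃ V : Subgroup G, V = (M ⊓ Ns) ⊓ pairD Ns K := ⟨_, rfl⟩
  rw [← hV]
  have hVE : V ≤ M ⊓ Ns := hV ▸ inf_le_left
  have hVD : V ≤ pairD Ns K := hV ▸ inf_le_right
  have hKV : K ≤ V := by
    rw [hV]; exact le_inf d.hKE (pair_K_le_pairD d.c)
  have hVnil : Group.IsNilpotent V := nilp_of_le hVD (pairD_nilpotent d.c d.hKp)
  have hVz : IsZGroup V := by
    have := d.zgroup
    exact IsZGroup.of_injective (f := Subgroup.inclusion hVE) (Subgroup.inclusion_injective _)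
  have hVc : IsCyclic V := inferInstance
  have hVm : IsMulCommutative V := inferInstance
  obtain ⟨A, hA⟩ : ∃ A : Subgroup G, A = Subgroup.zpowers e := ⟨_, rfl⟩
  have hAE : A ≤ M ⊓ Ns := by rw [hA, Subgroup.zpowers_le]; exact heE
  have hAcard : Nat.card A = l := by rw [hA, Nat.card_zpowers, he]
  have hAV : A ≤ Subgroup.normalizer (V : Set G) := by
    intro a ha
    apply Cfsg.Agent.Lib.Helper11.RegB.mem_normalizer_of_conj_mem
    intro v hv
    rw [hV] at hv ⊢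
    refine ⟨(M ⊓ Ns).mul_mem ((M ⊓ Ns).mul_mem (hAE ha) hv.1) ((M ⊓ Ns).inv_mem (hAE ha)), ?_⟩
    have haD := centralizer_le_normalizer_pairD d.c d.hKp (hEC (hAE ha))
    exact (Subgroup.mem_normalizer_iff.mp haD v).mp hv.2
  have hcopAV : (Nat.card A).Coprime (Nat.card V) := by
    rw [hAcard]
    exact Nat.Coprime.of_dvd_right (Subgroup.card_dvd_of_le hVD) hlD
  obtain ⟨hdec1, hdec2⟩ :=
    Cfsg.Agent.Lib.Helper1.coprime_abelian_decomposition A V hAV hcopAV
  have hLV : ⁅V, A⁆ ≤ V := Cfsg.Agent.Lib.Lead.commutator_le_left_of_le_normalizer V A hAV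
  have hAL : A ≤ Subgroup.normalizer ((⁅V, A⁆ : Subgroup G) : Set G) :=
    Cfsg.Agent.Lib.Lead.le_normalizer_commutator A V A hAV Subgroup.le_normalizer
  have hLnil : Group.IsNilpotent ↥(⁅V, A⁆ : Subgroup G) := nilp_of_le hLV hVnil
  have hA1 : A ≠ ⊥ := by
    intro h
    rw [h, Subgroup.card_bot] at hAcard
    exact hl.one_lt.ne hAcard
  have hfpf : ∀ a ∈ A, a ≠ 1 →
      (⁅V, A⁆ : Subgroup G) ⊓ Subgroup.centralizer ({a} : Set G) = ⊥ := by
    intro a ha ha1
    have hza : Subgroup.zpowers a = A := by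
      apply Subgroup.eq_of_le_of_card_ge (by rw [Subgroup.zpowers_le]; exact ha)
      rw [hAcard, Nat.card_zpowers]
      have h1 : orderOf a ∣ l := hAcard ▸ Subgroup.orderOf_dvd_natCard A ha
      rcases (Nat.dvd_prime hl).mp h1 with h | h
      · exact absurd (orderOf_eq_one_iff.mp h) ha1
      · exact h.ge
    rw [eq_bot_iff]
    intro v hv
    rw [← hdec1]
    refine ⟨⟨hLV hv.1, ?_⟩, hv.1⟩
    show v ∈ Subgroup.centralizer (A : Set G)
    rw [Subgroup.mem_centralizer_iff]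
    intro b hb
    rw [← hza] at hb
    obtain ⟨i, rfl⟩ := Subgroup.mem_zpowers_iff.mp hb
    have hc : Commute v a :=
      ((Subgroup.mem_centralizer_iff.mp hv.2) a (Set.mem_singleton a)).symm
    exact (hc.zpow_right i).eq.symm
  have hL := d.no_frob (hLV.trans hVE) hAE hAL hLnil hfpf hA1
  rw [hL, sup_bot_eq] at hdec2
  apply le_antisymm _ hKV
  intro v hv
  apply hCDe
  refine ⟨hVD hv, ?_⟩
  have hv' : v ∈ V ⊓ Subgroup.centralizer (A : Set G) := by rw [hdec2]; exact hv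
  show v ∈ Subgroup.centralizer ({e} : Set G)
  rw [Subgroup.mem_centralizer_iff]
  intro b hb
  rw [Set.mem_singleton_iff] at hb
  rw [hb]
  exact (Subgroup.mem_centralizer_iff.mp hv'.2) e (hA ▸ Subgroup.mem_zpowers e)

/-- `E` is nilpotent -/
theorem nilpotent_E (d : Ctx159 M N Ns K U x) : Group.IsNilpotent ↥(M ⊓ Ns) := by
  by_cases hED : M ⊓ Ns ≤ pairD Ns K
  · exact nilp_of_le hED (pairD_nilpotent d.c d.hKp)
  · have hV := d.inf_pairD_eq hED
    have hEC := d.le_centralizer_K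
    apply Cfsg.Agent.Lib.Helper9.isNilpotent_of_commutator_le_center
    rw [commutator_def, Subgroup.commutator_le]
    intro a _ b _
    have hab : ((⁅a, b⁆ : ↥(M ⊓ Ns)) : G) ∈ K := by
      rw [← hV]
      refine ⟨(⁅a, b⁆ : ↥(M ⊓ Ns)).2, ?_, ?_⟩
      · exact hEC (⁅a, b⁆ : ↥(M ⊓ Ns)).2
      · have : ((⁅a, b⁆ : ↥(M ⊓ Ns)) : G) = ⁅(a : G), (b : G)⁆ := by
          simp [commutatorElement_def]
        rw [this]
        exact Subgroup.commutator_mem_commutator a.2.2 b.2.2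
    rw [Subgroup.mem_center_iff]
    intro g
    apply Subtype.ext
    have := (Subgroup.mem_centralizer_iff.mp (hEC g.2)) _ hab
    simpa using this.symm

/-- `E` is cyclic -/
theorem cyclic_E (d : Ctx159 M N Ns K U x) : IsCyclic ↥(M ⊓ Ns) := by
  have := d.zgroup
  have := d.nilpotent_E
  infer_instance

end Ctx159

end Cfsg.Agent.Lib.Helper28.BGt
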