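import Mathlib
import Cfsg.Agent.Lib.Helper28.BGuC
import Cfsg.Agent.Lib.Helper1.BG14.KappaDecomp
import Cfsg.Agent.Lib.Helper1.BG14.KappaCyc
import Cfsg.Agent.S1351
import Cfsg.Agent.S1366
import Cfsg.Agent.S1375
import Cfsg.Agent.Lib.Helper13.BG14N
import Cfsg.Agent.Lib.Helper13.BG14H
import Cfsg.Agent.Lib.Helper18.BGTwelveA
import Cfsg.Agent.Lib.Helper11.FitTIb

set_option autoImplicit false

/-! # B & G, Corollary 15.9: assembly (helper28) -/

namespace Cfsg.Agent.Lib.Helper28.BGt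

open Cfsg Cfsg.Agent.Lib.Helper10.PPair
open Cfsg.Agent.Lib.Helper1.BG14 Cfsg.Agent.Lib.Helper1.BG12b

variable {G : Type*} [Group G] [Finite G]

/-- a standard factorisation of `N` adapted to a given complement `E` of `N_σ` -/
theorem exists_decomp_in (hG : Cfsg.IsMinSimpleOddOrder G) {N E : Subgroup G} (hN : IsCoatom N)
    (hE : Cfsg.IsComplIn E (Cfsg.sigmaCore N) N) :
    ∃ K U : Subgroup G, Cfsg.IsSigmaDecomposition N K U ∧ U ⊔ K = E := by
  have hNs : Group.IsSolvable ↥N := Cfsg.Agent.Lib.Helper11.MaxSubB.coatom_solvable hG N hN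
  have hEs : Group.IsSolvable ↥E :=
    Group.isSolvable_of_isSolvable_injective (f := Subgroup.inclusion hE.1)
      (Subgroup.inclusion_injective _)
  obtain ⟨K, hK'⟩ := exists_piHallOf (Cfsg.kappa N) E
  have hKE : K ≤ E := hK'.1
  have hK : Cfsg.IsPiHallOf (Cfsg.kappa N) K N := by
    refine ⟨hKE.trans hE.1, hK'.2.1, ?_⟩
    intro p hp hpκ hpd
    rw [← Subgroup.relIndex_mul_relIndex K E N hKE hE.1] at hpd
    rcases (Nat.Prime.dvd_mul hp).mp hpd with h | h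
    · exact hK'.2.2 p hp hpκ h
    · have h1 := Cfsg.Agent.Lib.Helper1.BG12.card_mul_relIndex_of_le hE.1
      rw [card_compl hE, mul_comm (Nat.card ↥(Cfsg.sigmaCore N))] at h1
      have hpos : 0 < Nat.card E := Nat.card_pos
      have h2 : E.relIndex N = Nat.card (Cfsg.sigmaCore N) :=
        Nat.eq_of_mul_eq_mul_left hpos h1
      rw [h2] at h
      exact hpκ.2.2.1 (prime_sigmaCore hG hN hp h)
  have hKc : IsCyclic K := (Cfsg.Agent.S1351.result hG N hN).2 K hK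
  have Hκ := kappa_sub_tau1_of_cyclic hG hN hK hKc
  obtain ⟨W, hW⟩ := exists_kHall hG hN Hκ
  have hKs : K ⊓ Cfsg.sigmaCore N = ⊥ :=
    Cfsg.Agent.Lib.Helper1.BG15.kappa_inf_sigmaCore hG hN hK.2.1
  have hKN : K ≤ Subgroup.normalizer (Cfsg.sigmaCore N : Set G) :=
    hK.1.trans (le_normalizer_sigmaCore N)
  have hfac : ∀ e ∈ E, ∃ w ∈ E ⊓ W, ∃ k ∈ K, e = w * k := by
    intro e he
    have heM : e ∈ W ⊔ K := by
      rw [hW.sup_eq hK]
      exact hE.1 he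
    obtain ⟨w, hw, k, hk, rfl⟩ :=
      Cfsg.Agent.Lib.Helper10.exists_mul_of_mem_sup W K (hK.1.trans hW.normal) e heM
    refine ⟨w, ⟨?_, hw⟩, k, hk, rfl⟩
    have : w = (w * k) * k⁻¹ := by group
    rw [this]
    exact E.mul_mem he (E.inv_mem (hKE hk))
  refine ⟨K, E ⊓ W, ⟨hKc, hK, ⟨inf_le_left.trans hE.1, sup_le hK.1 (sigmaCore_le N), ?_, ?_⟩, ?_⟩,
    ?_⟩
  · apply Cfsg.Agent.Lib.Helper1.BG15.eq_bot_of_forall_prime_not_dvd
    intro q hq hqd
    have h1 : q ∣ Nat.card E :=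
      hqd.trans (Subgroup.card_dvd_of_le (inf_le_left.trans inf_le_left))
    have h2 : q ∣ Nat.card W :=
      hqd.trans (Subgroup.card_dvd_of_le (inf_le_left.trans inf_le_right))
    have h3 : q ∣ Nat.card K * Nat.card (Cfsg.sigmaCore N) :=
      (hqd.trans (Subgroup.card_dvd_of_le inf_le_right)).trans
        (card_sup_dvd hKN)
    rcases (Nat.Prime.dvd_mul hq).mp h3 with h | h
    · exact hW.prime_card q hq h2 (hK.2.1 q hq h)
    · exact compl_prime_not_sigma hG hN hE hq h1 (prime_sigmaCore hG hN hq h)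
  · intro m hm
    obtain ⟨e, he, s, hs, rfl⟩ := hE.2.2.2 m hm
    obtain ⟨w, hw, k, hk, rfl⟩ := hfac e he
    refine ⟨w, hw, k * s, ?_, by group⟩
    exact Subgroup.mul_mem _ (Subgroup.mem_sup_left hk) (Subgroup.mem_sup_right hs)
  · intro k hk
    have h1 : k ∈ Subgroup.normalizer (E : Set G) := Subgroup.le_normalizer (hKE hk)
    have h2 : k ∈ Subgroup.normalizer (W : Set G) := hW.normal (hK.1 hk)
    rw [Subgroup.mem_normalizer_iff] at h1 h2 ⊢
    intro x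
    rw [Subgroup.mem_inf, Subgroup.mem_inf, ← h1 x, ← h2 x]
  · apply le_antisymm (sup_le inf_le_left hKE)
    intro e he
    obtain ⟨w, hw, k, hk, rfl⟩ := hfac e he
    exact Subgroup.mul_mem _ (Subgroup.mem_sup_left hw) (Subgroup.mem_sup_right hk)

/-- the conclusion of B & G Lemma 15.1 (statement S1435), as a hypothesis -/
def L151 (G : Type*) [Group G] [Finite G] : Prop :=
  ∀ (M : Subgroup G), IsCoatom M → ∀ (K U : Subgroup G), Cfsg.IsSigmaDecomposition M K U →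
    K ≠ ⊥ → U ≠ ⊥ → ∀ (Mstar : Subgroup G), IsCoatom Mstar →
    K = Cfsg.sigmaCore Mstar ⊓ Subgroup.centralizer
      ((Cfsg.sigmaCore M ⊓ Subgroup.centralizer (K : Set G) : Subgroup G) : Set G) →
    Cfsg.IsPiHallOf (Cfsg.kappa Mstar)
      (Cfsg.sigmaCore M ⊓ Subgroup.centralizer (K : Set G)) Mstar →
    ∀ (r : ℕ) [Fact r.Prime], r ∣ Nat.card U → ∀ (R : Sylow r U) (H : Subgroup G), IsCoatom H →
    Subgroup.normalizer (((R : Subgroup U).map U.subtype : Subgroup G) : Set G) ≤ H →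
    Cfsg.kappa H = ∅ ∧ U ≤ Cfsg.sigmaCore H ∧ M ⊓ H = U ⊔ K ∧
      ¬ H ⊓ Subgroup.normalizer (U : Set G) ≤ M ∧
      K ≤ Cfsg.fittingOf (H ⊓ Mstar) ∧ Cfsg.IsComplIn (H ⊓ Mstar) (Cfsg.sigmaCore H) H

/-- the context of Corollary 15.9 from Theorem 14.4 and Lemma 15.1 -/
theorem ctx_of (hG : Cfsg.IsMinSimpleOddOrder G) (h151 : L151 G)
    (M : Subgroup G) (hM : IsCoatom M) (x : G) (hx : x ∈ Cfsg.sigmaCore M) (hx1 : x ≠ 1)
    (hxM : ¬ Subgroup.centralizer ({x} : Set G) ≤ M)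
    (N : Subgroup G) (hN : IsCoatom N) (hxN : Subgroup.centralizer ({x} : Set G) ≤ N)
    (hkN : (Cfsg.kappa N).Nonempty) :
    ∃ Ns K U : Subgroup G, Ctx159 M N Ns K U x := by
  have hsimple : IsSimpleGroup G := hG.2.1
  obtain ⟨N', ⟨hN', hxN'⟩, huniq, -, -, -, hEN', hdec'⟩ :=
    Cfsg.Agent.S1375.result hG M hM x hx hx1 hxM
  have hNN : N = N' := huniq N hN hxN
  subst hNN
  have hxM' : x ∈ M := sigmaCore_le M hx
  have hxN' : x ∈ N := hxN (Subgroup.mem_centralizer_singleton_iff.mpr rfl)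
  obtain ⟨K, U, hKU, hUK⟩ := exists_decomp_in hG hN hEN'
  obtain ⟨hU1, hxA, hxσ⟩ := hdec' K U hKU
  have hK := hKU.hall
  -- `K ≠ 1`
  have hK1 : K ≠ ⊥ := by
    obtain ⟨q, hq⟩ := hkN
    intro h
    apply hK.2.2 q hq.1 hq
    have h1 := Cfsg.Agent.Lib.Helper1.BG12.card_mul_relIndex_of_le hK.1
    rw [h, Subgroup.card_bot, one_mul] at h1
    rw [h, h1]
    exact hq.2.1
  have hKp := card_prime_of_U_ne_bot hG hN hKU hK1 hU1
  obtain ⟨Ns, ⟨hNs, hKst, hKstH⟩, -⟩ := Cfsg.Agent.S1366.result hG N hN K U hKU hK1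
  have c : Pair N Ns K := ⟨hG, hN, hNs, hK, hK1, hKst, hKstH⟩
  -- `x ∈ U`
  have hKσ : K ⊓ (U ⊔ Cfsg.sigmaCore N) = ⊥ := by
    apply Cfsg.Agent.Lib.Helper1.BG15.eq_bot_of_forall_prime_not_dvd
    intro q hq hqd
    have h1 : q ∣ Nat.card K := hqd.trans (Subgroup.card_dvd_of_le inf_le_left)
    have hqκ := hK.2.1 q hq h1
    have h2 : q ∣ Nat.card U * Nat.card (Cfsg.sigmaCore N) :=
      (hqd.trans (Subgroup.card_dvd_of_le inf_le_right)).trans
        (card_sup_dvd (hKU.compl.1.trans (le_normalizer_sigmaCore N)))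
    rcases (Nat.Prime.dvd_mul hq).mp h2 with h | h
    · exact Cfsg.Agent.Lib.Helper1.BG15.not_kappa_of_dvd_U hKU h hqκ
    · exact hqκ.2.2.1 (prime_sigmaCore hG hN hq h)
  have hxU : x ∈ U := by
    have h1 : x ∈ U ⊔ K := by rw [hUK]; exact ⟨hxM', hxN'⟩
    obtain ⟨u, hu, k, hk, hxuk⟩ :=
      Cfsg.Agent.Lib.Helper10.exists_mul_of_mem_sup U K hKU.normal x h1
    have hk' : k ∈ K ⊓ (U ⊔ Cfsg.sigmaCore N) := by
      refine ⟨hk, ?_⟩
      have : k = u⁻¹ * x := by rw [hxuk]; group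
      rw [this]
      exact Subgroup.mul_mem _ (Subgroup.mem_sup_left (U.inv_mem hu)) hxA.2
    rw [hKσ, Subgroup.mem_bot] at hk'
    rw [hxuk, hk', mul_one]
    exact hu
  -- a prime `r` dividing `|x|`
  have hxo : orderOf x ≠ 1 := fun h => hx1 (orderOf_eq_one_iff.mp h)
  obtain ⟨r, hr, hrx⟩ := Nat.exists_prime_and_dvd hxo
  haveI : Fact r.Prime := ⟨hr⟩
  have hrσ : r ∈ Cfsg.sigma M :=
    Cfsg.Agent.Lib.Helper13.BG14.bg14_prime_orderOf_sigma hG hM hx hr hrx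
  have hyo : orderOf (x ^ (orderOf x / r)) = r :=
    orderOf_pow_orderOf_div (orderOf_pos x).ne' hrx
  obtain ⟨y, hy⟩ : ∃ y, y = x ^ (orderOf x / r) := ⟨_, rfl⟩
  rw [← hy] at hyo
  have hyσ : y ∈ Cfsg.sigmaCore M := by rw [hy]; exact Subgroup.pow_mem _ hx _
  have hXc : Nat.card (Subgroup.zpowers y) = r := by rw [Nat.card_zpowers, hyo]
  have hXp : IsPGroup r (Subgroup.zpowers y) := IsPGroup.of_card (n := 1) (by rw [hXc, pow_one])
  have hX1 : Subgroup.zpowers y ≠ ⊥ := by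
    intro h
    rw [h, Subgroup.card_bot] at hXc
    exact hr.one_lt.ne hXc
  have hXM : Subgroup.zpowers y ≤ M :=
    (Subgroup.zpowers_le.mpr hyσ).trans (sigmaCore_le M)
  have hCX : Subgroup.centralizer ({x} : Set G) ≤
      Subgroup.centralizer ((Subgroup.zpowers y : Subgroup G) : Set G) := by
    intro c hc
    rw [Subgroup.mem_centralizer_iff]
    intro w hw
    obtain ⟨i, rfl⟩ := Subgroup.mem_zpowers_iff.mp hw
    have hcx : Commute c x := (Subgroup.mem_centralizer_singleton_iff.mp hc)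
    rw [hy]
    exact (((hcx.pow_right _).zpow_right i).eq).symm
  have hNtop : Subgroup.normalizer ((Subgroup.zpowers y : Subgroup G) : Set G) ≠ ⊤ :=
    Cfsg.Agent.Lib.Helper11.normalizer_ne_top_of_simple hX1
      (Cfsg.Agent.Lib.Helper11.MaxSubD.pgroup_ne_top hG r _ hXp)
  obtain ⟨L, hL, hNL⟩ := Cfsg.Agent.Lib.Helper11.BenderE.exists_coatom_ge _ hNtop
  have hLN : L = N :=
    huniq L hL ((hCX.trans (Subgroup.centralizer_le_normalizer _)).trans hNL)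
  subst hLN
  have hne : L ≠ M := by
    rintro rfl
    exact hxM hxN
  obtain ⟨-, hr2, -, -⟩ :=
    Cfsg.Agent.Lib.Helper13.BG14.bg14_other_max_ex hG hM hL hrσ hXp hX1 hXM hne hNL
  -- an elementary abelian subgroup of order `r²` in `U`
  obtain ⟨A, hAE, hAe, hA2⟩ := exists_sq_in_compl hG hL hEN' hr2
  have hrκ : r ∉ Cfsg.kappa L := by
    intro hrκ
    have h1 := Cfsg.Agent.Lib.Helper1.BG10.pRankLE_card_le
      (Cfsg.Agent.Lib.Helper1.BG14.kappa_pRankLE_one hrκ) (hAE.trans inf_le_right) hAe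
    rw [hA2, pow_one] at h1
    have : r < r ^ 2 := by
      have := hr.one_lt
      nlinarith
    omega
  have hUKbot : K ⊓ U = ⊥ := by
    rw [eq_bot_iff, ← hKσ]
    exact inf_le_inf_left _ le_sup_left
  have hAU : A ≤ U := by
    apply le_of_coprime_relIndex (le_sup_left : U ≤ U ⊔ K) (hUK ▸ hAE)
      (sup_le Subgroup.le_normalizer hKU.normal)
    have h1 := Cfsg.Agent.Lib.Helper1.BG12.card_mul_relIndex_of_le (le_sup_left : U ≤ U ⊔ K)
    rw [sup_comm, card_sup_of_inf_eq_bot hKU.normal hUKbot, mul_comm (Nat.card ↥K)] at h1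
    have hpos : 0 < Nat.card U := Nat.card_pos
    have h2 : U.relIndex (K ⊔ U) = Nat.card K := Nat.eq_of_mul_eq_mul_left hpos h1
    rw [sup_comm, h2, hA2]
    apply Nat.Coprime.pow_left
    rw [Nat.coprime_primes hr hKp]
    intro h
    apply hrκ
    rw [h]
    exact hK.2.1 _ hKp (dvd_refl _)
  have hAp : IsPGroup r (A.subgroupOf U) := by
    rintro ⟨a, ha⟩
    refine ⟨1, Subtype.ext (Subtype.ext ?_)⟩
    have := hAe.2 (a : G) (Subgroup.mem_subgroupOf.mp ha)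
    simpa using this
  obtain ⟨R, hR⟩ := IsPGroup.exists_le_sylow hAp
  obtain ⟨Rg, hRg⟩ : ∃ Rg : Subgroup G, Rg = (R : Subgroup ↥U).map U.subtype := ⟨_, rfl⟩
  have hARg : A ≤ Rg := by
    intro a ha
    rw [hRg]
    exact ⟨⟨a, hAU ha⟩, hR (Subgroup.mem_subgroupOf.mpr ha), rfl⟩
  have hRgp : IsPGroup r Rg := by rw [hRg]; exact R.2.map _
  have hUM : U ≤ M := by
    have : U ≤ M ⊓ L := hUK ▸ le_sup_left
    exact this.trans inf_le_left
  have hRgM : Rg ≤ M := by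
    rw [hRg]; exact (Subgroup.map_subtype_le _).trans hUM
  have hRgnc : ¬ IsCyclic Rg := by
    intro hc
    have : IsCyclic A := Subgroup.isCyclic_of_le hARg
    exact Cfsg.Agent.Lib.Helper11.BenderE.not_cyclic_of_elemAb r A hAe (by rw [hA2]) this
  obtain ⟨E₀, hE₀⟩ := Cfsg.Agent.Lib.Helper18.BGTwelveA.exists_complIn_sigmaCore hG M hM
  have hNR : Subgroup.normalizer (Rg : Set G) ≤ M :=
    (Cfsg.Agent.S1420.result hG M hM E₀ hE₀).2.2.1 r Rg hrσ hRgp hRgM hRgnc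
  have hrU : r ∣ Nat.card U := by
    have h1 : r ∣ Nat.card A := by rw [hA2]; exact dvd_pow_self r (by norm_num)
    exact h1.trans (Subgroup.card_dvd_of_le hAU)
  rw [hRg] at hNR
  obtain ⟨hκ, -, hMN, -, hKF, hE⟩ :=
    h151 L hL K U hKU hK1 hU1 Ns hNs hKst hKstH r hrU R M hM hNR
  refine ⟨Ns, K, U, ⟨hM, c, hKU, hKp, ?_, hx, hx1, hxU, hxN, hκ, hE, hKF⟩⟩
  rw [inf_comm]; exact hMN

/-- **B & G, Corollary 15.9** from its context -/
theorem main_of_ctx {M N Ns K U : Subgroup G} {x : G} (d : Ctx159 M N Ns K U x)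
    (hxM : ¬ Subgroup.centralizer ({x} : Set G) ≤ M) :
    Cfsg.kappa M = ∅ ∧ (∃ E : Subgroup ↥M, Cfsg.IsFrobeniusComplement E ∧ IsCyclic E) ∧
      ¬ Cfsg.IsTISubset (Cfsg.fittingHallOf M : Set G) := by
  have hG := d.hG
  have hM := d.hM
  have hE := d.hE
  refine ⟨d.hκ, ⟨(M ⊓ Ns).subgroupOf M, ⟨?_, ?_, ?_⟩, ?_⟩, ?_⟩
  · -- `E ≠ 1`
    intro h
    obtain ⟨k, hk, hk1⟩ := exists_ne_one_of_ne_bot' d.c.hK1
    have : (⟨k, d.hKM hk⟩ : ↥M) ∈ (M ⊓ Ns).subgroupOf M := Subgroup.mem_subgroupOf.mpr (d.hKE hk)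
    rw [h, Subgroup.mem_bot] at this
    exact hk1 (congrArg Subtype.val this)
  · -- `E ≠ M`
    intro h
    have hxM' : x ∈ M := sigmaCore_le M d.hx
    have : (⟨x, hxM'⟩ : ↥M) ∈ (M ⊓ Ns).subgroupOf M := by rw [h]; exact Subgroup.mem_top _
    have hxE : x ∈ M ⊓ Ns := Subgroup.mem_subgroupOf.mp this
    have : x ∈ (M ⊓ Ns) ⊓ Cfsg.sigmaCore M := ⟨hxE, d.hx⟩
    rw [hE.2.2.1, Subgroup.mem_bot] at this
    exact d.hx1 this
  · -- the Frobenius condition
    rintro ⟨g, hgM⟩ hg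
    rw [eq_bot_iff]
    rintro ⟨y, hyM⟩ ⟨hy1, hy2⟩
    rw [Subgroup.mem_bot]
    apply Subtype.ext
    show y = 1
    have hyE : y ∈ M ⊓ Ns := Subgroup.mem_subgroupOf.mp hy1
    have hgE : g ∉ M ⊓ Ns := fun h => hg (Subgroup.mem_subgroupOf.mpr h)
    obtain ⟨⟨y', hy'M⟩, hy'E', hyy'⟩ := Subgroup.mem_smul_pointwise_iff_exists _ _ _ |>.mp hy2
    have hy'E : y' ∈ M ⊓ Ns := Subgroup.mem_subgroupOf.mp hy'E'
    have hconj : g * y' * g⁻¹ = y := by
      have := congrArg Subtype.val hyy'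
      simpa [MulAut.smul_def] using this
    obtain ⟨e, he, s, hs, hges⟩ := hE.2.2.2 g hgM
    have hs1 : s ≠ 1 := by
      rintro rfl
      rw [mul_one] at hges
      exact hgE (hges ▸ he)
    -- `y'' = e⁻¹ y e = s y' s⁻¹ ∈ E`
    have hy'' : s * y' * s⁻¹ ∈ M ⊓ Ns := by
      have h1 : s * y' * s⁻¹ = e⁻¹ * y * e := by
        rw [← hconj, hges]; group
      rw [h1]
      exact (M ⊓ Ns).mul_mem ((M ⊓ Ns).mul_mem ((M ⊓ Ns).inv_mem he) hyE) he
    have hMn := le_normalizer_sigmaCore M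
    have hcomm : s * y' * s⁻¹ * y'⁻¹ ∈ (M ⊓ Ns) ⊓ Cfsg.sigmaCore M := by
      refine ⟨(M ⊓ Ns).mul_mem hy'' ((M ⊓ Ns).inv_mem hy'E), ?_⟩
      have h1 : s * y' * s⁻¹ * y'⁻¹ = s * (y' * s⁻¹ * y'⁻¹) := by group
      rw [h1]
      apply Subgroup.mul_mem _ hs
      exact (Subgroup.mem_normalizer_iff.mp (hMn hy'E.1) s⁻¹).mp (Subgroup.inv_mem _ hs)
    rw [hE.2.2.1, Subgroup.mem_bot] at hcomm
    have hsy : y' * s = s * y' := by
      have : s * y' = (s * y' * s⁻¹ * y'⁻¹) * (y' * s) := by group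
      rw [this, hcomm, one_mul]
    have hy'1 : y' = 1 := by
      by_contra hne
      exact d.semiregular hy'E hne hs hs1 hsy
    rw [← hconj, hy'1]; group
  · -- `E` is cyclic
    have := d.cyclic_E
    exact (MulEquiv.isCyclic (Subgroup.subgroupOfEquivOfLe (inf_le_left : M ⊓ Ns ≤ M))).mpr this
  · -- `M_F` is not TI
    intro hTI
    have hnil := d.sigmaCore_nilpotent
    have hF := Cfsg.Agent.Lib.Helper13.BG14.bg14_sigmaCore_eq_fittingHallOf hG hM hnil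
    rw [← hF] at hTI
    obtain ⟨g, hgC, hgM⟩ := SetLike.not_le_iff_exists.mp hxM
    have hσ1 : Cfsg.sigmaCore M ≠ ⊥ := by
      intro h
      have := d.hx
      rw [h, Subgroup.mem_bot] at this
      exact d.hx1 this
    have hnorm := Cfsg.Agent.Lib.Helper11.FitTI.normalizer_eq_of_le_normalizer hG hM
      (sigmaCore_le M) hσ1 (le_normalizer_sigmaCore M)
    have hgN : g ∉ Subgroup.normalizer (Cfsg.sigmaCore M : Set G) := by
      rw [hnorm]; exact hgM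
    apply d.hx1
    apply hTI g hgN x d.hx
    have : g * x = x * g := (Subgroup.mem_centralizer_iff.mp hgC) x (Set.mem_singleton x) |>.symm
    rw [this, mul_assoc, mul_inv_cancel, mul_one]
    exact d.hx

/-- **B & G, Corollary 15.9** (statement S1376), given Lemma 15.1 (statement S1435) -/
theorem cor_15_9 (hG : Cfsg.IsMinSimpleOddOrder G) (h151 : L151 G)
    (M : Subgroup G) (hM : IsCoatom M) (x : G) (hx : x ∈ Cfsg.sigmaCore M) (hx1 : x ≠ 1)
    (hxM : ¬ Subgroup.centralizer ({x} : Set G) ≤ M)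
    (N : Subgroup G) (hN : IsCoatom N) (hxN : Subgroup.centralizer ({x} : Set G) ≤ N)
    (hkN : (Cfsg.kappa N).Nonempty) :
    Cfsg.kappa M = ∅ ∧ (∃ E : Subgroup ↥M, Cfsg.IsFrobeniusComplement E ∧ IsCyclic E) ∧
      ¬ Cfsg.IsTISubset (Cfsg.fittingHallOf M : Set G) := by
  obtain ⟨Ns, K, U, d⟩ := ctx_of hG h151 M hM x hx hx1 hxM N hN hxN hkN
  exact main_of_ctx d hxM

end Cfsg.Agent.Lib.Helper28.BGt
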