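import Mathlib
import Cfsg.Agent.S0799
import Cfsg.Agent.Lib.Helper28.BP2.Defs
import Cfsg.Agent.Lib.Helper13.BP2T13
import Cfsg.Agent.Lib.Helper24.BP2U4
import Cfsg.Agent.Lib.Helper21.BP2AO6
import Cfsg.Agent.Lib.Helper29.BP2AO7a
import Cfsg.Agent.Lib.Helper29.BP2AO7b
import Cfsg.Agent.Lib.Helper24.BP2AO7c
import Cfsg.Agent.Lib.helper6.BP2AO7def
import Cfsg.Agent.Lib.Helper13.BP2AO7g
import Cfsg.Agent.Lib.helper6.BP2AO7h
import Cfsg.Agent.Lib.helper6.BP2AO7j

set_option autoImplicit false

namespace Cfsg.Agent.Lib.Helper28.BP2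

open Cfsg.Agent.Lib.helper14

universe u

section AOdd8

variable {F : Type u} [Field F] [Fintype F]

theorem stepA_odd (p : ℕ) [Fact p.Prime] [CharP F p] (hp : p ≠ 2) (h7 : 7 ≤ Fintype.card F)
    (H : Subgroup (PSL2 F)) (hBin : BinS H) (hH : H ≠ ⊤) (h2 : 2 ∣ Nat.card H) : False := by
  classical
  have hpp : p.Prime := Fact.out
  obtain ⟨n, _, hq⟩ := FiniteField.card F p
  have hoddq : Odd (Fintype.card F) := by
    rw [hq]; exact (hpp.odd_of_ne_two hp).pow
  have hq2 := Nat.odd_iff.mp hoddq
  have hgcd : Nat.gcd 2 (Fintype.card F - 1) = 2 := by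
    apply Nat.gcd_eq_left
    omega
  obtain ⟨c, hc, hcdvd, hcle, hinv⟩ := card_of_binS_even hoddq H hBin h2
  have hc' : c = Fintype.card F - 1 ∨ c = Fintype.card F + 1 := by
    rcases hc with ⟨_, h⟩ | ⟨_, h⟩
    · exact Or.inl h
    · exact Or.inr h
  have hc6 : 6 ≤ c := by
    rcases hc' with h | h <;> omega
  have hcge : Fintype.card F - 1 ≤ c := by
    rcases hc' with h | h <;> omega
  have hHpos : 0 < Nat.card H := Nat.card_pos
  have hHle : Nat.card H ≤ Nat.card (PSL2 F) := Subgroup.card_le_card_group H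
  -- an abstract group with an involution of centraliser order 4 is not isomorphic to `H`
  have key4 : ∀ {X : Type} [Group X], Nonempty (H ≃* X) →
      (∃ t : X, orderOf t = 2 ∧ Nat.card (Subgroup.centralizer ({t} : Set X)) = 4) → False := by
    intro X _ ⟨e⟩ ⟨t, ht, hcard⟩
    have := invCent_of_equiv e c hinv t ht
    omega
  rcases Cfsg.Agent.S0799.result (F := F) rfl p H with
    ⟨k, hk, hcd⟩ | ⟨P, K, hK, ⟨e⟩⟩ | h | h | h | ⟨K, _, _, m, hKm, hcase⟩
  · -- cyclic or dihedral
    rw [hgcd] at hk
    have hle := card_le_of_cyc_dih hoddq H k hk hcd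
    have h1 : (Fintype.card F - 1) * (Fintype.card F - 1) ≤ c * c := Nat.mul_le_mul hcge hcge
    have h3 : (Fintype.card F - 1) * (Fintype.card F - 1) ≤ 4 * (Fintype.card F + 1) := by
      calc _ ≤ c * c := h1
        _ ≤ 4 * Nat.card H := hcle
        _ ≤ 4 * (Fintype.card F + 1) := by omega
    obtain ⟨r, hr⟩ : ∃ r, Fintype.card F = r + 7 := ⟨Fintype.card F - 7, by omega⟩
    rw [hr] at h3
    have : r + 7 - 1 = r + 6 := by omega
    rw [this] at h3
    nlinarith
  · -- Borel type
    have hcardK : Nat.card H = Nat.card K := Nat.card_congr e.toEquiv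
    have hKdvd : Nat.card K ∣
        Nat.card (Subgroup.normalizer ((P : Subgroup (PSL2 F)) : Set (PSL2 F))) :=
      Subgroup.card_dvd_of_le hK
    have hN := card_normalizer_sylow p P
    rw [hgcd] at hN
    have hdvd : 2 * c ∣ Fintype.card F * (Fintype.card F - 1) := by
      rw [← hN, mul_comm 2 c]
      exact Nat.mul_dvd_mul (hcdvd.trans (hcardK ▸ hKdvd)) (dvd_refl 2)
    exact not_borel_arith (Fintype.card F) c hoddq h7 hc hdvd
  · exact key4 h alt4_invol
  · exact key4 h sym4_invol
  · exact key4 h alt5_invol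
  · rcases hcase with ⟨⟨e⟩⟩ | ⟨⟨e⟩⟩
    · -- PSL₂(K)
      have hinvK := invCent_of_equiv e c hinv
      have hm := subfield_exp_one hoddq K m c hKm hc' hinvK
      subst hm
      rw [pow_one] at hKm
      have h1 := card_PSL2 (F := K)
      have h2' := card_PSL2 (F := F)
      rw [hKm] at h1
      have h3 : Nat.card (PSL2 K) = Nat.card (PSL2 F) := by
        have : Nat.card (PSL2 K) * Nat.gcd 2 (Fintype.card F - 1) =
            Nat.card (PSL2 F) * Nat.gcd 2 (Fintype.card F - 1) := by rw [h1, h2']
        exact Nat.eq_of_mul_eq_mul_right (by rw [hgcd]; norm_num) this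
      have h4 : Nat.card H = Nat.card (PSL2 F) := (Nat.card_congr e.toEquiv).trans h3
      exact hH (Subgroup.eq_top_of_card_eq H h4)
    · -- PGL₂(K)
      have hcardH : Nat.card H = Fintype.card K * (Fintype.card K ^ 2 - 1) :=
        (Nat.card_congr e.toEquiv).trans (card_PGL2 K)
      have hK2 : 2 ≤ Fintype.card K := by
        have := Fintype.one_lt_card (α := K)
        omega
      have hm0 : m ≠ 0 := by
        rintro rfl
        rw [pow_zero] at hKm
        omega
      by_cases hm1 : m = 1
      · subst hm1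
        rw [pow_one] at hKm
        rw [hKm] at hcardH
        have h2' := card_PSL2 (F := F)
        rw [hgcd] at h2'
        have hpos : 0 < Fintype.card F * (Fintype.card F ^ 2 - 1) := by
          apply Nat.mul_pos (by omega)
          have : 2 ≤ Fintype.card F ^ 2 := by nlinarith
          omega
        omega
      · have hm2 : 2 ≤ m := by omega
        have hK3 : 3 ≤ Fintype.card K := by
          rcases Nat.lt_or_ge (Fintype.card K) 3 with h | h
          · have hK : Fintype.card K = 2 := by omega
            rw [hK] at hKm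
            have : Even (Fintype.card F) := by
              rw [← hKm]; exact (Nat.even_pow.mpr ⟨by norm_num, hm0⟩)
            exact absurd hoddq (Nat.not_odd_iff_even.mpr this)
          · exact h
        have hle : c * c ≤ 4 * (Fintype.card K * (Fintype.card K ^ 2 - 1)) := by
          rw [← hcardH]; exact hcle
        obtain ⟨hK3', hm2'⟩ := pgl_arith (Fintype.card K) m (Fintype.card F) c hK3 hm2 hKm hoddq hc' hle
        have hq9 : Fintype.card F = 9 := by rw [← hKm, hK3', hm2']; norm_num
        have hc8 : c = 8 := by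
          rcases hc with ⟨_, h⟩ | ⟨h, _⟩ <;> omega
        obtain ⟨t, ht, htc⟩ := pgl2_three_invol K hK3'
        have := invCent_of_equiv e c hinv t ht
        omega

end AOdd8

end Cfsg.Agent.Lib.Helper28.BP2
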