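import Mathlib
import Cfsg.Agent.Lib.Helper28.BP2.Defs
import Cfsg.Agent.Lib.Helper20.BP2T9a
import Cfsg.Agent.Lib.Helper20.BP2T9
import Cfsg.Agent.Lib.Helper12.BP2T11
import Cfsg.Agent.Lib.Helper13.BP2C1
import Cfsg.Agent.Lib.Helper13.BP2C2
import Cfsg.Agent.Lib.Helper18.BP2C6

set_option autoImplicit false

namespace Cfsg.Agent.Lib.Helper28.BP2

open Cfsg.Agent.Lib.helper14

universe u

section StepC7

variable {F : Type u} [Field F]

/-- conjugating both members of a conjugate pair. -/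
theorem bp2c7_isConj_conj {G : Type u} [Group G] (x a b : G) (h : IsConj a b) :
    IsConj (x * a * x⁻¹) (x * b * x⁻¹) := by
  obtain ⟨c, hc⟩ := isConj_iff.mp h
  refine isConj_iff.mpr ⟨x * c * x⁻¹, ?_⟩
  rw [← hc]; group

/-- `pr ∘ uS` is additive. -/
theorem bp2c7_pr_uS_add (a b : F) : pr F (uS (a + b)) = pr F (uS a) * pr F (uS b) := by
  rw [← uS_mul, map_mul]

theorem bp2c7_pr_uS_zero : pr F (uS (0 : F)) = 1 := by
  rw [uS_zero, map_one]

theorem bp2c7_pr_uS_neg (a : F) : pr F (uS (-a)) = (pr F (uS a))⁻¹ := by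
  rw [eq_inv_iff_mul_eq_one, ← bp2c7_pr_uS_add, neg_add_cancel, bp2c7_pr_uS_zero]

variable [Fintype F]

theorem stepC (p : ℕ) [Fact p.Prime] [CharP F p] (hp : p ≠ 2) (h7 : 7 ≤ Fintype.card F)
    (h9 : Fintype.card F ≠ 9) (H : Subgroup (PSL2 F)) (hBin : BinS H) (hpH : p ∣ Nat.card H) :
    ∃ g : PSL2 F, PU F ≤ H.map (MulAut.conj g).toMonoidHom := by
  classical
  have hpp : p.Prime := Fact.out
  obtain ⟨n, _, hq⟩ := FiniteField.card F p
  have hoddq : Odd (Fintype.card F) := by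
    rw [hq]; exact (hpp.odd_of_ne_two hp).pow
  obtain ⟨g0, hg0H, hg0p, hmax⟩ := exists_maxfix H p hpH
  obtain ⟨x, α, hα0, hg0⟩ := order_p_conj p g0 hg0p
  let A : AddSubgroup F :=
    { carrier := {β | x * pr F (uS β) * x⁻¹ ∈ H}
      zero_mem' := by
        show x * pr F (uS 0) * x⁻¹ ∈ H
        rw [bp2c7_pr_uS_zero, mul_one, mul_inv_cancel]; exact H.one_mem
      add_mem' := by
        intro a b ha hb
        show x * pr F (uS (a + b)) * x⁻¹ ∈ H
        have : x * pr F (uS (a + b)) * x⁻¹ =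
            (x * pr F (uS a) * x⁻¹) * (x * pr F (uS b) * x⁻¹) := by
          rw [bp2c7_pr_uS_add]; group
        rw [this]; exact H.mul_mem ha hb
      neg_mem' := by
        intro a ha
        show x * pr F (uS (-a)) * x⁻¹ ∈ H
        have : x * pr F (uS (-a)) * x⁻¹ = (x * pr F (uS a) * x⁻¹)⁻¹ := by
          rw [bp2c7_pr_uS_neg]; group
        rw [this]; exact H.inv_mem ha }
  have hmemA : ∀ β, β ∈ A ↔ x * pr F (uS β) * x⁻¹ ∈ H := fun β => Iff.rfl
  have hαA : α ∈ A := by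
    rw [hmemA, ← hg0]; exact hg0H
  have hcl : ∀ β ∈ A, (∃ μ : F, μ ≠ 0 ∧ β = μ ^ 2 * α) →
      ∀ ρ : F, IsSquare ρ → ρ ≠ 0 → IsSquare (1 - ρ) → 1 - ρ ≠ 0 → ρ * β ∈ A := by
    rintro β hβ ⟨μ, hμ0, hβμ⟩ ρ ⟨σ, hσ⟩ hρ0 ⟨τ, hτ⟩ hτ0
    have hσ0 : σ ≠ 0 := by
      rintro rfl; apply hρ0; rw [hσ, mul_zero]
    have hτ00 : τ ≠ 0 := by
      rintro rfl; apply hτ0; rw [hτ, mul_zero]
    have hβH : x * pr F (uS β) * x⁻¹ ∈ H := (hmemA β).mp hβ
    -- `g'` is conjugate to `g0`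
    have hconj0 : IsConj (x * pr F (uS β) * x⁻¹) g0 := by
      rw [hg0]
      apply bp2c7_isConj_conj
      have := uS_conj_sq α (Units.mk0 μ hμ0)
      rw [Units.val_mk0, ← hβμ] at this
      exact this.symm
    have hg'p : orderOf (x * pr F (uS β) * x⁻¹) = p := by
      obtain ⟨c, hc⟩ := isConj_iff.mp hconj0
      rw [← hg0p, ← hc]
      exact ((MulAut.conj c).orderOf_eq (x * pr F (uS β) * x⁻¹)).symm
    have hmax' : ∀ f : PSL2 F, orderOf f = p → fx H f ≤ fx H (x * pr F (uS β) * x⁻¹) := by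
      intro f hf
      rw [fx_isConj H _ g0 hconj0]; exact hmax f hf
    have hcomm : Commute (x * pr F (uS β) * x⁻¹) (x * pr F (uS (ρ * β)) * x⁻¹) := by
      have h1 : pr F (uS β) * pr F (uS (ρ * β)) = pr F (uS (ρ * β)) * pr F (uS β) := by
        rw [← bp2c7_pr_uS_add, ← bp2c7_pr_uS_add, add_comm]
      show _ * _ = _ * _
      calc x * pr F (uS β) * x⁻¹ * (x * pr F (uS (ρ * β)) * x⁻¹)
          = x * (pr F (uS β) * pr F (uS (ρ * β))) * x⁻¹ := by group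
        _ = x * (pr F (uS (ρ * β)) * pr F (uS β)) * x⁻¹ := by rw [h1]
        _ = _ := by group
    have hh : IsConj (x * pr F (uS (ρ * β)) * x⁻¹) (x * pr F (uS β) * x⁻¹) := by
      apply bp2c7_isConj_conj
      have := uS_conj_sq β (Units.mk0 σ hσ0)
      rw [Units.val_mk0] at this
      have e : σ ^ 2 * β = ρ * β := by rw [hσ]; ring
      rw [e] at this
      exact this.symm
    have hk : IsConj ((x * pr F (uS β) * x⁻¹) * (x * pr F (uS (ρ * β)) * x⁻¹)⁻¹)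
        (x * pr F (uS β) * x⁻¹) := by
      have e1 : (x * pr F (uS β) * x⁻¹) * (x * pr F (uS (ρ * β)) * x⁻¹)⁻¹ =
          x * pr F (uS ((1 - ρ) * β)) * x⁻¹ := by
        have : (1 - ρ) * β = β + -(ρ * β) := by ring
        rw [this, bp2c7_pr_uS_add, bp2c7_pr_uS_neg]; group
      rw [e1]
      apply bp2c7_isConj_conj
      have := uS_conj_sq β (Units.mk0 τ hτ00)
      rw [Units.val_mk0] at this
      have e : τ ^ 2 * β = (1 - ρ) * β := by rw [hτ]; ring
      rw [e] at this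
      exact this.symm
    rw [hmemA]
    exact binS_mem_of_conj H hBin p _ _ hβH hcomm hg'p hmax' hh hk
  have hA := gen_by_R hoddq h7 h9 A α hαA hα0 hcl
  refine ⟨x⁻¹, ?_⟩
  rintro u ⟨û, hû, rfl⟩
  obtain ⟨β, rfl⟩ := (mem_US _).mp hû
  have hβ : β ∈ A := by rw [hA]; trivial
  refine Subgroup.mem_map.mpr ⟨x * pr F (uS β) * x⁻¹, (hmemA β).mp hβ, ?_⟩
  show (MulAut.conj x⁻¹) (x * pr F (uS β) * x⁻¹) = pr F (uS β)
  rw [MulAut.conj_apply]; group

end StepC7

end Cfsg.Agent.Lib.Helper28.BP2
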