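import Mathlib
import Cfsg.Agent.S0799
import Cfsg.Agent.Lib.Helper28.BP2.Defs
import Cfsg.Agent.Lib.Helper24.BP2U4
import Cfsg.Agent.Lib.helper6.BP2U5
import Cfsg.Agent.Lib.Helper29.BP2U6
import Cfsg.Agent.Lib.Helper29.BP2U7
import Cfsg.Agent.Lib.Helper29.BP2U8
import Cfsg.Agent.Lib.helper15.BP2U9
import Cfsg.Agent.Lib.helper4.BP2U12
import Cfsg.Agent.Lib.helper6.BP2AO7h

set_option autoImplicit false

namespace Cfsg.Agent.Lib.Helper28.BP2

open Cfsg.Agent.Lib.helper14

universe u

section StepC8

/-- `|PSL₂(K)|` is even. -/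
theorem bp2c8_even_psl (q₀ N : ℕ) (h2 : 2 ≤ q₀) (h : N * Nat.gcd 2 (q₀ - 1) = q₀ * (q₀ ^ 2 - 1)) :
    Even N := by
  rcases Nat.even_or_odd' q₀ with ⟨j, hj | hj⟩
  · -- q₀ = 2 j
    have hg : Nat.gcd 2 (q₀ - 1) = 1 := by
      have : (q₀ - 1) % 2 = 1 := by omega
      exact Nat.coprime_two_left.mpr (Nat.odd_iff.mpr this)
    rw [hg, mul_one] at h
    rw [h, hj]
    exact (even_two_mul j).mul_right _
  · -- q₀ = 2 j + 1
    have hg : Nat.gcd 2 (q₀ - 1) = 2 := by
      apply Nat.gcd_eq_left; omega
    have hsq : q₀ ^ 2 - 1 = 4 * (j * (j + 1)) := by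
      rw [hj]
      have : (2 * j + 1) ^ 2 = 4 * (j * (j + 1)) + 1 := by ring
      omega
    rw [hg, hsq] at h
    have : N = 2 * (q₀ * (j * (j + 1))) := by
      have : N * 2 = 2 * (2 * (q₀ * (j * (j + 1)))) := by rw [h]; ring
      omega
    rw [this]; exact even_two_mul _

/-- `|PGL₂(K)|` is even. -/
theorem bp2c8_even_pgl (q₀ : ℕ) : Even (q₀ * (q₀ ^ 2 - 1)) := by
  rcases Nat.even_or_odd q₀ with h | h
  · exact h.mul_right _
  · apply Even.mul_left
    obtain ⟨j, hj⟩ := h
    have : q₀ ^ 2 - 1 = 2 * (2 * (j * (j + 1))) := by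
      rw [hj]
      have : (2 * j + 1) ^ 2 = 4 * (j * (j + 1)) + 1 := by ring
      omega
    rw [this]; exact even_two_mul _

variable {F : Type u} [Field F] [Fintype F]

/-- an element of order `p` in the normaliser of a Sylow `p`-subgroup lies in it. -/
theorem bp2c8_mem_sylow {G : Type u} [Group G] (p : ℕ) [Fact p.Prime] (P : Sylow p G) (x : G)
    (hx : orderOf x = p) (hN : x ∈ Subgroup.normalizer ((P : Subgroup G) : Set G)) :
    x ∈ (P : Subgroup G) := by
  have hz : IsPGroup p (Subgroup.zpowers x) := by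
    apply IsPGroup.of_card (n := 1)
    rw [Nat.card_zpowers, hx, pow_one]
  have hle : Subgroup.zpowers x ≤ Subgroup.normalizer ((P : Subgroup G) : Set G) := by
    rw [Subgroup.zpowers_le]; exact hN
  have hsup := IsPGroup.to_sup_of_normal_right' hz P.2 hle
  have := P.is_maximal' hsup le_sup_right
  have hxs : x ∈ Subgroup.zpowers x ⊔ (P : Subgroup G) :=
    (le_sup_left : Subgroup.zpowers x ≤ _) (Subgroup.mem_zpowers x)
  rwa [this] at hxs

theorem odd_dickson (p : ℕ) [Fact p.Prime] [CharP F p] (h4 : 4 ≤ Fintype.card F)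
    (H : Subgroup (PSL2 F)) (hodd : Odd (Nat.card H)) :
    (IsCyclic H ∧ (Nat.card H ∣ (Fintype.card F + 1) / Nat.gcd 2 (Fintype.card F - 1) ∨
        Nat.card H ∣ (Fintype.card F - 1) / Nat.gcd 2 (Fintype.card F - 1))) ∨
      ∃ g : PSL2 F, H.map (MulAut.conj g).toMonoidHom ≤ PB F := by
  classical
  have hpp : p.Prime := Fact.out
  obtain ⟨n, _, hq⟩ := FiniteField.card F p
  have hnotEven : ∀ {X : Type} [Group X], Nonempty (H ≃* X) → Even (Nat.card X) → False := by
    intro X _ ⟨e⟩ hev
    rw [← Nat.card_congr e.toEquiv] at hev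
    exact (Nat.not_even_iff_odd.mpr hodd) hev
  rcases Cfsg.Agent.S0799.result (F := F) rfl p H with
    ⟨k, hk, hcd⟩ | ⟨P, K, hK, ⟨e⟩⟩ | h | h | h | ⟨K, _, _, m, hKm, hcase⟩
  · rcases hcd with ⟨hc, hck⟩ | h
    · left
      refine ⟨hc, ?_⟩
      rw [hck]; exact hk
    · exfalso
      apply hnotEven h
      rw [DihedralGroup.nat_card]; exact even_two_mul k
  · -- Borel type
    obtain ⟨g0, hg0⟩ := sylow_conj_PU p P
    -- the normaliser of `P` is the conjugate of `PB F`
    have hNP : Subgroup.normalizer ((P : Subgroup (PSL2 F)) : Set (PSL2 F)) =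
        (PB F).map (MulAut.conj g0).toMonoidHom := by
      rw [hg0, ← Subgroup.map_equiv_normalizer_eq, normalizer_PU]
    by_cases hpH : p ∣ Nat.card H
    · right
      -- an element of order `p` of `H`
      have hfin : Finite H := inferInstance
      obtain ⟨h0, hh0⟩ := exists_prime_orderOf_dvd_card' p hpH
      -- the normal `p`-subgroup of `K`
      have hnormK : ((P : Subgroup (PSL2 F)).subgroupOf K).Normal :=
        Subgroup.normal_subgroupOf_of_le_normalizer hK
      have hnormH : (((P : Subgroup (PSL2 F)).subgroupOf K).comap e.toMonoidHom).Normal :=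
        hnormK.comap _
      set NH : Subgroup H := ((P : Subgroup (PSL2 F)).subgroupOf K).comap e.toMonoidHom with hNH
      set Q : Subgroup (PSL2 F) := NH.map H.subtype with hQ
      have hpK : IsPGroup p ((P : Subgroup (PSL2 F)).subgroupOf K) :=
        P.2.comap_of_injective K.subtype Subtype.val_injective
      have hpNH : IsPGroup p NH := hpK.comap_of_injective e.toMonoidHom e.injective
      have hpQ : IsPGroup p Q := hpNH.map _
      -- `h0 ∈ NH`
      have hh0N : h0 ∈ NH := by
        show e h0 ∈ (P : Subgroup (PSL2 F)).subgroupOf K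
        rw [Subgroup.mem_subgroupOf]
        apply bp2c8_mem_sylow p P _ _ (hK (e h0).2)
        rw [Subgroup.orderOf_coe, e.orderOf_eq, hh0]
      have hQne : Q ≠ ⊥ := by
        intro hbot
        have : (h0 : PSL2 F) ∈ Q := Subgroup.mem_map.mpr ⟨h0, hh0N, rfl⟩
        rw [hbot, Subgroup.mem_bot] at this
        have h1 : h0 = 1 := Subtype.ext this
        rw [h1, orderOf_one] at hh0
        exact hpp.one_lt.ne hh0
      -- `H` normalises `Q`
      have hHN : H ≤ Subgroup.normalizer ((Q : Subgroup (PSL2 F)) : Set (PSL2 F)) := by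
        have h1 := Subgroup.le_normalizer_map (H := NH) H.subtype
        rw [Subgroup.normalizer_eq_top_iff.mpr hnormH] at h1
        have h2 : (⊤ : Subgroup H).map H.subtype = H := by
          rw [← MonoidHom.range_eq_map, Subgroup.range_subtype]
        rwa [h2] at h1
      -- `Q` is in a conjugate of `PU F`
      obtain ⟨P', hP'⟩ := hpQ.exists_le_sylow
      obtain ⟨g1, hg1⟩ := sylow_conj_PU p P'
      refine ⟨g1⁻¹, ?_⟩
      -- conjugate back
      have hQ1 : Q.map (MulAut.conj g1⁻¹).toMonoidHom ≤ PU F := by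
        intro y hy
        obtain ⟨z, hz, rfl⟩ := Subgroup.mem_map.mp hy
        have hz' := hP' hz
        rw [hg1] at hz'
        obtain ⟨w, hw, hwz⟩ := Subgroup.mem_map.mp hz'
        have : (MulAut.conj g1⁻¹).toMonoidHom z = w := by
          rw [← hwz]
          show (MulAut.conj g1⁻¹) ((MulAut.conj g1) w) = w
          simp [MulAut.conj_apply, mul_assoc]
        rw [this]; exact hw
      have hQ1ne : Q.map (MulAut.conj g1⁻¹).toMonoidHom ≠ ⊥ := by
        intro hbot
        apply hQne
        rw [eq_bot_iff]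
        intro z hz
        have : (MulAut.conj g1⁻¹).toMonoidHom z ∈ Q.map (MulAut.conj g1⁻¹).toMonoidHom :=
          Subgroup.mem_map_of_mem _ hz
        rw [hbot, Subgroup.mem_bot] at this
        rw [Subgroup.mem_bot]
        exact (MulAut.conj g1⁻¹).injective (by rw [map_one]; exact this)
      have hN1 := normalizer_le_PB _ hQ1 hQ1ne
      refine le_trans ?_ hN1
      rw [← Subgroup.map_equiv_normalizer_eq]
      exact Subgroup.map_mono hHN
    · left
      -- `K' := g0⁻¹ K g0 ≤ PB F` meets `PU F` trivially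
      have hK' : K.map (MulAut.conj g0⁻¹).toMonoidHom ≤ PB F := by
        intro y hy
        obtain ⟨z, hz, rfl⟩ := Subgroup.mem_map.mp hy
        have hz' := hK hz
        rw [hNP] at hz'
        obtain ⟨w, hw, hwz⟩ := Subgroup.mem_map.mp hz'
        have : (MulAut.conj g0⁻¹).toMonoidHom z = w := by
          rw [← hwz]
          show (MulAut.conj g0⁻¹) ((MulAut.conj g0) w) = w
          simp [MulAut.conj_apply, mul_assoc]
        rw [this]; exact hw
      have e' : K ≃* K.map (MulAut.conj g0⁻¹).toMonoidHom := (MulAut.conj g0⁻¹).subgroupMap K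
      have hcard : Nat.card (K.map (MulAut.conj g0⁻¹).toMonoidHom) = Nat.card H :=
        ((Nat.card_congr e'.toEquiv).symm).trans (Nat.card_congr e.toEquiv).symm
      have hcop : Nat.Coprime (Nat.card H) (Fintype.card F) := by
        rw [hq]
        exact Nat.Coprime.pow_right _ ((Nat.Prime.coprime_iff_not_dvd hpp).mpr hpH).symm
      have hinf : K.map (MulAut.conj g0⁻¹).toMonoidHom ⊓ PU F = ⊥ := by
        apply Disjoint.eq_bot
        apply Subgroup.disjoint_of_coprime_natCard
        rw [hcard, card_PU]; exact hcop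
      have hcycK' := cyclic_of_le_PB _ hK' hinf
      have ee : H ≃* K.map (MulAut.conj g0⁻¹).toMonoidHom := e.trans e'
      refine ⟨isCyclic_of_surjective ee.symm.toMonoidHom ee.symm.surjective, Or.inr ?_⟩
      -- `|H|` divides `|PB F| = q * ((q - 1) / gcd)` and is prime to `q`
      have hdvd : Nat.card H ∣ Nat.card (PB F) := by
        rw [← hcard]; exact Subgroup.card_dvd_of_le hK'
      have hPB := card_PB (F := F)
      have hgd : Nat.gcd 2 (Fintype.card F - 1) ∣ Fintype.card F - 1 := Nat.gcd_dvd_right _ _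
      have hgpos : 0 < Nat.gcd 2 (Fintype.card F - 1) := Nat.gcd_pos_of_pos_left _ (by norm_num)
      generalize Nat.gcd 2 (Fintype.card F - 1) = d at hPB hgd hgpos ⊢
      obtain ⟨t, ht⟩ := hgd
      have hdiv : (Fintype.card F - 1) / d = t := Nat.div_eq_of_eq_mul_right hgpos ht
      rw [hdiv]
      have hPBt : Nat.card (PB F) = Fintype.card F * t := by
        have : Nat.card (PB F) * d = (Fintype.card F * t) * d := by
          rw [hPB, ht]; ring
        exact Nat.eq_of_mul_eq_mul_right hgpos this
      rw [hPBt] at hdvd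
      exact hcop.dvd_of_dvd_mul_left hdvd
  · exfalso
    apply hnotEven h
    have h1 := two_mul_card_alternatingGroup (α := Fin 4)
    rw [Fintype.card_perm, Fintype.card_fin] at h1
    rw [Nat.card_eq_fintype_card]
    have : Fintype.card (alternatingGroup (Fin 4)) = 12 := by
      have : Nat.factorial 4 = 24 := rfl
      omega
    rw [this]; decide
  · exfalso
    apply hnotEven h
    rw [Nat.card_eq_fintype_card, Fintype.card_perm, Fintype.card_fin]
    decide
  · exfalso
    apply hnotEven h
    have h1 := two_mul_card_alternatingGroup (α := Fin 5)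
    rw [Fintype.card_perm, Fintype.card_fin] at h1
    rw [Nat.card_eq_fintype_card]
    have : Fintype.card (alternatingGroup (Fin 5)) = 60 := by
      have : Nat.factorial 5 = 120 := rfl
      omega
    rw [this]; decide
  · exfalso
    have hK2 : 2 ≤ Fintype.card K := by
      have := Fintype.one_lt_card (α := K)
      omega
    rcases hcase with h | h
    · apply hnotEven h
      exact bp2c8_even_psl (Fintype.card K) _ hK2 (card_PSL2 (F := K))
    · apply hnotEven h
      rw [card_PGL2 K]
      exact bp2c8_even_pgl (Fintype.card K)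

end StepC8

end Cfsg.Agent.Lib.Helper28.BP2
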