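import Mathlib
import Cfsg.Agent.Lib.Helper28.BP2.Defs
import Cfsg.Agent.Lib.Helper26.BP2T3
import Cfsg.Agent.Lib.helper6.BP2U5
import Cfsg.Agent.Lib.Helper29.BP2U7
import Cfsg.Agent.Lib.Helper29.BP2U8
import Cfsg.Agent.Lib.helper17.BP2B3
import Cfsg.Agent.Lib.Helper28.BP2C8
import Cfsg.Agent.Lib.Helper1.BP2C9a

set_option autoImplicit false

namespace Cfsg.Agent.Lib.Helper28.BP2

open Cfsg.Agent.Lib.helper14

universe u

section StepC9

variable {F : Type u} [Field F] [Fintype F]

/-- a subgroup `K ≤ B` whose order is prime to `|B : N|` lies in `N`, for `N ≤ B ≤ N_G(N)`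
(the case needed: `|K| ∣ 9`, `|B : N| = 4`). -/
theorem bp2c9_le_of_card {G : Type u} [Group G] [Finite G] (N B K : Subgroup G) (hNB : N ≤ B)
    (hBN : B ≤ Subgroup.normalizer (N : Set G)) (hKB : K ≤ B) (hK : Nat.card K = 9)
    (hidx : Nat.card B = 4 * Nat.card N) : K ≤ N := by
  have hnorm : (N.subgroupOf B).Normal := Subgroup.normal_subgroupOf_of_le_normalizer hBN
  have hcardN : Nat.card (N.subgroupOf B) = Nat.card N :=
    Nat.card_congr (Subgroup.subgroupOfEquivOfLe hNB).toEquiv
  have hindex : (N.subgroupOf B).index = 4 := by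
    have h1 := Subgroup.card_mul_index (N.subgroupOf B)
    rw [hcardN, hidx] at h1
    have hpos : 0 < Nat.card N := Nat.card_pos
    have : Nat.card N * (N.subgroupOf B).index = Nat.card N * 4 := by rw [h1]; ring
    exact Nat.eq_of_mul_eq_mul_left hpos this
  intro h hh
  have h4 : (⟨h, hKB hh⟩ : B) ^ 4 ∈ N.subgroupOf B := by
    have := Subgroup.pow_index_mem (N.subgroupOf B) (⟨h, hKB hh⟩ : B)
    rwa [hindex] at this
  have h4' : h ^ 4 ∈ N := by
    have := Subgroup.mem_subgroupOf.mp h4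
    simpa using this
  have h9 : h ^ 9 = 1 := by
    have hd : orderOf (⟨h, hh⟩ : K) ∣ 9 := by
      rw [← hK]; exact orderOf_dvd_natCard _
    have : (⟨h, hh⟩ : K) ^ 9 = 1 := orderOf_dvd_iff_pow_eq_one.mp hd
    have := congrArg Subtype.val this
    simpa using this
  have h28 : (h ^ 4) ^ 7 = h := by
    rw [← pow_mul]
    calc h ^ (4 * 7) = (h ^ 9) ^ 3 * h := by rw [← pow_mul, ← pow_succ]
      _ = h := by rw [h9, one_pow, one_mul]
  rw [← h28]
  exact N.pow_mem h4' 7

theorem bp2c9_arith (m : ℕ) (h1 : m ∣ 36) (h2 : m % 2 = 1) (h3 : 3 ∣ m) : m = 3 ∨ m = 9 := by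
  have : m ≤ 36 := Nat.le_of_dvd (by norm_num) h1
  interval_cases m <;> omega

theorem stepC_nine (hq : Fintype.card F = 9) (H : Subgroup (PSL2 F)) (hBin : BinS H)
    (hodd : Odd (Nat.card H)) (h3 : 3 ∣ Nat.card H) : False := by
  classical
  obtain ⟨p, hpc⟩ := CharP.exists F
  have hpp : p.Prime := CharP.char_is_prime F p
  obtain ⟨n, _, hqp⟩ := FiniteField.card F p
  have hp3 : p = 3 := by
    have h1 : p ∣ 3 ^ 2 := by
      have : p ∣ Fintype.card F := by rw [hqp]; exact dvd_pow_self p n.ne_zero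
      rw [hq] at this; simpa using this
    exact (Nat.prime_dvd_prime_iff_eq hpp Nat.prime_three).mp (hpp.dvd_of_dvd_pow h1)
  subst hp3
  have : Fact (Nat.Prime 3) := ⟨Nat.prime_three⟩
  have hgcd : Nat.gcd 2 (Fintype.card F - 1) = 2 := by rw [hq]; norm_num
  rcases odd_dickson 3 (by rw [hq]; norm_num) H hodd with ⟨_, hd⟩ | ⟨g, hg⟩
  · rw [hgcd, hq] at hd
    have e5 : (9 + 1) / 2 = 5 := rfl
    have e4 : (9 - 1) / 2 = 4 := rfl
    rw [e5, e4] at hd
    rcases hd with hd | hd
    · have h35 : 3 ∣ 5 := h3.trans hd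
      omega
    · have h34 : 3 ∣ 4 := h3.trans hd
      omega
  · have e : H ≃* H.map (MulAut.conj g).toMonoidHom := (MulAut.conj g).subgroupMap H
    have hcard : Nat.card (H.map (MulAut.conj g).toMonoidHom) = Nat.card H :=
      (Nat.card_congr e.toEquiv).symm
    have hBin' : BinS (H.map (MulAut.conj g).toMonoidHom) := (binS_conj H g).mpr hBin
    have hPB := card_PB (F := F)
    rw [hgcd, hq] at hPB
    have hPB36 : Nat.card (PB F) = 36 := by omega
    have hdvd : Nat.card H ∣ 36 := by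
      rw [← hcard, ← hPB36]; exact Subgroup.card_dvd_of_le hg
    have hcases : Nat.card H = 3 ∨ Nat.card H = 9 :=
      bp2c9_arith _ hdvd (Nat.odd_iff.mp hodd) h3
    rcases hcases with h | h
    · exact not_binS_three_nine hq _ (hcard.trans h) hBin'
    · have hPU : Nat.card (PU F) = 9 := by rw [card_PU, hq]
      have hUB : PU F ≤ PB F := by
        rw [← normalizer_PU]; exact Subgroup.le_normalizer
      have hBN : PB F ≤ Subgroup.normalizer ((PU F : Subgroup (PSL2 F)) : Set (PSL2 F)) := by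
        rw [normalizer_PU]
      have hle : H.map (MulAut.conj g).toMonoidHom ≤ PU F :=
        bp2c9_le_of_card (PU F) (PB F) _ hUB hBN hg (hcard.trans h) (by rw [hPB36, hPU])
      have heq : H.map (MulAut.conj g).toMonoidHom = PU F :=
        Subgroup.eq_of_le_of_card_ge hle (by rw [hPU, hcard, h])
      have := (stepB 3 _ (le_of_eq heq.symm) hg hBin').1
      omega

end StepC9

end Cfsg.Agent.Lib.Helper28.BP2
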