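import Mathlib
import Cfsg.Agent.Lib.Helper28.BP2.Defs
import Cfsg.Agent.Lib.Helper9.BP2D3
import Cfsg.Agent.Lib.Helper20.BP2D4
import Cfsg.Agent.Lib.Helper1.BP2C3
import Cfsg.Agent.Lib.Helper18.BP2D6
import Cfsg.Agent.Lib.Helper20.BP2D7

set_option autoImplicit false

namespace Cfsg.Agent.Lib.Helper28.BP2

open Cfsg.Agent.Lib.helper14

universe u

section StepD8

variable {F : Type u} [Field F] [Fintype F]

theorem stepD (p : ℕ) [Fact p.Prime] [CharP F p] (h4 : 4 ≤ Fintype.card F)
    (h5 : Fintype.card F ≠ 5) (H : Subgroup (PSL2 F)) (hcyc : IsCyclic H)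
    (hodd : Odd (Nat.card H)) (hp : ¬ p ∣ Nat.card H) (h1 : H ≠ ⊥) (hBin : BinS H) :
    p = 2 ∧ Nat.card H = 3 ∧ ¬ 3 ∣ Fintype.card F - 1 := by
  classical
  have hpp : p.Prime := Fact.out
  obtain ⟨n, _, hq⟩ := FiniteField.card F p
  obtain ⟨g, hg⟩ := hcyc.exists_generator
  have hHa : H = Subgroup.zpowers (g : PSL2 F) := by
    apply le_antisymm
    · intro x hx
      obtain ⟨k, hk⟩ := Subgroup.mem_zpowers_iff.mp (hg ⟨x, hx⟩)
      refine Subgroup.mem_zpowers_iff.mpr ⟨k, ?_⟩
      have := congrArg (Subtype.val) hk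
      simpa using this
    · rw [Subgroup.zpowers_le]; exact g.2
  have hord : orderOf (g : PSL2 F) = Nat.card H := by
    rw [Subgroup.orderOf_coe]; exact orderOf_eq_card_of_forall_mem_zpowers hg
  have hk1 : Nat.card H ≠ 1 := by
    intro h; exact h1 (Subgroup.card_eq_one.mp h)
  have hk3 : 3 ≤ Nat.card H := by
    have := Nat.odd_iff.mp hodd
    have : 0 < Nat.card H := Nat.card_pos
    omega
  have hodd' : Odd (orderOf (g : PSL2 F)) := by rw [hord]; exact hodd
  have hp' : ¬ p ∣ orderOf (g : PSL2 F) := by rw [hord]; exact hp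
  have hoddq : p ≠ 2 → 7 ≤ Fintype.card F := by
    intro hp2
    have ho : Odd (Fintype.card F) := by rw [hq]; exact (hpp.odd_of_ne_two hp2).pow
    have := Nat.odd_iff.mp ho
    omega
  by_cases h3 : (g : PSL2 F) ^ 3 = 1
  · have hH3 : Nat.card H = 3 := by
      have hdvd : orderOf (g : PSL2 F) ∣ 3 := orderOf_dvd_of_pow_eq_one h3
      rw [hord] at hdvd
      have := Nat.le_of_dvd (by norm_num) hdvd
      omega
    have hp3 : p ≠ 3 := by
      rintro rfl; apply hp; rw [hH3]
    by_cases hp2 : p = 2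
    · subst hp2
      refine ⟨rfl, hH3, ?_⟩
      intro h3q
      exact not_binS_three_split h3q H hH3 hBin
    · exact absurd hBin (not_binS_three_odd p hp2 hp3 (hoddq hp2) H hH3)
  · exfalso
    have hprod : ∃ u v : PSL2 F, (g : PSL2 F) =
        (u * (g : PSL2 F) * u⁻¹) * (v * (g : PSL2 F) * v⁻¹) := by
      by_cases hp2 : p = 2
      · subst hp2
        apply prod_conj_char2
        intro h2
        have hdvd : orderOf (g : PSL2 F) ∣ 2 := orderOf_dvd_of_pow_eq_one h2
        rw [hord] at hdvd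
        have := Nat.le_of_dvd (by norm_num) hdvd
        omega
      · apply prod_conj_odd p hp2 (by have := hoddq hp2; omega) _ (by rw [hord]; omega) hp'
    obtain ⟨u, v, huv⟩ := hprod
    have := not_binS_cyclic p (g : PSL2 F) u v hodd' hp' h3 huv
    rw [← hHa] at this
    exact this hBin

end StepD8

end Cfsg.Agent.Lib.Helper28.BP2
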