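import Mathlib
import Cfsg.Agent.Lib.Helper28.BP2.Defs
import Cfsg.Agent.Lib.helper4.BP2T5
import Cfsg.Agent.Lib.Helper25.BP2E3
import Cfsg.Agent.Lib.Helper25.BP2E7

set_option autoImplicit false

namespace Cfsg.Agent.Lib.Helper28.BP2

open Cfsg.Agent.Lib.helper14

universe u

section Main

variable {F : Type u} [Field F] [Fintype F]

theorem main_mpr (H : Subgroup (PSL2 F))
    (h : H = ⊥ ∨ ((∃ a : ℕ, Fintype.card F = 2 ^ a) ∧ ∃ P : Sylow 2 (PSL2 F), H = P) ∨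
      ((∃ a : ℕ, Odd a ∧ Fintype.card F = 2 ^ a) ∧ Nat.card H = 3)) : BinS H := by
  rcases h with h | ⟨h, P, hP⟩ | ⟨⟨a, ha, hq⟩, h3⟩
  · rw [h]; exact binS_bot
  · rw [hP]; exact binS_sylow_two h P
  · exact binS_card_three a ha hq H h3

end Main

end Cfsg.Agent.Lib.Helper28.BP2
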