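import Mathlib
import Cfsg.Agent.Lib.Helper28.BP2.Defs
import Cfsg.Agent.Lib.Helper26.BP2T3
import Cfsg.Agent.Lib.helper6.BP2U5
import Cfsg.Agent.Lib.helper15.BP2U9
import Cfsg.Agent.Lib.Helper24.BP2U10
import Cfsg.Agent.Lib.helper4.BP2G1
import Cfsg.Agent.Lib.helper17.BP2B3
import Cfsg.Agent.Lib.Helper22.BP2AE2
import Cfsg.Agent.Lib.Helper28.BP2AO8
import Cfsg.Agent.Lib.Helper28.BP2C7
import Cfsg.Agent.Lib.Helper28.BP2C8
import Cfsg.Agent.Lib.Helper28.BP2C9
import Cfsg.Agent.Lib.Helper28.BP2D8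

set_option autoImplicit false

namespace Cfsg.Agent.Lib.Helper28.BP2

open Cfsg.Agent.Lib.helper14

universe u

section Main2

variable {F : Type u} [Field F] [Fintype F]

/-- a conjugate of a proper subgroup is proper. -/
theorem bp2m2_map_conj_ne_top {G : Type u} [Group G] (H : Subgroup G) (g : G) (hH : H ≠ ⊤) :
    H.map (MulAut.conj g).toMonoidHom ≠ ⊤ := by
  intro htop
  apply hH
  rw [eq_top_iff]
  intro x _
  have hx : g * x * g⁻¹ ∈ H.map (MulAut.conj g).toMonoidHom := by rw [htop]; trivial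
  obtain ⟨h, hh, hhx⟩ := Subgroup.mem_map.mp hx
  have : h = x := by
    have h1 : g * h * g⁻¹ = g * x * g⁻¹ := by simpa using hhx
    have h2 : g⁻¹ * (g * h * g⁻¹) * g = g⁻¹ * (g * x * g⁻¹) * g := by rw [h1]
    simpa [mul_assoc] using h2
  rw [← this]; exact hh

theorem main_mp (h4 : 4 ≤ Fintype.card F) (h5 : Fintype.card F ≠ 5) (H : Subgroup (PSL2 F))
    (hH : H ≠ ⊤) (hBin : BinS H) :
    H = ⊥ ∨ ((∃ a : ℕ, Fintype.card F = 2 ^ a) ∧ ∃ P : Sylow 2 (PSL2 F), H = P) ∨
      ((∃ a : ℕ, Odd a ∧ Fintype.card F = 2 ^ a) ∧ Nat.card H = 3) := by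
  classical
  obtain ⟨p, hpc⟩ := CharP.exists F
  have hpp : p.Prime := CharP.char_is_prime F p
  have : Fact p.Prime := ⟨hpp⟩
  obtain ⟨n, _, hq⟩ := FiniteField.card F p
  by_cases hbot : H = ⊥
  · left; exact hbot
  right
  -- facts for odd characteristic
  have hoddq : p ≠ 2 → Odd (Fintype.card F) ∧ 7 ≤ Fintype.card F := by
    intro hp2
    have hpo : Odd p := hpp.odd_of_ne_two hp2
    have ho : Odd (Fintype.card F) := by rw [hq]; exact hpo.pow
    refine ⟨ho, ?_⟩
    have := Nat.odd_iff.mp ho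
    omega
  by_cases h2 : 2 ∣ Nat.card H
  · by_cases hp2 : p = 2
    · subst hp2
      left
      exact ⟨card_eq_two_pow, stepA_even H hBin hH h2⟩
    · exfalso
      exact stepA_odd p hp2 (hoddq hp2).2 H hBin hH h2
  · have hodd : Odd (Nat.card H) := by
      rw [Nat.odd_iff]; omega
    by_cases hpH : p ∣ Nat.card H
    · exfalso
      have hp2 : p ≠ 2 := by
        rintro rfl; exact h2 hpH
      have h7 := (hoddq hp2).2
      by_cases h9 : Fintype.card F = 9
      · have hp3 : p = 3 := by
          have h1 : p ∣ 3 ^ 2 := by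
            have : p ∣ Fintype.card F := by rw [hq]; exact dvd_pow_self p n.ne_zero
            rw [h9] at this; simpa using this
          exact (Nat.prime_dvd_prime_iff_eq hpp Nat.prime_three).mp (hpp.dvd_of_dvd_pow h1)
        subst hp3
        exact stepC_nine h9 H hBin hodd hpH
      · obtain ⟨g, hg⟩ := stepC p hp2 h7 h9 H hBin hpH
        have hBin' : BinS (H.map (MulAut.conj g).toMonoidHom) := (binS_conj H g).mpr hBin
        have hH' := bp2m2_map_conj_ne_top H g hH
        have hle := le_PB_of_PU_le _ hg hH'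
        exact hp2 (stepB p _ hg hle hBin').1
    · have hcyc : IsCyclic H := by
        rcases odd_dickson p h4 H hodd with ⟨hc, _⟩ | ⟨g, hg⟩
        · exact hc
        · have e : H ≃* H.map (MulAut.conj g).toMonoidHom := (MulAut.conj g).subgroupMap H
          have hcard : Nat.card (H.map (MulAut.conj g).toMonoidHom) = Nat.card H :=
            (Nat.card_congr e.toEquiv).symm
          have hinf : H.map (MulAut.conj g).toMonoidHom ⊓ PU F = ⊥ := by
            apply Disjoint.eq_bot
            apply Subgroup.disjoint_of_coprime_natCard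
            rw [hcard, card_PU, hq]
            exact Nat.Coprime.pow_right _ ((Nat.Prime.coprime_iff_not_dvd hpp).mpr hpH).symm
          have := cyclic_of_le_PB _ hg hinf
          exact isCyclic_of_surjective e.symm.toMonoidHom e.symm.surjective
      obtain ⟨hp2, h3, hn3⟩ := stepD p h4 h5 H hcyc hodd hpH hbot hBin
      right
      subst hp2
      obtain ⟨a, ha⟩ := card_eq_two_pow (F := F)
      refine ⟨⟨a, ?_, ha⟩, h3⟩
      by_contra hne
      rw [Nat.not_odd_iff_even] at hne
      obtain ⟨b, rfl⟩ := hne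
      apply hn3
      rw [ha]
      have h4b : (2 : ℕ) ^ (b + b) = 4 ^ b := by
        rw [← two_mul, pow_mul]; norm_num
      rw [h4b]
      have h1 : 4 ^ b % 3 = 1 := by
        rw [Nat.pow_mod]; norm_num
      have h2 : 1 ≤ 4 ^ b := Nat.one_le_pow _ _ (by norm_num)
      apply Nat.dvd_of_mod_eq_zero
      omega

end Main2

end Cfsg.Agent.Lib.Helper28.BP2
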