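import Mathlib

set_option autoImplicit false

/-! Abstract "big cell" argument: in a group `G` with a normal subgroup `N` of index two carrying a
Bruhat-like decomposition relative to `H ⊓ N`, any two conjugates of `H` (not inside `N`) meet nontrivially. -/

namespace Cfsg.Agent.Lib.Helper28.BigCell

theorem main {G : Type*} [Group G] (N H : Subgroup G) [N.Normal] (hidx : N.index = 2)
    (hHN : ¬ H ≤ N) (W : Set G) (J : G) (hJ : J ∈ N)
    (h1 : ∀ g ∈ N, ∃ w ∈ W, ∃ b ∈ H ⊓ N, ∃ b' ∈ H ⊓ N, g = b * w * b')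
    (h2 : ∀ w ∈ W, (∃ c ∈ H ⊓ N, c ≠ 1 ∧ w⁻¹ * c * w ∈ H ⊓ N) ∨ w = J)
    (h3 : ∀ c ∈ H ⊓ N, J⁻¹ * c * J ∈ H ⊓ N → c = 1) (x : G) :
    ∃ y : G, y ≠ 1 ∧ y ∈ H ∧ x⁻¹ * y * x ∈ H := by
  obtain ⟨t, htH, htN⟩ := SetLike.not_le_iff_exists.mp hHN
  -- decompose x = n * h0
  obtain ⟨n, hn, h0, hh0, rfl⟩ : ∃ n ∈ N, ∃ h0 ∈ H, x = n * h0 := by
    by_cases hx : x ∈ N
    · exact ⟨x, hx, 1, H.one_mem, by simp⟩
    · refine ⟨x * t⁻¹, ?_, t, htH, by group⟩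
      rw [Subgroup.mul_mem_iff_of_index_two hidx]
      constructor
      · intro h; exact absurd h hx
      · intro h; exact absurd (N.inv_mem_iff.mp h) htN
  suffices hs : ∃ y : G, y ≠ 1 ∧ y ∈ H ∧ n⁻¹ * y * n ∈ H by
    obtain ⟨y, hy1, hyH, hyn⟩ := hs
    refine ⟨y, hy1, hyH, ?_⟩
    have : (n * h0)⁻¹ * y * (n * h0) = h0⁻¹ * (n⁻¹ * y * n) * h0 := by group
    rw [this]
    exact H.mul_mem (H.mul_mem (H.inv_mem hh0) hyn) hh0
  obtain ⟨w, hw, b, hb, b', hb', rfl⟩ := h1 n hn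
  suffices hs : ∃ y : G, y ≠ 1 ∧ y ∈ H ∧ w⁻¹ * y * w ∈ H by
    obtain ⟨y, hy1, hyH, hyw⟩ := hs
    refine ⟨b * y * b⁻¹, ?_, H.mul_mem (H.mul_mem hb.1 hyH) (H.inv_mem hb.1), ?_⟩
    · intro h
      apply hy1
      have : y = b⁻¹ * (b * y * b⁻¹) * b := by group
      rw [this, h]; group
    · have : (b * w * b')⁻¹ * (b * y * b⁻¹) * (b * w * b') = b'⁻¹ * (w⁻¹ * y * w) * b' := by group
      rw [this]
      exact H.mul_mem (H.mul_mem (H.inv_mem hb'.1) hyw) hb'.1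
  rcases h2 w hw with ⟨c, hc, hc1, hcw⟩ | rfl
  · exact ⟨c, hc1, hc.1, hcw.1⟩
  · -- the big cell
    have hconjU : ∀ a ∈ H ⊓ N, t * a * t⁻¹ ∈ H ⊓ N := by
      intro a ha
      refine ⟨H.mul_mem (H.mul_mem htH ha.1) (H.inv_mem htH), ?_⟩
      exact ‹N.Normal›.conj_mem a ha.2 t
    have hg : t⁻¹ * w * t ∈ N := by
      have := ‹N.Normal›.conj_mem w hJ t⁻¹
      simpa using this
    obtain ⟨w', hw', u1, hu1, u2, hu2, hg2⟩ := h1 _ hg
    rcases h2 w' hw' with ⟨c, hc, hc1, hcw⟩ | rfl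
    · exfalso
      apply hc1
      set c' := w'⁻¹ * c * w' with hc'
      have hA := hconjU (u1 * c * u1⁻¹)
        ((H ⊓ N).mul_mem ((H ⊓ N).mul_mem hu1 hc) ((H ⊓ N).inv_mem hu1))
      have hB := hconjU (u2⁻¹ * c' * u2)
        ((H ⊓ N).mul_mem ((H ⊓ N).mul_mem ((H ⊓ N).inv_mem hu2) hcw) hu2)
      have hkey : w⁻¹ * (t * (u1 * c * u1⁻¹) * t⁻¹) * w = t * (u2⁻¹ * c' * u2) * t⁻¹ := by
        have e1 : w = t * (u1 * w' * u2) * t⁻¹ := by rw [← hg2]; group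
        have e2 : w⁻¹ * (t * (u1 * c * u1⁻¹) * t⁻¹) * w
            = w⁻¹ * (t * (u1 * c * u1⁻¹) * t⁻¹) * (t * (u1 * w' * u2) * t⁻¹) := by
          conv_lhs => rw [e1]
          rw [← e1]
        rw [e2]
        have e3 : w⁻¹ = t * (u2⁻¹ * w'⁻¹ * u1⁻¹) * t⁻¹ := by
          rw [inv_eq_iff_mul_eq_one]
          conv_lhs => rw [e1]
          group
        rw [e3, hc']
        group
      have hA1 := h3 _ hA (by rw [hkey]; exact hB)
      have : u1 * c * u1⁻¹ = 1 := by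
        have : u1 * c * u1⁻¹ = t⁻¹ * (t * (u1 * c * u1⁻¹) * t⁻¹) * t := by group
        rw [this, hA1]; group
      have : c = u1⁻¹ * (u1 * c * u1⁻¹) * u1 := by group
      rw [this, ‹u1 * c * u1⁻¹ = 1›]; group
    · refine ⟨t * u1, ?_, H.mul_mem htH hu1.1, ?_⟩
      · intro h
        apply htN
        have : t = u1⁻¹ := eq_inv_of_mul_eq_one_left h
        rw [this]
        exact N.inv_mem hu1.2
      · have : w'⁻¹ * (t * u1) * w' = t * u2⁻¹ := by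
          have e1 : w' * t = t * (u1 * w' * u2) := by rw [← hg2]; group
          have e2 : t * u1 * w' = w' * t * u2⁻¹ := by rw [e1]; group
          calc w'⁻¹ * (t * u1) * w' = w'⁻¹ * (t * u1 * w') := by group
            _ = w'⁻¹ * (w' * t * u2⁻¹) := by rw [e2]
            _ = t * u2⁻¹ := by group
        rw [this]
        exact H.mul_mem htH (H.inv_mem hu2.1)

end Cfsg.Agent.Lib.Helper28.BigCell
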