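import Mathlib
import Cfsg.Agent.Lib.helper7.Br.Defs

set_option autoImplicit false

/-! Project Brandt (S4607), piece RK: the rank of an idempotent matrix with local-integer entries
does not change on reduction. -/

namespace Cfsg.Agent.Lib.Helper28.Br

open Cfsg.Agent.Lib.helper7 Cfsg.Agent.Lib.helper7.Br

/-- semicontinuity of the rank: reduction does not increase it -/
theorem rank_map_le {R K L : Type*} [CommRing R] [Field K] [Field L] (π : R →+* K)
    (hπ : Function.Surjective π) (inc : R →+* L) (hinc : Function.Injective inc)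
    {ι : Type*} [Fintype ι] [DecidableEq ι] (X : Matrix ι ι R) :
    (X.map π).rank ≤ (X.map inc).rank := by
  obtain ⟨V, U, e, -, -, h⟩ := Matrix.exists_rank_normal_form (X.map π)
  let f : Fin (X.map π).rank → ι := fun a => e.symm (Sum.inl a)
  have h1 : V.submatrix f id * X.map π * U.submatrix id f = 1 := by
    have h2 : (V * X.map π * U).submatrix f f =
        ((Matrix.fromBlocks (1 : Matrix (Fin (X.map π).rank) (Fin (X.map π).rank) K) 0 0
          (0 : Matrix (Fin (Fintype.card ι - (X.map π).rank))
            (Fin (Fintype.card ι - (X.map π).rank)) K)).submatrix e e).submatrix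
          f f := by rw [h]
    rw [Matrix.submatrix_submatrix] at h2
    have h3 : (V * X.map π * U).submatrix f f =
        V.submatrix f id * X.map π * U.submatrix id f := by
      ext a b
      simp [Matrix.mul_apply, Matrix.submatrix_apply]
    rw [← h3, h2]
    ext a b
    simp [f, Matrix.one_apply]
  -- lift
  choose Zf hZf using fun (a : Fin (X.map π).rank) (i : ι) => hπ (V.submatrix f id a i)
  choose Wf hWf using fun (i : ι) (a : Fin (X.map π).rank) => hπ (U.submatrix id f i a)
  let Z : Matrix (Fin (X.map π).rank) ι R := Matrix.of Zf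
  let W : Matrix ι (Fin (X.map π).rank) R := Matrix.of Wf
  have hZ : Z.map π = V.submatrix f id := by
    ext a i
    exact hZf a i
  have hW : W.map π = U.submatrix id f := by
    ext i a
    exact hWf i a
  have hT : (Z * X * W).map π = 1 := by
    rw [Matrix.map_mul, Matrix.map_mul, hZ, hW, h1]
  have hdet : (Z * X * W).det ≠ 0 := by
    intro h0
    have h4 : π (Z * X * W).det = ((Z * X * W).map π).det := by
      rw [RingHom.map_det]
      rfl
    rw [hT, h0, map_zero, Matrix.det_one] at h4
    exact zero_ne_one h4
  have hdet' : ((Z * X * W).map inc).det ≠ 0 := by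
    have h4 : inc (Z * X * W).det = ((Z * X * W).map inc).det := by
      rw [RingHom.map_det]
      rfl
    rw [← h4]
    intro h5
    rw [← map_zero inc] at h5
    exact hdet (hinc h5)
  have hrank : ((Z * X * W).map inc).rank = (X.map π).rank := by
    rw [Matrix.rank_of_isUnit _ ((Matrix.isUnit_iff_isUnit_det _).2 (IsUnit.mk0 _ hdet'))]
    exact Fintype.card_fin _
  calc (X.map π).rank = ((Z * X * W).map inc).rank := hrank.symm
    _ = (Z.map inc * X.map inc * W.map inc).rank := by rw [Matrix.map_mul, Matrix.map_mul]
    _ ≤ (Z.map inc * X.map inc).rank := Matrix.rank_mul_le_left _ _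
    _ ≤ (X.map inc).rank := Matrix.rank_mul_le_right _ _

/-- for an idempotent matrix over a field, the ranks of `E` and `1 - E` add up to the size -/
theorem rank_add_rank_one_sub {K : Type*} [Field K] {ι : Type*} [Fintype ι] [DecidableEq ι]
    (E : Matrix ι ι K) (hE : E * E = E) : E.rank + (1 - E).rank = Fintype.card ι := by
  have hf : IsIdempotentElem E.mulVecLin := by
    show E.mulVecLin * E.mulVecLin = E.mulVecLin
    rw [Module.End.mul_eq_comp, ← Matrix.mulVecLin_mul, hE]
  have h1 : (1 - E).mulVecLin = 1 - E.mulVecLin := by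
    ext v i
    simp
  have h2 : LinearMap.range (1 - E.mulVecLin) = LinearMap.ker E.mulVecLin := by
    rw [LinearMap.IsIdempotentElem.range_eq_ker_one_sub (p := 1 - E.mulVecLin) hf.one_sub, sub_sub_cancel]
  unfold Matrix.rank
  rw [h1, h2, LinearMap.finrank_range_add_finrank_ker, Module.finrank_fintype_fun_eq_card]

/-- RK : the rank of an idempotent matrix with local-integer entries does not change on reduction. -/
theorem rank_red_idem {M : Ideal Cfsg.AlgInt} (hMp : M.IsPrime) {ι : Type*} [Fintype ι]
    [DecidableEq ι]
    (E : Matrix ι ι ℂ) (hE : E * E = E) (hR : ∀ i j, Cfsg.MemLocalRing M (E i j)) :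
    (E.map (h7_res M hMp)).rank = E.rank := by
  let π : ↥(h7_locSubring M hMp) →+* h7_resRing M hMp := Ideal.Quotient.mk (h7_locIdeal M hMp)
  have hπ : Function.Surjective π := Ideal.Quotient.mk_surjective
  let inc : ↥(h7_locSubring M hMp) →+* ℂ := (h7_locSubring M hMp).subtype
  have hinc : Function.Injective inc := Subtype.val_injective
  let ER : Matrix ι ι ↥(h7_locSubring M hMp) := Matrix.of fun i j => ⟨E i j, hR i j⟩
  have hEinc : ER.map inc = E := by
    ext i j
    rfl
  have hEπ : ER.map π = E.map (h7_res M hMp) := by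
    ext i j
    simp only [Matrix.map_apply]
    rw [h7_res_of_mem hMp (hR i j)]
    rfl
  have hER : ER * ER = ER := by
    apply Matrix.map_injective hinc
    show (ER * ER).map inc = ER.map inc
    rw [Matrix.map_mul, hEinc, hE]
  have hEπ2 : ER.map π * ER.map π = ER.map π := by
    rw [← Matrix.map_mul, hER]
  have h1 : (ER.map π).rank ≤ (ER.map inc).rank := rank_map_le π hπ inc hinc ER
  have h2 : ((1 - ER).map π).rank ≤ ((1 - ER).map inc).rank := rank_map_le π hπ inc hinc (1 - ER)
  have h3 : (1 - ER).map π = 1 - ER.map π := by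
    rw [Matrix.map_sub (f := π) (fun a b => map_sub π a b), Matrix.map_one π (map_zero π) (map_one π)]
  have h4 : (1 - ER).map inc = 1 - ER.map inc := by
    rw [Matrix.map_sub (f := inc) (fun a b => map_sub inc a b),
      Matrix.map_one inc (map_zero inc) (map_one inc)]
  rw [h3, h4] at h2
  have h5 := rank_add_rank_one_sub (ER.map π) hEπ2
  have h6 := rank_add_rank_one_sub (ER.map inc) (by rw [hEinc]; exact hE)
  rw [← hEπ, ← hEinc]
  omega

end Cfsg.Agent.Lib.Helper28.Br
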