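import Mathlib
import Cfsg.Agent.Lib.helper15.Stb2
import Cfsg.Agent.Lib.Helper16.AP3

set_option autoImplicit false

/-! Bruhat decomposition of `SL_n(2)` relative to the upper unitriangular group, with the
big-cell facts needed for intersections of Sylow 2-subgroups. -/

namespace Cfsg.Agent.Lib.Helper28.BruhatF2

open Matrix
open Cfsg.Agent.Lib.helper15.Stb (pm pm_apply pm_mul pm_one pmGL pmGL_coe exists_bruhat)
open Cfsg.Agent.Lib.Helper16.AP (UT IsUT mem_UT_iff det_of_isUT)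

variable {n : ℕ}

abbrev S (n : ℕ) := Matrix.SpecialLinearGroup (Fin n) (ZMod 2)

theorem zmod2_eq_one : ∀ a : ZMod 2, a ≠ 0 → a = 1 := by decide

theorem det_pm (σ : Equiv.Perm (Fin n)) : (pm σ : Matrix (Fin n) (Fin n) (ZMod 2)).det = 1 := by
  apply zmod2_eq_one
  intro h
  have h1 : (pm σ : Matrix (Fin n) (Fin n) (ZMod 2)) * pm σ⁻¹ = 1 := by
    rw [← pm_mul, mul_inv_cancel, pm_one]
  have h2 := congrArg Matrix.det h1
  rw [Matrix.det_mul, h, zero_mul, Matrix.det_one] at h2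
  exact zero_ne_one h2

def PS (σ : Equiv.Perm (Fin n)) : S n := ⟨pm σ, det_pm σ⟩

theorem PS_coe (σ : Equiv.Perm (Fin n)) :
    ((PS σ : S n) : Matrix (Fin n) (Fin n) (ZMod 2)) = pm σ := rfl

theorem PS_mul (σ τ : Equiv.Perm (Fin n)) : PS (σ * τ) = PS σ * PS τ :=
  Subtype.ext (pm_mul σ τ)

theorem PS_one : PS (1 : Equiv.Perm (Fin n)) = 1 := Subtype.ext pm_one

theorem PS_inv (σ : Equiv.Perm (Fin n)) : (PS σ)⁻¹ = PS σ⁻¹ := by
  rw [inv_eq_iff_mul_eq_one, ← PS_mul, mul_inv_cancel, PS_one]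

theorem conj_apply (σ : Equiv.Perm (Fin n)) (c : S n) (i j : Fin n) :
    (((PS σ)⁻¹ * c * PS σ : S n) : Matrix (Fin n) (Fin n) (ZMod 2)) i j
      = (c : Matrix (Fin n) (Fin n) (ZMod 2)) (σ i) (σ j) := by
  rw [PS_inv]
  simp only [Matrix.SpecialLinearGroup.coe_mul, PS_coe]
  rw [Matrix.mul_apply, Finset.sum_eq_single (σ j)]
  · rw [pm_apply, if_pos rfl, mul_one, Matrix.mul_apply, Finset.sum_eq_single (σ i)]
    · rw [pm_apply, if_pos (by simp), one_mul]
    · intro k _ hk
      rw [pm_apply, if_neg, zero_mul]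
      intro h
      apply hk
      rw [h]
      simp
    · intro h; exact absurd (Finset.mem_univ _) h
  · intro l _ hl
    rw [pm_apply, if_neg hl, mul_zero]
  · intro h; exact absurd (Finset.mem_univ _) h

theorem bruhat (g : S n) : ∃ σ : Equiv.Perm (Fin n), ∃ b ∈ UT n (ZMod 2), ∃ b' ∈ UT n (ZMod 2),
    g = b * PS σ * b' := by
  obtain ⟨σ, b, hb, b', hb', hg⟩ := exists_bruhat (Matrix.SpecialLinearGroup.toGL g)
  have key : ∀ x : GL (Fin n) (ZMod 2), x ∈ Cfsg.upperTriangularGL n (ZMod 2) →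
      ∃ y : S n, y ∈ UT n (ZMod 2) ∧
        (y : Matrix (Fin n) (Fin n) (ZMod 2)) = (x : Matrix (Fin n) (Fin n) (ZMod 2)) := by
    intro x hx
    have hx' : (x : Matrix (Fin n) (Fin n) (ZMod 2)).BlockTriangular id := hx
    have hdet : (x : Matrix (Fin n) (Fin n) (ZMod 2)).det = 1 :=
      zmod2_eq_one _ (Matrix.isUnits_det_units x).ne_zero
    have hut : IsUT (x : Matrix (Fin n) (Fin n) (ZMod 2)) := by
      refine ⟨fun i j hji => hx' hji, fun i => ?_⟩
      apply zmod2_eq_one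
      intro h0
      have := Matrix.det_of_isUpperTriangular hx'
      have hz : ∏ k, (x : Matrix (Fin n) (Fin n) (ZMod 2)) k k = 0 :=
        Finset.prod_eq_zero (Finset.mem_univ i) h0
      rw [hdet, hz] at this
      exact one_ne_zero this
    exact ⟨⟨x, hdet⟩, hut, rfl⟩
  obtain ⟨y, hy, hyx⟩ := key b hb
  obtain ⟨y', hy', hyx'⟩ := key b' hb'
  refine ⟨σ, y, hy, y', hy', ?_⟩
  apply Subtype.ext
  have h := congrArg (fun x : GL (Fin n) (ZMod 2) => (x : Matrix (Fin n) (Fin n) (ZMod 2))) hg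
  simp only [Matrix.SpecialLinearGroup.coe_mul, PS_coe, hyx, hyx']
  simpa [pmGL_coe] using h

theorem dichotomy (σ : Equiv.Perm (Fin n)) :
    (∃ c ∈ UT n (ZMod 2), c ≠ 1 ∧ (PS σ)⁻¹ * c * PS σ ∈ UT n (ZMod 2)) ∨ σ = Fin.revPerm := by
  by_cases h : ∃ a b : Fin n, a < b ∧ σ a < σ b
  · left
    obtain ⟨a, b, hab, hσ⟩ := h
    let M : Matrix (Fin n) (Fin n) (ZMod 2) :=
      Matrix.of fun i j => if i = j then 1 else if i = σ a ∧ j = σ b then 1 else 0
    have hMa : ∀ i j, M i j = if i = j then 1 else if i = σ a ∧ j = σ b then 1 else 0 :=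
      fun i j => rfl
    have hM : IsUT M := by
      refine ⟨fun i j hji => ?_, fun i => ?_⟩
      · rw [hMa, if_neg (ne_of_gt hji), if_neg]
        rintro ⟨rfl, rfl⟩
        exact absurd hσ (not_lt.mpr hji.le)
      · rw [hMa, if_pos rfl]
    let c : S n := ⟨M, det_of_isUT M hM⟩
    have hcM : (c : Matrix (Fin n) (Fin n) (ZMod 2)) = M := rfl
    refine ⟨c, hM, ?_, ?_⟩
    · intro h1
      have h2 := congrArg (fun s : S n => (s : Matrix (Fin n) (Fin n) (ZMod 2)) (σ a) (σ b)) h1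
      simp only [Matrix.SpecialLinearGroup.coe_one] at h2
      rw [Matrix.one_apply_ne (ne_of_lt hσ)] at h2
      change M (σ a) (σ b) = 0 at h2
      rw [hMa, if_neg (ne_of_lt hσ), if_pos ⟨rfl, rfl⟩] at h2
      exact one_ne_zero h2
    · rw [mem_UT_iff]
      refine ⟨fun i j hji => ?_, fun i => ?_⟩
      · rw [conj_apply, hcM]
        rw [hMa, if_neg (fun e => (ne_of_gt hji) (σ.injective e)), if_neg]
        rintro ⟨e1, e2⟩
        have e1' := σ.injective e1
        have e2' := σ.injective e2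
        rw [e1', e2'] at hji
        exact absurd hab (not_lt.mpr hji.le)
      · rw [conj_apply, hcM]
        rw [hMa, if_pos rfl]
  · right
    push Not at h
    have hanti : ∀ a b : Fin n, a < b → σ b < σ a := by
      intro a b hab
      refine lt_of_le_of_ne (h a b hab) ?_
      intro e
      exact (ne_of_lt hab) (σ.injective e).symm
    have hmono : StrictMono (fun i : Fin n => σ i.rev) := by
      intro i j hij
      exact hanti _ _ (Fin.rev_lt_rev.mpr hij)
    have hsurj : Function.Surjective (fun i : Fin n => σ i.rev) := by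
      intro y
      refine ⟨(σ.symm y).rev, ?_⟩
      simp
    have hsub : StrictMono.orderIsoOfSurjective _ hmono hsurj = OrderIso.refl (Fin n) :=
      Subsingleton.elim _ _
    ext i
    have h1 := congrArg (fun f : Fin n ≃o Fin n => f i.rev) hsub
    simp only [StrictMono.coe_orderIsoOfSurjective, OrderIso.refl_apply, Fin.rev_rev] at h1
    rw [Fin.revPerm_apply, h1]

theorem big_cell_inj (c : S n) (hc : c ∈ UT n (ZMod 2))
    (h : (PS Fin.revPerm)⁻¹ * c * PS Fin.revPerm ∈ UT n (ZMod 2)) : c = 1 := by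
  apply Subtype.ext
  ext i j
  rw [mem_UT_iff] at hc h
  rw [Matrix.SpecialLinearGroup.coe_one]
  rcases lt_trichotomy i j with hij | rfl | hij
  · rw [Matrix.one_apply_ne (ne_of_lt hij)]
    have := h.1 i.rev j.rev (Fin.rev_lt_rev.mpr hij)
    rw [conj_apply, Fin.revPerm_apply, Fin.revPerm_apply, Fin.rev_rev, Fin.rev_rev] at this
    exact this
  · rw [Matrix.one_apply_eq]
    exact hc.2 i
  · rw [Matrix.one_apply_ne (ne_of_gt hij)]
    exact hc.1 i j hij

end Cfsg.Agent.Lib.Helper28.BruhatF2
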