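import Mathlib
import Cfsg.Agent.Lib.Helper10.C3Q.Defs
import Cfsg.Agent.Lib.Helper28.C3QKGENh28

set_option autoImplicit false
set_option linter.unusedVariables false

/-!
# Project C3Q, row KGEN (`k_gen`), verbatim from `Helper10/C3Q/Skel.lean.txt` (helper28; one-liner on `c3qkgen_h28`).
-/

namespace Cfsg.Agent.Lib.Helper10.C3Q

open Matrix Module Cfsg.Agent.Lib.Helper13.OTS Cfsg.Agent.Lib.Helper16

universe u

variable {F : Type u} [Field F] {ι : Type} [Fintype ι] [DecidableEq ι]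

/-- KGEN [M]: pick `M ∈ K` not scalar (`finrank = 2`); `1, M, M²` are dependent in `K`: `M² = a M + b`; `A := M - (a/2)`, `δ := a²/4 + b`.  `δ` is not a square:
`(A - c)(A + c) = 0` in the field `K` (non-zero elements are invertible) would make `A` scalar.  `{α + β A}` is a 2-dimensional subspace of `K`. -/
theorem k_gen (h2 : (2 : F) ≠ 0) (K : Subalgebra F (Matrix ι ι F))
    (hK : Cfsg.Geo.IsFieldSubalgebra 2 K) :
    ∃ (δ : F) (A : Matrix ι ι F), A ∈ K ∧ ¬ IsSquare δ ∧ A * A = δ • (1 : Matrix ι ι F) ∧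
      ∀ M : Matrix ι ι F, M ∈ K ↔ ∃ α β : F, M = α • (1 : Matrix ι ι F) + β • A := by
  exact c3qkgen_h28 h2 K hK

end Cfsg.Agent.Lib.Helper10.C3Q
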