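import Mathlib
import Cfsg.Agent.Lib.Helper10.C3Q.Defs
import Cfsg.Agent.Lib.Helper16.SpinA

set_option autoImplicit false
set_option linter.unusedVariables false
set_option linter.unusedSectionVars false

/-!
# Project C3Q, sub-lemmas for SPOS (`s_local_pos`) (helper28).
-/

namespace Cfsg.Agent.Lib.Helper10.C3Q

open Matrix Module Cfsg.Agent.Lib.Helper13.OTS Cfsg.Agent.Lib.Helper16

universe u

variable {F : Type u} [Field F] {ι : Type} [Fintype ι] [DecidableEq ι]

/-- the eigenspaces of an involutory isometry (`2 ≠ 0`): orthogonal, complementary, both non-degenerate -/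
theorem c3qsposaux_split {V : Type*} [AddCommGroup V] [Module F V] (h2 : (2 : F) ≠ 0)
    (Q : QuadraticForm F V) (hQ : ∀ u, (∀ v, QuadraticMap.polar (⇑Q) u v = 0) → u = 0)
    (X : Module.End F V) (hXX : ∀ v, X (X v) = v) (hiso : ∀ v, Q (X v) = Q v) :
    (∀ v, v ∈ LinearMap.ker (X - 1) ↔ X v = v) ∧ (∀ v, v ∈ LinearMap.ker (X + 1) ↔ X v = -v) ∧
    (∀ u ∈ LinearMap.ker (X - 1), ∀ v ∈ LinearMap.ker (X + 1), QuadraticMap.polar (⇑Q) u v = 0) ∧
    IsCompl (LinearMap.ker (X - 1)) (LinearMap.ker (X + 1)) ∧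
    (∀ u ∈ LinearMap.ker (X - 1),
      (∀ v ∈ LinearMap.ker (X - 1), QuadraticMap.polar (⇑Q) u v = 0) → u = 0) ∧
    (∀ u ∈ LinearMap.ker (X + 1),
      (∀ v ∈ LinearMap.ker (X + 1), QuadraticMap.polar (⇑Q) u v = 0) → u = 0) := by
  have hmemp : ∀ v, v ∈ LinearMap.ker (X - 1) ↔ X v = v := by
    intro v
    rw [LinearMap.mem_ker, LinearMap.sub_apply, Module.End.one_apply, sub_eq_zero]
  have hmemm : ∀ v, v ∈ LinearMap.ker (X + 1) ↔ X v = -v := by
    intro v
    rw [LinearMap.mem_ker, LinearMap.add_apply, Module.End.one_apply, add_eq_zero_iff_eq_neg]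
  have hpol : ∀ u v, QuadraticMap.polar (⇑Q) (X u) (X v) = QuadraticMap.polar (⇑Q) u v := by
    intro u v
    unfold QuadraticMap.polar
    rw [← map_add, hiso, hiso, hiso]
  have horth : ∀ u ∈ LinearMap.ker (X - 1), ∀ v ∈ LinearMap.ker (X + 1),
      QuadraticMap.polar (⇑Q) u v = 0 := by
    intro u hu v hv
    have h1 := hpol u v
    rw [(hmemp u).1 hu, (hmemm v).1 hv, QuadraticMap.polar_neg_right] at h1
    have h3 : (2 : F) * QuadraticMap.polar (⇑Q) u v = 0 := by linear_combination -h1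
    rcases mul_eq_zero.1 h3 with h | h
    · exact absurd h h2
    · exact h
  have hdec : ∀ w : V, ∃ a ∈ LinearMap.ker (X - 1), ∃ b ∈ LinearMap.ker (X + 1), w = a + b := by
    intro v
    refine ⟨(2 : F)⁻¹ • (v + X v), ?_, (2 : F)⁻¹ • (v - X v), ?_, ?_⟩
    · rw [hmemp, map_smul, map_add, hXX, add_comm]
    · rw [hmemm, map_smul, map_sub, hXX, ← smul_neg, neg_sub]
    · rw [← smul_add]
      have : v + X v + (v - X v) = (2 : F) • v := by rw [two_smul]; abel
      rw [this, smul_smul, inv_mul_cancel₀ h2, one_smul]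
  have hcompl : IsCompl (LinearMap.ker (X - 1)) (LinearMap.ker (X + 1)) := by
    constructor
    · rw [Submodule.disjoint_def]
      intro v hv1 hv2
      have h1 := (hmemp v).1 hv1
      have h3 := (hmemm v).1 hv2
      rw [h1] at h3
      have h4 : (2 : F) • v = 0 := by rw [two_smul]; nth_rewrite 1 [h3]; exact neg_add_cancel v
      exact (smul_eq_zero.1 h4).resolve_left h2
    · rw [codisjoint_iff, eq_top_iff]
      intro v _
      obtain ⟨a, ha, b, hb, rfl⟩ := hdec v
      exact Submodule.add_mem_sup ha hb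
  refine ⟨hmemp, hmemm, horth, hcompl, ?_, ?_⟩
  · intro u hu hall
    apply hQ
    intro w
    obtain ⟨a, ha, b, hb, rfl⟩ := hdec w
    rw [QuadraticMap.polar_add_right, hall a ha, horth u hu b hb, add_zero]
  · intro u hu hall
    apply hQ
    intro w
    obtain ⟨a, ha, b, hb, rfl⟩ := hdec w
    rw [QuadraticMap.polar_add_right, hall b hb, QuadraticMap.polar_comm, horth a ha u hu, add_zero]

/-- an isometry mapping `a` to `± a` commutes with the reflection in `a` -/
theorem c3qsposaux_refl_comm (Q : QuadraticForm F (ι → F)) (x : ↥(Cfsg.isometryGroup F (⇑Q)))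
    (a : ι → F) (ha : Q a ≠ 0)
    (hxa : ((x : GL ι F) : Matrix ι ι F) *ᵥ a = a ∨ ((x : GL ι F) : Matrix ι ι F) *ᵥ a = -a) :
    x * reflG Q a ha = reflG Q a ha * x := by
  have hu' : Q (((x : GL ι F) : Matrix ι ι F) *ᵥ a) ≠ 0 := by
    rw [iso_pres (⇑Q) x]
    exact ha
  have h1 := refl_conj Q x a ha hu'
  have h3 : reflG Q (((x : GL ι F) : Matrix ι ι F) *ᵥ a) hu' = reflG Q a ha := by
    rcases hxa with h | h
    · apply iso_ext'
      rw [reflG_coe, reflG_coe, h]
    · have hna : Q (-a) ≠ 0 := by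
        rw [QuadraticMap.map_neg]
        exact ha
      rw [← reflG_neg Q a ha hna]
      apply iso_ext'
      rw [reflG_coe, reflG_coe, h]
  rw [h3] at h1
  calc x * reflG Q a ha = (x * reflG Q a ha * x⁻¹) * x := by group
    _ = reflG Q a ha * x := by rw [h1]

/-- two matrices that agree on a spanning family are equal -/
theorem c3qsposaux_ext {κ : Type*} (b : κ → (ι → F)) (hb : ⊤ ≤ Submodule.span F (Set.range b))
    (M N : Matrix ι ι F) (h : ∀ k, M *ᵥ b k = N *ᵥ b k) : M = N := by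
  rw [Matrix.ext_iff_mulVec]
  intro v
  have hv : v ∈ Submodule.span F (Set.range b) := hb Submodule.mem_top
  induction hv using Submodule.span_induction with
  | mem y hy =>
    obtain ⟨k, rfl⟩ := hy
    exact h k
  | zero => rw [Matrix.mulVec_zero, Matrix.mulVec_zero]
  | add y z _ _ hy hz => rw [Matrix.mulVec_add, Matrix.mulVec_add, hy, hz]
  | smul c y _ hy => rw [Matrix.mulVec_smul, Matrix.mulVec_smul, hy]

end Cfsg.Agent.Lib.Helper10.C3Q
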