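import Cfsg.Agent.S0398

set_option autoImplicit false

namespace Cfsg.Agent.Lib.Helper28.Co2E

open Cfsg Cfsg.Spor Cfsg.Agent.S0398

/-- the integer matrix of an automorphism on the vectors `8 e_i` -/
def cmat (f : ↥Co0) : Matrix GolayPt GolayPt ℤ := fun j i => (f.1 (ev i)).1 j

theorem eight_apply (f : ↥Co0) (v : leechLattice) (j : GolayPt) :
    8 * (f.1 v).1 j = ∑ i, cmat f j i * v.1 i := by
  have h1 : toHom f ((8 : ℤ) • v) = (8 : ℤ) • toHom f v := map_zsmul _ _ _
  rw [eight_smul v, map_sum] at h1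
  have h2 := congrArg (fun w : leechLattice => w.1 j) h1
  simp only [AddSubgroup.val_finsetSum, Finset.sum_apply] at h2
  have h3 : ∀ i, (toHom f ((v.1 i) • ev i)).1 j = cmat f j i * v.1 i := by
    intro i
    rw [map_zsmul, toHom_apply]
    show (v.1 i) • (f.1 (ev i)).1 j = _
    rw [smul_eq_mul, mul_comm]
    rfl
  rw [Finset.sum_congr rfl (fun i _ => h3 i)] at h2
  have h4 : ((8 : ℤ) • toHom f v).1 j = 8 * (f.1 v).1 j := rfl
  rw [h4] at h2
  exact h2.symm

theorem cmat_mul (f g : ↥Co0) : (8 : ℤ) • cmat (f * g) = cmat f * cmat g := by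
  ext j i
  rw [Matrix.smul_apply, Matrix.mul_apply, smul_eq_mul]
  have := eight_apply f (g.1 (ev i)) j
  exact this

theorem cmat_one : cmat 1 = (8 : ℤ) • (1 : Matrix GolayPt GolayPt ℤ) := by
  ext j i
  rw [Matrix.smul_apply, smul_eq_mul]
  show ((ev i).1 j) = 8 * (1 : Matrix GolayPt GolayPt ℤ) j i
  rw [ev_val]
  by_cases h : j = i
  · subst h; simp
  · rw [Pi.single_eq_of_ne h, Matrix.one_apply_ne h, mul_zero]

/-- reduction modulo 13, rescaled -/
def amat (f : ↥Co0) : Matrix GolayPt GolayPt (ZMod 13) :=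
  (5 : ZMod 13) • (cmat f).map (Int.castRingHom (ZMod 13))

theorem five_eight : (5 : ZMod 13) * 8 = 1 := by decide

theorem amat_mul (f g : ↥Co0) : amat (f * g) = amat f * amat g := by
  unfold amat
  have h1 := congrArg (fun M : Matrix GolayPt GolayPt ℤ => M.map (Int.castRingHom (ZMod 13)))
    (cmat_mul f g)
  simp only [Matrix.map_mul] at h1
  rw [Matrix.smul_mul, Matrix.mul_smul, ← h1, smul_smul]
  have h2 : ((8 : ℤ) • cmat (f * g)).map (Int.castRingHom (ZMod 13)) =
      (8 : ZMod 13) • (cmat (f * g)).map (Int.castRingHom (ZMod 13)) := by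
    ext j i
    simp only [Matrix.map_apply, Matrix.smul_apply, smul_eq_mul]
    rw [map_mul]
    rfl
  rw [h2, smul_smul]
  have : (5 : ZMod 13) * 5 * 8 = 5 := by decide
  rw [this]

theorem amat_one : amat 1 = 1 := by
  unfold amat
  rw [cmat_one]
  ext j i
  simp only [Matrix.smul_apply, Matrix.map_apply, smul_eq_mul]
  by_cases h : j = i
  · subst h
    simp
    exact five_eight
  · simp [Matrix.one_apply_ne h]

/-- the 24-dimensional representation modulo 13 -/
def aHom : ↥Co0 →* Matrix GolayPt GolayPt (ZMod 13) where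
  toFun := amat
  map_one' := amat_one
  map_mul' := amat_mul

/-- reduction of an integer vector modulo 13 -/
def red (x : GolayPt → ℤ) : GolayPt → ZMod 13 := fun p => ((x p : ℤ) : ZMod 13)

theorem amat_mulVec_red (f : ↥Co0) (v : leechLattice) :
    (amat f).mulVec (red v.1) = red (f.1 v).1 := by
  funext j
  unfold amat red
  rw [Matrix.smul_mulVec, Pi.smul_apply, Matrix.mulVec, dotProduct, smul_eq_mul]
  have h1 := eight_apply f v j
  have h2 : (∑ i, (cmat f).map (Int.castRingHom (ZMod 13)) j i * ((v.1 i : ℤ) : ZMod 13)) =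
      ((8 * (f.1 v).1 j : ℤ) : ZMod 13) := by
    rw [h1]
    push_cast
    rfl
  rw [h2]
  push_cast
  rw [← mul_assoc, five_eight, one_mul]

end Cfsg.Agent.Lib.Helper28.Co2E
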