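import Cfsg.Agent.Lib.Helper28.Co2A

set_option autoImplicit false

namespace Cfsg.Agent.Lib.Helper28.Co2E

open Cfsg Cfsg.Spor Cfsg.Agent.S0398

/-- the ambient space modulo 13 -/
abbrev V13 : Type := GolayPt → ZMod 13

instance fact13 : Fact (Nat.Prime 13) := ⟨by norm_num⟩

/-- the fixed vector `(4, 4, 0, …)` modulo 13 -/
def ubar : V13 := red vecU

/-- the line it spans -/
def Ub : Submodule (ZMod 13) V13 := Submodule.span (ZMod 13) {ubar}

/-- the linear map of an automorphism -/
noncomputable def lmap (f : ↥Co0) : V13 →ₗ[ZMod 13] V13 := Matrix.toLin' (amat f)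

theorem lmap_mul (f g : ↥Co0) : lmap (f * g) = lmap f ∘ₗ lmap g := by
  unfold lmap; rw [amat_mul, Matrix.toLin'_mul]

theorem lmap_one : lmap 1 = LinearMap.id := by
  unfold lmap; rw [amat_one, Matrix.toLin'_one]

theorem lmap_red (f : ↥Co0) (v : leechLattice) : lmap f (red v.1) = red (f.1 v).1 := by
  unfold lmap; rw [Matrix.toLin'_apply]; exact amat_mulVec_red f v

/-- `Co2` inside `Co0` -/
def toCo0 : ↥Co2 →* ↥Co0 := Subgroup.inclusion (inf_le_left : Co2 ≤ Co0)

theorem toCo0_val (f : ↥Co2) : (toCo0 f).1 = f.1 := rfl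

theorem fix_leechU (f : ↥Co2) : f.1 leechU = leechU := f.2.2

theorem lmap_ubar (f : ↥Co2) : lmap (toCo0 f) ubar = ubar := by
  have h := lmap_red (toCo0 f) leechU
  rw [toCo0_val, fix_leechU] at h
  exact h

theorem Ub_le_comap (f : ↥Co2) : Ub ≤ Ub.comap (lmap (toCo0 f)) := by
  intro x hx
  obtain ⟨c, rfl⟩ := Submodule.mem_span_singleton.mp hx
  rw [Submodule.mem_comap, map_smul, lmap_ubar]
  exact Submodule.smul_mem _ _ (Submodule.subset_span rfl)

/-- the induced map on the 23-dimensional quotient -/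
noncomputable def qmap (f : ↥Co2) : (V13 ⧸ Ub) →ₗ[ZMod 13] (V13 ⧸ Ub) :=
  Ub.mapQ Ub (lmap (toCo0 f)) (Ub_le_comap f)

theorem qmap_mk (f : ↥Co2) (x : V13) :
    qmap f (Submodule.Quotient.mk x) = Submodule.Quotient.mk (lmap (toCo0 f) x) := rfl

/-- the 23-dimensional representation -/
noncomputable def qHom : ↥Co2 →* Module.End (ZMod 13) (V13 ⧸ Ub) where
  toFun := qmap
  map_one' := by
    apply LinearMap.ext
    intro x
    obtain ⟨x, rfl⟩ := Submodule.Quotient.mk_surjective Ub x
    rw [qmap_mk, map_one, lmap_one]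
    rfl
  map_mul' := by
    intro f g
    apply LinearMap.ext
    intro x
    obtain ⟨x, rfl⟩ := Submodule.Quotient.mk_surjective Ub x
    rw [qmap_mk, map_mul, lmap_mul]
    rfl

theorem ubar_ne : ubar ≠ 0 := by
  intro h
  have := congrFun h none
  revert this
  decide

theorem finrank_quot : Module.finrank (ZMod 13) (V13 ⧸ Ub) = 23 := by
  have h1 := Submodule.finrank_quotient_add_finrank Ub
  have h2 : Module.finrank (ZMod 13) Ub = 1 := finrank_span_singleton ubar_ne
  have h3 : Module.finrank (ZMod 13) V13 = 24 := by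
    rw [Module.finrank_fintype_fun_eq_card]
    decide
  omega

end Cfsg.Agent.Lib.Helper28.Co2E
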