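import Cfsg.Agent.Lib.Helper28.Co2B

set_option autoImplicit false

namespace Cfsg.Agent.Lib.Helper28.Co2E

open Cfsg Cfsg.Spor Cfsg.Agent.S0398

theorem sqNorm_add (x y : GolayPt → ℤ) :
    sqNorm (x + y) = sqNorm x + 2 * dotInt x y + sqNorm y := by
  unfold sqNorm dotInt
  rw [Finset.mul_sum, ← Finset.sum_add_distrib, ← Finset.sum_add_distrib]
  apply Finset.sum_congr rfl
  intro i _
  simp only [Pi.add_apply]
  ring

/-- automorphisms preserve the dot product -/
theorem dot_preserved (f : ↥Co0) (v w : leechLattice) :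
    dotInt (f.1 v).1 (f.1 w).1 = dotInt v.1 w.1 := by
  have h1 := f.2.2 (v + w)
  rw [f.2.1 v w] at h1
  have h2 : ((f.1 v + f.1 w : leechLattice) : GolayPt → ℤ) = (f.1 v).1 + (f.1 w).1 := rfl
  have h3 : ((v + w : leechLattice) : GolayPt → ℤ) = v.1 + w.1 := rfl
  rw [h2, h3, sqNorm_add, sqNorm_add, f.2.2 v, f.2.2 w] at h1
  linarith

theorem sqNorm_vecU : dotInt vecU vecU = 32 := by decide

theorem coord_sq_le (a : GolayPt → ℤ) (j : GolayPt) : a j ^ 2 ≤ sqNorm a := by
  unfold sqNorm
  exact Finset.single_le_sum (f := fun i => a i ^ 2) (fun i _ => sq_nonneg (a i)) (Finset.mem_univ j)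

theorem sqNorm_ev (i : GolayPt) : sqNorm (ev i).1 = 64 := by
  unfold sqNorm
  rw [ev_val, Finset.sum_eq_single i]
  · simp
  · intro b _ hb
    rw [Pi.single_eq_of_ne hb]; norm_num
  · intro h; exact absurd (Finset.mem_univ i) h

/-- an element of `Co2` acting trivially on the quotient modulo 13 is the identity -/
theorem eq_one_of_qmap (g : ↥Co2) (hg : qHom g = 1) : g = 1 := by
  -- congruence modulo the line
  have h1 : ∀ x : V13, lmap (toCo0 g) x - x ∈ Ub := by
    intro x
    have h := LinearMap.congr_fun hg (Submodule.Quotient.mk x)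
    have h' : qmap g (Submodule.Quotient.mk x) = Submodule.Quotient.mk x := h
    rw [qmap_mk] at h'
    exact (Submodule.Quotient.eq Ub).mp h'
  -- congruence modulo 13 for lattice vectors
  have h2 : ∀ (v : leechLattice) (j : GolayPt), (13 : ℤ) ∣ (g.1 v).1 j - v.1 j := by
    intro v j
    obtain ⟨c, hc⟩ := Submodule.mem_span_singleton.mp (h1 (red v.1))
    rw [lmap_red, toCo0_val] at hc
    have hcj : ∀ p : GolayPt, (((g.1 v).1 p - v.1 p : ℤ) : ZMod 13) = c * ((vecU p : ℤ) : ZMod 13) := by
      intro p
      have := congrFun hc p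
      simp only [Pi.smul_apply, Pi.sub_apply, smul_eq_mul] at this
      push_cast
      exact this.symm
    have hdot : dotInt (g.1 v).1 vecU = dotInt v.1 vecU := by
      have := dot_preserved (toCo0 g) v leechU
      rw [toCo0_val, fix_leechU] at this
      exact this
    have hsum : (∑ p, ((g.1 v).1 p - v.1 p) * vecU p) = 0 := by
      have : (∑ p, ((g.1 v).1 p - v.1 p) * vecU p) = dotInt (g.1 v).1 vecU - dotInt v.1 vecU := by
        unfold dotInt
        rw [← Finset.sum_sub_distrib]
        apply Finset.sum_congr rfl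
        intro p _
        ring
      rw [this, hdot, sub_self]
    have hc0 : c = 0 := by
      have h3 := congrArg (fun z : ℤ => (z : ZMod 13)) hsum
      simp only [Int.cast_sum, Int.cast_mul, Int.cast_zero] at h3
      have h4 : ∀ p : GolayPt, (((g.1 v).1 p - v.1 p : ℤ) : ZMod 13) * ((vecU p : ℤ) : ZMod 13) =
          c * (((vecU p * vecU p : ℤ)) : ZMod 13) := by
        intro p
        rw [hcj p]; push_cast; ring
      rw [Finset.sum_congr rfl (fun p _ => h4 p), ← Finset.mul_sum, ← Int.cast_sum] at h3
      have h5 : (∑ p, vecU p * vecU p) = 32 := sqNorm_vecU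
      rw [h5] at h3
      have h6 : ((32 : ℤ) : ZMod 13) ≠ 0 := by decide
      rcases mul_eq_zero.mp h3 with h | h
      · exact h
      · exact absurd h h6
    have := hcj j
    rw [hc0, zero_mul] at this
    exact (ZMod.intCast_zmod_eq_zero_iff_dvd _ 13).mp this
  -- the vectors `8 e_i` are fixed
  have h3 : ∀ i : GolayPt, g.1 (ev i) = ev i := by
    intro i
    obtain ⟨a, ha⟩ : ∃ a : GolayPt → ℤ, a = (g.1 (ev i)).1 := ⟨_, rfl⟩
    have hn : sqNorm a = 64 := by
      rw [ha]
      have := (toCo0 g).2.2 (ev i)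
      rw [toCo0_val] at this
      rw [this, sqNorm_ev]
    have hoff : ∀ j, j ≠ i → a j = 0 := by
      intro j hj
      have hd := h2 (ev i) j
      rw [← ha, ev_val, Pi.single_eq_of_ne hj, sub_zero] at hd
      have hle := coord_sq_le a j
      rw [hn] at hle
      obtain ⟨k, hk⟩ := hd
      have hk0 : k = 0 := by
        by_contra hne
        have : 1 ≤ k ^ 2 := by
          have := sq_nonneg k
          have h0 : k ^ 2 ≠ 0 := pow_ne_zero 2 hne
          omega
        rw [hk] at hle
        nlinarith
      rw [hk, hk0, mul_zero]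
    have hii : a i = 8 := by
      have hs : sqNorm a = a i ^ 2 := by
        unfold sqNorm
        rw [Finset.sum_eq_single i]
        · intro b _ hb
          rw [hoff b hb]; norm_num
        · intro h; exact absurd (Finset.mem_univ i) h
      rw [hs] at hn
      have hd := h2 (ev i) i
      rw [← ha, ev_val, Pi.single_eq_same] at hd
      have h8 : a i = 8 ∨ a i = -8 := by
        have : (a i - 8) * (a i + 8) = 0 := by nlinarith
        rcases mul_eq_zero.mp this with h | h
        · left; omega
        · right; omega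
      rcases h8 with h | h
      · exact h
      · exfalso
        rw [h] at hd
        omega
    apply Subtype.ext
    rw [← ha, ev_val]
    funext j
    by_cases hj : j = i
    · rw [hj, hii, Pi.single_eq_same]
    · rw [hoff j hj, Pi.single_eq_of_ne hj]
  -- hence everything is fixed
  apply Subtype.ext
  apply Equiv.ext
  intro v
  apply Subtype.ext
  funext j
  have h4 := eight_apply (toCo0 g) v j
  rw [toCo0_val] at h4
  have h5 : ∀ k, cmat (toCo0 g) j k = (ev k).1 j := by
    intro k
    show ((toCo0 g).1 (ev k)).1 j = _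
    rw [toCo0_val, h3 k]
  have h6 := eight_apply (1 : ↥Co0) v j
  have h7 : ∀ k, cmat (1 : ↥Co0) j k = (ev k).1 j := fun k => rfl
  rw [Finset.sum_congr rfl (fun k _ => by rw [h5 k])] at h4
  rw [Finset.sum_congr rfl (fun k _ => by rw [h7 k])] at h6
  rw [← h6] at h4
  have h8 : ((1 : ↥Co0).1 v).1 j = v.1 j := rfl
  rw [h8] at h4
  have : (g.1 v).1 j = v.1 j := by omega
  exact this

/-- the embedding of `Co2` into `GL₂₃(13)` -/
theorem exists_embedding : ∃ f : ↥Co2 →* GL (Fin 23) (ZMod 13), Function.Injective f := by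
  let b := Module.finBasisOfFinrankEq (ZMod 13) (V13 ⧸ Ub) finrank_quot
  let φ : Module.End (ZMod 13) (V13 ⧸ Ub) ≃* Matrix (Fin 23) (Fin 23) (ZMod 13) :=
    (LinearMap.toMatrixAlgEquiv b).toMulEquiv
  refine ⟨(φ.toMonoidHom.comp qHom).toHomUnits, ?_⟩
  intro x y hxy
  have h1 : (φ.toMonoidHom.comp qHom) x = (φ.toMonoidHom.comp qHom) y := by
    have := congrArg (fun u : GL (Fin 23) (ZMod 13) => (u : Matrix (Fin 23) (Fin 23) (ZMod 13))) hxy
    exact this
  have h2 : qHom x = qHom y := φ.injective h1
  have h3 : qHom (x * y⁻¹) = 1 := by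
    rw [map_mul, h2, ← map_mul, mul_inv_cancel, map_one]
  have := eq_one_of_qmap _ h3
  exact mul_inv_eq_one.mp this

end Cfsg.Agent.Lib.Helper28.Co2E
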