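import Mathlib

set_option autoImplicit false

namespace Cfsg.Agent.Lib.Helper28

open Finset

def sp (w : Fin 24 → ZMod 2) : Finset (Fin 24) := univ.filter fun i => w i ≠ 0

def ind (s : Finset (Fin 24)) : Fin 24 → ZMod 2 := fun i => if i ∈ s then 1 else 0

theorem z2_cases (a : ZMod 2) : a = 0 ∨ a = 1 := by
  revert a
  decide

theorem mem_sp (w : Fin 24 → ZMod 2) (i : Fin 24) : i ∈ sp w ↔ w i = 1 := by
  unfold sp
  rw [mem_filter]
  rcases z2_cases (w i) with h | h <;> simp [h]

theorem notMem_sp (w : Fin 24 → ZMod 2) (i : Fin 24) : i ∉ sp w ↔ w i = 0 := by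
  rw [mem_sp]
  rcases z2_cases (w i) with h | h <;> simp [h]

theorem norm_eq (w : Fin 24 → ZMod 2) : hammingNorm w = (sp w).card := rfl

theorem sp_ind (s : Finset (Fin 24)) : sp (ind s) = s := by
  ext i
  rw [mem_sp]
  unfold ind
  by_cases h : i ∈ s <;> simp [h]

theorem ind_sp (w : Fin 24 → ZMod 2) : ind (sp w) = w := by
  funext i
  unfold ind
  by_cases h : i ∈ sp w
  · rw [if_pos h]
    exact ((mem_sp w i).mp h).symm
  · rw [if_neg h]
    exact ((notMem_sp w i).mp h).symm

theorem sp_injective : Function.Injective sp := by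
  intro u v h
  rw [← ind_sp u, ← ind_sp v, h]

theorem sp_zero : sp 0 = ∅ := by
  ext i
  rw [mem_sp]
  simp

theorem sp_eq_empty_iff (w : Fin 24 → ZMod 2) : sp w = ∅ ↔ w = 0 := by
  constructor
  · intro h
    apply sp_injective
    rw [h, sp_zero]
  · intro h
    rw [h, sp_zero]

theorem sp_add (u v : Fin 24 → ZMod 2) : sp (u + v) = symmDiff (sp u) (sp v) := by
  ext i
  rw [mem_symmDiff, mem_sp, mem_sp, mem_sp, Pi.add_apply]
  rcases z2_cases (u i) with h | h <;> rcases z2_cases (v i) with h' | h' <;>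
    simp [h, h'] <;> decide

theorem sub_eq_add2 (u v : Fin 24 → ZMod 2) : u - v = u + v := by
  funext i
  rw [Pi.sub_apply, Pi.add_apply]
  rcases z2_cases (u i) with h | h <;> rcases z2_cases (v i) with h' | h' <;>
    simp [h, h'] <;> decide

theorem add_self2 (u : Fin 24 → ZMod 2) : u + u = 0 := by
  rw [← sub_eq_add2, sub_self]

theorem card_symmDiff_add (s t : Finset (Fin 24)) :
    (symmDiff s t).card + 2 * (s ∩ t).card = s.card + t.card := by
  have h1 : symmDiff s t = (s \ t) ∪ (t \ s) := rfl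
  have h2 : Disjoint (s \ t) (t \ s) := by
    rw [disjoint_left]
    intro a ha hb
    rw [mem_sdiff] at ha hb
    exact ha.2 hb.1
  rw [h1, card_union_of_disjoint h2]
  have h3 := card_sdiff_add_card_inter s t
  have h4 := card_sdiff_add_card_inter t s
  rw [inter_comm t s] at h4
  omega

theorem norm_add (u v : Fin 24 → ZMod 2) :
    hammingNorm (u + v) + 2 * (sp u ∩ sp v).card = hammingNorm u + hammingNorm v := by
  rw [norm_eq, norm_eq, norm_eq, sp_add, card_symmDiff_add]

theorem dot_eq (u v : Fin 24 → ZMod 2) :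
    ∑ i, u i * v i = ((sp u ∩ sp v).card : ZMod 2) := by
  rw [card_eq_sum_ones, Nat.cast_sum, ← sum_filter_add_sum_filter_not univ (fun i => i ∈ sp u ∩ sp v)]
  have h1 : ∑ i ∈ univ.filter (fun i => i ∈ sp u ∩ sp v), u i * v i =
      ∑ i ∈ sp u ∩ sp v, ((1 : ℕ) : ZMod 2) := by
    rw [filter_mem_eq_inter, univ_inter]
    apply sum_congr rfl
    intro i hi
    rw [mem_inter, mem_sp, mem_sp] at hi
    rw [hi.1, hi.2]
    simp
  have h2 : ∑ i ∈ univ.filter (fun i => ¬ i ∈ sp u ∩ sp v), u i * v i = 0 := by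
    apply sum_eq_zero
    intro i hi
    rw [mem_filter, mem_inter, not_and_or, notMem_sp, notMem_sp] at hi
    rcases hi.2 with h | h <;> simp [h]
  rw [h1, h2, add_zero]

theorem low_pair (C : Submodule (ZMod 2) (Fin 24 → ZMod 2))
    (hmin : ∀ w ∈ C, w ≠ 0 → 8 ≤ hammingNorm w) (u u' : Fin 24 → ZMod 2)
    (hC : u - u' ∈ C) (hne : u ≠ u') (hu : hammingNorm u ≤ 4) (hu' : hammingNorm u' ≤ 4) :
    hammingNorm u = 4 ∧ hammingNorm u' = 4 ∧ Disjoint (sp u) (sp u') := by
  have h8 := hmin _ hC (sub_ne_zero.mpr hne)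
  rw [sub_eq_add2] at h8
  have h1 := norm_add u u'
  have h0 : (sp u ∩ sp u').card = 0 := by omega
  refine ⟨by omega, by omega, ?_⟩
  rw [disjoint_iff_inter_eq_empty]
  exact card_eq_zero.mp h0

theorem ind_injective : Function.Injective ind := by
  intro s t h
  rw [← sp_ind s, ← sp_ind t, h]

theorem card_words (k : ℕ) :
    (univ.filter (fun u : Fin 24 → ZMod 2 => hammingNorm u = k)).card = Nat.choose 24 k := by
  have h : univ.filter (fun u : Fin 24 → ZMod 2 => hammingNorm u = k) =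
      (powersetCard k (univ : Finset (Fin 24))).image ind := by
    ext u
    rw [mem_filter, mem_image]
    constructor
    · rintro ⟨_, hu⟩
      refine ⟨sp u, ?_, ind_sp u⟩
      rw [mem_powersetCard]
      exact ⟨subset_univ _, hu⟩
    · rintro ⟨s, hs, rfl⟩
      rw [mem_powersetCard] at hs
      refine ⟨mem_univ _, ?_⟩
      rw [norm_eq, sp_ind]
      exact hs.2
  rw [h, card_image_of_injective _ ind_injective, card_powersetCard, card_univ, Fintype.card_fin]

theorem card_words_le3 :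
    (univ.filter (fun u : Fin 24 → ZMod 2 => hammingNorm u ≤ 3)).card = 2325 := by
  have h : univ.filter (fun u : Fin 24 → ZMod 2 => hammingNorm u ≤ 3) =
      (range 4).biUnion (fun k => univ.filter (fun u : Fin 24 → ZMod 2 => hammingNorm u = k)) := by
    ext u
    simp only [mem_filter, mem_biUnion, mem_range, mem_univ, true_and]
    constructor
    · intro hu
      exact ⟨hammingNorm u, by omega, rfl⟩
    · rintro ⟨k, hk, hu⟩
      omega
  rw [h, card_biUnion]
  · simp only [card_words]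
    decide
  · intro a _ b _ hab
    show Disjoint _ _
    rw [disjoint_left]
    intro u hu hu'
    rw [mem_filter] at hu hu'
    exact hab (hu.2.symm.trans hu'.2)

theorem card_quot (C : Submodule (ZMod 2) (Fin 24 → ZMod 2))
    (hdim : Module.finrank (ZMod 2) C = 12) :
    Nat.card ((Fin 24 → ZMod 2) ⧸ C) = 4096 := by
  have h1 := Submodule.card_eq_card_quotient_mul_card C
  have h2 : Nat.card (Fin 24 → ZMod 2) = 2 ^ 24 := by
    rw [Nat.card_eq_fintype_card, Fintype.card_fun, ZMod.card, Fintype.card_fin]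
  have h3 : Nat.card C = 2 ^ 12 := by
    haveI : Fintype C := Fintype.ofFinite C
    rw [Nat.card_eq_fintype_card, Module.card_eq_pow_finrank (K := ZMod 2) (V := C), hdim,
      ZMod.card]
  rw [h2, h3] at h1
  have : (2 : ℕ) ^ 24 = 2 ^ 12 * 4096 := by norm_num
  rw [this] at h1
  exact (Nat.eq_of_mul_eq_mul_left (by norm_num) h1).symm

theorem disj_family_card_le (T : Finset (Fin 24 → ZMod 2))
    (h4 : ∀ u ∈ T, hammingNorm u = 4)
    (hd : ∀ u ∈ T, ∀ u' ∈ T, u ≠ u' → Disjoint (sp u) (sp u')) : T.card ≤ 6 := by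
  have h1 : (T.biUnion sp).card = ∑ u ∈ T, (sp u).card := card_biUnion (fun u hu u' hu' hne => hd u hu u' hu' hne)
  have h2 : ∑ u ∈ T, (sp u).card = ∑ u ∈ T, 4 := by
    apply sum_congr rfl
    intro u hu
    rw [← norm_eq]
    exact h4 u hu
  have h3 : (T.biUnion sp).card ≤ 24 := by
    have := card_le_univ (T.biUnion sp)
    rwa [Fintype.card_fin] at this
  rw [h2, sum_const, smul_eq_mul] at h1
  omega

theorem fiber_six (C : Submodule (ZMod 2) (Fin 24 → ZMod 2))
    (hdim : Module.finrank (ZMod 2) C = 12)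
    (hmin : ∀ w ∈ C, w ≠ 0 → 8 ≤ hammingNorm w) (w : Fin 24 → ZMod 2)
    [DecidablePred (fun u : Fin 24 → ZMod 2 => u - w ∈ C ∧ hammingNorm u = 4)]
    (hno : ∀ u, u - w ∈ C → hammingNorm u ≤ 4 → hammingNorm u = 4) :
    (univ.filter (fun u : Fin 24 → ZMod 2 => u - w ∈ C ∧ hammingNorm u = 4)).card = 6 := by
  classical
  haveI : Fintype ((Fin 24 → ZMod 2) ⧸ C) := Fintype.ofFinite _
  set π : (Fin 24 → ZMod 2) → (Fin 24 → ZMod 2) ⧸ C := Submodule.Quotient.mk with hπ
  have hπeq : ∀ u u', π u = π u' ↔ u - u' ∈ C := fun u u' => Submodule.Quotient.eq C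
  set S3 := univ.filter (fun u : Fin 24 → ZMod 2 => hammingNorm u ≤ 3) with hS3
  set S4 := univ.filter (fun u : Fin 24 → ZMod 2 => hammingNorm u = 4) with hS4
  set A := S3.image π with hA
  have hAcard : A.card = 2325 := by
    rw [hA, card_image_of_injOn, card_words_le3]
    intro u hu u' hu' h
    by_contra hne
    rw [mem_coe, mem_filter] at hu hu'
    have := low_pair C hmin u u' ((hπeq u u').mp h) hne (by omega) (by omega)
    omega
  have hS4A : ∀ u ∈ S4, π u ∈ Aᶜ := by
    intro u hu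
    rw [mem_compl, hA, mem_image]
    rintro ⟨u', hu', h⟩
    rw [mem_filter] at hu hu'
    have hne : u' ≠ u := by
      intro h'
      rw [h'] at hu'
      omega
    have := low_pair C hmin u' u ((hπeq u' u).mp h) hne (by omega) (by omega)
    omega
  have hAc : Aᶜ.card = 1771 := by
    rw [card_compl, hAcard, ← Nat.card_eq_fintype_card, card_quot C hdim]
  have hsum := card_eq_sum_card_fiberwise hS4A
  have hle : ∀ q ∈ Aᶜ, (S4.filter (fun u => π u = q)).card ≤ 6 := by
    intro q _
    apply disj_family_card_le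
    · intro u hu
      rw [mem_filter, mem_filter] at hu
      exact hu.1.2
    · intro u hu u' hu' hne
      rw [mem_filter, mem_filter] at hu hu'
      exact (low_pair C hmin u u' ((hπeq u u').mp (hu.2.trans hu'.2.symm)) hne
        (by omega) (by omega)).2.2
  have hall : ∀ q ∈ Aᶜ, (S4.filter (fun u => π u = q)).card = 6 := by
    have hs : ∑ q ∈ Aᶜ, (S4.filter (fun u => π u = q)).card = ∑ q ∈ Aᶜ, 6 := by
      rw [← hsum, sum_const, smul_eq_mul, hAc, hS4, card_words]
      decide
    exact (sum_eq_sum_iff_of_le hle).mp hs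
  have hw : π w ∈ Aᶜ := by
    rw [mem_compl, hA, mem_image]
    rintro ⟨u', hu', h⟩
    rw [mem_filter] at hu'
    have := hno u' ((hπeq u' w).mp h) (by omega)
    omega
  have := hall _ hw
  convert this using 2
  ext u
  simp only [mem_filter, mem_univ, true_and, hS4]
  rw [hπeq]
  exact and_comm

theorem sextet_cover (C : Submodule (ZMod 2) (Fin 24 → ZMod 2))
    (hdim : Module.finrank (ZMod 2) C = 12)
    (hmin : ∀ w ∈ C, w ≠ 0 → 8 ≤ hammingNorm w) (t : Fin 24 → ZMod 2)
    (ht : hammingNorm t = 4) (p : Fin 24) :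
    ∃ u, u - t ∈ C ∧ hammingNorm u = 4 ∧ p ∈ sp u ∧ (u ≠ t → Disjoint (sp u) (sp t)) := by
  classical
  have hsame : ∀ u u' : Fin 24 → ZMod 2, u - t ∈ C → u' - t ∈ C → u - u' ∈ C := by
    intro u u' hu hu'
    have := C.sub_mem hu hu'
    rwa [sub_sub_sub_cancel_right] at this
  have htC : t - t ∈ C := by
    rw [sub_self]
    exact C.zero_mem
  have hno : ∀ u, u - t ∈ C → hammingNorm u ≤ 4 → hammingNorm u = 4 := by
    intro u huC hu4
    by_cases hut : u = t
    · rw [hut]
      exact ht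
    · exact (low_pair C hmin u t huC hut hu4 (by omega)).1
  have h6 := fiber_six C hdim hmin t hno
  set T := univ.filter (fun u : Fin 24 → ZMod 2 => u - t ∈ C ∧ hammingNorm u = 4) with hT
  have hd : ∀ u ∈ T, ∀ u' ∈ T, u ≠ u' → Disjoint (sp u) (sp u') := by
    intro u hu u' hu' hne
    rw [hT, mem_filter] at hu hu'
    exact (low_pair C hmin u u' (hsame u u' hu.2.1 hu'.2.1) hne (by omega) (by omega)).2.2
  have h1 : (T.biUnion sp).card = ∑ u ∈ T, (sp u).card :=
    card_biUnion (fun u hu u' hu' hne => hd u hu u' hu' hne)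
  have h2 : ∑ u ∈ T, (sp u).card = ∑ u ∈ T, 4 := by
    apply sum_congr rfl
    intro u hu
    rw [hT, mem_filter] at hu
    rw [← norm_eq]
    exact hu.2.2
  rw [h2, sum_const, smul_eq_mul, h6] at h1
  have h3 : T.biUnion sp = univ := by
    apply eq_univ_of_card
    rw [h1, Fintype.card_fin]
  have hp : p ∈ T.biUnion sp := by
    rw [h3]
    exact mem_univ p
  rw [mem_biUnion] at hp
  obtain ⟨u, huT, hpu⟩ := hp
  have huT' := huT
  rw [hT, mem_filter] at huT'
  refine ⟨u, huT'.2.1, huT'.2.2, hpu, ?_⟩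
  intro hne
  apply hd u huT t _ hne
  rw [hT, mem_filter]
  exact ⟨mem_univ _, htC, ht⟩

theorem octad_through (C : Submodule (ZMod 2) (Fin 24 → ZMod 2))
    (hdim : Module.finrank (ZMod 2) C = 12)
    (hmin : ∀ w ∈ C, w ≠ 0 → 8 ≤ hammingNorm w) (s : Finset (Fin 24)) (hs : s.card = 5) :
    ∃ c ∈ C, hammingNorm c = 8 ∧ s ⊆ sp c := by
  have hne : s.Nonempty := by
    rw [← card_pos]
    omega
  obtain ⟨p, hp⟩ := hne
  have ht : hammingNorm (ind (s.erase p)) = 4 := by
    rw [norm_eq, sp_ind, card_erase_of_mem hp, hs]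
  obtain ⟨u, huC, hu4, hpu, hdisj⟩ := sextet_cover C hdim hmin _ ht p
  have hut : u ≠ ind (s.erase p) := by
    intro h
    rw [h, sp_ind] at hpu
    exact notMem_erase p s hpu
  have hd := hdisj hut
  refine ⟨u - ind (s.erase p), huC, ?_, ?_⟩
  · rw [sub_eq_add2]
    have h1 := norm_add u (ind (s.erase p))
    have h0 : (sp u ∩ sp (ind (s.erase p))).card = 0 := by
      rw [card_eq_zero, ← disjoint_iff_inter_eq_empty]
      exact hd
    omega
  · intro i hi
    rw [sub_eq_add2, sp_add, mem_symmDiff]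
    by_cases hip : i = p
    · left
      rw [hip]
      refine ⟨hpu, ?_⟩
      rw [sp_ind]
      exact notMem_erase p s
    · right
      have hit : i ∈ sp (ind (s.erase p)) := by
        rw [sp_ind]
        exact mem_erase.mpr ⟨hip, hi⟩
      exact ⟨hit, fun hiu => (disjoint_left.mp hd) hiu hit⟩

theorem octad_unique (C : Submodule (ZMod 2) (Fin 24 → ZMod 2))
    (hmin : ∀ w ∈ C, w ≠ 0 → 8 ≤ hammingNorm w) (c c' : Fin 24 → ZMod 2)
    (hc : c ∈ C) (hc' : c' ∈ C) (h8 : hammingNorm c = 8) (h8' : hammingNorm c' = 8)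
    (s : Finset (Fin 24)) (hs : 5 ≤ s.card) (hsc : s ⊆ sp c) (hsc' : s ⊆ sp c') : c = c' := by
  by_contra hne
  have h1 := hmin _ (C.sub_mem hc hc') (sub_ne_zero.mpr hne)
  rw [sub_eq_add2] at h1
  have h2 := norm_add c c'
  have h3 : s.card ≤ (sp c ∩ sp c').card := card_le_card (subset_inter hsc hsc')
  omega

theorem span_and_div (C : Submodule (ZMod 2) (Fin 24 → ZMod 2))
    (hdim : Module.finrank (ZMod 2) C = 12)
    (horth : ∀ v ∈ C, ∀ w ∈ C, ∑ i, v i * w i = 0)
    (hmin : ∀ w ∈ C, w ≠ 0 → 8 ≤ hammingNorm w) :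
    ∀ n : ℕ, ∀ c ∈ C, hammingNorm c = n →
      c ∈ Submodule.span (ZMod 2) {w : Fin 24 → ZMod 2 | w ∈ C ∧ hammingNorm w = 8} ∧ 4 ∣ n := by
  intro n
  induction n using Nat.strong_induction_on with
  | _ n ih =>
    intro c hc hn
    by_cases hc0 : c = 0
    · rw [hc0] at hn ⊢
      rw [hammingNorm_zero] at hn
      rw [← hn]
      exact ⟨Submodule.zero_mem _, dvd_zero 4⟩
    · have h8 := hmin c hc hc0
      have h5 : 5 ≤ (sp c).card := by
        rw [← norm_eq]
        omega
      obtain ⟨s, hsc, hs5⟩ := exists_subset_card_eq h5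
      obtain ⟨o, hoC, ho8, hso⟩ := octad_through C hdim hmin s hs5
      have hdC : c + o ∈ C := C.add_mem hc hoC
      have h1 := norm_add c o
      have h3 : s.card ≤ (sp c ∩ sp o).card := card_le_card (subset_inter hsc hso)
      have hlt : hammingNorm (c + o) < n := by omega
      obtain ⟨hspan, hdiv⟩ := ih _ hlt (c + o) hdC rfl
      have hco : c = (c + o) + o := by
        rw [add_assoc, add_self2, add_zero]
      have hoS : o ∈ Submodule.span (ZMod 2)
          {w : Fin 24 → ZMod 2 | w ∈ C ∧ hammingNorm w = 8} :=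
        Submodule.subset_span ⟨hoC, ho8⟩
      refine ⟨?_, ?_⟩
      · rw [hco]
        exact Submodule.add_mem _ hspan hoS
      · have h4 := norm_add (c + o) o
        rw [← hco] at h4
        have h5 := horth _ hdC _ hoC
        rw [dot_eq, ZMod.natCast_eq_zero_iff] at h5
        obtain ⟨k, hk⟩ := h5
        obtain ⟨l, hl⟩ := hdiv
        omega

end Cfsg.Agent.Lib.Helper28
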