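import Mathlib
import Cfsg.Agent.Lib.helper14.OBNd
import Cfsg.Agent.Lib.helper14.DBN.Defs
import Cfsg.Agent.Lib.Helper24.DBNNUOQ
import Cfsg.Agent.Lib.helper6.DBNTNORM
import Cfsg.Agent.Lib.Helper28.DBNDCOQ

set_option autoImplicit false

/-!
# Project DBN, row BN3 (second copy by helper28): the double coset axiom in `OQ`.
-/

namespace Cfsg.Agent.Lib.helper14.DBN

open Matrix DoubleCoset
open Cfsg.Agent.Lib.helper3 Cfsg.Agent.Lib.helper14
open Cfsg.Agent.Lib.helper14.UBN Cfsg.Agent.Lib.helper14.OBN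

universe u
variable {F : Type u} [Field F] {n : ℕ}

theorem dbnbn3h28_sRef (hn : n % 2 = 0) (k : Fin (n / 2)) (n₁ : GS n F) (hn₁ : n₁ ∈ NU n (Sid F))
    (b : GS n F) (hb : b ∈ BO n F) :
    sRef k * b * n₁ ∈ doubleCoset (sRef k * n₁) (BO n F : Set (GS n F)) (BO n F) ∪
      doubleCoset n₁ (BO n F : Set (GS n F)) (BO n F) := by
  have hs : sRef (S := Sid F) k ∈ NU n (Sid F) := sRef_mem_NU k
  have hOQ : sRef k * b * n₁ ∈ OQ n F :=
    (OQ n F).mul_mem ((OQ n F).mul_mem (NU_le_OQ hn hs) hb.2) (NU_le_OQ hn hn₁)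
  rcases gu_mul_mem_union k n₁ hn₁ b hb.1 with h | h
  · left
    exact dc_OQ hn _ hOQ _ ((NU n (Sid F)).mul_mem hs hn₁) h
  · right
    exact dc_OQ hn _ hOQ _ hn₁ h

theorem dbnbn3h28_sD (hn4 : 4 ≤ n) (hn : n % 2 = 0) (n₁ : GS n F) (hn₁ : n₁ ∈ NU n (Sid F))
    (b : GS n F) (hb : b ∈ BO n F) :
    sD F hn4 * b * n₁ ∈ doubleCoset (sD F hn4 * n₁) (BO n F : Set (GS n F)) (BO n F) ∪
      doubleCoset n₁ (BO n F : Set (GS n F)) (BO n F) := by
  have hn2 : 2 ≤ n := le_trans (by norm_num) hn4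
  have htt : tL F hn2 * tL F hn2 = 1 := tL_mul_self hn2
  have htN : tL F hn2 ∈ NU n (Sid F) := tL_mem_NU hn2
  have hb' : tL F hn2 * b * tL F hn2 ∈ BO n F := tL_conj_BO hn2 hn b hb
  have hn' : tL F hn2 * n₁ ∈ NU n (Sid F) := (NU n (Sid F)).mul_mem htN hn₁
  have e : sD F hn4 * b * n₁ =
      tL F hn2 * (sRef (kP hn4) * (tL F hn2 * b * tL F hn2) * (tL F hn2 * n₁)) := by
    unfold sD
    calc tL F hn2 * sRef (kP hn4) * tL F hn2 * b * n₁
        = tL F hn2 * sRef (kP hn4) * tL F hn2 * b * (1 : GS n F) * n₁ := by group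
      _ = tL F hn2 * sRef (kP hn4) * tL F hn2 * b * (tL F hn2 * tL F hn2) * n₁ := by rw [htt]
      _ = tL F hn2 * (sRef (kP hn4) * (tL F hn2 * b * tL F hn2) * (tL F hn2 * n₁)) := by group
  -- moving `tL` across a double coset
  have key : ∀ m x : GS n F, x ∈ doubleCoset m (BO n F : Set (GS n F)) (BO n F) →
      tL F hn2 * x ∈ doubleCoset (tL F hn2 * m) (BO n F : Set (GS n F)) (BO n F) := by
    intro m x hx
    obtain ⟨β₁, hβ₁, β₂, hβ₂, rfl⟩ := mem_doubleCoset.1 hx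
    refine mem_doubleCoset.2 ⟨tL F hn2 * β₁ * tL F hn2, tL_conj_BO hn2 hn β₁ hβ₁, β₂, hβ₂, ?_⟩
    calc tL F hn2 * (β₁ * m * β₂) = tL F hn2 * β₁ * (1 : GS n F) * m * β₂ := by group
      _ = tL F hn2 * β₁ * (tL F hn2 * tL F hn2) * m * β₂ := by rw [htt]
      _ = tL F hn2 * β₁ * tL F hn2 * (tL F hn2 * m) * β₂ := by group
  rw [e]
  rcases dbnbn3h28_sRef hn (kP hn4) (tL F hn2 * n₁) hn' (tL F hn2 * b * tL F hn2) hb' with h | h
  · left
    have := key _ _ h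
    have e2 : tL F hn2 * (sRef (kP hn4) * (tL F hn2 * n₁)) = sD F hn4 * n₁ := by
      unfold sD
      group
    rw [e2] at this
    exact this
  · right
    have := key _ _ h
    have e2 : tL F hn2 * (tL F hn2 * n₁) = n₁ := by
      rw [← mul_assoc, htt, one_mul]
    rw [e2] at this
    exact this

end Cfsg.Agent.Lib.helper14.DBN
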