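import Mathlib
import Cfsg.Agent.Lib.helper14.OBNd
import Cfsg.Agent.Lib.helper14.DBN.Defs
import Cfsg.Agent.Lib.Helper22.KulTwoC

set_option autoImplicit false
set_option linter.unusedVariables false

/-!
# Project DBN, row IDXA (helper28): cores of `OQ_cases`, `BO_sup_NE_le`, `tL_not_mem`, `OmG_le`, on the statements of
DCOQ (`OQ_bruhat`), GEN (`NU_cases`), TNORM (`tL_conj_BO`), NUOQ (`NU_le_OQ`, `isMono_unique`), SDBASIC (`sign_tauS_last`),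
WEAK (`weakBN_D`) as hypotheses.
-/

namespace Cfsg.Agent.Lib.helper14.DBN

open Matrix DoubleCoset
open Cfsg.Agent.Lib.helper14.UBN Cfsg.Agent.Lib.helper14.OBN

universe u
variable {F : Type u} [Field F] {n : ℕ}

theorem dbnidxa_tL_mul_self (hn2 : 2 ≤ n) : tL F hn2 * tL F hn2 = 1 := by
  unfold tL
  exact sRef_mul_self _

theorem dbnidxa_tL_mem_NU (hn2 : 2 ≤ n) : tL F hn2 ∈ NU n (Sid F) := by
  unfold tL
  exact sRef_mem_NU _

theorem dbnidxa_NE_le_NU : NE n F ≤ NU n (Sid F) := by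
  rintro g ⟨π, hπ, hm, _⟩
  exact ⟨π, hπ, hm⟩

/-- IDXA core 1 -/
theorem dbnidxa_cases_core (hn2 : 2 ≤ n)
    (hbr : ∀ g : GS n F, g ∈ OQ n F →
      ∃ n₁ ∈ NU n (Sid F), g ∈ doubleCoset n₁ (BO n F : Set (GS n F)) (BO n F))
    (hNU : ∀ g : GS n F, g ∈ NU n (Sid F) → g ∈ NE n F ∨ g * tL F hn2 ∈ NE n F)
    (hconj : ∀ b : GS n F, b ∈ BO n F → tL F hn2 * b * tL F hn2 ∈ BO n F)
    (g : GS n F) (hg : g ∈ OQ n F) :
    g ∈ BO n F ⊔ NE n F ∨ g * tL F hn2 ∈ BO n F ⊔ NE n F := by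
  have htt := dbnidxa_tL_mul_self (F := F) hn2
  obtain ⟨n₁, hn₁, hmem⟩ := hbr g hg
  obtain ⟨β₁, hβ₁, β₂, hβ₂, rfl⟩ := mem_doubleCoset.1 hmem
  have hB : BO n F ≤ BO n F ⊔ NE n F := le_sup_left
  have hN : NE n F ≤ BO n F ⊔ NE n F := le_sup_right
  rcases hNU n₁ hn₁ with h | h
  · left
    exact Subgroup.mul_mem _ (Subgroup.mul_mem _ (hB hβ₁) (hN h)) (hB hβ₂)
  · right
    have e : β₁ * n₁ * β₂ * tL F hn2 = β₁ * (n₁ * tL F hn2) * (tL F hn2 * β₂ * tL F hn2) := by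
      calc β₁ * n₁ * β₂ * tL F hn2 = β₁ * n₁ * (1 : GS n F) * β₂ * tL F hn2 := by group
        _ = β₁ * n₁ * (tL F hn2 * tL F hn2) * β₂ * tL F hn2 := by rw [htt]
        _ = β₁ * (n₁ * tL F hn2) * (tL F hn2 * β₂ * tL F hn2) := by group
    rw [e]
    exact Subgroup.mul_mem _ (Subgroup.mul_mem _ (hB hβ₁) (hN h)) (hB (hconj β₂ hβ₂))

/-- IDXA core 2 -/
theorem dbnidxa_le_core (hNUle : NU n (Sid F) ≤ OQ n F) : BO n F ⊔ NE n F ≤ OQ n F := by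
  apply sup_le
  · exact inf_le_right
  · exact le_trans dbnidxa_NE_le_NU hNUle

/-- IDXA core 3 -/
theorem dbnidxa_not_mem_core (hn2 : 2 ≤ n) {S : Set (GS n F)}
    (hweak : WeakBN (BO n F) (NE n F) S)
    (hconj : ∀ b : GS n F, b ∈ BO n F → tL F hn2 * b * tL F hn2 ∈ BO n F)
    (hsign : Equiv.Perm.sign (tauS (kL hn2)) = -1)
    (huniq : ∀ (g : GS n F) {π ρ : Equiv.Perm (Fin n)}, IsMono (mt g) π → IsMono (mt g) ρ → π = ρ) :
    tL F hn2 ∉ BO n F ⊔ NE n F := by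
  intro h
  have htt := dbnidxa_tL_mul_self (F := F) hn2
  obtain ⟨n₁, hn₁, hmem⟩ := weak_bruhat hweak (tL F hn2) h
  obtain ⟨β₁, hβ₁, β₂, hβ₂, heq⟩ := mem_doubleCoset.1 hmem
  obtain ⟨π, hπ, hm, hs⟩ := hn₁
  -- `tL * n₁ ∈ BO`
  have e : tL F hn2 * n₁ = (tL F hn2 * β₁⁻¹ * tL F hn2) * β₂⁻¹ := by
    have : n₁ = β₁⁻¹ * tL F hn2 * β₂⁻¹ := by
      rw [heq]
      group
    calc tL F hn2 * n₁ = tL F hn2 * (β₁⁻¹ * tL F hn2 * β₂⁻¹) := by rw [← this]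
      _ = (tL F hn2 * β₁⁻¹ * tL F hn2) * β₂⁻¹ := by group
  have hBO : tL F hn2 * n₁ ∈ BO n F := by
    rw [e]
    exact (BO n F).mul_mem (hconj _ ((BO n F).inv_mem hβ₁)) ((BO n F).inv_mem hβ₂)
  have hmono : IsMono (mt (tL F hn2 * n₁)) (tauS (kL hn2) * π) := by
    rw [mt_mul]
    exact isMono_mul (isMono_sRef (kL hn2)) hm
  have hone := isMono_one_of_up _ hBO.1 hmono
  have := congrArg Equiv.Perm.sign hone
  rw [Equiv.Perm.sign_mul, hsign, hs, Equiv.Perm.sign_one] at this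
  exact absurd this (by decide)

/-- IDXA core 4 -/
theorem dbnidxa_OmG_core (hn2 : 2 ≤ n)
    (hcases : ∀ g : GS n F, g ∈ OQ n F →
      g ∈ BO n F ⊔ NE n F ∨ g * tL F hn2 ∈ BO n F ⊔ NE n F)
    (hle : BO n F ⊔ NE n F ≤ OQ n F) (hnot : tL F hn2 ∉ BO n F ⊔ NE n F)
    (htOQ : tL F hn2 ∈ OQ n F) : OmG n F ≤ BO n F ⊔ NE n F := by
  have hidx : ((BO n F ⊔ NE n F).subgroupOf (OQ n F)).index = 2 := by
    rw [Subgroup.index_eq_two_iff]
    refine ⟨⟨tL F hn2, htOQ⟩, ?_⟩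
    intro b
    rw [Subgroup.mem_subgroupOf, Subgroup.mem_subgroupOf]
    rcases hcases b.1 b.2 with h | h
    · refine Or.inr ⟨h, ?_⟩
      intro h'
      apply hnot
      have e : tL F hn2 = (b.1)⁻¹ * (b.1 * tL F hn2) := by group
      rw [e]
      exact Subgroup.mul_mem _ (Subgroup.inv_mem _ h) h'
    · refine Or.inl ⟨h, ?_⟩
      intro h'
      apply hnot
      have e : tL F hn2 = (b.1)⁻¹ * (b.1 * tL F hn2) := by group
      rw [e]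
      exact Subgroup.mul_mem _ (Subgroup.inv_mem _ h') h
  have hc := Cfsg.Agent.Lib.Helper22.KulTwoC.commutator_le_of_index_two _ hidx
  rintro _ ⟨x, hx, rfl⟩
  have := hc hx
  rw [Subgroup.mem_subgroupOf] at this
  exact this

end Cfsg.Agent.Lib.helper14.DBN
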