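import Mathlib
import Cfsg.Agent.Lib.helper14.OBNd
import Cfsg.Agent.Lib.helper14.DBN.Defs
import Cfsg.Agent.Lib.helper14.DBN.Weak
import Cfsg.Agent.Lib.Helper24.DBNNUOQ
import Cfsg.Agent.Lib.helper6.DBNTNORM
import Cfsg.Agent.Lib.Helper27.DBNGEN
import Cfsg.Agent.Lib.helper14.DBNWEAK
import Cfsg.Agent.Lib.Helper28.DBNDCOQ
import Cfsg.Agent.Lib.Helper28.DBNIDXAcore

set_option autoImplicit false

/-!
# Project DBN, row IDXA (helper28): `OQ_cases`, `BO_sup_NE_le`, `tL_not_mem`, `OmG_le`, verbatim, from the cores of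
`Helper28.DBNIDXAcore` and the rows DCOQ, GEN, TNORM, NUOQ, WEAK.
-/

namespace Cfsg.Agent.Lib.helper14.DBN

open Matrix DoubleCoset
open Cfsg.Agent.Lib.helper3 Cfsg.Agent.Lib.helper14
open Cfsg.Agent.Lib.helper14.UBN Cfsg.Agent.Lib.helper14.OBN

universe u
variable {F : Type u} [Field F] {n : ℕ}

theorem OQ_cases (hn4 : 4 ≤ n) (hn : n % 2 = 0) (g : GS n F) (hg : g ∈ OQ n F) :
    g ∈ BO n F ⊔ NE n F ∨ g * tL F (le_trans (by norm_num) hn4) ∈ BO n F ⊔ NE n F := by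
  exact dbnidxa_cases_core _ (fun g hg => OQ_bruhat hn g hg) (fun g hg => NU_cases _ g hg)
    (fun b hb => tL_conj_BO _ hn b hb) g hg

theorem BO_sup_NE_le (hn4 : 4 ≤ n) (hn : n % 2 = 0) : BO n F ⊔ NE n F ≤ OQ n F := by
  exact dbnidxa_le_core (NU_le_OQ hn)

theorem tL_not_mem (hn4 : 4 ≤ n) (hn : n % 2 = 0) :
    tL F (le_trans (by norm_num) hn4) ∉ BO n F ⊔ NE n F := by
  exact dbnidxa_not_mem_core _ (weakBN_D hn4 hn) (fun b hb => tL_conj_BO _ hn b hb)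
    (dbngen_sign_tauS_last _ (dbngen_kL_last _)) (fun g _ _ h1 h2 => isMono_unique g h1 h2)

theorem OmG_le (hn4 : 4 ≤ n) (hn : n % 2 = 0) : OmG n F ≤ BO n F ⊔ NE n F := by
  exact dbnidxa_OmG_core (le_trans (by norm_num) hn4) (fun g hg => OQ_cases hn4 hn g hg)
    (BO_sup_NE_le hn4 hn) (tL_not_mem hn4 hn) (NU_le_OQ hn (dbnidxa_tL_mem_NU _))

end Cfsg.Agent.Lib.helper14.DBN
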