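import Mathlib
import Cfsg.Agent.Lib.helper14.DBN.Defs

set_option autoImplicit false
set_option linter.unusedVariables false

/-!
# Project DBN, row IDXC (helper28): the core of `OmG_relIndex`, on the statements of IDXA / IDXB as hypotheses.
-/

namespace Cfsg.Agent.Lib.helper14.DBN

open Matrix
open Cfsg.Agent.Lib.helper14.UBN Cfsg.Agent.Lib.helper14.OBN

universe u
variable {F : Type u} [Field F] {n : ℕ}

/-- `relIndex` of the image of the commutator subgroup -/
theorem dbnidxc_relIndex_OmG (n : ℕ) (F : Type u) [Field F] :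
    (OmG n F).relIndex (OQ n F) = (commutator ↥(OQ n F)).index := by
  unfold OmG Subgroup.relIndex
  congr 1
  ext x
  rw [Subgroup.mem_subgroupOf, Subgroup.mem_map]
  constructor
  · rintro ⟨y, hy, hxy⟩
    have : y = x := Subtype.ext hxy
    rw [← this]
    exact hy
  · intro hx
    exact ⟨x, hx, rfl⟩

/-- IDXC core -/
theorem dbnidxc_core [Fintype F] (p : ℕ) [Fact p.Prime] [CharP F p]
    (hle : BO n F ⊔ NE n F ≤ OQ n F) (hOm : OmG n F ≤ BO n F ⊔ NE n F)
    (hne : ∃ g ∈ OQ n F, g ∉ BO n F ⊔ NE n F)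
    (hodd : (2 : F) ≠ 0 → ∃ k : ℕ, (commutator ↥(OQ n F)).index = 2 ^ k)
    (heven : (2 : F) = 0 → (commutator ↥(OQ n F)).index ≤ 2) :
    ¬ p ∣ (OmG n F).relIndex (BO n F ⊔ NE n F) := by
  have hpP : p.Prime := Fact.out
  have hmul := Subgroup.relIndex_mul_relIndex (OmG n F) (BO n F ⊔ NE n F) (OQ n F) hOm hle
  rw [dbnidxc_relIndex_OmG] at hmul
  have hfin : Finite (GS n F) := inferInstance
  have hnz : ∀ H K : Subgroup (GS n F), H.relIndex K ≠ 0 := by
    intro H K
    unfold Subgroup.relIndex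
    exact Subgroup.index_ne_zero_of_finite
  by_cases h2 : (2 : F) = 0
  · have hidx := heven h2
    have hK : 2 ≤ (BO n F ⊔ NE n F).relIndex (OQ n F) := by
      have h0 : (BO n F ⊔ NE n F).relIndex (OQ n F) ≠ 0 := hnz _ _
      have h1 : (BO n F ⊔ NE n F).relIndex (OQ n F) ≠ 1 := by
        intro h
        rw [Subgroup.relIndex_eq_one] at h
        obtain ⟨g, hg, hgK⟩ := hne
        exact hgK (h hg)
      omega
    have h0' : (OmG n F).relIndex (BO n F ⊔ NE n F) ≠ 0 := hnz _ _
    have h1' : (OmG n F).relIndex (BO n F ⊔ NE n F) = 1 := by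
      by_contra hcon
      have : 2 ≤ (OmG n F).relIndex (BO n F ⊔ NE n F) := by omega
      have : 4 ≤ (OmG n F).relIndex (BO n F ⊔ NE n F) * (BO n F ⊔ NE n F).relIndex (OQ n F) := by
        nlinarith
      omega
    rw [h1']
    intro hdvd
    exact hpP.one_lt.ne' (Nat.dvd_one.1 hdvd)
  · obtain ⟨k, hk⟩ := hodd h2
    intro hdvd
    have hd : p ∣ 2 ^ k := by
      rw [← hk, ← hmul]
      exact Dvd.dvd.mul_right hdvd _
    have hp2 : p = 2 := (Nat.prime_dvd_prime_iff_eq hpP Nat.prime_two).1 (hpP.dvd_of_dvd_pow hd)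
    apply h2
    subst hp2
    exact CharTwo.two_eq_zero
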