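import Mathlib
import Cfsg.Agent.Lib.helper14.OBNd
import Cfsg.Agent.Lib.helper14.DBN.Defs
import Cfsg.Agent.Lib.Helper24.DBNNUOQ
import Cfsg.Agent.Lib.helper3.DBNIDXB
import Cfsg.Agent.Lib.Helper28.DBNIDXA
import Cfsg.Agent.Lib.Helper28.DBNIDXCcore

set_option autoImplicit false

/-!
# Project DBN, row IDXC (helper28): `OmG_relIndex`, verbatim, from the core of `Helper28.DBNIDXCcore` and the rows
IDXA, IDXB, NUOQ.
-/

namespace Cfsg.Agent.Lib.helper14.DBN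

open Matrix DoubleCoset
open Cfsg.Agent.Lib.helper3 Cfsg.Agent.Lib.helper14
open Cfsg.Agent.Lib.helper14.UBN Cfsg.Agent.Lib.helper14.OBN

universe u
variable {F : Type u} [Field F] {n : ℕ}

theorem OmG_relIndex [Fintype F] (p : ℕ) [Fact p.Prime] [CharP F p] (hn4 : 4 ≤ n)
    (hn : n % 2 = 0) (hex : ¬ (Fintype.card F = 2 ∧ n = 4)) :
    ¬ p ∣ (OmG n F).relIndex (BO n F ⊔ NE n F) := by
  exact dbnidxc_core p (BO_sup_NE_le hn4 hn) (OmG_le hn4 hn)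
    ⟨tL F (le_trans (by norm_num) hn4), NU_le_OQ hn (dbnidxa_tL_mem_NU _), tL_not_mem hn4 hn⟩
    (fun h2 => OQ_ab_odd hn4 hn h2) (fun h2 => OQ_ab_even hn4 hn h2 hex)

end Cfsg.Agent.Lib.helper14.DBN
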