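import Cfsg.Agent.Lib.helper3.PSL2A
import Cfsg.Agent.Lib.helper3.DicksonConcA

set_option autoImplicit false

namespace Cfsg.Agent.Lib.Helper28.E2

open Matrix Cfsg.Agent.Lib.helper3

section
variable {F : Type*} [Field F]

theorem mul_00 (g h : S2 F) : (g * h).1 0 0 = g.1 0 0 * h.1 0 0 + g.1 0 1 * h.1 1 0 := by
  simp [Matrix.SpecialLinearGroup.coe_mul, Matrix.mul_apply, Fin.sum_univ_two]
theorem mul_01 (g h : S2 F) : (g * h).1 0 1 = g.1 0 0 * h.1 0 1 + g.1 0 1 * h.1 1 1 := by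
  simp [Matrix.SpecialLinearGroup.coe_mul, Matrix.mul_apply, Fin.sum_univ_two]
theorem mul_10 (g h : S2 F) : (g * h).1 1 0 = g.1 1 0 * h.1 0 0 + g.1 1 1 * h.1 1 0 := by
  simp [Matrix.SpecialLinearGroup.coe_mul, Matrix.mul_apply, Fin.sum_univ_two]
theorem mul_11 (g h : S2 F) : (g * h).1 1 1 = g.1 1 0 * h.1 0 1 + g.1 1 1 * h.1 1 1 := by
  simp [Matrix.SpecialLinearGroup.coe_mul, Matrix.mul_apply, Fin.sum_univ_two]

theorem inv_00 (g : S2 F) : (g⁻¹).1 0 0 = g.1 1 1 := by rw [inv_val]; simp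
theorem inv_01 (g : S2 F) : (g⁻¹).1 0 1 = - g.1 0 1 := by rw [inv_val]; simp
theorem inv_10 (g : S2 F) : (g⁻¹).1 1 0 = - g.1 1 0 := by rw [inv_val]; simp
theorem inv_11 (g : S2 F) : (g⁻¹).1 1 1 = g.1 0 0 := by rw [inv_val]; simp

theorem one_00 : (1 : S2 F).1 0 0 = 1 := by simp
theorem one_01 : (1 : S2 F).1 0 1 = 0 := by simp
theorem one_10 : (1 : S2 F).1 1 0 = 0 := by simp
theorem one_11 : (1 : S2 F).1 1 1 = 1 := by simp

/-- the upper triangular subgroup -/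
def Bo (F : Type*) [Field F] : Subgroup (S2 F) where
  carrier := {g | g.1 1 0 = 0}
  mul_mem' := by
    intro g h hg hh
    simp only [Set.mem_ofPred_eq] at hg hh ⊢
    rw [mul_10, hg, hh]; ring
  one_mem' := by simp
  inv_mem' := by
    intro g hg
    simp only [Set.mem_ofPred_eq] at hg ⊢
    rw [inv_10, hg, neg_zero]

theorem mem_Bo {g : S2 F} : g ∈ Bo F ↔ g.1 1 0 = 0 := Iff.rfl

/-- the upper unitriangular subgroup -/
def Uo (F : Type*) [Field F] : Subgroup (S2 F) where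
  carrier := {g | ∃ t : F, g = uu t}
  mul_mem' := by
    rintro _ _ ⟨s, rfl⟩ ⟨t, rfl⟩
    exact ⟨s + t, uu_mul s t⟩
  one_mem' := ⟨0, uu_zero.symm⟩
  inv_mem' := by
    rintro _ ⟨s, rfl⟩
    exact ⟨-s, uu_inv s⟩

theorem mem_Uo {g : S2 F} : g ∈ Uo F ↔ ∃ t : F, g = uu t := Iff.rfl

theorem uu_mem_Uo (t : F) : uu t ∈ Uo F := ⟨t, rfl⟩

theorem Uo_le_Bo : Uo F ≤ Bo F := by
  rintro _ ⟨t, rfl⟩
  simp [mem_Bo]

theorem vv_one_not_mem_Bo : vv (1 : F) ∉ Bo F := by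
  simp [mem_Bo]

theorem Bo_ne_top : Bo F ≠ ⊤ := by
  intro h
  apply vv_one_not_mem_Bo (F := F)
  rw [h]; trivial

/-- an element conjugating a non-trivial upper unitriangular element to an upper unitriangular
element is upper triangular -/
theorem mem_Bo_of_conj {g : S2 F} {v v' : F} (hv : v ≠ 0) (h : g * uu v * g⁻¹ = uu v') :
    g ∈ Bo F := by
  have h1 := congrArg (fun X : S2 F => X.1 1 0) h
  simp only [conj_uu_val, uu_val] at h1
  have h2 : v * g.1 1 0 ^ 2 = 0 := by simpa using h1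
  rcases mul_eq_zero.mp h2 with h3 | h3
  · exact absurd h3 hv
  · exact pow_eq_zero_iff (two_ne_zero) |>.mp h3

/-- the normaliser of a non-trivial subgroup of `Uo` lies in `Bo` -/
theorem normalizer_le_Bo {S : Subgroup (S2 F)} (hS : S ≤ Uo F) (hne : S ≠ ⊥) :
    Subgroup.normalizer (S : Set (S2 F)) ≤ Bo F := by
  intro g hg
  obtain ⟨x', hx'⟩ := (Subgroup.ne_bot_iff_exists_ne_one).mp hne
  obtain ⟨x, hxS, hx1⟩ : ∃ x : S2 F, x ∈ S ∧ x ≠ 1 :=
    ⟨x'.1, x'.2, fun h => hx' (Subtype.ext h)⟩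
  obtain ⟨v, rfl⟩ := hS hxS
  have hv : v ≠ 0 := by
    rintro rfl
    exact hx1 uu_zero
  have h2 : g * uu v * g⁻¹ ∈ S := (Subgroup.mem_normalizer_iff.mp hg (uu v)).mp hxS
  obtain ⟨v', hv'⟩ := hS h2
  exact mem_Bo_of_conj hv hv'

end

section card
variable {F : Type*} [Field F] [Fintype F]

theorem card_Uo : Nat.card (Uo F) = Fintype.card F := by
  have e : F ≃ Uo F := Equiv.ofBijective (fun t => ⟨uu t, uu_mem_Uo t⟩) ⟨by
    intro s t h
    exact uu_injective (congrArg Subtype.val h), by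
    rintro ⟨_, t, rfl⟩
    exact ⟨t, rfl⟩⟩
  rw [← Nat.card_congr e, Nat.card_eq_fintype_card]

/-- the upper triangular matrix with diagonal `s, s⁻¹` and corner `β` -/
def bo (s : Fˣ) (β : F) : S2 F :=
  ⟨!![(s : F), β; 0, ((s⁻¹ : Fˣ) : F)], by simp [Matrix.det_fin_two]⟩

theorem card_Bo : Nat.card (Bo F) = Fintype.card F * (Fintype.card F - 1) := by
  have e : (Fˣ × F) ≃ Bo F := Equiv.ofBijective
    (fun x => ⟨bo x.1 x.2, by rw [mem_Bo]; simp [bo]⟩) ⟨by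
      rintro ⟨s, β⟩ ⟨s', β'⟩ h
      have h1 := congrArg (fun X : Bo F => X.1.1 0 0) h
      have h2 := congrArg (fun X : Bo F => X.1.1 0 1) h
      simp only [bo] at h1 h2
      simp at h1 h2
      exact Prod.ext (Units.ext h1) h2, by
      rintro ⟨g, hg⟩
      have hdet := S2.det_eq g
      rw [mem_Bo] at hg
      rw [hg, mul_zero, sub_zero] at hdet
      refine ⟨⟨⟨g.1 0 0, g.1 1 1, hdet, by rw [mul_comm]; exact hdet⟩, g.1 0 1⟩, ?_⟩
      apply Subtype.ext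
      apply S2.ext' <;> simp [bo, hg]⟩
  rw [← Nat.card_congr e, Nat.card_prod, Nat.card_units, Nat.card_eq_fintype_card, mul_comm]

end card

end Cfsg.Agent.Lib.Helper28.E2
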