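import Cfsg.Agent.Lib.Helper28.E2A
import Cfsg.Agent.Lib.helper15.SL2Card

set_option autoImplicit false

namespace Cfsg.Agent.Lib.Helper28.E2

open Matrix Cfsg.Agent.Lib.helper3
open scoped Pointwise

section
variable {F : Type*} [Field F] [Fintype F] [CharP F 2]

theorem card_eq_two_pow : ∃ f : ℕ, 1 ≤ f ∧ Fintype.card F = 2 ^ f := by
  have : Fact (Nat.Prime 2) := ⟨Nat.prime_two⟩
  obtain ⟨n, -, hn⟩ := FiniteField.card F 2
  exact ⟨n, n.2, hn⟩

theorem card_sq_sub_one_odd : Odd (Fintype.card F ^ 2 - 1) := by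
  obtain ⟨f, hf1, hf⟩ := card_eq_two_pow (F := F)
  have hev : Even (Fintype.card F ^ 2) := by
    rw [hf, ← pow_mul]
    exact (Nat.even_pow' (by positivity)).mpr even_two
  have h1 : 1 ≤ Fintype.card F ^ 2 := Nat.one_le_pow _ _ Fintype.card_pos
  rcases hev with ⟨t, ht⟩
  exact ⟨t - 1, by omega⟩

/-- `Uo` is a Sylow 2-subgroup: every Sylow 2-subgroup containing it equals it -/
theorem sylow_eq_Uo (P : Sylow 2 (S2 F)) (hP : Uo F ≤ P) : (P : Subgroup (S2 F)) = Uo F := by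
  have : Fact (Nat.Prime 2) := ⟨Nat.prime_two⟩
  obtain ⟨f, hf1, hf⟩ := card_eq_two_pow (F := F)
  obtain ⟨n, hn⟩ := IsPGroup.iff_card.mp P.isPGroup'
  have hdvd : Nat.card (P : Subgroup (S2 F)) ∣ Nat.card (S2 F) := Subgroup.card_subgroup_dvd_card _
  rw [Cfsg.Agent.Lib.helper15.card_SL2, hn] at hdvd
  have hcop : Nat.Coprime (2 ^ n) (Fintype.card F ^ 2 - 1) := by
    apply Nat.Coprime.pow_left
    exact Nat.coprime_two_left.mpr card_sq_sub_one_odd
  have h2 : 2 ^ n ∣ Fintype.card F := hcop.dvd_of_dvd_mul_right hdvd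
  have h3 : Nat.card (P : Subgroup (S2 F)) ≤ Nat.card (Uo F) := by
    rw [hn, card_Uo]
    exact Nat.le_of_dvd Fintype.card_pos h2
  exact (Subgroup.eq_of_le_of_card_ge hP h3).symm

/-- every 2-subgroup is conjugate into `Uo` -/
theorem exists_conj_le_Uo (S : Subgroup (S2 F)) (hS : IsPGroup 2 S) :
    ∃ g : S2 F, ∀ x ∈ S, g * x * g⁻¹ ∈ Uo F := by
  have : Fact (Nat.Prime 2) := ⟨Nat.prime_two⟩
  have hU : IsPGroup 2 (Uo F) := IsPGroup.of_card (n := (card_eq_two_pow (F := F)).choose) (by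
    rw [card_Uo]; exact (card_eq_two_pow (F := F)).choose_spec.2)
  obtain ⟨P₀, hP₀⟩ := hU.exists_le_sylow
  have hP₀' := sylow_eq_Uo P₀ hP₀
  obtain ⟨P', hP'⟩ := hS.exists_le_sylow
  obtain ⟨g, hg⟩ := MulAction.exists_smul_eq (S2 F) P' P₀
  refine ⟨g, fun x hx => ?_⟩
  rw [← hP₀', ← hg]
  have h1 : (MulAut.conj g) • x ∈ (MulAut.conj g) • (P' : Subgroup (S2 F)) :=
    Subgroup.smul_mem_pointwise_smul x (MulAut.conj g) _ (hP' hx)
  rw [Sylow.smul_def]
  exact h1


/-- a maximal subgroup normalising a non-trivial 2-subgroup has order `q (q - 1)` -/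
theorem card_of_normalizes_two_subgroup (M : Subgroup (S2 F)) (hM : IsCoatom M)
    (S : Subgroup (S2 F)) (hS2 : IsPGroup 2 S) (hS1 : S ≠ ⊥)
    (hn : M ≤ Subgroup.normalizer (S : Set (S2 F))) :
    Nat.card M = Fintype.card F * (Fintype.card F - 1) := by
  obtain ⟨g, hg⟩ := exists_conj_le_Uo S hS2
  let c : S2 F ≃* S2 F := MulAut.conj g
  have hSU : S.map c.toMonoidHom ≤ Uo F := by
    rintro _ ⟨x, hx, rfl⟩
    exact hg x hx
  have hS1' : S.map c.toMonoidHom ≠ ⊥ := by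
    intro h
    apply hS1
    rw [eq_bot_iff]
    intro x hx
    have : c x ∈ S.map c.toMonoidHom := ⟨x, hx, rfl⟩
    rw [h, Subgroup.mem_bot] at this
    rw [Subgroup.mem_bot]
    exact c.injective (this.trans (map_one c).symm)
  have h1 : M.map c.toMonoidHom ≤ Bo F := by
    refine le_trans ?_ (normalizer_le_Bo hSU hS1')
    rw [← Subgroup.map_equiv_normalizer_eq]
    exact Subgroup.map_mono hn
  have h2 : M ≤ (Bo F).comap c.toMonoidHom := by
    rw [← Subgroup.map_le_iff_le_comap]; exact h1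
  have h3 : (Bo F).comap c.toMonoidHom ≠ ⊤ := by
    intro h
    apply vv_one_not_mem_Bo (F := F)
    have : c.symm (vv 1) ∈ (Bo F).comap c.toMonoidHom := by rw [h]; trivial
    simpa using this
  have h4 : M = (Bo F).comap c.toMonoidHom := by
    rcases eq_or_lt_of_le h2 with h | h
    · exact h
    · exact absurd (hM.2 _ h) h3
  rw [h4, Subgroup.comap_equiv_eq_map_symm']
  rw [Nat.card_congr ((Subgroup.equivMapOfInjective (Bo F) c.symm.toMonoidHom
    c.symm.injective).symm).toEquiv, card_Bo]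

end

end Cfsg.Agent.Lib.Helper28.E2
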