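import Cfsg.Agent.Lib.Helper28.E2B

set_option autoImplicit false

namespace Cfsg.Agent.Lib.Helper28.E2

open Matrix Cfsg.Agent.Lib.helper3 MulAction
open scoped LinearAlgebra.Projectivization MatrixGroups

section
variable {F : Type*} [Field F]

/-- the projective subline over `W`, translated by `e` -/
def subline (W : Subfield F) (e : F) : Set (ℙ F (Fin 2 → F)) :=
  insert dcE (Set.range (fun w : W => dcPt (e + (w : F))))

theorem ncard_subline [Finite F] (W : Subfield F) (e : F) : (subline W e).ncard = Nat.card W + 1 := by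
  unfold subline
  have hinj : Function.Injective (fun w : W => (dcPt (e + (w : F)) : ℙ F (Fin 2 → F))) := by
    intro w w' h
    have := dcPt_injective h
    exact Subtype.ext (add_left_cancel this)
  rw [Set.ncard_insert_of_notMem, ← Nat.card_coe_set_eq, Nat.card_range_of_injective hinj]
  rintro ⟨w, hw⟩
  exact dcE_ne_dcPt _ hw.symm

theorem hd_smul_pt {α : F} (hα : α ≠ 0) (t : F) :
    hd α • (dcPt t : ℙ F (Fin 2 → F)) = dcPt (α ^ 2 * t) := by
  have hv := hd_val hα
  have h00 : (hd α : S2 F) 0 0 = α := by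
    show (hd α).1 0 0 = α
    rw [hv]; simp
  have h01 : (hd α : S2 F) 0 1 = 0 := by
    show (hd α).1 0 1 = 0
    rw [hv]; simp
  have h10 : (hd α : S2 F) 1 0 = 0 := by
    show (hd α).1 1 0 = 0
    rw [hv]; simp
  have h11 : (hd α : S2 F) 1 1 = α⁻¹ := by
    show (hd α).1 1 1 = α⁻¹
    rw [hv]; simp
  rw [dc_smul_pt_of_ne _ _ (by rw [h10, h11, zero_mul, zero_add]; exact inv_ne_zero hα)]
  rw [h00, h01, h10, h11]
  congr 1
  field_simp
  ring

theorem uu_smul_pt (s t : F) :
    uu s • (dcPt t : ℙ F (Fin 2 → F)) = dcPt (t + s) := by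
  have h00 : (uu s : S2 F) 0 0 = 1 := by show (uu s).1 0 0 = 1; simp
  have h01 : (uu s : S2 F) 0 1 = s := by show (uu s).1 0 1 = s; simp
  have h10 : (uu s : S2 F) 1 0 = 0 := by show (uu s).1 1 0 = 0; simp
  have h11 : (uu s : S2 F) 1 1 = 1 := by show (uu s).1 1 1 = 1; simp
  rw [dc_smul_pt_of_ne _ _ (by rw [h10, h11]; simp)]
  rw [h00, h01, h10, h11]
  congr 1
  simp

end

section
variable {F : Type*} [Field F] [Fintype F] [CharP F 2]

/-- square roots stay in a subfield (characteristic 2, finite) -/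
theorem mem_of_sq_mem (W : Subfield F) {x : F} (h : x ^ 2 ∈ W) : x ∈ W := by
  have : CharP W 2 := by
    have := RingHom.charP W.subtype W.subtype_injective 2
    exact this
  have hr : ringChar W = 2 := ringChar.eq W 2
  obtain ⟨y, hy⟩ := FiniteField.isSquare_of_char_two hr (⟨x ^ 2, h⟩ : W)
  have h1 : x ^ 2 = (y : F) * (y : F) := by
    have := congrArg Subtype.val hy
    simpa using this
  have h2 : (x + (y : F)) ^ 2 = 0 := by
    have h3 : (x + (y : F)) ^ 2 = x ^ 2 + (y : F) * (y : F) + 2 * (x * y) := by ring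
    rw [h3, h1, CharTwo.two_eq_zero, zero_mul, add_zero, CharTwo.add_self_eq_zero]
  have h4 : x + (y : F) = 0 := pow_eq_zero_iff (two_ne_zero) |>.mp h2
  have h5 : x = (y : F) := by
    have := CharTwo.add_eq_zero.mp h4
    exact this
  rw [h5]; exact y.2

end

end Cfsg.Agent.Lib.Helper28.E2
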