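import Cfsg.Agent.Lib.Helper28.E2C
import Cfsg.Agent.Lib.helper6.PSL2Index

set_option autoImplicit false

namespace Cfsg.Agent.Lib.Helper28.E2

open Matrix Cfsg.Agent.Lib.helper3 MulAction
open scoped LinearAlgebra.Projectivization MatrixGroups

section
variable {F : Type*} [Field F]

theorem hd_00 {a : F} (ha : a ≠ 0) : (hd a).1 0 0 = a := by rw [hd_val ha]; simp
theorem hd_01 {a : F} (ha : a ≠ 0) : (hd a).1 0 1 = 0 := by rw [hd_val ha]; simp
theorem hd_10 {a : F} (ha : a ≠ 0) : (hd a).1 1 0 = 0 := by rw [hd_val ha]; simp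
theorem hd_11 {a : F} (ha : a ≠ 0) : (hd a).1 1 1 = a⁻¹ := by rw [hd_val ha]; simp

theorem hd_mul {a b : F} (ha : a ≠ 0) (hb : b ≠ 0) : hd a * hd b = hd (a * b) := by
  apply S2.ext'
  · rw [mul_00, hd_00 ha, hd_00 hb, hd_01 ha, hd_10 hb, hd_00 (mul_ne_zero ha hb)]; ring
  · rw [mul_01, hd_00 ha, hd_01 hb, hd_01 ha, hd_11 hb, hd_01 (mul_ne_zero ha hb)]; ring
  · rw [mul_10, hd_10 ha, hd_00 hb, hd_11 ha, hd_10 hb, hd_10 (mul_ne_zero ha hb)]; ring
  · rw [mul_11, hd_10 ha, hd_01 hb, hd_11 ha, hd_11 hb, hd_11 (mul_ne_zero ha hb), mul_inv]; ring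

theorem hd_one : hd (1 : F) = 1 := by
  apply S2.ext'
  · rw [hd_00 one_ne_zero, one_00]
  · rw [hd_01 one_ne_zero, one_01]
  · rw [hd_10 one_ne_zero, one_10]
  · rw [hd_11 one_ne_zero, one_11, inv_one]

theorem hd_pow {a : F} (ha : a ≠ 0) (n : ℕ) : (hd a) ^ n = hd (a ^ n) := by
  induction n with
  | zero => rw [pow_zero, pow_zero, hd_one]
  | succ n ih => rw [pow_succ, ih, hd_mul (pow_ne_zero n ha) ha, pow_succ]

theorem hd_eq_one_iff {a : F} (ha : a ≠ 0) : hd a = 1 ↔ a = 1 := by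
  constructor
  · intro h
    have := congrArg (fun X : S2 F => X.1 0 0) h
    simp only [hd_00 ha, one_00] at this
    exact this
  · rintro rfl; exact hd_one

theorem orderOf_hd {a : F} (ha : a ≠ 0) : orderOf (hd a) = orderOf a := by
  rw [orderOf_eq_orderOf_iff]
  intro n
  rw [hd_pow ha, hd_eq_one_iff (pow_ne_zero n ha)]

/-- the subgroup of matrices with entries in a subfield -/
def SLsub (W : Subfield F) : Subgroup (S2 F) where
  carrier := {g | g.1 0 0 ∈ W ∧ g.1 0 1 ∈ W ∧ g.1 1 0 ∈ W ∧ g.1 1 1 ∈ W}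
  mul_mem' := by
    rintro g h ⟨g1, g2, g3, g4⟩ ⟨h1, h2, h3, h4⟩
    refine ⟨?_, ?_, ?_, ?_⟩
    · rw [mul_00]; exact W.add_mem (W.mul_mem g1 h1) (W.mul_mem g2 h3)
    · rw [mul_01]; exact W.add_mem (W.mul_mem g1 h2) (W.mul_mem g2 h4)
    · rw [mul_10]; exact W.add_mem (W.mul_mem g3 h1) (W.mul_mem g4 h3)
    · rw [mul_11]; exact W.add_mem (W.mul_mem g3 h2) (W.mul_mem g4 h4)
  one_mem' := by
    refine ⟨?_, ?_, ?_, ?_⟩
    · rw [one_00]; exact W.one_mem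
    · rw [one_01]; exact W.zero_mem
    · rw [one_10]; exact W.zero_mem
    · rw [one_11]; exact W.one_mem
  inv_mem' := by
    rintro g ⟨g1, g2, g3, g4⟩
    refine ⟨?_, ?_, ?_, ?_⟩
    · rw [inv_00]; exact g4
    · rw [inv_01]; exact W.neg_mem g2
    · rw [inv_10]; exact W.neg_mem g3
    · rw [inv_11]; exact g1

theorem mem_SLsub {W : Subfield F} {g : S2 F} :
    g ∈ SLsub W ↔ g.1 0 0 ∈ W ∧ g.1 0 1 ∈ W ∧ g.1 1 0 ∈ W ∧ g.1 1 1 ∈ W := Iff.rfl

theorem uu_mem_SLsub {W : Subfield F} {t : F} : uu t ∈ SLsub W ↔ t ∈ W := by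
  rw [mem_SLsub]
  constructor
  · rintro ⟨-, h, -, -⟩
    simpa using h
  · intro h
    refine ⟨?_, ?_, ?_, ?_⟩
    · simp [W.one_mem]
    · simpa using h
    · simp [W.zero_mem]
    · simp [W.one_mem]

theorem SLsub_mono {W W' : Subfield F} (h : W ≤ W') : SLsub W ≤ SLsub W' := by
  rintro g ⟨g1, g2, g3, g4⟩
  exact ⟨h g1, h g2, h g3, h g4⟩

/-- the unitriangular matrices with corner in a subfield -/
def UoW (W : Subfield F) : Subgroup (S2 F) where
  carrier := {g | ∃ t ∈ W, g = uu t}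
  mul_mem' := by
    rintro _ _ ⟨s, hs, rfl⟩ ⟨t, ht, rfl⟩
    exact ⟨s + t, W.add_mem hs ht, uu_mul s t⟩
  one_mem' := ⟨0, W.zero_mem, uu_zero.symm⟩
  inv_mem' := by
    rintro _ ⟨s, hs, rfl⟩
    exact ⟨-s, W.neg_mem hs, uu_inv s⟩

theorem card_UoW (W : Subfield F) : Nat.card (UoW W) = Nat.card W := by
  have e : W ≃ UoW W := Equiv.ofBijective (fun t => ⟨uu (t : F), t, t.2, rfl⟩) ⟨by
    intro s t h
    exact Subtype.ext (uu_injective (congrArg Subtype.val h)), by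
    rintro ⟨_, t, ht, rfl⟩
    exact ⟨⟨t, ht⟩, rfl⟩⟩
  rw [← Nat.card_congr e]

end

section
variable {F : Type*} [Field F]

theorem dcPt_mem_subline_zero {W : Subfield F} {t : F} :
    (dcPt t : ℙ F (Fin 2 → F)) ∈ subline W 0 ↔ t ∈ W := by
  unfold subline
  constructor
  · rintro (h | ⟨w, hw⟩)
    · exact absurd h.symm (dcE_ne_dcPt t)
    · have := dcPt_injective hw
      rw [zero_add] at this
      rw [← this]; exact w.2
  · intro h
    right
    exact ⟨⟨t, h⟩, by simp⟩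

theorem subline_eq_zero {W : Subfield F} {e : F} (he : e ∈ W) : subline W e = subline W 0 := by
  unfold subline
  congr 1
  ext x
  constructor
  · rintro ⟨w, rfl⟩
    exact ⟨⟨e + w, W.add_mem he w.2⟩, by simp⟩
  · rintro ⟨w, rfl⟩
    exact ⟨⟨w - e, W.sub_mem w.2 he⟩, by simp⟩

end

section
variable {F : Type*} [Field F] [Fintype F] [CharP F 2]

theorem coprime_pred (n : ℕ) (hn : 1 ≤ n) : Nat.Coprime n (n - 1) := by
  have h : Nat.Coprime (n - 1) (n - 1 + 1) := by simp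
  rw [Nat.sub_add_cancel hn] at h
  exact h.symm

omit [CharP F 2] in
/-- the orbit of the point at infinity is the projective subline over `W` -/
theorem orbit_eq_subline (M : Subgroup (S2 F)) (W : Subfield F) (q' : ℕ) (hq' : 2 ≤ q')
    (hcardW : Nat.card W = q') (hcardM : Nat.card M = q' * (q' ^ 2 - 1))
    (hU : ∀ w ∈ W, uu w ∈ M) (α : F) (hαW : α ∈ W) (hα0 : α ≠ 0) (hα1 : α ^ 2 ≠ 1)
    (hαM : hd α ∈ M) (hord : orderOf α = q' - 1)
    (g₀ : S2 F) (hg₀ : g₀ ∈ M) (hc : g₀.1 1 0 ≠ 0) :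
    orbit M (dcE : ℙ F (Fin 2 → F)) = subline W 0 := by
  classical
  -- the stabiliser is large
  have hUle : UoW W ≤ M := by
    rintro _ ⟨t, ht, rfl⟩
    exact hU t ht
  have hA : (UoW W).subgroupOf M ≤ stabilizer M (dcE : ℙ F (Fin 2 → F)) := by
    rintro ⟨m, hm⟩ hmA
    rw [Subgroup.mem_subgroupOf] at hmA
    obtain ⟨t, -, rfl⟩ := hmA
    rw [mem_stabilizer_iff]
    show uu t • (dcE : ℙ F (Fin 2 → F)) = dcE
    apply dc_smul_E_of_zero
    show (uu t).1 1 0 = 0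
    simp
  have hB : Subgroup.zpowers (⟨hd α, hαM⟩ : M) ≤ stabilizer M (dcE : ℙ F (Fin 2 → F)) := by
    rw [Subgroup.zpowers_le, mem_stabilizer_iff]
    show hd α • (dcE : ℙ F (Fin 2 → F)) = dcE
    apply dc_smul_E_of_zero
    exact hd_10 hα0
  have hcA : Nat.card ((UoW W).subgroupOf M) = q' := by
    rw [Nat.card_congr (Subgroup.subgroupOfEquivOfLe hUle).toEquiv, card_UoW, hcardW]
  have hcB : Nat.card (Subgroup.zpowers (⟨hd α, hαM⟩ : M)) = q' - 1 := by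
    rw [Nat.card_zpowers, ← hord, ← orderOf_hd hα0]
    exact (Subgroup.orderOf_mk (hd α) hαM)
  have hd1 : q' ∣ Nat.card (stabilizer M (dcE : ℙ F (Fin 2 → F))) := by
    rw [← hcA]; exact Subgroup.card_dvd_of_le hA
  have hd2 : q' - 1 ∣ Nat.card (stabilizer M (dcE : ℙ F (Fin 2 → F))) := by
    rw [← hcB]; exact Subgroup.card_dvd_of_le hB
  have hd3 : q' * (q' - 1) ∣ Nat.card (stabilizer M (dcE : ℙ F (Fin 2 → F))) :=
    (coprime_pred q' (by omega)).mul_dvd_of_dvd_of_dvd hd1 hd2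
  have hidx : Nat.card (stabilizer M (dcE : ℙ F (Fin 2 → F))) *
      (orbit M (dcE : ℙ F (Fin 2 → F))).ncard = q' * (q' ^ 2 - 1) := by
    rw [← index_stabilizer, Subgroup.card_mul_index, hcardM]
  have hle : (orbit M (dcE : ℙ F (Fin 2 → F))).ncard ≤ q' + 1 := by
    obtain ⟨k, hk⟩ := hd3
    have hsq : q' ^ 2 - 1 = (q' + 1) * (q' - 1) :=
      Cfsg.Agent.Lib.helper6.PSL2Index.sq_sub_one_eq q' (by omega)
    rw [hk, hsq] at hidx
    have hpos : 0 < q' * (q' - 1) := Nat.mul_pos (by omega) (by omega)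
    have h1 : q' * (q' - 1) * (k * (orbit M (dcE : ℙ F (Fin 2 → F))).ncard) =
        q' * (q' - 1) * (q' + 1) := by
      have : q' * (q' - 1) * (q' + 1) = q' * ((q' + 1) * (q' - 1)) := by ring
      rw [this, ← hidx]; ring
    have h2 := Nat.eq_of_mul_eq_mul_left hpos h1
    have hk0 : k ≠ 0 := by
      rintro rfl
      rw [zero_mul] at h2; omega
    calc (orbit M (dcE : ℙ F (Fin 2 → F))).ncard
        ≤ k * (orbit M (dcE : ℙ F (Fin 2 → F))).ncard := Nat.le_mul_of_pos_left _ (by omega)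
      _ = q' + 1 := h2
  -- the orbit contains a subline
  obtain ⟨e₀, he₀⟩ : ∃ e₀, e₀ = g₀.1 0 0 / g₀.1 1 0 := ⟨_, rfl⟩
  have hsub : subline W e₀ ⊆ orbit M (dcE : ℙ F (Fin 2 → F)) := by
    rintro x (rfl | ⟨w, rfl⟩)
    · exact mem_orbit_self _
    · refine ⟨⟨uu (w : F) * g₀, M.mul_mem (hU _ w.2) hg₀⟩, ?_⟩
      show (uu (w : F) * g₀) • (dcE : ℙ F (Fin 2 → F)) = dcPt (e₀ + (w : F))
      rw [mul_smul, dc_smul_E_of_ne g₀ hc, uu_smul_pt, he₀]
  have heq : subline W e₀ = orbit M (dcE : ℙ F (Fin 2 → F)) := by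
    apply Set.eq_of_subset_of_ncard_le hsub _ (Set.toFinite _)
    rw [ncard_subline, hcardW]
    exact hle
  -- the base point lies in `W`
  have he₀W : e₀ ∈ W := by
    have h1 : hd α • (dcPt e₀ : ℙ F (Fin 2 → F)) ∈ subline W e₀ := by
      rw [heq]
      have h2 : (dcPt e₀ : ℙ F (Fin 2 → F)) ∈ orbit M (dcE : ℙ F (Fin 2 → F)) := by
        rw [← heq]
        right
        exact ⟨0, by simp⟩
      obtain ⟨m, hm⟩ := h2
      refine ⟨⟨hd α, hαM⟩ * m, ?_⟩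
      show (⟨hd α, hαM⟩ * m : M) • (dcE : ℙ F (Fin 2 → F)) = _
      rw [mul_smul]
      have hm' : m • (dcE : ℙ F (Fin 2 → F)) = dcPt e₀ := hm
      rw [hm']
      rfl
    rw [hd_smul_pt hα0] at h1
    rcases h1 with h1 | ⟨w, hw⟩
    · exact absurd h1.symm (dcE_ne_dcPt _)
    · have h3 := dcPt_injective hw
      have h4 : e₀ * (α ^ 2 - 1) = (w : F) := by linear_combination -h3
      have h5 : α ^ 2 - 1 ≠ 0 := sub_ne_zero.mpr hα1
      have h6 : e₀ = (w : F) / (α ^ 2 - 1) := by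
        rw [eq_div_iff h5]; exact h4
      rw [h6]
      exact W.div_mem w.2 (W.sub_mem (W.pow_mem hαW 2) W.one_mem)
  rw [← heq, subline_eq_zero he₀W]

end

section
variable {F : Type*} [Field F] [Fintype F] [CharP F 2]

/-- a subgroup preserving the projective subline over `W` has entries in `W` -/
theorem mem_SLsub_of_preserves (W : Subfield F) (g : S2 F)
    (h1 : ∀ x ∈ subline W 0, g • x ∈ subline W 0)
    (h2 : ∀ x ∈ subline W 0, g⁻¹ • x ∈ subline W 0) : g ∈ SLsub W := by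
  have hEm : (dcE : ℙ F (Fin 2 → F)) ∈ subline W 0 := Or.inl rfl
  have hdet := S2.det_eq g
  by_cases hc : g.1 1 0 = 0
  · -- upper triangular
    rw [hc, mul_zero, sub_zero] at hdet
    have hd0 : g.1 1 1 ≠ 0 := by
      intro h; rw [h, mul_zero] at hdet; exact zero_ne_one hdet
    have hinv : (g.1 1 1)⁻¹ = g.1 0 0 := by
      rw [inv_eq_iff_eq_inv]; exact (eq_inv_of_mul_eq_one_right hdet)
    have e0 := h1 (dcPt 0) (dcPt_mem_subline_zero.mpr W.zero_mem)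
    have e1 := h1 (dcPt 1) (dcPt_mem_subline_zero.mpr W.one_mem)
    rw [dc_smul_pt_of_ne _ _ (by
      show g.1 1 0 * 0 + g.1 1 1 ≠ 0
      rw [hc, zero_mul, zero_add]; exact hd0), dcPt_mem_subline_zero] at e0
    rw [dc_smul_pt_of_ne _ _ (by
      show g.1 1 0 * 1 + g.1 1 1 ≠ 0
      rw [hc, zero_mul, zero_add]; exact hd0), dcPt_mem_subline_zero] at e1
    have e0' : g.1 0 1 / g.1 1 1 ∈ W := by
      have : (g.1 0 0 * 0 + g.1 0 1) / (g.1 1 0 * 0 + g.1 1 1) = g.1 0 1 / g.1 1 1 := by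
        rw [hc]; ring
      rw [← this]; exact e0
    have e1' : (g.1 0 0 + g.1 0 1) / g.1 1 1 ∈ W := by
      have : (g.1 0 0 * 1 + g.1 0 1) / (g.1 1 0 * 1 + g.1 1 1) = (g.1 0 0 + g.1 0 1) / g.1 1 1 := by
        rw [hc]; ring
      rw [← this]; exact e1
    have e2 : g.1 0 0 ^ 2 ∈ W := by
      have : g.1 0 0 ^ 2 = (g.1 0 0 + g.1 0 1) / g.1 1 1 - g.1 0 1 / g.1 1 1 := by
        rw [div_eq_mul_inv, div_eq_mul_inv, hinv]; ring
      rw [this]; exact W.sub_mem e1' e0'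
    have ha : g.1 0 0 ∈ W := mem_of_sq_mem W e2
    have hdW : g.1 1 1 ∈ W := by
      have : g.1 1 1 = (g.1 0 0)⁻¹ := by rw [← hinv, inv_inv]
      rw [this]; exact W.inv_mem ha
    have hb : g.1 0 1 ∈ W := by
      have : g.1 0 1 = g.1 0 1 / g.1 1 1 * g.1 1 1 := by field_simp
      rw [this]; exact W.mul_mem e0' hdW
    exact ⟨ha, hb, by rw [hc]; exact W.zero_mem, hdW⟩
  · -- lower left entry non-zero
    have eu := h1 _ hEm
    rw [dc_smul_E_of_ne g hc, dcPt_mem_subline_zero] at eu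
    have ev := h2 _ hEm
    have hc' : (g⁻¹).1 1 0 ≠ 0 := by rw [inv_10]; exact neg_ne_zero.mpr hc
    rw [dc_smul_E_of_ne _ hc', dcPt_mem_subline_zero] at ev
    have ev' : g.1 1 1 / g.1 1 0 ∈ W := by
      have h3 : (g⁻¹).1 0 0 / (g⁻¹).1 1 0 = - (g.1 1 1 / g.1 1 0) := by
        rw [inv_00, inv_10]; field_simp
      have h4 : (g⁻¹).1 0 0 / (g⁻¹).1 1 0 ∈ W := ev
      rw [h3] at h4
      have := W.neg_mem h4
      rwa [neg_neg] at this
    have eu' : g.1 0 0 / g.1 1 0 ∈ W := eu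
    obtain ⟨t, ht⟩ : ∃ t, t = 1 - g.1 1 1 / g.1 1 0 := ⟨_, rfl⟩
    have htW : t ∈ W := by rw [ht]; exact W.sub_mem W.one_mem ev'
    have hden : g.1 1 0 * t + g.1 1 1 = g.1 1 0 := by
      rw [ht]; field_simp; ring
    have et := h1 (dcPt t) (dcPt_mem_subline_zero.mpr htW)
    rw [dc_smul_pt_of_ne _ _ (by
      show g.1 1 0 * t + g.1 1 1 ≠ 0
      rw [hden]; exact hc), dcPt_mem_subline_zero] at et
    have et' : (g.1 0 0 * t + g.1 0 1) / (g.1 1 0 * t + g.1 1 1) ∈ W := et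
    rw [hden] at et'
    have eb : g.1 0 1 / g.1 1 0 ∈ W := by
      have : g.1 0 1 / g.1 1 0 = (g.1 0 0 * t + g.1 0 1) / g.1 1 0 - g.1 0 0 / g.1 1 0 * t := by
        field_simp; ring
      rw [this]; exact W.sub_mem et' (W.mul_mem eu' htW)
    have ec2 : (g.1 1 0 ^ 2)⁻¹ ∈ W := by
      have : (g.1 1 0 ^ 2)⁻¹ = g.1 0 0 / g.1 1 0 * (g.1 1 1 / g.1 1 0) - g.1 0 1 / g.1 1 0 := by
        field_simp
        linear_combination (-1 : F) * hdet
      rw [this]; exact W.sub_mem (W.mul_mem eu' ev') eb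
    have ec : g.1 1 0 ∈ W := by
      apply mem_of_sq_mem W
      have := W.inv_mem ec2
      rwa [inv_inv] at this
    have ha : g.1 0 0 ∈ W := by
      have : g.1 0 0 = g.1 0 0 / g.1 1 0 * g.1 1 0 := by field_simp
      rw [this]; exact W.mul_mem eu' ec
    have hb : g.1 0 1 ∈ W := by
      have : g.1 0 1 = g.1 0 1 / g.1 1 0 * g.1 1 0 := by field_simp
      rw [this]; exact W.mul_mem eb ec
    have hdW : g.1 1 1 ∈ W := by
      have : g.1 1 1 = g.1 1 1 / g.1 1 0 * g.1 1 0 := by field_simp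
      rw [this]; exact W.mul_mem ev' ec
    exact ⟨ha, hb, ec, hdW⟩

/-- Lemma X: a subgroup of order `q'(q'^2-1)` containing the `W`-rational unitriangular matrices,
a diagonal element of order `q' - 1` with entries in `W`, and a non-triangular element, has all
entries in `W`. -/
theorem le_SLsub (M : Subgroup (S2 F)) (W : Subfield F) (q' : ℕ) (hq' : 2 ≤ q')
    (hcardW : Nat.card W = q') (hcardM : Nat.card M = q' * (q' ^ 2 - 1))
    (hU : ∀ w ∈ W, uu w ∈ M) (α : F) (hαW : α ∈ W) (hα0 : α ≠ 0) (hα1 : α ^ 2 ≠ 1)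
    (hαM : hd α ∈ M) (hord : orderOf α = q' - 1)
    (g₀ : S2 F) (hg₀ : g₀ ∈ M) (hc : g₀.1 1 0 ≠ 0) : M ≤ SLsub W := by
  have horb := orbit_eq_subline M W q' hq' hcardW hcardM hU α hαW hα0 hα1 hαM hord g₀ hg₀ hc
  have hinv : ∀ g ∈ M, ∀ x ∈ subline W 0, g • x ∈ subline W 0 := by
    intro g hg x hx
    rw [← horb] at hx ⊢
    obtain ⟨m, rfl⟩ := hx
    refine ⟨⟨g, hg⟩ * m, ?_⟩
    show (⟨g, hg⟩ * m : M) • (dcE : ℙ F (Fin 2 → F)) = _
    rw [mul_smul]
    rfl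
  intro g hg
  exact mem_SLsub_of_preserves W g (hinv g hg) (hinv g⁻¹ (M.inv_mem hg))

end

end Cfsg.Agent.Lib.Helper28.E2
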