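import Cfsg.Agent.Lib.Helper28.E2D
import Cfsg.Agent.Lib.helper6.PGLSL

set_option autoImplicit false

namespace Cfsg.Agent.Lib.Helper28.E2

open Matrix Cfsg.Agent.Lib.helper3 MulAction
open scoped LinearAlgebra.Projectivization MatrixGroups

section
variable {F : Type*} [Field F] [Fintype F] [CharP F 2]

/-- the fixed field of the `a`-th power of Frobenius -/
noncomputable def fixSub (F : Type*) [Field F] [CharP F 2] (a : ℕ) : Subfield F :=
  haveI : ExpChar F 2 := ExpChar.prime Nat.prime_two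
  (iterateFrobenius F 2 a).eqLocusField (RingHom.id F)

omit [Fintype F] in
theorem mem_fixSub {a : ℕ} {x : F} : x ∈ fixSub F a ↔ x ^ 2 ^ a = x := by
  unfold fixSub
  rw [RingHom.mem_eqLocusField]
  rfl

omit [Fintype F] in
theorem mem_fixSub_of_orderOf {a : ℕ} {α : F} (hord : orderOf α = 2 ^ a - 1) :
    α ∈ fixSub F a := by
  rw [mem_fixSub]
  have h1 : 1 ≤ 2 ^ a := Nat.one_le_two_pow
  have h2 : 2 ^ a = (2 ^ a - 1) + 1 := by omega
  rw [h2, pow_succ, ← hord, pow_orderOf_eq_one, one_mul]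

omit [Fintype F] in
theorem pow_pred_eq_one {a : ℕ} {x : F} (hx : x ∈ fixSub F a) (hx0 : x ≠ 0) :
    x ^ (2 ^ a - 1) = 1 := by
  rw [mem_fixSub] at hx
  have h1 : 1 ≤ 2 ^ a := Nat.one_le_two_pow
  have h2 : 2 ^ a = (2 ^ a - 1) + 1 := by omega
  rw [h2, pow_succ] at hx
  have h3 : x ^ (2 ^ a - 1) * x = 1 * x := by rw [one_mul]; exact hx
  exact mul_right_cancel₀ hx0 h3

theorem card_fixSub {a : ℕ} (α : F) (hord : orderOf α = 2 ^ a - 1) (hα0 : α ≠ 0) :
    Nat.card (fixSub F a) = 2 ^ a := by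
  classical
  have h1 : 1 ≤ 2 ^ a := Nat.one_le_two_pow
  have hαW : α ∈ fixSub F a := mem_fixSub_of_orderOf hord
  have hcu : Nat.card (fixSub F a)ˣ = Nat.card (fixSub F a) - 1 := Nat.card_units _
  have hpos : 1 ≤ Nat.card (fixSub F a) := Nat.card_pos
  -- lower bound
  let αW : (fixSub F a)ˣ := Units.mk0 ⟨α, hαW⟩ (by
    intro h
    exact hα0 (congrArg Subtype.val h))
  let φ : (fixSub F a)ˣ →* F := ((fixSub F a).subtype : fixSub F a →* F).comp (Units.coeHom _)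
  have hφ : Function.Injective φ := by
    intro x y hxy
    apply Units.ext
    apply Subtype.ext
    exact hxy
  have ho : orderOf αW = 2 ^ a - 1 := by
    rw [← hord, ← orderOf_injective φ hφ αW]
    rfl
  have hd1 : 2 ^ a - 1 ∣ Nat.card (fixSub F a) - 1 := by
    rw [← ho, ← hcu]; exact orderOf_dvd_natCard αW
  -- upper bound
  obtain ⟨ζ, hζ⟩ := IsCyclic.exists_generator (α := (fixSub F a)ˣ)
  have hoζ : orderOf ζ = Nat.card (fixSub F a) - 1 := by
    rw [orderOf_eq_card_of_forall_mem_zpowers hζ, hcu]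
  have hζ1 : ζ ^ (2 ^ a - 1) = 1 := by
    apply hφ
    rw [map_pow, map_one]
    have hz : φ ζ ∈ fixSub F a := (ζ : fixSub F a).2
    have hz0 : φ ζ ≠ 0 := by
      intro h
      have : ((ζ : fixSub F a) : F) = 0 := h
      exact ζ.ne_zero (Subtype.ext this)
    exact pow_pred_eq_one hz hz0
  have hd2 : Nat.card (fixSub F a) - 1 ∣ 2 ^ a - 1 := by
    rw [← hoζ]; exact orderOf_dvd_of_pow_eq_one hζ1
  have := Nat.dvd_antisymm hd1 hd2
  omega

omit [Fintype F] in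
/-- every non-zero element of the fixed field is a power of `α ^ 2` -/
theorem exists_sq_pow_eq {a : ℕ} (ha : 1 ≤ a) (α : F) (hord : orderOf α = 2 ^ a - 1) {x : F}
    (hx : x ∈ fixSub F a) (hx0 : x ≠ 0) (ha2 : 2 ≤ 2 ^ a - 1 + 1) : ∃ i : ℕ, (α ^ 2) ^ i = x := by
  have hprim : IsPrimitiveRoot α (2 ^ a - 1) := by
    rw [← hord]; exact IsPrimitiveRoot.orderOf α
  have h1 : 2 ≤ 2 ^ a := by
    calc 2 = 2 ^ 1 := rfl
      _ ≤ 2 ^ a := Nat.pow_le_pow_right (by norm_num) ha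
  have : NeZero (2 ^ a - 1) := ⟨by omega⟩
  obtain ⟨j, -, hj⟩ := hprim.eq_pow_of_pow_eq_one (pow_pred_eq_one hx hx0)
  refine ⟨j * 2 ^ (a - 1), ?_⟩
  have hα : α ^ 2 ^ a = α := mem_fixSub.mp (mem_fixSub_of_orderOf hord)
  have h2 : 2 * (j * 2 ^ (a - 1)) = 2 ^ a * j := by
    have : 2 ^ a = 2 ^ (a - 1) * 2 := by rw [← pow_succ]; congr 1; omega
    rw [this]; ring
  rw [← pow_mul, h2, pow_mul, hα, hj]

theorem isPGroup_Uo : IsPGroup 2 (Uo F) := by
  obtain ⟨f, -, hf⟩ := card_eq_two_pow (F := F)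
  exact IsPGroup.of_card (n := f) (by rw [card_Uo, hf])

/-- an involution of `M` outside the Sylow 2-subgroup `Q ≤ Uo` is not upper triangular -/
theorem not_mem_Bo_of_invol (M Q : Subgroup (S2 F)) (a : ℕ) (ha : 1 ≤ a) (hQM : Q ≤ M) (hQU : Q ≤ Uo F)
    (hcQ : Nat.card Q = 2 ^ a) (hcM : Nat.card M = 2 ^ a * ((2 ^ a) ^ 2 - 1)) (w : S2 F)
    (hwM : w ∈ M) (hw2 : w * w = 1) (hwQ : w ∉ Q) : w ∉ Bo F := by
  have : Fact (Nat.Prime 2) := ⟨Nat.prime_two⟩
  intro hB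
  rw [mem_Bo] at hB
  have h00 : w.1 0 0 = 1 := by
    have h1 := congrArg (fun X : S2 F => X.1 0 0) hw2
    simp only [mul_00, one_00, hB, mul_zero, add_zero] at h1
    apply Cfsg.Agent.Lib.helper6.PGLSL.sq_eq_one_of_two_eq_zero (CharTwo.two_eq_zero)
    rw [pow_two]; exact h1
  have h11 : w.1 1 1 = 1 := by
    have hdet := S2.det_eq w
    rw [hB, mul_zero, sub_zero, h00, one_mul] at hdet
    exact hdet
  have hwU : w ∈ Uo F := by
    refine ⟨w.1 0 1, ?_⟩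
    apply S2.ext' <;> simp [h00, h11, hB]
  have hT : IsPGroup 2 (Uo F ⊓ M : Subgroup (S2 F)) := isPGroup_Uo.to_le inf_le_left
  obtain ⟨n, hn⟩ := IsPGroup.iff_card.mp hT
  have hdvd : Nat.card (Uo F ⊓ M : Subgroup (S2 F)) ∣ Nat.card M :=
    Subgroup.card_dvd_of_le inf_le_right
  rw [hn, hcM] at hdvd
  have hodd : Odd ((2 ^ a) ^ 2 - 1) := by
    have h1 : 1 ≤ (2 ^ a) ^ 2 := Nat.one_le_pow _ _ (by positivity)
    have hev : Even ((2 ^ a) ^ 2) := by
      rw [← pow_mul]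
      exact (Nat.even_pow' (by omega)).mpr even_two
    rcases hev with ⟨t, ht⟩
    exact ⟨t - 1, by omega⟩
  have hcop : Nat.Coprime (2 ^ n) ((2 ^ a) ^ 2 - 1) :=
    Nat.Coprime.pow_left _ (Nat.coprime_two_left.mpr hodd)
  have h2 : 2 ^ n ∣ 2 ^ a := hcop.dvd_of_dvd_mul_right hdvd
  have hle : Nat.card (Uo F ⊓ M : Subgroup (S2 F)) ≤ Nat.card Q := by
    rw [hn, hcQ]; exact Nat.le_of_dvd (by positivity) h2
  have hQT : Q ≤ Uo F ⊓ M := le_inf hQU hQM
  have heq := Subgroup.eq_of_le_of_card_ge hQT hle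
  apply hwQ
  rw [heq]
  exact ⟨hwU, hwM⟩

end

section
variable {F : Type*} [Field F]

/-- the configuration extracted from an isomorphism `M ≃* SL₂(q')` -/
structure Cfg (M Q : Subgroup (S2 F)) (h w : S2 F) (q' : ℕ) : Prop where
  hQM : Q ≤ M
  cardQ : Nat.card Q = q'
  hM : h ∈ M
  ordh : orderOf h = q' - 1
  norm : ∀ x ∈ Q, h * x * h⁻¹ ∈ Q
  wM : w ∈ M
  wsq : w * w = 1
  wQ : w ∉ Q
  cardM : Nat.card M = q' * (q' ^ 2 - 1)

theorem Cfg.map {M Q : Subgroup (S2 F)} {h w : S2 F} {q' : ℕ} (hc : Cfg M Q h w q')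
    (c : S2 F ≃* S2 F) :
    Cfg (M.map c.toMonoidHom) (Q.map c.toMonoidHom) (c h) (c w) q' where
  hQM := Subgroup.map_mono hc.hQM
  cardQ := by
    rw [← hc.cardQ]
    exact (Nat.card_congr (Subgroup.equivMapOfInjective Q c.toMonoidHom c.injective).toEquiv).symm
  hM := ⟨h, hc.hM, rfl⟩
  ordh := by rw [← hc.ordh]; exact MulEquiv.orderOf_eq c h
  norm := by
    rintro _ ⟨x, hx, rfl⟩
    refine ⟨h * x * h⁻¹, hc.norm x hx, ?_⟩
    simp
  wM := ⟨w, hc.wM, rfl⟩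
  wsq := by
    have : c (w * w) = c 1 := by rw [hc.wsq]
    rwa [map_mul, map_one] at this
  wQ := by
    rintro ⟨x, hx, hxw⟩
    have : x = w := c.injective hxw
    exact hc.wQ (this ▸ hx)
  cardM := by
    rw [← hc.cardM]
    exact (Nat.card_congr (Subgroup.equivMapOfInjective M c.toMonoidHom c.injective).toEquiv).symm

end

section
variable {F : Type*} [Field F] [Fintype F] [CharP F 2]

/-- third reduction: the torus element is diagonal and the Sylow subgroup is unitriangular -/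
theorem red3 (M Q : Subgroup (S2 F)) (α : F) (w : S2 F) (a : ℕ) (ha : 2 ≤ a) (hα0 : α ≠ 0)
    (hc : Cfg M Q (hd α) w (2 ^ a)) (hQU : Q ≤ Uo F) :
    ∃ (g : S2 F) (W : Subfield F), Nat.card W = 2 ^ a ∧ ∀ x ∈ M, g * x * g⁻¹ ∈ SLsub W := by
  have h4 : 4 ≤ 2 ^ a := by
    calc 4 = 2 ^ 2 := rfl
      _ ≤ 2 ^ a := Nat.pow_le_pow_right (by norm_num) ha
  have hord : orderOf α = 2 ^ a - 1 := by
    rw [← orderOf_hd hα0]; exact hc.ordh
  have hαW : α ∈ fixSub F a := mem_fixSub_of_orderOf hord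
  have hcardW : Nat.card (fixSub F a) = 2 ^ a := card_fixSub α hord hα0
  have hα1 : α ^ 2 ≠ 1 := by
    intro h
    have := orderOf_dvd_of_pow_eq_one h
    rw [hord] at this
    have := Nat.le_of_dvd (by norm_num) this
    omega
  -- a non-trivial element of `Q`
  obtain ⟨v₀, hv₀, hv₀Q⟩ : ∃ v₀ : F, v₀ ≠ 0 ∧ uu v₀ ∈ Q := by
    have hne : Q ≠ ⊥ := by
      intro h
      have := hc.cardQ
      rw [h, Subgroup.card_bot] at this
      omega
    obtain ⟨x', hx'⟩ := (Subgroup.ne_bot_iff_exists_ne_one).mp hne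
    obtain ⟨v, hv⟩ := hQU x'.2
    refine ⟨v, ?_, hv ▸ x'.2⟩
    rintro rfl
    apply hx'
    apply Subtype.ext
    rw [hv, uu_zero]; rfl
  have hstab : ∀ (i : ℕ) (v : F), uu v ∈ Q → uu ((α ^ 2) ^ i * v) ∈ Q := by
    intro i
    induction i with
    | zero => intro v hv; simpa using hv
    | succ i ih =>
      intro v hv
      have h1 := hc.norm _ (ih v hv)
      rw [hd_conj_uu hα0] at h1
      have : (α ^ 2) ^ (i + 1) * v = α ^ 2 * ((α ^ 2) ^ i * v) := by ring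
      rw [this]; exact h1
  have hWQ : ∀ x ∈ fixSub F a, uu (x * v₀) ∈ Q := by
    intro x hx
    by_cases hx0 : x = 0
    · rw [hx0, zero_mul, uu_zero]; exact Q.one_mem
    · obtain ⟨i, hi⟩ := exists_sq_pow_eq (by omega) α hord hx hx0 (by omega)
      rw [← hi]; exact hstab i v₀ hv₀Q
  -- rescale
  have hr : ringChar F = 2 := ringChar.eq F 2
  obtain ⟨μ, hμ⟩ := FiniteField.isSquare_of_char_two hr (v₀⁻¹)
  have hμ0 : μ ≠ 0 := by
    rintro rfl
    rw [mul_zero] at hμ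
    exact inv_ne_zero hv₀ hμ
  have hμv : μ ^ 2 * v₀ = 1 := by
    rw [pow_two, ← hμ]; exact inv_mul_cancel₀ hv₀
  let c : S2 F ≃* S2 F := MulAut.conj (hd μ)
  have hc' := hc.map c
  have hcapp : ∀ x : S2 F, c x = hd μ * x * (hd μ)⁻¹ := fun x => rfl
  have hwB : w ∉ Bo F := not_mem_Bo_of_invol M Q a (by omega) hc.hQM hQU hc.cardQ hc.cardM w hc.wM
    hc.wsq hc.wQ
  have hμB : hd μ ∈ Bo F := by rw [mem_Bo]; exact hd_10 hμ0
  have hcw : (c w).1 1 0 ≠ 0 := by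
    intro h0
    apply hwB
    have h1 : c w ∈ Bo F := h0
    have h2 : w = (hd μ)⁻¹ * c w * hd μ := by rw [hcapp]; group
    rw [h2]
    exact (Bo F).mul_mem ((Bo F).mul_mem ((Bo F).inv_mem hμB) h1) hμB
  have hle := le_SLsub (M.map c.toMonoidHom) (fixSub F a) (2 ^ a) (by omega) hcardW hc'.cardM
    (by
      intro x hx
      refine ⟨uu (x * v₀), hc.hQM (hWQ x hx), ?_⟩
      show c (uu (x * v₀)) = uu x
      rw [hcapp, hd_conj_uu hμ0]
      congr 1
      rw [mul_comm x v₀, ← mul_assoc, hμv, one_mul])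
    α hαW hα0 hα1
    (by
      refine ⟨hd α, hc.hM, ?_⟩
      show c (hd α) = hd α
      rw [hcapp, hd_mul hμ0 hα0, mul_comm μ α, ← hd_mul hα0 hμ0]
      group)
    hord (c w) hc'.wM hcw
  refine ⟨hd μ, fixSub F a, hcardW, fun x hx => ?_⟩
  apply hle
  exact ⟨x, hx, rfl⟩

/-- second reduction: the Sylow subgroup is unitriangular -/
theorem red2 (M Q : Subgroup (S2 F)) (h w : S2 F) (a : ℕ) (ha : 2 ≤ a)
    (hc : Cfg M Q h w (2 ^ a)) (hQU : Q ≤ Uo F) :
    ∃ (g : S2 F) (W : Subfield F), Nat.card W = 2 ^ a ∧ ∀ x ∈ M, g * x * g⁻¹ ∈ SLsub W := by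
  have h4 : 4 ≤ 2 ^ a := by
    calc 4 = 2 ^ 2 := rfl
      _ ≤ 2 ^ a := Nat.pow_le_pow_right (by norm_num) ha
  have hQne : Q ≠ ⊥ := by
    intro h
    have := hc.cardQ
    rw [h, Subgroup.card_bot] at this
    omega
  have hB : h ∈ Bo F := by
    apply normalizer_le_Bo hQU hQne
    exact Subgroup.mem_normalizer_fintype (S := (Q : Set (S2 F))) (fun n hn => hc.norm n hn)
  rw [mem_Bo] at hB
  obtain ⟨α, hα⟩ : ∃ α, α = h.1 0 0 := ⟨_, rfl⟩
  obtain ⟨β, hβ⟩ : ∃ β, β = h.1 0 1 := ⟨_, rfl⟩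
  have hdet := S2.det_eq h
  rw [hB, mul_zero, sub_zero, ← hα] at hdet
  have hα0 : α ≠ 0 := by
    rintro rfl
    rw [zero_mul] at hdet
    exact zero_ne_one hdet
  have h11 : h.1 1 1 = α⁻¹ := eq_inv_of_mul_eq_one_right hdet
  have hα1 : α ≠ 1 := by
    rintro rfl
    have hu : h = uu β := by
      apply S2.ext' <;> simp [← hα, ← hβ, hB, h11]
    have h2 : h ^ 2 = 1 := by
      rw [hu, pow_two, uu_mul, ← two_mul, CharTwo.two_eq_zero, zero_mul, uu_zero]
    have := orderOf_dvd_of_pow_eq_one h2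
    rw [hc.ordh] at this
    have := Nat.le_of_dvd (by norm_num) this
    omega
  have hαα : α - α⁻¹ ≠ 0 := by
    intro h0
    have h1 : α = α⁻¹ := sub_eq_zero.mp h0
    have h2 : α ^ 2 = 1 := by
      rw [pow_two]
      nth_rewrite 2 [h1]
      exact mul_inv_cancel₀ hα0
    exact hα1 (Cfsg.Agent.Lib.helper6.PGLSL.sq_eq_one_of_two_eq_zero (CharTwo.two_eq_zero) h2)
  obtain ⟨s, hs⟩ : ∃ s, s = β / (α - α⁻¹) := ⟨_, rfl⟩
  let c : S2 F ≃* S2 F := MulAut.conj (uu s)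
  have hcapp : ∀ x : S2 F, c x = uu s * x * (uu s)⁻¹ := fun x => rfl
  have hch : c h = hd α := by
    rw [hcapp, uu_inv]
    apply S2.ext'
    · rw [mul_00, mul_00, hd_00 hα0]
      simp [← hα, hB]
    · rw [mul_01, mul_00, mul_01, hd_01 hα0]
      simp only [uu, ← hα, ← hβ, hB, h11]
      simp
      rw [hs]
      have hαα' : α ^ 2 - 1 ≠ 0 := by
        intro h0
        apply hαα
        field_simp
        linear_combination h0
      field_simp
      ring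
    · rw [mul_10, mul_10, hd_10 hα0]
      simp [hB]
    · rw [mul_11, mul_10, mul_11, hd_11 hα0]
      simp [hB, h11]
  have hcQ : Q.map c.toMonoidHom = Q := by
    ext x
    constructor
    · rintro ⟨y, hy, rfl⟩
      obtain ⟨t, ht⟩ := hQU hy
      show c y ∈ Q
      rw [hcapp, ht, uu_inv, uu_mul, uu_mul]
      have : s + t + -s = t := by ring
      rw [this, ← ht]; exact hy
    · intro hx
      refine ⟨x, hx, ?_⟩
      obtain ⟨t, ht⟩ := hQU hx
      show c x = x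
      rw [hcapp, ht, uu_inv, uu_mul, uu_mul]
      congr 1; ring
  have hc' := hc.map c
  rw [hcQ, hch] at hc'
  obtain ⟨g, W, hW, hg⟩ := red3 (M.map c.toMonoidHom) Q α (c w) a ha hα0 hc' hQU
  refine ⟨g * uu s, W, hW, fun x hx => ?_⟩
  have := hg (c x) ⟨x, hx, rfl⟩
  rw [hcapp] at this
  have h3 : g * uu s * x * (g * uu s)⁻¹ = g * (uu s * x * (uu s)⁻¹) * g⁻¹ := by group
  rw [h3]; exact this

/-- first reduction: a general configuration is conjugate into a subfield subgroup -/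
theorem red1 (M Q : Subgroup (S2 F)) (h w : S2 F) (a : ℕ) (ha : 2 ≤ a)
    (hc : Cfg M Q h w (2 ^ a)) :
    ∃ (g : S2 F) (W : Subfield F), Nat.card W = 2 ^ a ∧ ∀ x ∈ M, g * x * g⁻¹ ∈ SLsub W := by
  have hQ2 : IsPGroup 2 Q := IsPGroup.of_card (n := a) hc.cardQ
  obtain ⟨g₁, hg₁⟩ := exists_conj_le_Uo Q hQ2
  let c : S2 F ≃* S2 F := MulAut.conj g₁
  have hcapp : ∀ x : S2 F, c x = g₁ * x * g₁⁻¹ := fun x => rfl
  have hQU : Q.map c.toMonoidHom ≤ Uo F := by
    rintro _ ⟨x, hx, rfl⟩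
    exact hg₁ x hx
  obtain ⟨g, W, hW, hg⟩ := red2 (M.map c.toMonoidHom) (Q.map c.toMonoidHom) (c h) (c w) a ha
    (hc.map c) hQU
  refine ⟨g * g₁, W, hW, fun x hx => ?_⟩
  have := hg (c x) ⟨x, hx, rfl⟩
  rw [hcapp] at this
  have h3 : g * g₁ * x * (g * g₁)⁻¹ = g * (g₁ * x * g₁⁻¹) * g⁻¹ := by group
  rw [h3]; exact this

end

end Cfsg.Agent.Lib.Helper28.E2
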