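import Cfsg.Agent.Lib.Helper28.E2E

set_option autoImplicit false

namespace Cfsg.Agent.Lib.Helper28.E2

open Matrix Cfsg.Agent.Lib.helper3 MulAction
open scoped LinearAlgebra.Projectivization MatrixGroups

section
variable {F : Type*} [Field F] [Fintype F] [CharP F 2]
variable {K : Type*} [Field K] [Fintype K] [CharP K 2]

omit [Fintype F] [CharP F 2] in
/-- the configuration inside a subgroup isomorphic to `SL₂(K)` -/
theorem cfg_of_equiv (M : Subgroup (S2 F)) (e : M ≃* S2 K) (q' : ℕ) (hK : Fintype.card K = q') :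
    ∃ (Q : Subgroup (S2 F)) (h w : S2 F), Cfg M Q h w q' := by
  obtain ⟨α₀, hα₀⟩ := IsCyclic.exists_generator (α := Kˣ)
  have hordu : orderOf α₀ = q' - 1 := by
    rw [orderOf_eq_card_of_forall_mem_zpowers hα₀, Nat.card_units, Nat.card_eq_fintype_card, hK]
  have hα0 : (α₀ : K) ≠ 0 := α₀.ne_zero
  have hord : orderOf (α₀ : K) = q' - 1 := by rw [orderOf_units]; exact hordu
  refine ⟨((Uo K).comap e.toMonoidHom).map M.subtype, ((e.symm (hd (α₀ : K)) : M) : S2 F),
    ((e.symm (vv 1) : M) : S2 F), ?_⟩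
  refine
    { hQM := Subgroup.map_subtype_le _
      cardQ := ?_
      hM := (e.symm (hd (α₀ : K))).2
      ordh := ?_
      norm := ?_
      wM := (e.symm (vv 1)).2
      wsq := ?_
      wQ := ?_
      cardM := ?_ }
  · rw [← Nat.card_congr (Subgroup.equivMapOfInjective _ M.subtype M.subtype_injective).toEquiv,
      Subgroup.comap_equiv_eq_map_symm',
      ← Nat.card_congr (Subgroup.equivMapOfInjective (Uo K) e.symm.toMonoidHom
        e.symm.injective).toEquiv, card_Uo, hK]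
  · rw [Subgroup.orderOf_coe, MulEquiv.orderOf_eq, orderOf_hd hα0, hord]
  · rintro _ ⟨y, hy, rfl⟩
    refine ⟨e.symm (hd (α₀ : K)) * y * (e.symm (hd (α₀ : K)))⁻¹, ?_, ?_⟩
    · obtain ⟨t, ht⟩ : e y ∈ Uo K := hy
      show e (e.symm (hd (α₀ : K)) * y * (e.symm (hd (α₀ : K)))⁻¹) ∈ Uo K
      rw [map_mul, map_mul, map_inv, MulEquiv.apply_symm_apply, ht, hd_conj_uu hα0]
      exact uu_mem_Uo _
    · simp
  · have h1 : (vv (1 : K)) * vv 1 = 1 := by
      rw [vv_mul, ← two_mul, CharTwo.two_eq_zero, zero_mul, vv_zero]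
    have h2 : (e.symm (vv 1) : M) * e.symm (vv 1) = 1 := by
      rw [← map_mul, h1, map_one]
    have := congrArg (fun x : M => (x : S2 F)) h2
    simpa using this
  · rintro ⟨y, hy, hyw⟩
    have h1 : y = e.symm (vv 1) := Subtype.ext hyw
    obtain ⟨t, ht⟩ : e y ∈ Uo K := hy
    rw [h1, MulEquiv.apply_symm_apply] at ht
    have := congrArg (fun X : S2 K => X.1 1 0) ht
    simp at this
  · rw [Nat.card_congr e.toEquiv, Cfsg.Agent.Lib.helper15.card_SL2, hK]

/-- a subgroup isomorphic to `SL₂(2^a)`, `a ≥ 2`, of `SL₂(2^(a s t))` with `s, t ≥ 2` is not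
maximal -/
theorem not_isCoatom_of_composite (M : Subgroup (S2 F)) (e : M ≃* S2 K) (a : ℕ) (ha : 2 ≤ a)
    (hK : Fintype.card K = 2 ^ a) (s t : ℕ) (hs : 2 ≤ s) (ht : 2 ≤ t)
    (hF : Fintype.card F = 2 ^ (a * s * t)) : ¬ IsCoatom M := by
  intro hM
  obtain ⟨Q, h, w, hc⟩ := cfg_of_equiv M e (2 ^ a) hK
  obtain ⟨g, W, hW, hg⟩ := red1 M Q h w a ha hc
  let c : S2 F ≃* S2 F := MulAut.conj g
  have hcapp : ∀ x : S2 F, c x = g * x * g⁻¹ := fun x => rfl
  -- a generator of the multiplicative group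
  obtain ⟨ζ', hζ'⟩ := IsCyclic.exists_generator (α := Fˣ)
  have hordζ' : orderOf ζ' = 2 ^ (a * s * t) - 1 := by
    rw [orderOf_eq_card_of_forall_mem_zpowers hζ', Nat.card_units, Nat.card_eq_fintype_card, hF]
  obtain ⟨ζ, hζ⟩ : ∃ ζ : F, ζ = (ζ' : F) := ⟨_, rfl⟩
  have hζ0 : ζ ≠ 0 := by rw [hζ]; exact ζ'.ne_zero
  have hordζ : orderOf ζ = 2 ^ (a * s * t) - 1 := by rw [hζ, orderOf_units]; exact hordζ'
  have hpow1 : ∀ n : ℕ, 1 ≤ 2 ^ n := fun n => Nat.one_le_two_pow
  have hlt1 : 2 ^ (a * s) < 2 ^ (a * s * t) := by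
    apply Nat.pow_lt_pow_right (by norm_num)
    have : a * s * 2 ≤ a * s * t := Nat.mul_le_mul_left _ ht
    have : 1 ≤ a * s := Nat.mul_pos (by omega) (by omega)
    omega
  have hlt2 : 2 ^ a < 2 ^ (a * s) := by
    apply Nat.pow_lt_pow_right (by norm_num)
    have : a * 2 ≤ a * s := Nat.mul_le_mul_left _ hs
    omega
  -- elements of `W` are fixed by the `a`-th power of Frobenius
  have hWfix : ∀ x ∈ W, x ^ 2 ^ a = x := by
    intro x hx
    have : Fintype W := Fintype.ofFinite W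
    have h1 := FiniteField.pow_card (⟨x, hx⟩ : W)
    rw [← Nat.card_eq_fintype_card, hW] at h1
    have := congrArg Subtype.val h1
    simpa using this
  have hWW : W ≤ fixSub F (a * s) := by
    intro x hx
    rw [mem_fixSub]
    have h1 : ∀ n : ℕ, x ^ 2 ^ (a * n) = x := by
      intro n
      induction n with
      | zero => simp
      | succ n ih =>
        rw [Nat.mul_succ, pow_add, pow_mul, ih, hWfix x hx]
    exact h1 s
  -- the intermediate subgroup
  obtain ⟨L, hL⟩ : ∃ L, L = (SLsub (fixSub F (a * s))).comap c.toMonoidHom := ⟨_, rfl⟩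
  have hML : M ≤ L := by
    intro x hx
    rw [hL]
    show c x ∈ SLsub (fixSub F (a * s))
    exact SLsub_mono hWW (hg x hx)
  have hLtop : L ≠ ⊤ := by
    intro htop
    have h1 : c.symm (uu ζ) ∈ L := by rw [htop]; trivial
    rw [hL] at h1
    have h2 : c (c.symm (uu ζ)) ∈ SLsub (fixSub F (a * s)) := h1
    rw [MulEquiv.apply_symm_apply, uu_mem_SLsub] at h2
    have h3 := pow_pred_eq_one h2 hζ0
    have h4 := orderOf_dvd_of_pow_eq_one h3
    rw [hordζ] at h4
    have := hpow1 a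
    have h5 := Nat.le_of_dvd (by omega) h4
    omega
  -- an element of the intermediate field outside `W`
  have hdvd : 2 ^ (a * s) - 1 ∣ 2 ^ (a * s * t) - 1 := by
    have := Nat.sub_dvd_pow_sub_pow (2 ^ (a * s)) 1 t
    rwa [one_pow, ← pow_mul] at this
  obtain ⟨k, hk⟩ := hdvd
  have hk0 : k ≠ 0 := by
    rintro rfl
    rw [mul_zero] at hk
    have := hpow1 (a * s)
    omega
  obtain ⟨y, hy⟩ : ∃ y : F, y = ζ ^ k := ⟨_, rfl⟩
  have hordy : orderOf y = 2 ^ (a * s) - 1 := by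
    rw [hy, orderOf_pow_of_dvd hk0 (by rw [hordζ, hk]; exact Dvd.intro_left _ rfl), hordζ, hk]
    exact Nat.mul_div_cancel _ (Nat.pos_of_ne_zero hk0)
  have hy0 : y ≠ 0 := by rw [hy]; exact pow_ne_zero _ hζ0
  have hyW2 : y ∈ fixSub F (a * s) := mem_fixSub_of_orderOf hordy
  have hyW : y ∉ W := by
    intro hyW
    have h1 := hWfix y hyW
    have h2 : y ∈ fixSub F a := mem_fixSub.mpr h1
    have h3 := pow_pred_eq_one h2 hy0
    have h4 := orderOf_dvd_of_pow_eq_one h3
    rw [hordy] at h4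
    have h4a : 4 ≤ 2 ^ a := by
      calc 4 = 2 ^ 2 := rfl
        _ ≤ 2 ^ a := Nat.pow_le_pow_right (by norm_num) ha
    have h5 := Nat.le_of_dvd (by omega) h4
    omega
  have hne : M ≠ L := by
    intro hML'
    have h1 : c.symm (uu y) ∈ L := by
      rw [hL]
      show c (c.symm (uu y)) ∈ SLsub (fixSub F (a * s))
      rw [MulEquiv.apply_symm_apply, uu_mem_SLsub]
      exact hyW2
    rw [← hML'] at h1
    have h2 := hg _ h1
    rw [← hcapp, MulEquiv.apply_symm_apply, uu_mem_SLsub] at h2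
    exact hyW h2
  exact hLtop (hM.2 L (lt_of_le_of_ne hML hne))

end

end Cfsg.Agent.Lib.Helper28.E2
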