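import Cfsg.Agent.Lib.Helper28.P2Sub

set_option autoImplicit false

namespace Cfsg.Agent.Lib.Helper28.P2

open Matrix

theorem gcd_two_pred_even {n : ℕ} (h : Even n) (hn : 1 ≤ n) : Nat.gcd 2 (n - 1) = 1 := by
  apply Nat.coprime_two_left.mpr
  rcases h with ⟨t, ht⟩
  exact ⟨t - 1, by omega⟩

theorem gcd_two_pred_odd {n : ℕ} (h : Odd n) : Nat.gcd 2 (n - 1) = 2 := by
  rcases h with ⟨t, ht⟩
  have : n - 1 = 2 * t := by omega
  rw [this]
  exact Nat.gcd_mul_right_right t 2 ▸ (by simp)

theorem gcd_two_pred_pow (q r : ℕ) (hq : 1 ≤ q) (hr : r ≠ 0) :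
    Nat.gcd 2 (q ^ r - 1) = Nat.gcd 2 (q - 1) := by
  rcases Nat.even_or_odd q with he | ho
  · rw [gcd_two_pred_even he hq,
      gcd_two_pred_even ((Nat.even_pow' hr).mpr he) (Nat.one_le_pow _ _ (by omega))]
  · rw [gcd_two_pred_odd ho, gcd_two_pred_odd ho.pow]

theorem order_poly_lt {q Q : ℕ} (hq : 1 ≤ q) (h : q < Q) : q * (q ^ 2 - 1) < Q * (Q ^ 2 - 1) := by
  have h1 : q ^ 2 < Q ^ 2 := Nat.pow_lt_pow_left h (by norm_num)
  have h2 : 1 ≤ q ^ 2 := Nat.one_le_pow _ _ hq
  have h3 : q ^ 2 - 1 < Q ^ 2 - 1 := by omega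
  exact Nat.mul_lt_mul'' h h3

theorem nine_pow_odd (r : ℕ) (hr : Odd r) : (3 ^ r) ^ 2 % 80 = 9 := by
  obtain ⟨j, rfl⟩ := hr
  have e : (3 ^ (2 * j + 1)) ^ 2 = 9 * 81 ^ j := by
    rw [← pow_mul]
    have : (2 * j + 1) * 2 = 2 + 4 * j := by ring
    rw [this, pow_add, pow_mul]
    norm_num
  rw [e, Nat.mul_mod, Nat.pow_mod]
  norm_num

theorem lt_pow_prime {q r : ℕ} (hq : 2 ≤ q) (hr : r.Prime) : q < q ^ r := by
  calc q = q ^ 1 := (pow_one q).symm
    _ < q ^ r := Nat.pow_lt_pow_right (by omega) hr.one_lt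

section
variable {F K : Type*} [Field F] [Fintype F] [Field K] [Fintype K]

/-- a subfield subgroup `PSL₂(K) ≤ PSL₂(F)` of prime degree `r` is maximal (in odd characteristic,
for `r` odd) -/
theorem isCoatom_psl2_subfield (p : ℕ) [Fact p.Prime] [CharP F p] [CharP K p] (r : ℕ)
    (hr : r.Prime) (hK : Fintype.card K ^ r = Fintype.card F)
    (hcase : (p = 2 ∧ Fintype.card K ≠ 2) ∨ (p ≠ 2 ∧ r ≠ 2))
    (H : Subgroup (Matrix.ProjectiveSpecialLinearGroup (Fin 2) F))
    (e : H ≃* Matrix.ProjectiveSpecialLinearGroup (Fin 2) K) : IsCoatom H := by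
  classical
  have hp : p.Prime := Fact.out
  have hq2 : 2 ≤ Fintype.card K := two_le_card
  have hQ2 : 2 ≤ Fintype.card F := two_le_card
  have hqQ : Fintype.card K < Fintype.card F := by
    rw [← hK]; exact lt_pow_prime hq2 hr
  obtain ⟨a, ha1, ha⟩ : ∃ a, 1 ≤ a ∧ Fintype.card K = p ^ a :=
    card_eq_char_pow (F := K) p 1 one_ne_zero (pow_one _)
  have hh : Nat.gcd 2 (Fintype.card K - 1) * Nat.card H =
      Fintype.card K * (Fintype.card K ^ 2 - 1) := by
    rw [Nat.card_congr e.toEquiv]; exact card_psl2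
  have hg : Nat.gcd 2 (Fintype.card F - 1) *
      Nat.card (Matrix.ProjectiveSpecialLinearGroup (Fin 2) F) =
      Fintype.card F * (Fintype.card F ^ 2 - 1) := card_psl2
  have hdd : Nat.gcd 2 (Fintype.card F - 1) = Nat.gcd 2 (Fintype.card K - 1) := by
    rw [← hK]; exact gcd_two_pred_pow _ _ (by omega) hr.ne_zero
  have hdpos : 0 < Nat.gcd 2 (Fintype.card K - 1) := gcd_two_pos _
  have hpq : p ∣ Fintype.card K := char_dvd_card p
  -- parity facts
  have hpar : (p = 2 ∧ Nat.gcd 2 (Fintype.card K - 1) = 1 ∧ 4 ≤ Fintype.card K ∧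
        4 ∣ Fintype.card K) ∨
      (p ≠ 2 ∧ Nat.gcd 2 (Fintype.card K - 1) = 2 ∧ Odd (Fintype.card K) ∧ Odd r) := by
    rcases hcase with ⟨h2, hne⟩ | ⟨h2, hr2⟩
    · left
      subst h2
      have hev : Even (Fintype.card K) := by
        rw [ha]; exact (Nat.even_pow' (by omega)).mpr even_two
      have ha2 : 2 ≤ a := by
        by_contra hlt
        have : a = 1 := by omega
        rw [this, pow_one] at ha
        exact hne ha
      have h4 : 4 ∣ Fintype.card K := by
        rw [ha]
        exact pow_dvd_pow 2 ha2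
      refine ⟨rfl, gcd_two_pred_even hev (by omega), ?_, h4⟩
      exact Nat.le_of_dvd (by omega) h4
    · right
      have hpodd : Odd p := hp.odd_of_ne_two h2
      refine ⟨h2, gcd_two_pred_odd (by rw [ha]; exact hpodd.pow), by rw [ha]; exact hpodd.pow, ?_⟩
      exact hr.odd_of_ne_two hr2
  have hlt : Nat.card H < Nat.card (Matrix.ProjectiveSpecialLinearGroup (Fin 2) F) := by
    have h1 := order_poly_lt (by omega) hqQ
    rw [← hh, ← hg, hdd] at h1
    exact Nat.lt_of_mul_lt_mul_left h1
  have hgen : GenByP p H := (genByP_psl2 (K := K) p).of_equiv e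
  have hnp : ¬ IsPGroup p H := fun h => not_isPGroup_psl2 (K := K) p (h.of_equiv e)
  have hpH : p ∣ Nat.card H := by
    have h1 : p ∣ Nat.gcd 2 (Fintype.card K - 1) * Nat.card H := by
      rw [hh]; exact dvd_trans hpq (Dvd.intro _ rfl)
    rcases hpar with ⟨_, hd, _, _⟩ | ⟨h2, hd, _, _⟩
    · rw [hd, one_mul] at h1; exact h1
    · rw [hd] at h1
      rcases (Nat.Prime.dvd_mul hp).mp h1 with h3 | h3
      · exfalso
        have := Nat.le_of_dvd (by norm_num) h3
        have := hp.two_le
        omega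
      · exact h3
  have h4H : p = 2 → 4 ∣ Nat.card H := by
    intro h2
    rcases hpar with ⟨_, hd, _, h4⟩ | ⟨hne, _⟩
    · rw [hd, one_mul] at hh
      rw [hh]; exact dvd_trans h4 (Dvd.intro _ rfl)
    · exact absurd h2 hne
  refine ⟨?_, ?_⟩
  · intro htop
    rw [htop, Subgroup.card_top] at hlt
    exact lt_irrefl _ hlt
  · intro L hHL
    by_contra hLtop
    have hle : Nat.card H ≤ Nat.card L := Subgroup.card_le_of_le hHL.le
    have hdvdHL : Nat.card H ∣ Nat.card L := Subgroup.card_dvd_of_le hHL.le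
    have hltL : Nat.card H < Nat.card L := by
      rcases Nat.lt_or_ge (Nat.card H) (Nat.card L) with h | h
      · exact h
      · exfalso
        exact hHL.ne (Subgroup.eq_of_le_of_card_ge hHL.le h)
    have hLg : Nat.card L ≠ Nat.card (Matrix.ProjectiveSpecialLinearGroup (Fin 2) F) := by
      intro h
      exact hLtop ((Subgroup.card_eq_iff_eq_top L).mp h)
    have hLdvd : Nat.card L ∣ Nat.card (Matrix.ProjectiveSpecialLinearGroup (Fin 2) F) :=
      Subgroup.card_subgroup_dvd_card L
    rcases overgroup_cases p H H L le_rfl hHL.le hgen hnp hpH h4H with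
      hc | ⟨K', _, _, m, hK', hiso⟩
    · -- A4, S4, A5
      rcases hpar with ⟨_, hd, hq4, _⟩ | ⟨_, hd, hqodd, hrodd⟩
      · rw [hd, one_mul] at hh
        have h60 : 60 ≤ Nat.card H := by
          rw [hh]
          have : 15 ≤ Fintype.card K ^ 2 - 1 := by
            have : 16 ≤ Fintype.card K ^ 2 := by nlinarith
            omega
          nlinarith
        omega
      · rw [hd] at hh
        -- q(q^2-1) = 2h < 120 so q = 3
        have hq3 : Fintype.card K = 3 := by
          by_contra hne
          have h5 : 5 ≤ Fintype.card K := by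
            rcases hqodd with ⟨t, ht⟩
            omega
          have : 24 ≤ Fintype.card K ^ 2 - 1 := by
            have : 25 ≤ Fintype.card K ^ 2 := by nlinarith
            omega
          have : 120 ≤ 2 * Nat.card H := by rw [hh]; nlinarith
          omega
        rw [hq3] at hh
        have e24 : 3 * (3 ^ 2 - 1) = 24 := by norm_num
        rw [e24] at hh
        have hh12 : Nat.card H = 12 := by omega
        rw [hq3] at hK
        rw [hdd, hd, ← hK] at hg
        have h80 := nine_pow_odd r hrodd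
        have hL24 : Nat.card L = 24 ∨ Nat.card L = 60 := by
          rcases hc with h | h | h
          · omega
          · left; exact h
          · right; exact h
        have hQodd : Odd (3 ^ r) := Odd.pow (by decide)
        rcases hL24 with h | h
        · rw [h] at hLdvd
          have h48 : 48 ∣ 3 ^ r * ((3 ^ r) ^ 2 - 1) := by
            rw [← hg]
            exact Nat.mul_dvd_mul_left 2 hLdvd
          have h16 : 16 ∣ 3 ^ r * ((3 ^ r) ^ 2 - 1) := dvd_trans (by norm_num) h48
          have hcop : Nat.Coprime 16 (3 ^ r) := by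
            apply Nat.Coprime.pow_right
            norm_num
          have h16' : 16 ∣ (3 ^ r) ^ 2 - 1 := hcop.dvd_of_dvd_mul_left h16
          omega
        · rw [h] at hLdvd
          have h120 : 120 ∣ 3 ^ r * ((3 ^ r) ^ 2 - 1) := by
            rw [← hg]
            exact Nat.mul_dvd_mul_left 2 hLdvd
          have h5 : 5 ∣ 3 ^ r * ((3 ^ r) ^ 2 - 1) := dvd_trans (by norm_num) h120
          have hcop : Nat.Coprime 5 (3 ^ r) := by
            apply Nat.Coprime.pow_right
            norm_num
          have h5' : 5 ∣ (3 ^ r) ^ 2 - 1 := hcop.dvd_of_dvd_mul_left h5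
          omega
    · -- subfield cases
      have hldvd : Nat.card L ∣ Fintype.card K' * (Fintype.card K' ^ 2 - 1) := by
        rcases hiso with ⟨⟨eL⟩⟩ | ⟨⟨eL⟩⟩
        · rw [Nat.card_congr eL.toEquiv]; exact card_psl2_dvd
        · rw [Nat.card_congr eL.toEquiv, card_pgl2]
      have hdvd : Fintype.card K * (Fintype.card K ^ 2 - 1) ∣
          2 * (Fintype.card K' * (Fintype.card K' ^ 2 - 1)) := by
        rw [← hh]
        calc Nat.gcd 2 (Fintype.card K - 1) * Nat.card H ∣ 2 * Nat.card H :=
              Nat.mul_dvd_mul_right (gcd_two_dvd_two _) _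
          _ ∣ 2 * Nat.card L := Nat.mul_dvd_mul_left 2 hdvdHL
          _ ∣ 2 * (Fintype.card K' * (Fintype.card K' ^ 2 - 1)) := Nat.mul_dvd_mul_left 2 hldvd
      rcases subfield_card_cases p r m hr hK hK' hdvd with hq' | hq'
      · -- |K'| = |K|
        rcases hiso with ⟨⟨eL⟩⟩ | ⟨⟨eL⟩⟩
        · have hl : Nat.gcd 2 (Fintype.card K' - 1) * Nat.card L =
              Fintype.card K' * (Fintype.card K' ^ 2 - 1) := by
            rw [Nat.card_congr eL.toEquiv]; exact card_psl2
          rw [hq', ← hh] at hl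
          have := Nat.eq_of_mul_eq_mul_left hdpos hl
          omega
        · have hl : Nat.card L = Fintype.card K' * (Fintype.card K' ^ 2 - 1) := by
            rw [Nat.card_congr eL.toEquiv]; exact card_pgl2
          rw [hq', ← hh] at hl
          rcases hpar with ⟨_, hd, _, _⟩ | ⟨_, _, hqodd, hrodd⟩
          · rw [hd, one_mul] at hl
            omega
          · have hm : m = r := by
              rw [hq', ← hK] at hK'
              exact Nat.pow_right_injective hq2 hK'
            have hFodd : Odd (Fintype.card F) := by rw [← hK]; exact hqodd.pow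
            exact Cfsg.Agent.S0805.no_pgl_of_odd hFodd m (hm ▸ hrodd) hK' L eL
      · -- |K'| = |F|
        rcases hiso with ⟨⟨eL⟩⟩ | ⟨⟨eL⟩⟩
        · have hl : Nat.gcd 2 (Fintype.card K' - 1) * Nat.card L =
              Fintype.card K' * (Fintype.card K' ^ 2 - 1) := by
            rw [Nat.card_congr eL.toEquiv]; exact card_psl2
          rw [hq', ← hg] at hl
          exact hLg (Nat.eq_of_mul_eq_mul_left (gcd_two_pos _) hl)
        · have hl : Nat.card L = Fintype.card K' * (Fintype.card K' ^ 2 - 1) := by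
            rw [Nat.card_congr eL.toEquiv]; exact card_pgl2
          rw [hq', ← hg] at hl
          have hLle : Nat.card L ≤ Nat.card (Matrix.ProjectiveSpecialLinearGroup (Fin 2) F) :=
            Nat.le_of_dvd Nat.card_pos hLdvd
          have hge : Nat.card (Matrix.ProjectiveSpecialLinearGroup (Fin 2) F) ≤ Nat.card L := by
            rw [hl]
            exact Nat.le_mul_of_pos_left _ (gcd_two_pos _)
          exact hLg (le_antisymm hLle hge)

end

end Cfsg.Agent.Lib.Helper28.P2
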