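import Cfsg.Agent.Lib.Helper28.E2F
import Cfsg.Agent.S2475
import Cfsg.Agent.Lib.Helper28.P2Max

set_option autoImplicit false

namespace Cfsg.Agent.Lib.Helper28.E2

open Matrix Cfsg.Agent.Lib.helper3 MulAction
open scoped LinearAlgebra.Projectivization MatrixGroups Pointwise

section
variable {F : Type*} [Field F] [CharP F 2]

theorem inverts_of (J y : S2 F) (h00 : J.1 0 0 = J.1 1 1)
    (hrel : J.1 1 1 * (y.1 0 0 + y.1 1 1) = y.1 0 1 * J.1 1 0 + J.1 0 1 * y.1 1 0) :
    J * y = y⁻¹ * J := by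
  have h2 : (2 : F) = 0 := CharTwo.two_eq_zero
  apply S2.ext'
  · rw [mul_00, mul_00, inv_00, inv_01, h00]
    linear_combination hrel + (J.1 0 1 * y.1 1 0 - y.1 1 1 * J.1 1 1 + y.1 0 1 * J.1 1 0) * h2
  · rw [mul_01, mul_01, inv_00, inv_01, h00]
    linear_combination (y.1 0 1 * J.1 1 1) * h2
  · rw [mul_10, mul_10, inv_10, inv_11, h00]
    linear_combination (y.1 1 0 * J.1 1 1) * h2
  · rw [mul_11, mul_11, inv_10, inv_11]
    linear_combination (-1 : F) * hrel + (J.1 1 1 * y.1 1 1) * h2

/-- every element of `SL₂` in characteristic two is inverted by an element of square one -/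
theorem exists_invol_inverting (y : S2 F) : ∃ J : S2 F, J * J = 1 ∧ J * y * J⁻¹ = y⁻¹ := by
  have h2 : (2 : F) = 0 := CharTwo.two_eq_zero
  by_cases hb : y.1 0 1 = 0
  · by_cases hc : y.1 1 0 = 0
    · -- diagonal
      refine ⟨dcMk 0 1 1 0 (by linear_combination (-1 : F) * h2), ?_, ?_⟩
      · apply S2.ext'
        · rw [mul_00, one_00]; simp
        · rw [mul_01, one_01]; simp
        · rw [mul_10, one_10]; simp
        · rw [mul_11, one_11]; simp
      · rw [mul_inv_eq_iff_eq_mul]
        apply inverts_of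
        · rfl
        · rw [hb, hc]
          show (0 : F) * _ = 0 * 1 + 1 * 0
          ring
    · -- `b = 0`, `c ≠ 0`
      refine ⟨uu ((y.1 0 0 + y.1 1 1) / y.1 1 0), ?_, ?_⟩
      · rw [uu_mul, ← two_mul, h2, zero_mul, uu_zero]
      · rw [mul_inv_eq_iff_eq_mul]
        apply inverts_of
        · simp
        · simp [hb]
          field_simp
  · refine ⟨vv ((y.1 0 0 + y.1 1 1) / y.1 0 1), ?_, ?_⟩
    · rw [vv_mul, ← two_mul, h2, zero_mul, vv_zero]
    · rw [mul_inv_eq_iff_eq_mul]
      apply inverts_of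
      · simp
      · simp
        field_simp

end

section sylow
variable {G : Type*} [Group G] [Finite G]

/-- an element of prime order `r` is conjugate into any cyclic subgroup whose order carries the
full `r`-part of the group order -/
theorem exists_conj_mem_zpowers (r : ℕ) [Fact r.Prime] (x y : G) (hx : orderOf x = r) (m' : ℕ)
    (hcard : Nat.card G = orderOf y * m') (hm' : ¬ r ∣ m') :
    ∃ g : G, g * x * g⁻¹ ∈ Subgroup.zpowers y := by
  obtain ⟨PY⟩ : Nonempty (Sylow r (Subgroup.zpowers y)) := inferInstance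
  obtain ⟨P, hP⟩ : ∃ P : Subgroup G, P = (PY : Subgroup (Subgroup.zpowers y)).map
      (Subgroup.zpowers y).subtype := ⟨_, rfl⟩
  have hPle : P ≤ Subgroup.zpowers y := by rw [hP]; exact Subgroup.map_subtype_le _
  have hm0 : m' ≠ 0 := by rintro rfl; exact hm' (dvd_zero r)
  have hy0 : orderOf y ≠ 0 := (orderOf_pos y).ne'
  have hfac : (Nat.card G).factorization r = (orderOf y).factorization r := by
    rw [hcard, Nat.factorization_mul hy0 hm0, Finsupp.add_apply,
      Nat.factorization_eq_zero_of_not_dvd hm', add_zero]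
  have hcP : Nat.card P = r ^ (Nat.card G).factorization r := by
    rw [hP, ← Nat.card_congr (Subgroup.equivMapOfInjective _ (Subgroup.zpowers y).subtype
      (Subgroup.zpowers y).subtype_injective).toEquiv, Sylow.card_eq_multiplicity, Nat.card_zpowers,
      hfac]
  let PG : Sylow r G := Sylow.ofCard P hcP
  have hx' : IsPGroup r (Subgroup.zpowers x) :=
    IsPGroup.of_card (n := 1) (by rw [Nat.card_zpowers, hx, pow_one])
  obtain ⟨P', hP'⟩ := hx'.exists_le_sylow
  obtain ⟨g, hg⟩ := MulAction.exists_smul_eq G P' PG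
  refine ⟨g, hPle ?_⟩
  have h1 : (MulAut.conj g) • x ∈ (MulAut.conj g) • (P' : Subgroup G) :=
    Subgroup.smul_mem_pointwise_smul x (MulAut.conj g) _ (hP' (Subgroup.mem_zpowers x))
  have h2 : ((g • P' : Sylow r G) : Subgroup G) = P := by rw [hg]; rfl
  rw [← h2, Sylow.smul_def]
  exact h1

end sylow

section
variable {F : Type*} [Field F] [CharP F 2]

/-- `SL₂(F) ≃* PSL₂(F)` in characteristic two -/
noncomputable def e0 (F : Type*) [Field F] [CharP F 2] :
    S2 F ≃* Matrix.ProjectiveSpecialLinearGroup (Fin 2) F :=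
  ((QuotientGroup.quotientMulEquivOfEq
    (Cfsg.Agent.Lib.helper6.PGLSL.center_SL2_bot (F := F) CharTwo.two_eq_zero)).trans
      QuotientGroup.quotientBot).symm

instance : Nontrivial (S2 F) := by
  refine ⟨⟨uu 1, 1, fun h => ?_⟩⟩
  have := congrArg (fun X : S2 F => X.1 0 1) h
  simp at this

end

section
variable {F : Type*} [Field F] [Fintype F] [CharP F 2]

theorem isSimpleGroup_S2 (h4 : 4 ≤ Fintype.card F) : IsSimpleGroup (S2 F) := by
  have : IsSimpleGroup (Matrix.ProjectiveSpecialLinearGroup (Fin 2) F) :=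
    Matrix.ProjectiveSpecialLinearGroup.rank_two_simple (by rw [Nat.card_eq_fintype_card]; exact h4)
  exact (e0 F).isSimpleGroup

theorem card_even : Even (Fintype.card F) := by
  obtain ⟨f, hf1, hf⟩ := card_eq_two_pow (F := F)
  rw [hf]
  exact (Nat.even_pow' (by omega)).mpr even_two

theorem exists_orderOf_pred : ∃ y : S2 F, orderOf y = Fintype.card F - 1 := by
  have hq : 2 ≤ Fintype.card F := Fintype.one_lt_card
  obtain ⟨x, hx⟩ := Cfsg.Agent.S2475.exists_order_split (F := F) hq
  refine ⟨(e0 F).symm x, ?_⟩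
  rw [MulEquiv.orderOf_eq, hx, Cfsg.Agent.Lib.Helper28.P2.gcd_two_pred_even card_even (by omega),
    Nat.div_one]

theorem exists_orderOf_succ : ∃ y : S2 F, orderOf y = Fintype.card F + 1 := by
  have : Fact (Nat.Prime 2) := ⟨Nat.prime_two⟩
  obtain ⟨x, hx⟩ := Cfsg.Agent.S2475.exists_order_nonsplit (F := F) 2
  refine ⟨(e0 F).symm x, ?_⟩
  have hodd : Odd (Fintype.card F + 1) := card_even.add_one
  rw [MulEquiv.orderOf_eq, hx, Nat.coprime_two_left.mpr hodd, Nat.div_one]

end

end Cfsg.Agent.Lib.Helper28.E2
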