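import Cfsg.Agent.Lib.Helper28.E2G
import Cfsg.Agent.Lib.helper6.PSL2Max
import Cfsg.Agent.S0799
import Cfsg.Agent.S0252

set_option autoImplicit false

namespace Cfsg.Agent.Lib.Helper28.E2

open Matrix Cfsg.Agent.Lib.helper3 MulAction
open scoped LinearAlgebra.Projectivization MatrixGroups Pointwise commutatorElement

/-- the (characteristic two) Dickson list in an isomorphism-invariant form -/
def DList (M : Type*) [Group M] (q : ℕ) : Prop :=
  (∀ a b : M, a * b = b * a) ∨
  (∃ k : ℕ, (k ∣ q + 1 ∨ k ∣ q - 1) ∧ Nonempty (M ≃* DihedralGroup k)) ∨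
  (∃ N : Subgroup M, N.Normal ∧ IsPGroup 2 N ∧ N ≠ ⊥) ∨
  (∃ (K : Type) (_ : Field K) (_ : Fintype K) (_ : CharP K 2) (m : ℕ),
    Fintype.card K ^ m = q ∧ Nonempty (M ≃* S2 K))

section abstract
variable {M : Type*} [Group M]

/-- a metabelian group all of whose commutators are involutions is abelian or has a non-trivial
normal 2-subgroup -/
theorem comm_or_O2 (hmeta : ∀ a b c d : M, ⁅⁅a, b⁆, ⁅c, d⁆⁆ = 1) (hcp : ∀ a b : M, ⁅a, b⁆ ^ 2 = 1) :
    (∀ a b : M, a * b = b * a) ∨ ∃ N : Subgroup M, N.Normal ∧ IsPGroup 2 N ∧ N ≠ ⊥ := by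
  by_cases hbot : commutator M = ⊥
  · left
    intro a b
    have h1 : ⁅a, b⁆ ∈ commutator M := by
      rw [commutator_eq_closure]
      exact Subgroup.subset_closure ⟨a, b, rfl⟩
    rw [hbot, Subgroup.mem_bot] at h1
    exact commutatorElement_eq_one_iff_mul_comm.mp h1
  · right
    refine ⟨commutator M, inferInstance, ?_, hbot⟩
    have hcomm : ∀ x ∈ commutatorSet M, ∀ y ∈ commutatorSet M, x * y = y * x := by
      rintro _ ⟨a, b, rfl⟩ _ ⟨c, d, rfl⟩
      exact commutatorElement_eq_one_iff_mul_comm.mp (hmeta a b c d)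
    have hmc := Subgroup.isMulCommutative_closure hcomm
    have hsq : ∀ g ∈ Subgroup.closure (commutatorSet M), g ^ 2 = 1 := by
      intro g hg
      induction hg using Subgroup.closure_induction with
      | mem x hx =>
        obtain ⟨a, b, rfl⟩ := hx
        exact hcp a b
      | one => exact one_pow 2
      | mul x y hx hy ihx ihy =>
        have h1 : (⟨x, hx⟩ : Subgroup.closure (commutatorSet M)) * ⟨y, hy⟩ = ⟨y, hy⟩ * ⟨x, hx⟩ :=
          isMulCommutative_iff.mp hmc _ _
        have h2 : x * y = y * x := congrArg Subtype.val h1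
        have h3 : Commute x y := h2
        rw [h3.mul_pow, ihx, ihy, one_mul]
      | inv x hx ihx => rw [inv_pow, ihx, inv_one]
    intro g
    refine ⟨1, ?_⟩
    have := hsq g.1 (by rw [← commutator_eq_closure]; exact g.2)
    apply Subtype.ext
    rw [pow_one]
    simpa using this

theorem O2_of_equiv {X : Type*} [Group X] (e : M ≃* X) (N : Subgroup X) (hN : N.Normal)
    (h2 : IsPGroup 2 N) (hne : N ≠ ⊥) : ∃ N' : Subgroup M, N'.Normal ∧ IsPGroup 2 N' ∧ N' ≠ ⊥ := by
  refine ⟨N.comap e.toMonoidHom, hN.comap _, h2.comap_of_injective _ e.injective, ?_⟩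
  intro h
  apply hne
  rw [eq_bot_iff]
  intro n hn
  have h1 : e.symm n ∈ N.comap e.toMonoidHom := by
    show e (e.symm n) ∈ N
    rw [MulEquiv.apply_symm_apply]; exact hn
  rw [h, Subgroup.mem_bot] at h1
  rw [Subgroup.mem_bot]
  have := congrArg e h1
  rwa [MulEquiv.apply_symm_apply, map_one] at this

theorem O2_alt4 : ∃ N : Subgroup (alternatingGroup (Fin 4)), N.Normal ∧ IsPGroup 2 N ∧ N ≠ ⊥ := by
  have h4 : Nat.card (Fin 4) = 4 := by simp
  refine ⟨alternatingGroup.kleinFour (Fin 4), alternatingGroup.normal_kleinFour h4, ?_, ?_⟩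
  · exact IsPGroup.of_card (n := 2) (by rw [alternatingGroup.kleinFour_card_of_card_eq_four h4]; norm_num)
  · intro h
    have := alternatingGroup.kleinFour_card_of_card_eq_four h4
    rw [h, Subgroup.card_bot] at this
    omega

theorem O2_perm4 : ∃ N : Subgroup (Equiv.Perm (Fin 4)), N.Normal ∧ IsPGroup 2 N ∧ N ≠ ⊥ := by
  have h4 : Nat.card (Fin 4) = 4 := by simp
  have := alternatingGroup.characteristic_kleinFour h4
  have hc : Nat.card ((alternatingGroup.kleinFour (Fin 4)).map (alternatingGroup (Fin 4)).subtype) = 4 := by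
    rw [← Nat.card_congr (Subgroup.equivMapOfInjective _ (alternatingGroup (Fin 4)).subtype
      (alternatingGroup (Fin 4)).subtype_injective).toEquiv]
    exact alternatingGroup.kleinFour_card_of_card_eq_four h4
  refine ⟨(alternatingGroup.kleinFour (Fin 4)).map (alternatingGroup (Fin 4)).subtype,
    ConjAct.normal_of_characteristic_of_normal, ?_, ?_⟩
  · exact IsPGroup.of_card (n := 2) (by rw [hc]; norm_num)
  · intro h
    rw [h, Subgroup.card_bot] at hc
    omega

end abstract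

section
variable {F : Type*} [Field F] [Fintype F] [CharP F 2]

theorem charP_two_of_card_pow {K : Type*} [Field K] [Fintype K] (m : ℕ) (hm : m ≠ 0)
    (hKm : Fintype.card K ^ m = Fintype.card F) : CharP K 2 := by
  obtain ⟨f, hf1, hf⟩ := card_eq_two_pow (F := F)
  obtain ⟨p', hp'⟩ := CharP.exists K
  have hp'prime : p'.Prime := CharP.char_is_prime K p'
  have : Fact p'.Prime := ⟨hp'prime⟩
  have h1 : p' ∣ Fintype.card K := Cfsg.Agent.Lib.Helper28.P2.char_dvd_card p'
  have h2 : p' ∣ 2 ^ f := by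
    rw [← hf, ← hKm]
    exact dvd_trans h1 (dvd_pow_self _ hm)
  have h3 : p' = 2 := (Nat.prime_dvd_prime_iff_eq hp'prime Nat.prime_two).mp
    (hp'prime.dvd_of_dvd_pow h2)
  rw [h3] at hp'
  exact hp'

theorem four_pow_of_sixty_dvd (h : 60 ∣ Fintype.card F * (Fintype.card F ^ 2 - 1)) :
    ∃ j : ℕ, 4 ^ j = Fintype.card F := by
  obtain ⟨f, hf1, hf⟩ := card_eq_two_pow (F := F)
  rcases Nat.even_or_odd' f with ⟨j, hj | hj⟩
  · refine ⟨j, ?_⟩
    rw [hf, hj, pow_mul]; norm_num
  · exfalso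
    have h5 : 5 ∣ Fintype.card F * (Fintype.card F ^ 2 - 1) := dvd_trans (by norm_num) h
    have hq2 : Fintype.card F ^ 2 % 5 = 4 := by
      rw [hf, hj, ← pow_mul]
      have : (2 * j + 1) * 2 = 4 * j + 2 := by ring
      rw [this, pow_add, pow_mul, Nat.mul_mod, Nat.pow_mod]
      norm_num
    rcases (Nat.Prime.dvd_mul (by norm_num : Nat.Prime 5)).mp h5 with h6 | h6
    · rw [hf] at h6
      have := (Nat.Prime.dvd_of_dvd_pow (by norm_num : Nat.Prime 5) h6)
      omega
    · have h7 : 1 ≤ Fintype.card F ^ 2 := Nat.one_le_pow _ _ Fintype.card_pos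
      omega

/-- Dickson's list for a subgroup of `SL₂(F)`, characteristic two -/
theorem dlist (M : Subgroup (S2 F)) : DList M (Fintype.card F) := by
  classical
  have : Fact (Nat.Prime 2) := ⟨Nat.prime_two⟩
  obtain ⟨f, hf1, hf⟩ := card_eq_two_pow (F := F)
  have hq2 : 2 ≤ Fintype.card F := Fintype.one_lt_card
  have hgcd : Nat.gcd 2 (Fintype.card F - 1) = 1 :=
    Cfsg.Agent.Lib.Helper28.P2.gcd_two_pred_even card_even (by omega)
  obtain ⟨M', hM'⟩ : ∃ M', M' = M.map (e0 F).toMonoidHom := ⟨_, rfl⟩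
  have i : M ≃* M' := by
    rw [hM']
    exact Subgroup.equivMapOfInjective M (e0 F).toMonoidHom (e0 F).injective
  rcases Cfsg.Agent.S0799.result (F := F) (q := Fintype.card F) rfl 2 M' with
    ⟨k, hk, hL⟩ | ⟨P, K', hK', ⟨e⟩⟩ | ⟨⟨e⟩⟩ | ⟨⟨e⟩⟩ | ⟨⟨e⟩⟩ | ⟨K, iK, iK', m, hKm, hiso⟩
  · -- cyclic or dihedral
    rw [hgcd, Nat.div_one, Nat.div_one] at hk
    rcases hL with ⟨hcyc, -⟩ | ⟨⟨e⟩⟩
    · left
      intro a b
      apply i.injective
      rw [map_mul, map_mul]
      exact Cfsg.Agent.Lib.helper6.PSL2Max.comm_of_isCyclic _ _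
    · right; left
      exact ⟨k, hk, ⟨i.trans e⟩⟩
  · -- Borel
    obtain ⟨hmeta, hcp⟩ := Cfsg.Agent.Lib.helper6.PSL2Max.psl_borel 2 P K' hK'
    have hmeta' : ∀ a b c d : M, ⁅⁅a, b⁆, ⁅c, d⁆⁆ = 1 :=
      Cfsg.Agent.Lib.helper6.PSL2Max.Meta.of_equiv (i.trans e) hmeta
    have hcp' : ∀ a b : M, ⁅a, b⁆ ^ 2 = 1 := by
      intro a b
      apply (i.trans e).injective
      rw [map_pow, map_commutatorElement, map_one]
      exact hcp _ _
    rcases comm_or_O2 hmeta' hcp' with h | h
    · left; exact h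
    · right; right; left; exact h
  · -- A4
    right; right; left
    obtain ⟨N, h1, h2, h3⟩ := O2_alt4
    exact O2_of_equiv (i.trans e) N h1 h2 h3
  · -- S4
    right; right; left
    obtain ⟨N, h1, h2, h3⟩ := O2_perm4
    exact O2_of_equiv (i.trans e) N h1 h2 h3
  · -- A5
    right; right; right
    have hcard : Nat.card M = 60 := by
      rw [Nat.card_congr (i.trans e).toEquiv, Cfsg.Agent.Lib.Helper28.P2.card_alt5]
    have hdvd : 60 ∣ Fintype.card F * (Fintype.card F ^ 2 - 1) := by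
      rw [← hcard, ← Cfsg.Agent.Lib.helper15.card_SL2]
      exact Subgroup.card_subgroup_dvd_card M
    obtain ⟨j, hj⟩ := four_pow_of_sixty_dvd hdvd
    let _ : Fintype (GaloisField 2 2) := Fintype.ofFinite _
    have hc4 : Fintype.card (GaloisField 2 2) = 4 := by
      rw [← Nat.card_eq_fintype_card, GaloisField.card 2 2 (by norm_num)]
      norm_num
    obtain ⟨e5⟩ := Cfsg.Agent.S0252.result (F := GaloisField 2 2) hc4
    refine ⟨GaloisField 2 2, inferInstance, inferInstance, inferInstance, j, by rw [hc4]; exact hj,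
      ⟨((i.trans e).trans e5.symm).trans (e0 (GaloisField 2 2)).symm⟩⟩
  · -- subfield
    right; right; right
    have hm : m ≠ 0 := by
      rintro rfl
      rw [pow_zero] at hKm
      omega
    have hchar : CharP K 2 := charP_two_of_card_pow (F := F) m hm hKm
    refine ⟨K, iK, iK', hchar, m, hKm, ?_⟩
    rcases hiso with ⟨⟨e⟩⟩ | ⟨⟨e⟩⟩
    · exact ⟨(i.trans e).trans (e0 K).symm⟩
    · obtain ⟨e'⟩ := Cfsg.Agent.Lib.helper6.PGLSL.nonempty_PGL2_mulEquiv_SL2 (F := K)
        CharTwo.two_eq_zero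
      exact ⟨(i.trans e).trans e'⟩

end

end Cfsg.Agent.Lib.Helper28.E2
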