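import Cfsg.Agent.Lib.Helper28.E2H
import Cfsg.Agent.Lib.Helper24.TwoInvol

set_option autoImplicit false

namespace Cfsg.Agent.Lib.Helper28.E2

open Matrix Cfsg.Agent.Lib.helper3 MulAction
open scoped LinearAlgebra.Projectivization MatrixGroups Pointwise commutatorElement

section
variable {F : Type*} [Field F] [Fintype F] [CharP F 2]

/-- a maximal subgroup with a non-trivial normal 2-subgroup has order `q (q - 1)` -/
theorem card_of_O2 (M : Subgroup (S2 F)) (hM : IsCoatom M) (N : Subgroup M) (hN : N.Normal)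
    (h2 : IsPGroup 2 N) (hne : N ≠ ⊥) :
    Nat.card M = Fintype.card F * (Fintype.card F - 1) := by
  apply card_of_normalizes_two_subgroup M hM (N.map M.subtype) (h2.map _) ?_ ?_
  · intro h
    apply hne
    rw [eq_bot_iff]
    intro n hn
    have h1 : (n : S2 F) ∈ N.map M.subtype := ⟨n, hn, rfl⟩
    rw [h, Subgroup.mem_bot] at h1
    rw [Subgroup.mem_bot]
    exact Subtype.ext h1
  · intro g hg
    apply Subgroup.mem_normalizer_fintype
    rintro _ ⟨n, hn, rfl⟩
    refine ⟨(⟨g, hg⟩ : M) * n * (⟨g, hg⟩ : M)⁻¹, hN.conj_mem n hn ⟨g, hg⟩, ?_⟩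
    simp

omit [Fintype F] [CharP F 2] in
theorem uu_vv_not_comm : uu (1 : F) * vv 1 ≠ vv 1 * uu 1 := by
  intro h
  have := congrArg (fun X : S2 F => X.1 0 0) h
  simp only [mul_00] at this
  simp at this

/-- the dihedral case: a maximal subgroup normalising a subgroup of odd prime order -/
theorem dihedral_case (h4 : 4 ≤ Fintype.card F) (M : Subgroup (S2 F)) (hM : IsCoatom M)
    (x : S2 F) (r : ℕ) (hr : r.Prime) (hr2 : r ≠ 2) (hx : orderOf x = r)
    (hnorm : M ≤ Subgroup.normalizer (Subgroup.zpowers x : Set (S2 F))) :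
    Nat.card M = Fintype.card F * (Fintype.card F - 1) ∨
      Nonempty (M ≃* DihedralGroup (Fintype.card F - 1)) ∨
      Nonempty (M ≃* DihedralGroup (Fintype.card F + 1)) := by
  classical
  have : Fact r.Prime := ⟨hr⟩
  obtain ⟨q, hq⟩ : ∃ q, q = Fintype.card F := ⟨_, rfl⟩
  rw [← hq] at h4 ⊢
  obtain ⟨f, hf1, hf⟩ := card_eq_two_pow (F := F)
  rw [← hq] at hf
  have hsimple : IsSimpleGroup (S2 F) := isSimpleGroup_S2 (by rw [← hq]; exact h4)
  have hcardG : Nat.card (S2 F) = q * (q ^ 2 - 1) := by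
    rw [hq]; exact Cfsg.Agent.Lib.helper15.card_SL2
  have hx1 : x ≠ 1 := by
    rintro rfl
    rw [orderOf_one] at hx
    exact hr.one_lt.ne hx
  have hqeven : Even q := by rw [hq]; exact card_even
  -- the normaliser is proper
  have hNtop : Subgroup.normalizer (Subgroup.zpowers x : Set (S2 F)) ≠ ⊤ := by
    intro htop
    have hnormal : (Subgroup.zpowers x).Normal := Subgroup.normalizer_eq_top_iff.mp htop
    rcases hnormal.eq_bot_or_eq_top with h | h
    · have : x ∈ Subgroup.zpowers x := Subgroup.mem_zpowers x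
      rw [h, Subgroup.mem_bot] at this
      exact hx1 this
    · have h1 : uu (1 : F) ∈ Subgroup.zpowers x := by rw [h]; trivial
      have h2 : vv (1 : F) ∈ Subgroup.zpowers x := by rw [h]; trivial
      obtain ⟨i, hi⟩ := Subgroup.mem_zpowers_iff.mp h1
      obtain ⟨j, hj⟩ := Subgroup.mem_zpowers_iff.mp h2
      apply uu_vv_not_comm (F := F)
      rw [← hi, ← hj, ← _root_.zpow_add, ← _root_.zpow_add, add_comm]
  have hMN : M = Subgroup.normalizer (Subgroup.zpowers x : Set (S2 F)) := by
    rcases eq_or_lt_of_le hnorm with h | h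
    · exact h
    · exact absurd (hM.2 _ h) hNtop
  have hxM : x ∈ M := by
    rw [hMN]
    exact Subgroup.le_normalizer (Subgroup.mem_zpowers x)
  -- arithmetic of `r`
  have hrdvd : r ∣ q * (q ^ 2 - 1) := by
    rw [← hx, ← hcardG]; exact orderOf_dvd_natCard x
  have hsq : q ^ 2 - 1 = (q + 1) * (q - 1) :=
    Cfsg.Agent.Lib.helper6.PSL2Index.sq_sub_one_eq q (by omega)
  have hr2' : ¬ r ∣ 2 := by
    intro h
    exact hr2 ((Nat.prime_dvd_prime_iff_eq hr Nat.prime_two).mp h)
  have hrq : ¬ r ∣ q := by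
    rw [hf]
    intro h
    exact hr2' (hr.dvd_of_dvd_pow h)
  obtain ⟨n, m', hn, hnm, hrn, hrm'⟩ : ∃ n m' : ℕ, (n = q - 1 ∨ n = q + 1) ∧
      q * (q ^ 2 - 1) = n * m' ∧ r ∣ n ∧ ¬ r ∣ m' := by
    rcases hr.dvd_mul.mp hrdvd with h | h
    · exact absurd h hrq
    · rw [hsq] at h
      rcases hr.dvd_mul.mp h with h | h
      · refine ⟨q + 1, q * (q - 1), Or.inr rfl, by rw [hsq]; ring, h, ?_⟩
        intro h'
        rcases hr.dvd_mul.mp h' with h'' | h''
        · exact hrq h''
        · have h3 : r ∣ (q + 1) - (q - 1) := Nat.dvd_sub h h''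
          have h5 : (q + 1) - (q - 1) = 2 := by omega
          rw [h5] at h3
          exact hr2' h3
      · refine ⟨q - 1, q * (q + 1), Or.inl rfl, by rw [hsq]; ring, h, ?_⟩
        intro h'
        rcases hr.dvd_mul.mp h' with h'' | h''
        · exact hrq h''
        · have h3 : r ∣ (q + 1) - (q - 1) := Nat.dvd_sub h'' h
          have h5 : (q + 1) - (q - 1) = 2 := by omega
          rw [h5] at h3
          exact hr2' h3
  have hn3 : 3 ≤ n := by rcases hn with rfl | rfl <;> omega
  have hnodd : Odd n := by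
    rcases hqeven with ⟨t, ht⟩
    rcases hn with rfl | rfl
    · exact ⟨t - 1, by omega⟩
    · exact ⟨t, by omega⟩
  -- a cyclic subgroup of order `n` containing `x`
  obtain ⟨y₀, hy₀⟩ : ∃ y : S2 F, orderOf y = n := by
    rcases hn with rfl | rfl
    · rw [hq]; exact exists_orderOf_pred
    · rw [hq]; exact exists_orderOf_succ
  obtain ⟨g, hg⟩ := exists_conj_mem_zpowers r x y₀ hx m' (by rw [hcardG, hy₀, hnm]) hrm'
  obtain ⟨y, hydef⟩ : ∃ y, y = g⁻¹ * y₀ * g := ⟨_, rfl⟩
  have hy : orderOf y = n := by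
    rw [← hy₀, hydef]
    have := MulEquiv.orderOf_eq (MulAut.conj g⁻¹) y₀
    rw [← this]
    congr 1
    simp
  have hxy : x ∈ Subgroup.zpowers y := by
    obtain ⟨k, hk⟩ := Subgroup.mem_zpowers_iff.mp hg
    refine Subgroup.mem_zpowers_iff.mpr ⟨k, ?_⟩
    have h1 : y ^ k = g⁻¹ * y₀ ^ k * g := by
      rw [hydef]
      have := conj_zpow (i := k) (a := g⁻¹) (b := y₀)
      rw [inv_inv] at this
      exact this
    rw [h1, hk]; group
  -- the inverting involution
  obtain ⟨J, hJ2, hJy⟩ := exists_invol_inverting y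
  have hJinv : J⁻¹ = J := inv_eq_of_mul_eq_one_left hJ2
  have hy2 : y ^ 2 ≠ 1 := by
    intro h
    have := orderOf_dvd_of_pow_eq_one h
    rw [hy] at this
    have := Nat.le_of_dvd (by norm_num) this
    omega
  have hyM : y ∈ M := by
    rw [hMN]
    apply Subgroup.mem_normalizer_fintype
    intro z hz
    have hzy : z ∈ Subgroup.zpowers y := (Subgroup.zpowers_le.mpr hxy) hz
    obtain ⟨k, rfl⟩ := Subgroup.mem_zpowers_iff.mp hzy
    have h1 : y * y ^ k * y⁻¹ = y ^ k := by group
    rw [h1]; exact hz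
  have hJx : J * x * J⁻¹ = x⁻¹ := by
    obtain ⟨j, hj⟩ := Subgroup.mem_zpowers_iff.mp hxy
    rw [← hj, ← conj_zpow, hJy, _root_.inv_zpow]
  have hJM : J ∈ M := by
    rw [hMN]
    apply Subgroup.mem_normalizer_fintype
    intro z hz
    obtain ⟨k, rfl⟩ := Subgroup.mem_zpowers_iff.mp hz
    rw [← conj_zpow, hJx]
    exact Subgroup.zpow_mem _ (Subgroup.inv_mem _ (Subgroup.mem_zpowers x)) k
  have hJ1 : J ≠ 1 := by
    rintro rfl
    rw [one_mul, inv_one, mul_one] at hJy
    apply hy2
    rw [pow_two]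
    nth_rewrite 1 [hJy]
    exact inv_mul_cancel y
  have hJord : orderOf J = 2 := orderOf_eq_prime (by rw [pow_two]; exact hJ2) hJ1
  have hJyJ : J * y * J = y⁻¹ := by rw [← hJy, hJinv]
  have hJy2 : (J * y) * (J * y) = 1 := by
    calc (J * y) * (J * y) = (J * y * J) * y := by group
      _ = 1 := by rw [hJyJ]; exact inv_mul_cancel y
  have hJy1 : J * y ≠ 1 := by
    intro h
    have h1 : y = J := by
      have := eq_inv_of_mul_eq_one_right h
      rw [this, hJinv]
    apply hy2
    rw [h1, pow_two]; exact hJ2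
  have hJyord : orderOf (J * y) = 2 := orderOf_eq_prime (by rw [pow_two]; exact hJy2) hJy1
  have hprod : orderOf (J * (J * y)) = n := by
    rw [← mul_assoc, hJ2, one_mul]; exact hy
  obtain ⟨D, hD⟩ : ∃ D, D = Subgroup.closure ({J, J * y} : Set (S2 F)) := ⟨_, rfl⟩
  have eD : Nonempty (D ≃* DihedralGroup n) := by
    rw [hD, ← hprod]
    exact ⟨Cfsg.Agent.Lib.Helper24.tiEquiv hJord hJyord⟩
  obtain ⟨eD⟩ := eD
  have hDM : D ≤ M := by
    rw [hD, Subgroup.closure_le]
    rintro _ (rfl | rfl)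
    · exact hJM
    · exact M.mul_mem hJM hyM
  have hcardD : Nat.card D = 2 * n := by
    rw [Nat.card_congr eD.toEquiv, DihedralGroup.nat_card]
  have hDdvd : 2 * n ∣ Nat.card M := by
    rw [← hcardD]; exact Subgroup.card_dvd_of_le hDM
  have hnc : ¬ (∀ a b : M, a * b = b * a) := by
    intro hcomm
    have h0 := hcomm ⟨J, hJM⟩ ⟨y, hyM⟩
    have h1 : J * y = y * J := congrArg Subtype.val h0
    have h2 : y⁻¹ = y := by rw [← hJy, h1]; group
    apply hy2
    rw [pow_two]
    nth_rewrite 1 [← h2]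
    exact inv_mul_cancel y
  rcases dlist M with hC | ⟨k, hk, ⟨e⟩⟩ | ⟨N, hN1, hN2, hN3⟩ | ⟨K, iK, iK', hchar, m, hKm, ⟨e⟩⟩
  · exact absurd hC hnc
  · -- dihedral
    have hcardM : Nat.card M = 2 * k := by rw [Nat.card_congr e.toEquiv, DihedralGroup.nat_card]
    have hnk : n ∣ k := by
      rw [hcardM] at hDdvd
      exact Nat.dvd_of_mul_dvd_mul_left (by norm_num) hDdvd
    rw [← hq] at hk
    have hk0 : k ≠ 0 := by
      rintro rfl
      rcases hk with h | h
      · have := Nat.eq_zero_of_zero_dvd h; omega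
      · have := Nat.eq_zero_of_zero_dvd h; omega
    have hkn : k = n := by
      rcases hn with hn | hn <;> rcases hk with hk | hk
      · -- n = q - 1, k ∣ q + 1
        exfalso
        have h1 : q - 1 ∣ q + 1 := hn ▸ dvd_trans hnk hk
        have h2 : q - 1 ∣ (q + 1) - (q - 1) := Nat.dvd_sub h1 dvd_rfl
        have h3 : (q + 1) - (q - 1) = 2 := by omega
        rw [h3] at h2
        have := Nat.le_of_dvd (by norm_num) h2
        omega
      · exact Nat.dvd_antisymm (hn ▸ hk) hnk
      · exact Nat.dvd_antisymm (hn ▸ hk) hnk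
      · exfalso
        have h1 : q + 1 ∣ q - 1 := hn ▸ dvd_trans hnk hk
        have := Nat.le_of_dvd (by omega) h1
        omega
    right
    rcases hn with hn | hn
    · left; rw [← hn, ← hkn]; exact ⟨e⟩
    · right; rw [← hn, ← hkn]; exact ⟨e⟩
  · left
    rw [hq]
    exact card_of_O2 M hM N hN1 hN2 hN3
  · -- `SL₂(K)`
    obtain ⟨a, ha1, ha⟩ := card_eq_two_pow (F := K)
    by_cases ha' : a = 1
    · have hcardM : Nat.card M = 6 := by
        rw [Nat.card_congr e.toEquiv, Cfsg.Agent.Lib.helper15.card_SL2, ha, ha']; norm_num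
      rw [hcardM] at hDdvd
      have hn' : n = 3 := by
        have h1 : n ∣ 3 := Nat.dvd_of_mul_dvd_mul_left (by norm_num : 0 < 2) (by simpa using hDdvd)
        have := Nat.le_of_dvd (by norm_num) h1
        omega
      have hDM' : D = M := Subgroup.eq_of_le_of_card_ge hDM (by rw [hcardD, hcardM, hn'])
      have e' : M ≃* DihedralGroup n := (MulEquiv.subgroupCongr hDM'.symm).trans eD
      right
      rcases hn with hn | hn
      · left; rw [← hn]; exact ⟨e'⟩
      · exfalso; omega
    · exfalso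
      have h4K : 4 ≤ Fintype.card K := by
        rw [ha]
        calc 4 = 2 ^ 2 := rfl
          _ ≤ 2 ^ a := Nat.pow_le_pow_right (by norm_num) (by omega)
      have hsK : IsSimpleGroup (S2 K) := isSimpleGroup_S2 h4K
      have hsM : IsSimpleGroup M := e.isSimpleGroup
      have hxle : Subgroup.zpowers x ≤ M := Subgroup.zpowers_le.mpr hxM
      have hnormal : ((Subgroup.zpowers x).subgroupOf M).Normal :=
        (Subgroup.normal_subgroupOf_iff_le_normalizer hxle).mpr hnorm
      rcases hnormal.eq_bot_or_eq_top with h | h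
      · have h1 : (⟨x, hxM⟩ : M) ∈ (Subgroup.zpowers x).subgroupOf M := by
          rw [Subgroup.mem_subgroupOf]; exact Subgroup.mem_zpowers x
        rw [h, Subgroup.mem_bot] at h1
        exact hx1 (congrArg Subtype.val h1)
      · apply hnc
        intro a b
        have ha : a ∈ (Subgroup.zpowers x).subgroupOf M := by rw [h]; trivial
        have hb : b ∈ (Subgroup.zpowers x).subgroupOf M := by rw [h]; trivial
        rw [Subgroup.mem_subgroupOf] at ha hb
        obtain ⟨i, hi⟩ := Subgroup.mem_zpowers_iff.mp ha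
        obtain ⟨j, hj⟩ := Subgroup.mem_zpowers_iff.mp hb
        apply Subtype.ext
        rw [Subgroup.coe_mul, Subgroup.coe_mul, ← hi, ← hj, ← _root_.zpow_add, ← _root_.zpow_add, add_comm]

end

end Cfsg.Agent.Lib.Helper28.E2
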