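import Cfsg.Agent.Lib.Helper28.E2I

set_option autoImplicit false

namespace Cfsg.Agent.Lib.Helper28.E2

open Matrix Cfsg.Agent.Lib.helper3 MulAction
open scoped LinearAlgebra.Projectivization MatrixGroups Pointwise commutatorElement

section
variable {F : Type*} [Field F] [Fintype F] [CharP F 2]

omit [Fintype F] [CharP F 2] in
theorem coatom_ne_bot (M : Subgroup (S2 F)) (hM : IsCoatom M) : M ≠ ⊥ := by
  rintro rfl
  have h1 : (⊥ : Subgroup (S2 F)) < Subgroup.zpowers (uu (1 : F)) := by
    rw [bot_lt_iff_ne_bot]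
    intro h
    have : uu (1 : F) ∈ Subgroup.zpowers (uu (1 : F)) := Subgroup.mem_zpowers _
    rw [h, Subgroup.mem_bot] at this
    have := congrArg (fun X : S2 F => X.1 0 1) this
    simp at this
  have h2 := hM.2 _ h1
  have h3 : vv (1 : F) ∈ Subgroup.zpowers (uu (1 : F)) := by rw [h2]; trivial
  obtain ⟨j, hj⟩ := Subgroup.mem_zpowers_iff.mp h3
  apply uu_vv_not_comm (F := F)
  rw [← hj]
  have : uu (1 : F) = uu 1 ^ (1 : ℤ) := (zpow_one _).symm
  nth_rewrite 1 [this]
  nth_rewrite 4 [this]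
  rw [← _root_.zpow_add, ← _root_.zpow_add, add_comm]

/-- a commutative maximal subgroup -/
theorem abelian_case (h4 : 4 ≤ Fintype.card F) (M : Subgroup (S2 F)) (hM : IsCoatom M)
    (hcomm : ∀ a b : M, a * b = b * a) :
    Nat.card M = Fintype.card F * (Fintype.card F - 1) ∨
      Nonempty (M ≃* DihedralGroup (Fintype.card F - 1)) ∨
      Nonempty (M ≃* DihedralGroup (Fintype.card F + 1)) := by
  have hne := coatom_ne_bot M hM
  have hcard1 : Nat.card M ≠ 1 := fun h => hne (Subgroup.card_eq_one.mp h)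
  obtain ⟨r, hr, hrdvd⟩ := Nat.exists_prime_and_dvd hcard1
  have : Fact r.Prime := ⟨hr⟩
  obtain ⟨x', hx'⟩ := exists_prime_orderOf_dvd_card' (G := M) r hrdvd
  obtain ⟨x, hxdef⟩ : ∃ x : S2 F, x = (x' : S2 F) := ⟨_, rfl⟩
  have hx : orderOf x = r := by rw [hxdef, Subgroup.orderOf_coe, hx']
  have hnorm : M ≤ Subgroup.normalizer (Subgroup.zpowers x : Set (S2 F)) := by
    intro g hg
    apply Subgroup.mem_normalizer_fintype
    intro z hz
    obtain ⟨k, rfl⟩ := Subgroup.mem_zpowers_iff.mp hz
    have h0 := hcomm ⟨g, hg⟩ x'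
    have h1 : g * x = x * g := by
      rw [hxdef]
      exact congrArg Subtype.val h0
    have h2 : Commute g x := h1
    have h3 : g * x ^ k = x ^ k * g := (h2.zpow_right k)
    rw [h3, mul_inv_cancel_right]
    exact hz
  by_cases hr2 : r = 2
  · left
    apply card_of_normalizes_two_subgroup M hM (Subgroup.zpowers x)
      (IsPGroup.of_card (n := 1) (by rw [Nat.card_zpowers, hx, hr2, pow_one])) ?_ hnorm
    intro h
    have : x ∈ Subgroup.zpowers x := Subgroup.mem_zpowers x
    rw [h, Subgroup.mem_bot] at this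
    rw [this, orderOf_one] at hx
    exact hr.one_lt.ne hx
  · exact dihedral_case h4 M hM x r hr hr2 hx hnorm

theorem dihedral_conj_r_one (k : ℕ) (d : DihedralGroup k) :
    d * DihedralGroup.r 1 * d⁻¹ = DihedralGroup.r 1 ∨
      d * DihedralGroup.r 1 * d⁻¹ = (DihedralGroup.r 1)⁻¹ := by
  rcases d with i | i
  · left; simp
  · right; simp

/-- a maximal subgroup which is abstractly dihedral -/
theorem dihedral_k_case (h4 : 4 ≤ Fintype.card F) (M : Subgroup (S2 F)) (hM : IsCoatom M)
    (k : ℕ) (hk : k ∣ Fintype.card F + 1 ∨ k ∣ Fintype.card F - 1) (e : M ≃* DihedralGroup k) :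
    Nat.card M = Fintype.card F * (Fintype.card F - 1) ∨
      Nonempty (M ≃* DihedralGroup (Fintype.card F - 1)) ∨
      Nonempty (M ≃* DihedralGroup (Fintype.card F + 1)) := by
  have hqeven : Even (Fintype.card F) := card_even
  have hkodd : Odd k := by
    rcases hqeven with ⟨t, ht⟩
    rcases hk with hk | hk
    · exact Odd.of_dvd_nat ⟨t, by omega⟩ hk
    · exact Odd.of_dvd_nat ⟨t - 1, by omega⟩ hk
  have hcardM : Nat.card M = 2 * k := by rw [Nat.card_congr e.toEquiv, DihedralGroup.nat_card]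
  by_cases hk1 : k = 1
  · left
    apply card_of_O2 M hM ⊤ inferInstance
    · apply IsPGroup.of_card (n := 1)
      rw [Subgroup.card_top, hcardM, hk1]; norm_num
    · intro h
      have := Subgroup.card_top (G := M)
      rw [h, Subgroup.card_bot] at this
      omega
  · have hr : k.minFac.Prime := Nat.minFac_prime hk1
    have hr2 : k.minFac ≠ 2 := by
      intro h
      have := (Nat.minFac_eq_two_iff k).mp h
      rcases hkodd with ⟨t, ht⟩
      omega
    have hk0 : k ≠ 0 := by
      rintro rfl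
      rcases hkodd with ⟨t, ht⟩
      omega
    obtain ⟨ρ, hρ⟩ : ∃ ρ : M, ρ = e.symm (DihedralGroup.r 1) := ⟨_, rfl⟩
    have hordρ : orderOf ρ = k := by
      rw [hρ, MulEquiv.orderOf_eq, DihedralGroup.orderOf_r_one]
    have hdvd : k / k.minFac ∣ k := Nat.div_dvd_of_dvd (Nat.minFac_dvd k)
    have hdiv0 : k / k.minFac ≠ 0 := by
      intro h
      have := Nat.div_mul_cancel (Nat.minFac_dvd k)
      rw [h, zero_mul] at this
      exact hk0 this.symm
    obtain ⟨x', hx'def⟩ : ∃ x' : M, x' = ρ ^ (k / k.minFac) := ⟨_, rfl⟩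
    have hx' : orderOf x' = k.minFac := by
      rw [hx'def, orderOf_pow_of_dvd hdiv0 (by rw [hordρ]; exact hdvd), hordρ]
      exact Nat.div_div_self (Nat.minFac_dvd k) hk0
    have hconjρ : ∀ g : M, g * ρ * g⁻¹ = ρ ∨ g * ρ * g⁻¹ = ρ⁻¹ := by
      intro g
      rcases dihedral_conj_r_one k (e g) with h | h
      · left
        apply e.injective
        rw [map_mul, map_mul, map_inv, hρ, MulEquiv.apply_symm_apply]
        exact h
      · right
        apply e.injective
        rw [map_mul, map_mul, map_inv, map_inv, hρ, MulEquiv.apply_symm_apply]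
        exact h
    have hconjx' : ∀ g : M, g * x' * g⁻¹ = x' ∨ g * x' * g⁻¹ = x'⁻¹ := by
      intro g
      rw [hx'def, ← conj_pow]
      rcases hconjρ g with h | h
      · left; rw [h]
      · right; rw [h, inv_pow]
    obtain ⟨x, hxdef⟩ : ∃ x : S2 F, x = (x' : S2 F) := ⟨_, rfl⟩
    have hx : orderOf x = k.minFac := by rw [hxdef, Subgroup.orderOf_coe, hx']
    have hnorm : M ≤ Subgroup.normalizer (Subgroup.zpowers x : Set (S2 F)) := by
      intro g hg
      apply Subgroup.mem_normalizer_fintype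
      intro z hz
      obtain ⟨j, rfl⟩ := Subgroup.mem_zpowers_iff.mp hz
      rw [← conj_zpow]
      have h1 : g * x * g⁻¹ = x ∨ g * x * g⁻¹ = x⁻¹ := by
        rcases hconjx' ⟨g, hg⟩ with h | h
        · left
          rw [hxdef]
          exact congrArg Subtype.val h
        · right
          rw [hxdef]
          exact congrArg Subtype.val h
      rcases h1 with h1 | h1
      · rw [h1]; exact hz
      · rw [h1]
        exact Subgroup.zpow_mem _ (Subgroup.inv_mem _ (Subgroup.mem_zpowers x)) j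
    exact dihedral_case h4 M hM x k.minFac hr hr2 hx hnorm

/-- a maximal subgroup isomorphic to `SL₂(K)` -/
theorem sl2K_case (h4 : 4 ≤ Fintype.card F) (M : Subgroup (S2 F)) (hM : IsCoatom M)
    (K : Type) [Field K] [Fintype K] [CharP K 2] (m : ℕ) (hKm : Fintype.card K ^ m = Fintype.card F)
    (e : M ≃* S2 K) :
    Nat.card M = Fintype.card F * (Fintype.card F - 1) ∨
      Nonempty (M ≃* DihedralGroup (Fintype.card F - 1)) ∨
      Nonempty (M ≃* DihedralGroup (Fintype.card F + 1)) ∨
      (∃ (F₀ : Type) (_ : Field F₀) (_ : Fintype F₀) (r : ℕ), r.Prime ∧ Fintype.card F₀ ≠ 2 ∧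
        Fintype.card F = Fintype.card F₀ ^ r ∧
        Nonempty (M ≃* Matrix.ProjectiveSpecialLinearGroup (Fin 2) F₀)) := by
  obtain ⟨a, ha1, ha⟩ := card_eq_two_pow (F := K)
  obtain ⟨f, hf1, hf⟩ := card_eq_two_pow (F := F)
  have hcardM : Nat.card M = Fintype.card K * (Fintype.card K ^ 2 - 1) := by
    rw [Nat.card_congr e.toEquiv, Cfsg.Agent.Lib.helper15.card_SL2]
  by_cases ha' : a = 1
  · -- `|M| = 6`
    have hc6 : Nat.card M = 6 := by rw [hcardM, ha, ha']; norm_num
    have : Fact (Nat.Prime 3) := ⟨Nat.prime_three⟩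
    obtain ⟨x', hx'⟩ := exists_prime_orderOf_dvd_card' (G := M) 3 (by rw [hc6]; norm_num)
    have hidx : (Subgroup.zpowers x').index = 2 := by
      have h1 := Subgroup.card_mul_index (Subgroup.zpowers x')
      rw [Nat.card_zpowers, hx', hc6] at h1
      omega
    have hnormal : (Subgroup.zpowers x').Normal := Subgroup.normal_of_index_eq_two hidx
    obtain ⟨x, hxdef⟩ : ∃ x : S2 F, x = (x' : S2 F) := ⟨_, rfl⟩
    have hx : orderOf x = 3 := by rw [hxdef, Subgroup.orderOf_coe, hx']
    have hnorm : M ≤ Subgroup.normalizer (Subgroup.zpowers x : Set (S2 F)) := by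
      intro g hg
      apply Subgroup.mem_normalizer_fintype
      intro z hz
      obtain ⟨j, rfl⟩ := Subgroup.mem_zpowers_iff.mp hz
      have h1 : (⟨g, hg⟩ : M) * x' ^ j * (⟨g, hg⟩ : M)⁻¹ ∈ Subgroup.zpowers x' :=
        hnormal.conj_mem _ (Subgroup.zpow_mem _ (Subgroup.mem_zpowers x') j) _
      obtain ⟨i, hi⟩ := Subgroup.mem_zpowers_iff.mp h1
      have h2 := congrArg (fun y : M => (y : S2 F)) hi
      simp only [Subgroup.coe_mul, Subgroup.coe_zpow, Subgroup.coe_inv] at h2
      rw [hxdef, ← h2]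
      exact Subgroup.zpow_mem _ (Subgroup.mem_zpowers _) i
    rcases dihedral_case h4 M hM x 3 Nat.prime_three (by norm_num) hx hnorm with h | h | h
    · exact Or.inl h
    · exact Or.inr (Or.inl h)
    · exact Or.inr (Or.inr (Or.inl h))
  · have ha2 : 2 ≤ a := by omega
    have hfam : f = a * m := by
      have h1 : 2 ^ (a * m) = 2 ^ f := by rw [pow_mul, ← ha, hKm, hf]
      exact (Nat.pow_right_injective (le_refl 2) h1).symm
    have hm0 : m ≠ 0 := by
      rintro rfl
      rw [mul_zero] at hfam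
      omega
    have hm1 : m ≠ 1 := by
      rintro rfl
      rw [pow_one] at hKm
      apply hM.1
      apply (Subgroup.card_eq_iff_eq_top M).mp
      rw [hcardM, hKm, Cfsg.Agent.Lib.helper15.card_SL2]
    right; right; right
    by_cases hp : m.Prime
    · refine ⟨K, inferInstance, inferInstance, m, hp, ?_, hKm.symm, ⟨e.trans (e0 K)⟩⟩
      rw [ha]
      intro h
      have h1 : (2 : ℕ) ^ a = 2 ^ 1 := by rw [h]; norm_num
      have := Nat.pow_right_injective (le_refl 2) h1
      omega
    · exfalso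
      obtain ⟨s, hsm, hs2, hslt⟩ := Nat.exists_dvd_of_not_prime2 (by omega) hp
      obtain ⟨t, ht⟩ := hsm
      have ht2 : 2 ≤ t := by
        by_contra hlt
        have : t = 0 ∨ t = 1 := by omega
        rcases this with rfl | rfl
        · rw [mul_zero] at ht; exact hm0 ht
        · rw [mul_one] at ht; omega
      apply not_isCoatom_of_composite M e a ha2 ha s t hs2 ht2 ?_ hM
      rw [hf, hfam, ht, mul_assoc]

/-- the maximal subgroups of `SL₂(F)`, `F` finite of characteristic two with at least 4 elements -/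
theorem main_S2 (h4 : 4 ≤ Fintype.card F) (M : Subgroup (S2 F)) (hM : IsCoatom M) :
    Nat.card M = Fintype.card F * (Fintype.card F - 1) ∨
      Nonempty (M ≃* DihedralGroup (Fintype.card F - 1)) ∨
      Nonempty (M ≃* DihedralGroup (Fintype.card F + 1)) ∨
      (∃ (F₀ : Type) (_ : Field F₀) (_ : Fintype F₀) (r : ℕ), r.Prime ∧ Fintype.card F₀ ≠ 2 ∧
        Fintype.card F = Fintype.card F₀ ^ r ∧
        Nonempty (M ≃* Matrix.ProjectiveSpecialLinearGroup (Fin 2) F₀)) := by
  rcases dlist M with hC | ⟨k, hk, ⟨e⟩⟩ | ⟨N, hN1, hN2, hN3⟩ | ⟨K, iK, iK', hchar, m, hKm, ⟨e⟩⟩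
  · rcases abelian_case h4 M hM hC with h | h | h
    · exact Or.inl h
    · exact Or.inr (Or.inl h)
    · exact Or.inr (Or.inr (Or.inl h))
  · rcases dihedral_k_case h4 M hM k hk e with h | h | h
    · exact Or.inl h
    · exact Or.inr (Or.inl h)
    · exact Or.inr (Or.inr (Or.inl h))
  · exact Or.inl (card_of_O2 M hM N hN1 hN2 hN3)
  · exact sl2K_case h4 M hM K m hKm e

end

end Cfsg.Agent.Lib.Helper28.E2
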