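import Mathlib

set_option autoImplicit false

/-! A four-group acting on a group of odd order: generation by the centralizers of its involutions.
Part A: the abstract decomposition. -/

namespace Cfsg.Agent.Lib.Helper28.Gen4

open scoped commutatorElement

variable {K : Type*} [Group K]

theorem exists_pow_sq {x : K} (hodd : Odd (orderOf x)) : ∃ m : ℕ, x ^ m * x ^ m = x := by
  obtain ⟨t, ht⟩ := hodd
  refine ⟨t + 1, ?_⟩
  rw [← pow_add]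
  have : t + 1 + (t + 1) = orderOf x + 1 := by omega
  rw [this, pow_succ, pow_orderOf_eq_one, one_mul]

theorem odd_orderOf [Finite K] (hK : Odd (Nat.card K)) (x : K) : Odd (orderOf x) :=
  Odd.of_dvd_nat hK (orderOf_dvd_natCard x)

/-- decomposition of an element with respect to an involutive automorphism -/
theorem decomp [Finite K] (hK : Odd (Nat.card K)) (α : K ≃* K) (hα : ∀ k, α (α k) = k) (k : K) :
    ∃ y : K, α (k * y) = k * y ∧ α y = y⁻¹ ∧ ∃ m : ℕ, y = (k⁻¹ * α k) ^ m := by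
  obtain ⟨m, hm⟩ := exists_pow_sq (odd_orderOf hK (k⁻¹ * α k))
  have hx : α (k⁻¹ * α k) = (k⁻¹ * α k)⁻¹ := by
    rw [map_mul, map_inv, hα, mul_inv_rev, inv_inv]
  have hy : α ((k⁻¹ * α k) ^ m) = ((k⁻¹ * α k) ^ m)⁻¹ := by
    rw [map_pow, hx, inv_pow]
  refine ⟨(k⁻¹ * α k) ^ m, ?_, hy, m, rfl⟩
  rw [map_mul, hy]
  generalize hyy : (k⁻¹ * α k) ^ m = y at hm
  have h1 : α k = k * (y * y) := by
    rw [hm, mul_inv_cancel_left]
  rw [h1]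
  group

/-- the three-fold decomposition modulo a normal subgroup with abelian quotient -/
theorem decomp3 [Finite K] (hK : Odd (Nat.card K)) (α β : K ≃* K) (hα : ∀ k, α (α k) = k)
    (hβ : ∀ k, β (β k) = k) (hαβ : ∀ k, α (β k) = β (α k)) (N : Subgroup K) [N.Normal]
    (hN : commutator K ≤ N) (k : K) :
    ∃ c₁ c₂ c₃ n : K, α c₁ = c₁ ∧ β c₂ = c₂ ∧ α (β c₃) = c₃ ∧ n ∈ N ∧ k = c₁ * c₂ * c₃ * n := by
  -- the quotient is commutative
  have hcomm : ∀ u v : K, (QuotientGroup.mk' N) (u * v) = (QuotientGroup.mk' N) (v * u) := by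
    intro u v
    rw [QuotientGroup.mk'_apply, QuotientGroup.mk'_apply, QuotientGroup.eq]
    apply hN
    have : (u * v)⁻¹ * (v * u) = ⁅v⁻¹, u⁻¹⁆ := by
      rw [commutatorElement_def]; group
    rw [this]
    exact Subgroup.commutator_mem_commutator (Subgroup.mem_top _) (Subgroup.mem_top _)
  -- step 1
  obtain ⟨y₁, hc₁, hy₁, -⟩ := decomp hK α hα k
  -- `i₁ = y₁⁻¹` is inverted by `α`
  have hi₁α : α y₁⁻¹ = (y₁⁻¹)⁻¹ := by rw [map_inv, hy₁]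
  -- step 2
  obtain ⟨y₂, hc₂, hy₂, m₂, hm₂⟩ := decomp hK β hβ y₁⁻¹
  have hjβ : β y₂⁻¹ = (y₂⁻¹)⁻¹ := by rw [map_inv, hy₂]
  -- `α` inverts `j = y₂⁻¹` modulo `N`
  have hx₂ : (QuotientGroup.mk' N) (α ((y₁⁻¹)⁻¹ * β y₁⁻¹)) =
      ((QuotientGroup.mk' N) ((y₁⁻¹)⁻¹ * β y₁⁻¹))⁻¹ := by
    rw [map_mul α, map_inv α, hi₁α, hαβ, hi₁α, ← map_inv (QuotientGroup.mk' N), mul_inv_rev]
    have e1 : β (y₁⁻¹)⁻¹ = (β y₁⁻¹)⁻¹ := map_inv β _
    rw [e1]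
    exact hcomm _ _
  have hjα : (QuotientGroup.mk' N) (α y₂) = ((QuotientGroup.mk' N) y₂)⁻¹ := by
    rw [hm₂, map_pow α, map_pow (QuotientGroup.mk' N), hx₂, inv_pow,
      map_pow (QuotientGroup.mk' N)]
  -- step 3
  let γ : K ≃* K := β.trans α
  have hγ : ∀ k, γ (γ k) = k := by
    intro k
    show α (β (α (β k))) = k
    rw [hαβ (α (β k)), hα, hβ]
  obtain ⟨y₃, hc₃, hy₃, m₃, hm₃⟩ := decomp hK γ hγ y₂⁻¹
  have hx₃ : (y₂⁻¹)⁻¹ * γ y₂⁻¹ ∈ N := by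
    rw [← QuotientGroup.eq_one_iff, ← QuotientGroup.mk'_apply]
    show (QuotientGroup.mk' N) ((y₂⁻¹)⁻¹ * α (β y₂⁻¹)) = 1
    rw [hjβ, inv_inv, map_mul (QuotientGroup.mk' N), hjα, mul_inv_cancel]
  have hy₃N : y₃ ∈ N := by rw [hm₃]; exact N.pow_mem hx₃ _
  refine ⟨k * y₁, y₁⁻¹ * y₂, y₂⁻¹ * y₃, y₃⁻¹, hc₁, hc₂, hc₃, N.inv_mem hy₃N, ?_⟩
  group

end Cfsg.Agent.Lib.Helper28.Gen4
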