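import Cfsg.Agent.Lib.Helper28.Gen4A

set_option autoImplicit false

/-! Part B: a four-group normalizing a solvable subgroup of odd order. -/

namespace Cfsg.Agent.Lib.Helper28.Gen4

open scoped commutatorElement

variable {H : Type*} [Group H]

/-- the join of the three centralizers -/
def X3 (a b : H) : Subgroup H :=
  Subgroup.centralizer {a} ⊔ Subgroup.centralizer {b} ⊔ Subgroup.centralizer {a * b}

theorem mem_centralizer_singleton {a c : H} : c ∈ Subgroup.centralizer ({a} : Set H) ↔ a * c = c * a := by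
  rw [Subgroup.mem_centralizer_iff]
  constructor
  · intro h; exact h a rfl
  · intro h x hx
    rw [Set.mem_singleton_iff] at hx; subst hx; exact h

/-- conjugation by a normalizing element, as an automorphism -/
def conjAut (K : Subgroup H) (a : H) (ha : a ∈ Subgroup.normalizer (K : Set H)) : ↥K ≃* ↥K :=
  K.normalizerMonoidHom ⟨a, ha⟩

theorem conjAut_coe (K : Subgroup H) (a : H) (ha : a ∈ Subgroup.normalizer (K : Set H)) (k : ↥K) :
    ((conjAut K a ha k : ↥K) : H) = a * k * a⁻¹ := rfl

theorem map_conj_eq (K : Subgroup H) (a : H) (ha : a ∈ Subgroup.normalizer (K : Set H)) :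
    K.map (MulAut.conj a).toMonoidHom = K := by
  ext h
  rw [Subgroup.mem_normalizer_iff] at ha
  constructor
  · rintro ⟨k, hk, rfl⟩
    exact (ha k).mp hk
  · intro hh
    refine ⟨a⁻¹ * h * a, ?_, ?_⟩
    · apply (ha _).mpr
      have : a * (a⁻¹ * h * a) * a⁻¹ = h := by group
      rw [this]; exact hh
    · show a * (a⁻¹ * h * a) * a⁻¹ = h
      group

theorem mem_normalizer_of_map_conj_eq (N : Subgroup H) (a : H)
    (h : N.map (MulAut.conj a).toMonoidHom = N) : a ∈ Subgroup.normalizer (N : Set H) := by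
  rw [Subgroup.mem_normalizer_iff]
  intro x
  constructor
  · intro hx
    rw [← h]
    exact ⟨x, hx, rfl⟩
  · intro hx
    rw [← h] at hx
    obtain ⟨y, hy, hyx⟩ := hx
    have : y = x := by
      have h2 : a * y * a⁻¹ = a * x * a⁻¹ := hyx
      have h3 : a⁻¹ * (a * y * a⁻¹) * a = a⁻¹ * (a * x * a⁻¹) * a := by rw [h2]
      have e1 : a⁻¹ * (a * y * a⁻¹) * a = y := by group
      have e2 : a⁻¹ * (a * x * a⁻¹) * a = x := by group
      rw [e1, e2] at h3
      exact h3
    rw [← this]; exact hy

theorem commutator_normalized (K : Subgroup H) (a : H) (ha : a ∈ Subgroup.normalizer (K : Set H)) :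
    a ∈ Subgroup.normalizer ((⁅K, K⁆ : Subgroup H) : Set H) := by
  apply mem_normalizer_of_map_conj_eq
  rw [Subgroup.map_commutator, map_conj_eq K a ha]

/-- four-group generation for solvable subgroups of odd order -/
theorem le_X3_of_solvable (a b : H) (ha : a * a = 1) (hb : b * b = 1) (hab : a * b = b * a) :
    ∀ (d : ℕ) (K : Subgroup H), Nat.card K = d → Finite K → Odd (Nat.card K) → Group.IsSolvable K →
      a ∈ Subgroup.normalizer (K : Set H) → b ∈ Subgroup.normalizer (K : Set H) → K ≤ X3 a b := by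
  intro d
  induction d using Nat.strong_induction_on with
  | _ d ih =>
  intro K hd hfin hodd hsol haK hbK
  by_cases htriv : K = ⊥
  · rw [htriv]; exact bot_le
  have : Nontrivial ↥K := (Subgroup.nontrivial_iff_ne_bot K).mpr htriv
  have : Group.IsSolvable ↥K := hsol
  -- the derived subgroup
  have hlt : ⁅K, K⁆ < K := by
    have h1 := Group.IsSolvable.commutator_lt_top_of_nontrivial ↥K
    rw [← Subgroup.map_subtype_commutator]
    have h2 : (commutator ↥K).map K.subtype < (⊤ : Subgroup ↥K).map K.subtype :=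
      (Subgroup.map_lt_map_iff_of_injective K.subtype_injective).mpr h1
    rwa [← MonoidHom.range_eq_map, Subgroup.range_subtype] at h2
  have hNfin : Finite ↥(⁅K, K⁆ : Subgroup H) :=
    Finite.of_injective _ (Subgroup.inclusion_injective hlt.le)
  have hNcard : Nat.card ↥(⁅K, K⁆ : Subgroup H) < d := by
    rw [← hd]
    exact Set.Finite.card_lt_card (Set.toFinite _) hlt
  have hNodd : Odd (Nat.card ↥(⁅K, K⁆ : Subgroup H)) :=
    Odd.of_dvd_nat hodd (Subgroup.card_dvd_of_le hlt.le)
  have hNsol : Group.IsSolvable ↥(⁅K, K⁆ : Subgroup H) :=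
    Group.isSolvable_of_isSolvable_injective (Subgroup.inclusion_injective hlt.le)
  have hN : ⁅K, K⁆ ≤ X3 a b :=
    ih _ hNcard _ rfl hNfin hNodd hNsol (commutator_normalized K a haK)
      (commutator_normalized K b hbK)
  -- decompose
  intro k hk
  have hα : ∀ k, conjAut K a haK (conjAut K a haK k) = k := by
    intro k
    apply Subtype.ext
    rw [conjAut_coe, conjAut_coe]
    have : a⁻¹ = a := inv_eq_of_mul_eq_one_left ha
    rw [this]
    calc a * (a * ↑k * a) * a = (a * a) * ↑k * (a * a) := by group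
      _ = ↑k := by rw [ha, one_mul, mul_one]
  have hβ : ∀ k, conjAut K b hbK (conjAut K b hbK k) = k := by
    intro k
    apply Subtype.ext
    rw [conjAut_coe, conjAut_coe]
    have : b⁻¹ = b := inv_eq_of_mul_eq_one_left hb
    rw [this]
    calc b * (b * ↑k * b) * b = (b * b) * ↑k * (b * b) := by group
      _ = ↑k := by rw [hb, one_mul, mul_one]
  have hαβ : ∀ k, conjAut K a haK (conjAut K b hbK k) = conjAut K b hbK (conjAut K a haK k) := by
    intro k
    apply Subtype.ext
    rw [conjAut_coe, conjAut_coe, conjAut_coe, conjAut_coe]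
    have hab' : a⁻¹ * b⁻¹ = b⁻¹ * a⁻¹ := by
      rw [← mul_inv_rev, ← mul_inv_rev, hab]
    calc a * (b * ↑k * b⁻¹) * a⁻¹ = (a * b) * ↑k * (b⁻¹ * a⁻¹) := by group
      _ = (b * a) * ↑k * (a⁻¹ * b⁻¹) := by rw [hab, hab']
      _ = b * (a * ↑k * a⁻¹) * b⁻¹ := by group
  obtain ⟨c₁, c₂, c₃, n, h1, h2, h3, hn, hkk⟩ :=
    decomp3 hodd (conjAut K a haK) (conjAut K b hbK) hα hβ hαβ (commutator ↥K) le_rfl ⟨k, hk⟩
  have e1 : (c₁ : H) ∈ X3 a b := by
    apply Subgroup.mem_sup_left; apply Subgroup.mem_sup_left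
    rw [mem_centralizer_singleton]
    have := congrArg Subtype.val h1
    rw [conjAut_coe] at this
    exact mul_inv_eq_iff_eq_mul.mp this
  have e2 : (c₂ : H) ∈ X3 a b := by
    apply Subgroup.mem_sup_left; apply Subgroup.mem_sup_right
    rw [mem_centralizer_singleton]
    have := congrArg Subtype.val h2
    rw [conjAut_coe] at this
    exact mul_inv_eq_iff_eq_mul.mp this
  have e3 : (c₃ : H) ∈ X3 a b := by
    apply Subgroup.mem_sup_right
    rw [mem_centralizer_singleton]
    have := congrArg Subtype.val h3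
    rw [conjAut_coe, conjAut_coe] at this
    have h4 : a * b * ↑c₃ * (a * b)⁻¹ = ↑c₃ := by
      calc a * b * ↑c₃ * (a * b)⁻¹ = a * (b * ↑c₃ * b⁻¹) * a⁻¹ := by group
        _ = ↑c₃ := this
    exact mul_inv_eq_iff_eq_mul.mp h4
  have e4 : (n : H) ∈ X3 a b := by
    apply hN
    rw [← Subgroup.map_subtype_commutator]
    exact ⟨n, hn, rfl⟩
  have e5 : k = (c₁ : H) * c₂ * c₃ * n := by
    have := congrArg Subtype.val hkk
    simpa using this
  rw [e5]
  exact (X3 a b).mul_mem ((X3 a b).mul_mem ((X3 a b).mul_mem e1 e2) e3) e4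

end Cfsg.Agent.Lib.Helper28.Gen4
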