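import Mathlib

set_option autoImplicit false

namespace Cfsg.Agent.Lib.Helper28.HForm

open Matrix

variable {n : ℕ} {F : Type*} [Field F] {σ : F ≃+* F} {f : (Fin n → F) → (Fin n → F) → F}

def NdForm (f : (Fin n → F) → (Fin n → F) → F) : Prop :=
  ∀ v : Fin n → F, v ≠ 0 → (∃ x, f x v ≠ 0) ∧ (∃ x, f v x ≠ 0)

structure IsHerm (σ : F ≃+* F) (f : (Fin n → F) → (Fin n → F) → F) : Prop where
  involutive : ∀ a : F, σ (σ a) = a
  add_left : ∀ x y v, f (x + y) v = f x v + f y v
  smul_left : ∀ (c : F) (x v : Fin n → F), f (c • x) v = c * f x v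
  herm : ∀ v w, f v w = σ (f w v)
  nondegenerate : NdForm f

theorem f_add_right (hf : IsHerm σ f) (v x y : Fin n → F) :
    f v (x + y) = f v x + f v y := by
  rw [hf.herm, hf.add_left, map_add, ← hf.herm, ← hf.herm]

theorem f_smul_right (hf : IsHerm σ f) (c : F) (v x : Fin n → F) :
    f v (c • x) = σ c * f v x := by
  rw [hf.herm, hf.smul_left, map_mul, ← hf.herm]

theorem f_zero_left (hf : IsHerm σ f) (v : Fin n → F) : f 0 v = 0 := by
  have := hf.smul_left 0 0 v
  simpa using this

theorem f_zero_right (hf : IsHerm σ f) (v : Fin n → F) : f v 0 = 0 := by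
  rw [hf.herm, f_zero_left hf, map_zero]

theorem f_neg_left (hf : IsHerm σ f) (x v : Fin n → F) : f (-x) v = - f x v := by
  have := hf.smul_left (-1) x v
  simpa using this

theorem f_neg_right (hf : IsHerm σ f) (x v : Fin n → F) : f v (-x) = - f v x := by
  rw [hf.herm, f_neg_left hf, map_neg, ← hf.herm]

theorem f_sub_left (hf : IsHerm σ f) (x y v : Fin n → F) :
    f (x - y) v = f x v - f y v := by
  rw [sub_eq_add_neg, hf.add_left, f_neg_left hf, sub_eq_add_neg]

theorem f_sub_right (hf : IsHerm σ f) (x y v : Fin n → F) :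
    f v (x - y) = f v x - f v y := by
  rw [sub_eq_add_neg, f_add_right hf, f_neg_right hf, sub_eq_add_neg]

theorem f_sum_left (hf : IsHerm σ f) {ι : Type*} (s : Finset ι)
    (g : ι → (Fin n → F)) (v : Fin n → F) : f (∑ i ∈ s, g i) v = ∑ i ∈ s, f (g i) v := by
  classical
  induction s using Finset.induction_on with
  | empty => simp [f_zero_left hf]
  | insert a s ha ih => rw [Finset.sum_insert ha, Finset.sum_insert ha, hf.add_left, ih]

theorem f_swap_zero (hf : IsHerm σ f) {x y : Fin n → F} (h : f x y = 0) :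
    f y x = 0 := by
  rw [hf.herm, h, map_zero]

theorem f_swap_ne (hf : IsHerm σ f) {x y : Fin n → F} (h : f x y ≠ 0) :
    f y x ≠ 0 := fun h0 => h (f_swap_zero hf h0)

def rho (f : (Fin n → F) → (Fin n → F) → F) (u : Fin n → F) : Fin n → F :=
  fun i => f (Pi.single i 1) u

theorem f_eq_dot (hf : IsHerm σ f) (x u : Fin n → F) :
    f x u = rho f u ⬝ᵥ x := by
  have hx : x = ∑ i, x i • (Pi.single i (1 : F) : Fin n → F) := by
    ext j
    simp [Finset.sum_apply, Pi.single_apply]
  conv_lhs => rw [hx]
  rw [f_sum_left hf]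
  unfold rho dotProduct
  apply Finset.sum_congr rfl
  intro i _
  rw [hf.smul_left]
  ring

theorem rho_surj (hf : IsHerm σ f) (r : Fin n → F) :
    ∃ u, ∀ x, f x u = r ⬝ᵥ x := by
  let L : (Fin n → F) →ₗ[F] (Fin n → F) :=
    { toFun := fun u i => f u (Pi.single i 1)
      map_add' := by
        intro a b
        funext i
        simp only [Pi.add_apply]
        exact hf.add_left a b _
      map_smul' := by
        intro c a
        funext i
        simp only [Pi.smul_apply, RingHom.id_apply, smul_eq_mul]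
        exact hf.smul_left c a _ }
  have hinj : Function.Injective L := by
    rw [← LinearMap.ker_eq_bot, Submodule.eq_bot_iff]
    intro u hu
    by_contra hu0
    obtain ⟨x, hx⟩ := (hf.nondegenerate u hu0).1
    apply hx
    rw [f_eq_dot hf]
    have h1 : ∀ i, f u (Pi.single i 1) = 0 := fun i => congrFun hu i
    have : rho f u = 0 := by
      funext i
      unfold rho
      rw [hf.herm, h1 i, map_zero]
      rfl
    rw [this, zero_dotProduct]
  have hsurj : Function.Surjective L := LinearMap.injective_iff_surjective.mp hinj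
  obtain ⟨u, hu⟩ := hsurj (fun i => σ (r i))
  refine ⟨u, fun x => ?_⟩
  rw [f_eq_dot hf]
  have : rho f u = r := by
    funext i
    unfold rho
    have h1 : f u (Pi.single i 1) = σ (r i) := congrFun hu i
    rw [hf.herm, h1, hf.involutive]
  rw [this]

theorem riesz (hf : IsHerm σ f) (ψ : (Fin n → F) →ₗ[F] F) :
    ∃ u, ∀ x, f x u = ψ x := by
  obtain ⟨u, hu⟩ := rho_surj hf (fun i => ψ (Pi.single i 1))
  refine ⟨u, fun x => ?_⟩
  rw [hu]
  have hx : x = ∑ i, x i • (Pi.single i (1 : F) : Fin n → F) := by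
    ext j
    simp [Finset.sum_apply, Pi.single_apply]
  conv_rhs => rw [hx]
  rw [map_sum]
  unfold dotProduct
  apply Finset.sum_congr rfl
  intro i _
  rw [map_smul, smul_eq_mul, mul_comm]

theorem lin_solve (hf : IsHerm σ f) {k : ℕ} (x : Fin k → (Fin n → F))
    (hx : LinearIndependent F x) (α : Fin k → F) : ∃ z, ∀ i, f z (x i) = α i := by
  have hinj := linearIndependent_iff_injective_fintypeLinearCombination.mp hx
  obtain ⟨Ψ, hΨ⟩ := LinearMap.exists_leftInverse_of_injective (Fintype.linearCombination F x)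
    (LinearMap.ker_eq_bot.mpr hinj)
  let ψ : (Fin n → F) →ₗ[F] F :=
    { toFun := fun v => ∑ i, σ (α i) * (Ψ v) i
      map_add' := by
        intro a b
        simp only [map_add, Pi.add_apply, mul_add, Finset.sum_add_distrib]
      map_smul' := by
        intro c a
        simp only [map_smul, Pi.smul_apply, smul_eq_mul, RingHom.id_apply, Finset.mul_sum]
        apply Finset.sum_congr rfl
        intro i _
        ring }
  obtain ⟨z, hz⟩ := riesz hf ψ
  refine ⟨z, fun j => ?_⟩
  have h1 : Ψ (x j) = Pi.single j 1 := by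
    have := congrArg (fun l => l (Pi.single j (1 : F))) hΨ
    simp only [LinearMap.comp_apply, LinearMap.id_apply] at this
    rw [← this]
    congr 1
    rw [Fintype.linearCombination_apply]
    simp [Pi.single_apply]
  have h2 : f (x j) z = σ (α j) := by
    rw [hz]
    show ∑ i, σ (α i) * (Ψ (x j)) i = σ (α j)
    rw [h1]
    simp [Pi.single_apply]
  rw [hf.herm, h2, hf.involutive]

def perpMap (hf : IsHerm σ f) {k : ℕ} (x : Fin k → (Fin n → F)) :
    (Fin n → F) →ₗ[F] (Fin k → F) where
  toFun v i := f v (x i)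
  map_add' a b := by
    funext i
    exact hf.add_left a b _
  map_smul' c a := by
    funext i
    exact hf.smul_left c a _

theorem mem_ker_perpMap (hf : IsHerm σ f) {k : ℕ} (x : Fin k → (Fin n → F))
    (v : Fin n → F) : v ∈ LinearMap.ker (perpMap hf x) ↔ ∀ i, f v (x i) = 0 := by
  rw [LinearMap.mem_ker]
  constructor
  · intro h i
    exact congrFun h i
  · intro h
    funext i
    exact h i

theorem finrank_ker_ge (hf : IsHerm σ f) {k : ℕ} (x : Fin k → (Fin n → F)) :
    n ≤ Module.finrank F (LinearMap.ker (perpMap hf x)) + k := by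
  have h1 := LinearMap.finrank_range_add_finrank_ker (perpMap hf x)
  rw [Module.finrank_fin_fun] at h1
  have h2 : Module.finrank F (LinearMap.range (perpMap hf x)) ≤ k := by
    have := Submodule.finrank_le (LinearMap.range (perpMap hf x))
    rwa [Module.finrank_fin_fun] at this
  omega

theorem finrank_ker_eq (hf : IsHerm σ f) {k : ℕ} (x : Fin k → (Fin n → F))
    (hx : LinearIndependent F x) :
    Module.finrank F (LinearMap.ker (perpMap hf x)) + k = n := by
  have h1 := LinearMap.finrank_range_add_finrank_ker (perpMap hf x)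
  rw [Module.finrank_fin_fun] at h1
  have hsurj : LinearMap.range (perpMap hf x) = ⊤ := by
    rw [LinearMap.range_eq_top]
    intro α
    obtain ⟨z, hz⟩ := lin_solve hf x hx α
    exact ⟨z, funext hz⟩
  rw [hsurj, finrank_top, Module.finrank_fin_fun] at h1
  omega

theorem li2 (a b : Fin n → F) (ha : a ≠ 0) (hb : b ∉ Submodule.span F {a}) :
    LinearIndependent F ![a, b] := by
  rw [LinearIndependent.pair_iff' ha]
  intro c hc
  apply hb
  rw [Submodule.mem_span_singleton]
  exact ⟨c, hc⟩

def Perp (f : (Fin n → F) → (Fin n → F) → F) {m : ℕ} (a : Fin m → (Fin n → F))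
    (v : Fin n → F) : Prop := ∀ i, f v (a i) = 0

structure Nd (f : (Fin n → F) → (Fin n → F) → F) {m : ℕ} (a : Fin m → (Fin n → F)) : Prop where
  li : LinearIndependent F a
  nd : ∀ v ∈ Submodule.span F (Set.range a), Perp f a v → v = 0

theorem perp_cons {m : ℕ} (a : Fin m → (Fin n → F)) (x v : Fin n → F) :
    Perp f (Fin.cons x a : Fin (m + 1) → (Fin n → F)) v ↔ f v x = 0 ∧ Perp f a v := by
  unfold Perp
  rw [Fin.forall_fin_succ]
  simp

theorem perp_span (hf : IsHerm σ f) {m : ℕ} (a : Fin m → (Fin n → F))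
    (v : Fin n → F) (hv : Perp f a v) : ∀ x ∈ Submodule.span F (Set.range a), f v x = 0 := by
  intro x hx
  induction hx using Submodule.span_induction with
  | mem y hy =>
    obtain ⟨i, rfl⟩ := hy
    exact hv i
  | zero => exact f_zero_right hf v
  | add y z _ _ hy hz => rw [f_add_right hf, hy, hz, add_zero]
  | smul c y _ hy => rw [f_smul_right hf, hy, mul_zero]

theorem perp_span' (hf : IsHerm σ f) {m : ℕ} (a : Fin m → (Fin n → F))
    (v : Fin n → F) (hv : Perp f a v) : ∀ x ∈ Submodule.span F (Set.range a), f x v = 0 := by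
  intro x hx
  exact f_swap_zero hf (perp_span hf a v hv x hx)

theorem perp_add (hf : IsHerm σ f) {m : ℕ} (a : Fin m → (Fin n → F))
    (v w : Fin n → F) (hv : Perp f a v) (hw : Perp f a w) : Perp f a (v + w) := by
  intro i
  rw [hf.add_left, hv i, hw i, add_zero]

theorem perp_smul (hf : IsHerm σ f) {m : ℕ} (a : Fin m → (Fin n → F))
    (c : F) (v : Fin n → F) (hv : Perp f a v) : Perp f a (c • v) := by
  intro i
  rw [hf.smul_left, hv i, mul_zero]

theorem perp_sub (hf : IsHerm σ f) {m : ℕ} (a : Fin m → (Fin n → F))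
    (v w : Fin n → F) (hv : Perp f a v) (hw : Perp f a w) : Perp f a (v - w) := by
  intro i
  rw [f_sub_left hf, hv i, hw i, sub_zero]

theorem rb (hf : IsHerm σ f) {m : ℕ} (a : Fin m → (Fin n → F)) (ha : Nd f a)
    (S : Submodule F (Fin n → F)) (hti : ∀ x ∈ S, ∀ y ∈ S, f x y = 0)
    (hperp : ∀ x ∈ S, Perp f a x) : 2 * Module.finrank F S + m ≤ n := by
  let b := Module.finBasis F S
  have hli : LinearIndependent F (fun i => ((b i : S) : Fin n → F)) :=
    b.linearIndependent.map' S.subtype S.ker_subtype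
  have h1 := finrank_ker_eq hf _ hli
  set A := Submodule.span F (Set.range a) with hA
  have hAm : Module.finrank F A = m := by
    rw [hA, finrank_span_eq_card ha.li, Fintype.card_fin]
  have hle : S ⊔ A ≤ LinearMap.ker (perpMap hf (fun i => ((b i : S) : Fin n → F))) := by
    apply sup_le
    · intro v hv
      rw [mem_ker_perpMap]
      intro i
      exact hti v hv _ (b i).2
    · intro v hv
      rw [mem_ker_perpMap]
      intro i
      exact perp_span' hf a _ (hperp _ (b i).2) v hv
  have hinf : S ⊓ A = ⊥ := by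
    rw [eq_bot_iff]
    intro v hv
    rw [Submodule.mem_bot]
    exact ha.nd v hv.2 (hperp v hv.1)
  have h2 := Submodule.finrank_mono hle
  have h3 := Submodule.finrank_sup_add_finrank_inf_eq S A
  rw [hinf, finrank_bot, add_zero, hAm] at h3
  omega

theorem nd_cons1 (hf : IsHerm σ f) {m : ℕ} (a : Fin m → (Fin n → F))
    (ha : Nd f a) (x : Fin n → F) (hx : Perp f a x) (hxx : f x x ≠ 0) :
    Nd f (Fin.cons x a : Fin (m + 1) → (Fin n → F)) := by
  have hxn : x ∉ Submodule.span F (Set.range a) := by
    intro h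
    have := ha.nd x h hx
    rw [this, f_zero_left hf] at hxx
    exact hxx rfl
  refine ⟨ha.li.finCons hxn, ?_⟩
  intro v hv hp
  rw [perp_cons] at hp
  rw [Fin.range_cons, Submodule.mem_span_insert] at hv
  obtain ⟨c, w, hw, rfl⟩ := hv
  have hpw : Perp f a w := by
    intro i
    have := hp.2 i
    rw [hf.add_left, hf.smul_left, hx i, mul_zero, zero_add] at this
    exact this
  have hw0 : w = 0 := ha.nd w hw hpw
  rw [hw0, add_zero] at hp ⊢
  have h1 := hp.1
  rw [hf.smul_left] at h1
  rcases mul_eq_zero.1 h1 with h | h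
  · rw [h, zero_smul]
  · exact absurd h hxx

theorem nd_cons2 (hf : IsHerm σ f) {m : ℕ} (a : Fin m → (Fin n → F))
    (ha : Nd f a) (u v : Fin n → F) (hu : Perp f a u) (hv : Perp f a v) (huu : f u u = 0)
    (hvv : f v v = 0) (hvu : f v u ≠ 0) :
    Nd f (Fin.cons u (Fin.cons v a) : Fin (m + 1 + 1) → (Fin n → F)) := by
  have huv : f u v ≠ 0 := f_swap_ne hf hvu
  have hvn : v ∉ Submodule.span F (Set.range a) := by
    intro h
    have := ha.nd v h hv
    rw [this, f_zero_left hf] at hvu
    exact hvu rfl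
  have hli1 : LinearIndependent F (Fin.cons v a : Fin (m + 1) → (Fin n → F)) :=
    ha.li.finCons hvn
  have hun : u ∉ Submodule.span F (Set.range (Fin.cons v a : Fin (m + 1) → (Fin n → F))) := by
    intro h
    rw [Fin.range_cons, Submodule.mem_span_insert] at h
    obtain ⟨c, w, hw, hcw⟩ := h
    have h1 : f u u = c * f v u + f w u := by
      have h0 : f u u = f (c • v + w) u := by rw [← hcw]
      rw [h0, hf.add_left, hf.smul_left]
    rw [huu, perp_span' hf a u hu w hw, add_zero] at h1
    rcases mul_eq_zero.1 h1.symm with h | h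
    · rw [h, zero_smul, zero_add] at hcw
      have := ha.nd u (hcw ▸ hw) hu
      rw [this, f_zero_right hf] at hvu
      exact hvu rfl
    · exact hvu h
  refine ⟨hli1.finCons hun, ?_⟩
  intro x hx hp
  rw [perp_cons, perp_cons] at hp
  rw [Fin.range_cons, Submodule.mem_span_insert] at hx
  obtain ⟨α, y, hy, rfl⟩ := hx
  rw [Fin.range_cons, Submodule.mem_span_insert] at hy
  obtain ⟨β, w, hw, rfl⟩ := hy
  obtain ⟨h1, h2, h3⟩ := hp
  have hwu : f w u = 0 := perp_span' hf a u hu w hw
  have hwv : f w v = 0 := perp_span' hf a v hv w hw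
  rw [hf.add_left, hf.add_left, hf.smul_left, hf.smul_left, huu, hwu, mul_zero, zero_add,
    add_zero] at h1
  rw [hf.add_left, hf.add_left, hf.smul_left, hf.smul_left, hvv, hwv, mul_zero, zero_add,
    add_zero] at h2
  have hβ : β = 0 := by
    rcases mul_eq_zero.1 h1 with h | h
    · exact h
    · exact absurd h hvu
  have hα : α = 0 := by
    rcases mul_eq_zero.1 h2 with h | h
    · exact h
    · exact absurd h huv
  have hpw : Perp f a w := by
    intro i
    have := h3 i
    rw [hα, hβ, zero_smul, zero_smul, zero_add, zero_add] at this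
    exact this
  rw [hα, hβ, ha.nd w hw hpw]
  simp

theorem not_mem_span {m : ℕ} (a : Fin m → (Fin n → F))
    (ha : Nd f a) (u : Fin n → F) (hu0 : u ≠ 0) (hua : Perp f a u) :
    u ∉ Submodule.span F (Set.range a) := fun h => hu0 (ha.nd u h hua)

theorem ex_dual (hf : IsHerm σ f) {m : ℕ} (a : Fin m → (Fin n → F))
    (ha : Nd f a) (u : Fin n → F) (hu0 : u ≠ 0) (hua : Perp f a u) :
    ∃ z, f z u = 1 ∧ Perp f a z := by
  have hli : LinearIndependent F (Fin.cons u a : Fin (m + 1) → (Fin n → F)) :=
    ha.li.finCons (not_mem_span a ha u hu0 hua)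
  obtain ⟨z, hz⟩ := lin_solve hf _ hli (Fin.cons 1 0)
  refine ⟨z, ?_, fun i => ?_⟩
  · have := hz 0
    simpa using this
  · have := hz i.succ
    simpa using this

def e0 : Fin 0 → (Fin n → F) := Fin.elim0

theorem nd_e0 : Nd f (e0 : Fin 0 → (Fin n → F)) := by
  refine ⟨linearIndependent_empty_type, ?_⟩
  intro v hv _
  have : Set.range (e0 : Fin 0 → (Fin n → F)) = ∅ := Set.range_eq_empty _
  rw [this, Submodule.span_empty, Submodule.mem_bot] at hv
  exact hv

theorem perp_e0 (v : Fin n → F) : Perp f (e0 : Fin 0 → (Fin n → F)) v := fun i => Fin.elim0 i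

end Cfsg.Agent.Lib.Helper28.HForm
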