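import Mathlib
import Cfsg.Agent.S4219

set_option autoImplicit false

namespace Cfsg.Agent.Lib.Helper28.Kp

open Equiv Equiv.Perm MulAction
open scoped commutatorElement

variable {H : Type*} [Group H] {α : Type*} [MulAction H α]

/-- `t`-fold transitivity in elementary form: partial injections of size `≤ t` extend. -/
theorem mt_of_pretransitive [Fintype α] [DecidableEq α] (t : ℕ) (ht : t ≤ Fintype.card α)
    (h : IsMultiplyPretransitive H α t) (A : Finset α) (f : α → α) (hA : A.card ≤ t)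
    (hf : Set.InjOn f A) : ∃ g : H, ∀ a ∈ A, g • a = f a := by
  have := h
  have hj : IsMultiplyPretransitive H α A.card :=
    isMultiplyPretransitive_of_le (n := t) hA (by rw [Nat.card_eq_fintype_card]; exact ht)
  let e : Fin A.card ≃ ↥A := A.equivFin.symm
  let x : Fin A.card ↪ α := ⟨fun i => (e i : α), fun i j hij => e.injective (Subtype.ext hij)⟩
  let y : Fin A.card ↪ α := ⟨fun i => f (e i : α), fun i j hij => by
    have h1 := hf (e i).2 (e j).2 hij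
    exact e.injective (Subtype.ext h1)⟩
  obtain ⟨g, hg⟩ := (isMultiplyPretransitive_iff.mp hj) x y
  refine ⟨g, ?_⟩
  intro a ha
  have h1 := congrArg (fun z : Fin A.card ↪ α => z (e.symm ⟨a, ha⟩)) hg
  simp only [Function.Embedding.smul_apply] at h1
  have h2 : x (e.symm ⟨a, ha⟩) = a := by
    show ((e (e.symm ⟨a, ha⟩) : ↥A) : α) = a
    rw [Equiv.apply_symm_apply]
  have h3 : y (e.symm ⟨a, ha⟩) = f a := by
    show f ((e (e.symm ⟨a, ha⟩) : ↥A) : α) = f a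
    rw [Equiv.apply_symm_apply]
  rw [h2, h3] at h1
  exact h1

/-- `y` induces the permutation `σ` on the finite set `Φ` -/
def Ind (Φ : Finset α) (y : H) (σ : Perm ↥Φ) : Prop := ∀ x : ↥Φ, y • (x : α) = (σ x : α)

theorem Ind.one (Φ : Finset α) : Ind Φ (1 : H) (1 : Perm ↥Φ) := fun x => by simp

theorem Ind.mul {Φ : Finset α} {y z : H} {σ τ : Perm ↥Φ} (h1 : Ind Φ y σ) (h2 : Ind Φ z τ) :
    Ind Φ (y * z) (σ * τ) := fun x => by
  rw [mul_smul, h2 x, h1 (τ x)]; rfl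

theorem Ind.inv {Φ : Finset α} {y : H} {σ : Perm ↥Φ} (h1 : Ind Φ y σ) :
    Ind Φ y⁻¹ σ⁻¹ := fun x => by
  rw [inv_smul_eq_iff, h1 (σ⁻¹ x)]; simp

theorem Ind.comm {Φ : Finset α} {y z : H} {σ τ : Perm ↥Φ} (h1 : Ind Φ y σ) (h2 : Ind Φ z τ) :
    Ind Φ ⁅y, z⁆ ⁅σ, τ⁆ := by
  rw [commutatorElement_def, commutatorElement_def]
  exact ((h1.mul h2).mul h1.inv).mul h2.inv

theorem Ind.pow {Φ : Finset α} {y : H} {σ : Perm ↥Φ} (h1 : Ind Φ y σ) (n : ℕ) :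
    Ind Φ (y ^ n) (σ ^ n) := by
  induction n with
  | zero => simpa using Ind.one Φ
  | succ n ih => rw [pow_succ, pow_succ]; exact ih.mul h1

theorem Ind.unique {Φ : Finset α} {y : H} {σ τ : Perm ↥Φ} (h1 : Ind Φ y σ) (h2 : Ind Φ y τ) :
    σ = τ := by
  ext x
  rw [← h1 x, ← h2 x]

/-- permutations of `↥Φ` induced by elements of `L` -/
def indOn (L : Subgroup H) (Φ : Finset α) : Subgroup (Perm ↥Φ) where
  carrier := {σ | ∃ y ∈ L, Ind Φ y σ}
  mul_mem' := by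
    rintro σ τ ⟨y, hy, hσ⟩ ⟨z, hz, hτ⟩
    exact ⟨y * z, L.mul_mem hy hz, hσ.mul hτ⟩
  one_mem' := ⟨1, L.one_mem, Ind.one Φ⟩
  inv_mem' := by
    rintro σ ⟨y, hy, hσ⟩
    exact ⟨y⁻¹, L.inv_mem hy, hσ.inv⟩

theorem mem_indOn {L : Subgroup H} {Φ : Finset α} {σ : Perm ↥Φ} :
    σ ∈ indOn L Φ ↔ ∃ y ∈ L, Ind Φ y σ := Iff.rfl

theorem indOn_mono {L L' : Subgroup H} (h : L ≤ L') (Φ : Finset α) : indOn L Φ ≤ indOn L' Φ := by
  rintro σ ⟨y, hy, hσ⟩
  exact ⟨y, h hy, hσ⟩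

theorem indOn_commutator (L₁ L₂ : Subgroup H) (Φ : Finset α) :
    ⁅indOn L₁ Φ, indOn L₂ Φ⁆ ≤ indOn ⁅L₁, L₂⁆ Φ := by
  rw [Subgroup.commutator_le]
  rintro σ ⟨y, hy, hσ⟩ τ ⟨z, hz, hτ⟩
  exact ⟨⁅y, z⁆, Subgroup.commutator_mem_commutator hy hz, hσ.comm hτ⟩

/-- the normalizer of `Q` preserves the fixed points of `Q` -/
theorem smul_mem_fix_of_normalizer (Q : Subgroup H) (Φ : Finset α)
    (hΦ : ∀ x, x ∈ Φ ↔ ∀ q ∈ Q, q • x = x) {n : H} (hn : n ∈ Subgroup.normalizer (Q : Set H)) (x : α) :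
    n • x ∈ Φ ↔ x ∈ Φ := by
  rw [hΦ, hΦ]
  constructor
  · intro h q hq
    have h1 : n * q * n⁻¹ ∈ Q := (Subgroup.mem_normalizer_iff.mp hn q).mp hq
    have h2 := h _ h1
    rw [mul_smul, mul_smul, inv_smul_smul] at h2
    exact smul_left_cancel n h2
  · intro h q hq
    have h1 : n⁻¹ * q * n⁻¹⁻¹ ∈ Q :=
      (Subgroup.mem_normalizer_iff.mp ((Subgroup.normalizer (Q : Set H)).inv_mem hn) q).mp hq
    rw [inv_inv] at h1
    have h2 := h _ h1
    rw [mul_smul, mul_smul, inv_smul_eq_iff] at h2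
    exact h2

/-- an element preserving `Φ` induces a permutation of it -/
theorem exists_ind (Φ : Finset α) (n : H) (hn : ∀ x, n • x ∈ Φ ↔ x ∈ Φ) :
    ∃ σ : Perm ↥Φ, Ind Φ n σ :=
  ⟨(MulAction.toPerm n).subtypePerm (fun x => hn x), fun _ => rfl⟩

end Cfsg.Agent.Lib.Helper28.Kp
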