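import Mathlib
import Cfsg.Agent.Lib.Helper28.KpA

set_option autoImplicit false

namespace Cfsg.Agent.Lib.Helper28.Kp

open Equiv Equiv.Perm MulAction
open scoped commutatorElement

set_option linter.unusedSectionVars false

variable {H : Type*} [Group H] [Finite H] {α : Type*} [Fintype α] [DecidableEq α] [MulAction H α]

/-- image in `H` of a Sylow subgroup of a subgroup -/
def sylIm {p : ℕ} {D : Subgroup H} (P : Sylow p D) : Subgroup H :=
  (P : Subgroup D).map D.subtype

theorem sylIm_le {p : ℕ} {D : Subgroup H} (P : Sylow p D) : sylIm P ≤ D := by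
  rintro _ ⟨d, _, rfl⟩
  exact d.2

theorem sylIm_isPGroup {p : ℕ} {D : Subgroup H} (P : Sylow p D) : IsPGroup p (sylIm P) :=
  P.isPGroup'.map _

theorem sylIm_eq_bot_iff {p : ℕ} {D : Subgroup H} (P : Sylow p D) :
    sylIm P = ⊥ ↔ (P : Subgroup D) = ⊥ := by
  unfold sylIm
  rw [Subgroup.map_eq_bot_iff_of_injective _ (Subgroup.subtype_injective D)]

theorem mem_stab_emb {t : ℕ} (x : Fin t ↪ α) (g : H) :
    g ∈ stabilizer H x ↔ ∀ i, g • x i = x i := by
  rw [mem_stabilizer_iff]
  constructor
  · intro h i
    have := congrArg (fun z : Fin t ↪ α => z i) h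
    simpa [Function.Embedding.smul_apply] using this
  · intro h
    ext i
    rw [Function.Embedding.smul_apply, h i]

/-- a Sylow `p`-subgroup of the stabiliser of `r` points fixes no further point -/
theorem fix_sylow {p k r : ℕ} [Fact p.Prime] (hn : Fintype.card α = k * p + r) (hk : 1 ≤ k)
    (hG : IsMultiplyPretransitive H α (r + 1)) (x : Fin r ↪ α)
    (P : Sylow p (stabilizer H x)) (y : α) (hy : ∀ q ∈ sylIm P, q • y = y) :
    y ∈ Set.range x := by
  by_contra hyx
  -- the `D`-orbit of `y` is the complement of the range of `x`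
  have horb : orbit (stabilizer H x) y = (Set.range x)ᶜ := by
    ext z
    constructor
    · rintro ⟨d, rfl⟩ ⟨i, hi⟩
      apply hyx
      refine ⟨i, ?_⟩
      have h1 : (d : H) • x i = x i := (mem_stab_emb x d).mp d.2 i
      have h2 : (d : H) • y = x i := hi.symm
      rw [← h1] at h2
      exact (smul_left_cancel _ h2).symm
    · intro hz
      have hcard : r + 1 ≤ Fintype.card α := by
        have : 1 ≤ k * p := Nat.mul_pos hk (Fact.out : p.Prime).pos
        omega
      let A : Finset α := insert y (Finset.univ.map x)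
      let f : α → α := fun a => if a = y then z else a
      have hA : A.card ≤ r + 1 := by
        refine (Finset.card_insert_le _ _).trans ?_
        simp
      have hf : Set.InjOn f A := by
        intro a ha b hb hab
        simp only [f] at hab
        have hmem : ∀ c, c ∈ A → c ≠ y → c ∈ Set.range x := by
          intro c hc hcy
          simp only [A, Finset.mem_insert, Finset.mem_map, Finset.mem_univ, true_and] at hc
          rcases hc with h | ⟨i, hi⟩
          · exact absurd h hcy
          · exact ⟨i, hi⟩
        by_cases h1 : a = y <;> by_cases h2 : b = y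
        · rw [h1, h2]
        · rw [if_pos h1, if_neg h2] at hab
          exact absurd (hab ▸ hmem b hb h2) hz
        · rw [if_neg h1, if_pos h2] at hab
          exact absurd (hab ▸ hmem a ha h1) hz
        · rw [if_neg h1, if_neg h2] at hab
          exact hab
      obtain ⟨g, hg⟩ := mt_of_pretransitive (r + 1) hcard hG A f hA hf
      have hgD : g ∈ stabilizer H x := by
        rw [mem_stab_emb]
        intro i
        have hi : x i ∈ A := by simp [A]
        rw [hg _ hi]
        simp only [f]
        rw [if_neg]
        intro h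
        exact hyx ⟨i, h⟩
      refine ⟨⟨g, hgD⟩, ?_⟩
      show g • y = z
      rw [hg y (by simp [A])]
      simp [f]
  have hidx : (stabilizer (stabilizer H x) y).index = k * p := by
    rw [index_stabilizer, horb, Set.ncard_compl, Set.ncard_range_of_injective x.injective]
    simp only [Nat.card_eq_fintype_card, Fintype.card_fin]
    omega
  have hle : (P : Subgroup (stabilizer H x)) ≤ stabilizer (stabilizer H x) y := by
    intro d hd
    rw [mem_stabilizer_iff]
    exact hy d.1 ⟨d, hd, rfl⟩
  have hdvd := Subgroup.index_dvd_of_le hle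
  rw [hidx] at hdvd
  exact P.not_dvd_index ((Dvd.intro_left k rfl).trans hdvd)

/-- orbits of a `p`-group outside its fixed points have size `p` when few points are moved -/
theorem card_orbit_eq {p : ℕ} [Fact p.Prime] (Q : Subgroup H) (hQ : IsPGroup p Q)
    (Φ : Finset α) (hΦ : ∀ x, x ∈ Φ ↔ ∀ q ∈ Q, q • x = x) (hΨ : Φᶜ.card < p ^ 2)
    (ω : α) (hω : ω ∉ Φ) : Nat.card (orbit Q ω) = p := by
  classical
  obtain ⟨n, hn⟩ := hQ.card_orbit ω
  have hsub : (orbit Q ω).toFinset ⊆ Φᶜ := by
    intro z hz
    rw [Set.mem_toFinset] at hz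
    obtain ⟨q, rfl⟩ := hz
    rw [Finset.mem_compl, hΦ]
    intro h
    apply hω
    rw [hΦ]
    intro q' hq'
    have h1 := h (q.1 * q' * q.1⁻¹) (Q.mul_mem (Q.mul_mem q.2 hq') (Q.inv_mem q.2))
    have h2 : (q.1 * q' * q.1⁻¹) • (q • ω) = q.1 • (q' • ω) := by
      rw [mul_smul, mul_smul]
      congr 2
      exact inv_smul_smul q.1 ω
    rw [h2] at h1
    exact smul_left_cancel _ h1
  have hle := Finset.card_le_card hsub
  rw [← Nat.card_eq_card_toFinset, hn] at hle
  have hn1 : n ≠ 0 := by
    intro h0
    rw [h0, pow_zero] at hn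
    apply hω
    rw [hΦ]
    intro q hq
    have hsing : (orbit Q ω).Subsingleton := by
      have : Nat.card (orbit Q ω) ≤ 1 := hn.le
      rw [Finite.card_le_one_iff_subsingleton] at this
      exact Set.subsingleton_coe _ |>.mp this
    exact hsing ⟨⟨q, hq⟩, rfl⟩ (mem_orbit_self ω)
  have hp := (Fact.out : p.Prime)
  have hn2 : n < 2 := by
    by_contra h
    push Not at h
    have : p ^ 2 ≤ p ^ n := Nat.pow_le_pow_right hp.pos h
    omega
  have : n = 1 := by omega
  rw [hn, this, pow_one]

/-- if the stabiliser of one more point has order prime to `p`, the Sylow subgroup has order `p` -/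
theorem card_sylIm_eq {p r : ℕ} [Fact p.Prime] (x' : Fin (r + 1) ↪ α)
    (P : Sylow p (stabilizer H (Fin.castSuccEmb.trans x')))
    (P' : Sylow p (stabilizer H x')) (hbot : (P' : Subgroup (stabilizer H x')) = ⊥)
    (horb : Nat.card (orbit (sylIm P) (x' (Fin.last r))) = p) : Nat.card (sylIm P) = p := by
  have hp := (Fact.out : p.Prime)
  have hstab : stabilizer (sylIm P) (x' (Fin.last r)) = ⊥ := by
    rw [Subgroup.eq_bot_iff_forall]
    intro q hq
    by_contra hq1
    have hqx : q.1 ∈ stabilizer H x' := by
      rw [mem_stab_emb]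
      intro i
      induction i using Fin.lastCases with
      | last => exact hq
      | cast j =>
        have h1 : q.1 ∈ stabilizer H (Fin.castSuccEmb.trans x') := sylIm_le P q.2
        rw [mem_stab_emb] at h1
        exact h1 j
    obtain ⟨m, hm⟩ := (sylIm_isPGroup P) q
    have hm' : (⟨q.1, hqx⟩ : stabilizer H x') ^ p ^ m = 1 := by
      apply Subtype.ext
      have := congrArg (fun z : sylIm P => (z : H)) hm
      simpa using this
    have hne : (⟨q.1, hqx⟩ : stabilizer H x') ≠ 1 := by
      intro h
      apply hq1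
      apply Subtype.ext
      exact congrArg (fun z : stabilizer H x' => (z : H)) h
    have hord : orderOf (⟨q.1, hqx⟩ : stabilizer H x') ∣ p ^ m := orderOf_dvd_of_pow_eq_one hm'
    obtain ⟨j, _, hj⟩ := (Nat.dvd_prime_pow hp).mp hord
    have hj0 : j ≠ 0 := by
      intro h0
      rw [h0, pow_zero, orderOf_eq_one_iff] at hj
      exact hne hj
    have hdvd : p ∣ Nat.card (stabilizer H x') := by
      refine dvd_trans ?_ (orderOf_dvd_natCard (⟨q.1, hqx⟩ : stabilizer H x'))
      rw [hj]
      exact dvd_pow_self p hj0
    exact P'.ne_bot_of_dvd_card hdvd hbot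
  have h1 := Subgroup.index_mul_card (stabilizer (sylIm P) (x' (Fin.last r)))
  rw [index_stabilizer, hstab, Subgroup.card_bot, mul_one, ← Nat.card_coe_set_eq, horb] at h1
  exact h1.symm

end Cfsg.Agent.Lib.Helper28.Kp
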