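import Mathlib
import Cfsg.Agent.Lib.Helper28.KpB

set_option autoImplicit false

namespace Cfsg.Agent.Lib.Helper28.Kp

open Equiv Equiv.Perm MulAction
open scoped commutatorElement

set_option linter.unusedSectionVars false

variable {H : Type*} [Group H] [Finite H] {α : Type*} [Fintype α] [DecidableEq α] [MulAction H α]

/-- Witt's lemma in induced form -/
theorem witt_ind {p t : ℕ} [Fact p.Prime] (hG : IsMultiplyPretransitive H α t) (x : Fin t ↪ α)
    (P : Sylow p (stabilizer H x)) (Φ : Finset α)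
    (hΦ : ∀ y, y ∈ Φ ↔ ∀ q ∈ sylIm P, q • y = y) :
    IsMultiplyPretransitive (indOn (Subgroup.normalizer (sylIm P : Set H)) Φ) ↥Φ t := by
  rw [isMultiplyPretransitive_iff]
  intro a b
  have hfix : ∀ (c : Fin t ↪ ↥Φ) i, ((c i : ↥Φ) : α) ∈ fixedPoints (sylIm P) α := by
    intro c i
    rw [mem_fixedPoints]
    intro m
    exact (hΦ _).mp (c i).2 m.1 m.2
  obtain ⟨g, hg, hgab⟩ := Cfsg.Agent.S4219.result hG x P
    (a.trans (Function.Embedding.subtype _)) (b.trans (Function.Embedding.subtype _))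
    (hfix a) (hfix b)
  obtain ⟨σ, hσ⟩ := exists_ind Φ g
    (fun y => smul_mem_fix_of_normalizer (sylIm P) Φ hΦ hg y)
  refine ⟨⟨σ, g, hg, hσ⟩, ?_⟩
  ext i
  show ((σ (a i) : ↥Φ) : α) = (b i : α)
  rw [← hσ (a i)]
  have := congrArg (fun z : Fin t ↪ α => z i) hgab
  simpa [Function.Embedding.smul_apply] using this

/-- when the fixed point set has exactly `t` points the normaliser induces everything -/
theorem witt_top {p t : ℕ} [Fact p.Prime] (hG : IsMultiplyPretransitive H α t) (x : Fin t ↪ α)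
    (P : Sylow p (stabilizer H x)) (Φ : Finset α)
    (hΦ : ∀ y, y ∈ Φ ↔ ∀ q ∈ sylIm P, q • y = y) (hcard : Φ.card = t) :
    indOn (Subgroup.normalizer (sylIm P : Set H)) Φ = ⊤ := by
  have h1 := witt_ind hG x P Φ hΦ
  apply Equiv.Perm.eq_top_of_isMultiplyPretransitive
  have hc : Nat.card ↥Φ = t := by
    rw [Nat.card_eq_fintype_card, Fintype.card_coe, hcard]
  exact isMultiplyPretransitive_of_le (n := t) (by omega) (by omega)

end Cfsg.Agent.Lib.Helper28.Kp
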