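import Mathlib
import Cfsg.Agent.Lib.Helper28.KpC

set_option autoImplicit false

namespace Cfsg.Agent.Lib.Helper28.Kp

open Equiv Equiv.Perm MulAction
open scoped commutatorElement

set_option linter.unusedSectionVars false

variable {H : Type*} [Group H] {α : Type*} [Fintype α] [DecidableEq α] [MulAction H α]

/-- pushing an element of the normaliser past an element of `Q` -/
theorem norm_smul {Q : Subgroup H} {u q : H} (hu : u ∈ Subgroup.normalizer (Q : Set H))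
    (hq : q ∈ Q) (a : α) : ∃ q' ∈ Q, u • q • a = q' • u • a := by
  refine ⟨u * q * u⁻¹, (Subgroup.mem_normalizer_iff.mp hu q).mp hq, ?_⟩
  rw [mul_smul, mul_smul, inv_smul_smul]

/-- elements of `L` normalising `Q` and fixing every `Q`-orbit outside `Φ` -/
def orbFix (Q L : Subgroup H) (Φ : Finset α) : Subgroup H where
  carrier := {y | y ∈ L ∧ y ∈ Subgroup.normalizer (Q : Set H) ∧
    ∀ ω, ω ∉ Φ → ∃ q ∈ Q, y • ω = q • ω}
  mul_mem' := by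
    rintro y z ⟨hy, hyn, hy'⟩ ⟨hz, hzn, hz'⟩
    refine ⟨L.mul_mem hy hz, Subgroup.mul_mem _ hyn hzn, fun ω hω => ?_⟩
    obtain ⟨q, hq, hqz⟩ := hz' ω hω
    obtain ⟨q₂, hq₂, hqy⟩ := hy' ω hω
    obtain ⟨q', hq', hq'e⟩ := norm_smul hyn hq ω
    refine ⟨q' * q₂, Q.mul_mem hq' hq₂, ?_⟩
    rw [mul_smul, hqz, hq'e, hqy, mul_smul]
  one_mem' := ⟨L.one_mem, Subgroup.one_mem _, fun ω _ => ⟨1, Q.one_mem, rfl⟩⟩
  inv_mem' := by
    rintro y ⟨hy, hyn, hy'⟩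
    refine ⟨L.inv_mem hy, Subgroup.inv_mem _ hyn, fun ω hω => ?_⟩
    obtain ⟨q, hq, hqy⟩ := hy' ω hω
    obtain ⟨q', hq', hq'e⟩ := norm_smul (Subgroup.inv_mem _ hyn) (Q.inv_mem hq) (y • ω)
    refine ⟨q', hq', ?_⟩
    rw [inv_smul_smul] at hq'e
    rw [← hq'e, hqy, inv_smul_smul]

theorem mem_orbFix {Q L : Subgroup H} {Φ : Finset α} {y : H} :
    y ∈ orbFix Q L Φ ↔ y ∈ L ∧ y ∈ Subgroup.normalizer (Q : Set H) ∧
      ∀ ω, ω ∉ Φ → ∃ q ∈ Q, y • ω = q • ω := Iff.rfl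

theorem orbFix_le (Q L : Subgroup H) (Φ : Finset α) : orbFix Q L Φ ≤ L := fun _ h => h.1

/-- `orbFix` is normalised by `L ⊓ N(Q)` -/
theorem orbFix_conj (Q L : Subgroup H) (Φ : Finset α)
    (hΦ : ∀ x, x ∈ Φ ↔ ∀ q ∈ Q, q • x = x) {u y : H} (hu : u ∈ L)
    (hun : u ∈ Subgroup.normalizer (Q : Set H)) (hy : y ∈ orbFix Q L Φ) :
    u * y * u⁻¹ ∈ orbFix Q L Φ := by
  obtain ⟨hyL, hyn, hy'⟩ := hy
  refine ⟨L.mul_mem (L.mul_mem hu hyL) (L.inv_mem hu),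
    Subgroup.mul_mem _ (Subgroup.mul_mem _ hun hyn) (Subgroup.inv_mem _ hun), fun ω hω => ?_⟩
  have h1 : u⁻¹ • ω ∉ Φ := by
    rw [smul_mem_fix_of_normalizer Q Φ hΦ (Subgroup.inv_mem _ hun)]
    exact hω
  obtain ⟨q, hq, hqy⟩ := hy' _ h1
  obtain ⟨q', hq', hq'e⟩ := norm_smul hun hq (u⁻¹ • ω)
  refine ⟨q', hq', ?_⟩
  rw [mul_smul, mul_smul, hqy, hq'e, smul_inv_smul]

/-- a representative of the `Q`-orbit of a point -/
noncomputable def rep (Q : Subgroup H) (ω : α) : α :=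
  (Quotient.mk'' ω : orbitRel.Quotient Q α).out

theorem rep_spec (Q : Subgroup H) (ω : α) : ∃ q ∈ Q, rep Q ω = q • ω := by
  have h1 : (Quotient.mk'' (rep Q ω) : orbitRel.Quotient Q α) = Quotient.mk'' ω :=
    Quotient.out_eq' _
  rw [Quotient.eq''] at h1
  have h1' : (orbitRel (↥Q) α) (rep Q ω) ω := h1
  rw [orbitRel_apply] at h1'
  obtain ⟨q, hq⟩ := h1'
  exact ⟨q.1, q.2, hq.symm⟩

theorem rep_smul (Q : Subgroup H) {q : H} (hq : q ∈ Q) (ω : α) : rep Q (q • ω) = rep Q ω := by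
  unfold rep
  congr 1
  rw [Quotient.eq'']
  show (orbitRel (↥Q) α) (q • ω) ω
  rw [orbitRel_apply]
  exact ⟨⟨q, hq⟩, rfl⟩

theorem rep_rep (Q : Subgroup H) (ω : α) : rep Q (rep Q ω) = rep Q ω := by
  obtain ⟨q, hq, h⟩ := rep_spec Q ω
  rw [h, rep_smul Q hq]
  exact h

theorem exists_of_rep_eq (Q : Subgroup H) {a b : α} (h : rep Q a = rep Q b) :
    ∃ q ∈ Q, a = q • b := by
  obtain ⟨q₁, hq₁, h₁⟩ := rep_spec Q a
  obtain ⟨q₂, hq₂, h₂⟩ := rep_spec Q b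
  refine ⟨q₁⁻¹ * q₂, Q.mul_mem (Q.inv_mem hq₁) hq₂, ?_⟩
  rw [mul_smul, ← h₂, ← h, h₁, inv_smul_smul]

/-- the pigeonhole step -/
theorem pigeon (Q L : Subgroup H) (hL : L ≤ Subgroup.normalizer (Q : Set H)) (Φ : Finset α)
    (hΦ : ∀ x, x ∈ Φ ↔ ∀ q ∈ Q, q • x = x) (A : Subgroup (Perm ↥Φ)) (hA : A ≤ indOn L Φ)
    (hcnt : (Φᶜ.image (rep Q)).card.factorial < Nat.card A) :
    ∃ σ ∈ A, σ ≠ 1 ∧ σ ∈ indOn (orbFix Q L Φ) Φ := by
  classical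
  obtain ⟨R, hR⟩ : ∃ R : Finset α, R = Φᶜ.image (rep Q) := ⟨_, rfl⟩
  rw [← hR] at hcnt
  have hRΦ : ∀ ρ ∈ R, ρ ∉ Φ := by
    intro ρ hρ
    rw [hR, Finset.mem_image] at hρ
    obtain ⟨ω, hω, rfl⟩ := hρ
    obtain ⟨q, hq, h⟩ := rep_spec Q ω
    rw [h, smul_mem_fix_of_normalizer Q Φ hΦ (Subgroup.le_normalizer hq)]
    exact Finset.mem_compl.mp hω
  have hRrep : ∀ ρ ∈ R, rep Q ρ = ρ := by
    intro ρ hρ
    rw [hR, Finset.mem_image] at hρ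
    obtain ⟨ω, _, rfl⟩ := hρ
    exact rep_rep Q ω
  have hlift : ∀ σ : A, ∃ y ∈ L, Ind Φ y σ.1 := fun σ => hA σ.2
  choose y hyL hyσ using hlift
  have hyn : ∀ σ, y σ ∈ Subgroup.normalizer (Q : Set H) := fun σ => hL (hyL σ)
  have hmemR : ∀ (σ : A) (ρ : ↥R), rep Q (y σ • ρ.1) ∈ R := by
    intro σ ρ
    have h1 : rep Q (y σ • ρ.1) ∈ Φᶜ.image (rep Q) := by
      rw [Finset.mem_image]
      refine ⟨y σ • ρ.1, ?_, rfl⟩
      rw [Finset.mem_compl, smul_mem_fix_of_normalizer Q Φ hΦ (hyn σ)]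
      exact hRΦ _ ρ.2
    rw [← hR] at h1
    exact h1
  have hinj : ∀ σ : A, Function.Injective
      (fun ρ : ↥R => (⟨rep Q (y σ • ρ.1), hmemR σ ρ⟩ : ↥R)) := by
    intro σ ρ ρ' h
    have h1 : rep Q (y σ • ρ.1) = rep Q (y σ • ρ'.1) := congrArg Subtype.val h
    obtain ⟨q, hq, hqe⟩ := exists_of_rep_eq Q h1
    obtain ⟨q', hq', hq'e⟩ := norm_smul (Subgroup.inv_mem _ (hyn σ)) hq (y σ • ρ'.1)
    rw [← hqe, inv_smul_smul, inv_smul_smul] at hq'e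
    apply Subtype.ext
    rw [← hRrep _ ρ.2, ← hRrep _ ρ'.2, hq'e, rep_smul Q hq']
  let F : A → (↥R ↪ ↥R) := fun σ => ⟨_, hinj σ⟩
  have : Fintype A := Fintype.ofFinite A
  have hcard : Fintype.card (↥R ↪ ↥R) < Fintype.card A := by
    rw [Fintype.card_embedding_eq, Nat.descFactorial_self, Fintype.card_coe,
      ← Nat.card_eq_fintype_card]
    exact hcnt
  obtain ⟨σ, σ', hne, hF⟩ := Fintype.exists_ne_map_eq_of_card_lt F hcard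
  refine ⟨σ'.1⁻¹ * σ.1, A.mul_mem (A.inv_mem σ'.2) σ.2, ?_, ?_⟩
  · intro h
    apply hne
    apply Subtype.ext
    have := congrArg (fun z => σ'.1 * z) h
    simpa using this
  · refine ⟨(y σ')⁻¹ * y σ, ⟨L.mul_mem (L.inv_mem (hyL σ')) (hyL σ),
      Subgroup.mul_mem _ (Subgroup.inv_mem _ (hyn σ')) (hyn σ), fun ω hω => ?_⟩,
      (hyσ σ').inv.mul (hyσ σ)⟩
    -- `ω = q₁ • ρ` with `ρ ∈ R`
    have hρR : rep Q ω ∈ R := by
      rw [hR, Finset.mem_image]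
      exact ⟨ω, Finset.mem_compl.mpr hω, rfl⟩
    obtain ⟨q₀, hq₀, hq₀e⟩ := rep_spec Q ω
    have hFρ := congrArg (fun e : ↥R ↪ ↥R => ((e ⟨rep Q ω, hρR⟩ : ↥R) : α)) hF
    have hFρ' : rep Q (y σ • rep Q ω) = rep Q (y σ' • rep Q ω) := hFρ
    obtain ⟨q₂, hq₂, hq₂e⟩ := exists_of_rep_eq Q hFρ'
    -- `y σ • ω = y σ • q₀⁻¹ • ρ`
    have hω' : ω = q₀⁻¹ • rep Q ω := by rw [hq₀e, inv_smul_smul]
    obtain ⟨q₃, hq₃, hq₃e⟩ := norm_smul (hyn σ) (Q.inv_mem hq₀) (rep Q ω)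
    -- `y σ • ω = q₃ • q₂ • y σ' • ρ`
    have h1 : y σ • ω = (q₃ * q₂) • y σ' • (q₀ • ω) := by
      conv_lhs => rw [hω']
      rw [hq₃e, hq₂e, mul_smul, ← hq₀e]
    obtain ⟨q₄, hq₄, hq₄e⟩ := norm_smul (Subgroup.inv_mem _ (hyn σ')) (Q.mul_mem hq₃ hq₂)
      (y σ' • (q₀ • ω))
    refine ⟨q₄ * q₀, Q.mul_mem hq₄ hq₀, ?_⟩
    rw [mul_smul, h1, hq₄e, inv_smul_smul, mul_smul]

/-- counting the orbit representatives -/
theorem card_reps {p : ℕ} (Q : Subgroup H) (Φ : Finset α)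
    (hΦ : ∀ x, x ∈ Φ ↔ ∀ q ∈ Q, q • x = x)
    (horb : ∀ ω, ω ∉ Φ → Nat.card (orbit Q ω) = p) :
    (Φᶜ.image (rep Q)).card * p = Φᶜ.card := by
  classical
  rw [Finset.card_eq_sum_card_image (rep Q) Φᶜ]
  rw [Finset.sum_const_nat (m := p)]
  intro b hb
  rw [Finset.mem_image] at hb
  obtain ⟨ω₀, hω₀, rfl⟩ := hb
  have hb' : rep Q ω₀ ∉ Φ := by
    obtain ⟨q, hq, h⟩ := rep_spec Q ω₀
    rw [h, smul_mem_fix_of_normalizer Q Φ hΦ (Subgroup.le_normalizer hq)]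
    exact Finset.mem_compl.mp hω₀
  rw [← horb _ hb', Nat.card_eq_card_toFinset]
  congr 1
  ext a
  rw [Finset.mem_filter, Set.mem_toFinset, Finset.mem_compl]
  constructor
  · rintro ⟨_, h2⟩
    rw [← rep_rep Q ω₀] at h2
    obtain ⟨q, hq, hqe⟩ := exists_of_rep_eq Q h2
    exact ⟨⟨q, hq⟩, hqe.symm⟩
  · rintro ⟨q, rfl⟩
    refine ⟨?_, ?_⟩
    · show ¬ ((q : H) • rep Q ω₀ ∈ Φ)
      rw [smul_mem_fix_of_normalizer Q Φ hΦ (Subgroup.le_normalizer q.2)]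
      exact hb'
    · show rep Q ((q : H) • rep Q ω₀) = rep Q ω₀
      rw [rep_smul Q q.2, rep_rep]

end Cfsg.Agent.Lib.Helper28.Kp
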