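import Mathlib
import Cfsg.Agent.Lib.Helper28.KpD
import Cfsg.Agent.Lib.helper23.OutSolvA

set_option autoImplicit false

namespace Cfsg.Agent.Lib.Helper28.Kp

open Equiv Equiv.Perm MulAction
open scoped commutatorElement

set_option linter.unusedSectionVars false

/-- the normaliser of a nontrivial `p`-subgroup of `Sym(p)` is metabelian -/
theorem agl {β : Type*} [Fintype β] [DecidableEq β] {p : ℕ} [Fact p.Prime]
    (hβ : Fintype.card β = p) (C : Subgroup (Perm β)) (hC : IsPGroup p C) (hne : C ≠ ⊥) :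
    ⁅⁅Subgroup.normalizer (C : Set (Perm β)), Subgroup.normalizer (C : Set (Perm β))⁆,
      ⁅Subgroup.normalizer (C : Set (Perm β)), Subgroup.normalizer (C : Set (Perm β))⁆⁆ = ⊥ := by
  have hp := (Fact.out : p.Prime)
  -- `C` has order `p`
  have hcardC : Nat.card C = p := by
    obtain ⟨m, hm⟩ := IsPGroup.iff_card.mp hC
    have hdvd : Nat.card C ∣ Nat.card (Perm β) := Subgroup.card_subgroup_dvd_card C
    rw [Nat.card_perm, Nat.card_eq_fintype_card (α := β), hβ, hm] at hdvd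
    have hm2 : m < 2 := by
      by_contra h
      push Not at h
      have h1 : p ^ 2 ∣ p.factorial := (pow_dvd_pow p h).trans hdvd
      obtain ⟨j, hj⟩ : ∃ j, p = j + 1 := ⟨p - 1, by have := hp.pos; omega⟩
      rw [hj, Nat.factorial_succ, ← hj, pow_two] at h1
      have h2 : p ∣ j.factorial := Nat.dvd_of_mul_dvd_mul_left hp.pos h1
      rw [hp.dvd_factorial] at h2
      omega
    have hm0 : m ≠ 0 := by
      intro h0
      rw [h0, pow_zero] at hm
      exact hne (Subgroup.card_eq_one.mp hm)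
    have : m = 1 := by omega
    rw [hm, this, pow_one]
  -- a generator
  have hdvdp : p ∣ Nat.card C := by rw [hcardC]
  obtain ⟨g', hg'⟩ := exists_prime_orderOf_dvd_card' (G := C) p hdvdp
  obtain ⟨g, hgC, hgo⟩ : ∃ g ∈ C, orderOf g = p := by
    refine ⟨g'.1, g'.2, ?_⟩
    rw [← hg']
    exact (Subgroup.orderOf_coe g')
  have hzp : Subgroup.zpowers g = C := by
    apply Subgroup.eq_of_le_of_card_ge
    · rw [Subgroup.zpowers_le]; exact hgC
    · rw [Nat.card_zpowers, hgo, hcardC]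
  -- elements of the normaliser conjugate `g` to a power
  have hconj : ∀ a ∈ Subgroup.normalizer (C : Set (Perm β)), ∃ i : ℤ, a * g * a⁻¹ = g ^ i := by
    intro a ha
    have h1 : a * g * a⁻¹ ∈ C := (Subgroup.mem_normalizer_iff.mp ha g).mp hgC
    rw [← hzp, Subgroup.mem_zpowers_iff] at h1
    obtain ⟨i, hi⟩ := h1
    exact ⟨i, hi.symm⟩
  have key : ∀ a ∈ Subgroup.normalizer (C : Set (Perm β)),
      ∀ b ∈ Subgroup.normalizer (C : Set (Perm β)),
      (a * b) * g * (a * b)⁻¹ = (b * a) * g * (b * a)⁻¹ := by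
    intro a ha b hb
    obtain ⟨i, hi⟩ := hconj a ha
    obtain ⟨j, hj⟩ := hconj b hb
    have e1 : (a * b) * g * (a * b)⁻¹ = a * (b * g * b⁻¹) * a⁻¹ := by group
    have e2 : (b * a) * g * (b * a)⁻¹ = b * (a * g * a⁻¹) * b⁻¹ := by group
    rw [e1, e2, hi, hj, ← conj_zpow, ← conj_zpow, hi, hj, ← zpow_mul, ← zpow_mul, mul_comm]
  -- commutators centralise `g`
  have hcomm : ∀ a ∈ Subgroup.normalizer (C : Set (Perm β)),
      ∀ b ∈ Subgroup.normalizer (C : Set (Perm β)), ⁅a, b⁆ ∈ Subgroup.zpowers g := by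
    intro a ha b hb
    have h1 := key a⁻¹ (Subgroup.inv_mem _ ha) b⁻¹ (Subgroup.inv_mem _ hb)
    have h2 : ⁅a, b⁆ * g = g * ⁅a, b⁆ := by
      rw [commutatorElement_def]
      have e : a * b * a⁻¹ * b⁻¹ = (b⁻¹ * a⁻¹)⁻¹ * (a⁻¹ * b⁻¹) := by group
      rw [e]
      have h3 := congrArg (fun z => (b⁻¹ * a⁻¹)⁻¹ * z * (a⁻¹ * b⁻¹)) h1
      have e3 : (b⁻¹ * a⁻¹)⁻¹ * (a⁻¹ * b⁻¹ * g * (a⁻¹ * b⁻¹)⁻¹) * (a⁻¹ * b⁻¹)
          = (b⁻¹ * a⁻¹)⁻¹ * (a⁻¹ * b⁻¹) * g := by group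
      have e4 : (b⁻¹ * a⁻¹)⁻¹ * (b⁻¹ * a⁻¹ * g * (b⁻¹ * a⁻¹)⁻¹) * (a⁻¹ * b⁻¹)
          = g * ((b⁻¹ * a⁻¹)⁻¹ * (a⁻¹ * b⁻¹)) := by group
      rw [e3, e4] at h3
      exact h3
    have hpc : (Fintype.card β).Prime := by rw [hβ]; exact hp
    obtain ⟨i, hi⟩ := Cfsg.Agent.Lib.helper23.os_cyc_cent (G := Perm β) (X := β) hpc g
      (by rw [hgo, hβ]) ⁅a, b⁆ (fun x => by
        have := congrArg (fun z : Perm β => z x) h2
        simpa [Perm.mul_apply] using this)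
    rw [Subgroup.mem_zpowers_iff]
    refine ⟨i, ?_⟩
    ext x
    rw [hi x]
    rfl
  have hle : ⁅Subgroup.normalizer (C : Set (Perm β)), Subgroup.normalizer (C : Set (Perm β))⁆
      ≤ Subgroup.zpowers g := by
    rw [Subgroup.commutator_le]
    exact hcomm
  have hab : ⁅Subgroup.zpowers g, Subgroup.zpowers g⁆ = ⊥ := by
    rw [Subgroup.commutator_eq_bot_iff_le_centralizer]
    intro x hx y hy
    rw [Subgroup.mem_zpowers_iff] at hx
    have hy' : y ∈ Subgroup.zpowers g := hy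
    rw [Subgroup.mem_zpowers_iff] at hy'
    obtain ⟨i, rfl⟩ := hx
    obtain ⟨j, rfl⟩ := hy'
    rw [← zpow_add, ← zpow_add, add_comm]
  exact le_bot_iff.mp (hab ▸ Subgroup.commutator_mono hle hle)

end Cfsg.Agent.Lib.Helper28.Kp
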