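import Mathlib
import Cfsg.Agent.Lib.Helper28.KpE

set_option autoImplicit false

namespace Cfsg.Agent.Lib.Helper28.Kp

open Equiv Equiv.Perm MulAction
open scoped commutatorElement

set_option linter.unusedSectionVars false

variable {H : Type*} [Group H] {α : Type*} [Fintype α] [DecidableEq α] [MulAction H α]

/-- elements of the normaliser of `Q` preserving the `Q`-orbit of `ω` -/
def orbNorm (Q : Subgroup H) (ω : α) : Subgroup H where
  carrier := {h | h ∈ Subgroup.normalizer (Q : Set H) ∧ ∃ q ∈ Q, h • ω = q • ω}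
  mul_mem' := by
    rintro y z ⟨hyn, q₂, hq₂, hqy⟩ ⟨hzn, q, hq, hqz⟩
    refine ⟨Subgroup.mul_mem _ hyn hzn, ?_⟩
    obtain ⟨q', hq', hq'e⟩ := norm_smul hyn hq ω
    refine ⟨q' * q₂, Q.mul_mem hq' hq₂, ?_⟩
    rw [mul_smul, hqz, hq'e, hqy, mul_smul]
  one_mem' := ⟨Subgroup.one_mem _, 1, Q.one_mem, rfl⟩
  inv_mem' := by
    rintro y ⟨hyn, q, hq, hqy⟩
    refine ⟨Subgroup.inv_mem _ hyn, ?_⟩
    obtain ⟨q', hq', hq'e⟩ := norm_smul (Subgroup.inv_mem _ hyn) (Q.inv_mem hq) (y • ω)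
    refine ⟨q', hq', ?_⟩
    rw [inv_smul_smul] at hq'e
    rw [← hq'e, hqy, inv_smul_smul]

/-- the orbit as a sub-action of `orbNorm` -/
def orbSub (Q : Subgroup H) (ω : α) : SubMulAction (orbNorm Q ω) α where
  carrier := orbit Q ω
  smul_mem' := by
    rintro ⟨h, hn, q₂, hq₂, hh⟩ a ⟨q, rfl⟩
    obtain ⟨q', hq', e⟩ := norm_smul hn q.2 ω
    refine ⟨⟨q' * q₂, Q.mul_mem hq' hq₂⟩, ?_⟩
    show (q' * q₂) • ω = h • ((q : H) • ω)
    rw [e, hh, mul_smul]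

/-- double commutators of elements preserving an orbit of size `p` fix it pointwise -/
theorem dd_trivial {p : ℕ} [Fact p.Prime] (Q : Subgroup H) (hQ : IsPGroup p Q)
    (L₀ : Subgroup H) (ω : α) (hL₀ : L₀ ≤ orbNorm Q ω) (horb : Nat.card (orbit Q ω) = p)
    (hmove : ∃ q ∈ Q, q • ω ≠ ω) : ∀ z ∈ ⁅⁅L₀, L₀⁆, ⁅L₀, L₀⁆⁆, z • ω = ω := by
  classical
  have : Fintype ↥(orbSub Q ω) := Fintype.ofFinite _
  have hcardO : Fintype.card ↥(orbSub Q ω) = p := by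
    rw [← Nat.card_eq_fintype_card, ← horb]; rfl
  have hQNO : Q ≤ orbNorm Q ω := fun q hq => ⟨Subgroup.le_normalizer hq, q, hq, rfl⟩
  obtain ⟨φ, hφ⟩ : ∃ φ : ↥(orbNorm Q ω) →* Perm ↥(orbSub Q ω),
      φ = MulAction.toPermHom ↥(orbNorm Q ω) ↥(orbSub Q ω) := ⟨_, rfl⟩
  have hφa : ∀ (h : ↥(orbNorm Q ω)) (a : ↥(orbSub Q ω)), ((φ h a : ↥(orbSub Q ω)) : α)
      = (h : H) • (a : α) := by
    intro h a
    rw [hφ]
    rfl
  have hCp : IsPGroup p ((Q.subgroupOf (orbNorm Q ω)).map φ) := (hQ.comap_subtype).map φ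
  have hCne : (Q.subgroupOf (orbNorm Q ω)).map φ ≠ ⊥ := by
    intro hbot
    obtain ⟨q, hq, hqω⟩ := hmove
    have h1 : φ ⟨q, hQNO hq⟩ ∈ (Q.subgroupOf (orbNorm Q ω)).map φ :=
      ⟨⟨q, hQNO hq⟩, by rw [SetLike.mem_coe, Subgroup.mem_subgroupOf]; exact hq, rfl⟩
    rw [hbot, Subgroup.mem_bot] at h1
    apply hqω
    have h2 := hφa ⟨q, hQNO hq⟩ ⟨ω, mem_orbit_self ω⟩
    rw [h1] at h2
    exact h2.symm
  have hnorm : ∀ h : ↥(orbNorm Q ω), φ h ∈
      Subgroup.normalizer (((Q.subgroupOf (orbNorm Q ω)).map φ : Subgroup _) : Set _) := by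
    intro h
    have hN : (Q.subgroupOf (orbNorm Q ω)).Normal :=
      (Subgroup.normal_subgroupOf_iff_le_normalizer hQNO).mpr (fun h hh => hh.1)
    have h1 := Subgroup.le_normalizer_map (H := Q.subgroupOf (orbNorm Q ω)) φ
    rw [Subgroup.normalizer_eq_top] at h1
    exact h1 ⟨h, Subgroup.mem_top _, rfl⟩
  have hagl := agl hcardO _ hCp hCne
  have hmap : (L₀.subgroupOf (orbNorm Q ω)).map φ ≤
      Subgroup.normalizer (((Q.subgroupOf (orbNorm Q ω)).map φ : Subgroup _) : Set _) := by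
    rintro _ ⟨h, _, rfl⟩
    exact hnorm h
  have hDD : (⁅⁅L₀.subgroupOf (orbNorm Q ω), L₀.subgroupOf (orbNorm Q ω)⁆,
      ⁅L₀.subgroupOf (orbNorm Q ω), L₀.subgroupOf (orbNorm Q ω)⁆⁆).map φ = ⊥ := by
    rw [Subgroup.map_commutator, Subgroup.map_commutator]
    exact le_bot_iff.mp (hagl ▸ Subgroup.commutator_mono (Subgroup.commutator_mono hmap hmap)
      (Subgroup.commutator_mono hmap hmap))
  have hsub : (⁅⁅L₀.subgroupOf (orbNorm Q ω), L₀.subgroupOf (orbNorm Q ω)⁆,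
      ⁅L₀.subgroupOf (orbNorm Q ω), L₀.subgroupOf (orbNorm Q ω)⁆⁆).map (orbNorm Q ω).subtype
      = ⁅⁅L₀, L₀⁆, ⁅L₀, L₀⁆⁆ := by
    rw [Subgroup.map_commutator, Subgroup.map_commutator, Subgroup.map_subgroupOf_eq_of_le hL₀]
  intro z hz
  rw [← hsub] at hz
  obtain ⟨z', hz', rfl⟩ := hz
  have h1 : φ z' = 1 := by
    have h2 : φ z' ∈ (⁅⁅L₀.subgroupOf (orbNorm Q ω), L₀.subgroupOf (orbNorm Q ω)⁆,
      ⁅L₀.subgroupOf (orbNorm Q ω), L₀.subgroupOf (orbNorm Q ω)⁆⁆).map φ := ⟨z', hz', rfl⟩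
    rw [hDD] at h2
    exact Subgroup.mem_bot.mp h2
  have h2 := hφa z' ⟨ω, mem_orbit_self ω⟩
  rw [h1] at h2
  exact h2.symm

variable [Finite H]

/-- the machine: a normaliser inducing the alternating group on the fixed points of a `p`-group
with few orbits yields a three-cycle -/
theorem machine {p : ℕ} [Fact p.Prime] (Q : Subgroup H) (hQ : IsPGroup p Q) (L : Subgroup H)
    (hL : L ≤ Subgroup.normalizer (Q : Set H)) (Φ : Finset α)
    (hΦ : ∀ x, x ∈ Φ ↔ ∀ q ∈ Q, q • x = x) (h5 : 5 ≤ Φ.card) (hΨ : Φᶜ.card < p ^ 2)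
    (hcnt : (Φᶜ.card / p).factorial < Nat.card (alternatingGroup ↥Φ))
    (hind : alternatingGroup ↥Φ ≤ indOn L Φ) :
    ∃ z : H, (MulAction.toPerm z : Perm α).IsThreeCycle := by
  classical
  have hp := (Fact.out : p.Prime)
  have horb := card_orbit_eq Q hQ Φ hΦ hΨ
  have hR := card_reps Q Φ hΦ horb
  have hRc : (Φᶜ.image (rep Q)).card = Φᶜ.card / p := by
    rw [← hR, Nat.mul_div_cancel _ hp.pos]
  have hcnt' : (Φᶜ.image (rep Q)).card.factorial < Nat.card (alternatingGroup ↥Φ) := by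
    rw [hRc]; exact hcnt
  obtain ⟨σ, hσA, hσ1, hσL₀⟩ := pigeon Q L hL Φ hΦ (alternatingGroup ↥Φ) hind hcnt'
  have h5' : 5 ≤ Nat.card ↥Φ := by
    rw [Nat.card_eq_fintype_card, Fintype.card_coe]; exact h5
  have hsimple := alternatingGroup.isSimpleGroup h5'
  have hAL₀ : alternatingGroup ↥Φ ≤ indOn (orbFix Q L Φ) Φ := by
    have hN : ((indOn (orbFix Q L Φ) Φ).subgroupOf (alternatingGroup ↥Φ)).Normal := by
      constructor
      intro s hs τ
      rw [Subgroup.mem_subgroupOf] at hs ⊢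
      obtain ⟨y, hy, hys⟩ := hs
      obtain ⟨u, hu, huτ⟩ := hind τ.2
      refine ⟨u * y * u⁻¹, orbFix_conj Q L Φ hΦ hu (hL hu) hy, ?_⟩
      have h1 := (huτ.mul hys).mul huτ.inv
      exact h1
    rcases hN.eq_bot_or_eq_top with h | h
    · exfalso
      have h1 : (⟨σ, hσA⟩ : alternatingGroup ↥Φ) ∈
          (indOn (orbFix Q L Φ) Φ).subgroupOf (alternatingGroup ↥Φ) := by
        rw [Subgroup.mem_subgroupOf]; exact hσL₀
      rw [h, Subgroup.mem_bot] at h1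
      exact hσ1 (congrArg Subtype.val h1)
    · intro τ hτ
      have h1 : (⟨τ, hτ⟩ : alternatingGroup ↥Φ) ∈
          (indOn (orbFix Q L Φ) Φ).subgroupOf (alternatingGroup ↥Φ) := by
        rw [h]; exact Subgroup.mem_top _
      rw [Subgroup.mem_subgroupOf] at h1
      exact h1
  have hperf := commutator_alternatingGroup_eq_self (α := ↥Φ) h5'
  have hDD : alternatingGroup ↥Φ ≤
      indOn ⁅⁅orbFix Q L Φ, orbFix Q L Φ⁆, ⁅orbFix Q L Φ, orbFix Q L Φ⁆⁆ Φ := by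
    have h1 : ⁅alternatingGroup ↥Φ, alternatingGroup ↥Φ⁆ ≤
        indOn ⁅orbFix Q L Φ, orbFix Q L Φ⁆ Φ :=
      (Subgroup.commutator_mono hAL₀ hAL₀).trans (indOn_commutator _ _ Φ)
    rw [hperf] at h1
    have h2 := (Subgroup.commutator_mono h1 h1).trans (indOn_commutator _ _ Φ)
    rw [hperf] at h2
    exact h2
  obtain ⟨a, b, c, hab, hac, hbc⟩ : ∃ a b c : ↥Φ, a ≠ b ∧ a ≠ c ∧ b ≠ c := by
    have h3 : 2 < Fintype.card ↥Φ := by rw [Fintype.card_coe]; omega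
    exact Fintype.two_lt_card_iff.mp h3
  have hτ3 := isThreeCycle_swap_mul_swap_same hab hac hbc
  obtain ⟨z, hz, hzτ⟩ := hDD hτ3.mem_alternatingGroup
  refine ⟨z, ?_⟩
  have hfix : ∀ ω, ω ∉ Φ → z • ω = ω := by
    intro ω hω
    have hmove : ∃ q ∈ Q, q • ω ≠ ω := by
      by_contra h
      push Not at h
      exact hω ((hΦ ω).mpr h)
    exact dd_trivial Q hQ (orbFix Q L Φ) ω (fun y hy => ⟨hy.2.1, hy.2.2 ω hω⟩) (horb ω hω)
      hmove z hz
  have heq : (MulAction.toPerm z : Perm α) = ofSubtype (swap a b * swap a c) := by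
    ext x
    by_cases hx : x ∈ Φ
    · rw [ofSubtype_apply_of_mem _ hx]
      exact hzτ ⟨x, hx⟩
    · rw [ofSubtype_apply_of_not_mem _ hx]
      exact hfix x hx
  rw [heq]
  unfold IsThreeCycle at hτ3 ⊢
  rw [cycleType_ofSubtype]
  exact hτ3

end Cfsg.Agent.Lib.Helper28.Kp
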