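import Mathlib
import Cfsg.Agent.Lib.Helper28.KpF

set_option autoImplicit false

namespace Cfsg.Agent.Lib.Helper28.Kp

open Equiv Equiv.Perm MulAction
open scoped commutatorElement

set_option linter.unusedSectionVars false

/-- the commutator of two permutations whose supports meet in one point is a three-cycle -/
theorem isThreeCycle_commutator {α : Type*} [Fintype α] [DecidableEq α] (σ τ : Perm α) (a : α)
    (hσ : σ a ≠ a) (hτ : τ a ≠ a) (h : ∀ y, σ y ≠ y → τ y ≠ y → y = a) :
    (⁅σ, τ⁆).IsThreeCycle := by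
  have ais : ∀ (π : Perm α) (y : α), π (π⁻¹ y) = y := fun π y => by
    rw [← Perm.mul_apply, mul_inv_cancel]; rfl
  have ias : ∀ (π : Perm α) (y : α), π⁻¹ (π y) = y := fun π y => by
    rw [← Perm.mul_apply, inv_mul_cancel]; rfl
  have F1 : ∀ y, y ≠ a → σ y ≠ y → τ y = y := by
    intro y hya hy
    by_contra hty
    exact hya (h y hy hty)
  have F2 : ∀ y, y ≠ a → τ y ≠ y → σ y = y := by
    intro y hya hy
    by_contra hsy
    exact hya (h y hsy hy)
  have inv_fix : ∀ (π : Perm α) y, π y = y → π⁻¹ y = y := by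
    intro π y hy
    rw [Perm.inv_eq_iff_eq, hy]
  have inv_move : ∀ (π : Perm α) y, π y ≠ y → π (π⁻¹ y) ≠ π⁻¹ y := by
    intro π y hy hc
    rw [ais] at hc
    apply hy
    calc π y = π (π⁻¹ y) := by rw [← hc]
      _ = y := ais π y
  have hba : σ a ≠ a := hσ
  have hca : τ a ≠ a := hτ
  have hbc : σ a ≠ τ a := by
    intro hbc
    have h1 : σ (σ a) ≠ σ a := fun hc => hσ (σ.injective hc)
    have h2 : τ (σ a) ≠ σ a := by
      rw [hbc]
      exact fun hc => hτ (τ.injective hc)
    exact hσ (h _ h1 h2)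
  have heq : ⁅σ, τ⁆ = swap (σ a) a * swap (σ a) (τ a) := by
    ext x
    rw [commutatorElement_def, Perm.mul_apply, Perm.mul_apply, Perm.mul_apply, Perm.mul_apply]
    by_cases hxa : x = a
    · -- x = a
      rw [hxa, swap_apply_of_ne_of_ne hba.symm hca.symm, swap_apply_right]
      have hv : τ⁻¹ a ≠ a := by
        intro hc
        apply hτ
        rw [Perm.inv_eq_iff_eq] at hc
        exact hc.symm
      have h1 : σ (τ⁻¹ a) = τ⁻¹ a := F2 _ hv (inv_move τ a hτ)
      rw [inv_fix σ _ h1, ais]
    by_cases hxb : x = σ a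
    · rw [hxb, swap_apply_left, swap_apply_of_ne_of_ne hbc.symm hca]
      have h1 : τ (σ a) = σ a := F1 _ hba (fun hc => hσ (σ.injective hc))
      rw [inv_fix τ _ h1, ias]
      exact F2 _ hca (fun hc => hτ (τ.injective hc))
    by_cases hxc : x = τ a
    · rw [hxc, swap_apply_right, swap_apply_left, ias]
      have hu : σ⁻¹ a ≠ a := by
        intro hc
        apply hσ
        rw [Perm.inv_eq_iff_eq] at hc
        exact hc.symm
      have h1 : τ (σ⁻¹ a) = σ⁻¹ a := F1 _ hu (inv_move σ a hσ)
      rw [h1, ais]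
    · rw [swap_apply_of_ne_of_ne hxb hxc, swap_apply_of_ne_of_ne hxb hxa]
      by_cases htx : τ x = x
      · rw [inv_fix τ x htx]
        by_cases hsx : σ x = x
        · rw [inv_fix σ x hsx, htx, hsx]
        · have hu : σ⁻¹ x ≠ a := by
            intro hc
            apply hxb
            rw [Perm.inv_eq_iff_eq] at hc
            exact hc
          have h1 : τ (σ⁻¹ x) = σ⁻¹ x := F1 _ hu (inv_move σ x hsx)
          rw [h1, ais]
      · have hv : τ⁻¹ x ≠ a := by
          intro hc
          apply hxc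
          rw [Perm.inv_eq_iff_eq] at hc
          exact hc
        have h1 : σ (τ⁻¹ x) = τ⁻¹ x := F2 _ hv (inv_move τ x htx)
        rw [inv_fix σ _ h1, ais]
        exact F2 x hxa htx
  rw [heq]
  exact isThreeCycle_swap_mul_swap_same hba hbc hca.symm

variable {H : Type*} [Group H] {α : Type*} [Fintype α] [DecidableEq α] [MulAction H α]

/-- a nontrivial element of small support in a highly transitive group gives a three-cycle -/
theorem three_cycle_of_small (t : ℕ) (ht : t ≤ Fintype.card α)
    (hG : IsMultiplyPretransitive H α t) (z : H) (S : Finset α)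
    (hS : ∀ x, x ∉ S → z • x = x) (hne : ∃ x : α, z • x ≠ x) (hSt : S.card ≤ t)
    (hn : 2 * S.card ≤ Fintype.card α + 1) :
    ∃ w : H, (MulAction.toPerm w : Perm α).IsThreeCycle := by
  classical
  obtain ⟨a, ha⟩ := hne
  have haS : a ∈ S := by
    by_contra h
    exact ha (hS a h)
  have hcard : Fintype.card ↥(S.erase a) ≤ Fintype.card ↥(Sᶜ) := by
    rw [Fintype.card_coe, Fintype.card_coe, Finset.card_erase_of_mem haS, Finset.card_compl]
    omega
  obtain ⟨e⟩ := Function.Embedding.nonempty_of_card_le hcard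
  let f : α → α := fun x => if h : x ∈ S.erase a then ((e ⟨x, h⟩ : ↥(Sᶜ)) : α) else x
  have hf1 : ∀ x (h : x ∈ S.erase a), f x ∉ S := by
    intro x h
    simp only [f]
    rw [dif_pos h]
    exact Finset.mem_compl.mp (e ⟨x, h⟩).2
  have hfa : f a = a := by
    simp only [f]
    rw [dif_neg (Finset.notMem_erase a S)]
  have hf : Set.InjOn f S := by
    intro x hx y hy hxy
    by_cases h1 : x = a <;> by_cases h2 : y = a
    · rw [h1, h2]
    · exfalso
      have hy' : y ∈ S.erase a := Finset.mem_erase.mpr ⟨h2, hy⟩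
      rw [h1, hfa] at hxy
      exact hf1 y hy' (hxy ▸ haS)
    · exfalso
      have hx' : x ∈ S.erase a := Finset.mem_erase.mpr ⟨h1, hx⟩
      rw [h2, hfa] at hxy
      exact hf1 x hx' (hxy.symm ▸ haS)
    · have hx' : x ∈ S.erase a := Finset.mem_erase.mpr ⟨h1, hx⟩
      have hy' : y ∈ S.erase a := Finset.mem_erase.mpr ⟨h2, hy⟩
      simp only [f] at hxy
      rw [dif_pos hx', dif_pos hy'] at hxy
      have := e.injective (Subtype.ext hxy)
      exact congrArg Subtype.val this
  obtain ⟨g, hg⟩ := mt_of_pretransitive t ht hG S f hSt hf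
  have hga : g • a = a := by rw [hg a haS, hfa]
  have hga' : g⁻¹ • a = a := by rw [inv_smul_eq_iff, hga]
  refine ⟨⁅z, g * z * g⁻¹⁆, ?_⟩
  have hmap : (MulAction.toPerm ⁅z, g * z * g⁻¹⁆ : Perm α)
      = ⁅(MulAction.toPerm z : Perm α), MulAction.toPerm (g * z * g⁻¹)⁆ :=
    map_commutatorElement (MulAction.toPermHom H α) z (g * z * g⁻¹)
  rw [hmap]
  apply isThreeCycle_commutator _ _ a
  · exact ha
  · show (g * z * g⁻¹) • a ≠ a
    rw [mul_smul, mul_smul, hga']
    intro hc
    have hc' : g • z • a = g • a := hc.trans hga.symm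
    exact ha (smul_left_cancel g hc')
  · intro y hy1 hy2
    have hyS : y ∈ S := by
      by_contra h
      exact hy1 (hS y h)
    have hy2' : (g * z * g⁻¹) • y ≠ y := hy2
    have hsS : g⁻¹ • y ∈ S := by
      by_contra h
      apply hy2'
      rw [mul_smul, mul_smul, hS _ h, smul_inv_smul]
    by_contra hya
    have hsa : g⁻¹ • y ≠ a := by
      intro hc
      apply hya
      rw [inv_smul_eq_iff, hga] at hc
      exact hc
    have h1 := hf1 (g⁻¹ • y) (Finset.mem_erase.mpr ⟨hsa, hsS⟩)
    rw [← hg _ hsS, smul_inv_smul] at h1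
    exact h1 hyS

end Cfsg.Agent.Lib.Helper28.Kp
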