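import Mathlib
import Cfsg.Agent.Lib.Helper28.KpG

set_option autoImplicit false

namespace Cfsg.Agent.Lib.Helper28.Kp

open Equiv Equiv.Perm MulAction
open scoped commutatorElement

set_option linter.unusedSectionVars false

/-- commutators of elements conjugating `g` to powers of itself centralise `g` -/
theorem comm_cent {G : Type*} [Group G] (g : G) (N : Subgroup G)
    (hN : ∀ a ∈ N, ∃ i : ℤ, a * g * a⁻¹ = g ^ i) :
    ∀ a ∈ N, ∀ b ∈ N, ⁅a, b⁆ * g = g * ⁅a, b⁆ := by
  have key : ∀ a ∈ N, ∀ b ∈ N, (a * b) * g * (a * b)⁻¹ = (b * a) * g * (b * a)⁻¹ := by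
    intro a ha b hb
    obtain ⟨i, hi⟩ := hN a ha
    obtain ⟨j, hj⟩ := hN b hb
    have e1 : (a * b) * g * (a * b)⁻¹ = a * (b * g * b⁻¹) * a⁻¹ := by group
    have e2 : (b * a) * g * (b * a)⁻¹ = b * (a * g * a⁻¹) * b⁻¹ := by group
    rw [e1, e2, hi, hj, ← conj_zpow, ← conj_zpow, hi, hj, ← zpow_mul, ← zpow_mul, mul_comm]
  intro a ha b hb
  have h1 := key a⁻¹ (N.inv_mem ha) b⁻¹ (N.inv_mem hb)
  rw [commutatorElement_def]
  have e : a * b * a⁻¹ * b⁻¹ = (b⁻¹ * a⁻¹)⁻¹ * (a⁻¹ * b⁻¹) := by group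
  rw [e]
  have h3 := congrArg (fun z => (b⁻¹ * a⁻¹)⁻¹ * z * (a⁻¹ * b⁻¹)) h1
  have e3 : (b⁻¹ * a⁻¹)⁻¹ * (a⁻¹ * b⁻¹ * g * (a⁻¹ * b⁻¹)⁻¹) * (a⁻¹ * b⁻¹)
      = (b⁻¹ * a⁻¹)⁻¹ * (a⁻¹ * b⁻¹) * g := by group
  have e4 : (b⁻¹ * a⁻¹)⁻¹ * (b⁻¹ * a⁻¹ * g * (b⁻¹ * a⁻¹)⁻¹) * (a⁻¹ * b⁻¹)
      = g * ((b⁻¹ * a⁻¹)⁻¹ * (a⁻¹ * b⁻¹)) := by group
  rw [e3, e4] at h3
  exact h3

/-- the alternating group lies in the commutator subgroup of the symmetric group -/
theorem alt_le_commutator {β : Type*} [Fintype β] [DecidableEq β] :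
    alternatingGroup β ≤ commutator (Perm β) := by
  rw [← closure_three_cycles_eq_alternating, Subgroup.closure_le, commutator_eq_closure]
  intro g hg
  apply Subgroup.subset_closure
  apply mem_commutatorSet_of_isConj_sq
  rw [isConj_iff_cycleType_eq, pow_two]
  have h1 : g.IsThreeCycle := hg
  rw [h1.cycleType, h1.isThreeCycle_sq.cycleType]

variable {H : Type*} [Group H] [Finite H] {α : Type*} [Fintype α] [DecidableEq α] [MulAction H α]

/-- the case of a Sylow subgroup of order `p` -/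
theorem cent_branch {p k r : ℕ} [Fact p.Prime] (hn : Fintype.card α = k * p + r) (hk : 1 ≤ k)
    (hkp : k < p) (hkr : k < r) (hr : 3 ≤ r) (hpr : r < p)
    (hG : IsMultiplyPretransitive H α (r + 1)) (x : Fin r ↪ α)
    (P : Sylow p (stabilizer H x)) (hcard : Nat.card (sylIm P) = p) :
    ∃ w : H, (MulAction.toPerm w : Perm α).IsThreeCycle := by
  classical
  have hp := (Fact.out : p.Prime)
  have hnr : r + 1 ≤ Fintype.card α := by
    have : 1 ≤ k * p := Nat.mul_pos hk hp.pos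
    omega
  have hGr : IsMultiplyPretransitive H α r :=
    isMultiplyPretransitive_of_le (n := r + 1) (by omega)
      (by rw [Nat.card_eq_fintype_card]; exact hnr)
  obtain ⟨Δ, hΔ⟩ : ∃ Δ : Finset α, Δ = Finset.univ.map x := ⟨_, rfl⟩
  have hΔcard : Δ.card = r := by rw [hΔ, Finset.card_map, Finset.card_univ, Fintype.card_fin]
  have hΦ : ∀ y, y ∈ Δ ↔ ∀ q ∈ sylIm P, q • y = y := by
    intro y
    constructor
    · intro hy q hq
      rw [hΔ, Finset.mem_map] at hy
      obtain ⟨i, _, rfl⟩ := hy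
      exact (mem_stab_emb x q).mp (sylIm_le P hq) i
    · intro hy
      obtain ⟨i, hi⟩ := fix_sylow hn hk hG x P y hy
      rw [hΔ, Finset.mem_map]
      exact ⟨i, Finset.mem_univ _, hi⟩
  have htop := witt_top hGr x P Δ hΦ hΔcard
  -- a generator of `Q`
  have hQne : sylIm P ≠ ⊥ := by
    intro h
    rw [h, Subgroup.card_bot] at hcard
    exact hp.one_lt.ne hcard
  obtain ⟨c, hcQ, hc1⟩ := (Subgroup.ne_bot_iff_exists_ne_one (H := sylIm P)).mp hQne |>.choose_spec
    |> fun h => (⟨_, (Subgroup.ne_bot_iff_exists_ne_one.mp hQne).choose.2, fun h' => h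
      (Subtype.ext h')⟩ : ∃ c : H, c ∈ sylIm P ∧ c ≠ 1)
  have hzp : Subgroup.zpowers c = sylIm P := by
    have h1 : Subgroup.zpowers (⟨c, hcQ⟩ : sylIm P) = ⊤ :=
      zpowers_eq_top_of_prime_card hcard (fun h => hc1 (congrArg Subtype.val h))
    apply le_antisymm
    · rw [Subgroup.zpowers_le]; exact hcQ
    · intro q hq
      have h2 : (⟨q, hq⟩ : sylIm P) ∈ Subgroup.zpowers (⟨c, hcQ⟩ : sylIm P) := by
        rw [h1]; exact Subgroup.mem_top _
      rw [Subgroup.mem_zpowers_iff] at h2 ⊢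
      obtain ⟨i, hi⟩ := h2
      refine ⟨i, ?_⟩
      have := congrArg (fun z : sylIm P => (z : H)) hi
      simpa using this
  -- commutators of the normaliser centralise `Q`
  have hconj : ∀ a ∈ Subgroup.normalizer (sylIm P : Set H), ∃ i : ℤ, a * c * a⁻¹ = c ^ i := by
    intro a ha
    have h1 : a * c * a⁻¹ ∈ sylIm P := (Subgroup.mem_normalizer_iff.mp ha c).mp hcQ
    rw [← hzp, Subgroup.mem_zpowers_iff] at h1
    obtain ⟨i, hi⟩ := h1
    exact ⟨i, hi.symm⟩
  have hcc := comm_cent c _ hconj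
  have hNN : ⁅Subgroup.normalizer (sylIm P : Set H), Subgroup.normalizer (sylIm P : Set H)⁆
      ≤ Subgroup.centralizer (sylIm P : Set H) := by
    rw [Subgroup.commutator_le]
    intro a ha b hb
    rw [Subgroup.mem_centralizer_iff]
    intro q hq
    have hq' : q ∈ Subgroup.zpowers c := by rw [hzp]; exact hq
    rw [Subgroup.mem_zpowers_iff] at hq'
    obtain ⟨i, rfl⟩ := hq'
    have h1 : Commute ⁅a, b⁆ c := hcc a ha b hb
    exact (h1.zpow_right i).eq.symm
  have hind : alternatingGroup ↥Δ ≤ indOn (Subgroup.centralizer (sylIm P : Set H)) Δ := by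
    refine alt_le_commutator.trans ?_
    rw [commutator_def, ← htop]
    exact (indOn_commutator _ _ Δ).trans (indOn_mono hNN Δ)
  -- orbits
  have hΨcard : Δᶜ.card = k * p := by
    rw [Finset.card_compl, hΔcard, hn]; omega
  have hΨ : Δᶜ.card < p ^ 2 := by
    rw [hΨcard, pow_two]
    exact Nat.mul_lt_mul_of_pos_right hkp hp.pos
  have horb := card_orbit_eq (sylIm P) (sylIm_isPGroup P) Δ hΦ hΨ
  have hR := card_reps (sylIm P) Δ hΦ horb
  have hRk : (Δᶜ.image (rep (sylIm P))).card = k := by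
    rw [hΨcard] at hR
    exact Nat.eq_of_mul_eq_mul_right hp.pos hR
  have hnt : Nontrivial ↥Δ := by
    rw [← Fintype.one_lt_card_iff_nontrivial, Fintype.card_coe, hΔcard]; omega
  have hcnt : (Δᶜ.image (rep (sylIm P))).card.factorial < Nat.card (alternatingGroup ↥Δ) := by
    rw [hRk]
    have h1 := two_mul_nat_card_alternatingGroup (α := ↥Δ)
    rw [Nat.card_perm, Nat.card_eq_fintype_card (α := ↥Δ), Fintype.card_coe, hΔcard] at h1
    obtain ⟨j, hj⟩ : ∃ j, r = j + 1 := ⟨r - 1, by omega⟩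
    have h2 : k.factorial ≤ j.factorial := Nat.factorial_le (by omega)
    have h3 : r.factorial = (j + 1) * j.factorial := by rw [hj, Nat.factorial_succ]
    have h4 : 3 * j.factorial ≤ (j + 1) * j.factorial := Nat.mul_le_mul_right _ (by omega)
    have h5 : 0 < j.factorial := Nat.factorial_pos j
    omega
  obtain ⟨ρ, hρA, hρ1, y, hy, hyρ⟩ := pigeon (sylIm P) _
    (Subgroup.centralizer_le_normalizer _) Δ hΦ (alternatingGroup ↥Δ) hind hcnt
  obtain ⟨hyC, hyN, hyorb⟩ := hy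
  -- `y ^ p` fixes everything outside `Δ`
  have hfix : ∀ ω, ω ∉ Δ → (y ^ p) • ω = ω := by
    intro ω hω
    obtain ⟨q, hq, hqe⟩ := hyorb ω hω
    have hcomm : Commute y q := by
      have := (Subgroup.mem_centralizer_iff.mp hyC) q hq
      exact this.symm
    have hpow : ∀ m : ℕ, (y ^ m) • ω = (q ^ m) • ω := by
      intro m
      induction m with
      | zero => simp
      | succ m ih =>
        rw [pow_succ, mul_smul, hqe, ← mul_smul, (hcomm.pow_left m).eq, mul_smul, ih,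
          ← mul_smul, ← pow_succ']
    rw [hpow p]
    have hqp : q ^ p = 1 := by
      have h1 : (⟨q, hq⟩ : sylIm P) ^ Nat.card (sylIm P) = 1 := pow_card_eq_one'
      rw [hcard] at h1
      have := congrArg (fun z : sylIm P => (z : H)) h1
      simpa using this
    rw [hqp, one_smul]
  have hyρp := hyρ.pow p
  have hρp : ρ ^ p ≠ 1 := by
    intro h
    have h1 : orderOf ρ ∣ p := orderOf_dvd_of_pow_eq_one h
    rcases (Nat.dvd_prime hp).mp h1 with h2 | h2
    · exact hρ1 (orderOf_eq_one_iff.mp h2)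
    · have h3 : orderOf ρ ∣ Nat.card (Perm ↥Δ) := orderOf_dvd_natCard ρ
      rw [h2, Nat.card_perm, Nat.card_eq_fintype_card (α := ↥Δ), Fintype.card_coe, hΔcard,
        hp.dvd_factorial] at h3
      omega
  have hne : ∃ a : α, (y ^ p) • a ≠ a := by
    by_contra h
    push Not at h
    apply hρp
    ext a
    rw [← hyρp a, h a.1]
    rfl
  exact three_cycle_of_small (r + 1) hnr hG (y ^ p) Δ hfix hne (by omega)
    (by
      rw [hΔcard, hn]
      have : p ≤ k * p := Nat.le_mul_of_pos_left p hk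
      omega)

end Cfsg.Agent.Lib.Helper28.Kp
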