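import Mathlib
import Cfsg.Agent.Lib.Helper28.KpH

set_option autoImplicit false

namespace Cfsg.Agent.Lib.Helper28.Kp

open Equiv Equiv.Perm MulAction
open scoped commutatorElement

set_option linter.unusedSectionVars false

universe u v

theorem fact_lt_alt {α : Type*} [DecidableEq α] (Δ : Finset α) (k : ℕ) (hk : k < Δ.card)
    (h3 : 3 ≤ Δ.card) : k.factorial < Nat.card (alternatingGroup ↥Δ) := by
  have hnt : Nontrivial ↥Δ := by
    rw [← Fintype.one_lt_card_iff_nontrivial, Fintype.card_coe]; omega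
  have h1 := two_mul_nat_card_alternatingGroup (α := ↥Δ)
  rw [Nat.card_perm, Nat.card_eq_fintype_card (α := ↥Δ), Fintype.card_coe] at h1
  obtain ⟨j, hj⟩ : ∃ j, Δ.card = j + 1 := ⟨Δ.card - 1, by omega⟩
  have h2 : k.factorial ≤ j.factorial := Nat.factorial_le (by omega)
  have h3' : Δ.card.factorial = (j + 1) * j.factorial := by rw [hj, Nat.factorial_succ]
  have h4 : 3 * j.factorial ≤ (j + 1) * j.factorial := Nat.mul_le_mul_right _ (by omega)
  have h5 : 0 < j.factorial := Nat.factorial_pos j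
  omega

variable {H : Type v} [Group H] [Finite H] {α : Type u} [Fintype α] [DecidableEq α]
  [MulAction H α]

/-- the case `r ≥ 5` -/
theorem big_r_branch {p k r : ℕ} [Fact p.Prime] (hn : Fintype.card α = k * p + r) (hk : 1 ≤ k)
    (hkp : k < p) (hkr : k < r) (hr : 5 ≤ r)
    (hG : IsMultiplyPretransitive H α (r + 1)) :
    ∃ w : H, (MulAction.toPerm w : Perm α).IsThreeCycle := by
  classical
  have hp := (Fact.out : p.Prime)
  have hnr : r + 1 ≤ Fintype.card α := by
    have : 1 ≤ k * p := Nat.mul_pos hk hp.pos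
    omega
  have hGr : IsMultiplyPretransitive H α r :=
    isMultiplyPretransitive_of_le (n := r + 1) (by omega)
      (by rw [Nat.card_eq_fintype_card]; exact hnr)
  obtain ⟨x⟩ : Nonempty (Fin r ↪ α) := by
    apply Function.Embedding.nonempty_of_card_le
    rw [Fintype.card_fin]; omega
  obtain ⟨P⟩ : Nonempty (Sylow p (stabilizer H x)) := inferInstance
  obtain ⟨Δ, hΔ⟩ : ∃ Δ : Finset α, Δ = Finset.univ.map x := ⟨_, rfl⟩
  have hΔcard : Δ.card = r := by rw [hΔ, Finset.card_map, Finset.card_univ, Fintype.card_fin]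
  have hΦ : ∀ y, y ∈ Δ ↔ ∀ q ∈ sylIm P, q • y = y := by
    intro y
    constructor
    · intro hy q hq
      rw [hΔ, Finset.mem_map] at hy
      obtain ⟨i, _, rfl⟩ := hy
      exact (mem_stab_emb x q).mp (sylIm_le P hq) i
    · intro hy
      obtain ⟨i, hi⟩ := fix_sylow hn hk hG x P y hy
      rw [hΔ, Finset.mem_map]
      exact ⟨i, Finset.mem_univ _, hi⟩
  have htop := witt_top hGr x P Δ hΦ hΔcard
  have hΨcard : Δᶜ.card = k * p := by
    rw [Finset.card_compl, hΔcard, hn]; omega
  have hΨ : Δᶜ.card < p ^ 2 := by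
    rw [hΨcard, pow_two]
    exact Nat.mul_lt_mul_of_pos_right hkp hp.pos
  apply machine (sylIm P) (sylIm_isPGroup P) (Subgroup.normalizer (sylIm P : Set H)) le_rfl Δ hΦ
    (by omega) hΨ
  · rw [hΨcard, Nat.mul_div_cancel _ hp.pos]
    exact fact_lt_alt Δ k (by omega) (by omega)
  · rw [htop]; exact le_top

/-- the inductive case: the stabiliser of `r + 1` points has order divisible by `p` -/
theorem ind_branch [FaithfulSMul H α] {p k r : ℕ} [Fact p.Prime]
    (hn : Fintype.card α = k * p + r) (hk : 1 ≤ k)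
    (hkp : k < p) (hkr : k < r) (hr : 3 ≤ r)
    (hG : IsMultiplyPretransitive H α (r + 1)) (x' : Fin (r + 1) ↪ α)
    (P' : Sylow p (stabilizer H x')) (hne : sylIm P' ≠ ⊥)
    (IH : ∀ j, 1 ≤ j → j < k → ∀ (β : Type u) [Fintype β] [DecidableEq β]
      (G' : Subgroup (Perm β)), Fintype.card β = j * p + r →
      IsMultiplyPretransitive G' β (r + 1) → alternatingGroup β ≤ G') :
    ∃ w : H, (MulAction.toPerm w : Perm α).IsThreeCycle := by
  classical
  have hp := (Fact.out : p.Prime)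
  obtain ⟨Φ, hΦdef⟩ : ∃ Φ : Finset α,
      Φ = Finset.univ.filter (fun y => ∀ q ∈ sylIm P', q • y = y) := ⟨_, rfl⟩
  have hΦ : ∀ y, y ∈ Φ ↔ ∀ q ∈ sylIm P', q • y = y := by
    intro y
    rw [hΦdef, Finset.mem_filter]
    simp
  -- the range of `x'` lies in `Φ`
  have hsub : Finset.univ.map x' ⊆ Φ := by
    intro y hy
    rw [Finset.mem_map] at hy
    obtain ⟨i, _, rfl⟩ := hy
    rw [hΦ]
    intro q hq
    exact (mem_stab_emb x' q).mp (sylIm_le P' hq) i
  have hΦge : r + 1 ≤ Φ.card := by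
    have := Finset.card_le_card hsub
    rwa [Finset.card_map, Finset.card_univ, Fintype.card_fin] at this
  -- `Φ` is not everything
  obtain ⟨q, hq, hq1⟩ := Subgroup.ne_bot_iff_exists_ne_one.mp hne |>.choose_spec
    |> fun h => (⟨_, (Subgroup.ne_bot_iff_exists_ne_one.mp hne).choose.2, fun h' => h
      (Subtype.ext h')⟩ : ∃ c : H, c ∈ sylIm P' ∧ c ≠ 1)
  have hmove : ∃ y : α, q • y ≠ y := by
    by_contra h
    push Not at h
    apply hq1
    apply eq_of_smul_eq_smul (α := α)
    intro a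
    rw [h a, one_smul]
  obtain ⟨y₀, hy₀⟩ := hmove
  have hy₀Φ : y₀ ∉ Φ := fun h => hy₀ ((hΦ y₀).mp h q hq)
  have hcompl : Φᶜ.card + Φ.card = k * p + r := by
    rw [Finset.card_compl, ← hn]
    have := Finset.card_le_univ Φ
    omega
  have hΨ : Φᶜ.card < p ^ 2 := by
    have h1 : k * p < p ^ 2 := by
      rw [pow_two]; exact Nat.mul_lt_mul_of_pos_right hkp hp.pos
    omega
  have horb := card_orbit_eq (sylIm P') (sylIm_isPGroup P') Φ hΦ hΨ
  have hR := card_reps (sylIm P') Φ hΦ horb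
  obtain ⟨k', hk'⟩ : ∃ k', k' = (Φᶜ.image (rep (sylIm P'))).card := ⟨_, rfl⟩
  rw [← hk'] at hR
  have hk'pos : 1 ≤ k' := by
    by_contra h
    have h0 : k' = 0 := by omega
    rw [h0, zero_mul] at hR
    have : y₀ ∈ Φᶜ := Finset.mem_compl.mpr hy₀Φ
    have := Finset.card_pos.mpr ⟨y₀, this⟩
    omega
  have hk'k : k' < k := by
    by_contra h
    push Not at h
    have : k * p ≤ k' * p := Nat.mul_le_mul_right p h
    omega
  have hΦcard : Φ.card = (k - k') * p + r := by
    have : (k - k') * p = k * p - k' * p := Nat.sub_mul k k' p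
    have : k' * p ≤ k * p := Nat.mul_le_mul_right p hk'k.le
    omega
  have hwitt := witt_ind hG x' P' Φ hΦ
  have hind : alternatingGroup ↥Φ ≤ indOn (Subgroup.normalizer (sylIm P' : Set H)) Φ :=
    IH (k - k') (by omega) (by omega) ↥Φ _ (by rw [Fintype.card_coe, hΦcard]) hwitt
  have hp2 : 2 ≤ p := hp.two_le
  have hjp : p ≤ (k - k') * p := Nat.le_mul_of_pos_left p (by omega)
  apply machine (sylIm P') (sylIm_isPGroup P') (Subgroup.normalizer (sylIm P' : Set H)) le_rfl Φ
    hΦ (by omega) hΨ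
  · rw [← hR, Nat.mul_div_cancel _ hp.pos]
    exact fact_lt_alt Φ k' (by omega) (by omega)
  · exact hind

end Cfsg.Agent.Lib.Helper28.Kp
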