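import Mathlib
import Cfsg.Agent.Lib.Helper28.KpI

set_option autoImplicit false

namespace Cfsg.Agent.Lib.Helper28.Kp

open Equiv Equiv.Perm MulAction
open scoped commutatorElement

set_option linter.unusedSectionVars false

variable {α : Type*} [Fintype α] [DecidableEq α]

/-- degree nine: an element of order five makes the group five-fold transitive -/
theorem nine_of_order_five (G : Subgroup (Perm α)) (hn : Fintype.card α = 9)
    (hG : IsMultiplyPretransitive G α 4) (g : Perm α) (hg : g ∈ G) (hgo : orderOf g = 5) :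
    IsMultiplyPretransitive G α 5 := by
  classical
  have hG2 : IsMultiplyPretransitive G α 2 :=
    isMultiplyPretransitive_of_le (n := 4) (by omega)
      (by rw [Nat.card_eq_fintype_card, hn]; omega)
  have hprim : IsPreprimitive G α := isPreprimitive_of_is_two_pretransitive hG2
  have hcyc : g.IsCycle := by
    apply isCycle_of_prime_order'
    · rw [hgo]; norm_num
    · rw [hgo, hn]; norm_num
  have hsupp : g.support.card = 5 := by rw [← hcyc.orderOf, hgo]
  have h5 : IsMultiplyPreprimitive G α (3 + 2) := by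
    apply hprim.isMultiplyPreprimitive (s := (g.supportᶜ : Set α))
    · apply Nat.add_left_cancel (n := 5)
      rw [← hsupp, ← Set.ncard_coe_finset g.support, Set.ncard_add_ncard_compl,
        Nat.card_eq_fintype_card, hn, Set.ncard_coe_finset, hsupp]
    · rw [Nat.card_eq_fintype_card, hn]; norm_num
    have := isPretransitive_of_isCycle_mem hcyc hg
    apply IsPreprimitive.of_prime_card
    convert! Nat.prime_five
    rw [Nat.card_eq_fintype_card, Fintype.card_subtype, ← hsupp]
    apply congr_arg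
    ext x
    simp [SubMulAction.mem_ofFixingSubgroup_iff]
  exact IsMultiplyPreprimitive.isMultiplyPretransitive G α 5

/-- degree nine: a nontrivial four-point stabiliser yields an element of order five -/
theorem nine_order_five_of_stab (G : Subgroup (Perm α)) (hn : Fintype.card α = 9)
    (hG : IsMultiplyPretransitive G α 4) (x₄ : Fin 4 ↪ α) (hne : stabilizer G x₄ ≠ ⊥) :
    ∃ g ∈ G, orderOf g = 5 := by
  classical
  have hcard1 : Nat.card (stabilizer G x₄) ≠ 1 := fun h => hne (Subgroup.card_eq_one.mp h)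
  obtain ⟨ℓ, hℓ, hdvd⟩ := Nat.exists_prime_and_dvd hcard1
  have : Fact ℓ.Prime := ⟨hℓ⟩
  obtain ⟨T⟩ : Nonempty (Sylow ℓ (stabilizer G x₄)) := inferInstance
  have hTne : (T : Subgroup (stabilizer G x₄)) ≠ ⊥ := T.ne_bot_of_dvd_card hdvd
  have hQne : sylIm T ≠ ⊥ := fun h => hTne ((sylIm_eq_bot_iff T).mp h)
  have hQp := sylIm_isPGroup T
  obtain ⟨Φ, hΦdef⟩ : ∃ Φ : Finset α,
      Φ = Finset.univ.filter (fun y => ∀ q ∈ sylIm T, q • y = y) := ⟨_, rfl⟩
  have hΦ : ∀ y, y ∈ Φ ↔ ∀ q ∈ sylIm T, q • y = y := by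
    intro y
    rw [hΦdef, Finset.mem_filter]
    simp
  have hsub : Finset.univ.map x₄ ⊆ Φ := by
    intro y hy
    rw [Finset.mem_map] at hy
    obtain ⟨i, _, rfl⟩ := hy
    rw [hΦ]
    intro q hq
    exact (mem_stab_emb x₄ q).mp (sylIm_le T hq) i
  have hΦge : 4 ≤ Φ.card := by
    have := Finset.card_le_card hsub
    rwa [Finset.card_map, Finset.card_univ, Fintype.card_fin] at this
  -- an element of order 5 in `Q` when `ℓ = 5`
  have hcauchy : ℓ = 5 → ∃ g ∈ G, orderOf g = 5 := by
    intro h5
    have h1 : ℓ ∣ Nat.card (sylIm T) := by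
      rcases hQp.card_eq_or_dvd with h | h
      · exact absurd (Subgroup.card_eq_one.mp h) hQne
      · exact h
    obtain ⟨q', hq'⟩ := exists_prime_orderOf_dvd_card' (G := sylIm T) ℓ h1
    refine ⟨((q' : G) : Perm α), (q' : G).2, ?_⟩
    rw [Subgroup.orderOf_coe, Subgroup.orderOf_coe, hq', h5]
  by_cases h4 : Φ.card = 4
  · -- fixed points congruence
    apply hcauchy
    have h1 := hQp.card_modEq_card_fixedPoints α
    have h2 : fixedPoints (sylIm T) α = (Φ : Set α) := by
      ext y
      rw [mem_fixedPoints, Finset.mem_coe, hΦ]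
      constructor
      · intro h q hq
        exact h ⟨q, hq⟩
      · intro h m
        exact h m.1 m.2
    rw [h2, Nat.card_eq_fintype_card (α := α), hn, Nat.card_coe_set_eq, Set.ncard_coe_finset, h4] at h1
    have h3 : ℓ ∣ 5 := by
      have := (Nat.modEq_iff_dvd' (by norm_num : 4 ≤ 9)).mp h1.symm
      simpa using this
    exact (Nat.prime_dvd_prime_iff_eq hℓ (by norm_num)).mp h3
  · -- `Φ` has 5, 6 or 7 points
    obtain ⟨q, hq, hq1⟩ : ∃ c : G, c ∈ sylIm T ∧ c ≠ 1 := by
      obtain ⟨c, hc⟩ := Subgroup.ne_bot_iff_exists_ne_one.mp hQne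
      exact ⟨c.1, c.2, fun h => hc (Subtype.ext h)⟩
    have hmove : ∃ y : α, q • y ≠ y := by
      by_contra h
      push Not at h
      apply hq1
      apply eq_of_smul_eq_smul (α := α)
      intro a
      rw [h a, one_smul]
    obtain ⟨y₀, hy₀⟩ := hmove
    have hy₀Φ : y₀ ∉ Φ := fun h => hy₀ ((hΦ y₀).mp h q hq)
    have hy₁Φ : q • y₀ ∉ Φ := by
      rw [smul_mem_fix_of_normalizer (sylIm T) Φ hΦ (Subgroup.le_normalizer hq)]
      exact hy₀Φ
    have hΦle : Φ.card ≤ 7 := by
      have h1 : ({y₀, q • y₀} : Finset α) ⊆ Φᶜ := by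
        intro z hz
        rw [Finset.mem_insert, Finset.mem_singleton] at hz
        rw [Finset.mem_compl]
        rcases hz with rfl | rfl
        · exact hy₀Φ
        · exact hy₁Φ
      have h2 := Finset.card_le_card h1
      rw [Finset.card_pair (Ne.symm hy₀), Finset.card_compl, hn] at h2
      have := Finset.card_le_univ Φ
      omega
    have hwitt := witt_ind hG x₄ T Φ hΦ
    obtain ⟨s, -, hs⟩ := Finset.exists_subset_card_eq (s := (Finset.univ : Finset ↥Φ)) (n := 4)
      (by rw [Finset.card_univ, Fintype.card_coe]; exact hΦge)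
    have hidx := hwitt.index_of_fixingSubgroup_mul (s := (s : Set ↥Φ))
      (by rw [Set.ncard_coe_finset, hs])
    rw [Nat.card_eq_fintype_card, Fintype.card_coe] at hidx
    have h5dvd : 5 ∣ Nat.card (indOn (Subgroup.normalizer (sylIm T : Set G)) Φ) := by
      refine dvd_trans ?_ (Subgroup.index_dvd_card
        (fixingSubgroup (indOn (Subgroup.normalizer (sylIm T : Set G)) Φ) (s : Set ↥Φ)))
      have h1 : 5 ∣ Φ.card.factorial := (Nat.Prime.dvd_factorial (by norm_num)).mpr (by omega)
      rw [← hidx] at h1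
      rcases (Nat.Prime.dvd_mul (by norm_num)).mp h1 with h | h
      · exact h
      · exfalso
        rw [Nat.Prime.dvd_factorial (by norm_num)] at h
        omega
    have : Fact (Nat.Prime 5) := ⟨by norm_num⟩
    obtain ⟨σ', hσ'⟩ := exists_prime_orderOf_dvd_card'
      (G := indOn (Subgroup.normalizer (sylIm T : Set G)) Φ) 5 h5dvd
    have hσo : orderOf (σ' : Perm ↥Φ) = 5 := by rw [Subgroup.orderOf_coe, hσ']
    obtain ⟨y, _, hyσ⟩ := σ'.2
    have hm0 : orderOf y ≠ 0 := (orderOf_pos y).ne'
    have h5m : 5 ∣ orderOf y := by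
      have h1 := hyσ.pow (orderOf y)
      rw [pow_orderOf_eq_one] at h1
      have h2 : (σ' : Perm ↥Φ) ^ orderOf y = 1 := h1.unique (Ind.one Φ)
      rw [← hσo]
      exact orderOf_dvd_of_pow_eq_one h2
    refine ⟨((y ^ (orderOf y / 5) : G) : Perm α), (y ^ (orderOf y / 5)).2, ?_⟩
    rw [Subgroup.orderOf_coe]
    exact orderOf_pow_orderOf_div hm0 h5m

end Cfsg.Agent.Lib.Helper28.Kp
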