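import Mathlib
import Cfsg.Agent.Lib.Helper28.KpJ

set_option autoImplicit false

namespace Cfsg.Agent.Lib.Helper28.Kp

open Equiv Equiv.Perm MulAction
open scoped commutatorElement

set_option linter.unusedSectionVars false

variable {α : Type*} [Fintype α] [DecidableEq α]

theorem card_four {a b c d : α} (hab : a ≠ b) (hac : a ≠ c) (had : a ≠ d) (hbc : b ≠ c)
    (hbd : b ≠ d) (hcd : c ≠ d) : ({a, b, c, d} : Finset α).card = 4 := by
  rw [Finset.card_insert_of_notMem, Finset.card_insert_of_notMem, Finset.card_insert_of_notMem,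
    Finset.card_singleton]
  · simpa using hcd
  · simp only [Finset.mem_insert, Finset.mem_singleton, not_or]
    exact ⟨hbc, hbd⟩
  · simp only [Finset.mem_insert, Finset.mem_singleton, not_or]
    exact ⟨hab, hac, had⟩

/-- there is no sharply four-fold transitive group of degree nine -/
theorem nine_sharp (G : Subgroup (Perm α)) (hn : Fintype.card α = 9)
    (hG : IsMultiplyPretransitive G α 4) (hS : ∀ x₄ : Fin 4 ↪ α, stabilizer G x₄ = ⊥) :
    False := by
  classical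
  -- sharpness in elementary form
  have hS' : ∀ g ∈ G, ∀ A : Finset α, 4 ≤ A.card → (∀ x ∈ A, g x = x) → g = 1 := by
    intro g hg A hA hfix
    obtain ⟨B, hBA, hB⟩ := Finset.exists_subset_card_eq hA
    let e : Fin 4 ≃ ↥B := (finCongr hB.symm).trans B.equivFin.symm
    let x₄ : Fin 4 ↪ α := e.toEmbedding.trans (Function.Embedding.subtype _)
    have h1 : (⟨g, hg⟩ : G) ∈ stabilizer G x₄ := by
      refine (mem_stab_emb x₄ (⟨g, hg⟩ : G)).mpr ?_
      intro i
      exact hfix _ (hBA (e i).2)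
    rw [hS x₄, Subgroup.mem_bot] at h1
    exact congrArg Subtype.val h1
  have hMT : ∀ (A : Finset α) (σ : Perm α), A.card ≤ 4 → ∃ g ∈ G, ∀ x ∈ A, g x = σ x := by
    intro A σ hA
    obtain ⟨g, hg⟩ := mt_of_pretransitive (H := G) 4 (by omega) hG A σ hA σ.injective.injOn
    exact ⟨g.1, g.2, hg⟩
  -- four points
  let e : Fin 9 ≃ α := (Fintype.equivFinOfCardEq hn).symm
  obtain ⟨a, b, c₁, c₂, hab, hac₁, hac₂, hbc₁, hbc₂, hc⟩ : ∃ a b c₁ c₂ : α,
      a ≠ b ∧ a ≠ c₁ ∧ a ≠ c₂ ∧ b ≠ c₁ ∧ b ≠ c₂ ∧ c₁ ≠ c₂ := by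
    refine ⟨e 0, e 1, e 2, e 3, ?_, ?_, ?_, ?_, ?_, ?_⟩ <;>
    · intro h
      exact absurd (e.injective h) (by decide)
  -- the involution `t`
  obtain ⟨t, htG, ht⟩ := hMT {a, b, c₁, c₂} (swap c₁ c₂)
    (by rw [card_four hab hac₁ hac₂ hbc₁ hbc₂ hc])
  have hta : t a = a := by
    rw [ht a (by simp), swap_apply_of_ne_of_ne hac₁ hac₂]
  have htb : t b = b := by
    rw [ht b (by simp), swap_apply_of_ne_of_ne hbc₁ hbc₂]
  have htc₁ : t c₁ = c₂ := by rw [ht c₁ (by simp), swap_apply_left]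
  have htc₂ : t c₂ = c₁ := by rw [ht c₂ (by simp), swap_apply_right]
  have ht2 : t * t = 1 := by
    apply hS' _ (G.mul_mem htG htG) {a, b, c₁, c₂}
      (by rw [card_four hab hac₁ hac₂ hbc₁ hbc₂ hc])
    intro x hx
    simp only [Finset.mem_insert, Finset.mem_singleton] at hx
    rw [Perm.mul_apply]
    rcases hx with rfl | rfl | rfl | rfl
    · rw [hta, hta]
    · rw [htb, htb]
    · rw [htc₁, htc₂]
    · rw [htc₂, htc₁]
  have htt : ∀ x, t (t x) = x := fun x => by
    rw [← Perm.mul_apply, ht2]; rfl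
  -- fixed points of `t`
  obtain ⟨F, hFdef⟩ : ∃ F : Finset α, F = Finset.univ.filter (fun x => t x = x) := ⟨_, rfl⟩
  have hF : ∀ x, x ∈ F ↔ t x = x := by
    intro x
    rw [hFdef, Finset.mem_filter]
    simp
  have hFle : F.card ≤ 3 := by
    by_contra h
    have h1 := hS' t htG F (by omega) (fun x hx => (hF x).mp hx)
    rw [h1] at htc₁
    exact hc htc₁
  have hFge : 2 ≤ F.card := by
    have h1 : ({a, b} : Finset α) ⊆ F := by
      intro x hx
      simp only [Finset.mem_insert, Finset.mem_singleton] at hx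
      rcases hx with rfl | rfl
      · exact (hF _).mpr hta
      · exact (hF _).mpr htb
    have := Finset.card_le_card h1
    rwa [Finset.card_pair hab] at this
  have hFodd : F.card % 2 = 1 := by
    have : Fact (Nat.Prime 2) := ⟨Nat.prime_two⟩
    have h1 := card_fixedPoints_modEq (f := (show Function.End α from ⇑t)) (p := 2) (n := 1) (by
      rw [pow_one, pow_two]
      funext x
      exact htt x)
    have h2 : Fintype.card ↑(Function.fixedPoints (t : α → α)) = F.card := by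
      apply Fintype.card_of_subtype
      intro x
      rw [hF]
      rfl
    rw [h2, hn] at h1
    have := h1.symm
    unfold Nat.ModEq at this
    omega
  have hF3 : F.card = 3 := by omega
  have hc₁F : c₁ ∉ F := fun h => hc (by rw [← htc₁, (hF _).mp h])
  have hc₂F : c₂ ∉ F := fun h => hc (by rw [← (hF _).mp h, htc₂])
  -- the points `d₁, d₂`
  obtain ⟨d₁, hd₁⟩ : ∃ d₁, d₁ ∉ F ∪ {c₁, c₂} := by
    by_contra h
    push Not at h
    have h1 : (Finset.univ : Finset α) ⊆ F ∪ {c₁, c₂} := fun x _ => h x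
    have h2 := Finset.card_le_card h1
    have h3 := Finset.card_union_le F {c₁, c₂}
    rw [Finset.card_univ, hn] at h2
    rw [Finset.card_pair hc] at h3
    omega
  rw [Finset.mem_union, Finset.mem_insert, Finset.mem_singleton, not_or, not_or] at hd₁
  obtain ⟨hd₁F, hd₁c₁, hd₁c₂⟩ := hd₁
  obtain ⟨d₂, hd₂⟩ : ∃ d₂, d₂ = t d₁ := ⟨_, rfl⟩
  have htd₁ : t d₁ = d₂ := hd₂.symm
  have htd₂ : t d₂ = d₁ := by rw [hd₂, htt]
  have hd : d₁ ≠ d₂ := fun h => hd₁F ((hF _).mpr (by rw [htd₁, ← h]))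
  have hd₂F : d₂ ∉ F := fun h => hd (by rw [← htd₂, (hF _).mp h])
  have hd₂c₁ : d₂ ≠ c₁ := fun h => hd₁c₂ (by rw [← htd₂, h, htc₁])
  have hd₂c₂ : d₂ ≠ c₂ := fun h => hd₁c₁ (by rw [← htd₂, h, htc₂])
  -- the involution `h`
  obtain ⟨h, hhG, hh⟩ := hMT {c₁, c₂, d₁, d₂} (swap c₁ c₂)
    (by rw [card_four hc (Ne.symm hd₁c₁) (Ne.symm hd₂c₁) (Ne.symm hd₁c₂) (Ne.symm hd₂c₂) hd])
  have hhc₁ : h c₁ = c₂ := by rw [hh c₁ (by simp), swap_apply_left]
  have hhc₂ : h c₂ = c₁ := by rw [hh c₂ (by simp), swap_apply_right]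
  have hhd₁ : h d₁ = d₁ := by
    rw [hh d₁ (by simp), swap_apply_of_ne_of_ne hd₁c₁ hd₁c₂]
  have hhd₂ : h d₂ = d₂ := by
    rw [hh d₂ (by simp), swap_apply_of_ne_of_ne hd₂c₁ hd₂c₂]
  have hcard4 : ({c₁, c₂, d₁, d₂} : Finset α).card = 4 :=
    card_four hc (Ne.symm hd₁c₁) (Ne.symm hd₂c₁) (Ne.symm hd₁c₂) (Ne.symm hd₂c₂) hd
  have hh2 : h * h = 1 := by
    apply hS' _ (G.mul_mem hhG hhG) {c₁, c₂, d₁, d₂} (by rw [hcard4])
    intro x hx
    simp only [Finset.mem_insert, Finset.mem_singleton] at hx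
    rw [Perm.mul_apply]
    rcases hx with rfl | rfl | rfl | rfl
    · rw [hhc₁, hhc₂]
    · rw [hhc₂, hhc₁]
    · rw [hhd₁, hhd₁]
    · rw [hhd₂, hhd₂]
  have hu2 : (t * h) * (t * h) = 1 := by
    apply hS' _ (G.mul_mem (G.mul_mem htG hhG) (G.mul_mem htG hhG)) {c₁, c₂, d₁, d₂}
      (by rw [hcard4])
    intro x hx
    simp only [Finset.mem_insert, Finset.mem_singleton] at hx
    rw [Perm.mul_apply, Perm.mul_apply, Perm.mul_apply]
    rcases hx with rfl | rfl | rfl | rfl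
    · rw [hhc₁, htc₂, hhc₁, htc₂]
    · rw [hhc₂, htc₁, hhc₂, htc₁]
    · rw [hhd₁, htd₁, hhd₂, htd₂]
    · rw [hhd₂, htd₂, hhd₁, htd₁]
  have hcomm : h * t = t * h := by
    calc h * t = (t * t) * (h * t) * (h * h) := by rw [ht2, hh2, one_mul, mul_one]
      _ = t * ((t * h) * (t * h)) * h := by group
      _ = t * h := by rw [hu2, mul_one]
  have hht : ∀ x, h (t x) = t (h x) := fun x => by
    rw [← Perm.mul_apply, ← Perm.mul_apply, hcomm]
  have hhh : ∀ x, h (h x) = x := fun x => by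
    rw [← Perm.mul_apply, hh2]; rfl
  -- the seven points
  obtain ⟨S₇, hS₇def⟩ : ∃ S₇ : Finset α, S₇ = F ∪ {c₁, c₂, d₁, d₂} := ⟨_, rfl⟩
  have hS₇ : ∀ x, x ∈ S₇ ↔ x ∈ F ∨ x = c₁ ∨ x = c₂ ∨ x = d₁ ∨ x = d₂ := by
    intro x
    rw [hS₇def, Finset.mem_union]
    simp only [Finset.mem_insert, Finset.mem_singleton]
  have hS₇card : S₇.card = 7 := by
    rw [hS₇def, Finset.card_union_of_disjoint, hF3, hcard4]
    rw [Finset.disjoint_left]
    intro x hxF hx
    simp only [Finset.mem_insert, Finset.mem_singleton] at hx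
    rcases hx with rfl | rfl | rfl | rfl
    · exact hc₁F hxF
    · exact hc₂F hxF
    · exact hd₁F hxF
    · exact hd₂F hxF
  have htS : ∀ x, x ∈ S₇ → t x ∈ S₇ := by
    intro x hx
    rw [hS₇] at hx ⊢
    rcases hx with hx | rfl | rfl | rfl | rfl
    · left; rw [(hF x).mp hx]; exact hx
    · rw [htc₁]; right; right; left; rfl
    · rw [htc₂]; right; left; rfl
    · rw [htd₁]; right; right; right; right; rfl
    · rw [htd₂]; right; right; right; left; rfl
  have hhS : ∀ x, x ∈ S₇ → h x ∈ S₇ := by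
    intro x hx
    rw [hS₇] at hx ⊢
    rcases hx with hx | rfl | rfl | rfl | rfl
    · left
      rw [hF, ← hht, (hF x).mp hx]
    · rw [hhc₁]; right; right; left; rfl
    · rw [hhc₂]; right; left; rfl
    · rw [hhd₁]; right; right; right; left; rfl
    · rw [hhd₂]; right; right; right; right; rfl
  have hWcard : S₇ᶜ.card = 2 := by
    rw [Finset.card_compl, hS₇card, hn]
  obtain ⟨f₁, hf₁⟩ : ∃ f₁, f₁ ∈ S₇ᶜ := by
    apply Finset.card_pos.mp
    rw [hWcard]; norm_num
  rw [Finset.mem_compl] at hf₁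
  obtain ⟨f₂, hf₂def⟩ : ∃ f₂, f₂ = t f₁ := ⟨_, rfl⟩
  have hf₂ : f₂ ∉ S₇ := by
    intro hx
    apply hf₁
    have := htS _ hx
    rwa [hf₂def, htt] at this
  have hf : f₁ ≠ f₂ := by
    intro hx
    apply hf₁
    rw [hS₇]
    left
    rw [hF, ← hf₂def, ← hx]
  have hW : S₇ᶜ = {f₁, f₂} := by
    symm
    apply Finset.eq_of_subset_of_card_le
    · intro x hx
      simp only [Finset.mem_insert, Finset.mem_singleton] at hx
      rw [Finset.mem_compl]
      rcases hx with rfl | rfl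
      · exact hf₁
      · exact hf₂
    · rw [hWcard, Finset.card_pair hf]
  have hhf₁ : h f₁ ∉ S₇ := by
    intro hx
    apply hf₁
    have := hhS _ hx
    rwa [hhh] at this
  have hhf₁' : h f₁ = f₁ ∨ h f₁ = f₂ := by
    have : h f₁ ∈ S₇ᶜ := Finset.mem_compl.mpr hhf₁
    rw [hW] at this
    simpa using this
  have hd₁S : d₁ ∈ S₇ := by rw [hS₇]; right; right; right; left; rfl
  have hd₂S : d₂ ∈ S₇ := by rw [hS₇]; right; right; right; right; rfl
  have hc₁S : c₁ ∈ S₇ := by rw [hS₇]; right; left; rfl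
  have hc₂S : c₂ ∈ S₇ := by rw [hS₇]; right; right; left; rfl
  have ne_of : ∀ {x y : α}, x ∈ S₇ → y ∉ S₇ → x ≠ y := by
    intro x y hx hy hxy
    exact hy (hxy ▸ hx)
  rcases hhf₁' with hcase | hcase
  · -- `h` fixes four points
    have hhf₂ : h f₂ = f₂ := by rw [hf₂def, hht, hcase]
    have h1 := hS' h hhG {d₁, d₂, f₁, f₂}
      (by rw [card_four hd (ne_of hd₁S hf₁) (ne_of hd₁S hf₂) (ne_of hd₂S hf₁) (ne_of hd₂S hf₂)
        hf])
      (by
        intro x hx
        simp only [Finset.mem_insert, Finset.mem_singleton] at hx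
        rcases hx with rfl | rfl | rfl | rfl
        · exact hhd₁
        · exact hhd₂
        · exact hcase
        · exact hhf₂)
    rw [h1] at hhc₁
    exact hc hhc₁
  · -- `t * h` fixes four points
    have hu1 : (t * h) f₁ = f₁ := by
      rw [Perm.mul_apply, hcase, hf₂def, htt]
    have hu2' : (t * h) f₂ = f₂ := by
      calc (t * h) f₂ = t (h (t f₁)) := by rw [Perm.mul_apply, hf₂def]
        _ = h f₁ := by rw [hht, htt]
        _ = f₂ := hcase
    have h1 := hS' (t * h) (G.mul_mem htG hhG) {c₁, c₂, f₁, f₂}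
      (by rw [card_four hc (ne_of hc₁S hf₁) (ne_of hc₁S hf₂) (ne_of hc₂S hf₁) (ne_of hc₂S hf₂)
        hf])
      (by
        intro x hx
        simp only [Finset.mem_insert, Finset.mem_singleton] at hx
        rcases hx with rfl | rfl | rfl | rfl
        · rw [Perm.mul_apply, hhc₁, htc₂]
        · rw [Perm.mul_apply, hhc₂, htc₁]
        · exact hu1
        · exact hu2')
    have h2 : (t * h) d₁ = d₂ := by rw [Perm.mul_apply, hhd₁, htd₁]
    rw [h1] at h2
    exact hd h2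

end Cfsg.Agent.Lib.Helper28.Kp
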