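import Mathlib
import Cfsg.Agent.Lib.Helper28.KpK

set_option autoImplicit false

namespace Cfsg.Agent.Lib.Helper28.Kp

open Equiv Equiv.Perm MulAction
open scoped commutatorElement

set_option linter.unusedSectionVars false

universe u v

section
variable {H : Type v} [Group H] [Finite H] {α : Type u} [Fintype α] [DecidableEq α]
  [MulAction H α]

/-- the centraliser case, from the vanishing of the next Sylow subgroup -/
theorem cent_branch' {p k r : ℕ} [Fact p.Prime] (hn : Fintype.card α = k * p + r) (hk : 1 ≤ k)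
    (hkp : k < p) (hkr : k < r) (hr : 3 ≤ r) (hpr : r < p)
    (hG : IsMultiplyPretransitive H α (r + 1)) (x' : Fin (r + 1) ↪ α)
    (P : Sylow p (stabilizer H (Fin.castSuccEmb.trans x')))
    (P' : Sylow p (stabilizer H x')) (hbot : (P' : Subgroup (stabilizer H x')) = ⊥) :
    ∃ w : H, (MulAction.toPerm w : Perm α).IsThreeCycle := by
  classical
  have hp := (Fact.out : p.Prime)
  obtain ⟨Δ, hΔ⟩ : ∃ Δ : Finset α, Δ = Finset.univ.map (Fin.castSuccEmb.trans x') := ⟨_, rfl⟩
  have hΔcard : Δ.card = r := by rw [hΔ, Finset.card_map, Finset.card_univ, Fintype.card_fin]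
  have hΦ : ∀ y, y ∈ Δ ↔ ∀ q ∈ sylIm P, q • y = y := by
    intro y
    constructor
    · intro hy q hq
      rw [hΔ, Finset.mem_map] at hy
      obtain ⟨i, _, rfl⟩ := hy
      exact (mem_stab_emb _ q).mp (sylIm_le P hq) i
    · intro hy
      obtain ⟨i, hi⟩ := fix_sylow hn hk hG _ P y hy
      rw [hΔ, Finset.mem_map]
      exact ⟨i, Finset.mem_univ _, hi⟩
  have hΨcard : Δᶜ.card = k * p := by
    rw [Finset.card_compl, hΔcard, hn]; omega
  have hΨ : Δᶜ.card < p ^ 2 := by
    rw [hΨcard, pow_two]
    exact Nat.mul_lt_mul_of_pos_right hkp hp.pos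
  have horb := card_orbit_eq (sylIm P) (sylIm_isPGroup P) Δ hΦ hΨ
  have hω : x' (Fin.last r) ∉ Δ := by
    rw [hΔ, Finset.mem_map]
    rintro ⟨i, _, hi⟩
    have h1 : Fin.castSucc i = Fin.last r := x'.injective hi
    exact (Fin.castSucc_lt_last i).ne h1
  have hcard := card_sylIm_eq x' P P' hbot (horb _ hω)
  exact cent_branch hn hk hkp hkr hr hpr hG _ P hcard

end

/-- the main theorem, by strong induction on `k` -/
theorem main_aux (k : ℕ) : ∀ (p r : ℕ) (α : Type u) [Fintype α] [DecidableEq α]
    (G : Subgroup (Perm α)), p.Prime → Fintype.card α = k * p + r → 1 ≤ k → k < p → k < r →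
    ¬ (k = 1 ∧ r = 2) → IsMultiplyPretransitive G α (r + 1) → alternatingGroup α ≤ G := by
  induction k using Nat.strong_induction_on with
  | _ k IH =>
  intro p r α _ _ G hp hn hk hkp hkr hex hG
  have : Fact p.Prime := ⟨hp⟩
  have hr3 : 3 ≤ r := by omega
  have hnr : r + 1 ≤ Fintype.card α := by
    have : 1 ≤ k * p := Nat.mul_pos hk hp.pos
    omega
  have hfin : (∃ w : G, (MulAction.toPerm w : Perm α).IsThreeCycle) →
      alternatingGroup α ≤ G := by
    rintro ⟨w, hw⟩
    have h2 : IsMultiplyPretransitive G α 2 :=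
      isMultiplyPretransitive_of_le (n := r + 1) (by omega)
        (by rw [Nat.card_eq_fintype_card]; exact hnr)
    have hprim := isPreprimitive_of_is_two_pretransitive h2
    have hw' : (MulAction.toPerm w : Perm α) = w.1 := by
      ext x; rfl
    rw [hw'] at hw
    exact alternatingGroup_le_of_isPreprimitive_of_isThreeCycle_mem hprim hw w.2
  by_cases hr5 : 5 ≤ r
  · exact hfin (big_r_branch hn hk hkp hkr hr5 hG)
  by_cases hp2 : p = 2
  · have hk1 : k = 1 := by omega
    have htop : G = ⊤ := by
      apply eq_top_of_isMultiplyPretransitive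
      have e : Nat.card α - 1 = r + 1 := by
        rw [Nat.card_eq_fintype_card, hn, hk1, hp2]; omega
      rw [e]
      exact hG
    rw [htop]
    exact le_top
  by_cases hp3 : p = 3
  · by_cases hk1 : k = 1
    · apply IsMultiplyPretransitive.alternatingGroup_le
      have e : Nat.card α - 2 = r + 1 := by
        rw [Nat.card_eq_fintype_card, hn, hk1, hp3]; omega
      rw [e]
      exact hG
    · have hk2 : k = 2 := by omega
      by_cases hr3' : r = 3
      · have hn9 : Fintype.card α = 9 := by rw [hn, hk2, hp3, hr3']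
        have hG4 : IsMultiplyPretransitive G α 4 := by
          have e : r + 1 = 4 := by omega
          rw [e] at hG
          exact hG
        by_cases hsharp : ∀ x₄ : Fin 4 ↪ α, stabilizer G x₄ = ⊥
        · exact (nine_sharp G hn9 hG4 hsharp).elim
        · push Not at hsharp
          obtain ⟨x₄, hx₄⟩ := hsharp
          obtain ⟨g, hg, hgo⟩ := nine_order_five_of_stab G hn9 hG4 x₄ hx₄
          have h5 := nine_of_order_five G hn9 hG4 g hg hgo
          exact IH 1 (by omega) 5 4 α G (by norm_num) (by rw [hn9]) le_rfl (by norm_num)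
            (by norm_num) (by omega) h5
      · have hr4 : r = 4 := by omega
        have hG4 : IsMultiplyPretransitive G α (3 + 1) :=
          isMultiplyPretransitive_of_le (n := r + 1) (by omega)
            (by rw [Nat.card_eq_fintype_card]; exact hnr)
        exact IH 1 (by omega) 7 3 α G (by norm_num) (by rw [hn, hk2, hp3, hr4]) le_rfl
          (by norm_num) (by norm_num) (by omega) hG4
  have hp5 : 5 ≤ p := by
    have h2 := hp.two_le
    by_contra h
    have h4 : p = 4 := by omega
    rw [h4] at hp
    norm_num at hp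
  obtain ⟨x'⟩ : Nonempty (Fin (r + 1) ↪ α) := by
    apply Function.Embedding.nonempty_of_card_le
    rw [Fintype.card_fin]; exact hnr
  obtain ⟨P'⟩ : Nonempty (Sylow p (stabilizer G x')) := inferInstance
  by_cases hbot : sylIm P' = ⊥
  · obtain ⟨P⟩ : Nonempty (Sylow p (stabilizer G (Fin.castSuccEmb.trans x'))) := inferInstance
    exact hfin (cent_branch' hn hk hkp hkr hr3 (by omega) hG x' P P'
      ((sylIm_eq_bot_iff P').mp hbot))
  · exact hfin (ind_branch hn hk hkp hkr hr3 hG x' P' hbot
      (fun j hj1 hjk β _ _ G' hβ hG' =>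
        IH j hjk p r β G' hp hβ hj1 (by omega) (by omega) (by omega) hG'))

end Cfsg.Agent.Lib.Helper28.Kp
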