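import Cfsg.Agent.Lib.Helper28.AffD
import Cfsg.Agent.S1554
import Cfsg.Agent.S0381
import Cfsg.Agent.S5394

set_option autoImplicit false

/-! The octad stabilizer of `M24` as the affine group `AGL_4(2)`. -/

namespace Cfsg.Agent.Lib.Helper28.M24X

open Cfsg Cfsg.Agent.Lib.Helper28.Tv Cfsg.Agent.Lib.Helper12.Golay
open scoped Pointwise

/-- octad stabilizer -/
abbrev G0 (o : Finset GolayPt) : Subgroup (Equiv.Perm GolayPt) :=
  M24 ⊓ MulAction.stabilizer (Equiv.Perm GolayPt) o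

/-- pointwise stabilizer of the octad -/
abbrev U0 (o : Finset GolayPt) : Subgroup (Equiv.Perm GolayPt) :=
  M24 ⊓ fixingSubgroup (Equiv.Perm GolayPt) (o : Set GolayPt)

/-- complement -/
abbrev M0 (o : Finset GolayPt) (p : GolayPt) : Subgroup (Equiv.Perm GolayPt) :=
  M24 ⊓ MulAction.stabilizer (Equiv.Perm GolayPt) o ⊓ MulAction.stabilizer (Equiv.Perm GolayPt) p

theorem mem_U0_iff (o : Finset GolayPt) (g : Equiv.Perm GolayPt) :
    g ∈ U0 o ↔ g ∈ M24 ∧ ∀ x ∈ o, g x = x := by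
  rw [Subgroup.mem_inf, mem_fixingSubgroup_iff]
  exact Iff.rfl

theorem U0_le_G0 (o : Finset GolayPt) : U0 o ≤ G0 o := by
  intro g hg
  rw [mem_U0_iff] at hg
  exact Cfsg.Agent.S1554.fix_mem_octStab o g hg.1 hg.2

theorem conj_mem_U0 (o : Finset GolayPt) {g u : Equiv.Perm GolayPt} (hg : g ∈ G0 o)
    (hu : u ∈ U0 o) : g * u * g⁻¹ ∈ U0 o := by
  rw [mem_U0_iff] at hu ⊢
  refine ⟨M24.mul_mem (M24.mul_mem hg.1 hu.1) (M24.inv_mem hg.1), fun x hx => ?_⟩
  have h1 : g⁻¹ x ∈ o := by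
    have := ((mem_stab_iff g o).mp hg.2 (g⁻¹ x))
    rw [perm_apply_inv] at this
    exact this.mp hx
  rw [Equiv.Perm.mul_apply, Equiv.Perm.mul_apply, hu.2 _ h1, perm_apply_inv]

theorem exists_notMem_octad (o : Finset GolayPt) (ho : o ∈ octads) : ∃ p : GolayPt, p ∉ o := by
  by_contra hcon
  push_neg at hcon
  have h1 : o = Finset.univ := Finset.eq_univ_iff_forall.mpr hcon
  have h2 : o.card = 8 := ho.2
  rw [h1, Finset.card_univ] at h2
  have : Fintype.card GolayPt = 24 := by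
    rw [Fintype.card_option, ZMod.card]
  omega

/-- a nonidentity element of `U0` fixes exactly the points of `o` -/
theorem fixed_iff_of_mem_U0 (o : Finset GolayPt) (ho : o ∈ octads) {u : Equiv.Perm GolayPt}
    (hu : u ∈ U0 o) (hu1 : u ≠ 1) (x : GolayPt) : u x = x ↔ x ∈ o := by
  rw [mem_U0_iff] at hu
  constructor
  · intro hx
    by_contra hxo
    exact hu1 (Cfsg.Agent.S1554.regular o ho x hxo u hu.1 hu.2 hx)
  · exact hu.2 x

section general

variable {n : ℕ} {G : Type*} [Group G] (U : Subgroup G) [U.Normal]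
  (e : ↥U ≃* Multiplicative (Fin (n + 1) → R2)) (M : Subgroup G)

theorem Cz_le_range_iotaS' (φ : ↥M →* MulAut ↥U)
    (hφ : ∀ (m : ↥M) (u : ↥U), ((φ m u : ↥U) : G) = m * u * (m : G)⁻¹)
    (hfull : ∀ D : (Matrix (Fin (n + 1)) (Fin (n + 1)) R2)ˣ, ∃ m ∈ M, cunit U e m = D) :
    Cz n ≤ (iotaS U e M φ hφ).range := by
  intro g hg
  obtain ⟨x, D, rfl⟩ := exists_tr_cg_of_mem_Cz hg
  obtain ⟨m, hm, hmD⟩ := hfull D
  refine ⟨⟨e.symm (Multiplicative.ofAdd x), ⟨m, hm⟩⟩, ?_⟩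
  rw [iotaS_apply]
  show tr (e (e.symm (Multiplicative.ofAdd x))).toAdd * cg (cunit U e m) = _
  rw [MulEquiv.apply_symm_apply, hmD]
  rfl

theorem Cz_le_range_iota' (h : U.IsComplement' M)
    (hfull : ∀ D : (Matrix (Fin (n + 1)) (Fin (n + 1)) R2)ˣ, ∃ m ∈ M, cunit U e m = D) :
    Cz n ≤ (iota U e M h).range := by
  intro g hg
  obtain ⟨x, hx⟩ := Cz_le_range_iotaS' U e M (phiM U M) (phiM_apply U M) hfull hg
  exact ⟨SemidirectProduct.mulEquivSubgroup h x, by
    rw [iota_apply, MulEquiv.symm_apply_apply]; exact hx⟩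

end general

section setup

variable (o : Finset GolayPt)

/-- `U0` inside `G0` -/
abbrev U1 : Subgroup ↥(G0 o) := (U0 o).subgroupOf (G0 o)

/-- the complement inside `G0` -/
abbrev M1 (p : GolayPt) : Subgroup ↥(G0 o) := (M0 o p).subgroupOf (G0 o)

instance U1_normal : (U1 o).Normal := by
  constructor
  intro u hu g
  rw [Subgroup.mem_subgroupOf] at hu ⊢
  exact conj_mem_U0 o g.2 hu

theorem card_U1 (ho : o ∈ octads) : Nat.card ↥(U1 o) = 2 ^ (3 + 1) := by
  rw [Nat.card_congr (Subgroup.subgroupOfEquivOfLe (U0_le_G0 o)).toEquiv]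
  exact (Cfsg.Agent.S0381.result o ho).1

theorem sq_U1 (ho : o ∈ octads) (a : ↥(U1 o)) : a ^ 2 = 1 := by
  apply Subtype.ext
  apply Subtype.ext
  have := (Cfsg.Agent.S0381.result o ho).2 a.1.1 (Subgroup.mem_subgroupOf.mp a.2)
  rw [pow_two]
  exact this

theorem comm_U1 (ho : o ∈ octads) (a b : ↥(U1 o)) : a * b = b * a := by
  have ha := sq_U1 o ho a
  have hb := sq_U1 o ho b
  have hab := sq_U1 o ho (a * b)
  rw [pow_two] at ha hb hab
  have ha' : a⁻¹ = a := inv_eq_of_mul_eq_one_left ha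
  have hb' : b⁻¹ = b := inv_eq_of_mul_eq_one_left hb
  have h1 : (a * b)⁻¹ = a * b := inv_eq_of_mul_eq_one_left hab
  rw [mul_inv_rev, ha', hb'] at h1
  exact h1.symm

theorem isComplement'_U1_M1 (ho : o ∈ octads) (p : GolayPt) (hp : p ∉ o) :
    (U1 o).IsComplement' (M1 o p) := by
  obtain ⟨h1, h2, -⟩ := Cfsg.Agent.S1554.result o ho p hp
  have hM : M0 o p ≤ G0 o := inf_le_left
  apply Subgroup.isComplement'_of_disjoint_and_mul_eq_univ
  · rw [disjoint_iff, eq_bot_iff]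
    intro x hx
    rw [Subgroup.mem_inf, Subgroup.mem_subgroupOf, Subgroup.mem_subgroupOf] at hx
    have : (x : Equiv.Perm GolayPt) ∈ U0 o ⊓ M0 o p := hx
    rw [h1, Subgroup.mem_bot] at this
    rw [Subgroup.mem_bot]
    exact Subtype.ext this
  · rw [← Subgroup.normal_mul, ← Subgroup.subgroupOf_sup (U0_le_G0 o) hM, h2,
      Subgroup.subgroupOf_self]
    rfl

theorem card_M1 (ho : o ∈ octads) (p : GolayPt) (hp : p ∉ o) :
    Nat.card ↥(M1 o p) = 20160 := by
  obtain ⟨-, -, ⟨e⟩⟩ := Cfsg.Agent.S1554.result o ho p hp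
  have hM : M0 o p ≤ G0 o := inf_le_left
  rw [Nat.card_congr (Subgroup.subgroupOfEquivOfLe hM).toEquiv, Nat.card_congr e.toEquiv,
    nat_card_alternatingGroup, Nat.card_eq_fintype_card, Fintype.card_fin]
  rfl

/-- the complement acts faithfully on `U1` -/
theorem faithful_M1 (ho : o ∈ octads) (p : GolayPt) (hp : p ∉ o) :
    ∀ m ∈ M1 o p, (∀ u ∈ U1 o, m * u * m⁻¹ = u) → m = 1 := by
  obtain ⟨-, -, ⟨e⟩⟩ := Cfsg.Agent.S1554.result o ho p hp
  have hM : M0 o p ≤ G0 o := inf_le_left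
  have hcard := card_M1 o ho p hp
  haveI : Finite ↥(M1 o p) := Nat.finite_of_card_ne_zero (by rw [hcard]; norm_num)
  haveI : Nontrivial ↥(M1 o p) := by
    rw [← Finite.one_lt_card_iff_nontrivial, hcard]; norm_num
  haveI : IsSimpleGroup ↥(alternatingGroup (Fin 8)) :=
    alternatingGroup.isSimpleGroup (by rw [Nat.card_eq_fintype_card, Fintype.card_fin]; norm_num)
  have hsimple : IsSimpleGroup ↥(M1 o p) :=
    IsSimpleGroup.isSimpleGroup_of_surjective
      ((Subgroup.subgroupOfEquivOfLe hM).symm.toMonoidHom.comp e.symm.toMonoidHom)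
      ((Subgroup.subgroupOfEquivOfLe hM).symm.surjective.comp e.symm.surjective)
  -- the kernel of the action
  let N : Subgroup ↥(M1 o p) :=
    (Subgroup.centralizer ((U1 o : Subgroup ↥(G0 o)) : Set ↥(G0 o))).subgroupOf (M1 o p)
  have hNn : N.Normal := Subgroup.Normal.subgroupOf inferInstance _
  intro m hm hcent
  have hmN : (⟨m, hm⟩ : ↥(M1 o p)) ∈ N := by
    rw [Subgroup.mem_subgroupOf, Subgroup.mem_centralizer_iff]
    intro u hu
    have := hcent u hu
    rw [mul_inv_eq_iff_eq_mul] at this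
    exact this.symm
  rcases hNn.eq_bot_or_eq_top with hN | hN
  · rw [hN, Subgroup.mem_bot] at hmN
    exact congrArg Subtype.val hmN
  · exfalso
    haveI : Fact (Nat.Prime 2) := ⟨Nat.prime_two⟩
    obtain ⟨t, ht⟩ := exists_prime_orderOf_dvd_card' (G := ↥(M1 o p)) 2 (by rw [hcard]; norm_num)
    have htN : t ∈ N := by rw [hN]; trivial
    rw [Subgroup.mem_subgroupOf, Subgroup.mem_centralizer_iff] at htN
    -- the underlying permutation
    have ht2 : orderOf ((t : ↥(G0 o)) : Equiv.Perm GolayPt) = 2 := by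
      rw [Subgroup.orderOf_coe, Subgroup.orderOf_coe]; exact ht
    have htM : ((t : ↥(G0 o)) : Equiv.Perm GolayPt) ∈ M0 o p := Subgroup.mem_subgroupOf.mp t.2
    have htp : ((t : ↥(G0 o)) : Equiv.Perm GolayPt) p = p := htM.2
    have hfix : ∀ q, q ∉ o → ((t : ↥(G0 o)) : Equiv.Perm GolayPt) q = q := by
      intro q hq
      obtain ⟨u, hu, hufix, hup⟩ := Cfsg.Agent.S1554.exists_fixing' o ho p hp q hq
      have huU : u ∈ U0 o := (mem_U0_iff o u).mpr ⟨hu, hufix⟩
      have h1 := htN ⟨u, U0_le_G0 o huU⟩ (Subgroup.mem_subgroupOf.mpr huU)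
      have h2 : u * ((t : ↥(G0 o)) : Equiv.Perm GolayPt) =
          ((t : ↥(G0 o)) : Equiv.Perm GolayPt) * u := congrArg Subtype.val h1
      rw [← hup]
      have h3 := congrArg (fun σ : Equiv.Perm GolayPt => σ p) h2
      simp only [Equiv.Perm.mul_apply] at h3
      rw [htp] at h3
      exact h3.symm
    rcases (Cfsg.Agent.S5394.result).1 _ htM.1.1 ht2 with h8 | h0
    · have hc8 : (Finset.univ.filter fun q => ((t : ↥(G0 o)) : Equiv.Perm GolayPt) q = q).card = 8 :=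
        h8.2
      have hsub : oᶜ ⊆ Finset.univ.filter fun q => ((t : ↥(G0 o)) : Equiv.Perm GolayPt) q = q := by
        intro q hq
        rw [Finset.mem_filter]
        exact ⟨Finset.mem_univ _, hfix q (Finset.mem_compl.mp hq)⟩
      have := Finset.card_le_card hsub
      rw [card_compl_octad o ho, hc8] at this
      omega
    · exact h0 p htp

theorem card_units4 : Nat.card (Matrix (Fin 4) (Fin 4) R2)ˣ = 20160 := by
  haveI : Fact (Nat.Prime 2) := ⟨Nat.prime_two⟩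
  have h := Matrix.card_GL_field (𝔽 := ZMod 2) 4
  rw [ZMod.card] at h
  rw [show Nat.card (Matrix (Fin 4) (Fin 4) R2)ˣ = Nat.card (GL (Fin 4) (ZMod 2)) from rfl, h]
  simp [Fin.prod_univ_four]

/-- the complement induces every linear map on `U1` -/
theorem full_M1 (ho : o ∈ octads) (p : GolayPt) (hp : p ∉ o)
    (e : ↥(U1 o) ≃* Multiplicative (Fin (3 + 1) → R2))
    (D : (Matrix (Fin (3 + 1)) (Fin (3 + 1)) R2)ˣ) : ∃ m ∈ M1 o p, cunit (U1 o) e m = D := by
  have hcard := card_M1 o ho p hp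
  haveI : Finite ↥(M1 o p) := Nat.finite_of_card_ne_zero (by rw [hcard]; norm_num)
  let f : ↥(M1 o p) → (Matrix (Fin (3 + 1)) (Fin (3 + 1)) R2)ˣ := fun m => cunit (U1 o) e m.1
  have hinj : Function.Injective f := by
    intro m m' hmm
    have h1 : cunit (U1 o) e (m.1⁻¹ * m'.1) = 1 := by
      rw [map_mul, map_inv]
      show (f m)⁻¹ * f m' = 1
      rw [hmm, inv_mul_cancel]
    have h2 := (cunit_eq_one_iff (U1 o) e _).mp h1
    have h3 := faithful_M1 o ho p hp _ ((M1 o p).mul_mem ((M1 o p).inv_mem m.2) m'.2) h2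
    apply Subtype.ext
    exact inv_mul_eq_one.mp h3
  have hbij : Function.Bijective f := hinj.bijective_of_nat_card_le (by
    rw [hcard]; exact le_of_eq card_units4)
  obtain ⟨m, hm⟩ := hbij.2 D
  exact ⟨m.1, m.2, hm⟩

/-- the embedding of the octad stabilizer into `SL_5(2)` -/
theorem exists_iota (ho : o ∈ octads) (z : Equiv.Perm GolayPt) (hzU : z ∈ U0 o) (hz1 : z ≠ 1) :
    ∃ ι : ↥(G0 o) →* SLn2 3, Function.Injective ι ∧ Cz 3 ≤ ι.range ∧
      ι ⟨z, U0_le_G0 o hzU⟩ = z0 3 := by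
  obtain ⟨p, hp⟩ := exists_notMem_octad o ho
  have hcompl := isComplement'_U1_M1 o ho p hp
  obtain ⟨e, he⟩ := exists_coords (A := ↥(U1 o)) (n := 3) (comm_U1 o ho) (sq_U1 o ho)
    (card_U1 o ho) ⟨⟨z, U0_le_G0 o hzU⟩, Subgroup.mem_subgroupOf.mpr hzU⟩
    (fun h => hz1 (congrArg (fun x : ↥(U1 o) => ((x : ↥(G0 o)) : Equiv.Perm GolayPt)) h))
  refine ⟨iota (U1 o) e (M1 o p) hcompl, iota_injective _ e _ hcompl (faithful_M1 o ho p hp),
    Cz_le_range_iota' _ e _ hcompl (full_M1 o ho p hp e), ?_⟩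
  have := iota_of_mem (U1 o) e (M1 o p) hcompl
    ⟨⟨z, U0_le_G0 o hzU⟩, Subgroup.mem_subgroupOf.mpr hzU⟩
  rw [he] at this
  rw [z0_eq_tr]
  exact this

end setup

end Cfsg.Agent.Lib.Helper28.M24X
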