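import Cfsg.Agent.Lib.Helper28.M24A
import Cfsg.Agent.Lib.Helper28.Gen4C

set_option autoImplicit false

/-! The centralizer in `M24` of an involution fixing an octad pointwise. -/

namespace Cfsg.Agent.Lib.Helper28.M24X

open Cfsg Cfsg.Agent.Lib.Helper28.Tv Cfsg.Agent.Lib.Helper12.Golay
open scoped Pointwise

section

variable (z : ↥M24)

/-- the fixed points of `z` -/
abbrev fixZ : Finset GolayPt := Finset.univ.filter fun p : GolayPt => (z : Equiv.Perm GolayPt) p = p

theorem mem_fixZ (x : GolayPt) : x ∈ fixZ z ↔ (z : Equiv.Perm GolayPt) x = x := by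
  rw [Finset.mem_filter]
  exact ⟨fun h => h.2, fun h => ⟨Finset.mem_univ _, h⟩⟩

theorem z_mem_U0 : (z : Equiv.Perm GolayPt) ∈ U0 (fixZ z) := by
  rw [mem_U0_iff]
  exact ⟨z.2, fun x hx => (mem_fixZ z x).mp hx⟩

/-- elements commuting with an element whose fixed points are `o` stabilize `o` -/
theorem mem_G0_of_commute (o : Finset GolayPt) (v h : Equiv.Perm GolayPt) (hh : h ∈ M24)
    (hv : ∀ x, v x = x ↔ x ∈ o) (hc : v * h = h * v) : h ∈ G0 o := by
  refine ⟨hh, (mem_stab_iff h o).mpr fun x => ?_⟩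
  rw [← hv, ← hv]
  have h1 : v (h x) = h (v x) := by
    have := congrArg (fun σ : Equiv.Perm GolayPt => σ x) hc
    simpa [Equiv.Perm.mul_apply] using this
  rw [h1]
  exact h.injective.eq_iff

variable (hz : orderOf z = 2) (hfix : fixZ z ∈ octads)

include hz in
theorem z_ne_one : (z : Equiv.Perm GolayPt) ≠ 1 := by
  intro h
  have : z = 1 := Subtype.ext h
  rw [this, orderOf_one] at hz
  omega

include hz hfix in
theorem centralizer_le_G0 (c : ↥M24) (hc : c ∈ Subgroup.centralizer ({z} : Set ↥M24)) :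
    (c : Equiv.Perm GolayPt) ∈ G0 (fixZ z) := by
  apply mem_G0_of_commute (fixZ z) (z : Equiv.Perm GolayPt) c c.2
    (fixed_iff_of_mem_U0 (fixZ z) hfix (z_mem_U0 z) (z_ne_one z hz))
  have := (Subgroup.mem_centralizer_iff.mp hc) z rfl
  exact congrArg Subtype.val this

/-- the centralizer of `z` inside the octad stabilizer -/
def jHom : ↥(Subgroup.centralizer ({z} : Set ↥M24)) →* ↥(G0 (fixZ z)) where
  toFun c := ⟨(c : ↥M24), centralizer_le_G0 z hz hfix c.1 c.2⟩
  map_one' := rfl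
  map_mul' _ _ := rfl

include hz hfix in
/-- the isomorphism of the centralizer with the centralizer of a transvection in `SL_5(2)` -/
theorem exists_kappa :
    ∃ κ : ↥(Subgroup.centralizer ({z} : Set ↥M24)) ≃* ↥(Cz 3),
      ((κ ⟨z, z_mem_centralizer z⟩ : ↥(Cz 3)) : SLn2 3) = z0 3 := by
  obtain ⟨ι, hι, hr, hz0⟩ := exists_iota (fixZ z) hfix (z : Equiv.Perm GolayPt) (z_mem_U0 z)
    (z_ne_one z hz)
  have hmem : ∀ c : ↥(Subgroup.centralizer ({z} : Set ↥M24)), ι (jHom z hz hfix c) ∈ Cz 3 := by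
    intro c
    rw [Cz, Subgroup.mem_centralizer_iff]
    intro x hx
    rw [Set.mem_singleton_iff] at hx; subst hx
    rw [← hz0, ← map_mul, ← map_mul]
    congr 1
    apply Subtype.ext
    have := (Subgroup.mem_centralizer_iff.mp c.2) z rfl
    exact congrArg (fun t : ↥M24 => (t : Equiv.Perm GolayPt)) this
  let κ₀ : ↥(Subgroup.centralizer ({z} : Set ↥M24)) →* ↥(Cz 3) :=
    { toFun := fun c => ⟨ι (jHom z hz hfix c), hmem c⟩
      map_one' := by apply Subtype.ext; show ι (jHom z hz hfix 1) = 1; rw [map_one, map_one]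
      map_mul' := fun a b => by
        apply Subtype.ext
        show ι (jHom z hz hfix (a * b)) = ι (jHom z hz hfix a) * ι (jHom z hz hfix b)
        rw [map_mul, map_mul] }
  have hinj : Function.Injective κ₀ := by
    intro a b hab
    have h1 : ι (jHom z hz hfix a) = ι (jHom z hz hfix b) := congrArg Subtype.val hab
    have h2 := hι h1
    have h3 : ((a : ↥M24) : Equiv.Perm GolayPt) = ((b : ↥M24) : Equiv.Perm GolayPt) :=
      congrArg (fun t : ↥(G0 (fixZ z)) => (t : Equiv.Perm GolayPt)) h2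
    exact Subtype.ext (Subtype.ext h3)
  have hsurj : Function.Surjective κ₀ := by
    intro y
    obtain ⟨g, hg⟩ := hr y.2
    have hgM : (g : Equiv.Perm GolayPt) ∈ M24 := g.2.1
    have hgc : (⟨(g : Equiv.Perm GolayPt), hgM⟩ : ↥M24) ∈ Subgroup.centralizer ({z} : Set ↥M24) := by
      rw [Subgroup.mem_centralizer_iff]
      intro x hx
      rw [Set.mem_singleton_iff] at hx; subst hx
      have h1 : ι (⟨(x : Equiv.Perm GolayPt), U0_le_G0 _ (z_mem_U0 x)⟩ * g) =
          ι (g * ⟨(x : Equiv.Perm GolayPt), U0_le_G0 _ (z_mem_U0 x)⟩) := by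
        rw [map_mul, map_mul, hz0, hg]
        exact (Subgroup.mem_centralizer_iff.mp y.2) _ rfl
      have h2 := hι h1
      apply Subtype.ext
      exact congrArg (fun t : ↥(G0 (fixZ x)) => (t : Equiv.Perm GolayPt)) h2
    refine ⟨⟨⟨g, hgM⟩, hgc⟩, ?_⟩
    apply Subtype.ext
    show ι (jHom z hz hfix ⟨⟨g, hgM⟩, hgc⟩) = y
    rw [← hg]
    rfl
  refine ⟨MulEquiv.ofBijective κ₀ ⟨hinj, hsurj⟩, ?_⟩
  show ι (jHom z hz hfix ⟨z, z_mem_centralizer z⟩) = z0 3
  rw [← hz0]
  rfl

end

end Cfsg.Agent.Lib.Helper28.M24X
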