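import Cfsg.Agent.Lib.Helper28.M24B

set_option autoImplicit false

/-! Odd-order subgroups normalized by `O_2(C(z))` in `M24`. -/

namespace Cfsg.Agent.Lib.Helper28.M24X

open Cfsg Cfsg.Agent.Lib.Helper28.Tv Cfsg.Agent.Lib.Helper12.Golay
open scoped Pointwise

section

variable (z : ↥M24) (hz : orderOf z = 2) (hfix : fixZ z ∈ octads)

/-- the pointwise stabilizer of the octad, inside `M24` -/
abbrev Us : Subgroup ↥M24 := (U0 (fixZ z)).subgroupOf M24

/-- the octad stabilizer, inside `M24` -/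
abbrev Gs : Subgroup ↥M24 := (G0 (fixZ z)).subgroupOf M24

theorem z_mem_Us : z ∈ Us z := Subgroup.mem_subgroupOf.mpr (z_mem_U0 z)

include hfix in
theorem sq_Us (v : ↥M24) (hv : v ∈ Us z) : v * v = 1 := by
  apply Subtype.ext
  exact (Cfsg.Agent.S0381.result (fixZ z) hfix).2 v.1 (Subgroup.mem_subgroupOf.mp hv)

include hfix in
theorem comm_Us (v w : ↥M24) (hv : v ∈ Us z) (hw : w ∈ Us z) : v * w = w * v := by
  have ha := sq_Us z hfix v hv
  have hb := sq_Us z hfix w hw
  have hab := sq_Us z hfix (v * w) ((Us z).mul_mem hv hw)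
  have ha' : v⁻¹ = v := inv_eq_of_mul_eq_one_left ha
  have hb' : w⁻¹ = w := inv_eq_of_mul_eq_one_left hb
  have h1 : (v * w)⁻¹ = v * w := inv_eq_of_mul_eq_one_left hab
  rw [mul_inv_rev, ha', hb'] at h1
  exact h1.symm

include hfix in
theorem card_Us : Nat.card ↥(Us z) = 16 := by
  have hle : U0 (fixZ z) ≤ M24 := inf_le_left
  rw [Nat.card_congr (Subgroup.subgroupOfEquivOfLe hle).toEquiv]
  exact (Cfsg.Agent.S0381.result (fixZ z) hfix).1

theorem conj_mem_Us (g v : ↥M24) (hg : g ∈ Gs z) (hv : v ∈ Us z) : g * v * g⁻¹ ∈ Us z := by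
  rw [Subgroup.mem_subgroupOf] at hg hv ⊢
  exact conj_mem_U0 _ hg hv

include hz hfix in
theorem centralizer_le_Gs : Subgroup.centralizer ({z} : Set ↥M24) ≤ Gs z := by
  intro c hc
  exact Subgroup.mem_subgroupOf.mpr (centralizer_le_G0 z hz hfix c hc)

include hfix in
theorem centralizer_le_Gs' (v : ↥M24) (hv : v ∈ Us z) (hv1 : v ≠ 1) :
    Subgroup.centralizer ({v} : Set ↥M24) ≤ Gs z := by
  intro h hh
  rw [Subgroup.mem_subgroupOf]
  apply mem_G0_of_commute (fixZ z) (v : Equiv.Perm GolayPt) h h.2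
    (fixed_iff_of_mem_U0 (fixZ z) hfix (Subgroup.mem_subgroupOf.mp hv)
      (fun h1 => hv1 (Subtype.ext h1)))
  have := (Subgroup.mem_centralizer_iff.mp hh) v rfl
  exact congrArg Subtype.val this

include hz hfix in
theorem Us_le_pCore (Q : Subgroup ↥M24)
    (hQ : Q = (Cfsg.pCore 2 ↥(Subgroup.centralizer ({z} : Set ↥M24))).map
      (Subgroup.centralizer ({z} : Set ↥M24)).subtype) : Us z ≤ Q := by
  have hUC : Us z ≤ Subgroup.centralizer ({z} : Set ↥M24) := by
    intro v hv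
    rw [Subgroup.mem_centralizer_iff]
    intro x hx
    rw [Set.mem_singleton_iff] at hx; subst hx
    exact comm_Us x hfix x v (z_mem_Us x) hv
  have hnorm : ((Us z).subgroupOf (Subgroup.centralizer ({z} : Set ↥M24))).Normal := by
    constructor
    intro v hv c
    rw [Subgroup.mem_subgroupOf] at hv ⊢
    exact conj_mem_Us z _ _ (centralizer_le_Gs z hz hfix c.2) hv
  have hp : IsPGroup 2 ↥((Us z).subgroupOf (Subgroup.centralizer ({z} : Set ↥M24))) := by
    intro v
    refine ⟨1, ?_⟩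
    apply Subtype.ext
    apply Subtype.ext
    rw [pow_one, pow_two]
    exact sq_Us z hfix _ (Subgroup.mem_subgroupOf.mp v.2)
  have hle : (Us z).subgroupOf (Subgroup.centralizer ({z} : Set ↥M24)) ≤
      Cfsg.pCore 2 ↥(Subgroup.centralizer ({z} : Set ↥M24)) := by
    unfold Cfsg.pCore
    exact le_sSup ⟨hnorm, hp⟩
  intro v hv
  rw [hQ]
  exact ⟨⟨v, hUC hv⟩, hle (Subgroup.mem_subgroupOf.mpr hv), rfl⟩

include hz hfix in
/-- odd-order subgroups normalized by `O_2(C(z))` centralize `z` -/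
theorem odd_le_centralizer (Q : Subgroup ↥M24)
    (hQ : Q = (Cfsg.pCore 2 ↥(Subgroup.centralizer ({z} : Set ↥M24))).map
      (Subgroup.centralizer ({z} : Set ↥M24)).subtype)
    (K : Subgroup ↥M24) (hK : Odd (Nat.card K)) (hQK : Q ≤ Subgroup.normalizer (K : Set ↥M24)) :
    K ≤ Subgroup.centralizer ({z} : Set ↥M24) := by
  have hUQ := Us_le_pCore z hz hfix Q hQ
  -- a second involution
  obtain ⟨u, huU, hu1, huz⟩ : ∃ u ∈ Us z, u ≠ 1 ∧ u ≠ z := by
    by_contra hcon
    push_neg at hcon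
    have hle : Us z ≤ Subgroup.zpowers z := by
      intro v hv
      by_cases h1 : v = 1
      · rw [h1]; exact Subgroup.one_mem _
      · rw [hcon v hv h1]; exact Subgroup.mem_zpowers z
    have h2 := Subgroup.card_le_of_le hle
    rw [card_Us z hfix, Nat.card_zpowers, hz] at h2
    omega
  have hz1 : z ≠ 1 := fun h => z_ne_one z hz (congrArg Subtype.val h)
  have hzz : z * z = 1 := sq_Us z hfix z (z_mem_Us z)
  have huu : u * u = 1 := sq_Us z hfix u huU
  have hzu : z * u = u * z := comm_Us z hfix z u (z_mem_Us z) huU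
  have hzu1 : z * u ≠ 1 := by
    intro h
    have : z⁻¹ = z := inv_eq_of_mul_eq_one_left hzz
    have h2 : u = z⁻¹ := (inv_eq_of_mul_eq_one_right h).symm
    exact huz (h2.trans this)
  have hzK : z ∈ Subgroup.normalizer (K : Set ↥M24) := hQK (hUQ (z_mem_Us z))
  have huK : u ∈ Subgroup.normalizer (K : Set ↥M24) := hQK (hUQ huU)
  have h1 := Gen4.le_X3 z u hzz huu hzu K hK hzK huK
  have h2 : Gen4.X3 z u ≤ Gs z := by
    unfold Gen4.X3
    apply sup_le (sup_le _ _) _
    · exact centralizer_le_Gs' z hfix z (z_mem_Us z) hz1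
    · exact centralizer_le_Gs' z hfix u huU hu1
    · exact centralizer_le_Gs' z hfix (z * u) ((Us z).mul_mem (z_mem_Us z) huU) hzu1
  have hKG : K ≤ Gs z := h1.trans h2
  intro k hk
  rw [Subgroup.mem_centralizer_iff]
  intro x hx
  rw [Set.mem_singleton_iff] at hx; subst hx
  -- the commutator lies in `K ∩ U`
  have hwU : k * x * k⁻¹ * x⁻¹ ∈ Us x :=
    (Us x).mul_mem (conj_mem_Us x k x (hKG hk) (z_mem_Us x)) ((Us x).inv_mem (z_mem_Us x))
  have hwK : k * x * k⁻¹ * x⁻¹ ∈ K := by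
    have h3 : x * k⁻¹ * x⁻¹ ∈ K := ((Subgroup.mem_normalizer_iff.mp hzK) k⁻¹).mp (K.inv_mem hk)
    have h4 := K.mul_mem hk h3
    have e : k * (x * k⁻¹ * x⁻¹) = k * x * k⁻¹ * x⁻¹ := by group
    rwa [e] at h4
  have hw2 : orderOf (k * x * k⁻¹ * x⁻¹) ∣ 2 := by
    apply orderOf_dvd_of_pow_eq_one
    rw [pow_two]
    exact sq_Us x hfix _ hwU
  have hwodd : Odd (orderOf (k * x * k⁻¹ * x⁻¹)) :=
    Odd.of_dvd_nat hK (Subgroup.orderOf_dvd_natCard K hwK)
  have hw1 : orderOf (k * x * k⁻¹ * x⁻¹) = 1 := by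
    rcases (Nat.dvd_prime Nat.prime_two).mp hw2 with h | h
    · exact h
    · rw [h] at hwodd; exact absurd hwodd (by decide)
  have hw : k * x * k⁻¹ * x⁻¹ = 1 := orderOf_eq_one_iff.mp hw1
  have : k * x = x * k := by
    have h5 : k * x * k⁻¹ * x⁻¹ * x * k = 1 * x * k := by rw [hw]
    have e1 : k * x * k⁻¹ * x⁻¹ * x * k = k * x := by group
    rw [e1, one_mul] at h5
    exact h5
  exact this.symm

end

end Cfsg.Agent.Lib.Helper28.M24X
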