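import Mathlib
import Cfsg.Agent.Lib.helper7.NCV.Defs

/-! # NCV row C4 (helper28): trace of a conjugate. -/

set_option autoImplicit false

namespace Cfsg.Agent.Lib.helper7.NCV

open Matrix

universe u

variable {F : Type u} [Field F] {n : ℕ}

/-- **C4 (TRL).** Trace of a conjugate. -/
theorem trl (g : Matrix (Fin 2) (Fin 2) F) (c : GL (Fin 2) F) (lam : F)
    (h : (c : Matrix (Fin 2) (Fin 2) F) * g * ((c⁻¹ : GL (Fin 2) F) : Matrix (Fin 2) (Fin 2) F)
      = lam • g) (ht : g.trace ≠ 0) : lam = 1 := by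
  have h1 := congrArg Matrix.trace h
  rw [Matrix.trace_mul_comm, ← Matrix.mul_assoc, ← Units.val_mul, inv_mul_cancel, Units.val_one,
    Matrix.one_mul, Matrix.trace_smul, smul_eq_mul] at h1
  have h2 : (lam - 1) * g.trace = 0 := by linear_combination -h1
  rcases mul_eq_zero.mp h2 with h3 | h3
  · linear_combination h3
  · exact absurd h3 ht

end Cfsg.Agent.Lib.helper7.NCV
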