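import Mathlib
import Cfsg.Agent.Lib.helper7.NCV.Defs

/-! # NCV row C6 (helper28): `y c y⁻¹ = μ c` forces `μ = ±1`. -/

set_option autoImplicit false

namespace Cfsg.Agent.Lib.helper7.NCV

open Matrix

universe u

variable {F : Type u} [Field F] {n : ℕ}

/-- **C6 (MUPM).** -/
theorem mu_cases (c : Matrix (Fin 2) (Fin 2) F) (y : GL (Fin 2) F) (μ : F) (hdet : c.det ≠ 0)
    (h : (y : Matrix (Fin 2) (Fin 2) F) * c * ((y⁻¹ : GL (Fin 2) F) : Matrix (Fin 2) (Fin 2) F)
      = μ • c) : μ = 1 ∨ (c.trace = 0 ∧ μ = -1 ∧ (2 : F) ≠ 0) := by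
  have hyy : ((y⁻¹ : GL (Fin 2) F) : Matrix (Fin 2) (Fin 2) F) * (y : Matrix (Fin 2) (Fin 2) F) = 1 := by
    rw [← Units.val_mul, inv_mul_cancel, Units.val_one]
  have ht := congrArg Matrix.trace h
  rw [Matrix.trace_mul_comm, ← Matrix.mul_assoc, hyy, Matrix.one_mul, Matrix.trace_smul,
    smul_eq_mul] at ht
  have hd := congrArg Matrix.det h
  rw [Matrix.det_mul, Matrix.det_mul, mul_comm, ← mul_assoc, ← Matrix.det_mul, hyy, Matrix.det_one,
    one_mul, Matrix.det_smul, Fintype.card_fin] at hd
  have hmu : (μ - 1) * (μ + 1) = 0 := by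
    have : (μ ^ 2 - 1) * c.det = 0 := by linear_combination -hd
    rcases mul_eq_zero.mp this with h3 | h3
    · linear_combination h3
    · exact absurd h3 hdet
  rcases mul_eq_zero.mp hmu with h3 | h3
  · left; linear_combination h3
  · have hμ : μ = -1 := by linear_combination h3
    by_cases h1 : μ = 1
    · left; exact h1
    · right
      have h2 : (2 : F) ≠ 0 := by
        intro h2
        apply h1
        rw [hμ]
        linear_combination -h2
      refine ⟨?_, hμ, h2⟩
      rw [hμ] at ht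
      have : (2 : F) * c.trace = 0 := by linear_combination ht
      rcases mul_eq_zero.mp this with h4 | h4
      · exact absurd h4 h2
      · exact h4

end Cfsg.Agent.Lib.helper7.NCV
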