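import Mathlib
import Cfsg.Prelude.Def_Classical

set_option autoImplicit false

/-! `O₄⁻(2) ≅ S₅`, via the action on the five singular points. -/

namespace Cfsg.Agent.Lib.Helper28.O4m

abbrev I4 := (Fin 1 ⊕ Fin 1) ⊕ Fin 2
abbrev V4 := I4 → ZMod 2
abbrev Q4 : V4 → ZMod 2 := Cfsg.quadFormMinus 1 (ZMod 2) 1 1

/-- the polar form -/
def B4 (v w : V4) : ZMod 2 := Q4 (v + w) + Q4 v + Q4 w

/-- nonzero singular vectors -/
def Sing (v : V4) : Prop := v ≠ 0 ∧ Q4 v = 0

instance instDecSing (v : V4) : Decidable (Sing v) := by unfold Sing; infer_instance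

abbrev S4 := {v : V4 // Sing v}

abbrev G4 : Subgroup (Matrix.GeneralLinearGroup I4 (ZMod 2)) := Cfsg.isometryGroup (ZMod 2) Q4

set_option maxRecDepth 100000 in
theorem card_S4 : Fintype.card S4 = 5 := by decide

/-- the orthogonal transvection with centre `a` -/
def tv (a : V4) : Matrix I4 I4 (ZMod 2) :=
  fun k l => (if k = l then 1 else 0) + a k * B4 (Pi.single l 1) a

set_option maxRecDepth 100000 in
theorem tv_mul_self : ∀ a : V4, Q4 a = 1 → tv a * tv a = 1 := by decide

set_option maxRecDepth 100000 in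
theorem tv_iso : ∀ a u : V4, Q4 a = 1 → Q4 ((tv a).mulVec u) = Q4 u := by decide

set_option synthInstance.maxHeartbeats 400000 in
set_option synthInstance.maxSize 2000 in
set_option maxRecDepth 100000 in
theorem tv_swap1 : ∀ s t : V4, Sing s → Sing t → s ≠ t →
    Q4 (s + t) = 1 ∧ (tv (s + t)).mulVec s = t := by decide

set_option synthInstance.maxHeartbeats 400000 in
set_option synthInstance.maxSize 2000 in
set_option maxRecDepth 100000 in
theorem tv_swap2 : ∀ s t u : V4, Sing s → Sing t → Sing u → s ≠ t → u ≠ s → u ≠ t →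
    (tv (s + t)).mulVec u = u := by decide

/-- the transvection as an element of `GL` -/
def tvGL (a : V4) (ha : Q4 a = 1) : Matrix.GeneralLinearGroup I4 (ZMod 2) :=
  ⟨tv a, tv a, tv_mul_self a ha, tv_mul_self a ha⟩

theorem tvGL_mem (a : V4) (ha : Q4 a = 1) : tvGL a ha ∈ G4 := by
  intro u _
  exact tv_iso a u ha

/-- the four singular vectors spanning the space -/
def s0 : V4 := Pi.single (Sum.inl (Sum.inl 0)) 1
def s1 : V4 := Pi.single (Sum.inl (Sum.inr 0)) 1
def s2 : V4 := fun i => match i with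
  | Sum.inl _ => 1
  | Sum.inr j => if j = 0 then 1 else 0
def s3 : V4 := fun i => match i with
  | Sum.inl _ => 1
  | Sum.inr j => if j = 1 then 1 else 0

set_option maxRecDepth 100000 in
theorem sing_s : Sing s0 ∧ Sing s1 ∧ Sing s2 ∧ Sing s3 := by decide

set_option maxRecDepth 100000 in
theorem span_s : ∀ v : V4, v =
    (v (Sum.inl (Sum.inl 0)) + v (Sum.inr 0) + v (Sum.inr 1)) • s0 +
    (v (Sum.inl (Sum.inr 0)) + v (Sum.inr 0) + v (Sum.inr 1)) • s1 +
    v (Sum.inr 0) • s2 + v (Sum.inr 1) • s3 := by decide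

theorem mulVec_eq_self_of_sing (M : Matrix I4 I4 (ZMod 2))
    (hM : ∀ s : V4, Sing s → M.mulVec s = s) (v : V4) : M.mulVec v = v := by
  obtain ⟨h0, h1, h2, h3⟩ := sing_s
  conv_lhs => rw [span_s v]
  rw [Matrix.mulVec_add, Matrix.mulVec_add, Matrix.mulVec_add, Matrix.mulVec_smul,
    Matrix.mulVec_smul, Matrix.mulVec_smul, Matrix.mulVec_smul, hM s0 h0, hM s1 h1, hM s2 h2,
    hM s3 h3]
  exact (span_s v).symm

/-- action on singular vectors -/
def act (g : G4) (s : S4) : S4 :=
  ⟨((g : Matrix.GeneralLinearGroup I4 (ZMod 2)) : Matrix I4 I4 (ZMod 2)).mulVec s.1, by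
    refine ⟨?_, ?_⟩
    · intro h0
      apply s.2.1
      have := congrArg (fun w => (((g⁻¹ : G4) : Matrix.GeneralLinearGroup I4 (ZMod 2)) :
        Matrix I4 I4 (ZMod 2)).mulVec w) h0
      simp only [Matrix.mulVec_mulVec, Matrix.mulVec_zero] at this
      rw [Subgroup.coe_inv, ← Units.val_mul, inv_mul_cancel, Units.val_one,
        Matrix.one_mulVec] at this
      exact this
    · have h1 : Q4 (((g : Matrix.GeneralLinearGroup I4 (ZMod 2)) :
          Matrix I4 I4 (ZMod 2)).mulVec s.1) = Q4 s.1 := g.2 s.1 s.1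
      rw [h1]
      exact s.2.2⟩

instance : MulAction G4 S4 where
  smul := act
  one_smul := by
    intro s
    apply Subtype.ext
    show Matrix.mulVec _ s.1 = s.1
    rw [Subgroup.coe_one, Units.val_one, Matrix.one_mulVec]
  mul_smul := by
    intro g h s
    apply Subtype.ext
    show Matrix.mulVec (((g * h : G4) : Matrix.GeneralLinearGroup I4 (ZMod 2)) :
        Matrix I4 I4 (ZMod 2)) s.1 =
      Matrix.mulVec ((g : Matrix.GeneralLinearGroup I4 (ZMod 2)) : Matrix I4 I4 (ZMod 2))
        (Matrix.mulVec ((h : Matrix.GeneralLinearGroup I4 (ZMod 2)) : Matrix I4 I4 (ZMod 2)) s.1)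
    rw [Matrix.mulVec_mulVec, Subgroup.coe_mul, Units.val_mul]

theorem smul_val (g : G4) (s : S4) :
    (g • s).1 = ((g : Matrix.GeneralLinearGroup I4 (ZMod 2)) : Matrix I4 I4 (ZMod 2)).mulVec s.1 :=
  rfl

/-- the permutation representation -/
def rho : G4 →* Equiv.Perm S4 := MulAction.toPermHom G4 S4

theorem rho_apply (g : G4) (s : S4) : rho g s = g • s := rfl

theorem rho_injective : Function.Injective rho := by
  rw [injective_iff_map_eq_one]
  intro g hg
  apply Subtype.ext
  apply Units.ext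
  apply Matrix.mulVec_injective
  funext v
  rw [Subgroup.coe_one, Units.val_one, Matrix.one_mulVec]
  apply mulVec_eq_self_of_sing
  intro s hs
  have := congrArg (fun σ : Equiv.Perm S4 => (σ ⟨s, hs⟩).1) hg
  simpa [rho_apply, smul_val] using this

theorem rho_surjective : Function.Surjective rho := by
  rw [← MonoidHom.range_eq_top, eq_top_iff, ← Equiv.Perm.closure_isSwap,
    Subgroup.closure_le]
  rintro σ ⟨s, t, hst, rfl⟩
  have hne : s.1 ≠ t.1 := fun h => hst (Subtype.ext h)
  obtain ⟨hq, hsw⟩ := tv_swap1 s.1 t.1 s.2 t.2 hne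
  refine ⟨⟨tvGL (s.1 + t.1) hq, tvGL_mem _ hq⟩, ?_⟩
  ext u : 1
  apply Subtype.ext
  rw [rho_apply, smul_val]
  show (tv (s.1 + t.1)).mulVec u.1 = _
  by_cases hus : u = s
  · subst hus
    rw [Equiv.swap_apply_left]
    exact hsw
  · by_cases hut : u = t
    · subst hut
      rw [Equiv.swap_apply_right, add_comm]
      exact (tv_swap1 u.1 s.1 u.2 s.2 (Ne.symm hne)).2
    · rw [Equiv.swap_apply_of_ne_of_ne hus hut]
      exact tv_swap2 s.1 t.1 u.1 s.2 t.2 u.2 hne (fun h => hus (Subtype.ext h))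
        (fun h => hut (Subtype.ext h))

/-- `O₄⁻(2) ≅ S₅` -/
noncomputable def equivS5 : G4 ≃* Equiv.Perm (Fin 5) :=
  (MulEquiv.ofBijective rho ⟨rho_injective, rho_surjective⟩).trans
    (Equiv.permCongrHom (Fintype.equivFinOfCardEq card_S4))

end Cfsg.Agent.Lib.Helper28.O4m
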