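import Cfsg.Agent.Lib.Helper28.ODecOdd

set_option autoImplicit false

open Cfsg

namespace Cfsg.Agent.Lib.Helper28.ODecEven

open Matrix Cfsg.Agent.Lib.Helper28.HForm Cfsg.Agent.Lib.Helper28.OGen
  Cfsg.Agent.Lib.Helper28.OMax Cfsg.Agent.Lib.Helper28.OQ
  Cfsg.Agent.Lib.Helper28.OMax2 Cfsg.Agent.Lib.Helper28.OGenQ
  Cfsg.Agent.Lib.Helper28.ONdW Cfsg.Agent.Lib.Helper28.ONdR Cfsg.Agent.Lib.Helper28.ONd
  Cfsg.Agent.Lib.Helper28.ODecS Cfsg.Agent.Lib.Helper28.ODecOdd Cfsg.Agent.S0795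

theorem dec_dim {n : ℕ} {F : Type*} [Field F] {t m : ℕ} {D : Fin t → Submodule F (Fin n → F)}
    (hD : Cfsg.Geo.IsMDecomposition m D) : n = t * m := by
  have hint := DirectSum.isInternal_submodule_of_iSupIndep_of_iSup_eq_top hD.indep hD.iSup_eq_top
  have e := LinearEquiv.ofBijective (DirectSum.coeLinearMap D) hint
  have h1 := e.finrank_eq
  rw [Module.finrank_directSum] at h1
  simp only [hD.finrank_eq, Finset.sum_const, Finset.card_univ, Fintype.card_fin, smul_eq_mul,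
    Module.finrank_fintype_fun_eq_card] at h1
  exact h1.symm

theorem two_eq_zero_of_card {F : Type*} [Field F] [Fintype F] {m : ℕ}
    (hc : Fintype.card F = 2 ^ m) (hm : 0 < m) : (2 : F) = 0 := by
  have h := FiniteField.cast_card_eq_zero F
  rw [hc] at h
  push_cast at h
  exact pow_eq_zero_iff (by omega) |>.1 h

theorem card2 {F : Type*} [Field F] [Fintype F] (hq : Fintype.card F = 2) (a : F) :
    a = 0 ∨ a = 1 := by
  have h1 : a ^ 2 = a := by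
    rw [← hq]
    exact FiniteField.pow_card a
  have h3 : a * (a - 1) = 0 := by linear_combination h1
  rcases mul_eq_zero.1 h3 with h | h
  · exact Or.inl h
  · exact Or.inr (sub_eq_zero.1 h)

theorem mem_stab_map {n : ℕ} {F : Type*} [Field F] {t : ℕ}
    {D : Fin t → Submodule F (Fin n → F)} {g : Matrix.GeneralLinearGroup (Fin n) F}
    (hg : g ∈ Cfsg.Geo.decompositionStabilizer D) :
    ∃ σ : Equiv.Perm (Fin t), ∀ i, ∀ v ∈ D i, (g : Matrix (Fin n) (Fin n) F) *ᵥ v ∈ D (σ i) := by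
  obtain ⟨σ, hσ⟩ := hg
  refine ⟨σ, fun i v hv => ?_⟩
  rw [← hσ i]
  exact ⟨v, hv, by rw [Matrix.toLin'_apply]⟩

theorem q2_fin {n : ℕ} {F : Type*} [Field F] [Fintype F] (hc : Fintype.card F = 2)
    (hn : 7 ≤ n) (Q : QuadraticForm F (Fin n → F))
    (hQ : (QuadraticMap.polarBilin Q).Nondegenerate)
    {t : ℕ} (D : Fin t → Submodule F (Fin n → F)) (ht : 4 ≤ t)
    (hnd : ∀ i, Cfsg.Geo.IsNondegenerateOn (QuadraticMap.polar (⇑Q)) (D i))
    (hfr : ∀ i, Module.finrank F (D i) = 2)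
    (horth : ∀ i j, i ≠ j → Cfsg.Geo.AreOrthogonalFor (QuadraticMap.polar (⇑Q)) (D i) (D j))
    (hplus : ∀ i, Cfsg.Geo.IsPlusTypeOn (⇑Q) (D i)) :
    ∃ K : Subgroup (Matrix.GeneralLinearGroup (Fin n) F),
      Cfsg.Geo.decompositionStabilizer D ⊓ Cfsg.Geo.omegaGL (⇑Q) < K ∧
        K < Cfsg.Geo.omegaGL (⇑Q) := by
  have hq := qf_of_quad Q hQ
  have hf := hq.sym
  have hG := sgGroupQ_quad hn Q hQ
  have vf := vfacts_quad hn Q hQ
  have h2 : (2 : F) = 0 := two_eq_zero_of_card (m := 1) (by rw [hc]; rfl) (by omega)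
  have h11 : (1 : F) + 1 = 0 := by linear_combination h2
  have h10 : (1 : F) ≠ 0 := one_ne_zero
  choose e s heB hsB hee hss hes hco using
    fun i => hyp_plane hq (D i) (hnd i) (hfr i) (hplus i)
  have hse : ∀ i, pf Q (s i) (e i) = 1 := fun i => by rw [s_symm hf, hes]
  have hfe : ∀ i, pf Q (e i) (e i) = 0 := fun i => f_sing hq (hee i)
  have hfs : ∀ i, pf Q (s i) (s i) = 0 := fun i => f_sing hq (hss i)
  obtain ⟨z, hz⟩ : ∃ z : Fin t → (Fin n → F), z = fun i => e i + s i := ⟨_, rfl⟩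
  have hzi : ∀ i, z i = e i + s i := fun i => by rw [hz]
  have hzB : ∀ i, z i ∈ D i := fun i => by
    rw [hzi]
    exact (D i).add_mem (heB i) (hsB i)
  have hQz : ∀ i, Q (z i) = 1 := fun i => by
    rw [hzi, hq.polar, hee, hss, hes]
    ring
  have hze : ∀ i, pf Q (z i) (e i) = 1 := fun i => by
    rw [hzi, hf.add_left, hfe, hse, zero_add]
  have hzs : ∀ i, pf Q (z i) (s i) = 1 := fun i => by
    rw [hzi, hf.add_left, hfs, hes, add_zero]
  have hzz : ∀ i, pf Q (z i) (z i) = 0 := fun i => by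
    rw [f_self hq, h2, zero_mul]
  have hSz : ∀ i, ∀ v ∈ D i, Q v = 1 → v = z i := by
    intro i v hv hvQ
    have hv' := hco i v hv
    obtain ⟨α, hα⟩ : ∃ α, α = pf Q v (s i) := ⟨_, rfl⟩
    obtain ⟨β, hβ⟩ : ∃ β, β = pf Q v (e i) := ⟨_, rfl⟩
    rw [← hα, ← hβ] at hv'
    have hQv : Q v = α * β := by
      rw [hv', hq.polar, hq.smul, hq.smul, hee, hss, hf.smul_left, s_smul_right hf, hes]
      ring
    rw [hQv] at hvQ
    rcases card2 hc α with rfl | rfl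
    · exfalso
      exact h10 (by linear_combination -hvQ)
    rcases card2 hc β with rfl | rfl
    · exfalso
      exact h10 (by linear_combination -hvQ)
    rw [hv', hzi, one_smul, one_smul]
  obtain ⟨i1, hi1⟩ : ∃ i1 : Fin t, i1 = ⟨0, by omega⟩ := ⟨_, rfl⟩
  obtain ⟨i2, hi2⟩ : ∃ i2 : Fin t, i2 = ⟨1, by omega⟩ := ⟨_, rfl⟩
  obtain ⟨i3, hi3⟩ : ∃ i3 : Fin t, i3 = ⟨2, by omega⟩ := ⟨_, rfl⟩
  obtain ⟨i4, hi4⟩ : ∃ i4 : Fin t, i4 = ⟨3, by omega⟩ := ⟨_, rfl⟩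
  have n12 : i1 ≠ i2 := by rw [hi1, hi2]; exact fin_ne _ _ (by decide)
  have n13 : i1 ≠ i3 := by rw [hi1, hi3]; exact fin_ne _ _ (by decide)
  have n14 : i1 ≠ i4 := by rw [hi1, hi4]; exact fin_ne _ _ (by decide)
  have n23 : i2 ≠ i3 := by rw [hi2, hi3]; exact fin_ne _ _ (by decide)
  have n24 : i2 ≠ i4 := by rw [hi2, hi4]; exact fin_ne _ _ (by decide)
  have n34 : i3 ≠ i4 := by rw [hi3, hi4]; exact fin_ne _ _ (by decide)
  have hx : ∀ i j, i ≠ j → ∀ v ∈ D i, ∀ w ∈ D j, pf Q v w = 0 := horth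
  have horth' : ∀ i j, i ≠ j → Cfsg.Geo.AreOrthogonalFor (pf Q) (D i) (D j) := horth
  obtain ⟨u, hu⟩ : ∃ u, u = z i1 + z i2 := ⟨_, rfl⟩
  obtain ⟨y, hy⟩ : ∃ y, y = z i3 + z i4 := ⟨_, rfl⟩
  have hQu : Q u = 0 := by
    rw [hu, hq.polar, hQz, hQz, hx i1 i2 n12 _ (hzB i1) _ (hzB i2)]
    linear_combination h2
  have hQy : Q y = 0 := by
    rw [hy, hq.polar, hQz, hQz, hx i3 i4 n34 _ (hzB i3) _ (hzB i4)]
    linear_combination h2
  have hue : pf Q u (e i1) = 1 := by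
    rw [hu, hf.add_left, hze, hx i2 i1 n12.symm _ (hzB i2) _ (heB i1), add_zero]
  have hu0 : u ≠ 0 := by
    intro h
    rw [h, f_zero_left hf] at hue
    exact h10 hue.symm
  have hyu : pf Q y u = 0 := by
    rw [hy, hu, hf.add_left, f_add_right hf, f_add_right hf,
      hx i3 i1 n13.symm _ (hzB i3) _ (hzB i1), hx i3 i2 n23.symm _ (hzB i3) _ (hzB i2),
      hx i4 i1 n14.symm _ (hzB i4) _ (hzB i1), hx i4 i2 n24.symm _ (hzB i4) _ (hzB i2)]
    ring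
  have huz : ∀ i, pf Q u (z i) = 0 := by
    intro i
    rw [hu, hf.add_left]
    by_cases h1 : i1 = i
    · rw [← h1, hzz, hx i2 i1 n12.symm _ (hzB i2) _ (hzB i1), add_zero]
    by_cases h2' : i2 = i
    · rw [← h2', hzz, hx i1 i2 n12 _ (hzB i1) _ (hzB i2), add_zero]
    rw [hx i1 i h1 _ (hzB i1) _ (hzB i), hx i2 i h2' _ (hzB i2) _ (hzB i), add_zero]
  have hyz : ∀ i, pf Q y (z i) = 0 := by
    intro i
    rw [hy, hf.add_left]
    by_cases h1 : i3 = i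
    · rw [← h1, hzz, hx i4 i3 n34.symm _ (hzB i4) _ (hzB i3), add_zero]
    by_cases h2' : i4 = i
    · rw [← h2', hzz, hx i3 i4 n34 _ (hzB i3) _ (hzB i4), add_zero]
    rw [hx i3 i h1 _ (hzB i3) _ (hzB i), hx i4 i h2' _ (hzB i4) _ (hzB i), add_zero]
  obtain ⟨c, hcG, hcr⟩ := isRho_ex hq vf hG u y hQu hu0 hyu
  have hcr' := isRho_inv hq hQu hyu hcr
  have hcfix : ∀ v, (∃ i, v ∈ D i ∧ Q v = 1) → (c : Matrix (Fin n) (Fin n) F) *ᵥ v = v := by
    rintro v ⟨i, hv, hvQ⟩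
    rw [hSz i v hv hvQ]
    exact isRho_fix hcr (huz i) (hyz i)
  have hcfix' : ∀ v, (∃ i, v ∈ D i ∧ Q v = 1) →
      ((c⁻¹ : Matrix.GeneralLinearGroup (Fin n) F) : Matrix (Fin n) (Fin n) F) *ᵥ v = v := by
    rintro v ⟨i, hv, hvQ⟩
    rw [hSz i v hv hvQ]
    refine isRho_fix hcr' (huz i) ?_
    rw [f_neg_left hf, hyz, neg_zero]
  have hce : (c : Matrix (Fin n) (Fin n) F) *ᵥ e i1 = e i1 + y := by
    rw [hcr (e i1), hue, hQy]
    have : pf Q y (e i1) = 0 := by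
      rw [hy, hf.add_left, hx i3 i1 n13.symm _ (hzB i3) _ (heB i1),
        hx i4 i1 n14.symm _ (hzB i4) _ (heB i1), add_zero]
    rw [this]
    module
  have hcD : c ∉ Cfsg.Geo.decompositionStabilizer D := by
    intro hcs
    obtain ⟨σ, hσ⟩ := mem_stab_map hcs
    have h1 := hσ i1 _ (heB i1)
    rw [hce] at h1
    refine not_stab_of_two D horth' n13 (hsB i1) (heB i3) ?_ ?_ _ h1
    · rw [hf.add_left, hes, hy, hf.add_left, hx i3 i1 n13.symm _ (hzB i3) _ (hsB i1),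
        hx i4 i1 n14.symm _ (hzB i4) _ (hsB i1)]
      simp
    · rw [hf.add_left, hx i1 i3 n13 _ (heB i1) _ (heB i3), hy, hf.add_left, hze,
        hx i4 i3 n34.symm _ (hzB i4) _ (heB i3)]
      simp
  have hfee : pf Q (e i2) (e i1) = 0 := hx i2 i1 n12.symm _ (heB i2) _ (heB i1)
  have he0 : e i1 ≠ 0 := by
    intro h
    have := hes i1
    rw [h, f_zero_left hf] at this
    exact h10 this.symm
  obtain ⟨T, hTG, hTr⟩ := isRho_ex hq vf hG (e i1) (e i2) (hee i1) he0 hfee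
  have hTz : (T : Matrix (Fin n) (Fin n) F) *ᵥ z i1 = z i1 + e i2 := by
    rw [hTr (z i1), hee, s_symm hf (e i1), hze, hx i2 i1 n12.symm _ (heB i2) _ (hzB i1)]
    module
  refine stabS_nonmax hG.iso D 1 c hcG ?_ ?_ hcD T hTG (z i1) i1 (hzB i1) (hQz i1) ?_
  · intro v hv
    have h := hcfix v hv
    obtain ⟨i, hi, -⟩ := hv
    exact ⟨i, by rw [h]; exact hi⟩
  · intro v hv
    have h := hcfix' v hv
    obtain ⟨i, hi, -⟩ := hv
    exact ⟨i, by rw [h]; exact hi⟩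
  · rw [hTz]
    refine not_stab_of_two D horth' n12 (heB i1) (hsB i2) ?_ ?_
    · rw [hf.add_left, hze, hfee]
      simp
    · rw [hf.add_left, hx i1 i2 n12 _ (hzB i1) _ (hsB i2), hes]
      simp

theorem stabA_nonmax {n : ℕ} {F : Type*} [Field F] {Q : (Fin n → F) → F}
    {G : Subgroup (Matrix.GeneralLinearGroup (Fin n) F)}
    (hGiso : ∀ g ∈ G, ∀ x, Q ((g : Matrix (Fin n) (Fin n) F) *ᵥ x) = Q x)
    {t : ℕ} (D : Fin t → Submodule F (Fin n → F)) (ε : F)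
    (W : AddSubgroup (Fin n → F))
    (hW : W = AddSubgroup.closure {v | ∃ i, v ∈ D i ∧ Q v = ε})
    (c : Matrix.GeneralLinearGroup (Fin n) F) (hcG : c ∈ G)
    (hcS : ∀ v, (∃ i, v ∈ D i ∧ Q v = ε) → (c : Matrix (Fin n) (Fin n) F) *ᵥ v ∈ W)
    (hcS' : ∀ v, (∃ i, v ∈ D i ∧ Q v = ε) →
      ((c⁻¹ : Matrix.GeneralLinearGroup (Fin n) F) : Matrix (Fin n) (Fin n) F) *ᵥ v ∈ W)
    (hcD : c ∉ Cfsg.Geo.decompositionStabilizer D)
    (T : Matrix.GeneralLinearGroup (Fin n) F) (hTG : T ∈ G) (v₀ : Fin n → F)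
    (hv₀ : v₀ ∈ W) (hT : (T : Matrix (Fin n) (Fin n) F) *ᵥ v₀ ∉ W) :
    ∃ K : Subgroup (Matrix.GeneralLinearGroup (Fin n) F),
      Cfsg.Geo.decompositionStabilizer D ⊓ G < K ∧ K < G := by
  have hext : ∀ g : Matrix.GeneralLinearGroup (Fin n) F,
      (∀ v, (∃ i, v ∈ D i ∧ Q v = ε) → (g : Matrix (Fin n) (Fin n) F) *ᵥ v ∈ W) →
      ∀ w ∈ W, (g : Matrix (Fin n) (Fin n) F) *ᵥ w ∈ W := by
    intro g hg w hw
    rw [hW] at hw
    induction hw using AddSubgroup.closure_induction with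
    | mem x hx => exact hg x hx
    | zero => rw [Matrix.mulVec_zero]; exact W.zero_mem
    | add x y _ _ hx hy => rw [Matrix.mulVec_add]; exact W.add_mem hx hy
    | neg x _ hx => rw [Matrix.mulVec_neg]; exact W.neg_mem hx
  have hstab : ∀ g : Matrix.GeneralLinearGroup (Fin n) F,
      (∀ v ∈ W, (g : Matrix (Fin n) (Fin n) F) *ᵥ v ∈ W) →
      (∀ v ∈ W, ((g⁻¹ : Matrix.GeneralLinearGroup (Fin n) F) : Matrix (Fin n) (Fin n) F) *ᵥ v ∈ W) →
      g ∈ Cfsg.stabilizing (Cfsg.glToMat (Fin n) F) (W : Set (Fin n → F)) := by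
    intro g h1 h2 v
    constructor
    · exact h1 v
    · intro hgv
      have h3 := h2 _ hgv
      have e : ((g⁻¹ : Matrix.GeneralLinearGroup (Fin n) F) : Matrix (Fin n) (Fin n) F) *ᵥ
          ((Cfsg.glToMat (Fin n) F) g *ᵥ v) = v := Cfsg.Agent.S5643.inv_mv g v
      rw [e] at h3
      exact h3
  refine ⟨Cfsg.stabilizing (Cfsg.glToMat (Fin n) F) (W : Set (Fin n → F)) ⊓ G, ?_, ?_⟩
  · have hmapS : ∀ g ∈ Cfsg.Geo.decompositionStabilizer D ⊓ G, ∀ v,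
        (∃ i, v ∈ D i ∧ Q v = ε) → (g : Matrix (Fin n) (Fin n) F) *ᵥ v ∈ W := by
      rintro g ⟨hgs, hgG⟩ v ⟨i, hvD, hvQ⟩
      obtain ⟨σ, hσ⟩ := mem_stab_map hgs
      rw [hW]
      exact AddSubgroup.subset_closure ⟨σ i, hσ i v hvD, by rw [hGiso g hgG, hvQ]⟩
    refine lt_of_le_of_ne ?_ ?_
    · intro g hg
      exact ⟨hstab g (hext g (hmapS g hg)) (hext g⁻¹ (hmapS g⁻¹ (Subgroup.inv_mem _ hg))), hg.2⟩
    · intro heq
      have hcK : c ∈ Cfsg.stabilizing (Cfsg.glToMat (Fin n) F) (W : Set (Fin n → F)) ⊓ G :=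
        ⟨hstab c (hext c hcS) (hext c⁻¹ hcS'), hcG⟩
      rw [← heq] at hcK
      exact hcD hcK.1
  · refine lt_of_le_of_ne inf_le_right ?_
    intro heq
    rw [← heq] at hTG
    exact hT ((hTG.1 v₀).1 hv₀)

theorem exists_omega {F : Type*} [Field F] [Fintype F] (hc : Fintype.card F = 4) :
    ∃ ω : F, ω ≠ 0 ∧ ω ≠ 1 := by
  classical
  by_contra h
  push Not at h
  have hsub : (Finset.univ : Finset F) ⊆ {0, 1} := by
    intro a _
    by_cases ha : a = 0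
    · simp [ha]
    · simp [h a ha]
  have h1 := Finset.card_le_card hsub
  rw [Finset.card_univ, hc] at h1
  have h2 : ({0, 1} : Finset F).card ≤ 2 := Finset.card_le_two
  omega

theorem q4_fin {n : ℕ} {F : Type*} [Field F] [Fintype F] (hc : Fintype.card F = 4)
    (hn : 7 ≤ n) (Q : QuadraticForm F (Fin n → F))
    (hQ : (QuadraticMap.polarBilin Q).Nondegenerate)
    {t : ℕ} (D : Fin t → Submodule F (Fin n → F)) (ht : 4 ≤ t)
    (hnd : ∀ i, Cfsg.Geo.IsNondegenerateOn (QuadraticMap.polar (⇑Q)) (D i))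
    (hfr : ∀ i, Module.finrank F (D i) = 2)
    (horth : ∀ i j, i ≠ j → Cfsg.Geo.AreOrthogonalFor (QuadraticMap.polar (⇑Q)) (D i) (D j))
    (hplus : ∀ i, Cfsg.Geo.IsPlusTypeOn (⇑Q) (D i)) :
    ∃ K : Subgroup (Matrix.GeneralLinearGroup (Fin n) F),
      Cfsg.Geo.decompositionStabilizer D ⊓ Cfsg.Geo.omegaGL (⇑Q) < K ∧
        K < Cfsg.Geo.omegaGL (⇑Q) := by
  have hq := qf_of_quad Q hQ
  have hf := hq.sym
  have hG := sgGroupQ_quad hn Q hQ
  have vf := vfacts_quad hn Q hQ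
  have h2 : (2 : F) = 0 := two_eq_zero_of_card (m := 2) (by rw [hc]; rfl) (by omega)
  have h11 : (1 : F) + 1 = 0 := by linear_combination h2
  have h10 : (1 : F) ≠ 0 := one_ne_zero
  obtain ⟨ω, hω0, hω1⟩ := exists_omega hc
  have hcube : ∀ p : F, p ≠ 0 → p ^ 3 = 1 := by
    intro p hp
    have := FiniteField.pow_card_sub_one_eq_one p hp
    rw [hc] at this
    exact this
  have hω3 : ω ^ 3 = 1 := hcube ω hω0
  choose e d heB hdB hee hdd hed hco using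
    fun i => hyp_plane hq (D i) (hnd i) (hfr i) (hplus i)
  have hde : ∀ i, pf Q (d i) (e i) = 1 := fun i => by rw [s_symm hf, hed]
  have hfe : ∀ i, pf Q (e i) (e i) = 0 := fun i => f_sing hq (hee i)
  have hfd : ∀ i, pf Q (d i) (d i) = 0 := fun i => f_sing hq (hdd i)
  have hQc : ∀ i (α β : F), Q (α • e i + β • d i) = α * β := by
    intro i α β
    rw [hq.polar, hq.smul, hq.smul, hee, hdd, hf.smul_left, s_smul_right hf, hed]
    ring
  obtain ⟨z, hz⟩ : ∃ z : Fin t → (Fin n → F), z = fun i => e i + d i := ⟨_, rfl⟩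
  have hzi : ∀ i, z i = e i + d i := fun i => by rw [hz]
  have hzB : ∀ i, z i ∈ D i := fun i => by
    rw [hzi]
    exact (D i).add_mem (heB i) (hdB i)
  have hQz : ∀ i, Q (z i) = 1 := fun i => by
    rw [hzi, hq.polar, hee, hdd, hed]
    ring
  have hze : ∀ i, pf Q (z i) (e i) = 1 := fun i => by
    rw [hzi, hf.add_left, hfe, hde, zero_add]
  have hzd : ∀ i, pf Q (z i) (d i) = 1 := fun i => by
    rw [hzi, hf.add_left, hfd, hed, add_zero]
  have hx : ∀ i j, i ≠ j → ∀ v ∈ D i, ∀ w ∈ D j, pf Q v w = 0 := horth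
  have horth' : ∀ i j, i ≠ j → Cfsg.Geo.AreOrthogonalFor (pf Q) (D i) (D j) := horth
  obtain ⟨W, hW⟩ : ∃ W : AddSubgroup (Fin n → F),
    W = AddSubgroup.closure {v | ∃ i, v ∈ D i ∧ Q v = 1} := ⟨_, rfl⟩
  have hSW : ∀ v, (∃ i, v ∈ D i ∧ Q v = 1) → v ∈ W := by
    intro v hv
    rw [hW]
    exact AddSubgroup.subset_closure hv
  have hB0 : ∀ a : F, a * a = a → a = 0 ∨ a = 1 := by
    intro a ha
    have h3 : a * (a - 1) = 0 := by linear_combination ha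
    rcases mul_eq_zero.1 h3 with h | h
    · exact Or.inl h
    · exact Or.inr (sub_eq_zero.1 h)
  have hBadd : ∀ a b : F, a * a = a → b * b = b → (a + b) * (a + b) = a + b := by
    intro a b ha hb
    linear_combination ha + hb + a * b * h2
  have hBneg : ∀ a : F, a * a = a → (-a) * (-a) = -a := by
    intro a ha
    linear_combination ha + a * h2
  have hF1 : ∀ v w, (∃ i, v ∈ D i ∧ Q v = 1) → (∃ i, w ∈ D i ∧ Q w = 1) →
      pf Q v w * pf Q v w = pf Q v w := by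
    rintro v w ⟨i, hv, hvQ⟩ ⟨j, hw, hwQ⟩
    by_cases hij : i = j
    · subst hij
      have hv' := hco i v hv
      have hw' := hco i w hw
      obtain ⟨α, hα⟩ : ∃ α, α = pf Q v (d i) := ⟨_, rfl⟩
      obtain ⟨β, hβ⟩ : ∃ β, β = pf Q v (e i) := ⟨_, rfl⟩
      obtain ⟨α', hα'⟩ : ∃ α', α' = pf Q w (d i) := ⟨_, rfl⟩
      obtain ⟨β', hβ'⟩ : ∃ β', β' = pf Q w (e i) := ⟨_, rfl⟩
      rw [← hα, ← hβ] at hv'
      rw [← hα', ← hβ'] at hw'
      rw [hv', hQc] at hvQ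
      rw [hw', hQc] at hwQ
      have hfvw : pf Q v w = α * β' + β * α' := by
        rw [hv', hw', hf.add_left, hf.smul_left, hf.smul_left, f_add_right hf, f_add_right hf,
          s_smul_right hf, s_smul_right hf, s_smul_right hf, s_smul_right hf, hfe, hfd, hed, hde]
        ring
      obtain ⟨p, hp⟩ : ∃ p, p = α * β' := ⟨_, rfl⟩
      obtain ⟨r, hr⟩ : ∃ r, r = β * α' := ⟨_, rfl⟩
      have hpr : p * r = 1 := by
        rw [hp, hr]
        linear_combination α' * β' * hvQ + hwQ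
      have hp0 : p ≠ 0 := by
        intro h
        rw [h, zero_mul] at hpr
        exact h10 hpr.symm
      have hp3 := hcube p hp0
      have hrp : r = p ^ 2 := by linear_combination p ^ 2 * hpr - r * hp3
      rw [hfvw, ← hp, ← hr, hrp]
      linear_combination p ^ 3 * h2 + p * hp3
    · rw [hx i j hij v hv w hw, zero_mul]
  have hF2 : ∀ w ∈ W, ∀ v, (∃ i, v ∈ D i ∧ Q v = 1) → pf Q w v * pf Q w v = pf Q w v := by
    intro w hw v hv
    rw [hW] at hw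
    induction hw using AddSubgroup.closure_induction with
    | mem x hx => exact hF1 x v hx hv
    | zero => rw [f_zero_left hf, zero_mul]
    | add x y _ _ hx hy => rw [hf.add_left]; exact hBadd _ _ hx hy
    | neg x _ hx => rw [f_neg_left hf]; exact hBneg _ hx
  obtain ⟨i1, hi1⟩ : ∃ i1 : Fin t, i1 = ⟨0, by omega⟩ := ⟨_, rfl⟩
  obtain ⟨i2, hi2⟩ : ∃ i2 : Fin t, i2 = ⟨1, by omega⟩ := ⟨_, rfl⟩
  obtain ⟨i3, hi3⟩ : ∃ i3 : Fin t, i3 = ⟨2, by omega⟩ := ⟨_, rfl⟩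
  obtain ⟨i4, hi4⟩ : ∃ i4 : Fin t, i4 = ⟨3, by omega⟩ := ⟨_, rfl⟩
  have n12 : i1 ≠ i2 := by rw [hi1, hi2]; exact fin_ne _ _ (by decide)
  have n13 : i1 ≠ i3 := by rw [hi1, hi3]; exact fin_ne _ _ (by decide)
  have n14 : i1 ≠ i4 := by rw [hi1, hi4]; exact fin_ne _ _ (by decide)
  have n23 : i2 ≠ i3 := by rw [hi2, hi3]; exact fin_ne _ _ (by decide)
  have n24 : i2 ≠ i4 := by rw [hi2, hi4]; exact fin_ne _ _ (by decide)
  have n34 : i3 ≠ i4 := by rw [hi3, hi4]; exact fin_ne _ _ (by decide)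
  obtain ⟨u, hu⟩ : ∃ u, u = z i1 + z i2 := ⟨_, rfl⟩
  obtain ⟨y, hy⟩ : ∃ y, y = z i3 + z i4 := ⟨_, rfl⟩
  have hQu : Q u = 0 := by
    rw [hu, hq.polar, hQz, hQz, hx i1 i2 n12 _ (hzB i1) _ (hzB i2)]
    linear_combination h2
  have hQy : Q y = 0 := by
    rw [hy, hq.polar, hQz, hQz, hx i3 i4 n34 _ (hzB i3) _ (hzB i4)]
    linear_combination h2
  have hue : pf Q u (e i1) = 1 := by
    rw [hu, hf.add_left, hze, hx i2 i1 n12.symm _ (hzB i2) _ (heB i1), add_zero]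
  have hu0 : u ≠ 0 := by
    intro h
    rw [h, f_zero_left hf] at hue
    exact h10 hue.symm
  have hyu : pf Q y u = 0 := by
    rw [hy, hu, hf.add_left, f_add_right hf, f_add_right hf,
      hx i3 i1 n13.symm _ (hzB i3) _ (hzB i1), hx i3 i2 n23.symm _ (hzB i3) _ (hzB i2),
      hx i4 i1 n14.symm _ (hzB i4) _ (hzB i1), hx i4 i2 n24.symm _ (hzB i4) _ (hzB i2)]
    ring
  have hzW : ∀ i, z i ∈ W := fun i => hSW _ ⟨i, hzB i, hQz i⟩
  have huW : u ∈ W := by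
    rw [hu]
    exact W.add_mem (hzW i1) (hzW i2)
  have hyW : y ∈ W := by
    rw [hy]
    exact W.add_mem (hzW i3) (hzW i4)
  have hsm : ∀ (a : F) (x : Fin n → F), (a = 0 ∨ a = 1) → x ∈ W → a • x ∈ W := by
    rintro a x (rfl | rfl) hx
    · rw [zero_smul]
      exact W.zero_mem
    · rw [one_smul]
      exact hx
  have hrW : ∀ (r : Matrix.GeneralLinearGroup (Fin n) F) (y' : Fin n → F),
      IsRho Q (pf Q) r u y' → Q y' = 0 → y' ∈ W →
      ∀ v, (∃ i, v ∈ D i ∧ Q v = 1) → (r : Matrix (Fin n) (Fin n) F) *ᵥ v ∈ W := by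
    intro r y' hr hQy' hy'W v hv
    rw [hr v, hQy', zero_mul, zero_smul, sub_zero]
    exact W.sub_mem (W.add_mem (hSW v hv) (hsm _ _ (hB0 _ (hF2 u huW v hv)) hy'W))
      (hsm _ _ (hB0 _ (hF2 y' hy'W v hv)) huW)
  obtain ⟨c, hcG, hcr⟩ := isRho_ex hq vf hG u y hQu hu0 hyu
  have hcr' := isRho_inv hq hQu hyu hcr
  have hce : (c : Matrix (Fin n) (Fin n) F) *ᵥ e i1 = e i1 + y := by
    rw [hcr (e i1), hue, hQy]
    have : pf Q y (e i1) = 0 := by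
      rw [hy, hf.add_left, hx i3 i1 n13.symm _ (hzB i3) _ (heB i1),
        hx i4 i1 n14.symm _ (hzB i4) _ (heB i1), add_zero]
    rw [this]
    module
  have hcD : c ∉ Cfsg.Geo.decompositionStabilizer D := by
    intro hcs
    obtain ⟨σ, hσ⟩ := mem_stab_map hcs
    have h1 := hσ i1 _ (heB i1)
    rw [hce] at h1
    refine not_stab_of_two D horth' n13 (hdB i1) (heB i3) ?_ ?_ _ h1
    · rw [hf.add_left, hed, hy, hf.add_left, hx i3 i1 n13.symm _ (hzB i3) _ (hdB i1),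
        hx i4 i1 n14.symm _ (hzB i4) _ (hdB i1)]
      simp
    · rw [hf.add_left, hx i1 i3 n13 _ (heB i1) _ (heB i3), hy, hf.add_left, hze,
        hx i4 i3 n34.symm _ (hzB i4) _ (heB i3)]
      simp
  have hfee : pf Q (e i2) (e i1) = 0 := hx i2 i1 n12.symm _ (heB i2) _ (heB i1)
  have he0 : e i1 ≠ 0 := by
    intro h
    have := hed i1
    rw [h, f_zero_left hf] at this
    exact h10 this.symm
  obtain ⟨T, hTG, hTr⟩ := isRho_ex hq vf hG (e i1) (e i2) (hee i1) he0 hfee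
  have hTz : (T : Matrix (Fin n) (Fin n) F) *ᵥ z i1 = z i1 + e i2 := by
    rw [hTr (z i1), hee, s_symm hf (e i1), hze, hx i2 i1 n12.symm _ (heB i2) _ (hzB i1)]
    module
  refine stabA_nonmax hG.iso D 1 W hW c hcG (hrW c y hcr hQy hyW)
    (hrW c⁻¹ (-y) hcr' (by rw [Q_neg hq, hQy]) (W.neg_mem hyW)) hcD T hTG (z i1) (hzW i1) ?_
  rw [hTz]
  intro hmem
  obtain ⟨w, hw⟩ : ∃ w, w = (ω ^ 2) • e i2 + ω • d i2 := ⟨_, rfl⟩
  have hwB : w ∈ D i2 := by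
    rw [hw]
    exact (D i2).add_mem ((D i2).smul_mem _ (heB i2)) ((D i2).smul_mem _ (hdB i2))
  have hwQ : Q w = 1 := by
    rw [hw, hQc]
    linear_combination hω3
  have h3 := hF2 _ hmem w ⟨i2, hwB, hwQ⟩
  have h4 : pf Q (z i1 + e i2) w = ω := by
    rw [hf.add_left, hx i1 i2 n12 _ (hzB i1) _ hwB, hw, f_add_right hf, s_smul_right hf,
      s_smul_right hf, hfe, hed]
    ring
  rw [h4] at h3
  rcases hB0 ω h3 with h | h
  · exact hω0 h
  · exact hω1 h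

theorem hyp_four {n : ℕ} {F : Type*} [Field F] {Q : (Fin n → F) → F}
    {f : (Fin n → F) → (Fin n → F) → F} (hq : QF Q f) (B : Submodule F (Fin n → F))
    (hnd : Cfsg.Geo.IsNondegenerateOn f B) (hfr : Module.finrank F B = 4)
    (hplus : Cfsg.Geo.IsPlusTypeOn Q B) :
    ∃ e₁ d₁ e₂ d₂, e₁ ∈ B ∧ d₁ ∈ B ∧ e₂ ∈ B ∧ d₂ ∈ B ∧
      Q e₁ = 0 ∧ Q d₁ = 0 ∧ Q e₂ = 0 ∧ Q d₂ = 0 ∧
      f e₁ d₁ = 1 ∧ f e₂ d₂ = 1 ∧ f e₁ e₂ = 0 ∧ f e₁ d₂ = 0 ∧ f d₁ e₂ = 0 ∧ f d₁ d₂ = 0 ∧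
      ∀ v ∈ B, v = f v d₁ • e₁ + f v e₁ • d₁ + f v d₂ • e₂ + f v e₂ • d₂ := by
  have hf := hq.sym
  obtain ⟨U, hUB, hUs, hUr⟩ := hplus
  have hU2 : Module.finrank F U = 2 := by omega
  have hUne : U ≠ ⊥ := by
    intro h
    rw [h, finrank_bot] at hU2
    omega
  obtain ⟨e₁, he₁U, he₁0⟩ := Submodule.exists_mem_ne_zero_of_ne_bot hUne
  have hUU : ∀ x ∈ U, ∀ y ∈ U, f x y = 0 := by
    intro x hx y hy
    have h := hq.polar x y
    rw [hUs _ (U.add_mem hx hy), hUs x hx, hUs y hy] at h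
    linear_combination -h
  have hnle : ¬ U ≤ Submodule.span F {e₁} := by
    intro hle
    have := Submodule.finrank_mono hle
    rw [hU2, finrank_span_singleton he₁0] at this
    omega
  obtain ⟨e₂', he₂'U, he₂'n⟩ := SetLike.not_le_iff_exists.1 hnle
  have sp := (Cfsg.Agent.Lib.Helper28.ONdW.split_perp hf B hnd).symm hf
  obtain ⟨d₁, hd₁B, hd₁d₁, hd₁e₁⟩ := split_partner hq sp (hUB he₁U) he₁0 (hUs e₁ he₁U)
  have he₁d₁ : f e₁ d₁ = 1 := by rw [s_symm hf, hd₁e₁]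
  obtain ⟨e₂, he₂⟩ : ∃ e₂, e₂ = e₂' - f e₂' d₁ • e₁ := ⟨_, rfl⟩
  have he₂U : e₂ ∈ U := by
    rw [he₂]
    exact U.sub_mem he₂'U (U.smul_mem _ he₁U)
  have he₂0 : e₂ ≠ 0 := by
    intro h
    rw [he₂, sub_eq_zero] at h
    apply he₂'n
    rw [h]
    exact Submodule.smul_mem _ _ (Submodule.mem_span_singleton_self e₁)
  have he₂d₁ : f e₂ d₁ = 0 := by
    rw [he₂, f_sub_left hf, hf.smul_left, he₁d₁]
    ring
  have hd₁e₂ : f d₁ e₂ = 0 := by rw [s_symm hf, he₂d₁]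
  have he₁e₂ : f e₁ e₂ = 0 := hUU e₁ he₁U e₂ he₂U
  have hQe₁ : Q e₁ = 0 := hUs e₁ he₁U
  have hQe₂ : Q e₂ = 0 := hUs e₂ he₂U
  obtain ⟨d₂', hd₂'B, hd₂'Q, hd₂'e₂⟩ := split_partner hq sp (hUB he₂U) he₂0 (hUs e₂ he₂U)
  obtain ⟨α, hα⟩ : ∃ α, α = f d₂' d₁ := ⟨_, rfl⟩
  obtain ⟨β, hβ⟩ : ∃ β, β = f d₂' e₁ := ⟨_, rfl⟩
  obtain ⟨d₂, hd₂⟩ : ∃ d₂, d₂ = d₂' - α • e₁ - β • d₁ + (α * β) • e₂ := ⟨_, rfl⟩
  have hd₂B : d₂ ∈ B := by
    rw [hd₂]
    exact B.add_mem (B.sub_mem (B.sub_mem hd₂'B (B.smul_mem _ (hUB he₁U))) (B.smul_mem _ hd₁B))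
      (B.smul_mem _ (hUB he₂U))
  have hfe₁ : f e₁ e₁ = 0 := f_sing hq hQe₁
  have hfe₂ : f e₂ e₂ = 0 := f_sing hq hQe₂
  have hfd₁ : f d₁ d₁ = 0 := f_sing hq hd₁d₁
  have hQd₂ : Q d₂ = 0 := by
    rw [hd₂]
    simp only [hq.polar, Q_sub hq, hq.smul, f_sub_left hf, hf.smul_left, s_smul_right hf]
    rw [← hα, ← hβ, hd₂'Q, hQe₁, hQe₂, hd₁d₁, hd₂'e₂, he₁d₁, he₁e₂, hd₁e₂]
    ring
  have hd₂e₁ : f d₂ e₁ = 0 := by
    rw [hd₂]
    simp only [hf.add_left, f_sub_left hf, hf.smul_left]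
    rw [← hβ, hfe₁, hd₁e₁, s_symm hf e₂ e₁, he₁e₂]
    ring
  have hd₂d₁ : f d₂ d₁ = 0 := by
    rw [hd₂]
    simp only [hf.add_left, f_sub_left hf, hf.smul_left]
    rw [← hα, he₁d₁, hfd₁, he₂d₁]
    ring
  have hd₂e₂ : f d₂ e₂ = 1 := by
    rw [hd₂]
    simp only [hf.add_left, f_sub_left hf, hf.smul_left]
    rw [hd₂'e₂, he₁e₂, hd₁e₂, hfe₂]
    ring
  have he₂d₂ : f e₂ d₂ = 1 := by rw [s_symm hf, hd₂e₂]
  have he₁d₂ : f e₁ d₂ = 0 := by rw [s_symm hf, hd₂e₁]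
  have hd₁d₂ : f d₁ d₂ = 0 := by rw [s_symm hf, hd₂d₁]
  have hfd₂ : f d₂ d₂ = 0 := f_sing hq hQd₂
  have hpair : ∀ c0 c1 c2 c3 : F,
      f (c0 • e₁ + c1 • d₁ + c2 • e₂ + c3 • d₂) d₁ = c0 ∧
      f (c0 • e₁ + c1 • d₁ + c2 • e₂ + c3 • d₂) e₁ = c1 ∧
      f (c0 • e₁ + c1 • d₁ + c2 • e₂ + c3 • d₂) d₂ = c2 ∧
      f (c0 • e₁ + c1 • d₁ + c2 • e₂ + c3 • d₂) e₂ = c3 := by
    intro c0 c1 c2 c3
    simp only [hf.add_left, hf.smul_left]
    rw [he₁d₁, hfd₁, he₂d₁, hd₂d₁, hfe₁, hd₁e₁, s_symm hf e₂ e₁, he₁e₂, hd₂e₁, he₁d₂, hd₁d₂,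
      he₂d₂, hfd₂, hd₁e₂, hfe₂, hd₂e₂]
    refine ⟨?_, ?_, ?_, ?_⟩ <;> ring
  have hli : LinearIndependent F ![e₁, d₁, e₂, d₂] := by
    rw [Fintype.linearIndependent_iff]
    intro g hg
    have hg' : g 0 • e₁ + g 1 • d₁ + g 2 • e₂ + g 3 • d₂ = 0 := by
      rw [← hg, Fin.sum_univ_four]
      rfl
    obtain ⟨p0, p1, p2, p3⟩ := hpair (g 0) (g 1) (g 2) (g 3)
    rw [hg', f_zero_left hf] at p0 p1 p2 p3
    intro i
    fin_cases i
    · exact p0.symm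
    · exact p1.symm
    · exact p2.symm
    · exact p3.symm
  have hspan : Submodule.span F (Set.range ![e₁, d₁, e₂, d₂]) = B := by
    apply Submodule.eq_of_le_of_finrank_eq
    · rw [Submodule.span_le]
      rintro _ ⟨i, rfl⟩
      fin_cases i
      · exact hUB he₁U
      · exact hd₁B
      · exact hUB he₂U
      · exact hd₂B
    · rw [finrank_span_eq_card hli, hfr]
      rfl
  refine ⟨e₁, d₁, e₂, d₂, hUB he₁U, hd₁B, hUB he₂U, hd₂B, hQe₁, hd₁d₁, hQe₂, hQd₂, he₁d₁, he₂d₂,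
    he₁e₂, he₁d₂, hd₁e₂, hd₁d₂, fun v hv => ?_⟩
  rw [← hspan] at hv
  obtain ⟨c, hc⟩ := (Submodule.mem_span_range_iff_exists_fun F).1 hv
  have hc' : c 0 • e₁ + c 1 • d₁ + c 2 • e₂ + c 3 • d₂ = v := by
    rw [← hc, Fin.sum_univ_four]
    rfl
  obtain ⟨p0, p1, p2, p3⟩ := hpair (c 0) (c 1) (c 2) (c 3)
  rw [hc'] at p0 p1 p2 p3
  rw [p0, p1, p2, p3, hc']

theorem d_fin {n : ℕ} {F : Type*} [Field F] [Fintype F] (hc : Fintype.card F = 2)
    (hn : 7 ≤ n) (Q : QuadraticForm F (Fin n → F))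
    (hQ : (QuadraticMap.polarBilin Q).Nondegenerate)
    {t : ℕ} (D : Fin t → Submodule F (Fin n → F)) (ht : 2 ≤ t)
    (hnd : ∀ i, Cfsg.Geo.IsNondegenerateOn (QuadraticMap.polar (⇑Q)) (D i))
    (hfr : ∀ i, Module.finrank F (D i) = 4)
    (horth : ∀ i j, i ≠ j → Cfsg.Geo.AreOrthogonalFor (QuadraticMap.polar (⇑Q)) (D i) (D j))
    (hplus : ∀ i, Cfsg.Geo.IsPlusTypeOn (⇑Q) (D i)) :
    ∃ K : Subgroup (Matrix.GeneralLinearGroup (Fin n) F),
      Cfsg.Geo.decompositionStabilizer D ⊓ Cfsg.Geo.omegaGL (⇑Q) < K ∧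
        K < Cfsg.Geo.omegaGL (⇑Q) := by
  have hq := qf_of_quad Q hQ
  have hf := hq.sym
  have hG := sgGroupQ_quad hn Q hQ
  have vf := vfacts_quad hn Q hQ
  have h2 : (2 : F) = 0 := two_eq_zero_of_card (m := 1) (by rw [hc]; rfl) (by omega)
  have h11 : (1 : F) + 1 = 0 := by linear_combination h2
  have h10 : (1 : F) ≠ 0 := one_ne_zero
  have hvv : ∀ x : Fin n → F, x + x = 0 := by
    intro x
    rw [← two_smul F x, h2, zero_smul]
  have hneg : ∀ x : Fin n → F, -x = x := by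
    intro x
    rw [neg_eq_iff_add_eq_zero]
    exact hvv x
  choose e1 d1 e2 d2 he1B hd1B he2B hd2B hQe1 hQd1 hQe2 hQd2 he1d1 he2d2 he1e2 he1d2 hd1e2 hd1d2 hco
    using fun i => hyp_four hq (D i) (hnd i) (hfr i) (hplus i)
  have he1e1 : ∀ i, pf Q (e1 i) (e1 i) = 0 := fun i => f_sing hq (hQe1 i)
  have hd1d1 : ∀ i, pf Q (d1 i) (d1 i) = 0 := fun i => f_sing hq (hQd1 i)
  have he2e2 : ∀ i, pf Q (e2 i) (e2 i) = 0 := fun i => f_sing hq (hQe2 i)
  have hd2d2 : ∀ i, pf Q (d2 i) (d2 i) = 0 := fun i => f_sing hq (hQd2 i)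
  have hd1e1 : ∀ i, pf Q (d1 i) (e1 i) = 1 := fun i => by rw [s_symm hf, he1d1]
  have hd2e2 : ∀ i, pf Q (d2 i) (e2 i) = 1 := fun i => by rw [s_symm hf, he2d2]
  have he2e1 : ∀ i, pf Q (e2 i) (e1 i) = 0 := fun i => by rw [s_symm hf, he1e2]
  have hd2e1 : ∀ i, pf Q (d2 i) (e1 i) = 0 := fun i => by rw [s_symm hf, he1d2]
  have he2d1 : ∀ i, pf Q (e2 i) (d1 i) = 0 := fun i => by rw [s_symm hf, hd1e2]
  have hd2d1 : ∀ i, pf Q (d2 i) (d1 i) = 0 := fun i => by rw [s_symm hf, hd1d2]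
  have hQlc : ∀ i (c0 c1 c2 c3 : F),
      Q (c0 • e1 i + c1 • d1 i + c2 • e2 i + c3 • d2 i) = c0 * c1 + c2 * c3 := by
    intro i c0 c1 c2 c3
    simp only [hq.polar, hq.smul, hf.add_left, hf.smul_left, s_smul_right hf, hQe1, hQd1, hQe2,
      hQd2, he1d1, he1e2, he1d2, hd1e2, hd1d2, he2d2]
    ring
  obtain ⟨a, ha⟩ : ∃ a : Fin t → (Fin n → F), a = fun i => e1 i + d1 i + e2 i := ⟨_, rfl⟩
  obtain ⟨b, hb⟩ : ∃ b : Fin t → (Fin n → F), b = fun i => e1 i + d1 i + d2 i := ⟨_, rfl⟩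
  obtain ⟨m, hm⟩ : ∃ m : Fin t → (Fin n → F), m = fun i => e1 i + d1 i := ⟨_, rfl⟩
  have hai : ∀ i, a i = e1 i + d1 i + e2 i := fun i => by rw [ha]
  have hbi : ∀ i, b i = e1 i + d1 i + d2 i := fun i => by rw [hb]
  have hmi : ∀ i, m i = e1 i + d1 i := fun i => by rw [hm]
  have haB : ∀ i, a i ∈ D i := fun i => by
    rw [hai]
    exact (D i).add_mem ((D i).add_mem (he1B i) (hd1B i)) (he2B i)
  have hbB : ∀ i, b i ∈ D i := fun i => by
    rw [hbi]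
    exact (D i).add_mem ((D i).add_mem (he1B i) (hd1B i)) (hd2B i)
  have hmB : ∀ i, m i ∈ D i := fun i => by
    rw [hmi]
    exact (D i).add_mem (he1B i) (hd1B i)
  have hQa : ∀ i, Q (a i) = 1 := fun i => by
    have := hQlc i 1 1 1 0
    rw [one_smul, one_smul, one_smul, zero_smul, add_zero, ← hai] at this
    rw [this]
    ring
  have hQb : ∀ i, Q (b i) = 1 := fun i => by
    have := hQlc i 1 1 0 1
    rw [one_smul, one_smul, one_smul, zero_smul, add_zero, ← hbi] at this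
    rw [this]
    ring
  have hab : ∀ i, pf Q (a i) (b i) = 1 := fun i => by
    rw [hai, hbi]
    simp only [hf.add_left, f_add_right hf, he1e1, he1d1, he1e2, he1d2, hd1e1, hd1d1, hd1e2, hd1d2,
      he2e1, he2d1, he2e2, he2d2]
    linear_combination h2
  have hba : ∀ i, pf Q (b i) (a i) = 1 := fun i => by rw [s_symm hf, hab]
  have haa : ∀ i, pf Q (a i) (a i) = 0 := fun i => by rw [f_self hq, h2, zero_mul]
  have hbb : ∀ i, pf Q (b i) (b i) = 0 := fun i => by rw [f_self hq, h2, zero_mul]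
  have ham : ∀ i, pf Q (a i) (m i) = 0 := fun i => by
    rw [hai, hmi]
    simp only [hf.add_left, f_add_right hf, he1e1, he1d1, hd1e1, hd1d1, he2e1, he2d1]
    linear_combination h2
  have hbm : ∀ i, pf Q (b i) (m i) = 0 := fun i => by
    rw [hbi, hmi]
    simp only [hf.add_left, f_add_right hf, he1e1, he1d1, hd1e1, hd1d1, hd2e1, hd2d1]
    linear_combination h2
  have hme : ∀ i, pf Q (m i) (e1 i) = 1 := fun i => by
    rw [hmi, hf.add_left, he1e1, hd1e1, zero_add]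
  have hea : ∀ i, pf Q (e1 i) (a i) = 1 := fun i => by
    rw [hai, f_add_right hf, f_add_right hf, he1e1, he1d1, he1e2]
    ring
  have hx : ∀ i j, i ≠ j → ∀ v ∈ D i, ∀ w ∈ D j, pf Q v w = 0 := horth
  have horth' : ∀ i j, i ≠ j → Cfsg.Geo.AreOrthogonalFor (pf Q) (D i) (D j) := horth
  have hstar : ∀ i, ∀ v ∈ D i, Q v = 1 →
      (pf Q (a i) v = 0 ∧ pf Q (b i) v = 0) ∨
        v = pf Q (a i) v • b i + pf Q (b i) v • a i := by
    intro i v hv hvQ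
    have hv' := hco i v hv
    obtain ⟨x₁, hx₁⟩ : ∃ x, x = pf Q v (d1 i) := ⟨_, rfl⟩
    obtain ⟨y₁, hy₁⟩ : ∃ x, x = pf Q v (e1 i) := ⟨_, rfl⟩
    obtain ⟨x₂, hx₂⟩ : ∃ x, x = pf Q v (d2 i) := ⟨_, rfl⟩
    obtain ⟨y₂, hy₂⟩ : ∃ x, x = pf Q v (e2 i) := ⟨_, rfl⟩
    have hfa : pf Q (a i) v = x₁ + y₁ + y₂ := by
      rw [s_symm hf, hai, f_add_right hf, f_add_right hf, ← hy₁, ← hx₁, ← hy₂]
      ring
    have hfb : pf Q (b i) v = x₁ + y₁ + x₂ := by
      rw [s_symm hf, hbi, f_add_right hf, f_add_right hf, ← hy₁, ← hx₁, ← hx₂]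
      ring
    rw [← hx₁, ← hy₁, ← hx₂, ← hy₂] at hv'
    have hQv : Q v = x₁ * y₁ + x₂ * y₂ := by rw [hv', hQlc]
    rw [hQv] at hvQ
    rw [hfa, hfb]
    rcases card2 hc x₁ with rfl | rfl <;> rcases card2 hc y₁ with rfl | rfl <;>
      rcases card2 hc x₂ with rfl | rfl <;> rcases card2 hc y₂ with rfl | rfl
    all_goals first
      | (exfalso
         simp only [mul_zero, zero_mul, mul_one, add_zero, zero_add, h11] at hvQ
         first
           | exact h10 hvQ.symm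
           | exact h10 hvQ)
      | (left
         simp only [add_zero, zero_add, h11]
         exact ⟨trivial, trivial⟩)
      | (right
         rw [hv', hai, hbi]
         simp only [add_zero, zero_add, h11, one_smul, zero_smul]
         done)
      | skip
    right
    rw [hv', hai, hbi]
    simp only [zero_add, one_smul, zero_smul]
    have e : e1 i + d1 i + d2 i + (e1 i + d1 i + e2 i) =
        (e1 i + e1 i) + (d1 i + d1 i) + (e2 i + d2 i) := by abel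
    rw [e, hvv, hvv, zero_add, zero_add]
  obtain ⟨i1, hi1⟩ : ∃ i1 : Fin t, i1 = ⟨0, by omega⟩ := ⟨_, rfl⟩
  obtain ⟨i2, hi2⟩ : ∃ i2 : Fin t, i2 = ⟨1, by omega⟩ := ⟨_, rfl⟩
  have n12 : i1 ≠ i2 := by rw [hi1, hi2]; exact fin_ne _ _ (by decide)
  obtain ⟨u, hu⟩ : ∃ u, u = a i1 + a i2 := ⟨_, rfl⟩
  obtain ⟨y, hy⟩ : ∃ y, y = b i1 + b i2 := ⟨_, rfl⟩
  have hQu : Q u = 0 := by
    rw [hu, hq.polar, hQa, hQa, hx i1 i2 n12 _ (haB i1) _ (haB i2)]
    linear_combination h2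
  have hQy : Q y = 0 := by
    rw [hy, hq.polar, hQb, hQb, hx i1 i2 n12 _ (hbB i1) _ (hbB i2)]
    linear_combination h2
  have hub : pf Q u (b i1) = 1 := by
    rw [hu, hf.add_left, hab, hx i2 i1 n12.symm _ (haB i2) _ (hbB i1), add_zero]
  have hu0 : u ≠ 0 := by
    intro h
    rw [h, f_zero_left hf] at hub
    exact h10 hub.symm
  have hyu : pf Q y u = 0 := by
    rw [hy, hu, hf.add_left, f_add_right hf, f_add_right hf, hba, hba,
      hx i1 i2 n12 _ (hbB i1) _ (haB i2), hx i2 i1 n12.symm _ (hbB i2) _ (haB i1)]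
    linear_combination h2
  obtain ⟨c, hcG, hcr⟩ := isRho_ex hq vf hG u y hQu hu0 hyu
  have hcr' := isRho_inv hq hQu hyu hcr
  have hcinv : c⁻¹ = c := by
    rw [hneg] at hcr'
    exact isRho_unique hcr' hcr
  have hswap : ∀ j j', j ≠ j' → u = a j + a j' → y = b j + b j' → ∀ v ∈ D j, Q v = 1 →
      ∃ l, (c : Matrix (Fin n) (Fin n) F) *ᵥ v ∈ D l := by
    intro j j' hjj huj hyj v hv hvQ
    have h1 : pf Q u v = pf Q (a j) v := by
      rw [huj, hf.add_left, hx j' j hjj.symm _ (haB j') _ hv, add_zero]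
    have h2' : pf Q y v = pf Q (b j) v := by
      rw [hyj, hf.add_left, hx j' j hjj.symm _ (hbB j') _ hv, add_zero]
    rcases hstar j v hv hvQ with ⟨h3, h4⟩ | h3
    · refine ⟨j, ?_⟩
      rw [isRho_fix hcr (by rw [h1, h3]) (by rw [h2', h4])]
      exact hv
    · refine ⟨j', ?_⟩
      obtain ⟨α, hα⟩ : ∃ α, α = pf Q (a j) v := ⟨_, rfl⟩
      obtain ⟨β, hβ⟩ : ∃ β, β = pf Q (b j) v := ⟨_, rfl⟩
      rw [← hα, ← hβ] at h3
      rw [hcr v, h1, h2', ← hα, ← hβ, hQy, zero_mul, zero_smul, sub_zero, huj, hyj, h3]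
      have e : α • b j + β • a j + α • (b j + b j') - β • (a j + a j') =
          (α + α) • b j + (α • b j' - β • a j') := by module
      have hαα : α + α = 0 := by linear_combination α * h2
      rw [e, hαα, zero_smul, zero_add]
      exact (D j').sub_mem ((D j').smul_mem _ (hbB j')) ((D j').smul_mem _ (haB j'))
  have hcS : ∀ v, (∃ i, v ∈ D i ∧ Q v = 1) →
      ∃ i, (c : Matrix (Fin n) (Fin n) F) *ᵥ v ∈ D i := by
    rintro v ⟨i, hv, hvQ⟩
    by_cases h1 : i = i1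
    · subst h1
      exact hswap i i2 n12 hu hy v hv hvQ
    by_cases h2' : i = i2
    · subst h2'
      exact hswap i i1 n12.symm (by rw [hu, add_comm]) (by rw [hy, add_comm]) v hv hvQ
    refine ⟨i, ?_⟩
    rw [isRho_fix hcr]
    · exact hv
    · rw [hu, hf.add_left, hx i1 i (Ne.symm h1) _ (haB i1) _ hv,
        hx i2 i (Ne.symm h2') _ (haB i2) _ hv, add_zero]
    · rw [hy, hf.add_left, hx i1 i (Ne.symm h1) _ (hbB i1) _ hv,
        hx i2 i (Ne.symm h2') _ (hbB i2) _ hv, add_zero]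
  have hca : (c : Matrix (Fin n) (Fin n) F) *ᵥ a i1 = -a i2 := by
    have h1 : pf Q u (a i1) = 0 := by
      rw [hu, hf.add_left, haa, hx i2 i1 n12.symm _ (haB i2) _ (haB i1), add_zero]
    have h2' : pf Q y (a i1) = 1 := by
      rw [hy, hf.add_left, hba, hx i2 i1 n12.symm _ (hbB i2) _ (haB i1), add_zero]
    rw [hcr (a i1), h1, h2', hu]
    module
  have hcm : (c : Matrix (Fin n) (Fin n) F) *ᵥ m i1 = m i1 := by
    apply isRho_fix hcr
    · rw [hu, hf.add_left, ham, hx i2 i1 n12.symm _ (haB i2) _ (hmB i1), add_zero]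
    · rw [hy, hf.add_left, hbm, hx i2 i1 n12.symm _ (hbB i2) _ (hmB i1), add_zero]
  have hcD : c ∉ Cfsg.Geo.decompositionStabilizer D := by
    intro hcs
    obtain ⟨σ, hσ⟩ := mem_stab_map hcs
    have h1 := hσ i1 _ (haB i1)
    have h2' := hσ i1 _ (hmB i1)
    rw [hca] at h1
    rw [hcm] at h2'
    have e1' : σ i1 = i2 := by
      apply block_eq D horth' h1 (hbB i2)
      rw [f_neg_left hf, hab]
      simp
    have e2' : σ i1 = i1 := by
      apply block_eq D horth' h2' (he1B i1)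
      rw [hme]
      exact h10
    exact n12 (e2'.symm.trans e1')
  have hfee : pf Q (e1 i2) (e1 i1) = 0 := hx i2 i1 n12.symm _ (he1B i2) _ (he1B i1)
  have he0 : e1 i1 ≠ 0 := by
    intro h
    have := he1d1 i1
    rw [h, f_zero_left hf] at this
    exact h10 this.symm
  obtain ⟨T, hTG, hTr⟩ := isRho_ex hq vf hG (e1 i1) (e1 i2) (hQe1 i1) he0 hfee
  have hTa : (T : Matrix (Fin n) (Fin n) F) *ᵥ a i1 = a i1 + e1 i2 := by
    rw [hTr (a i1), hQe1, hea, hx i2 i1 n12.symm _ (he1B i2) _ (haB i1)]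
    module
  refine stabS_nonmax hG.iso D 1 c hcG hcS ?_ hcD T hTG (a i1) i1 (haB i1) (hQa i1) ?_
  · rw [hcinv]
    exact hcS
  · rw [hTa]
    refine not_stab_of_two D horth' n12 (hbB i1) (hd1B i2) ?_ ?_
    · rw [hf.add_left, hab, hx i2 i1 n12.symm _ (he1B i2) _ (hbB i1)]
      simp
    · rw [hf.add_left, hx i1 i2 n12 _ (haB i1) _ (hd1B i2), he1d1]
      simp

end Cfsg.Agent.Lib.Helper28.ODecEven
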