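import Cfsg.Agent.Lib.Helper28.ODecS

set_option autoImplicit false

open Cfsg

namespace Cfsg.Agent.Lib.Helper28.ODecOdd

open Matrix Cfsg.Agent.Lib.Helper28.HForm Cfsg.Agent.Lib.Helper28.OGen
  Cfsg.Agent.Lib.Helper28.OMax Cfsg.Agent.Lib.Helper28.OQ
  Cfsg.Agent.Lib.Helper28.OMax2 Cfsg.Agent.Lib.Helper28.OGenQ
  Cfsg.Agent.Lib.Helper28.ONdW Cfsg.Agent.Lib.Helper28.ONdR
  Cfsg.Agent.Lib.Helper28.OFrame Cfsg.Agent.Lib.Helper28.OPlane Cfsg.Agent.S0795
  Cfsg.Agent.Lib.Helper28.OFrameG Cfsg.Agent.Lib.Helper28.ODecS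

theorem card5 {F : Type*} [Field F] [Fintype F] (hq : Fintype.card F = 5) (a : F) :
    a = 0 ∨ a = 1 ∨ a = 2 ∨ a = 3 ∨ a = 4 := by
  have h1 : a ^ 5 = a := by
    rw [← hq]
    exact FiniteField.pow_card a
  have h5 : (5 : F) = 0 := by
    have := FiniteField.cast_card_eq_zero F
    rw [hq] at this
    exact_mod_cast this
  have h3 : a * ((a - 1) * ((a - 2) * ((a - 3) * (a - 4)))) = 0 := by
    linear_combination h1 + (-2 * a ^ 4 + 7 * a ^ 3 - 10 * a ^ 2 + 5 * a) * h5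
  rcases mul_eq_zero.1 h3 with h | h
  · exact Or.inl h
  rcases mul_eq_zero.1 h with h | h
  · exact Or.inr (Or.inl (sub_eq_zero.1 h))
  rcases mul_eq_zero.1 h with h | h
  · exact Or.inr (Or.inr (Or.inl (sub_eq_zero.1 h)))
  rcases mul_eq_zero.1 h with h | h
  · exact Or.inr (Or.inr (Or.inr (Or.inl (sub_eq_zero.1 h))))
  · exact Or.inr (Or.inr (Or.inr (Or.inr (sub_eq_zero.1 h))))

theorem five_eq_zero5 {F : Type*} [Field F] [Fintype F] (hq : Fintype.card F = 5) :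
    (5 : F) = 0 := by
  have := FiniteField.cast_card_eq_zero F
  rw [hq] at this
  exact_mod_cast this

theorem two_ne_zero5 {F : Type*} [Field F] [Fintype F] (hq : Fintype.card F = 5) :
    (2 : F) ≠ 0 := by
  intro h
  have h5 := five_eq_zero5 hq
  have : (1 : F) = 0 := by linear_combination h5 - 2 * h
  exact one_ne_zero this

theorem fin_ne {t : ℕ} {a b : ℕ} (ha : a < t) (hb : b < t) (hab : a ≠ b) :
    (⟨a, ha⟩ : Fin t) ≠ ⟨b, hb⟩ := fun e => hab (Fin.mk.inj e)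

theorem hyp3_fin {n : ℕ} {F : Type*} [Field F] [Fintype F] (hc : Fintype.card F = 3)
    (hn : 7 ≤ n) (Q : QuadraticForm F (Fin n → F))
    (hQ : (QuadraticMap.polarBilin Q).Nondegenerate)
    {t : ℕ} (D : Fin t → Submodule F (Fin n → F)) (ht : 6 ≤ t)
    (hnd : ∀ i, Cfsg.Geo.IsNondegenerateOn (QuadraticMap.polar (⇑Q)) (D i))
    (hfr : ∀ i, Module.finrank F (D i) = 2)
    (horth : ∀ i j, i ≠ j → Cfsg.Geo.AreOrthogonalFor (QuadraticMap.polar (⇑Q)) (D i) (D j))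
    (hiso : ∀ i j, Cfsg.Geo.AreIsometricFor (⇑Q) (D i) (D j))
    (hplus : Cfsg.Geo.IsPlusTypeOn (⇑Q) (D ⟨0, by omega⟩)) :
    ∃ K : Subgroup (Matrix.GeneralLinearGroup (Fin n) F),
      Cfsg.Geo.decompositionStabilizer D ⊓ Cfsg.Geo.omegaGL (⇑Q) < K ∧
        K < Cfsg.Geo.omegaGL (⇑Q) := by
  have hq := qf_of_quad Q hQ
  have hf := hq.sym
  have hG := sgGroupQ_quad hn Q hQ
  have h2 := two_ne_zero3 hc
  have h3 := three_eq_zero3 hc
  obtain ⟨i0, hi0⟩ : ∃ i0 : Fin t, i0 = ⟨0, by omega⟩ := ⟨_, rfl⟩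
  rw [← hi0] at hplus
  obtain ⟨e, s, heB, hsB, hee, hss, hes, hco⟩ := hyp_plane hq (D i0) (hnd i0) (hfr i0) hplus
  have hse : pf Q s e = 1 := by rw [s_symm hf, hes]
  have hfe : pf Q e e = 0 := f_sing hq hee
  have hfs : pf Q s s = 0 := f_sing hq hss
  have hQc : ∀ α β : F, Q (α • e + β • s) = α * β := by
    intro α β
    rw [hq.polar, hq.smul, hq.smul, hee, hss, hf.smul_left, s_smul_right hf, hes]
    ring
  obtain ⟨x, hx⟩ : ∃ x, x = e + s := ⟨_, rfl⟩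
  obtain ⟨y, hy⟩ : ∃ y, y = e - s := ⟨_, rfl⟩
  have hxB : x ∈ D i0 := by
    rw [hx]
    exact (D i0).add_mem heB hsB
  have hyB : y ∈ D i0 := by
    rw [hy]
    exact (D i0).sub_mem heB hsB
  have hQx : Q x = 1 := by
    have := hQc 1 1
    rw [one_smul, one_smul, ← hx] at this
    rw [this, mul_one]
  have hyx : pf Q y x = 0 := by
    rw [hy, hx, f_sub_left hf, f_add_right hf, f_add_right hf, hfe, hes, hse, hfs]
    ring
  have hy0 : y ≠ 0 := by
    intro h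
    have h1 : pf Q y s = 0 := by rw [h, f_zero_left hf]
    rw [hy, f_sub_left hf, hes, hfs] at h1
    exact one_ne_zero (by linear_combination h1)
  have hbP : ∀ v ∈ D i0, Q v = 1 → ∃ j : Fin 1, v = ![x] j ∨ v = -![x] j := by
    intro v hv hvQ
    have hv' := hco v hv
    obtain ⟨α, hα⟩ : ∃ α, α = pf Q v s := ⟨_, rfl⟩
    obtain ⟨β, hβ⟩ : ∃ β, β = pf Q v e := ⟨_, rfl⟩
    rw [← hα, ← hβ] at hv'
    rw [hv', hQc] at hvQ
    refine ⟨0, ?_⟩
    show v = x ∨ v = -x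
    have h10 : (1 : F) ≠ 0 := one_ne_zero
    rw [hv', hx]
    rcases card3 hc α with rfl | rfl | rfl <;> rcases card3 hc β with rfl | rfl | rfl <;>
    first
      | (exfalso; exact h10 (by linear_combination -hvQ))
      | (exfalso; exact h10 (by linear_combination hvQ))
      | (exfalso; exact h10 (by linear_combination -hvQ + h3))
      | (exfalso; exact h10 (by linear_combination hvQ + h3))
      | (left; module)
      | (right; module)
  obtain ⟨i1, hi1⟩ : ∃ i1 : Fin t, i1 = ⟨1, by omega⟩ := ⟨_, rfl⟩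
  obtain ⟨i2, hi2⟩ : ∃ i2 : Fin t, i2 = ⟨2, by omega⟩ := ⟨_, rfl⟩
  obtain ⟨i3, hi3⟩ : ∃ i3 : Fin t, i3 = ⟨3, by omega⟩ := ⟨_, rfl⟩
  obtain ⟨i4, hi4⟩ : ∃ i4 : Fin t, i4 = ⟨4, by omega⟩ := ⟨_, rfl⟩
  obtain ⟨i5, hi5⟩ : ∃ i5 : Fin t, i5 = ⟨5, by omega⟩ := ⟨_, rfl⟩
  have n01 : i0 ≠ i1 := by rw [hi0, hi1]; exact fin_ne _ _ (by decide)
  have n02 : i0 ≠ i2 := by rw [hi0, hi2]; exact fin_ne _ _ (by decide)
  have n03 : i0 ≠ i3 := by rw [hi0, hi3]; exact fin_ne _ _ (by decide)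
  have n04 : i0 ≠ i4 := by rw [hi0, hi4]; exact fin_ne _ _ (by decide)
  have n05 : i0 ≠ i5 := by rw [hi0, hi5]; exact fin_ne _ _ (by decide)
  have n12 : i1 ≠ i2 := by rw [hi1, hi2]; exact fin_ne _ _ (by decide)
  have n13 : i1 ≠ i3 := by rw [hi1, hi3]; exact fin_ne _ _ (by decide)
  have n14 : i1 ≠ i4 := by rw [hi1, hi4]; exact fin_ne _ _ (by decide)
  have n15 : i1 ≠ i5 := by rw [hi1, hi5]; exact fin_ne _ _ (by decide)
  have n23 : i2 ≠ i3 := by rw [hi2, hi3]; exact fin_ne _ _ (by decide)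
  have n24 : i2 ≠ i4 := by rw [hi2, hi4]; exact fin_ne _ _ (by decide)
  have n25 : i2 ≠ i5 := by rw [hi2, hi5]; exact fin_ne _ _ (by decide)
  have n34 : i3 ≠ i4 := by rw [hi3, hi4]; exact fin_ne _ _ (by decide)
  have n35 : i3 ≠ i5 := by rw [hi3, hi5]; exact fin_ne _ _ (by decide)
  have n45 : i4 ≠ i5 := by rw [hi4, hi5]; exact fin_ne _ _ (by decide)
  have pr : ∀ {a b : Fin t}, a ≠ b → ((a, 0) : Fin t × Fin 1) ≠ (b, 0) :=
    fun h e => h (congrArg Prod.fst e)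
  refine frame_blocks_g (k := 1) hq h2 hG (fun w o hw hoo hwo => rp_odd h2 Q w o hw hoo hwo)
    D hnd horth hiso i0 ![x] ?_ 1 one_ne_zero ?_ ?_ hbP
    (i0, 0) (i1, 0) (i2, 0) (i3, 0) (pr n01) (pr n02) (pr n03) (pr n12) (pr n13) (pr n23)
    rfl (fun h => n01 h.symm) (fun h => n02 h.symm) (fun h => n03 h.symm)
    y hy0 hyB ?_ ?_
  · intro j
    fin_cases j
    exact hxB
  · intro j
    fin_cases j
    exact hQx
  · intro j j' hjj
    exact absurd (Subsingleton.elim j j') hjj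
  · exact hyx
  · intro a haQ hao
    exact frame_wit3 hq h2 h3 hG a 1 one_ne_zero haQ hao (i0, 0) (i1, 0) (i2, 0) (i3, 0) (i4, 0)
      (i5, 0) (pr n01) (pr n02) (pr n03) (pr n04) (pr n05) (pr n12) (pr n13) (pr n14) (pr n15)
      (pr n23) (pr n24) (pr n25) (pr n34) (pr n35) (pr n45)

theorem hyp5_fin {n : ℕ} {F : Type*} [Field F] [Fintype F] (hc : Fintype.card F = 5)
    (hn : 7 ≤ n) (Q : QuadraticForm F (Fin n → F))
    (hQ : (QuadraticMap.polarBilin Q).Nondegenerate)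
    {t : ℕ} (D : Fin t → Submodule F (Fin n → F)) (ht : 4 ≤ t)
    (hnd : ∀ i, Cfsg.Geo.IsNondegenerateOn (QuadraticMap.polar (⇑Q)) (D i))
    (hfr : ∀ i, Module.finrank F (D i) = 2)
    (horth : ∀ i j, i ≠ j → Cfsg.Geo.AreOrthogonalFor (QuadraticMap.polar (⇑Q)) (D i) (D j))
    (hiso : ∀ i j, Cfsg.Geo.AreIsometricFor (⇑Q) (D i) (D j))
    (hplus : Cfsg.Geo.IsPlusTypeOn (⇑Q) (D ⟨0, by omega⟩)) :
    ∃ K : Subgroup (Matrix.GeneralLinearGroup (Fin n) F),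
      Cfsg.Geo.decompositionStabilizer D ⊓ Cfsg.Geo.omegaGL (⇑Q) < K ∧
        K < Cfsg.Geo.omegaGL (⇑Q) := by
  have hq := qf_of_quad Q hQ
  have hf := hq.sym
  have hG := sgGroupQ_quad hn Q hQ
  have h2 := two_ne_zero5 hc
  have h5 := five_eq_zero5 hc
  obtain ⟨i0, hi0⟩ : ∃ i0 : Fin t, i0 = ⟨0, by omega⟩ := ⟨_, rfl⟩
  rw [← hi0] at hplus
  obtain ⟨e, s, heB, hsB, hee, hss, hes, hco⟩ := hyp_plane hq (D i0) (hnd i0) (hfr i0) hplus
  have hse : pf Q s e = 1 := by rw [s_symm hf, hes]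
  have hfe : pf Q e e = 0 := f_sing hq hee
  have hfs : pf Q s s = 0 := f_sing hq hss
  have hQc : ∀ α β : F, Q (α • e + β • s) = α * β := by
    intro α β
    rw [hq.polar, hq.smul, hq.smul, hee, hss, hf.smul_left, s_smul_right hf, hes]
    ring
  obtain ⟨x, hx⟩ : ∃ x, x = e + s := ⟨_, rfl⟩
  obtain ⟨y, hy⟩ : ∃ y, y = (2 : F) • e + (3 : F) • s := ⟨_, rfl⟩
  have hxB : x ∈ D i0 := by
    rw [hx]
    exact (D i0).add_mem heB hsB
  have hyB : y ∈ D i0 := by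
    rw [hy]
    exact (D i0).add_mem ((D i0).smul_mem _ heB) ((D i0).smul_mem _ hsB)
  have hQx : Q x = 1 := by
    have := hQc 1 1
    rw [one_smul, one_smul, ← hx] at this
    rw [this, mul_one]
  have hQy : Q y = 1 := by
    rw [hy, hQc]
    linear_combination h5
  have hyx : pf Q y x = 0 := by
    rw [hy, hx, hf.add_left, hf.smul_left, hf.smul_left, f_add_right hf, f_add_right hf, hfe, hes,
      hse, hfs]
    linear_combination h5
  have hxy : pf Q x y = 0 := by rw [s_symm hf, hyx]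
  have hy0 : y ≠ 0 := by
    intro h
    rw [h, Q_zero hq] at hQy
    exact one_ne_zero hQy.symm
  have hbP : ∀ v ∈ D i0, Q v = 1 → ∃ j : Fin 2, v = ![x, y] j ∨ v = -![x, y] j := by
    intro v hv hvQ
    have hv' := hco v hv
    obtain ⟨α, hα⟩ : ∃ α, α = pf Q v s := ⟨_, rfl⟩
    obtain ⟨β, hβ⟩ : ∃ β, β = pf Q v e := ⟨_, rfl⟩
    rw [← hα, ← hβ] at hv'
    rw [hv', hQc] at hvQ
    have h10 : (1 : F) ≠ 0 := one_ne_zero
    have hk : ∀ k : F, k * (5 : F) = 0 := fun k => by rw [h5, mul_zero]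
    have key : (α = 1 ∧ β = 1) ∨ (α = 2 ∧ β = 3) ∨ (α = 3 ∧ β = 2) ∨ (α = 4 ∧ β = 4) := by
      rcases card5 hc α with rfl | rfl | rfl | rfl | rfl
      · exfalso
        exact h10 (by linear_combination -hvQ)
      · left
        exact ⟨rfl, by linear_combination hvQ⟩
      · right; left
        exact ⟨rfl, by linear_combination 3 * hvQ - β * h5⟩
      · right; right; left
        exact ⟨rfl, by linear_combination 2 * hvQ - β * h5⟩
      · right; right; right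
        exact ⟨rfl, by linear_combination 4 * hvQ - 3 * β * h5⟩
    rcases key with ⟨rfl, rfl⟩ | ⟨rfl, rfl⟩ | ⟨rfl, rfl⟩ | ⟨rfl, rfl⟩
    · refine ⟨0, Or.inl ?_⟩
      show v = x
      rw [hv', hx]
      module
    · refine ⟨1, Or.inl ?_⟩
      show v = y
      rw [hv', hy]
    · refine ⟨1, Or.inr ?_⟩
      show v = -y
      rw [hv', hy]
      have e1 : (3 : F) = -2 := by linear_combination h5
      have e2 : (2 : F) = -3 := by linear_combination h5
      rw [neg_add, ← neg_smul, ← neg_smul, ← e1, ← e2]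
    · refine ⟨0, Or.inr ?_⟩
      show v = -x
      rw [hv', hx]
      have e1 : (4 : F) = -1 := by linear_combination h5
      rw [e1]
      module
  obtain ⟨i1, hi1⟩ : ∃ i1 : Fin t, i1 = ⟨1, by omega⟩ := ⟨_, rfl⟩
  obtain ⟨i2, hi2⟩ : ∃ i2 : Fin t, i2 = ⟨2, by omega⟩ := ⟨_, rfl⟩
  obtain ⟨i3, hi3⟩ : ∃ i3 : Fin t, i3 = ⟨3, by omega⟩ := ⟨_, rfl⟩
  have n01 : i0 ≠ i1 := by rw [hi0, hi1]; exact fin_ne _ _ (by decide)
  have n02 : i0 ≠ i2 := by rw [hi0, hi2]; exact fin_ne _ _ (by decide)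
  have n03 : i0 ≠ i3 := by rw [hi0, hi3]; exact fin_ne _ _ (by decide)
  have n12 : i1 ≠ i2 := by rw [hi1, hi2]; exact fin_ne _ _ (by decide)
  have n13 : i1 ≠ i3 := by rw [hi1, hi3]; exact fin_ne _ _ (by decide)
  have n23 : i2 ≠ i3 := by rw [hi2, hi3]; exact fin_ne _ _ (by decide)
  have pr : ∀ {a b : Fin t}, a ≠ b → ((a, 0) : Fin t × Fin 2) ≠ (b, 0) :=
    fun h e => h (congrArg Prod.fst e)
  refine frame_blocks_g (k := 2) hq h2 hG (fun w o hw hoo hwo => rp_odd h2 Q w o hw hoo hwo)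
    D hnd horth hiso i0 ![x, y] ?_ 1 one_ne_zero ?_ ?_ hbP
    (i0, 0) (i1, 0) (i2, 0) (i3, 0) (pr n01) (pr n02) (pr n03) (pr n12) (pr n13) (pr n23)
    rfl (fun h => n01 h.symm) (fun h => n02 h.symm) (fun h => n03 h.symm)
    y hy0 hyB ?_ ?_
  · intro j
    fin_cases j
    · exact hxB
    · exact hyB
  · intro j
    fin_cases j
    · exact hQx
    · exact hQy
  · intro j j' hjj
    fin_cases j <;> fin_cases j'
    · exact absurd rfl hjj
    · exact hxy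
    · exact hyx
    · exact absurd rfl hjj
  · exact hyx
  · intro a haQ hao
    exact frame_wit5 hq h2 2 (by linear_combination h5) hG a 1 one_ne_zero haQ hao
      (i0, 0) (i1, 0) (i2, 0) (i3, 0) (pr n01) (pr n02) (pr n03) (pr n12) (pr n13) (pr n23)

end Cfsg.Agent.Lib.Helper28.ODecOdd
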