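import Cfsg.Agent.Lib.Helper28.OFrameG

set_option autoImplicit false

open Cfsg

namespace Cfsg.Agent.Lib.Helper28.ODecS

open Matrix Cfsg.Agent.Lib.Helper28.HForm Cfsg.Agent.Lib.Helper28.OGen
  Cfsg.Agent.Lib.Helper28.OMax Cfsg.Agent.Lib.Helper28.OQ
  Cfsg.Agent.Lib.Helper28.OMax2 Cfsg.Agent.Lib.Helper28.OIwa Cfsg.Agent.Lib.Helper28.ONd

variable {n : ℕ} {F : Type*} [Field F] {Q : (Fin n → F) → F}
  {f : (Fin n → F) → (Fin n → F) → F}

theorem hyp_plane (hq : QF Q f) (B : Submodule F (Fin n → F))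
    (hnd : Cfsg.Geo.IsNondegenerateOn f B) (hfr : Module.finrank F B = 2)
    (hplus : Cfsg.Geo.IsPlusTypeOn Q B) :
    ∃ e s, e ∈ B ∧ s ∈ B ∧ Q e = 0 ∧ Q s = 0 ∧ f e s = 1 ∧
      ∀ v ∈ B, v = f v s • e + f v e • s := by
  have hf := hq.sym
  obtain ⟨U, hUB, hUs, hUr⟩ := hplus
  have hU1 : Module.finrank F U = 1 := by omega
  have hUne : U ≠ ⊥ := by
    intro h
    rw [h, finrank_bot] at hU1
    omega
  obtain ⟨e, heU, he0⟩ := Submodule.exists_mem_ne_zero_of_ne_bot hUne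
  have heB : e ∈ B := hUB heU
  have hee : Q e = 0 := hUs e heU
  have sp := (Cfsg.Agent.Lib.Helper28.ONdW.split_perp hf B hnd).symm hf
  obtain ⟨s, hsB, hss, hse⟩ := split_partner hq sp heB he0 hee
  have hes : f e s = 1 := by rw [s_symm hf, hse]
  have hfe : f e e = 0 := f_sing hq hee
  have hfs : f s s = 0 := f_sing hq hss
  have hli : LinearIndependent F ![e, s] := by
    rw [LinearIndependent.pair_iff]
    intro α β hαβ
    have h1 : f (α • e + β • s) s = 0 := by rw [hαβ, f_zero_left hf]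
    have h2 : f (α • e + β • s) e = 0 := by rw [hαβ, f_zero_left hf]
    rw [hf.add_left, hf.smul_left, hf.smul_left, hes, hfs] at h1
    rw [hf.add_left, hf.smul_left, hf.smul_left, hfe, hse] at h2
    constructor
    · linear_combination h1
    · linear_combination h2
  have hspan : Submodule.span F (Set.range ![e, s]) = B := by
    apply Submodule.eq_of_le_of_finrank_eq
    · rw [Submodule.span_le]
      rintro _ ⟨i, rfl⟩
      fin_cases i
      · exact heB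
      · exact hsB
    · rw [finrank_span_eq_card hli, hfr]
      rfl
  refine ⟨e, s, heB, hsB, hee, hss, hes, fun v hv => ?_⟩
  rw [← hspan] at hv
  obtain ⟨c, hc⟩ := (Submodule.mem_span_range_iff_exists_fun F).1 hv
  rw [Fin.sum_univ_two] at hc
  simp only [Matrix.cons_val_zero, Matrix.cons_val_one] at hc
  rw [← hc, hf.add_left, hf.add_left, hf.smul_left, hf.smul_left, hf.smul_left, hf.smul_left,
    hes, hfs, hfe, hse]
  simp

theorem stabS_nonmax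
    {G : Subgroup (Matrix.GeneralLinearGroup (Fin n) F)}
    (hGiso : ∀ g ∈ G, ∀ x, Q ((g : Matrix (Fin n) (Fin n) F) *ᵥ x) = Q x)
    {t : ℕ} (D : Fin t → Submodule F (Fin n → F)) (ε : F)
    (c : Matrix.GeneralLinearGroup (Fin n) F) (hcG : c ∈ G)
    (hcS : ∀ v, (∃ i, v ∈ D i ∧ Q v = ε) → ∃ i, (c : Matrix (Fin n) (Fin n) F) *ᵥ v ∈ D i)
    (hcS' : ∀ v, (∃ i, v ∈ D i ∧ Q v = ε) →
      ∃ i, ((c⁻¹ : Matrix.GeneralLinearGroup (Fin n) F) : Matrix (Fin n) (Fin n) F) *ᵥ v ∈ D i)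
    (hcD : c ∉ Cfsg.Geo.decompositionStabilizer D)
    (T : Matrix.GeneralLinearGroup (Fin n) F) (hTG : T ∈ G) (v₀ : Fin n → F) (i₀ : Fin t)
    (hv₀ : v₀ ∈ D i₀) (hv₀Q : Q v₀ = ε)
    (hT : ∀ i, (T : Matrix (Fin n) (Fin n) F) *ᵥ v₀ ∉ D i) :
    ∃ K : Subgroup (Matrix.GeneralLinearGroup (Fin n) F),
      Cfsg.Geo.decompositionStabilizer D ⊓ G < K ∧ K < G := by
  obtain ⟨S, hS⟩ : ∃ S : Set (Fin n → F), S = {v | ∃ i, v ∈ D i ∧ Q v = ε} := ⟨_, rfl⟩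
  have hSmem : ∀ v, v ∈ S ↔ ∃ i, v ∈ D i ∧ Q v = ε := by
    intro v
    rw [hS]
    rfl
  have hstab : ∀ g : Matrix.GeneralLinearGroup (Fin n) F,
      (∀ v ∈ S, (g : Matrix (Fin n) (Fin n) F) *ᵥ v ∈ S) →
      (∀ v ∈ S, ((g⁻¹ : Matrix.GeneralLinearGroup (Fin n) F) : Matrix (Fin n) (Fin n) F) *ᵥ v ∈ S) →
      g ∈ Cfsg.stabilizing (Cfsg.glToMat (Fin n) F) S := by
    intro g h1 h2 v
    constructor
    · exact h1 v
    · intro hgv
      have h3 := h2 _ hgv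
      have e : ((g⁻¹ : Matrix.GeneralLinearGroup (Fin n) F) : Matrix (Fin n) (Fin n) F) *ᵥ
          ((Cfsg.glToMat (Fin n) F) g *ᵥ v) = v := Cfsg.Agent.S5643.inv_mv g v
      rw [e] at h3
      exact h3
  refine ⟨Cfsg.stabilizing (Cfsg.glToMat (Fin n) F) S ⊓ G, ?_, ?_⟩
  · have hmapS : ∀ g ∈ Cfsg.Geo.decompositionStabilizer D ⊓ G, ∀ v ∈ S,
        (g : Matrix (Fin n) (Fin n) F) *ᵥ v ∈ S := by
      rintro g ⟨⟨σ, hσ⟩, hgG⟩ v hv
      obtain ⟨i, hvD, hvQ⟩ := (hSmem v).1 hv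
      refine (hSmem _).2 ⟨σ i, ?_, by rw [hGiso g hgG, hvQ]⟩
      rw [← hσ i]
      exact ⟨v, hvD, by rw [Matrix.toLin'_apply]⟩
    refine lt_of_le_of_ne ?_ ?_
    · intro g hg
      exact ⟨hstab g (hmapS g hg) (hmapS g⁻¹ (Subgroup.inv_mem _ hg)), hg.2⟩
    · intro heq
      have hcK : c ∈ Cfsg.stabilizing (Cfsg.glToMat (Fin n) F) S ⊓ G := by
        refine ⟨hstab c ?_ ?_, hcG⟩
        · intro v hv
          obtain ⟨i, hi⟩ := hcS v ((hSmem v).1 hv)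
          obtain ⟨i', -, hvQ⟩ := (hSmem v).1 hv
          exact (hSmem _).2 ⟨i, hi, by rw [hGiso c hcG, hvQ]⟩
        · intro v hv
          obtain ⟨i, hi⟩ := hcS' v ((hSmem v).1 hv)
          obtain ⟨i', -, hvQ⟩ := (hSmem v).1 hv
          exact (hSmem _).2 ⟨i, hi, by rw [hGiso c⁻¹ (G.inv_mem hcG), hvQ]⟩
      rw [← heq] at hcK
      exact hcD hcK.1
  · refine lt_of_le_of_ne inf_le_right ?_
    intro heq
    rw [← heq] at hTG
    have h1 : v₀ ∈ S := (hSmem _).2 ⟨i₀, hv₀, hv₀Q⟩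
    obtain ⟨i, hi, -⟩ := (hSmem _).1 ((hTG.1 v₀).1 h1)
    exact hT i hi

theorem block_eq {t : ℕ} (D : Fin t → Submodule F (Fin n → F))
    (horth : ∀ i j, i ≠ j → Cfsg.Geo.AreOrthogonalFor f (D i) (D j))
    {i j : Fin t} {v w : Fin n → F} (hv : v ∈ D i) (hw : w ∈ D j) (h : f v w ≠ 0) : i = j := by
  by_contra hne
  exact h (horth i j hne v hv w hw)

theorem not_stab_of_two {t : ℕ} (D : Fin t → Submodule F (Fin n → F))
    (horth : ∀ i j, i ≠ j → Cfsg.Geo.AreOrthogonalFor f (D i) (D j))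
    {i j : Fin t} (hij : i ≠ j) {x w w' : Fin n → F} (hw : w ∈ D i) (hw' : w' ∈ D j)
    (h1 : f x w ≠ 0) (h2 : f x w' ≠ 0) : ∀ l, x ∉ D l := by
  intro l hl
  have e1 := block_eq D horth hl hw h1
  have e2 := block_eq D horth hl hw' h2
  exact hij (e1.symm.trans e2)

end Cfsg.Agent.Lib.Helper28.ODecS
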