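import Cfsg.Agent.Lib.Helper28.OFrameT

set_option autoImplicit false

open Cfsg

namespace Cfsg.Agent.Lib.Helper28.OFrameG

open Matrix Cfsg.Agent.Lib.Helper28.HForm Cfsg.Agent.Lib.Helper28.OGen
  Cfsg.Agent.Lib.Helper28.OMax Cfsg.Agent.Lib.Helper28.OQ
  Cfsg.Agent.Lib.Helper28.OMax2 Cfsg.Agent.Lib.Helper28.OIwa Cfsg.Agent.Lib.Helper28.ONd

variable {n : ℕ} {F : Type*} [Field F] {Q : (Fin n → F) → F}
  {f : (Fin n → F) → (Fin n → F) → F}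

theorem frame_nonmax_g {J : Type*} (hq : QF Q f) (h2 : (2 : F) ≠ 0)
    {G : Subgroup (Matrix.GeneralLinearGroup (Fin n) F)} (hG : SgGroupQ Q f G)
    (hRP : ∀ w o : Fin n → F, Q w ≠ 0 → Q o = Q w → f w o = 0 → ∃ h ∈ G, ∀ x,
      (h : Matrix (Fin n) (Fin n) F) *ᵥ x = x - (f x w / Q w) • w - (f x o / Q w) • o)
    (a : J → (Fin n → F)) (ε : F) (hε : ε ≠ 0) (haQ : ∀ j, Q (a j) = ε)
    (hao : ∀ i j, i ≠ j → f (a i) (a j) = 0)
    {t : ℕ} (D : Fin t → Submodule F (Fin n → F))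
    (hDdisj : ∀ i j, i ≠ j → ∀ x, x ∈ D i → x ∈ D j → x = 0)
    (hP : ∀ i, ∀ v ∈ D i, Q v = ε → ∃ j, v = a j ∨ v = -a j)
    (haD : ∀ j, ∃ i, a j ∈ D i)
    (i₁ : Fin t) (j₁ j₂ j₃ j₄ : J)
    (h12 : j₁ ≠ j₂) (h13 : j₁ ≠ j₃) (h14 : j₁ ≠ j₄)
    (h23 : j₂ ≠ j₃) (h24 : j₂ ≠ j₄) (h34 : j₃ ≠ j₄)
    (z : Fin n → F) (hz0 : z ≠ 0) (hzD : z ∈ D i₁) (hz1 : f z (a j₁) = 0) (hz2 : f z (a j₂) = 0)
    (hz3 : f z (a j₃) = 0) (hz4 : f z (a j₄) = 0)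
    (hm1 : a j₁ ∈ D i₁) (hm2 : a j₂ ∉ D i₁)
    (hW : ∃ T ∈ G, ∃ j, ∀ j', (T : Matrix (Fin n) (Fin n) F) *ᵥ a j ≠ a j' ∧
      (T : Matrix (Fin n) (Fin n) F) *ᵥ a j ≠ -a j') :
    ∃ K : Subgroup (Matrix.GeneralLinearGroup (Fin n) F),
      Cfsg.Geo.decompositionStabilizer D ⊓ G < K ∧ K < G := by
  classical
  have hf := hq.sym
  obtain ⟨S, hS⟩ : ∃ S : Set (Fin n → F), S = {v | ∃ j, v = a j ∨ v = -a j} := ⟨_, rfl⟩
  have hSmem : ∀ v, v ∈ S ↔ ∃ j, v = a j ∨ v = -a j := by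
    intro v
    rw [hS]
    rfl
  have haa : ∀ j, f (a j) (a j) = 2 * ε := fun j => by rw [f_self hq, haQ]
  have h2ε : 2 * ε ≠ 0 := mul_ne_zero h2 hε
  have ha0 : ∀ j, a j ≠ 0 := by
    intro j h
    have := haQ j
    rw [h, Q_zero hq] at this
    exact hε this.symm
  refine ⟨Cfsg.stabilizing (Cfsg.glToMat (Fin n) F) S ⊓ G, ?_, ?_⟩
  · have hmapS : ∀ g ∈ Cfsg.Geo.decompositionStabilizer D ⊓ G, ∀ v ∈ S,
        (g : Matrix (Fin n) (Fin n) F) *ᵥ v ∈ S := by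
      rintro g ⟨⟨σ, hσ⟩, hgG⟩ v hv
      obtain ⟨j, hj⟩ := (hSmem v).1 hv
      obtain ⟨i, hi⟩ := haD j
      have hvD : v ∈ D i := by
        rcases hj with rfl | rfl
        · exact hi
        · exact (D i).neg_mem hi
      have hvQ : Q v = ε := by
        rcases hj with rfl | rfl
        · exact haQ j
        · rw [Q_neg hq, haQ j]
      have hgv : (g : Matrix (Fin n) (Fin n) F) *ᵥ v ∈ D (σ i) := by
        rw [← hσ i]
        exact ⟨v, hvD, by rw [Matrix.toLin'_apply]⟩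
      have hgQ : Q ((g : Matrix (Fin n) (Fin n) F) *ᵥ v) = ε := by rw [hG.iso g hgG, hvQ]
      exact (hSmem _).2 (hP (σ i) _ hgv hgQ)
    refine lt_of_le_of_ne ?_ ?_
    · intro g hg
      refine ⟨?_, hg.2⟩
      intro v
      constructor
      · exact hmapS g hg v
      · intro hgv
        have h1 := hmapS g⁻¹ (Subgroup.inv_mem _ hg) _ hgv
        show v ∈ S
        have e : ((g⁻¹ : Matrix.GeneralLinearGroup (Fin n) F) : Matrix (Fin n) (Fin n) F) *ᵥ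
            ((Cfsg.glToMat (Fin n) F) g *ᵥ v) = v := Cfsg.Agent.S5643.inv_mv g v
        rw [e] at h1
        exact h1
    · intro heq
      obtain ⟨w, hw⟩ : ∃ w, w = a j₁ - a j₂ := ⟨_, rfl⟩
      obtain ⟨o, ho⟩ : ∃ o, o = a j₃ - a j₄ := ⟨_, rfl⟩
      have hQw : Q w = 2 * ε := by
        rw [hw, Q_sub hq, haQ, haQ, hao j₁ j₂ h12]
        ring
      have hQo : Q o = Q w := by
        rw [hQw, ho, Q_sub hq, haQ, haQ, hao j₃ j₄ h34]
        ring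
      have hwo : f w o = 0 := by
        rw [hw, ho, f_sub_left hf, f_sub_right hf, f_sub_right hf, hao j₁ j₃ h13, hao j₁ j₄ h14,
          hao j₂ j₃ h23, hao j₂ j₄ h24]
        ring
      obtain ⟨c, hcG, hc⟩ := hRP w o (by rw [hQw]; exact h2ε) hQo hwo
      have hfw : ∀ j, f (a j) w = f (a j) (a j₁) - f (a j) (a j₂) := fun j => by
        rw [hw, f_sub_right hf]
      have hfo : ∀ j, f (a j) o = f (a j) (a j₃) - f (a j) (a j₄) := fun j => by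
        rw [ho, f_sub_right hf]
      have hc1 : (c : Matrix (Fin n) (Fin n) F) *ᵥ a j₁ = a j₂ := by
        rw [hc, hfw, hfo, haa, hao j₁ j₂ h12, hao j₁ j₃ h13, hao j₁ j₄ h14, hQw, hw]
        have e : (2 * ε - 0) / (2 * ε) = 1 := by
          rw [sub_zero, div_self h2ε]
        rw [e]
        simp
      have hc2 : (c : Matrix (Fin n) (Fin n) F) *ᵥ a j₂ = a j₁ := by
        rw [hc, hfw, hfo, haa, hao j₂ j₁ h12.symm, hao j₂ j₃ h23, hao j₂ j₄ h24, hQw, hw]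
        have e : (0 - 2 * ε) / (2 * ε) = -1 := by
          rw [zero_sub, neg_div, div_self h2ε]
        rw [e]
        simp
      have hc3 : (c : Matrix (Fin n) (Fin n) F) *ᵥ a j₃ = a j₄ := by
        rw [hc, hfw, hfo, haa, hao j₃ j₁ h13.symm, hao j₃ j₂ h23.symm, hao j₃ j₄ h34, hQw, ho]
        have e : (2 * ε - 0) / (2 * ε) = 1 := by
          rw [sub_zero, div_self h2ε]
        rw [e]
        simp
      have hc4 : (c : Matrix (Fin n) (Fin n) F) *ᵥ a j₄ = a j₃ := by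
        rw [hc, hfw, hfo, haa, hao j₄ j₁ h14.symm, hao j₄ j₂ h24.symm, hao j₄ j₃ h34.symm, hQw, ho]
        have e : (0 - 2 * ε) / (2 * ε) = -1 := by
          rw [zero_sub, neg_div, div_self h2ε]
        rw [e]
        simp
      have hcj : ∀ j, j ≠ j₁ → j ≠ j₂ → j ≠ j₃ → j ≠ j₄ →
          (c : Matrix (Fin n) (Fin n) F) *ᵥ a j = a j := by
        intro j n1 n2 n3 n4
        rw [hc, hfw, hfo, hao j j₁ n1, hao j j₂ n2, hao j j₃ n3, hao j j₄ n4]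
        simp
      have hcz : (c : Matrix (Fin n) (Fin n) F) *ᵥ z = z := by
        rw [hc, hw, ho, f_sub_right hf, f_sub_right hf, hz1, hz2, hz3, hz4]
        simp
      have hcS : ∀ v ∈ S, (c : Matrix (Fin n) (Fin n) F) *ᵥ v ∈ S := by
        intro v hv
        obtain ⟨j, hj⟩ := (hSmem v).1 hv
        have hcaj : ∃ j', (c : Matrix (Fin n) (Fin n) F) *ᵥ a j = a j' := by
          by_cases n1 : j = j₁
          · exact ⟨j₂, by rw [n1, hc1]⟩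
          by_cases n2 : j = j₂
          · exact ⟨j₁, by rw [n2, hc2]⟩
          by_cases n3 : j = j₃
          · exact ⟨j₄, by rw [n3, hc3]⟩
          by_cases n4 : j = j₄
          · exact ⟨j₃, by rw [n4, hc4]⟩
          exact ⟨j, hcj j n1 n2 n3 n4⟩
        obtain ⟨j', hj'⟩ := hcaj
        rw [hSmem]
        rcases hj with rfl | rfl
        · exact ⟨j', Or.inl hj'⟩
        · exact ⟨j', Or.inr (by rw [Matrix.mulVec_neg, hj'])⟩
      have hcc : ∀ x, (c : Matrix (Fin n) (Fin n) F) *ᵥ ((c : Matrix (Fin n) (Fin n) F) *ᵥ x) = x := by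
        intro x
        rw [hc ((c : Matrix (Fin n) (Fin n) F) *ᵥ x), hc x]
        have hww : f w w = 2 * Q w := f_self hq w
        have hoo : f o o = 2 * Q w := by rw [f_self hq, hQo]
        have how : f o w = 0 := by rw [s_symm hf, hwo]
        have hQw0 : Q w ≠ 0 := by
          rw [hQw]
          exact h2ε
        simp only [f_sub_left hf, hf.smul_left, hww, hoo, how, hwo]
        match_scalars <;> field_simp <;> ring
      have hcK : c ∈ Cfsg.stabilizing (Cfsg.glToMat (Fin n) F) S ⊓ G := by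
        refine ⟨?_, hcG⟩
        intro v
        constructor
        · exact hcS v
        · intro hcv
          have h1 := hcS _ hcv
          have e : (c : Matrix (Fin n) (Fin n) F) *ᵥ ((Cfsg.glToMat (Fin n) F) c *ᵥ v) = v :=
            hcc v
          rw [e] at h1
          exact h1
      rw [← heq] at hcK
      obtain ⟨⟨σ, hσ⟩, -⟩ := hcK
      have h5 : (c : Matrix (Fin n) (Fin n) F) *ᵥ z ∈ D (σ i₁) := by
        rw [← hσ i₁]
        exact ⟨z, hzD, by rw [Matrix.toLin'_apply]⟩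
      rw [hcz] at h5
      have hσi : σ i₁ = i₁ := by
        by_contra hne
        exact hz0 (hDdisj (σ i₁) i₁ hne _ h5 hzD)
      have h1 : (c : Matrix (Fin n) (Fin n) F) *ᵥ a j₁ ∈ D (σ i₁) := by
        rw [← hσ i₁]
        exact ⟨a j₁, hm1, by rw [Matrix.toLin'_apply]⟩
      rw [hc1, hσi] at h1
      exact hm2 h1
  · refine lt_of_le_of_ne inf_le_right ?_
    intro heq
    obtain ⟨T, hTG, j, hj⟩ := hW
    rw [← heq] at hTG
    have h4S : a j ∈ S := (hSmem _).2 ⟨j, Or.inl rfl⟩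
    have hT4 : (T : Matrix (Fin n) (Fin n) F) *ᵥ a j ∈ S := (hTG.1 (a j)).1 h4S
    obtain ⟨j', hj'⟩ := (hSmem _).1 hT4
    rcases hj' with h | h
    · exact (hj j').1 h
    · exact (hj j').2 h

theorem frame_wit3 {J : Type*} (hq : QF Q f) (h2 : (2 : F) ≠ 0) (h3 : (3 : F) = 0)
    {G : Subgroup (Matrix.GeneralLinearGroup (Fin n) F)} (hG : SgGroupQ Q f G)
    (a : J → (Fin n → F)) (ε : F) (hε : ε ≠ 0) (haQ : ∀ j, Q (a j) = ε)
    (hao : ∀ i j, i ≠ j → f (a i) (a j) = 0)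
    (j₁ j₂ j₃ j₄ j₅ j₆ : J)
    (h12 : j₁ ≠ j₂) (h13 : j₁ ≠ j₃) (h14 : j₁ ≠ j₄) (h15 : j₁ ≠ j₅) (h16 : j₁ ≠ j₆)
    (h23 : j₂ ≠ j₃) (h24 : j₂ ≠ j₄) (h25 : j₂ ≠ j₅) (h26 : j₂ ≠ j₆)
    (h34 : j₃ ≠ j₄) (h35 : j₃ ≠ j₅) (h36 : j₃ ≠ j₆) (h45 : j₄ ≠ j₅) (h46 : j₄ ≠ j₆)
    (h56 : j₅ ≠ j₆) :
    ∃ T ∈ G, ∃ j, ∀ j', (T : Matrix (Fin n) (Fin n) F) *ᵥ a j ≠ a j' ∧
      (T : Matrix (Fin n) (Fin n) F) *ᵥ a j ≠ -a j' := by
  have hf := hq.sym
  have haa : ∀ j, f (a j) (a j) = 2 * ε := fun j => by rw [f_self hq, haQ]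
  have h2ε : 2 * ε ≠ 0 := mul_ne_zero h2 hε
  obtain ⟨u, hu⟩ : ∃ u, u = a j₁ + a j₂ + a j₃ := ⟨_, rfl⟩
  obtain ⟨v, hv⟩ : ∃ v, v = a j₄ + a j₅ + a j₆ := ⟨_, rfl⟩
  have h3ε : ε + ε + ε = 0 := by
    have : ε + ε + ε = 3 * ε := by ring
    rw [this, h3, zero_mul]
  have hQu : Q u = 0 := by
    rw [hu, hq.polar, hq.polar, haQ, haQ, haQ, hf.add_left, hao j₁ j₂ h12, hao j₁ j₃ h13,
      hao j₂ j₃ h23]
    linear_combination h3ε
  have hQv : Q v = 0 := by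
    rw [hv, hq.polar, hq.polar, haQ, haQ, haQ, hf.add_left, hao j₄ j₅ h45, hao j₄ j₆ h46,
      hao j₅ j₆ h56]
    linear_combination h3ε
  have hfua : ∀ j, f u (a j) = f (a j₁) (a j) + f (a j₂) (a j) + f (a j₃) (a j) := fun j => by
    rw [hu, hf.add_left, hf.add_left]
  have hfva : ∀ j, f v (a j) = f (a j₄) (a j) + f (a j₅) (a j) + f (a j₆) (a j) := fun j => by
    rw [hv, hf.add_left, hf.add_left]
  have huv : f u v = 0 := by
    rw [hv, f_add_right hf, f_add_right hf, hfua, hfua, hfua, hao j₁ j₄ h14, hao j₂ j₄ h24,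
      hao j₃ j₄ h34, hao j₁ j₅ h15, hao j₂ j₅ h25, hao j₃ j₅ h35, hao j₁ j₆ h16, hao j₂ j₆ h26,
      hao j₃ j₆ h36]
    ring
  obtain ⟨T, hT⟩ := hG.ex u v 1 hQu hQv huv
  have hTG : T ∈ G := hG.sg T u v 1 hQu hQv huv hT
  have hT4v : (T : Matrix (Fin n) (Fin n) F) *ᵥ a j₄ = a j₄ - (2 * ε) • u := by
    rw [hT (a j₄)]
    unfold Tv
    rw [hfua, hfva, hao j₁ j₄ h14, hao j₂ j₄ h24, hao j₃ j₄ h34, haa, hao j₅ j₄ h45.symm,
      hao j₆ j₄ h46.symm]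
    module
  have h5 : ∀ j', j' = j₁ ∨ j' = j₂ →
      f ((T : Matrix (Fin n) (Fin n) F) *ᵥ a j₄) (a j') = -(2 * ε) * (2 * ε) := by
    intro j' hj'
    rw [hT4v, f_sub_left hf, hf.smul_left, hfua]
    rcases hj' with rfl | rfl
    · rw [hao j₄ j' h14.symm, haa, hao j₂ j' h12.symm, hao j₃ j' h13.symm]
      ring
    · rw [hao j₄ j' h24.symm, haa, hao j₁ j' h12, hao j₃ j' h23.symm]
      ring
  have hne : -(2 * ε) * (2 * ε) ≠ 0 := mul_ne_zero (neg_ne_zero.2 h2ε) h2ε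
  have hkey : ∀ j, ((T : Matrix (Fin n) (Fin n) F) *ᵥ a j₄ = a j ∨
      (T : Matrix (Fin n) (Fin n) F) *ᵥ a j₄ = -a j) → ∀ j', j' = j₁ ∨ j' = j₂ → j = j' := by
    intro j hj j' hj'
    by_contra hnn
    have h6 : f ((T : Matrix (Fin n) (Fin n) F) *ᵥ a j₄) (a j') = 0 := by
      rcases hj with h | h
      · rw [h, hao j j' hnn]
      · rw [h, f_neg_left hf, hao j j' hnn, neg_zero]
    rw [h5 j' hj'] at h6
    exact hne h6
  refine ⟨T, hTG, j₄, fun j' => ⟨fun h => ?_, fun h => ?_⟩⟩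
  · exact h12 ((hkey j' (Or.inl h) j₁ (Or.inl rfl)).symm.trans (hkey j' (Or.inl h) j₂ (Or.inr rfl)))
  · exact h12 ((hkey j' (Or.inr h) j₁ (Or.inl rfl)).symm.trans (hkey j' (Or.inr h) j₂ (Or.inr rfl)))

theorem frame_wit5 {J : Type*} (hq : QF Q f) (h2 : (2 : F) ≠ 0) (c : F) (hc : 1 + c * c = 0)
    {G : Subgroup (Matrix.GeneralLinearGroup (Fin n) F)} (hG : SgGroupQ Q f G)
    (a : J → (Fin n → F)) (ε : F) (hε : ε ≠ 0) (haQ : ∀ j, Q (a j) = ε)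
    (hao : ∀ i j, i ≠ j → f (a i) (a j) = 0)
    (j₁ j₂ j₃ j₄ : J)
    (h12 : j₁ ≠ j₂) (h13 : j₁ ≠ j₃) (h14 : j₁ ≠ j₄)
    (h23 : j₂ ≠ j₃) (h24 : j₂ ≠ j₄) (h34 : j₃ ≠ j₄) :
    ∃ T ∈ G, ∃ j, ∀ j', (T : Matrix (Fin n) (Fin n) F) *ᵥ a j ≠ a j' ∧
      (T : Matrix (Fin n) (Fin n) F) *ᵥ a j ≠ -a j' := by
  have hf := hq.sym
  have haa : ∀ j, f (a j) (a j) = 2 * ε := fun j => by rw [f_self hq, haQ]
  have h2ε : 2 * ε ≠ 0 := mul_ne_zero h2 hε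
  obtain ⟨u, hu⟩ : ∃ u, u = a j₁ + c • a j₂ := ⟨_, rfl⟩
  obtain ⟨v, hv⟩ : ∃ v, v = a j₃ + c • a j₄ := ⟨_, rfl⟩
  have hQu : Q u = 0 := by
    rw [hu, hq.polar, hq.smul, haQ, haQ, s_smul_right hf, hao j₁ j₂ h12]
    linear_combination ε * hc
  have hQv : Q v = 0 := by
    rw [hv, hq.polar, hq.smul, haQ, haQ, s_smul_right hf, hao j₃ j₄ h34]
    linear_combination ε * hc
  have hfua : ∀ j, f u (a j) = f (a j₁) (a j) + c * f (a j₂) (a j) := fun j => by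
    rw [hu, hf.add_left, hf.smul_left]
  have hfva : ∀ j, f v (a j) = f (a j₃) (a j) + c * f (a j₄) (a j) := fun j => by
    rw [hv, hf.add_left, hf.smul_left]
  have huv : f u v = 0 := by
    rw [hv, f_add_right hf, s_smul_right hf, hfua, hfua, hao j₁ j₃ h13, hao j₂ j₃ h23,
      hao j₁ j₄ h14, hao j₂ j₄ h24]
    ring
  obtain ⟨T, hT⟩ := hG.ex u v 1 hQu hQv huv
  have hTG : T ∈ G := hG.sg T u v 1 hQu hQv huv hT
  have hT4v : (T : Matrix (Fin n) (Fin n) F) *ᵥ a j₁ = a j₁ + (2 * ε) • v := by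
    rw [hT (a j₁)]
    unfold Tv
    rw [hfua, hfva, haa, hao j₂ j₁ h12.symm, hao j₃ j₁ h13.symm, hao j₄ j₁ h14.symm]
    module
  have h51 : f ((T : Matrix (Fin n) (Fin n) F) *ᵥ a j₁) (a j₁) = 2 * ε := by
    rw [hT4v, hf.add_left, hf.smul_left, hfva, haa, hao j₃ j₁ h13.symm, hao j₄ j₁ h14.symm]
    ring
  have h53 : f ((T : Matrix (Fin n) (Fin n) F) *ᵥ a j₁) (a j₃) = (2 * ε) * (2 * ε) := by
    rw [hT4v, hf.add_left, hf.smul_left, hfva, haa, hao j₁ j₃ h13, hao j₄ j₃ h34.symm]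
    ring
  have hne : (2 * ε) * (2 * ε) ≠ 0 := mul_ne_zero h2ε h2ε
  have hkey : ∀ j, ((T : Matrix (Fin n) (Fin n) F) *ᵥ a j₁ = a j ∨
      (T : Matrix (Fin n) (Fin n) F) *ᵥ a j₁ = -a j) → j = j₁ ∧ j = j₃ := by
    intro j hj
    constructor
    · by_contra hnn
      have h6 : f ((T : Matrix (Fin n) (Fin n) F) *ᵥ a j₁) (a j₁) = 0 := by
        rcases hj with h | h
        · rw [h, hao j j₁ hnn]
        · rw [h, f_neg_left hf, hao j j₁ hnn, neg_zero]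
      rw [h51] at h6
      exact h2ε h6
    · by_contra hnn
      have h6 : f ((T : Matrix (Fin n) (Fin n) F) *ᵥ a j₁) (a j₃) = 0 := by
        rcases hj with h | h
        · rw [h, hao j j₃ hnn]
        · rw [h, f_neg_left hf, hao j j₃ hnn, neg_zero]
      rw [h53] at h6
      exact hne h6
  refine ⟨T, hTG, j₁, fun j' => ⟨fun h => ?_, fun h => ?_⟩⟩
  · obtain ⟨e1, e3⟩ := hkey j' (Or.inl h)
    exact h13 (e1.symm.trans e3)
  · obtain ⟨e1, e3⟩ := hkey j' (Or.inr h)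
    exact h13 (e1.symm.trans e3)

theorem frame_blocks_g {k : ℕ} (hq : QF Q f) (h2 : (2 : F) ≠ 0)
    {G : Subgroup (Matrix.GeneralLinearGroup (Fin n) F)} (hG : SgGroupQ Q f G)
    (hRP : ∀ w o : Fin n → F, Q w ≠ 0 → Q o = Q w → f w o = 0 → ∃ h ∈ G, ∀ x,
      (h : Matrix (Fin n) (Fin n) F) *ᵥ x = x - (f x w / Q w) • w - (f x o / Q w) • o)
    {t : ℕ} (D : Fin t → Submodule F (Fin n → F))
    (hnd : ∀ i, Cfsg.Geo.IsNondegenerateOn f (D i))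
    (horth : ∀ i j, i ≠ j → Cfsg.Geo.AreOrthogonalFor f (D i) (D j))
    (hiso : ∀ i j, Cfsg.Geo.AreIsometricFor Q (D i) (D j))
    (i0 : Fin t) (b : Fin k → (Fin n → F)) (hbD : ∀ j, b j ∈ D i0) (ε : F) (hε : ε ≠ 0)
    (hbQ : ∀ j, Q (b j) = ε) (hbo : ∀ j j', j ≠ j' → f (b j) (b j') = 0)
    (hbP : ∀ v ∈ D i0, Q v = ε → ∃ j, v = b j ∨ v = -b j)
    (j₁ j₂ j₃ j₄ : Fin t × Fin k)
    (h12 : j₁ ≠ j₂) (h13 : j₁ ≠ j₃) (h14 : j₁ ≠ j₄)
    (h23 : j₂ ≠ j₃) (h24 : j₂ ≠ j₄) (h34 : j₃ ≠ j₄)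
    (hm1 : j₁.1 = i0) (hm2 : j₂.1 ≠ i0) (hm3 : j₃.1 ≠ i0) (hm4 : j₄.1 ≠ i0)
    (z0 : Fin n → F) (hz0 : z0 ≠ 0) (hz0D : z0 ∈ D i0) (hz0b : f z0 (b j₁.2) = 0)
    (hW : ∀ a : Fin t × Fin k → (Fin n → F), (∀ p, Q (a p) = ε) →
      (∀ p p', p ≠ p' → f (a p) (a p') = 0) →
      ∃ T ∈ G, ∃ p, ∀ p', (T : Matrix (Fin n) (Fin n) F) *ᵥ a p ≠ a p' ∧
        (T : Matrix (Fin n) (Fin n) F) *ᵥ a p ≠ -a p') :
    ∃ K : Subgroup (Matrix.GeneralLinearGroup (Fin n) F),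
      Cfsg.Geo.decompositionStabilizer D ⊓ G < K ∧ K < G := by
  classical
  have hf := hq.sym
  choose e he using fun i => hiso i0 i
  have hpol : ∀ i (u v : D i0), f (e i u : Fin n → F) (e i v : Fin n → F) =
      f (u : Fin n → F) (v : Fin n → F) := by
    intro i u v
    have e1 := hq.polar (e i u : Fin n → F) (e i v : Fin n → F)
    have e2 := hq.polar (u : Fin n → F) (v : Fin n → F)
    have e3 : ((e i (u + v) : D i) : Fin n → F) = (e i u : Fin n → F) + (e i v : Fin n → F) := by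
      rw [map_add]
      rfl
    have e4 := he i (u + v)
    rw [e3] at e4
    have e5 : ((u + v : D i0) : Fin n → F) = (u : Fin n → F) + v := rfl
    rw [e5] at e4
    rw [he i u, he i v] at e1
    linear_combination e2 - e1 + e4
  obtain ⟨a, ha⟩ : ∃ a : Fin t × Fin k → (Fin n → F),
      a = fun p => ((e p.1 ⟨b p.2, hbD p.2⟩ : D p.1) : Fin n → F) := ⟨_, rfl⟩
  have haD : ∀ p, a p ∈ D p.1 := by
    intro p
    rw [ha]
    exact (e p.1 ⟨b p.2, hbD p.2⟩).2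
  have haQ : ∀ p, Q (a p) = ε := by
    intro p
    rw [ha]
    show Q ((e p.1 ⟨b p.2, hbD p.2⟩ : D p.1) : Fin n → F) = ε
    rw [he]
    exact hbQ p.2
  have hDdisj : ∀ i j, i ≠ j → ∀ x, x ∈ D i → x ∈ D j → x = 0 := by
    intro i j hij x hxi hxj
    by_contra hx0
    obtain ⟨⟨w, hw, hwx⟩, _⟩ := hnd i x hxi hx0
    exact hwx (horth i j hij w hw x hxj)
  have hao : ∀ p p', p ≠ p' → f (a p) (a p') = 0 := by
    intro p p' hpp
    by_cases h1 : p.1 = p'.1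
    · have h2' : p.2 ≠ p'.2 := fun h => hpp (Prod.ext h1 h)
      obtain ⟨i, j⟩ := p
      obtain ⟨i', j'⟩ := p'
      simp only at h1 h2'
      subst h1
      rw [ha]
      show f ((e i ⟨b j, hbD j⟩ : D i) : Fin n → F) ((e i ⟨b j', hbD j'⟩ : D i) : Fin n → F) = 0
      rw [hpol]
      exact hbo j j' h2'
    · exact horth p.1 p'.1 h1 _ (haD p) _ (haD p')
  have hε0 : ∀ p, a p ≠ 0 := by
    intro p h
    have := haQ p
    rw [h, Q_zero hq] at this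
    exact hε this.symm
  have hP : ∀ i, ∀ v ∈ D i, Q v = ε → ∃ p, v = a p ∨ v = -a p := by
    intro i v hv hvQ
    obtain ⟨v', hv'⟩ : ∃ v' : D i0, v' = (e i).symm ⟨v, hv⟩ := ⟨_, rfl⟩
    have hev : e i v' = ⟨v, hv⟩ := by
      rw [hv', LinearEquiv.apply_symm_apply]
    have hQv' : Q (v' : Fin n → F) = ε := by
      rw [← he i v', hev]
      exact hvQ
    obtain ⟨j, hj⟩ := hbP (v' : Fin n → F) v'.2 hQv'
    refine ⟨(i, j), ?_⟩
    rcases hj with hj | hj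
    · left
      have : v' = ⟨b j, hbD j⟩ := Subtype.ext hj
      rw [ha]
      show v = ((e i ⟨b j, hbD j⟩ : D i) : Fin n → F)
      rw [← this, hev]
    · right
      have : v' = -⟨b j, hbD j⟩ := Subtype.ext hj
      rw [ha]
      show v = -((e i ⟨b j, hbD j⟩ : D i) : Fin n → F)
      have h5 : ((e i (-⟨b j, hbD j⟩) : D i) : Fin n → F) =
          -((e i ⟨b j, hbD j⟩ : D i) : Fin n → F) := by
        rw [map_neg]
        rfl
      rw [← h5, ← this, hev]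
  obtain ⟨z, hz⟩ : ∃ z : Fin n → F, z = ((e i0 ⟨z0, hz0D⟩ : D i0) : Fin n → F) := ⟨_, rfl⟩
  have hzD : z ∈ D i0 := by
    rw [hz]
    exact (e i0 ⟨z0, hz0D⟩).2
  have hzne : z ≠ 0 := by
    intro h
    rw [hz] at h
    have h1 : e i0 ⟨z0, hz0D⟩ = 0 := Subtype.ext h
    have h3 : (⟨z0, hz0D⟩ : D i0) = 0 := (e i0).map_eq_zero_iff.1 h1
    exact hz0 (congrArg Subtype.val h3)
  have hzo : ∀ p : Fin t × Fin k, p.1 ≠ i0 → f z (a p) = 0 := by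
    intro p hp
    exact horth i0 p.1 (fun h => hp h.symm) _ hzD _ (haD p)
  have hz1 : f z (a j₁) = 0 := by
    obtain ⟨i, j⟩ := j₁
    simp only at hm1 hz0b
    subst hm1
    rw [hz, ha]
    show f ((e i ⟨z0, hz0D⟩ : D i) : Fin n → F) ((e i ⟨b j, hbD j⟩ : D i) : Fin n → F) = 0
    rw [hpol]
    exact hz0b
  refine frame_nonmax_g hq h2 hG hRP a ε hε haQ hao D hDdisj hP (fun p => ⟨p.1, haD p⟩) i0
    j₁ j₂ j₃ j₄ h12 h13 h14 h23 h24 h34 z hzne hzD hz1 (hzo j₂ hm2) (hzo j₃ hm3) (hzo j₄ hm4)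
    ?_ ?_ (hW a haQ hao)
  · rw [← hm1]
    exact haD j₁
  · intro h
    exact hε0 j₂ (hDdisj j₂.1 i0 hm2 _ (haD j₂) h)

end Cfsg.Agent.Lib.Helper28.OFrameG
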