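import Cfsg.Agent.Lib.Helper28.OChar2
import Cfsg.Agent.Lib.Helper28.OOdd

set_option autoImplicit false

open Cfsg

namespace Cfsg.Agent.Lib.Helper28.OHull

open Matrix Cfsg.Agent.Lib.Helper28.HForm Cfsg.Agent.Lib.Helper28.OGen
  Cfsg.Agent.Lib.Helper28.OMax Cfsg.Agent.Lib.Helper28.OQ Cfsg.Agent.Lib.Helper28.OChar2

variable {n : ℕ} {F : Type*} [Field F] {Q : (Fin n → F) → F}
  {f : (Fin n → F) → (Fin n → F) → F}

theorem nd_proj (hf : SymF f) {m : ℕ} (a : Fin m → (Fin n → F)) (ha : Nd f a)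
    (x : Fin n → F) : ∃ p ∈ Submodule.span F (Set.range a), Perp f a (x - p) := by
  obtain ⟨A, hA⟩ : ∃ A : Submodule F (Fin n → F), A = Submodule.span F (Set.range a) := ⟨_, rfl⟩
  obtain ⟨K, hK⟩ : ∃ K : Submodule F (Fin n → F), K = LinearMap.ker (perpMap hf a) := ⟨_, rfl⟩
  have h1 := finrank_ker_eq hf a ha.li
  rw [← hK] at h1
  have hAm : Module.finrank F A = m := by
    rw [hA, finrank_span_eq_card ha.li, Fintype.card_fin]
  have hinf : A ⊓ K = ⊥ := by
    rw [eq_bot_iff]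
    intro v hv
    rw [Submodule.mem_bot]
    obtain ⟨hvA, hvK⟩ := Submodule.mem_inf.1 hv
    rw [hK, mem_ker_perpMap] at hvK
    rw [hA] at hvA
    exact ha.nd v hvA hvK
  have h3 := Submodule.finrank_sup_add_finrank_inf_eq A K
  rw [hinf, finrank_bot, add_zero] at h3
  have htop : A ⊔ K = ⊤ := by
    apply Submodule.eq_top_of_finrank_eq
    rw [Module.finrank_fin_fun]
    omega
  have hx : x ∈ A ⊔ K := by
    rw [htop]
    exact Submodule.mem_top
  obtain ⟨p, hp, k, hk, hpk⟩ := Submodule.mem_sup.1 hx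
  refine ⟨p, hA ▸ hp, ?_⟩
  have e : x - p = k := by
    rw [← hpk]
    abel
  rw [e]
  rw [hK, mem_ker_perpMap] at hk
  exact hk

theorem span_cons_le {m : ℕ} (a : Fin m → (Fin n → F)) (u : Fin n → F) :
    Submodule.span F (Set.range a) ≤
      Submodule.span F (Set.range (Fin.cons u a : Fin (m + 1) → (Fin n → F))) := by
  rw [Fin.range_cons]
  exact Submodule.span_mono (Set.subset_insert _ _)

theorem mem_span_cons {m : ℕ} (a : Fin m → (Fin n → F)) (u : Fin n → F) :
    u ∈ Submodule.span F (Set.range (Fin.cons u a : Fin (m + 1) → (Fin n → F))) := by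
  rw [Fin.range_cons]
  exact Submodule.subset_span (Set.mem_insert _ _)

theorem nd_hull_step (hq : QF Q f) {m : ℕ} (a : Fin m → (Fin n → F)) (ha : Nd f a)
    (x : Fin n → F) : ∃ (m' : ℕ) (a' : Fin m' → (Fin n → F)), Nd f a' ∧ m' ≤ m + 2 ∧
      Submodule.span F (Set.range a) ≤ Submodule.span F (Set.range a') ∧
      x ∈ Submodule.span F (Set.range a') := by
  have hf := hq.sym
  obtain ⟨p, hp, hx'⟩ := nd_proj hf a ha x
  obtain ⟨x', hx'def⟩ : ∃ x', x' = x - p := ⟨_, rfl⟩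
  rw [← hx'def] at hx'
  have hxe : x = p + x' := by
    rw [hx'def]
    abel
  by_cases hx'0 : x' = 0
  · refine ⟨m, a, ha, by omega, le_refl _, ?_⟩
    rw [hxe, hx'0, add_zero]
    exact hp
  obtain ⟨z, hzx', hza⟩ := ex_dual hf a ha x' hx'0 hx'
  have hzx'0 : f z x' ≠ 0 := by
    rw [hzx']
    exact one_ne_zero
  by_cases h2 : (2 : F) = 0
  · refine ⟨m + 1 + 1, Fin.cons x' (Fin.cons z a), c2_nd_pair hq h2 a ha x' z hx' hza hzx'0,
      by omega, le_trans (span_cons_le a z) (span_cons_le _ x'), ?_⟩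
    rw [hxe]
    exact Submodule.add_mem _ (le_trans (span_cons_le a z) (span_cons_le _ x') hp)
      (mem_span_cons _ x')
  · by_cases hxx : f x' x' = 0
    · obtain ⟨z', hz'⟩ : ∃ z', z' = z - (f z z / 2) • x' := ⟨_, rfl⟩
      have hz'z' : f z' z' = 0 := by
        rw [hz', f_sub_left hf, f_sub_right hf, f_sub_right hf, hf.smul_left, hf.smul_left,
          s_smul_right hf, s_smul_right hf, hxx, hzx', s_symm hf x' z, hzx']
        field_simp
        ring
      have hz'x' : f z' x' = 1 := by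
        rw [hz', f_sub_left hf, hf.smul_left, hxx, hzx']
        ring
      have hz'a : Perp f a z' := by
        rw [hz']
        exact perp_sub hf a _ _ hza (perp_smul hf a _ _ hx')
      refine ⟨m + 1 + 1, Fin.cons x' (Fin.cons z' a),
        nd_cons2 hf a ha x' z' hx' hz'a hxx hz'z' (by rw [hz'x']; exact one_ne_zero),
        by omega, le_trans (span_cons_le a z') (span_cons_le _ x'), ?_⟩
      rw [hxe]
      exact Submodule.add_mem _ (le_trans (span_cons_le a z') (span_cons_le _ x') hp)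
        (mem_span_cons _ x')
    · refine ⟨m + 1, Fin.cons x' a, nd_cons1 hf a ha x' hx' hxx, by omega, span_cons_le a x', ?_⟩
      rw [hxe]
      exact Submodule.add_mem _ (span_cons_le a x' hp) (mem_span_cons _ x')

theorem nd_hull (hq : QF Q f) : ∀ (k : ℕ) (x : Fin k → (Fin n → F)),
    ∃ (m : ℕ) (a : Fin m → (Fin n → F)), Nd f a ∧ m ≤ 2 * k ∧
      ∀ i, x i ∈ Submodule.span F (Set.range a) := by
  intro k
  induction k with
  | zero =>
    intro x
    exact ⟨0, e0, nd_e0, by omega, fun i => Fin.elim0 i⟩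
  | succ k ih =>
    intro x
    obtain ⟨m, a, ha, hm, hx⟩ := ih (Fin.tail x)
    obtain ⟨m', a', ha', hm', hle, hx0⟩ := nd_hull_step hq a ha (x 0)
    refine ⟨m', a', ha', by omega, fun i => ?_⟩
    refine Fin.cases ?_ (fun j => ?_) i
    · exact hx0
    · exact hle (hx j)

theorem nd_hull_sub (hq : QF Q f) (S : Submodule F (Fin n → F)) :
    ∃ (m : ℕ) (a : Fin m → (Fin n → F)), Nd f a ∧ m ≤ 2 * Module.finrank F S ∧
      S ≤ Submodule.span F (Set.range a) := by
  obtain ⟨m, a, ha, hm, hx⟩ := nd_hull hq (Module.finrank F S)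
    (fun i => ((Module.finBasis F S i : S) : Fin n → F))
  refine ⟨m, a, ha, hm, ?_⟩
  rw [← basis_span S, Submodule.span_le]
  rintro _ ⟨i, rfl⟩
  exact hx i

theorem sing_out_cf [Fintype F] (hq : QF Q f) (S : Submodule F (Fin n → F))
    (hdim : 2 * Module.finrank F S + 3 ≤ n) :
    ∃ w, Q w = 0 ∧ (∀ s ∈ S, f s w = 0) ∧ w ∉ S ∧ w ≠ 0 := by
  have hf := hq.sym
  obtain ⟨m, a, ha, hm, hS⟩ := nd_hull_sub hq S
  have key : ∃ s, Perp f a s ∧ Q s = 0 ∧ s ≠ 0 := by
    by_cases h2 : (2 : F) = 0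
    · exact c2_ex_sing hq h2 a ha (by omega)
    · obtain ⟨s, hsa, hss, hs0⟩ := ex_sing hf h2 a ha (by omega)
      refine ⟨s, hsa, ?_, hs0⟩
      have h := f_self hq s
      rw [hss] at h
      rcases mul_eq_zero.1 h.symm with h' | h'
      · exact absurd h' h2
      · exact h'
  obtain ⟨s, hsa, hss, hs0⟩ := key
  refine ⟨s, hss, fun x hx => perp_span' hf a s hsa x (hS hx), ?_, hs0⟩
  intro hsS
  exact hs0 (ha.nd s (hS hsS) hsa)

theorem finrank_sup_span_le (S : Submodule F (Fin n → F)) (u : Fin n → F) :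
    Module.finrank F (S ⊔ Submodule.span F {u} : Submodule F (Fin n → F)) ≤
      Module.finrank F S + 1 := by
  have h1 := Submodule.finrank_add_le_finrank_add_finrank S (Submodule.span F {u})
  have h3 : Module.finrank F (Submodule.span F ({u} : Set (Fin n → F))) ≤ 1 := by
    have h4 := finrank_span_finset_le_card (R := F) ({u} : Finset (Fin n → F))
    rw [Finset.coe_singleton, Finset.card_singleton] at h4
    exact h4
  omega

theorem sing_val_cf [Fintype F] (hq : QF Q f) (S : Submodule F (Fin n → F))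
    (a : Fin n → F) (ha : a ∉ S) (hdim : 2 * Module.finrank F S + 5 ≤ n) :
    ∃ v, Q v = 0 ∧ (∀ s ∈ S, f s v = 0) ∧ f v a = 1 := by
  have hf := hq.sym
  have hd := finrank_sup_span_le S a
  obtain ⟨w, hw, hwS', hwn, -⟩ := sing_out_cf hq (S ⊔ Submodule.span F {a}) (by omega)
  have hwS : ∀ s ∈ S, f s w = 0 := fun s hs => hwS' s (Submodule.mem_sup_left hs)
  have haw : f a w = 0 := hwS' a (Submodule.mem_sup_right (Submodule.mem_span_singleton_self a))
  have hwnS : w ∉ S := fun h => hwn (Submodule.mem_sup_left h)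
  obtain ⟨y₁, hy₁S, hy₁a⟩ := dperp_s hf S a ha
  obtain ⟨y₂, hy₂S, hy₂w⟩ := dperp_s hf S w hwnS
  obtain ⟨y, hyS, hya, hyw⟩ : ∃ y, (∀ s ∈ S, f s y = 0) ∧ f a y ≠ 0 ∧ f w y ≠ 0 := by
    by_cases h1 : f w y₁ = 0
    · by_cases h3 : f a y₂ = 0
      · refine ⟨y₁ + y₂, fun s hs => ?_, ?_, ?_⟩
        · rw [f_add_right hf, hy₁S s hs, hy₂S s hs, add_zero]
        · rw [f_add_right hf, h3, add_zero]
          exact hy₁a
        · rw [f_add_right hf, h1, zero_add]
          exact hy₂w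
      · exact ⟨y₂, hy₂S, h3, hy₂w⟩
    · exact ⟨y₁, hy₁S, hy₁a, h1⟩
  obtain ⟨β, hβ⟩ := iso_fix_q hq y w hw (by rw [s_symm hf]; exact hyw)
  have hva : f (y + β • w) a = f a y := by
    rw [hf.add_left, hf.smul_left, s_symm hf w a, haw, s_symm hf y a]
    ring
  refine ⟨(f a y)⁻¹ • (y + β • w), ?_, ?_, ?_⟩
  · rw [hq.smul, hβ, mul_zero]
  · intro s hs
    rw [s_smul_right hf, f_add_right hf, s_smul_right hf, hyS s hs, hwS s hs]
    ring
  · rw [hf.smul_left, hva, inv_mul_cancel₀ hya]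

end Cfsg.Agent.Lib.Helper28.OHull
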