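import Cfsg.Agent.Lib.Helper28.OMax
import Cfsg.Agent.Lib.Helper28.Iwa

set_option autoImplicit false

open Cfsg

namespace Cfsg.Agent.Lib.Helper28.OIwa

open Matrix Cfsg.Agent.Lib.Helper28.HForm Cfsg.Agent.Lib.Helper28.OGen
  Cfsg.Agent.Lib.Helper28.OMax

variable {n : ℕ} {F : Type*} [Field F] {f : (Fin n → F) → (Fin n → F) → F}

structure SgGroup (f : (Fin n → F) → (Fin n → F) → F)
    (G : Subgroup (Matrix.GeneralLinearGroup (Fin n) F)) : Prop where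
  iso : ∀ g ∈ G, ∀ x y, f ((g : Matrix (Fin n) (Fin n) F) *ᵥ x)
      ((g : Matrix (Fin n) (Fin n) F) *ᵥ y) = f x y
  sg : ∀ (t : Matrix.GeneralLinearGroup (Fin n) F) (u v : Fin n → F) (c : F),
      f u u = 0 → f v v = 0 → f u v = 0 → IsSg f t u v c → t ∈ G
  ex : ∀ (u v : Fin n → F) (c : F), f u u = 0 → f v v = 0 → f u v = 0 →
      ∃ t : Matrix.GeneralLinearGroup (Fin n) F, IsSg f t u v c
  gen : ∀ M : Subgroup (Matrix.GeneralLinearGroup (Fin n) F),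
      (∀ (t : Matrix.GeneralLinearGroup (Fin n) F) (u v : Fin n → F) (c : F),
        f u u = 0 → f v v = 0 → f u v = 0 → IsSg f t u v c → t ∈ M) → G ≤ M

theorem gl_ext (g h : Matrix.GeneralLinearGroup (Fin n) F)
    (hgh : ∀ x, (g : Matrix (Fin n) (Fin n) F) *ᵥ x = (h : Matrix (Fin n) (Fin n) F) *ᵥ x) :
    g = h := by
  apply Units.ext
  rw [Matrix.ext_iff_mulVec]
  exact hgh

theorem Tv_inv (hf : SymF f) (u v : Fin n → F) (c : F) (hu : f u u = 0) (hv : f v v = 0)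
    (huv : f u v = 0) (x : Fin n → F) : Tv f u v c (Tv f u v (-c) x) = x := by
  have hvu : f v u = 0 := by rw [s_symm hf, huv]
  unfold Tv
  simp only [f_add_right hf, f_sub_right hf, s_smul_right hf, hu, hv, huv, hvu]
  module

theorem isSg_inv (hf : SymF f) {t : Matrix.GeneralLinearGroup (Fin n) F} {u v : Fin n → F} {c : F}
    (hu : f u u = 0) (hv : f v v = 0) (huv : f u v = 0) (h : IsSg f t u v c) :
    IsSg f t⁻¹ u v (-c) := by
  intro x
  have h1 := h (Tv f u v (-c) x)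
  rw [Tv_inv hf u v c hu hv huv] at h1
  rw [← h1, Cfsg.Agent.S5643.inv_mv, h1]

theorem Tv_scale (hf : SymF f) (u v : Fin n → F) (c : F) (x : Fin n → F) :
    Tv f u v c x = Tv f u (c • v) 1 x := by
  unfold Tv
  rw [hf.smul_left]
  module

theorem isSg_comm (hf : SymF f) {t₁ t₂ : Matrix.GeneralLinearGroup (Fin n) F}
    {u y₁ y₂ : Fin n → F} {c₁ c₂ : F} (hu : f u u = 0) (h1 : f y₁ u = 0) (h2' : f y₂ u = 0)
    (ht₁ : IsSg f t₁ u y₁ c₁) (ht₂ : IsSg f t₂ u y₂ c₂) : t₁ * t₂ = t₂ * t₁ := by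
  apply gl_ext
  intro x
  have e1 : f (c₁ • y₁) u = 0 := by rw [hf.smul_left, h1, mul_zero]
  have e2 : f (c₂ • y₂) u = 0 := by rw [hf.smul_left, h2', mul_zero]
  rw [Cfsg.Agent.S5643.mul_mv, Cfsg.Agent.S5643.mul_mv, ht₂ x, ht₁, ht₁ x, ht₂,
    Tv_scale hf u y₂ c₂, Tv_scale hf u y₁ c₁, Tv_scale hf u y₁ c₁, Tv_scale hf u y₂ c₂,
    rho_formula hf u _ _ hu e2 e1, rho_formula hf u _ _ hu e1 e2,
    add_comm (c₂ • y₂) (c₁ • y₁), s_symm hf (c₂ • y₂) (c₁ • y₁)]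

theorem Tv_comm_formula (hf : SymF f) (u v w : Fin n → F) (c : F) (hu : f u u = 0)
    (hw : f w w = 0) (huv : f u v = 0) (huw : f u w = 0) (hwv : f w v = 0)
    (x : Fin n → F) : Tv f u (w + v) c (Tv f u w (-c) x) = Tv f u v c x := by
  have hvu : f v u = 0 := by rw [s_symm hf, huv]
  have hwu : f w u = 0 := by rw [s_symm hf, huw]
  have hvw : f v w = 0 := by rw [s_symm hf, hwv]
  unfold Tv
  simp only [f_add_right hf, f_sub_right hf, s_smul_right hf, hf.add_left, hu, hw, huw,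
    hvu, hwu, hvw]
  module

theorem isSg_commutator (hf : SymF f) {G : Subgroup (Matrix.GeneralLinearGroup (Fin n) F)}
    (hG : SgGroup f G) {h t : Matrix.GeneralLinearGroup (Fin n) F} {u v z w : Fin n → F} {c : F}
    (hu : f u u = 0) (hv : f v v = 0) (hz : f z z = 0) (hw : f w w = 0) (huv : f u v = 0)
    (hzu : f z u = 0) (hzv : f z v = 0) (hwu : f w u = 0) (hwv : f w v = 0) (hzw : f z w = -1)
    (hh : IsSg f h v z 1) (ht : IsSg f t u w c) : IsSg f (h * t * h⁻¹ * t⁻¹) u v c := by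
  have hvz : f v z = 0 := by rw [s_symm hf, hzv]
  have huw : f u w = 0 := by rw [s_symm hf, hwu]
  have hhG : h ∈ G := hG.sg h v z 1 hv hz hvz hh
  have h1 := isSg_conj (hG.iso h hhG) ht
  have e1 : (h : Matrix (Fin n) (Fin n) F) *ᵥ u = u := by
    rw [hh u]
    unfold Tv
    rw [s_symm hf v u, huv, hzu]
    module
  have e2 : (h : Matrix (Fin n) (Fin n) F) *ᵥ w = w + v := by
    rw [hh w]
    unfold Tv
    rw [s_symm hf v w, hwv, hzw]
    module
  rw [e1, e2] at h1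
  have h3 := isSg_inv hf hu hw huw ht
  intro x
  rw [Cfsg.Agent.S5643.mul_mv, h3 x, h1, Tv_comm_formula hf u v w c hu hw huv huw hwv]

theorem trans_step [Fintype F] (hf : SymF f) (h2 : (2 : F) ≠ 0) (hn : 5 ≤ n)
    {G : Subgroup (Matrix.GeneralLinearGroup (Fin n) F)} (hG : SgGroup f G)
    (z u' w₁ : Fin n → F) (hzz : f z z = 0) (hu' : f u' u' = 0) (hw₁w₁ : f w₁ w₁ = 0)
    (hzw₁ : f z w₁ ≠ 0) (hu'w₁ : f u' w₁ ≠ 0) :
    ∃ g ∈ G, ∃ a : F, a ≠ 0 ∧ (g : Matrix (Fin n) (Fin n) F) *ᵥ z = a • u' := by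
  have hw₁0 : w₁ ≠ 0 := by
    rintro rfl
    exact hzw₁ (f_zero_right hf z)
  obtain ⟨κ, hκ⟩ : ∃ κ, κ = f z w₁ := ⟨_, rfl⟩
  have hκ0 : κ ≠ 0 := by
    rw [hκ]
    exact hzw₁
  obtain ⟨v, hv⟩ : ∃ v, v = (κ / f u' w₁) • u' := ⟨_, rfl⟩
  have hvv : f v v = 0 := by
    rw [hv, hf.smul_left, s_smul_right hf, hu', mul_zero, mul_zero]
  have hvw : f v w₁ = κ := by
    rw [hv, hf.smul_left]
    field_simp
  obtain ⟨y, hy⟩ : ∃ y, y = κ⁻¹ • (v - z) := ⟨_, rfl⟩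
  have hyw : f y w₁ = 0 := by
    rw [hy, hf.smul_left, f_sub_left hf, hvw, ← hκ, sub_self, mul_zero]
  obtain ⟨y₁, y₂, hsum, h11, h22, h1w, h2w⟩ := decomp hf h2 hn w₁ y hw₁w₁ hw₁0 hyw
  have hw1 : f w₁ y₁ = 0 := by rw [s_symm hf, h1w]
  have hw2 : f w₁ y₂ = 0 := by rw [s_symm hf, h2w]
  obtain ⟨t₁, ht₁⟩ := hG.ex w₁ y₁ 1 hw₁w₁ h11 hw1
  obtain ⟨t₂, ht₂⟩ := hG.ex w₁ y₂ 1 hw₁w₁ h22 hw2
  have ht₁G : t₁ ∈ G := hG.sg t₁ w₁ y₁ 1 hw₁w₁ h11 hw1 ht₁
  have ht₂G : t₂ ∈ G := hG.sg t₂ w₁ y₂ 1 hw₁w₁ h22 hw2 ht₂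
  have h12 : 2 * f y₁ y₂ = f y y := by
    rw [← hsum, hf.add_left, f_add_right hf, f_add_right hf, h11, h22, s_symm hf y₂ y₁]
    ring
  have hyy : f y y = -2 * κ⁻¹ * κ⁻¹ * f v z := by
    rw [hy, hf.smul_left, s_smul_right hf, f_sub_left hf, f_sub_right hf, f_sub_right hf,
      hvv, hzz, s_symm hf z v]
    ring
  have hyz : f y z = κ⁻¹ * f v z := by
    rw [hy, hf.smul_left, f_sub_left hf, hzz]
    ring
  have e : ((t₂ * t₁ : Matrix.GeneralLinearGroup (Fin n) F) :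
      Matrix (Fin n) (Fin n) F) *ᵥ z = v := by
    rw [Cfsg.Agent.S5643.mul_mv, ht₁ z, ht₂, rho_formula hf w₁ y₁ y₂ hw₁w₁ h1w h2w, hsum,
      s_symm hf w₁ z, ← hκ, hyz]
    have e1 : κ • y = v - z := by
      rw [hy, smul_smul, mul_inv_cancel₀ hκ0, one_smul]
    have e2 : f y₁ y₂ * κ = -(κ⁻¹ * f v z) := by
      have h5 : 2 * (f y₁ y₂ * κ) = 2 * (-(κ⁻¹ * f v z)) := by
        rw [← mul_assoc, h12, hyy]
        field_simp
      exact mul_left_cancel₀ h2 h5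
    rw [e1, e2]
    module
  refine ⟨t₂ * t₁, G.mul_mem ht₂G ht₁G, κ / f u' w₁, div_ne_zero hκ0 hu'w₁, ?_⟩
  rw [e, hv]

theorem trans_orth [Fintype F] (hf : SymF f) (h2 : (2 : F) ≠ 0) (hn : 5 ≤ n)
    {G : Subgroup (Matrix.GeneralLinearGroup (Fin n) F)} (hG : SgGroup f G)
    (u u' : Fin n → F) (hu : f u u = 0) (hu0 : u ≠ 0) (hu' : f u' u' = 0)
    (hs : u' ∉ Submodule.span F {u}) (huu' : f u u' = 0) :
    ∃ g ∈ G, ∃ a : F, a ≠ 0 ∧ (g : Matrix (Fin n) (Fin n) F) *ᵥ u = a • u' := by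
  obtain ⟨w₀, hw₀, h1, h3⟩ := far_pair hf h2 u u' hu0 hs hu huu'
  exact trans_step hf h2 hn hG u u' w₀ hu hu' hw₀ (by rw [s_symm hf]; exact h1)
    (by rw [s_symm hf]; exact h3)

theorem trans_sing [Fintype F] (hf : SymF f) (h2 : (2 : F) ≠ 0) (hn : 5 ≤ n)
    {G : Subgroup (Matrix.GeneralLinearGroup (Fin n) F)} (hG : SgGroup f G)
    (u u' : Fin n → F) (hu : f u u = 0) (hu0 : u ≠ 0) (hu' : f u' u' = 0) (hu'0 : u' ≠ 0) :
    ∃ g ∈ G, ∃ a : F, a ≠ 0 ∧ (g : Matrix (Fin n) (Fin n) F) *ᵥ u = a • u' := by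
  by_cases hs : u' ∈ Submodule.span F {u}
  · obtain ⟨b, rfl⟩ := Submodule.mem_span_singleton.1 hs
    have hb : b ≠ 0 := by
      rintro rfl
      exact hu'0 (zero_smul F u)
    refine ⟨1, G.one_mem, b⁻¹, inv_ne_zero hb, ?_⟩
    rw [Units.val_one, Matrix.one_mulVec, smul_smul, inv_mul_cancel₀ hb, one_smul]
  by_cases huu' : f u u' = 0
  · exact trans_orth hf h2 hn hG u u' hu hu0 hu' hs huu'
  have hnd2 := nd_cons2 hf e0 nd_e0 u' u (perp_e0 u') (perp_e0 u) hu' hu huu'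
  obtain ⟨u₃, hu₃a, hu₃, hu₃0⟩ := ex_sing hf h2 _ hnd2 (by omega)
  rw [perp_cons, perp_cons] at hu₃a
  obtain ⟨h3', h3, _⟩ := hu₃a
  have hs1 : u₃ ∉ Submodule.span F {u} := by
    intro h
    obtain ⟨b, rfl⟩ := Submodule.mem_span_singleton.1 h
    rw [hf.smul_left] at h3'
    rcases mul_eq_zero.1 h3' with hb | hb
    · rw [hb, zero_smul] at hu₃0
      exact hu₃0 rfl
    · exact huu' hb
  have hs2 : u' ∉ Submodule.span F {u₃} := by
    intro h
    obtain ⟨b, rfl⟩ := Submodule.mem_span_singleton.1 h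
    apply huu'
    rw [s_smul_right hf, s_symm hf u u₃, h3, mul_zero]
  obtain ⟨g₁, hg₁, a₁, ha₁, e₁⟩ := trans_orth hf h2 hn hG u u₃ hu hu0 hu₃ hs1
    (by rw [s_symm hf]; exact h3)
  obtain ⟨g₂, hg₂, a₂, ha₂, e₂⟩ := trans_orth hf h2 hn hG u₃ u' hu₃ hu₃0 hu' hs2 h3'
  refine ⟨g₂ * g₁, G.mul_mem hg₂ hg₁, a₁ * a₂, mul_ne_zero ha₁ ha₂, ?_⟩
  rw [Cfsg.Agent.S5643.mul_mv, e₁, Matrix.mulVec_smul, e₂, smul_smul]

theorem top_of_sg {G : Subgroup (Matrix.GeneralLinearGroup (Fin n) F)} (hG : SgGroup f G)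
    (K : Subgroup ↥G)
    (h : ∀ (g : ↥G) (u v : Fin n → F) (c : F), f u u = 0 → f v v = 0 → f u v = 0 →
      IsSg f (g : Matrix.GeneralLinearGroup (Fin n) F) u v c → g ∈ K) : K = ⊤ := by
  rw [eq_top_iff]
  intro g _
  have h1 : G ≤ K.map G.subtype := hG.gen _ (fun t u v c hu hv huv ht =>
    ⟨⟨t, hG.sg t u v c hu hv huv ht⟩, h _ u v c hu hv huv ht, rfl⟩)
  obtain ⟨k, hk, hkg⟩ := h1 g.2
  have e : k = g := Subtype.ext hkg
  rw [← e]
  exact hk

theorem isSg_one_of_zero (hf : SymF f) {t : Matrix.GeneralLinearGroup (Fin n) F} {v : Fin n → F}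
    {c : F} (ht : IsSg f t 0 v c) : t = 1 := by
  apply gl_ext
  intro x
  rw [ht x, Units.val_one, Matrix.one_mulVec]
  unfold Tv
  rw [f_zero_left hf, zero_smul, smul_zero, sub_zero, smul_zero, add_zero]

theorem isSg_one_of_dep (hf : SymF f) {t : Matrix.GeneralLinearGroup (Fin n) F} {u : Fin n → F}
    {b c : F} (ht : IsSg f t u (b • u) c) : t = 1 := by
  apply gl_ext
  intro x
  rw [ht x, Units.val_one, Matrix.one_mulVec]
  unfold Tv
  rw [hf.smul_left]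
  module

theorem Tv_smul_right (hf : SymF f) (a : F) (u v : Fin n → F) (c : F) (x : Fin n → F) :
    Tv f u (a • v) c x = Tv f u v (a * c) x := by
  unfold Tv
  rw [hf.smul_left]
  module

theorem perfect_aux [Fintype F] (hf : SymF f) (h2 : (2 : F) ≠ 0) (hn : 7 ≤ n)
    (u v : Fin n → F) (hu : f u u = 0) (hv : f v v = 0) (huv : f u v = 0) (hu0 : u ≠ 0)
    (hs : v ∉ Submodule.span F {u}) :
    ∃ z w, f z z = 0 ∧ f w w = 0 ∧ f z u = 0 ∧ f z v = 0 ∧ f w u = 0 ∧ f w v = 0 ∧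
      f z w = -1 := by
  obtain ⟨u', hu'u', hu'u, _⟩ := partner hf h2 e0 nd_e0 u hu0 (perp_e0 u) hu
  have huu' : f u u' = 1 := by rw [s_symm hf, hu'u]
  have hnd2 := nd_cons2 hf e0 nd_e0 u' u (perp_e0 u') (perp_e0 u) hu'u' hu (by
    rw [huu']
    exact one_ne_zero)
  obtain ⟨v₁, hv₁⟩ : ∃ v₁, v₁ = v - f v u' • u := ⟨_, rfl⟩
  have hvu : f v u = 0 := by rw [s_symm hf, huv]
  have hv₁u : f v₁ u = 0 := by
    rw [hv₁, f_sub_left hf, hf.smul_left, hvu, hu, mul_zero, sub_zero]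
  have hv₁u' : f v₁ u' = 0 := by
    rw [hv₁, f_sub_left hf, hf.smul_left, huu', mul_one, sub_self]
  have hv₁v₁ : f v₁ v₁ = 0 := by
    rw [hv₁]
    simp only [f_sub_left hf, f_sub_right hf, hf.smul_left, s_smul_right hf, hv, hvu, huv, hu]
    ring
  have hv₁0 : v₁ ≠ 0 := by
    intro h
    apply hs
    rw [Submodule.mem_span_singleton]
    refine ⟨f v u', ?_⟩
    rw [hv₁, sub_eq_zero] at h
    exact h.symm
  have hv₁a : Perp f (Fin.cons u' (Fin.cons u e0) : Fin (0 + 1 + 1) → (Fin n → F)) v₁ :=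
    (perp_cons _ _ _).2 ⟨hv₁u', (perp_cons _ _ _).2 ⟨hv₁u, perp_e0 _⟩⟩
  obtain ⟨v₁', hv₁'v₁', hv₁'v₁, hv₁'a⟩ := partner hf h2 _ hnd2 v₁ hv₁0 hv₁a hv₁v₁
  have hnd4 := nd_cons2 hf _ hnd2 v₁' v₁ hv₁'a hv₁a hv₁'v₁' hv₁v₁ (by
    rw [s_symm hf, hv₁'v₁]
    exact one_ne_zero)
  obtain ⟨z, hza, hzz, hz0⟩ := ex_sing hf h2 _ hnd4 (by omega)
  obtain ⟨w₀, hw₀w₀, hw₀z, hw₀a⟩ := partner hf h2 _ hnd4 z hz0 hza hzz
  rw [perp_cons, perp_cons, perp_cons, perp_cons] at hza hw₀a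
  obtain ⟨_, hzv₁, _, hzu, _⟩ := hza
  obtain ⟨_, hwv₁, _, hwu, _⟩ := hw₀a
  have hv : v = v₁ + f v u' • u := by
    rw [hv₁]
    abel
  refine ⟨z, -w₀, hzz, ?_, hzu, ?_, ?_, ?_, ?_⟩
  · rw [f_neg_left hf, f_neg_right hf, hw₀w₀]
    ring
  · rw [hv, f_add_right hf, s_smul_right hf, hzv₁, hzu]
    ring
  · rw [f_neg_left hf, hwu, neg_zero]
  · rw [f_neg_left hf, hv, f_add_right hf, s_smul_right hf, hwv₁, hwu]
    ring
  · rw [f_neg_right hf, s_symm hf z w₀, hw₀z]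

theorem same_eig (hf : SymF f) (g : Matrix.GeneralLinearGroup (Fin n) F)
    (hfix : ∀ u : Fin n → F, f u u = 0 → u ≠ 0 →
      ∃ b : F, (g : Matrix (Fin n) (Fin n) F) *ᵥ u = b • u)
    (x y : Fin n → F) (bx by' : F) (hx : f x x = 0) (hy : f y y = 0) (hxy : f x y = 0)
    (hx0 : x ≠ 0) (hs : y ∉ Submodule.span F {x})
    (hgx : (g : Matrix (Fin n) (Fin n) F) *ᵥ x = bx • x)
    (hgy : (g : Matrix (Fin n) (Fin n) F) *ᵥ y = by' • y) : bx = by' := by
  have hyx : f y x = 0 := by rw [s_symm hf, hxy]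
  have hxy0 : x + y ≠ 0 := by
    intro h
    apply hs
    rw [Submodule.mem_span_singleton]
    refine ⟨-1, ?_⟩
    rw [neg_one_smul]
    exact (eq_neg_of_add_eq_zero_right h).symm
  obtain ⟨b₃, hb₃⟩ := hfix (x + y) (by
    rw [hf.add_left, f_add_right hf, f_add_right hf, hx, hy, hxy, hyx]
    ring) hxy0
  rw [Matrix.mulVec_add, hgx, hgy] at hb₃
  have h1 : (bx - b₃) • x + (by' - b₃) • y = 0 := by
    have : (bx - b₃) • x + (by' - b₃) • y = bx • x + by' • y - b₃ • (x + y) := by module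
    rw [this, hb₃, sub_self]
  have h3 := (LinearIndependent.pair_iff).1 (li2 x y hx0 hs) (bx - b₃) (by' - b₃) h1
  have h4 : bx = b₃ := sub_eq_zero.1 h3.1
  have h5 : by' = b₃ := sub_eq_zero.1 h3.2
  rw [h4, h5]

theorem core_aux (hf : SymF f) (h2 : (2 : F) ≠ 0)
    {G : Subgroup (Matrix.GeneralLinearGroup (Fin n) F)} (hG : SgGroup f G)
    (g : Matrix.GeneralLinearGroup (Fin n) F) (hg : g ∈ G)
    (hfix : ∀ u : Fin n → F, f u u = 0 → u ≠ 0 →
      ∃ b : F, (g : Matrix (Fin n) (Fin n) F) *ᵥ u = b • u)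
    (t : Matrix.GeneralLinearGroup (Fin n) F) (u v : Fin n → F) (c : F) (hu : f u u = 0)
    (hv : f v v = 0) (huv : f u v = 0) (ht : IsSg f t u v c) : g * t = t * g := by
  by_cases hu0 : u = 0
  · rw [hu0] at ht
    rw [isSg_one_of_zero hf ht, mul_one, one_mul]
  by_cases hs : v ∈ Submodule.span F {u}
  · obtain ⟨b, rfl⟩ := Submodule.mem_span_singleton.1 hs
    rw [isSg_one_of_dep hf ht, mul_one, one_mul]
  have hv0 : v ≠ 0 := by
    rintro rfl
    exact hs (Submodule.zero_mem _)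
  have hvu : f v u = 0 := by rw [s_symm hf, huv]
  have hs' : u ∉ Submodule.span F {v} := by
    intro h
    obtain ⟨a, ha⟩ := Submodule.mem_span_singleton.1 h
    have ha0 : a ≠ 0 := by
      rintro rfl
      rw [zero_smul] at ha
      exact hu0 ha.symm
    apply hs
    rw [Submodule.mem_span_singleton]
    refine ⟨a⁻¹, ?_⟩
    rw [← ha, smul_smul, inv_mul_cancel₀ ha0, one_smul]
  obtain ⟨bu, hbu⟩ := hfix u hu hu0
  obtain ⟨bv, hbv⟩ := hfix v hv hv0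
  obtain ⟨v', hv'v', hv'u, hv'v⟩ := perp_partner hf h2 u v hv0 hs' hv hvu
  have hv'0 : v' ≠ 0 := by
    rintro rfl
    rw [f_zero_left hf] at hv'v
    exact zero_ne_one hv'v
  obtain ⟨bv', hbv'⟩ := hfix v' hv'v' hv'0
  have h1 : bv' * bv = 1 := by
    have h3 := hG.iso g hg v' v
    rw [hbv', hbv, hf.smul_left, s_smul_right hf, hv'v] at h3
    linear_combination h3
  have hs'' : v' ∉ Submodule.span F {u} := by
    intro h
    obtain ⟨a, rfl⟩ := Submodule.mem_span_singleton.1 h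
    rw [hf.smul_left, huv, mul_zero] at hv'v
    exact zero_ne_one hv'v
  have h4 : bu = bv' := same_eig hf g hfix u v' bu bv' hu hv'v' (by rw [s_symm hf, hv'u]) hu0 hs''
    hbu hbv'
  have h5 := isSg_conj (hG.iso g hg) ht
  rw [hbu, hbv] at h5
  have h6 : g * t * g⁻¹ = t := by
    apply gl_ext
    intro x
    rw [h5 x, ht x, Tv_smul_left hf, Tv_smul_right hf]
    have e : bv * (bu * c) = c := by
      rw [h4]
      linear_combination c * h1
    rw [e]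
  calc g * t = g * t * g⁻¹ * g := by group
    _ = t * g := by rw [h6]

theorem iwasawa_orth [Fintype F] (hf : SymF f) (h2 : (2 : F) ≠ 0) (hn : 7 ≤ n)
    {G : Subgroup (Matrix.GeneralLinearGroup (Fin n) F)} (hG : SgGroup f G) :
    IsSimpleGroup (↥G ⧸ Subgroup.center ↥G) := by
  have hn5 : 5 ≤ n := by omega
  obtain ⟨u₀, _, hu₀, hu₀0⟩ := ex_sing hf h2 (e0 : Fin 0 → (Fin n → F)) nd_e0 (by omega)
  obtain ⟨W, hWdef⟩ : ∃ W : Submodule F (Fin n → F), W = Submodule.span F {u₀} := ⟨_, rfl⟩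
  have hu₀W : u₀ ∈ W := by
    rw [hWdef]
    exact Submodule.mem_span_singleton_self u₀
  have hW0 : W ≠ ⊥ := by
    intro h
    rw [h, Submodule.mem_bot] at hu₀W
    exact hu₀0 hu₀W
  have hW : ∀ x ∈ W, ∀ y ∈ W, f x y = 0 := by
    intro x hx y hy
    rw [hWdef] at hx hy
    obtain ⟨a, rfl⟩ := Submodule.mem_span_singleton.1 hx
    obtain ⟨b, rfl⟩ := Submodule.mem_span_singleton.1 hy
    rw [hf.smul_left, s_smul_right hf, hu₀, mul_zero, mul_zero]
  have hWdim : Module.finrank F W = 1 := by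
    rw [hWdef]
    exact finrank_span_singleton hu₀0
  have hmaxGL := ts_max_orth hf h2 hn5 G hG.iso hG.sg hG.ex hG.gen W hW0 hW (Or.inr (by
    rw [hWdim]
    omega))
  obtain ⟨H, hHdef⟩ : ∃ H : Subgroup ↥G, H = (Cfsg.Geo.subspaceStabilizer W).subgroupOf G :=
    ⟨_, rfl⟩
  obtain ⟨Sgen, hSdef⟩ : ∃ Sgen : Set ↥G, Sgen = {g : ↥G | ∃ (v : Fin n → F) (c : F),
      f v v = 0 ∧ f u₀ v = 0 ∧ IsSg f (g : Matrix.GeneralLinearGroup (Fin n) F) u₀ v c} :=
    ⟨_, rfl⟩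
  have hstabH : ∀ h ∈ H, ∃ a : F, a ≠ 0 ∧
      ((h : Matrix.GeneralLinearGroup (Fin n) F) : Matrix (Fin n) (Fin n) F) *ᵥ u₀ = a • u₀ := by
    intro h hh
    rw [hHdef, Subgroup.mem_subgroupOf] at hh
    have h1 := ((Cfsg.Agent.Lib.Helper28.UMax.mem_stab_iff W h.1).1 hh u₀).1 hu₀W
    rw [hWdef] at h1
    obtain ⟨a, ha⟩ := Submodule.mem_span_singleton.1 h1
    refine ⟨a, ?_, ha.symm⟩
    rintro rfl
    rw [zero_smul] at ha
    have h3 := Cfsg.Agent.S5643.inv_mv (h : Matrix.GeneralLinearGroup (Fin n) F) u₀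
    rw [← ha, Matrix.mulVec_zero] at h3
    exact hu₀0 h3.symm
  apply Cfsg.Agent.Lib.Helper28.Iwa.simple_of_iwasawa H (Subgroup.closure Sgen)
  · intro K hHK
    have h1 : Cfsg.Geo.subspaceStabilizer W ⊓ G ≤ K.map G.subtype := by
      rintro x ⟨hxS, hxG⟩
      refine ⟨⟨x, hxG⟩, hHK ?_, rfl⟩
      rw [hHdef, Subgroup.mem_subgroupOf]
      exact hxS
    have h3 : K.map G.subtype ≤ G := by
      rintro _ ⟨k, _, rfl⟩
      exact k.2
    rcases hmaxGL.2 _ h1 h3 with h4 | h4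
    · left
      apply le_antisymm _ hHK
      intro g hg
      have h5 : (g : Matrix.GeneralLinearGroup (Fin n) F) ∈ K.map G.subtype := ⟨g, hg, rfl⟩
      rw [h4] at h5
      rw [hHdef, Subgroup.mem_subgroupOf]
      exact h5.1
    · right
      rw [eq_top_iff]
      intro g _
      have h5 : (g : Matrix.GeneralLinearGroup (Fin n) F) ∈ K.map G.subtype := by
        rw [h4]
        exact g.2
      obtain ⟨k, hk, hkg⟩ := h5
      have e : k = g := Subtype.ext hkg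
      rw [← e]
      exact hk
  · have hScomm : ∀ a ∈ Sgen, ∀ b ∈ Sgen, a * b = b * a := by
      intro a ha b hb
      rw [hSdef] at ha hb
      obtain ⟨v₁, c₁, hv₁, huv₁, ha⟩ := ha
      obtain ⟨v₂, c₂, hv₂, huv₂, hb⟩ := hb
      apply Subtype.ext
      exact isSg_comm hf hu₀ (by rw [s_symm hf]; exact huv₁) (by rw [s_symm hf]; exact huv₂) ha hb
    have h1 : Subgroup.closure Sgen ≤ Subgroup.centralizer (Sgen : Set ↥G) := by
      rw [Subgroup.closure_le]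
      intro a ha
      rw [SetLike.mem_coe, Subgroup.mem_centralizer_iff]
      intro b hb
      exact hScomm b hb a ha
    have h3 : Subgroup.closure Sgen ≤
        Subgroup.centralizer ((Subgroup.closure Sgen : Subgroup ↥G) : Set ↥G) := by
      rw [Subgroup.closure_le]
      intro a ha
      rw [SetLike.mem_coe, Subgroup.mem_centralizer_iff]
      intro b hb
      exact ((Subgroup.mem_centralizer_iff.1 (h1 hb)) a ha).symm
    intro a ha b hb
    exact (Subgroup.mem_centralizer_iff.1 (h3 hb)) a ha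
  · intro h hh t ht
    obtain ⟨a, ha0, hha⟩ := hstabH h hh
    have h1 : (Subgroup.closure Sgen).map (MulAut.conj h).toMonoidHom ≤ Subgroup.closure Sgen := by
      rw [MonoidHom.map_closure]
      apply Subgroup.closure_mono
      rintro _ ⟨g, hg, rfl⟩
      rw [hSdef] at hg ⊢
      obtain ⟨v, c, hv, huv, hg⟩ := hg
      have h3 := isSg_conj (hG.iso h.1 h.2) hg
      rw [hha] at h3
      refine ⟨((h : Matrix.GeneralLinearGroup (Fin n) F) : Matrix (Fin n) (Fin n) F) *ᵥ v, a * c,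
        by rw [hG.iso h.1 h.2, hv], ?_, fun x => ?_⟩
      · have h4 := hG.iso h.1 h.2 u₀ v
        rw [hha, hf.smul_left, huv] at h4
        exact (mul_eq_zero.1 h4).resolve_left ha0
      · have h4 := h3 x
        rw [Tv_smul_left hf] at h4
        exact h4
    exact h1 ⟨t, ht, rfl⟩
  · apply top_of_sg hG
    intro g u v c hu hv huv hg
    by_cases hu0 : u = 0
    · rw [hu0] at hg
      have e : g = 1 := Subtype.ext (isSg_one_of_zero hf hg)
      rw [e]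
      exact Subgroup.one_mem _
    obtain ⟨k, hkG, a, ha0, hka⟩ := trans_sing hf h2 hn5 hG u u₀ hu hu0 hu₀ hu₀0
    have h3 := isSg_conj (hG.iso k hkG) hg
    rw [hka] at h3
    apply Subgroup.subset_closure
    refine ⟨(⟨k, hkG⟩ : ↥G)⁻¹, (⟨k, hkG⟩ : ↥G) * g * (⟨k, hkG⟩ : ↥G)⁻¹, ?_, by group⟩
    apply Subgroup.subset_closure
    rw [hSdef]
    refine ⟨(k : Matrix (Fin n) (Fin n) F) *ᵥ v, a * c, by rw [hG.iso k hkG, hv], ?_, fun x => ?_⟩
    · have h4 := hG.iso k hkG u v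
      rw [hka, hf.smul_left, huv] at h4
      exact (mul_eq_zero.1 h4).resolve_left ha0
    · have h4 := h3 x
      rw [Tv_smul_left hf] at h4
      exact h4
  · apply top_of_sg hG
    intro g u v c hu hv huv hg
    by_cases hu0 : u = 0
    · rw [hu0] at hg
      have e : g = 1 := Subtype.ext (isSg_one_of_zero hf hg)
      rw [e]
      exact Subgroup.one_mem _
    by_cases hs : v ∈ Submodule.span F {u}
    · obtain ⟨b, rfl⟩ := Submodule.mem_span_singleton.1 hs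
      have e : g = 1 := Subtype.ext (isSg_one_of_dep hf hg)
      rw [e]
      exact Subgroup.one_mem _
    obtain ⟨z, w, hz, hw, hzu, hzv, hwu, hwv, hzw⟩ := perfect_aux hf h2 hn u v hu hv huv hu0 hs
    have hvz : f v z = 0 := by rw [s_symm hf, hzv]
    have huw : f u w = 0 := by rw [s_symm hf, hwu]
    obtain ⟨h, hh⟩ := hG.ex v z 1 hv hz hvz
    obtain ⟨t, ht⟩ := hG.ex u w c hu hw huw
    have hhG : h ∈ G := hG.sg h v z 1 hv hz hvz hh
    have htG : t ∈ G := hG.sg t u w c hu hw huw ht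
    have h5 := isSg_commutator hf hG hu hv hz hw huv hzu hzv hwu hwv hzw hh ht
    have e : g = (⟨h, hhG⟩ : ↥G) * (⟨t, htG⟩ : ↥G) * (⟨h, hhG⟩ : ↥G)⁻¹ * (⟨t, htG⟩ : ↥G)⁻¹ := by
      apply Subtype.ext
      apply gl_ext
      intro x
      rw [hg x]
      exact (h5 x).symm
    have h6 := Subgroup.commutator_mem_commutator (Subgroup.mem_top (⟨h, hhG⟩ : ↥G))
      (Subgroup.mem_top (⟨t, htG⟩ : ↥G))
    rw [commutatorElement_def] at h6
    rw [e, commutator_def]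
    exact h6
  · intro N hN hNH g hgN
    have hfix : ∀ u : Fin n → F, f u u = 0 → u ≠ 0 → ∃ b : F,
        ((g : Matrix.GeneralLinearGroup (Fin n) F) : Matrix (Fin n) (Fin n) F) *ᵥ u = b • u := by
      intro u hu hu0
      obtain ⟨k, hkG, a, ha0, hka⟩ := trans_sing hf h2 hn5 hG u₀ u hu₀ hu₀0 hu hu0
      have h3 : (⟨k, hkG⟩ : ↥G)⁻¹ * g * (⟨k, hkG⟩ : ↥G)⁻¹⁻¹ ∈ N := hN.conj_mem g hgN _
      obtain ⟨b, _, hb⟩ := hstabH _ (hNH h3)
      refine ⟨b, ?_⟩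
      have h4 : ((g : Matrix.GeneralLinearGroup (Fin n) F) : Matrix (Fin n) (Fin n) F) *ᵥ
          ((k : Matrix (Fin n) (Fin n) F) *ᵥ u₀) = b • ((k : Matrix (Fin n) (Fin n) F) *ᵥ u₀) := by
        have h5 : (((⟨k, hkG⟩ : ↥G)⁻¹ * g * (⟨k, hkG⟩ : ↥G)⁻¹⁻¹ : ↥G) :
            Matrix.GeneralLinearGroup (Fin n) F) = k⁻¹ * (g : Matrix.GeneralLinearGroup (Fin n) F) * k := by
          rw [inv_inv]
          rfl
        rw [h5, Cfsg.Agent.S5643.mul_mv, Cfsg.Agent.S5643.mul_mv] at hb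
        have h6 := congrArg (fun y => (k : Matrix (Fin n) (Fin n) F) *ᵥ y) hb
        simp only [Cfsg.Agent.S5643.inv_mv', Matrix.mulVec_smul] at h6
        exact h6
      rw [hka, Matrix.mulVec_smul] at h4
      have h7 := congrArg (fun y => a⁻¹ • y) h4
      simp only [smul_smul] at h7
      rw [inv_mul_cancel₀ ha0, one_smul, mul_comm b a, ← mul_assoc, inv_mul_cancel₀ ha0,
        one_mul] at h7
      exact h7
    rw [Subgroup.mem_center_iff]
    intro k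
    have hC : Subgroup.centralizer ({g} : Set ↥G) = ⊤ := by
      apply top_of_sg hG
      intro t u v c hu hv huv ht
      rw [Subgroup.mem_centralizer_iff]
      intro x hx
      rw [Set.mem_singleton_iff] at hx
      rw [hx]
      apply Subtype.ext
      exact core_aux hf h2 hG g.1 g.2 hfix t.1 u v c hu hv huv ht
    have hk : k ∈ Subgroup.centralizer ({g} : Set ↥G) := by
      rw [hC]
      trivial
    exact ((Subgroup.mem_centralizer_iff.1 hk) g rfl).symm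
  · obtain ⟨u', hu'u', hu'u, _⟩ := partner hf h2 e0 nd_e0 u₀ hu₀0 (perp_e0 u₀) hu₀
    have huu' : f u₀ u' = 1 := by rw [s_symm hf, hu'u]
    have hnd2 := nd_cons2 hf e0 nd_e0 u' u₀ (perp_e0 u') (perp_e0 u₀) hu'u' hu₀ (by
      rw [huu']
      exact one_ne_zero)
    obtain ⟨s, hsa, hss, hs0⟩ := ex_sing hf h2 _ hnd2 (by omega)
    rw [perp_cons, perp_cons] at hsa
    obtain ⟨hsu', hsu, _⟩ := hsa
    have hus : f u₀ s = 0 := by rw [s_symm hf, hsu]
    obtain ⟨t, ht⟩ := hG.ex u₀ s 1 hu₀ hss hus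
    refine ⟨⟨t, hG.sg t u₀ s 1 hu₀ hss hus ht⟩, ?_⟩
    intro h
    have h1 : t = 1 := congrArg Subtype.val h
    have h3 := ht u'
    rw [h1, Units.val_one, Matrix.one_mulVec] at h3
    unfold Tv at h3
    rw [huu', hsu', zero_smul, sub_zero, one_smul, one_smul] at h3
    apply hs0
    have h4 : u' + s - u' = 0 := by rw [← h3, sub_self]
    rw [add_sub_cancel_left] at h4
    exact h4

end Cfsg.Agent.Lib.Helper28.OIwa
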