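import Mathlib
import Cfsg.Agent.Lib.helper8.OME.Defs
import Cfsg.Agent.Lib.Helper28.OMESCALREDh28

set_option autoImplicit false
set_option linter.unusedVariables false

/-!
# Project OME, row OMEGAODD (`ome_omega_odd`), verbatim from `helper8/OME/Skel.lean.txt` (helper28; one-liner on `omeomegaodd_h28`).
-/

namespace Cfsg.Agent.Lib.helper8.OME

open Polynomial Module Cfsg.Agent.Lib.Helper13.S5955 Cfsg.Agent.Lib.helper15.S5972
  Cfsg.Agent.Lib.Helper18.OPE
open scoped Matrix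

/-- OMEGAODD [S-M] (twin of OPE `q_omega_odd`; wrapper of OTS `q_omega_of_odd` with `Qs = Qm d F a b`, `card (MI d) = 2d ≥ 5`, `qfMinus_nondeg`). -/
theorem ome_omega_odd {F : Type*} [Field F] [Fintype F] (d : ℕ) (hd : 3 ≤ d) (a b : F)
    (hab : ∀ x y : F, x ^ 2 + a * x * y + b * y ^ 2 = 0 → x = 0 ∧ y = 0) (r : ℕ) (hr : Odd r)
    (x : GL (MI d) F) (hx : x ∈ Cfsg.isometryGroup F (Cfsg.quadFormMinus (d - 1) F a b))
    (hxr : x ^ r = 1) : x ∈ Cfsg.Geo.omegaGL (Cfsg.quadFormMinus (d - 1) F a b) := by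
  exact omeomegaodd_h28 d hd a b hab r hr x hx hxr

end Cfsg.Agent.Lib.helper8.OME
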