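import Cfsg.Agent.Lib.Helper28.OGen
import Cfsg.Agent.Lib.Helper28.UMax

set_option autoImplicit false

open Cfsg

namespace Cfsg.Agent.Lib.Helper28.OMax

open Matrix Cfsg.Agent.Lib.Helper28.HForm Cfsg.Agent.Lib.Helper28.OGen

variable {n : ℕ} {F : Type*} [Field F] {f : (Fin n → F) → (Fin n → F) → F}

def Tv (f : (Fin n → F) → (Fin n → F) → F) (u v : Fin n → F) (c : F) (x : Fin n → F) :
    Fin n → F := x + c • (f u x • v - f v x • u)

def IsSg (f : (Fin n → F) → (Fin n → F) → F) (t : Matrix.GeneralLinearGroup (Fin n) F)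
    (u v : Fin n → F) (c : F) : Prop :=
  ∀ x, (t : Matrix (Fin n) (Fin n) F) *ᵥ x = Tv f u v c x

theorem Tv_swap (u v : Fin n → F) (c : F) (x : Fin n → F) :
    Tv f u v c x = Tv f v u (-c) x := by
  unfold Tv
  module

theorem Tv_smul_left (hf : SymF f) (a : F) (u v : Fin n → F) (c : F) (x : Fin n → F) :
    Tv f (a • u) v c x = Tv f u v (a * c) x := by
  unfold Tv
  rw [hf.smul_left]
  module

theorem isSg_swap {t : Matrix.GeneralLinearGroup (Fin n) F} {u v : Fin n → F} {c : F}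
    (h : IsSg f t u v c) : IsSg f t v u (-c) := fun x => by rw [h x, Tv_swap]

theorem isSg_conj {t k : Matrix.GeneralLinearGroup (Fin n) F} {u v : Fin n → F} {c : F}
    (hk : ∀ x y, f ((k : Matrix (Fin n) (Fin n) F) *ᵥ x) ((k : Matrix (Fin n) (Fin n) F) *ᵥ y) = f x y)
    (h : IsSg f t u v c) :
    IsSg f (k * t * k⁻¹) ((k : Matrix (Fin n) (Fin n) F) *ᵥ u)
      ((k : Matrix (Fin n) (Fin n) F) *ᵥ v) c := by
  intro x
  rw [Cfsg.Agent.S5643.mul_mv, Cfsg.Agent.S5643.mul_mv, h]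
  unfold Tv
  have e1 : ∀ a : Fin n → F, f a (((k⁻¹ : Matrix.GeneralLinearGroup (Fin n) F) :
      Matrix (Fin n) (Fin n) F) *ᵥ x) = f ((k : Matrix (Fin n) (Fin n) F) *ᵥ a) x := by
    intro a
    rw [← hk a, Cfsg.Agent.S5643.inv_mv']
  rw [e1, e1, Matrix.mulVec_add, Cfsg.Agent.S5643.inv_mv', Matrix.mulVec_smul, Matrix.mulVec_sub,
    Matrix.mulVec_smul, Matrix.mulVec_smul]

theorem rho_formula (hf : SymF f) (w y₁ y₂ : Fin n → F) (hw : f w w = 0) (h1 : f y₁ w = 0)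
    (h2' : f y₂ w = 0) (x : Fin n → F) :
    Tv f w y₂ 1 (Tv f w y₁ 1 x) =
      x + f w x • (y₁ + y₂) - f (y₁ + y₂) x • w - (f y₁ y₂ * f w x) • w := by
  have h1' : f w y₁ = 0 := by rw [s_symm hf, h1]
  unfold Tv
  simp only [f_add_right hf, f_sub_right hf, s_smul_right hf, hf.add_left, one_smul, hw, h2',
    h1', s_symm hf y₂ y₁]
  module

theorem iso_fix_s (hf : SymF f) (h2 : (2 : F) ≠ 0) (z w : Fin n → F) (hw : f w w = 0)
    (hzw : f z w ≠ 0) : ∃ β : F, f (z + β • w) (z + β • w) = 0 := by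
  refine ⟨-(f z z) / (2 * f z w), ?_⟩
  rw [hf.add_left, f_add_right hf, f_add_right hf, hf.smul_left, hf.smul_left, s_smul_right hf,
    s_smul_right hf, hw, s_symm hf w z]
  field_simp
  ring

theorem dperp_s (hf : SymF f) (S : Submodule F (Fin n → F)) (z : Fin n → F)
    (hz : z ∉ S) : ∃ y : Fin n → F, (∀ s ∈ S, f s y = 0) ∧ f z y ≠ 0 := by
  obtain ⟨φ, hφz, hφS⟩ := Submodule.exists_le_ker_of_notMem hz
  obtain ⟨y, hy⟩ := riesz hf φ
  refine ⟨y, fun s hs => ?_, ?_⟩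
  · rw [hy]
    exact hφS hs
  · rw [hy]
    exact hφz

theorem ex_sing [Fintype F] (hf : SymF f) (h2 : (2 : F) ≠ 0) {m : ℕ}
    (a : Fin m → (Fin n → F)) (ha : Nd f a) (hm : m + 3 ≤ n) :
    ∃ s, Perp f a s ∧ f s s = 0 ∧ s ≠ 0 := by
  obtain ⟨s₁, hs₁a, hs₁⟩ := exists_noniso_perp_s hf h2 a ha (by omega)
  have hnd1 := nd_cons1 hf a ha s₁ hs₁a hs₁
  obtain ⟨t, hta, htt⟩ := rep_value hf h2 _ hnd1 (by omega) (-(f s₁ s₁))
  rw [perp_cons] at hta
  obtain ⟨hts, hta⟩ := hta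
  have hst : f s₁ t = 0 := by rw [s_symm hf, hts]
  refine ⟨s₁ + t, perp_add hf a _ _ hs₁a hta, ?_, ?_⟩
  · rw [hf.add_left, f_add_right hf, f_add_right hf, hts, hst, htt]
    ring
  · intro h
    have h1 : f (s₁ + t) s₁ = f s₁ s₁ := by rw [hf.add_left, hts, add_zero]
    rw [h, f_zero_left hf] at h1
    exact hs₁ h1.symm

theorem decomp [Fintype F] (hf : SymF f) (h2 : (2 : F) ≠ 0) (hn : 5 ≤ n) (w y : Fin n → F)
    (hw : f w w = 0) (hw0 : w ≠ 0) (hyw : f y w = 0) :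
    ∃ y₁ y₂, y₁ + y₂ = y ∧ f y₁ y₁ = 0 ∧ f y₂ y₂ = 0 ∧ f y₁ w = 0 ∧ f y₂ w = 0 := by
  by_cases hyy : f y y = 0
  · exact ⟨y, 0, add_zero y, hyy, f_zero_left hf 0, hyw, f_zero_left hf w⟩
  have hnd1 := nd_cons1 hf e0 nd_e0 y (perp_e0 y) hyy
  have hwy : f w y = 0 := by rw [s_symm hf, hyw]
  have hwa : Perp f (Fin.cons y e0 : Fin (0 + 1) → (Fin n → F)) w :=
    (perp_cons _ _ _).2 ⟨hwy, perp_e0 _⟩
  obtain ⟨w', hw'w', hw'w, hw'a⟩ := partner hf h2 _ hnd1 w hw0 hwa hw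
  have hnd3 := nd_cons2 hf _ hnd1 w w' hwa hw'a hw hw'w' (by rw [hw'w]; exact one_ne_zero)
  obtain ⟨t, hta, htt⟩ := rep_value hf h2 _ hnd3 (by omega) (-(f y y))
  rw [perp_cons, perp_cons, perp_cons] at hta
  obtain ⟨htw, _, hty, _⟩ := hta
  have hyt : f y t = 0 := by rw [s_symm hf, hty]
  refine ⟨(1 / 2 : F) • (y + t), (1 / 2 : F) • (y - t), ?_, ?_, ?_, ?_, ?_⟩
  · rw [← smul_add]
    have : y + t + (y - t) = (2 : F) • y := by module
    rw [this, smul_smul]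
    have : (1 / 2 : F) * 2 = 1 := by field_simp
    rw [this, one_smul]
  · rw [hf.smul_left, s_smul_right hf, hf.add_left, f_add_right hf, f_add_right hf, hty, hyt, htt]
    ring
  · rw [hf.smul_left, s_smul_right hf, f_sub_left hf, f_sub_right hf, f_sub_right hf, hty, hyt, htt]
    ring
  · rw [hf.smul_left, hf.add_left, hyw, htw]
    ring
  · rw [hf.smul_left, f_sub_left hf, hyw, htw]
    ring

theorem perp_partner (hf : SymF f) (h2 : (2 : F) ≠ 0) (z w : Fin n → F) (hw0 : w ≠ 0)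
    (hz : z ∉ Submodule.span F {w}) (hww : f w w = 0) (hwz : f w z = 0) :
    ∃ v, f v v = 0 ∧ f v z = 0 ∧ f v w = 1 := by
  have hli : LinearIndependent F ![w, z] := li2 w z hw0 hz
  obtain ⟨y, hy⟩ := lin_solve hf _ hli ![1, 0]
  have hyw : f y w = 1 := by
    have := hy 0
    simpa using this
  have hyz : f y z = 0 := by
    have := hy 1
    simpa using this
  refine ⟨y - (f y y / 2) • w, ?_, ?_, ?_⟩
  · rw [f_sub_left hf, f_sub_right hf, f_sub_right hf, hf.smul_left, hf.smul_left,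
      s_smul_right hf, s_smul_right hf, hww, hyw, s_symm hf w y, hyw]
    field_simp
    ring
  · rw [f_sub_left hf, hf.smul_left, hwz, hyz]
    ring
  · rw [f_sub_left hf, hf.smul_left, hww, hyw]
    ring

theorem far_pair (hf : SymF f) (h2 : (2 : F) ≠ 0) (w₁ w₂ : Fin n → F) (hw0 : w₁ ≠ 0)
    (hw₂ : w₂ ∉ Submodule.span F {w₁}) (h11 : f w₁ w₁ = 0) (h12 : f w₁ w₂ = 0) :
    ∃ z, f z z = 0 ∧ f z w₁ ≠ 0 ∧ f z w₂ ≠ 0 := by
  have hli : LinearIndependent F ![w₁, w₂] := li2 w₁ w₂ hw0 hw₂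
  obtain ⟨y, hy⟩ := lin_solve hf _ hli ![1, 1]
  have hy1 : f y w₁ = 1 := by
    have := hy 0
    simpa using this
  have hy2 : f y w₂ = 1 := by
    have := hy 1
    simpa using this
  refine ⟨y - (f y y / 2) • w₁, ?_, ?_, ?_⟩
  · rw [f_sub_left hf, f_sub_right hf, f_sub_right hf, hf.smul_left, hf.smul_left,
      s_smul_right hf, s_smul_right hf, h11, hy1, s_symm hf w₁ y, hy1]
    field_simp
    ring
  · rw [f_sub_left hf, hf.smul_left, h11, hy1]
    simp
  · rw [f_sub_left hf, hf.smul_left, h12, hy2]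
    simp

theorem basis_span (S : Submodule F (Fin n → F)) :
    Submodule.span F (Set.range (fun i => ((Module.finBasis F S i : S) : Fin n → F))) = S := by
  have h : (fun i => ((Module.finBasis F S i : S) : Fin n → F)) =
      S.subtype ∘ (Module.finBasis F S) := rfl
  rw [h, Set.range_comp, Submodule.span_image, (Module.finBasis F S).span_eq, Submodule.map_top,
    Submodule.range_subtype]

theorem ex_nonsing_perp (hf : SymF f) (h2 : (2 : F) ≠ 0) (W : Submodule F (Fin n → F))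
    (u : Fin n → F) (hdim : 2 * Module.finrank F W + 3 ≤ n) :
    ∃ w, (∀ x ∈ W, f x w = 0) ∧ f u w = 0 ∧ f w w ≠ 0 := by
  by_contra hcon
  push Not at hcon
  obtain ⟨X, hX⟩ : ∃ X : Submodule F (Fin n → F), X = W ⊔ Submodule.span F {u} := ⟨_, rfl⟩
  have hXdim : Module.finrank F X ≤ Module.finrank F W + 1 := by
    rw [hX]
    have h1 := Submodule.finrank_add_le_finrank_add_finrank W (Submodule.span F {u})
    have h3 : Module.finrank F (Submodule.span F ({u} : Set (Fin n → F))) ≤ 1 := by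
      have h4 := finrank_span_finset_le_card (R := F) ({u} : Finset (Fin n → F))
      rw [Finset.coe_singleton, Finset.card_singleton] at h4
      exact h4
    omega
  let b := Module.finBasis F X
  have hli : LinearIndependent F (fun i => ((b i : X) : Fin n → F)) :=
    b.linearIndependent.map' X.subtype X.ker_subtype
  have h1 := finrank_ker_eq hf _ hli
  have hperpX : ∀ y ∈ LinearMap.ker (perpMap hf (fun i => ((b i : X) : Fin n → F))),
      ∀ x ∈ X, f x y = 0 := by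
    intro y hy x hx
    rw [mem_ker_perpMap] at hy
    have h3 := perp_span' hf _ y hy x
    rw [basis_span] at h3
    exact h3 hx
  have hiso : ∀ y ∈ LinearMap.ker (perpMap hf (fun i => ((b i : X) : Fin n → F))), f y y = 0 := by
    intro y hy
    apply hcon y
    · intro x hx
      exact hperpX y hy x (by rw [hX]; exact Submodule.mem_sup_left hx)
    · exact hperpX y hy u (by
        rw [hX]
        exact Submodule.mem_sup_right (Submodule.mem_span_singleton_self u))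
  have h3 := rb hf e0 nd_e0 _ (ti_of_iso_s hf h2 _ hiso) (fun x _ => perp_e0 x)
  omega

def XS (f : (Fin n → F) → (Fin n → F) → F)
    (M : Subgroup (Matrix.GeneralLinearGroup (Fin n) F)) : Set (Fin n → F) :=
  {u | f u u = 0 ∧ ∀ (v : Fin n → F) (c : F) (t : Matrix.GeneralLinearGroup (Fin n) F),
    f v v = 0 → f u v = 0 → IsSg f t u v c → t ∈ M}

theorem XS_conj (M : Subgroup (Matrix.GeneralLinearGroup (Fin n) F))
    {k : Matrix.GeneralLinearGroup (Fin n) F} (hk : k ∈ M)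
    (hiso : ∀ x y, f ((k : Matrix (Fin n) (Fin n) F) *ᵥ x) ((k : Matrix (Fin n) (Fin n) F) *ᵥ y)
      = f x y) {u : Fin n → F} (hu : u ∈ XS f M) :
    (k : Matrix (Fin n) (Fin n) F) *ᵥ u ∈ XS f M := by
  refine ⟨by rw [hiso]; exact hu.1, fun v c t hv huv ht => ?_⟩
  have hiso' : ∀ x y, f (((k⁻¹ : Matrix.GeneralLinearGroup (Fin n) F) :
      Matrix (Fin n) (Fin n) F) *ᵥ x) (((k⁻¹ : Matrix.GeneralLinearGroup (Fin n) F) :
      Matrix (Fin n) (Fin n) F) *ᵥ y) = f x y := by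
    intro x y
    rw [← hiso, Cfsg.Agent.S5643.inv_mv', Cfsg.Agent.S5643.inv_mv']
  have h1 := isSg_conj hiso' ht
  rw [Cfsg.Agent.S5643.inv_mv] at h1
  have h2 : k⁻¹ * t * k⁻¹⁻¹ ∈ M := hu.2 _ c _ (by rw [hiso', hv])
    (by rw [← hiso, Cfsg.Agent.S5643.inv_mv']; exact huv) h1
  have e : t = k * (k⁻¹ * t * k⁻¹⁻¹) * k⁻¹ := by group
  rw [e]
  exact M.mul_mem (M.mul_mem hk h2) (M.inv_mem hk)

theorem XS_smul (hf : SymF f) (M : Subgroup (Matrix.GeneralLinearGroup (Fin n) F))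
    (a : F) (ha : a ≠ 0) {u : Fin n → F} (hu : u ∈ XS f M) : a • u ∈ XS f M := by
  refine ⟨by rw [hf.smul_left, s_smul_right hf, hu.1, mul_zero, mul_zero],
    fun v c t hv huv ht => ?_⟩
  rw [hf.smul_left] at huv
  have huv' : f u v = 0 := (mul_eq_zero.1 huv).resolve_left ha
  exact hu.2 v (a * c) t hv huv' (fun x => by rw [ht x, Tv_smul_left hf])

theorem ts_max_orth [Fintype F] (hf : SymF f) (h2 : (2 : F) ≠ 0) (hn : 5 ≤ n)
    (G : Subgroup (Matrix.GeneralLinearGroup (Fin n) F))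
    (hGiso : ∀ g ∈ G, ∀ x y, f ((g : Matrix (Fin n) (Fin n) F) *ᵥ x)
      ((g : Matrix (Fin n) (Fin n) F) *ᵥ y) = f x y)
    (hGsg : ∀ (t : Matrix.GeneralLinearGroup (Fin n) F) (u v : Fin n → F) (c : F),
      f u u = 0 → f v v = 0 → f u v = 0 → IsSg f t u v c → t ∈ G)
    (hex : ∀ (u v : Fin n → F) (c : F), f u u = 0 → f v v = 0 → f u v = 0 →
      ∃ t : Matrix.GeneralLinearGroup (Fin n) F, IsSg f t u v c)
    (hgen : ∀ M : Subgroup (Matrix.GeneralLinearGroup (Fin n) F),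
      (∀ (t : Matrix.GeneralLinearGroup (Fin n) F) (u v : Fin n → F) (c : F),
        f u u = 0 → f v v = 0 → f u v = 0 → IsSg f t u v c → t ∈ M) → G ≤ M)
    (W : Submodule F (Fin n → F)) (hW0 : W ≠ ⊥) (hW : ∀ x ∈ W, ∀ y ∈ W, f x y = 0)
    (hk : Odd n ∨ 2 * Module.finrank F W + 3 ≤ n) :
    Cfsg.Geo.IsMaximalIn G (Cfsg.Geo.subspaceStabilizer W ⊓ G) := by
  have hH1 : ∀ (t : Matrix.GeneralLinearGroup (Fin n) F) (u v : Fin n → F) (c : F), u ∈ W →
      f u u = 0 → f v v = 0 → f u v = 0 → IsSg f t u v c →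
      t ∈ Cfsg.Geo.subspaceStabilizer W ⊓ G := by
    intro t u v c huW hu hv huv ht
    refine ⟨Cfsg.Agent.Lib.Helper28.UMax.stab_of_maps W t (fun x hx => ?_),
      hGsg t u v c hu hv huv ht⟩
    rw [ht x]
    unfold Tv
    rw [hW u huW x hx, zero_smul, zero_sub]
    exact W.add_mem hx (W.smul_mem _ (W.neg_mem (W.smul_mem _ huW)))
  have hH2 : ∀ (t : Matrix.GeneralLinearGroup (Fin n) F) (u v : Fin n → F) (c : F),
      (∀ x ∈ W, f x u = 0) → (∀ x ∈ W, f x v = 0) →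
      f u u = 0 → f v v = 0 → f u v = 0 → IsSg f t u v c →
      t ∈ Cfsg.Geo.subspaceStabilizer W ⊓ G := by
    intro t u v c huW hvW hu hv huv ht
    refine ⟨Cfsg.Agent.Lib.Helper28.UMax.stab_of_maps W t (fun x hx => ?_),
      hGsg t u v c hu hv huv ht⟩
    rw [ht x]
    unfold Tv
    rw [s_symm hf u x, s_symm hf v x, huW x hx, hvW x hx, zero_smul, zero_smul, sub_zero,
      smul_zero, add_zero]
    exact hx
  constructor
  · refine lt_of_le_of_ne inf_le_right ?_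
    intro heq
    obtain ⟨w, hwW, hw0⟩ := Submodule.exists_mem_ne_zero_of_ne_bot hW0
    have hww := hW w hwW w hwW
    obtain ⟨z, hzz, hzw, _⟩ := partner hf h2 e0 nd_e0 w hw0 (perp_e0 w) hww
    have hnd2 := nd_cons2 hf e0 nd_e0 z w (perp_e0 z) (perp_e0 w) hzz hww (by
      rw [s_symm hf, hzw]
      exact one_ne_zero)
    obtain ⟨s, hsa, hss, hs0⟩ := ex_sing hf h2 _ hnd2 (by omega)
    obtain ⟨s', hs's', hs's, hs'a⟩ := partner hf h2 _ hnd2 s hs0 hsa hss
    rw [perp_cons, perp_cons] at hsa hs'a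
    have key : ∀ v : Fin n → F, f v v = 0 → f v z = 0 → f v w = 0 → v ∈ W := by
      intro v hvv hvz hvw
      have hzv : f z v = 0 := by rw [s_symm hf, hvz]
      obtain ⟨t, ht⟩ := hex z v 1 hzz hvv hzv
      have htG : t ∈ G := hGsg t z v 1 hzz hvv hzv ht
      rw [← heq] at htG
      have h1 := ((Cfsg.Agent.Lib.Helper28.UMax.mem_stab_iff W t).1 htG.1 w).1 hwW
      rw [ht w] at h1
      unfold Tv at h1
      rw [hzw, hvw, zero_smul, sub_zero, one_smul, one_smul] at h1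
      have h3 := W.sub_mem h1 hwW
      rw [add_sub_cancel_left] at h3
      exact h3
    have h1 := key s hss hsa.1 hsa.2.1
    have h3 := key s' hs's' hs'a.1 hs'a.2.1
    have h4 := hW s' h3 s h1
    rw [hs's] at h4
    exact one_ne_zero h4
  · intro M hHM hMG
    by_cases hMH : M = Cfsg.Geo.subspaceStabilizer W ⊓ G
    · left
      exact hMH
    right
    apply le_antisymm hMG
    have hMiso : ∀ m ∈ M, ∀ x y, f ((m : Matrix (Fin n) (Fin n) F) *ᵥ x)
        ((m : Matrix (Fin n) (Fin n) F) *ᵥ y) = f x y := fun m hm => hGiso m (hMG hm)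
    obtain ⟨h, hhM, hh⟩ : ∃ h ∈ M, h ∉ Cfsg.Geo.subspaceStabilizer W := by
      by_contra hcon
      push Not at hcon
      exact hMH (le_antisymm (fun x hx => ⟨hcon x hx, hMG hx⟩) hHM)
    rw [Cfsg.Agent.Lib.Helper28.UMax.mem_stab_iff] at hh
    push Not at hh
    obtain ⟨v, hv⟩ := hh
    obtain ⟨k, hkM, w₀, hw₀, hkw₀⟩ : ∃ k ∈ M, ∃ w ∈ W,
        (k : Matrix (Fin n) (Fin n) F) *ᵥ w ∉ W := by
      rcases hv with ⟨h1, h3⟩ | ⟨h1, h3⟩
      · exact ⟨h, hhM, v, h1, h3⟩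
      · refine ⟨h⁻¹, M.inv_mem hhM, (h : Matrix (Fin n) (Fin n) F) *ᵥ v, h3, ?_⟩
        rw [Cfsg.Agent.S5643.inv_mv]
        exact h1
    have hXW : ∀ w ∈ W, w ∈ XS f M := fun w hw =>
      ⟨hW w hw w hw, fun v c t hv hwv ht => hHM (hH1 t w v c hw (hW w hw w hw) hv hwv ht)⟩
    have hstepD : ∀ z ∈ XS f M, ∀ w₁ ∈ W, f z w₁ ≠ 0 → ∀ v : Fin n → F, f v v = 0 →
        f v w₁ ≠ 0 → v ∈ XS f M := by
      intro z hzX w₁ hw₁ hzw₁
      have hw₁0 : w₁ ≠ 0 := by
        rintro rfl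
        exact hzw₁ (f_zero_right hf z)
      have hw₁w₁ := hW w₁ hw₁ w₁ hw₁
      obtain ⟨κ, hκ⟩ : ∃ κ, κ = f z w₁ := ⟨_, rfl⟩
      have hκ0 : κ ≠ 0 := by
        rw [hκ]
        exact hzw₁
      have hzz := hzX.1
      have hstepC : ∀ v : Fin n → F, f v v = 0 → f v w₁ = κ → v ∈ XS f M := by
        intro v hvv hvw
        obtain ⟨y, hy⟩ : ∃ y, y = κ⁻¹ • (v - z) := ⟨_, rfl⟩
        have hyw : f y w₁ = 0 := by
          rw [hy, hf.smul_left, f_sub_left hf, hvw, ← hκ, sub_self, mul_zero]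
        obtain ⟨y₁, y₂, hsum, h11, h22, h1w, h2w⟩ := decomp hf h2 hn w₁ y hw₁w₁ hw₁0 hyw
        have hw1 : f w₁ y₁ = 0 := by rw [s_symm hf, h1w]
        have hw2 : f w₁ y₂ = 0 := by rw [s_symm hf, h2w]
        obtain ⟨t₁, ht₁⟩ := hex w₁ y₁ 1 hw₁w₁ h11 hw1
        obtain ⟨t₂, ht₂⟩ := hex w₁ y₂ 1 hw₁w₁ h22 hw2
        have ht₁M : t₁ ∈ M := hHM (hH1 t₁ w₁ y₁ 1 hw₁ hw₁w₁ h11 hw1 ht₁)
        have ht₂M : t₂ ∈ M := hHM (hH1 t₂ w₁ y₂ 1 hw₁ hw₁w₁ h22 hw2 ht₂)
        have hρM : t₂ * t₁ ∈ M := M.mul_mem ht₂M ht₁M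
        have h1 := XS_conj M hρM (hMiso _ hρM) hzX
        have h12 : 2 * f y₁ y₂ = f y y := by
          rw [← hsum, hf.add_left, f_add_right hf, f_add_right hf, h11, h22, s_symm hf y₂ y₁]
          ring
        have hyy : f y y = -2 * κ⁻¹ * κ⁻¹ * f v z := by
          rw [hy, hf.smul_left, s_smul_right hf, f_sub_left hf, f_sub_right hf, f_sub_right hf,
            hvv, hzz, s_symm hf z v]
          ring
        have hyz : f y z = κ⁻¹ * f v z := by
          rw [hy, hf.smul_left, f_sub_left hf, hzz]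
          ring
        have e : ((t₂ * t₁ : Matrix.GeneralLinearGroup (Fin n) F) :
            Matrix (Fin n) (Fin n) F) *ᵥ z = v := by
          rw [Cfsg.Agent.S5643.mul_mv, ht₁ z, ht₂, rho_formula hf w₁ y₁ y₂ hw₁w₁ h1w h2w, hsum,
            s_symm hf w₁ z, ← hκ, hyz]
          have e1 : κ • y = v - z := by
            rw [hy, smul_smul, mul_inv_cancel₀ hκ0, one_smul]
          have e2 : f y₁ y₂ * κ = -(κ⁻¹ * f v z) := by
            have h5 : 2 * (f y₁ y₂ * κ) = 2 * (-(κ⁻¹ * f v z)) := by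
              rw [← mul_assoc, h12, hyy]
              field_simp
            exact mul_left_cancel₀ h2 h5
          rw [e1, e2]
          module
        rw [e] at h1
        exact h1
      intro v hvv hvw
      have h1 := hstepC ((κ / f v w₁) • v)
        (by rw [hf.smul_left, s_smul_right hf, hvv, mul_zero, mul_zero])
        (by rw [hf.smul_left]; field_simp)
      have h3 := XS_smul hf M (f v w₁ / κ) (div_ne_zero hvw hκ0) h1
      rw [smul_smul] at h3
      have e : f v w₁ / κ * (κ / f v w₁) = 1 := by field_simp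
      rw [e, one_smul] at h3
      exact h3
    have hfar : ∀ z ∈ XS f M, ∀ w₁ ∈ W, f z w₁ ≠ 0 → G ≤ M := by
      intro z hzX w₁ hw₁ hzw₁
      have hw₁0 : w₁ ≠ 0 := by
        rintro rfl
        exact hzw₁ (f_zero_right hf z)
      have hstepE : ∀ v : Fin n → F, f v v = 0 → (∃ w ∈ W, f v w ≠ 0) → v ∈ XS f M := by
        rintro v hvv ⟨w₂, hw₂, hvw₂⟩
        by_cases hvw₁ : f v w₁ = 0
        · have hw₂s : w₂ ∉ Submodule.span F {w₁} := by
            intro h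
            obtain ⟨a, rfl⟩ := Submodule.mem_span_singleton.1 h
            apply hvw₂
            rw [s_smul_right hf, hvw₁, mul_zero]
          obtain ⟨z', hz'z', hz'1, hz'2⟩ := far_pair hf h2 w₁ w₂ hw₁0 hw₂s
            (hW _ hw₁ _ hw₁) (hW _ hw₁ _ hw₂)
          have hz'X := hstepD z hzX w₁ hw₁ hzw₁ z' hz'z' hz'1
          exact hstepD z' hz'X w₂ hw₂ hz'2 v hvv hvw₂
        · exact hstepD z hzX w₁ hw₁ hzw₁ v hvv hvw₁
      apply hgen M
      intro t u v c hu hv huv ht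
      by_cases hu' : ∃ w ∈ W, f u w ≠ 0
      · exact (hstepE u hu hu').2 v c t hv huv ht
      by_cases hv' : ∃ w ∈ W, f v w ≠ 0
      · exact (hstepE v hv hv').2 u (-c) t hu (by rw [s_symm hf, huv]) (isSg_swap ht)
      push Not at hu' hv'
      exact hHM (hH2 t u v c (fun x hx => by rw [s_symm hf]; exact hu' x hx)
        (fun x hx => by rw [s_symm hf]; exact hv' x hx) hu hv huv ht)
    obtain ⟨z, hz⟩ : ∃ z, z = (k : Matrix (Fin n) (Fin n) F) *ᵥ w₀ := ⟨_, rfl⟩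
    rw [← hz] at hkw₀
    have hzX : z ∈ XS f M := by
      rw [hz]
      exact XS_conj M hkM (hMiso k hkM) (hXW w₀ hw₀)
    have hzz := hzX.1
    by_cases hzW : ∃ w ∈ W, f z w ≠ 0
    · obtain ⟨w₁, hw₁, hzw₁⟩ := hzW
      exact hfar z hzX w₁ hw₁ hzw₁
    push Not at hzW
    have hdim : 2 * Module.finrank F W + 3 ≤ n := by
      rcases hk with hodd | h
      swap
      · exact h
      obtain ⟨X, hX⟩ : ∃ X : Submodule F (Fin n → F), X = W ⊔ Submodule.span F {z} := ⟨_, rfl⟩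
      have hXti : ∀ x ∈ X, ∀ y ∈ X, f x y = 0 := by
        intro x hx y hy
        rw [hX] at hx hy
        obtain ⟨x₁, hx₁, x₂, hx₂, rfl⟩ := Submodule.mem_sup.1 hx
        obtain ⟨y₁, hy₁, y₂, hy₂, rfl⟩ := Submodule.mem_sup.1 hy
        obtain ⟨a, rfl⟩ := Submodule.mem_span_singleton.1 hx₂
        obtain ⟨b, rfl⟩ := Submodule.mem_span_singleton.1 hy₂
        rw [hf.add_left, f_add_right hf, f_add_right hf, hf.smul_left, hf.smul_left,
          s_smul_right hf, s_smul_right hf, hW x₁ hx₁ y₁ hy₁, hzz, hzW y₁ hy₁, s_symm hf x₁ z,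
          hzW x₁ hx₁]
        ring
      have h3 := rb hf e0 nd_e0 X hXti (fun x _ => perp_e0 x)
      have hlt : W < X := by
        rw [hX]
        apply lt_of_le_of_ne le_sup_left
        intro h
        apply hkw₀
        rw [h]
        exact Submodule.mem_sup_right (Submodule.mem_span_singleton_self z)
      have h4 := Submodule.finrank_lt_finrank_of_lt hlt
      obtain ⟨j, hj⟩ := hodd
      omega
    obtain ⟨y₀, hy₀W, hzy₀⟩ := dperp_s hf W z hkw₀
    obtain ⟨β, hβ⟩ := iso_fix_s hf h2 y₀ z hzz (by rw [s_symm hf]; exact hzy₀)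
    obtain ⟨u, hu⟩ : ∃ u, u = y₀ + β • z := ⟨_, rfl⟩
    rw [← hu] at hβ
    have huW : ∀ x ∈ W, f x u = 0 := by
      intro x hx
      rw [hu, f_add_right hf, s_smul_right hf, hy₀W x hx, s_symm hf x z, hzW x hx]
      ring
    have hzu : f z u ≠ 0 := by
      rw [hu, f_add_right hf, s_smul_right hf, hzz, mul_zero, add_zero]
      exact hzy₀
    have hu0 : u ≠ 0 := by
      rintro rfl
      exact hzu (f_zero_right hf z)
    obtain ⟨w, hwW, huw, hww⟩ := ex_nonsing_perp hf h2 W u hdim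
    have hwu : f w u = 0 := by rw [s_symm hf, huw]
    obtain ⟨y₁, y₂, hsum, h11, h22, h1u, h2u⟩ := decomp hf h2 hn u w hβ hu0 hwu
    have hu1 : f u y₁ = 0 := by rw [s_symm hf, h1u]
    have hu2 : f u y₂ = 0 := by rw [s_symm hf, h2u]
    obtain ⟨t₁, ht₁⟩ := hex u y₁ 1 hβ h11 hu1
    obtain ⟨t₂, ht₂⟩ := hex u y₂ 1 hβ h22 hu2
    have hρform : ∀ x, ((t₂ * t₁ : Matrix.GeneralLinearGroup (Fin n) F) :
        Matrix (Fin n) (Fin n) F) *ᵥ x =
        x + f u x • w - f w x • u - (f y₁ y₂ * f u x) • u := by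
      intro x
      rw [Cfsg.Agent.S5643.mul_mv, ht₁ x, ht₂, rho_formula hf u y₁ y₂ hβ h1u h2u, hsum]
    have hρG : t₂ * t₁ ∈ G :=
      G.mul_mem (hGsg t₂ u y₂ 1 hβ h22 hu2 ht₂) (hGsg t₁ u y₁ 1 hβ h11 hu1 ht₁)
    have hρfix : ∀ x ∈ W, ((t₂ * t₁ : Matrix.GeneralLinearGroup (Fin n) F) :
        Matrix (Fin n) (Fin n) F) *ᵥ x = x := by
      intro x hx
      rw [hρform, s_symm hf u x, huW x hx, s_symm hf w x, hwW x hx]
      simp
    have hρM : t₂ * t₁ ∈ M :=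
      hHM ⟨Cfsg.Agent.Lib.Helper28.UMax.stab_of_maps W _ (fun x hx => by
        rw [hρfix x hx]
        exact hx), hρG⟩
    obtain ⟨z'', hz''⟩ : ∃ z'', z'' = ((t₂ * t₁ : Matrix.GeneralLinearGroup (Fin n) F) :
        Matrix (Fin n) (Fin n) F) *ᵥ z := ⟨_, rfl⟩
    have hz''X : z'' ∈ XS f M := by
      rw [hz'']
      exact XS_conj M hρM (hMiso _ hρM) hzX
    have hz''W : ∀ x ∈ W, f z'' x = 0 := by
      intro x hx
      have h5 := hMiso _ hρM z x
      rw [hρfix x hx] at h5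
      rw [hz'', h5, hzW x hx]
    have h12 : 2 * f y₁ y₂ = f w w := by
      rw [← hsum, hf.add_left, f_add_right hf, f_add_right hf, h11, h22, s_symm hf y₂ y₁]
      ring
    have hδ : f z z'' = -(f y₁ y₂) * (f u z * f u z) := by
      rw [hz'', hρform, f_sub_right hf, f_sub_right hf, f_add_right hf, s_smul_right hf,
        s_smul_right hf, s_smul_right hf, hzz, s_symm hf z w, s_symm hf z u]
      ring
    have hδ0 : f z z'' ≠ 0 := by
      rw [hδ]
      have h6 : f y₁ y₂ ≠ 0 := by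
        intro h
        rw [h, mul_zero] at h12
        exact hww h12.symm
      have h7 : f u z ≠ 0 := by
        rw [s_symm hf]
        exact hzu
      exact mul_ne_zero (neg_ne_zero.2 h6) (mul_ne_zero h7 h7)
    obtain ⟨w₁, hw₁W, hw₁0⟩ := Submodule.exists_mem_ne_zero_of_ne_bot hW0
    have hw₁w₁ := hW w₁ hw₁W w₁ hw₁W
    have hzs : z ∉ Submodule.span F {w₁} := fun h =>
      hkw₀ ((Submodule.span_singleton_le_iff_mem w₁ W).2 hw₁W h)
    obtain ⟨v₁, hvv, hvz, hvw₁⟩ := perp_partner hf h2 z w₁ hw₁0 hzs hw₁w₁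
      (by rw [s_symm hf]; exact hzW w₁ hw₁W)
    have hz''s : z'' ∉ Submodule.span F {w₁} := by
      intro h
      have h8 : z'' ∈ W := (Submodule.span_singleton_le_iff_mem w₁ W).2 hw₁W h
      exact hδ0 (hzW z'' h8)
    obtain ⟨v₂, hv'v', hv'z'', hv'w₁⟩ := perp_partner hf h2 z'' w₁ hw₁0 hz''s hw₁w₁
      (by rw [s_symm hf]; exact hz''W w₁ hw₁W)
    have hz''z'' : f z'' z'' = 0 := hz''X.1
    have hzv₁ : f z v₁ = 0 := by rw [s_symm hf, hvz]
    have hz''v₂ : f z'' v₂ = 0 := by rw [s_symm hf, hv'z'']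
    obtain ⟨m₁, hm₁⟩ := hex z v₁ 1 hzz hvv hzv₁
    obtain ⟨m₂, hm₂⟩ := hex z'' v₂ 1 hz''z'' hv'v' hz''v₂
    have hm₁M : m₁ ∈ M := hzX.2 v₁ 1 m₁ hvv hzv₁ hm₁
    have hm₂M : m₂ ∈ M := hz''X.2 v₂ 1 m₂ hv'v' hz''v₂ hm₂
    have h9 := XS_conj M hm₂M (hMiso _ hm₂M) (XS_conj M hm₁M (hMiso _ hm₁M) (hXW w₁ hw₁W))
    apply hfar _ h9 w₁ hw₁W
    have e1 : (m₁ : Matrix (Fin n) (Fin n) F) *ᵥ w₁ = w₁ - z := by
      rw [hm₁ w₁]
      unfold Tv
      rw [hzW w₁ hw₁W, hvw₁]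
      module
    rw [e1, hm₂]
    unfold Tv
    have e3 : f z'' (w₁ - z) = -(f z z'') := by
      rw [f_sub_right hf, hz''W w₁ hw₁W, s_symm hf z'' z]
      ring
    rw [e3]
    simp only [hf.add_left, hf.smul_left, f_sub_left hf, hv'w₁, hz''W w₁ hw₁W, hw₁w₁,
      hzW w₁ hw₁W]
    intro h
    apply hδ0
    linear_combination -h

end Cfsg.Agent.Lib.Helper28.OMax
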