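import Cfsg.Agent.Lib.Helper28.OQ

set_option autoImplicit false

open Cfsg

namespace Cfsg.Agent.Lib.Helper28.OMax2

open Matrix Cfsg.Agent.Lib.Helper28.HForm Cfsg.Agent.Lib.Helper28.OGen
  Cfsg.Agent.Lib.Helper28.OMax Cfsg.Agent.Lib.Helper28.OQ

variable {n : ℕ} {F : Type*} [Field F] {Q : (Fin n → F) → F}
  {f : (Fin n → F) → (Fin n → F) → F}

structure SgGroupQ (Q : (Fin n → F) → F) (f : (Fin n → F) → (Fin n → F) → F)
    (G : Subgroup (Matrix.GeneralLinearGroup (Fin n) F)) : Prop where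
  iso : ∀ g ∈ G, ∀ x, Q ((g : Matrix (Fin n) (Fin n) F) *ᵥ x) = Q x
  sg : ∀ (t : Matrix.GeneralLinearGroup (Fin n) F) (u v : Fin n → F) (c : F),
      Q u = 0 → Q v = 0 → f u v = 0 → IsSg f t u v c → t ∈ G
  ex : ∀ (u v : Fin n → F) (c : F), Q u = 0 → Q v = 0 → f u v = 0 →
      ∃ t : Matrix.GeneralLinearGroup (Fin n) F, IsSg f t u v c
  gen : ∀ M : Subgroup (Matrix.GeneralLinearGroup (Fin n) F),
      (∀ (t : Matrix.GeneralLinearGroup (Fin n) F) (u v : Fin n → F) (c : F),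
        Q u = 0 → Q v = 0 → f u v = 0 → IsSg f t u v c → t ∈ M) → G ≤ M

theorem iso_f (hq : QF Q f) (g : Matrix.GeneralLinearGroup (Fin n) F)
    (hg : ∀ x, Q ((g : Matrix (Fin n) (Fin n) F) *ᵥ x) = Q x) (x y : Fin n → F) :
    f ((g : Matrix (Fin n) (Fin n) F) *ᵥ x) ((g : Matrix (Fin n) (Fin n) F) *ᵥ y) = f x y := by
  have h1 := hq.polar ((g : Matrix (Fin n) (Fin n) F) *ᵥ x) ((g : Matrix (Fin n) (Fin n) F) *ᵥ y)
  rw [← Matrix.mulVec_add, hg, hg, hg, hq.polar] at h1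
  linear_combination -h1

def XSQ (Q : (Fin n → F) → F) (f : (Fin n → F) → (Fin n → F) → F)
    (M : Subgroup (Matrix.GeneralLinearGroup (Fin n) F)) : Set (Fin n → F) :=
  {u | Q u = 0 ∧ ∀ (v : Fin n → F) (c : F) (t : Matrix.GeneralLinearGroup (Fin n) F),
    Q v = 0 → f u v = 0 → IsSg f t u v c → t ∈ M}

theorem XSQ_conj (hq : QF Q f) (M : Subgroup (Matrix.GeneralLinearGroup (Fin n) F))
    {k : Matrix.GeneralLinearGroup (Fin n) F} (hk : k ∈ M)
    (hQk : ∀ x, Q ((k : Matrix (Fin n) (Fin n) F) *ᵥ x) = Q x) {u : Fin n → F}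
    (hu : u ∈ XSQ Q f M) : (k : Matrix (Fin n) (Fin n) F) *ᵥ u ∈ XSQ Q f M := by
  have hiso := iso_f hq k hQk
  refine ⟨by rw [hQk]; exact hu.1, fun v c t hv huv ht => ?_⟩
  have hQk' : ∀ x, Q (((k⁻¹ : Matrix.GeneralLinearGroup (Fin n) F) :
      Matrix (Fin n) (Fin n) F) *ᵥ x) = Q x := by
    intro x
    rw [← hQk, Cfsg.Agent.S5643.inv_mv']
  have hiso' := iso_f hq k⁻¹ hQk'
  have h1 := isSg_conj hiso' ht
  rw [Cfsg.Agent.S5643.inv_mv] at h1
  have h2 : k⁻¹ * t * k⁻¹⁻¹ ∈ M := hu.2 _ c _ (by rw [hQk', hv])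
    (by rw [← hiso, Cfsg.Agent.S5643.inv_mv']; exact huv) h1
  have e : t = k * (k⁻¹ * t * k⁻¹⁻¹) * k⁻¹ := by group
  rw [e]
  exact M.mul_mem (M.mul_mem hk h2) (M.inv_mem hk)

theorem XSQ_smul (hq : QF Q f) (M : Subgroup (Matrix.GeneralLinearGroup (Fin n) F))
    (a : F) (ha : a ≠ 0) {u : Fin n → F} (hu : u ∈ XSQ Q f M) : a • u ∈ XSQ Q f M := by
  refine ⟨by rw [hq.smul, hu.1, mul_zero], fun v c t hv huv ht => ?_⟩
  rw [hq.sym.smul_left] at huv
  have huv' : f u v = 0 := (mul_eq_zero.1 huv).resolve_left ha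
  exact hu.2 v (a * c) t hv huv' (fun x => by rw [ht x, Tv_smul_left hq.sym])

theorem ts_max_q (hq : QF Q f) (vf : VFacts Q f)
    (G : Subgroup (Matrix.GeneralLinearGroup (Fin n) F)) (hG : SgGroupQ Q f G)
    (W : Submodule F (Fin n → F)) (hW0 : W ≠ ⊥) (hWQ : ∀ x ∈ W, Q x = 0)
    (hk : Odd n ∨ 2 * Module.finrank F W + 3 ≤ n ∨
      (∀ z : Fin n → F, Q z = 0 → (∀ w ∈ W, f z w = 0) → z ∈ W)) :
    Cfsg.Geo.IsMaximalIn G (Cfsg.Geo.subspaceStabilizer W ⊓ G) := by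
  have hf := hq.sym
  have hW := ts_ti hq W hWQ
  have hGiso : ∀ g ∈ G, ∀ x y, f ((g : Matrix (Fin n) (Fin n) F) *ᵥ x)
      ((g : Matrix (Fin n) (Fin n) F) *ᵥ y) = f x y := fun g hg => iso_f hq g (hG.iso g hg)
  have hH1 : ∀ (t : Matrix.GeneralLinearGroup (Fin n) F) (u v : Fin n → F) (c : F), u ∈ W →
      Q u = 0 → Q v = 0 → f u v = 0 → IsSg f t u v c →
      t ∈ Cfsg.Geo.subspaceStabilizer W ⊓ G := by
    intro t u v c huW hu hv huv ht
    refine ⟨Cfsg.Agent.Lib.Helper28.UMax.stab_of_maps W t (fun x hx => ?_),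
      hG.sg t u v c hu hv huv ht⟩
    rw [ht x]
    unfold Tv
    rw [hW u huW x hx, zero_smul, zero_sub]
    exact W.add_mem hx (W.smul_mem _ (W.neg_mem (W.smul_mem _ huW)))
  have hH2 : ∀ (t : Matrix.GeneralLinearGroup (Fin n) F) (u v : Fin n → F) (c : F),
      (∀ x ∈ W, f x u = 0) → (∀ x ∈ W, f x v = 0) →
      Q u = 0 → Q v = 0 → f u v = 0 → IsSg f t u v c →
      t ∈ Cfsg.Geo.subspaceStabilizer W ⊓ G := by
    intro t u v c huW hvW hu hv huv ht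
    refine ⟨Cfsg.Agent.Lib.Helper28.UMax.stab_of_maps W t (fun x hx => ?_),
      hG.sg t u v c hu hv huv ht⟩
    rw [ht x]
    unfold Tv
    rw [s_symm hf u x, s_symm hf v x, huW x hx, hvW x hx, zero_smul, zero_smul, sub_zero,
      smul_zero, add_zero]
    exact hx
  constructor
  · refine lt_of_le_of_ne inf_le_right ?_
    intro heq
    obtain ⟨w, hwW, hw0⟩ := Submodule.exists_mem_ne_zero_of_ne_bot hW0
    have hww := hWQ w hwW
    obtain ⟨z, hzz, hzw⟩ := hyp_partner_q hq w hw0 hww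
    obtain ⟨s, s', hss, hs's', hsz, hsw, hs'z, hs'w, hs's⟩ := vf.hyp_perp z w hzz hww (by
      rw [hzw]
      exact one_ne_zero)
    have key : ∀ v : Fin n → F, Q v = 0 → f v z = 0 → f v w = 0 → v ∈ W := by
      intro v hvv hvz hvw
      have hzv : f z v = 0 := by rw [s_symm hf, hvz]
      obtain ⟨t, ht⟩ := hG.ex z v 1 hzz hvv hzv
      have htG : t ∈ G := hG.sg t z v 1 hzz hvv hzv ht
      rw [← heq] at htG
      have h1 := ((Cfsg.Agent.Lib.Helper28.UMax.mem_stab_iff W t).1 htG.1 w).1 hwW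
      rw [ht w] at h1
      unfold Tv at h1
      rw [hzw, hvw, zero_smul, sub_zero, one_smul, one_smul] at h1
      have h3 := W.sub_mem h1 hwW
      rw [add_sub_cancel_left] at h3
      exact h3
    have h1 := key s hss hsz hsw
    have h3 := key s' hs's' hs'z hs'w
    have h4 := hW s' h3 s h1
    rw [hs's] at h4
    exact one_ne_zero h4
  · intro M hHM hMG
    by_cases hMH : M = Cfsg.Geo.subspaceStabilizer W ⊓ G
    · left
      exact hMH
    right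
    apply le_antisymm hMG
    have hMQ : ∀ m ∈ M, ∀ x, Q ((m : Matrix (Fin n) (Fin n) F) *ᵥ x) = Q x :=
      fun m hm => hG.iso m (hMG hm)
    have hMiso : ∀ m ∈ M, ∀ x y, f ((m : Matrix (Fin n) (Fin n) F) *ᵥ x)
        ((m : Matrix (Fin n) (Fin n) F) *ᵥ y) = f x y := fun m hm => hGiso m (hMG hm)
    obtain ⟨h, hhM, hh⟩ : ∃ h ∈ M, h ∉ Cfsg.Geo.subspaceStabilizer W := by
      by_contra hcon
      push Not at hcon
      exact hMH (le_antisymm (fun x hx => ⟨hcon x hx, hMG hx⟩) hHM)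
    rw [Cfsg.Agent.Lib.Helper28.UMax.mem_stab_iff] at hh
    push Not at hh
    obtain ⟨v, hv⟩ := hh
    obtain ⟨k, hkM, w₀, hw₀, hkw₀⟩ : ∃ k ∈ M, ∃ w ∈ W,
        (k : Matrix (Fin n) (Fin n) F) *ᵥ w ∉ W := by
      rcases hv with ⟨h1, h3⟩ | ⟨h1, h3⟩
      · exact ⟨h, hhM, v, h1, h3⟩
      · refine ⟨h⁻¹, M.inv_mem hhM, (h : Matrix (Fin n) (Fin n) F) *ᵥ v, h3, ?_⟩
        rw [Cfsg.Agent.S5643.inv_mv]
        exact h1
    have hXW : ∀ w ∈ W, w ∈ XSQ Q f M := fun w hw =>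
      ⟨hWQ w hw, fun v c t hv hwv ht => hHM (hH1 t w v c hw (hWQ w hw) hv hwv ht)⟩
    have hstepD : ∀ z ∈ XSQ Q f M, ∀ w₁ ∈ W, f z w₁ ≠ 0 → ∀ v : Fin n → F, Q v = 0 →
        f v w₁ ≠ 0 → v ∈ XSQ Q f M := by
      intro z hzX w₁ hw₁ hzw₁
      have hw₁0 : w₁ ≠ 0 := by
        rintro rfl
        exact hzw₁ (f_zero_right hf z)
      have hw₁w₁ := hWQ w₁ hw₁
      have hfw₁ := f_sing hq hw₁w₁
      obtain ⟨κ, hκ⟩ : ∃ κ, κ = f z w₁ := ⟨_, rfl⟩
      have hκ0 : κ ≠ 0 := by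
        rw [hκ]
        exact hzw₁
      have hzz := hzX.1
      have hstepC : ∀ v : Fin n → F, Q v = 0 → f v w₁ = κ → v ∈ XSQ Q f M := by
        intro v hvv hvw
        obtain ⟨y, hy⟩ : ∃ y, y = κ⁻¹ • (v - z) := ⟨_, rfl⟩
        have hyw : f y w₁ = 0 := by
          rw [hy, hf.smul_left, f_sub_left hf, hvw, ← hκ, sub_self, mul_zero]
        obtain ⟨y₁, y₂, hsum, h11, h22, h1w, h2w⟩ := vf.decomp w₁ y hw₁w₁ hw₁0 hyw
        have hw1 : f w₁ y₁ = 0 := by rw [s_symm hf, h1w]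
        have hw2 : f w₁ y₂ = 0 := by rw [s_symm hf, h2w]
        obtain ⟨t₁, ht₁⟩ := hG.ex w₁ y₁ 1 hw₁w₁ h11 hw1
        obtain ⟨t₂, ht₂⟩ := hG.ex w₁ y₂ 1 hw₁w₁ h22 hw2
        have ht₁M : t₁ ∈ M := hHM (hH1 t₁ w₁ y₁ 1 hw₁ hw₁w₁ h11 hw1 ht₁)
        have ht₂M : t₂ ∈ M := hHM (hH1 t₂ w₁ y₂ 1 hw₁ hw₁w₁ h22 hw2 ht₂)
        have hρM : t₂ * t₁ ∈ M := M.mul_mem ht₂M ht₁M
        have h1 := XSQ_conj hq M hρM (hMQ _ hρM) hzX
        have h12 : f y₁ y₂ = Q y := by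
          rw [← hsum, hq.polar, h11, h22]
          ring
        have hyy : Q y = -(κ⁻¹ * κ⁻¹ * f v z) := by
          rw [hy, hq.smul, Q_sub hq, hvv, hzz]
          ring
        have hyz : f y z = κ⁻¹ * f v z := by
          rw [hy, hf.smul_left, f_sub_left hf, f_sing hq hzz]
          ring
        have e : ((t₂ * t₁ : Matrix.GeneralLinearGroup (Fin n) F) :
            Matrix (Fin n) (Fin n) F) *ᵥ z = v := by
          rw [Cfsg.Agent.S5643.mul_mv, ht₁ z, ht₂, rho_formula hf w₁ y₁ y₂ hfw₁ h1w h2w, hsum,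
            s_symm hf w₁ z, ← hκ, hyz]
          have e1 : κ • y = v - z := by
            rw [hy, smul_smul, mul_inv_cancel₀ hκ0, one_smul]
          have e2 : f y₁ y₂ * κ = -(κ⁻¹ * f v z) := by
            rw [h12, hyy]
            field_simp
          rw [e1, e2]
          module
        rw [e] at h1
        exact h1
      intro v hvv hvw
      have h1 := hstepC ((κ / f v w₁) • v)
        (by rw [hq.smul, hvv, mul_zero])
        (by rw [hf.smul_left]; field_simp)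
      have h3 := XSQ_smul hq M (f v w₁ / κ) (div_ne_zero hvw hκ0) h1
      rw [smul_smul] at h3
      have e : f v w₁ / κ * (κ / f v w₁) = 1 := by field_simp
      rw [e, one_smul] at h3
      exact h3
    have hfar : ∀ z ∈ XSQ Q f M, ∀ w₁ ∈ W, f z w₁ ≠ 0 → G ≤ M := by
      intro z hzX w₁ hw₁ hzw₁
      have hw₁0 : w₁ ≠ 0 := by
        rintro rfl
        exact hzw₁ (f_zero_right hf z)
      have hstepE : ∀ v : Fin n → F, Q v = 0 → (∃ w ∈ W, f v w ≠ 0) → v ∈ XSQ Q f M := by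
        rintro v hvv ⟨w₂, hw₂, hvw₂⟩
        by_cases hvw₁ : f v w₁ = 0
        · have hw₂s : w₂ ∉ Submodule.span F {w₁} := by
            intro h
            obtain ⟨a, rfl⟩ := Submodule.mem_span_singleton.1 h
            apply hvw₂
            rw [s_smul_right hf, hvw₁, mul_zero]
          obtain ⟨z', hz'z', hz'1, hz'2⟩ := far_pair_q hq w₁ w₂ hw₁0 hw₂s
            (hWQ _ hw₁) (hW _ hw₁ _ hw₂)
          have hz'X := hstepD z hzX w₁ hw₁ hzw₁ z' hz'z' hz'1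
          exact hstepD z' hz'X w₂ hw₂ hz'2 v hvv hvw₂
        · exact hstepD z hzX w₁ hw₁ hzw₁ v hvv hvw₁
      apply hG.gen M
      intro t u v c hu hv huv ht
      by_cases hu' : ∃ w ∈ W, f u w ≠ 0
      · exact (hstepE u hu hu').2 v c t hv huv ht
      by_cases hv' : ∃ w ∈ W, f v w ≠ 0
      · exact (hstepE v hv hv').2 u (-c) t hu (by rw [s_symm hf, huv]) (isSg_swap ht)
      push Not at hu' hv'
      exact hHM (hH2 t u v c (fun x hx => by rw [s_symm hf]; exact hu' x hx)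
        (fun x hx => by rw [s_symm hf]; exact hv' x hx) hu hv huv ht)
    obtain ⟨z, hz⟩ : ∃ z, z = (k : Matrix (Fin n) (Fin n) F) *ᵥ w₀ := ⟨_, rfl⟩
    rw [← hz] at hkw₀
    have hzX : z ∈ XSQ Q f M := by
      rw [hz]
      exact XSQ_conj hq M hkM (hMQ k hkM) (hXW w₀ hw₀)
    have hzz := hzX.1
    have hfzz := f_sing hq hzz
    by_cases hzW : ∃ w ∈ W, f z w ≠ 0
    · obtain ⟨w₁, hw₁, hzw₁⟩ := hzW
      exact hfar z hzX w₁ hw₁ hzw₁
    push Not at hzW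
    have hdim : 2 * Module.finrank F W + 3 ≤ n := by
      rcases hk with hodd | h | h
      · obtain ⟨X, hX⟩ : ∃ X : Submodule F (Fin n → F), X = W ⊔ Submodule.span F {z} := ⟨_, rfl⟩
        have hXti : ∀ x ∈ X, ∀ y ∈ X, f x y = 0 := by
          intro x hx y hy
          rw [hX] at hx hy
          obtain ⟨x₁, hx₁, x₂, hx₂, rfl⟩ := Submodule.mem_sup.1 hx
          obtain ⟨y₁, hy₁, y₂, hy₂, rfl⟩ := Submodule.mem_sup.1 hy
          obtain ⟨a, rfl⟩ := Submodule.mem_span_singleton.1 hx₂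
          obtain ⟨b, rfl⟩ := Submodule.mem_span_singleton.1 hy₂
          rw [hf.add_left, f_add_right hf, f_add_right hf, hf.smul_left, hf.smul_left,
            s_smul_right hf, s_smul_right hf, hW x₁ hx₁ y₁ hy₁, hfzz, hzW y₁ hy₁, s_symm hf x₁ z,
            hzW x₁ hx₁]
          ring
        have h3 := rb hf e0 nd_e0 X hXti (fun x _ => perp_e0 x)
        have hlt : W < X := by
          rw [hX]
          apply lt_of_le_of_ne le_sup_left
          intro h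
          apply hkw₀
          rw [h]
          exact Submodule.mem_sup_right (Submodule.mem_span_singleton_self z)
        have h4 := Submodule.finrank_lt_finrank_of_lt hlt
        obtain ⟨j, hj⟩ := hodd
        omega
      · exact h
      · exact absurd (h z hzz hzW) hkw₀
    obtain ⟨y₀, hy₀W, hzy₀⟩ := dperp_s hf W z hkw₀
    obtain ⟨β, hβ⟩ := iso_fix_q hq y₀ z hzz (by rw [s_symm hf]; exact hzy₀)
    obtain ⟨u, hu⟩ : ∃ u, u = y₀ + β • z := ⟨_, rfl⟩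
    rw [← hu] at hβ
    have hfuu := f_sing hq hβ
    have huW : ∀ x ∈ W, f x u = 0 := by
      intro x hx
      rw [hu, f_add_right hf, s_smul_right hf, hy₀W x hx, s_symm hf x z, hzW x hx]
      ring
    have hzu : f z u ≠ 0 := by
      rw [hu, f_add_right hf, s_smul_right hf, hfzz, mul_zero, add_zero]
      exact hzy₀
    have hu0 : u ≠ 0 := by
      rintro rfl
      exact hzu (f_zero_right hf z)
    obtain ⟨w, hwW, huw, hww⟩ := ex_nonsing_perp_q hq W u hdim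
    have hwu : f w u = 0 := by rw [s_symm hf, huw]
    obtain ⟨y₁, y₂, hsum, h11, h22, h1u, h2u⟩ := vf.decomp u w hβ hu0 hwu
    have hu1 : f u y₁ = 0 := by rw [s_symm hf, h1u]
    have hu2 : f u y₂ = 0 := by rw [s_symm hf, h2u]
    obtain ⟨t₁, ht₁⟩ := hG.ex u y₁ 1 hβ h11 hu1
    obtain ⟨t₂, ht₂⟩ := hG.ex u y₂ 1 hβ h22 hu2
    have hρform : ∀ x, ((t₂ * t₁ : Matrix.GeneralLinearGroup (Fin n) F) :
        Matrix (Fin n) (Fin n) F) *ᵥ x =
        x + f u x • w - f w x • u - (f y₁ y₂ * f u x) • u := by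
      intro x
      rw [Cfsg.Agent.S5643.mul_mv, ht₁ x, ht₂, rho_formula hf u y₁ y₂ hfuu h1u h2u, hsum]
    have hρG : t₂ * t₁ ∈ G :=
      G.mul_mem (hG.sg t₂ u y₂ 1 hβ h22 hu2 ht₂) (hG.sg t₁ u y₁ 1 hβ h11 hu1 ht₁)
    have hρfix : ∀ x ∈ W, ((t₂ * t₁ : Matrix.GeneralLinearGroup (Fin n) F) :
        Matrix (Fin n) (Fin n) F) *ᵥ x = x := by
      intro x hx
      rw [hρform, s_symm hf u x, huW x hx, s_symm hf w x, hwW x hx]
      simp
    have hρM : t₂ * t₁ ∈ M :=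
      hHM ⟨Cfsg.Agent.Lib.Helper28.UMax.stab_of_maps W _ (fun x hx => by
        rw [hρfix x hx]
        exact hx), hρG⟩
    obtain ⟨z'', hz''⟩ : ∃ z'', z'' = ((t₂ * t₁ : Matrix.GeneralLinearGroup (Fin n) F) :
        Matrix (Fin n) (Fin n) F) *ᵥ z := ⟨_, rfl⟩
    have hz''X : z'' ∈ XSQ Q f M := by
      rw [hz'']
      exact XSQ_conj hq M hρM (hMQ _ hρM) hzX
    have hz''W : ∀ x ∈ W, f z'' x = 0 := by
      intro x hx
      have h5 := hMiso _ hρM z x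
      rw [hρfix x hx] at h5
      rw [hz'', h5, hzW x hx]
    have h12 : f y₁ y₂ = Q w := by
      rw [← hsum, hq.polar, h11, h22]
      ring
    have hδ : f z z'' = -(f y₁ y₂) * (f u z * f u z) := by
      rw [hz'', hρform, f_sub_right hf, f_sub_right hf, f_add_right hf, s_smul_right hf,
        s_smul_right hf, s_smul_right hf, hfzz, s_symm hf z w, s_symm hf z u]
      ring
    have hδ0 : f z z'' ≠ 0 := by
      rw [hδ, h12]
      have h7 : f u z ≠ 0 := by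
        rw [s_symm hf]
        exact hzu
      exact mul_ne_zero (neg_ne_zero.2 hww) (mul_ne_zero h7 h7)
    obtain ⟨w₁, hw₁W, hw₁0⟩ := Submodule.exists_mem_ne_zero_of_ne_bot hW0
    have hw₁w₁ := hWQ w₁ hw₁W
    have hzs : z ∉ Submodule.span F {w₁} := fun h =>
      hkw₀ ((Submodule.span_singleton_le_iff_mem w₁ W).2 hw₁W h)
    obtain ⟨v₁, hvv, hvz, hvw₁⟩ := perp_partner_q hq z w₁ hw₁0 hzs hw₁w₁
      (by rw [s_symm hf]; exact hzW w₁ hw₁W)
    have hz''s : z'' ∉ Submodule.span F {w₁} := by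
      intro h
      have h8 : z'' ∈ W := (Submodule.span_singleton_le_iff_mem w₁ W).2 hw₁W h
      exact hδ0 (hzW z'' h8)
    obtain ⟨v₂, hv'v', hv'z'', hv'w₁⟩ := perp_partner_q hq z'' w₁ hw₁0 hz''s hw₁w₁
      (by rw [s_symm hf]; exact hz''W w₁ hw₁W)
    have hz''z'' : Q z'' = 0 := hz''X.1
    have hzv₁ : f z v₁ = 0 := by rw [s_symm hf, hvz]
    have hz''v₂ : f z'' v₂ = 0 := by rw [s_symm hf, hv'z'']
    obtain ⟨m₁, hm₁⟩ := hG.ex z v₁ 1 hzz hvv hzv₁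
    obtain ⟨m₂, hm₂⟩ := hG.ex z'' v₂ 1 hz''z'' hv'v' hz''v₂
    have hm₁M : m₁ ∈ M := hzX.2 v₁ 1 m₁ hvv hzv₁ hm₁
    have hm₂M : m₂ ∈ M := hz''X.2 v₂ 1 m₂ hv'v' hz''v₂ hm₂
    have h9 := XSQ_conj hq M hm₂M (hMQ _ hm₂M) (XSQ_conj hq M hm₁M (hMQ _ hm₁M) (hXW w₁ hw₁W))
    apply hfar _ h9 w₁ hw₁W
    have e1 : (m₁ : Matrix (Fin n) (Fin n) F) *ᵥ w₁ = w₁ - z := by
      rw [hm₁ w₁]
      unfold Tv
      rw [hzW w₁ hw₁W, hvw₁]
      module
    rw [e1, hm₂]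
    unfold Tv
    have e3 : f z'' (w₁ - z) = -(f z z'') := by
      rw [f_sub_right hf, hz''W w₁ hw₁W, s_symm hf z'' z]
      ring
    rw [e3]
    simp only [hf.add_left, hf.smul_left, f_sub_left hf, hv'w₁, hz''W w₁ hw₁W, f_sing hq hw₁w₁,
      hzW w₁ hw₁W]
    intro h
    apply hδ0
    linear_combination -h

end Cfsg.Agent.Lib.Helper28.OMax2
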