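import Cfsg.Agent.Lib.Helper28.OHull
import Cfsg.Agent.Lib.Helper28.OIwa2

set_option autoImplicit false

open Cfsg

namespace Cfsg.Agent.Lib.Helper28.ONsp

open Matrix Cfsg.Agent.Lib.Helper28.HForm Cfsg.Agent.Lib.Helper28.OGen
  Cfsg.Agent.Lib.Helper28.OMax Cfsg.Agent.Lib.Helper28.OQ Cfsg.Agent.Lib.Helper28.OMax2
  Cfsg.Agent.Lib.Helper28.OIwa Cfsg.Agent.Lib.Helper28.OIwa2 Cfsg.Agent.Lib.Helper28.OChar2
  Cfsg.Agent.Lib.Helper28.OHull

variable {n : ℕ} {F : Type*} [Field F] {Q : (Fin n → F) → F}
  {f : (Fin n → F) → (Fin n → F) → F}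

theorem coef_one (h2 : (2 : F) = 0) {c a : F} (ha : a ≠ 0) (h : c * c * a = a) : c = 1 := by
  have h1 : c * c = 1 := by
    have : (c * c - 1) * a = 0 := by linear_combination h
    rcases mul_eq_zero.1 this with h' | h'
    · exact sub_eq_zero.1 h'
    · exact absurd h' ha
  have h3 : (c - 1) * (c - 1) = 0 := by linear_combination h1 - (c - 1) * h2
  exact sub_eq_zero.1 (mul_self_eq_zero.1 h3)

theorem fix_of_stab (hq : QF Q f) (h2 : (2 : F) = 0)
    {G : Subgroup (Matrix.GeneralLinearGroup (Fin n) F)} (hG : SgGroupQ Q f G)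
    (v : Fin n → F) (hv : Q v ≠ 0) (g : Matrix.GeneralLinearGroup (Fin n) F) (hgG : g ∈ G)
    (hgS : g ∈ Cfsg.Geo.subspaceStabilizer (Submodule.span F {v})) :
    (g : Matrix (Fin n) (Fin n) F) *ᵥ v = v := by
  have h1 := ((Cfsg.Agent.Lib.Helper28.UMax.mem_stab_iff _ g).1 hgS v).1
    (Submodule.mem_span_singleton_self v)
  obtain ⟨c, hc⟩ := Submodule.mem_span_singleton.1 h1
  have h3 := hG.iso g hgG v
  rw [← hc, hq.smul] at h3
  rw [← hc, coef_one h2 hv h3, one_smul]

theorem stab_of_fix (v : Fin n → F) (g : Matrix.GeneralLinearGroup (Fin n) F)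
    (h : (g : Matrix (Fin n) (Fin n) F) *ᵥ v = v) :
    g ∈ Cfsg.Geo.subspaceStabilizer (Submodule.span F {v}) := by
  apply Cfsg.Agent.Lib.Helper28.UMax.stab_of_maps
  intro x hx
  obtain ⟨c, rfl⟩ := Submodule.mem_span_singleton.1 hx
  rw [Matrix.mulVec_smul, h]
  exact Submodule.smul_mem _ _ (Submodule.mem_span_singleton_self v)

theorem rho_ex (hq : QF Q f) (vf : VFacts Q f)
    {G : Subgroup (Matrix.GeneralLinearGroup (Fin n) F)} (hG : SgGroupQ Q f G)
    (u y : Fin n → F) (hu : Q u = 0) (hu0 : u ≠ 0) (hyu : f y u = 0) :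
    ∃ r ∈ G, ∀ x, (r : Matrix (Fin n) (Fin n) F) *ᵥ x =
      x + f u x • y - f y x • u - (Q y * f u x) • u := by
  have hf := hq.sym
  obtain ⟨y₁, y₂, hsum, h11, h22, h1u, h2u⟩ := vf.decomp u y hu hu0 hyu
  have hu1 : f u y₁ = 0 := by rw [s_symm hf, h1u]
  have hu2 : f u y₂ = 0 := by rw [s_symm hf, h2u]
  obtain ⟨t₁, ht₁⟩ := hG.ex u y₁ 1 hu h11 hu1
  obtain ⟨t₂, ht₂⟩ := hG.ex u y₂ 1 hu h22 hu2
  refine ⟨t₂ * t₁, G.mul_mem (hG.sg t₂ u y₂ 1 hu h22 hu2 ht₂) (hG.sg t₁ u y₁ 1 hu h11 hu1 ht₁), ?_⟩
  intro x
  have hQy : Q y = f y₁ y₂ := by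
    rw [← hsum, hq.polar, h11, h22]
    ring
  rw [Cfsg.Agent.S5643.mul_mv, ht₁ x, ht₂, rho_formula hf u y₁ y₂ (f_sing hq hu) h1u h2u, hsum, hQy]

theorem rho_mul (hq : QF Q f) (u y₁ y₂ : Fin n → F) (hu : Q u = 0) (h1 : f y₁ u = 0)
    (h2' : f y₂ u = 0) (x : Fin n → F) :
    (x + f u x • y₂ - f y₂ x • u - (Q y₂ * f u x) • u) +
      f u (x + f u x • y₂ - f y₂ x • u - (Q y₂ * f u x) • u) • y₁ -
      f y₁ (x + f u x • y₂ - f y₂ x • u - (Q y₂ * f u x) • u) • u -
      (Q y₁ * f u (x + f u x • y₂ - f y₂ x • u - (Q y₂ * f u x) • u)) • u =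
    x + f u x • (y₁ + y₂) - f (y₁ + y₂) x • u - (Q (y₁ + y₂) * f u x) • u := by
  have hf := hq.sym
  have huu := f_sing hq hu
  have hu1 : f u y₁ = 0 := by rw [s_symm hf, h1]
  have hu2 : f u y₂ = 0 := by rw [s_symm hf, h2']
  simp only [f_add_right hf, f_sub_right hf, s_smul_right hf, hf.add_left, huu, hu1, hu2, h1, h2',
    hq.polar]
  module

theorem nsp_max [Fintype F] (hq : QF Q f) (vf : VFacts Q f) (h2 : (2 : F) = 0) (hn : 13 ≤ n)
    {G : Subgroup (Matrix.GeneralLinearGroup (Fin n) F)} (hG : SgGroupQ Q f G)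
    (v : Fin n → F) (hv : Q v ≠ 0) :
    Cfsg.Geo.IsMaximalIn G (Cfsg.Geo.subspaceStabilizer (Submodule.span F {v}) ⊓ G) := by
  have hf := hq.sym
  have hvv : f v v = 0 := c2_f_self hq h2 v
  have hv0 : v ≠ 0 := by
    rintro rfl
    exact hv (Q_zero hq)
  have hnotspan : ∀ u : Fin n → F, Q u = 0 → v ∉ Submodule.span F {u} := by
    intro u hu hmem
    obtain ⟨a, rfl⟩ := Submodule.mem_span_singleton.1 hmem
    apply hv
    rw [hq.smul, hu, mul_zero]
  have hsnot : ∀ u : Fin n → F, Q u = 0 → u ≠ 0 → u ∉ Submodule.span F {v} := by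
    intro u hu hu0 hmem
    obtain ⟨a, rfl⟩ := Submodule.mem_span_singleton.1 hmem
    rw [hq.smul] at hu
    rcases mul_eq_zero.1 hu with h | h
    · have : a = 0 := mul_self_eq_zero.1 h
      rw [this, zero_smul] at hu0
      exact hu0 rfl
    · exact hv h
  have hd1 : ∀ x : Fin n → F, Module.finrank F (Submodule.span F ({x} : Set (Fin n → F))) ≤ 1 := by
    intro x
    have h := finrank_sup_span_le (⊥ : Submodule F (Fin n → F)) x
    rw [bot_sup_eq, finrank_bot] at h
    exact h
  have hd2 : ∀ x y : Fin n → F,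
      Module.finrank F (Submodule.span F ({x, y} : Set (Fin n → F))) ≤ 2 := by
    intro x y
    have h := finrank_sup_span_le (Submodule.span F ({y} : Set (Fin n → F))) x
    have h1 := hd1 y
    rw [Submodule.span_insert, sup_comm]
    omega
  constructor
  · rw [SetLike.lt_iff_le_and_exists]
    refine ⟨inf_le_right, ?_⟩
    have hvb : v ∉ (⊥ : Submodule F (Fin n → F)) := by
      rw [Submodule.mem_bot]
      exact hv0
    obtain ⟨u, hu, -, huv⟩ := sing_val_cf hq ⊥ v hvb (by rw [finrank_bot]; omega)
    have hd := hd2 u v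
    obtain ⟨w, hw, hwS, -, hw0⟩ := sing_out_cf hq (Submodule.span F {u, v}) (by omega)
    have huw : f u w = 0 := hwS u (Submodule.subset_span (by simp))
    have hvw : f v w = 0 := hwS v (Submodule.subset_span (by simp))
    obtain ⟨T, hT⟩ := hG.ex u w 1 hu hw huw
    have hTG := hG.sg T u w 1 hu hw huw hT
    refine ⟨T, hTG, ?_⟩
    rintro ⟨hTS, _⟩
    have h1 := fix_of_stab hq h2 hG v hv T hTG hTS
    rw [hT v] at h1
    unfold Tv at h1
    rw [huv, s_symm hf w v, hvw, zero_smul, sub_zero, one_smul, one_smul] at h1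
    exact hw0 (add_eq_left.1 h1)
  · intro M hHM hMG
    by_cases hMH : M = Cfsg.Geo.subspaceStabilizer (Submodule.span F {v}) ⊓ G
    · exact Or.inl hMH
    right
    apply le_antisymm hMG
    have hex : ∃ g ∈ M, (g : Matrix (Fin n) (Fin n) F) *ᵥ v ≠ v := by
      by_contra hcon
      push Not at hcon
      exact hMH (le_antisymm (fun g hg => ⟨stab_of_fix v g (hcon g hg), hMG hg⟩) hHM)
    obtain ⟨g₀, hg₀M, hg₀v⟩ := hex
    have hfixM : ∀ r ∈ G, (r : Matrix (Fin n) (Fin n) F) *ᵥ v = v → r ∈ M :=
      fun r hr h => hHM ⟨stab_of_fix v r h, hr⟩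
    have hMQ : ∀ k ∈ M, ∀ x, Q ((k : Matrix (Fin n) (Fin n) F) *ᵥ x) = Q x :=
      fun k hk => hG.iso k (hMG hk)
    have fullA : ∀ g ∈ M, ∀ u : Fin n → F, Q u = 0 → f u v = 0 →
        f u ((g : Matrix (Fin n) (Fin n) F) *ᵥ v) = 0 →
        (g : Matrix (Fin n) (Fin n) F) *ᵥ v ∉ Submodule.span F {u, v} → u ∈ XSQ Q f M := by
      intro g hgM u hu huv huy hyn
      obtain ⟨y₀, hy₀⟩ : ∃ y₀, y₀ = (g : Matrix (Fin n) (Fin n) F) *ᵥ v := ⟨_, rfl⟩
      rw [← hy₀] at huy hyn
      refine ⟨hu, fun w c t hw huw ht => ?_⟩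
      by_cases hu0 : u = 0
      · rw [hu0] at ht
        rw [isSg_one_of_zero hf ht]
        exact M.one_mem
      have hvn : v ∉ Submodule.span F {u, y₀} := by
        intro hmem
        obtain ⟨α, β, hαβ⟩ := Submodule.mem_span_pair.1 hmem
        by_cases hβ : β = 0
        · apply hnotspan u hu
          rw [Submodule.mem_span_singleton]
          refine ⟨α, ?_⟩
          rw [← hαβ, hβ, zero_smul, add_zero]
        · apply hyn
          have e : y₀ = (-(β⁻¹ * α)) • u + β⁻¹ • v := by
            rw [← hαβ, smul_add, smul_smul, smul_smul, inv_mul_cancel₀ hβ, one_smul]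
            module
          rw [e]
          exact Submodule.add_mem _ (Submodule.smul_mem _ _ (Submodule.subset_span (by simp)))
            (Submodule.smul_mem _ _ (Submodule.subset_span (by simp)))
      obtain ⟨y, hyS, hvy⟩ := dperp_s hf (Submodule.span F {u, y₀}) v hvn
      have huy' : f u y = 0 := hyS u (Submodule.subset_span (by simp))
      have hy₀y : f y₀ y = 0 := hyS y₀ (Submodule.subset_span (by simp))
      obtain ⟨w₂, hw₂⟩ : ∃ w₂, w₂ = (f w v / f v y) • y := ⟨_, rfl⟩
      have hw₂u : f w₂ u = 0 := by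
        rw [hw₂, hf.smul_left, s_symm hf y u, huy', mul_zero]
      have hw₂y₀ : f w₂ y₀ = 0 := by
        rw [hw₂, hf.smul_left, s_symm hf y y₀, hy₀y, mul_zero]
      have hw₂v : f w₂ v = f w v := by
        rw [hw₂, hf.smul_left, s_symm hf y v]
        field_simp
      obtain ⟨w₁, hw₁⟩ : ∃ w₁, w₁ = w - w₂ := ⟨_, rfl⟩
      have hw₁u : f w₁ u = 0 := by
        rw [hw₁, f_sub_left hf, hw₂u, s_symm hf w u, huw, sub_zero]
      have hw₁v : f w₁ v = 0 := by
        rw [hw₁, f_sub_left hf, hw₂v, sub_self]
      obtain ⟨r₁, hr₁G, hr₁⟩ := rho_ex hq vf hG u (c • w₁) hu hu0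
        (by rw [hf.smul_left, hw₁u, mul_zero])
      obtain ⟨r₂, hr₂G, hr₂⟩ := rho_ex hq vf hG u (c • w₂) hu hu0
        (by rw [hf.smul_left, hw₂u, mul_zero])
      have hr₁M : r₁ ∈ M := by
        apply hfixM r₁ hr₁G
        rw [hr₁ v, huv, hf.smul_left, hw₁v]
        simp
      have hr₂y₀ : (r₂ : Matrix (Fin n) (Fin n) F) *ᵥ y₀ = y₀ := by
        rw [hr₂ y₀, huy, hf.smul_left, hw₂y₀]
        simp
      have hr₂M : r₂ ∈ M := by
        have h1 : g⁻¹ * r₂ * g ∈ M := by
          apply hfixM _ (G.mul_mem (G.mul_mem (G.inv_mem (hMG hgM)) hr₂G) (hMG hgM))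
          rw [Cfsg.Agent.S5643.mul_mv, Cfsg.Agent.S5643.mul_mv, ← hy₀, hr₂y₀, hy₀,
            Cfsg.Agent.S5643.inv_mv]
        have e : r₂ = g * (g⁻¹ * r₂ * g) * g⁻¹ := by group
        rw [e]
        exact M.mul_mem (M.mul_mem hgM h1) (M.inv_mem hgM)
      have e : t = r₁ * r₂ := by
        apply gl_ext
        intro x
        rw [Cfsg.Agent.S5643.mul_mv, hr₂ x, hr₁, rho_mul hq u (c • w₁) (c • w₂) hu
          (by rw [hf.smul_left, hw₁u, mul_zero]) (by rw [hf.smul_left, hw₂u, mul_zero]), ht x]
        have e1 : c • w₁ + c • w₂ = c • w := by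
          rw [hw₁]
          module
        rw [e1, hq.smul, hw, mul_zero, zero_mul, zero_smul, sub_zero, hf.smul_left]
        unfold Tv
        module
      rw [e]
      exact M.mul_mem hr₁M hr₂M
    have fullB : ∀ u : Fin n → F, Q u = 0 → u ≠ 0 → f u v = 0 → u ∈ XSQ Q f M := by
      intro u hu hu0 huv
      obtain ⟨y₀, hy₀⟩ : ∃ y₀, y₀ = (g₀ : Matrix (Fin n) (Fin n) F) *ᵥ v := ⟨_, rfl⟩
      have hQy₀ : Q y₀ = Q v := by rw [hy₀, hMQ g₀ hg₀M]
      by_cases hκ : f u y₀ = 0
      · by_cases hyn : y₀ ∈ Submodule.span F {u, v}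
        · obtain ⟨α, β, hαβ⟩ := Submodule.mem_span_pair.1 hyn
          have hβ : β = 1 := by
            have h1 : Q y₀ = β * β * Q v := by
              rw [← hαβ, hq.polar, hq.smul, hq.smul, hu, hf.smul_left, s_smul_right hf, huv]
              ring
            rw [hQy₀] at h1
            exact coef_one h2 hv h1.symm
          have hα : α ≠ 0 := by
            rintro rfl
            apply hg₀v
            rw [← hy₀, ← hαβ, hβ]
            simp
          have hd := hd2 u v
          obtain ⟨b, hb, hbS, hbn, hb0⟩ := sing_out_cf hq (Submodule.span F {u, v}) (by omega)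
          have hub : f u b = 0 := hbS u (Submodule.subset_span (by simp))
          have hvb : f v b = 0 := hbS v (Submodule.subset_span (by simp))
          have hun : u ∉ Submodule.span F {v, b} := by
            intro hmem
            obtain ⟨α', β', hαβ'⟩ := Submodule.mem_span_pair.1 hmem
            have h1 : Q u = α' * α' * Q v := by
              rw [← hαβ', hq.polar, hq.smul, hq.smul, hb, hf.smul_left, s_smul_right hf, hvb]
              ring
            rw [hu] at h1
            have hα' : α' = 0 := by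
              rcases mul_eq_zero.1 h1.symm with h | h
              · exact mul_self_eq_zero.1 h
              · exact absurd h hv
            rw [hα', zero_smul, zero_add] at hαβ'
            have hβ' : β' ≠ 0 := by
              rintro rfl
              rw [zero_smul] at hαβ'
              exact hu0 hαβ'.symm
            apply hbn
            have e : b = β'⁻¹ • u := by
              rw [← hαβ', smul_smul, inv_mul_cancel₀ hβ', one_smul]
            rw [e]
            exact Submodule.smul_mem _ _ (Submodule.subset_span (by simp))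
          have hd' := hd2 v b
          obtain ⟨a, ha, haS, hau⟩ := sing_val_cf hq (Submodule.span F {v, b}) u hun (by omega)
          have hva : f v a = 0 := haS v (Submodule.subset_span (by simp))
          have hba : f b a = 0 := haS b (Submodule.subset_span (by simp))
          have hab : f a b = 0 := by rw [s_symm hf, hba]
          obtain ⟨h, hh⟩ := hG.ex a b 1 ha hb hab
          have hhG := hG.sg h a b 1 ha hb hab hh
          have hhv : (h : Matrix (Fin n) (Fin n) F) *ᵥ v = v := by
            rw [hh v]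
            unfold Tv
            rw [s_symm hf a v, hva, s_symm hf b v, hvb]
            simp
          have hhM : h ∈ M := hfixM h hhG hhv
          have hhu : (h : Matrix (Fin n) (Fin n) F) *ᵥ u = u + b := by
            rw [hh u]
            unfold Tv
            rw [hau, s_symm hf b u, hub]
            simp
          have hgv : ((h * g₀ : Matrix.GeneralLinearGroup (Fin n) F) :
              Matrix (Fin n) (Fin n) F) *ᵥ v = α • (u + b) + v := by
            rw [Cfsg.Agent.S5643.mul_mv, ← hy₀, ← hαβ, hβ, one_smul, Matrix.mulVec_add,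
              Matrix.mulVec_smul, hhu, hhv]
          apply fullA (h * g₀) (M.mul_mem hhM hg₀M) u hu huv
          · rw [hgv, f_add_right hf, s_smul_right hf, f_add_right hf, f_sing hq hu, hub, huv]
            ring
          · rw [hgv]
            intro hmem
            obtain ⟨α', β', hαβ'⟩ := Submodule.mem_span_pair.1 hmem
            apply hbn
            have e : b = (α⁻¹ * α' - 1) • u + (α⁻¹ * (β' - 1)) • v := by
              have h1 : α • b = (α' - α) • u + (β' - 1) • v := by
                have : α • b = (α • (u + b) + v) - α • u - v := by module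
                rw [this, ← hαβ']
                module
              have h3 : b = α⁻¹ • (α • b) := by
                rw [smul_smul, inv_mul_cancel₀ hα, one_smul]
              rw [h3, h1, smul_add, smul_smul, smul_smul, mul_sub, inv_mul_cancel₀ hα]
            rw [e]
            exact Submodule.add_mem _ (Submodule.smul_mem _ _ (Submodule.subset_span (by simp)))
              (Submodule.smul_mem _ _ (Submodule.subset_span (by simp)))
        · exact fullA g₀ hg₀M u hu huv (by rw [← hy₀]; exact hκ) (by rw [← hy₀]; exact hyn)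
      · have hyn : y₀ ∉ Submodule.span F {u, v} := by
          intro hmem
          obtain ⟨α, β, hαβ⟩ := Submodule.mem_span_pair.1 hmem
          apply hκ
          rw [← hαβ, f_add_right hf, s_smul_right hf, s_smul_right hf, f_sing hq hu, huv]
          ring
        have hd := hd2 u v
        obtain ⟨b₀, hb₀, hb₀S, hb₀y⟩ := sing_val_cf hq (Submodule.span F {u, v}) y₀ hyn (by omega)
        have hub₀ : f u b₀ = 0 := hb₀S u (Submodule.subset_span (by simp))
        have hvb₀ : f v b₀ = 0 := hb₀S v (Submodule.subset_span (by simp))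
        obtain ⟨Z, hZ⟩ : ∃ Z : Submodule F (Fin n → F),
            Z = Submodule.span F {u, v} ⊔ Submodule.span F {y₀} ⊔ Submodule.span F {b₀} := ⟨_, rfl⟩
        have hdZ : Module.finrank F Z ≤ 4 := by
          rw [hZ]
          have h1 := finrank_sup_span_le (Submodule.span F {u, v} ⊔ Submodule.span F {y₀}) b₀
          have h3 := finrank_sup_span_le (Submodule.span F {u, v}) y₀
          omega
        obtain ⟨z, hz, hzS, hzn, -⟩ := sing_out_cf hq Z (by omega)
        have huZ : u ∈ Z := by
          rw [hZ]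
          exact Submodule.mem_sup_left (Submodule.mem_sup_left (Submodule.subset_span (by simp)))
        have hvZ : v ∈ Z := by
          rw [hZ]
          exact Submodule.mem_sup_left (Submodule.mem_sup_left (Submodule.subset_span (by simp)))
        have hy₀Z : y₀ ∈ Z := by
          rw [hZ]
          exact Submodule.mem_sup_left (Submodule.mem_sup_right
            (Submodule.mem_span_singleton_self y₀))
        have hb₀Z : b₀ ∈ Z := by
          rw [hZ]
          exact Submodule.mem_sup_right (Submodule.mem_span_singleton_self b₀)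
        obtain ⟨κ, hκdef⟩ : ∃ κ, κ = f u y₀ := ⟨_, rfl⟩
        rw [← hκdef] at hκ
        obtain ⟨b, hbdef⟩ : ∃ b, b = (-κ) • b₀ + z := ⟨_, rfl⟩
        have hb : Q b = 0 := by
          rw [hbdef, hq.polar, hq.smul, hb₀, hz, hf.smul_left, hzS b₀ hb₀Z]
          ring
        have hub : f u b = 0 := by
          rw [hbdef, f_add_right hf, s_smul_right hf, hub₀, hzS u huZ]
          ring
        have hvb : f v b = 0 := by
          rw [hbdef, f_add_right hf, s_smul_right hf, hvb₀, hzS v hvZ]
          ring
        have hby₀ : f b y₀ = -κ := by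
          rw [hbdef, hf.add_left, hf.smul_left, hb₀y, s_symm hf z y₀, hzS y₀ hy₀Z]
          ring
        have hbnu : b ∉ Submodule.span F {u} := by
          intro hmem
          obtain ⟨γ, hγ⟩ := Submodule.mem_span_singleton.1 hmem
          apply hzn
          have e : z = γ • u + κ • b₀ := by
            rw [hγ, hbdef]
            module
          rw [e]
          exact Z.add_mem (Z.smul_mem _ huZ) (Z.smul_mem _ hb₀Z)
        have hun : u ∉ Submodule.span F {v, b} := by
          intro hmem
          obtain ⟨α', β', hαβ'⟩ := Submodule.mem_span_pair.1 hmem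
          have h1 : Q u = α' * α' * Q v := by
            rw [← hαβ', hq.polar, hq.smul, hq.smul, hb, hf.smul_left, s_smul_right hf, hvb]
            ring
          rw [hu] at h1
          have hα' : α' = 0 := by
            rcases mul_eq_zero.1 h1.symm with h | h
            · exact mul_self_eq_zero.1 h
            · exact absurd h hv
          rw [hα', zero_smul, zero_add] at hαβ'
          have hβ' : β' ≠ 0 := by
            rintro rfl
            rw [zero_smul] at hαβ'
            exact hu0 hαβ'.symm
          apply hbnu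
          have e : b = β'⁻¹ • u := by
            rw [← hαβ', smul_smul, inv_mul_cancel₀ hβ', one_smul]
          rw [e]
          exact Submodule.smul_mem _ _ (Submodule.mem_span_singleton_self u)
        have hd' := hd2 v b
        obtain ⟨a, ha, haS, hau⟩ := sing_val_cf hq (Submodule.span F {v, b}) u hun (by omega)
        have hva : f v a = 0 := haS v (Submodule.subset_span (by simp))
        have hba : f b a = 0 := haS b (Submodule.subset_span (by simp))
        have hab : f a b = 0 := by rw [s_symm hf, hba]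
        obtain ⟨h, hh⟩ := hG.ex a b 1 ha hb hab
        have hhG := hG.sg h a b 1 ha hb hab hh
        have hhv : (h : Matrix (Fin n) (Fin n) F) *ᵥ v = v := by
          rw [hh v]
          unfold Tv
          rw [s_symm hf a v, hva, s_symm hf b v, hvb]
          simp
        have hhM : h ∈ M := hfixM h hhG hhv
        have hhu : (h : Matrix (Fin n) (Fin n) F) *ᵥ u = u + b := by
          rw [hh u]
          unfold Tv
          rw [hau, s_symm hf b u, hub]
          simp
        have hQub : Q (u + b) = 0 := by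
          rw [hq.polar, hu, hb, hub]
          ring
        have h1 : u + b ∈ XSQ Q f M := by
          apply fullA g₀ hg₀M (u + b) hQub
          · rw [hf.add_left, huv, s_symm hf b v, hvb, add_zero]
          · rw [← hy₀, hf.add_left, ← hκdef, hby₀]
            ring
          · rw [← hy₀]
            intro hmem
            obtain ⟨α', β', hαβ'⟩ := Submodule.mem_span_pair.1 hmem
            apply hκ
            rw [hκdef, ← hαβ', f_add_right hf, s_smul_right hf, s_smul_right hf, f_add_right hf,
              f_sing hq hu, hub, huv]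
            ring
        have h3 := XSQ_conj hq M (M.inv_mem hhM) (hMQ _ (M.inv_mem hhM)) h1
        rw [← hhu, Cfsg.Agent.S5643.inv_mv] at h3
        exact h3
    have fullC : ∀ z : Fin n → F, Q z = 0 → z ≠ 0 → z ∈ XSQ Q f M := by
      intro z hz hz0
      by_cases hzv : f z v = 0
      · exact fullB z hz hz0 hzv
      have hd := hd1 v
      obtain ⟨u, hu, huS, huz⟩ := sing_val_cf hq (Submodule.span F {v}) z (hsnot z hz hz0)
        (by omega)
      have hvu : f v u = 0 := huS v (Submodule.mem_span_singleton_self v)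
      have huv : f u v = 0 := by rw [s_symm hf, hvu]
      have hu0 : u ≠ 0 := by
        rintro rfl
        rw [f_zero_left hf] at huz
        exact zero_ne_one huz
      have hd' := hd1 u
      obtain ⟨b₀, hb₀, hb₀S, hb₀v⟩ := sing_val_cf hq (Submodule.span F {u}) v (hnotspan u hu)
        (by omega)
      have hub₀ : f u b₀ = 0 := hb₀S u (Submodule.mem_span_singleton_self u)
      obtain ⟨b, hbdef⟩ : ∃ b, b = (-(f z v)) • b₀ := ⟨_, rfl⟩
      have hb : Q b = 0 := by rw [hbdef, hq.smul, hb₀, mul_zero]
      have hub : f u b = 0 := by rw [hbdef, s_smul_right hf, hub₀, mul_zero]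
      have hbv : f b v = -(f z v) := by rw [hbdef, hf.smul_left, hb₀v, mul_one]
      obtain ⟨T, hT⟩ := hG.ex u b 1 hu hb hub
      have hTM : T ∈ M := (fullB u hu hu0 huv).2 b 1 T hb hub hT
      obtain ⟨z', hz'⟩ : ∃ z', z' = (T : Matrix (Fin n) (Fin n) F) *ᵥ z := ⟨_, rfl⟩
      have hz'Q : Q z' = 0 := by rw [hz', hMQ T hTM, hz]
      have hz'0 : z' ≠ 0 := by
        intro h0
        apply hz0
        have := Cfsg.Agent.S5643.inv_mv T z
        rw [← hz', h0, Matrix.mulVec_zero] at this
        exact this.symm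
      have hz'v : f z' v = 0 := by
        rw [hz', hT z]
        unfold Tv
        rw [one_smul, hf.add_left, f_sub_left hf, hf.smul_left, hf.smul_left, huz, hbv, huv]
        ring
      have h1 := fullB z' hz'Q hz'0 hz'v
      have h3 := XSQ_conj hq M (M.inv_mem hTM) (hMQ _ (M.inv_mem hTM)) h1
      rw [hz', Cfsg.Agent.S5643.inv_mv] at h3
      exact h3
    apply hG.gen M
    intro t u w c hu hw huw ht
    by_cases hu0 : u = 0
    · rw [hu0] at ht
      rw [isSg_one_of_zero hf ht]
      exact M.one_mem
    · exact (fullC u hu hu0).2 w c t hw huw ht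

end Cfsg.Agent.Lib.Helper28.ONsp
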