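import Cfsg.Agent.Lib.Helper28.OHull
import Cfsg.Agent.Lib.Helper28.OMax2
import Cfsg.Agent.Lib.Helper28.ONsp
import Cfsg.Agent.Lib.Helper28.OPair

set_option autoImplicit false

open Cfsg

namespace Cfsg.Agent.Lib.Helper28.ONd

open Matrix Cfsg.Agent.Lib.Helper28.HForm Cfsg.Agent.Lib.Helper28.OGen
  Cfsg.Agent.Lib.Helper28.OMax Cfsg.Agent.Lib.Helper28.OQ Cfsg.Agent.Lib.Helper28.OChar2
  Cfsg.Agent.Lib.Helper28.OHull Cfsg.Agent.Lib.Helper28.OMax2 Cfsg.Agent.Lib.Helper28.OIwa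

variable {n : ℕ} {F : Type*} [Field F] {Q : (Fin n → F) → F}
  {f : (Fin n → F) → (Fin n → F) → F}

structure Split (f : (Fin n → F) → (Fin n → F) → F) (W O : Submodule F (Fin n → F)) : Prop where
  orth : ∀ w ∈ W, ∀ o ∈ O, f w o = 0
  sup : W ⊔ O = ⊤

theorem Split.symm (hf : SymF f) {W O : Submodule F (Fin n → F)} (sp : Split f W O) :
    Split f O W :=
  ⟨fun o ho w hw => by rw [s_symm hf]; exact sp.orth w hw o ho, by rw [sup_comm]; exact sp.sup⟩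

theorem Split.dec {W O : Submodule F (Fin n → F)} (sp : Split f W O) (x : Fin n → F) :
    ∃ w ∈ W, ∃ o ∈ O, w + o = x := by
  have hx : x ∈ W ⊔ O := by
    rw [sp.sup]
    exact Submodule.mem_top
  exact Submodule.mem_sup.1 hx

theorem Split.perp_all (hf : SymF f) {W O : Submodule F (Fin n → F)} (sp : Split f W O)
    {x : Fin n → F} (hW : ∀ w ∈ W, f w x = 0) (hO : ∀ o ∈ O, f o x = 0) : x = 0 := by
  by_contra hx0
  obtain ⟨y, hy⟩ := (hf.nondegenerate x hx0).1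
  obtain ⟨w, hw, o, ho, rfl⟩ := sp.dec y
  apply hy
  rw [hf.add_left, hW w hw, hO o ho, add_zero]

theorem Split.inf (hf : SymF f) {W O : Submodule F (Fin n → F)} (sp : Split f W O)
    {x : Fin n → F} (hW : x ∈ W) (hO : x ∈ O) : x = 0 :=
  sp.perp_all hf (fun w hw => sp.orth w hw x hO)
    (fun o ho => by rw [s_symm hf]; exact sp.orth x hW o ho)

theorem Split.mem_O (hf : SymF f) {W O : Submodule F (Fin n → F)} (sp : Split f W O)
    {x : Fin n → F} (h : ∀ w ∈ W, f w x = 0) : x ∈ O := by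
  obtain ⟨w, hw, o, ho, hx⟩ := sp.dec x
  have hw0 : w = 0 := by
    apply sp.perp_all hf
    · intro w' hw'
      have e : w = x - o := by
        rw [← hx]
        abel
      rw [e, f_sub_right hf, h w' hw', sp.orth w' hw' o ho, sub_zero]
    · intro o' ho'
      rw [s_symm hf]
      exact sp.orth w hw o' ho'
  rw [← hx, hw0, zero_add]
  exact ho

theorem Split.mem_W (hf : SymF f) {W O : Submodule F (Fin n → F)} (sp : Split f W O)
    {x : Fin n → F} (h : ∀ o ∈ O, f o x = 0) : x ∈ W := (sp.symm hf).mem_O hf h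

theorem Split.finrank (hf : SymF f) {W O : Submodule F (Fin n → F)} (sp : Split f W O) :
    Module.finrank F W + Module.finrank F O = n := by
  have h1 := Submodule.finrank_sup_add_finrank_inf_eq W O
  have h2 : W ⊓ O = ⊥ := by
    rw [eq_bot_iff]
    intro v hv
    rw [Submodule.mem_bot]
    exact sp.inf hf hv.1 hv.2
  rw [sp.sup, h2, finrank_bot, add_zero, finrank_top, Module.finrank_fin_fun] at h1
  omega

theorem Split.nd (hf : SymF f) {W O : Submodule F (Fin n → F)} (sp : Split f W O) :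
    ∃ (a : Fin (Module.finrank F W) → (Fin n → F)), Nd f a ∧
      Submodule.span F (Set.range a) = W := by
  refine ⟨fun i => ((Module.finBasis F W i : W) : Fin n → F), ⟨?_, ?_⟩, basis_span W⟩
  · exact (Module.finBasis F W).linearIndependent.map' W.subtype W.ker_subtype
  · intro v hv hp
    rw [basis_span] at hv
    apply sp.inf hf hv
    apply sp.mem_O hf
    intro w hw
    exact perp_span' hf _ v hp w (by rw [basis_span]; exact hw)

theorem Split.perp_iff (hf : SymF f) {W O : Submodule F (Fin n → F)} (sp : Split f W O)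
    {m : ℕ} (a : Fin m → (Fin n → F)) (hspan : Submodule.span F (Set.range a) = W)
    (x : Fin n → F) : Perp f a x ↔ x ∈ O := by
  constructor
  · intro hp
    apply sp.mem_O hf
    intro w hw
    exact perp_span' hf a x hp w (by rw [hspan]; exact hw)
  · intro hx i
    rw [s_symm hf]
    exact sp.orth (a i) (by rw [← hspan]; exact Submodule.subset_span ⟨i, rfl⟩) x hx

theorem nd_hull_from (hq : QF Q f) {m : ℕ} (a : Fin m → (Fin n → F)) (ha : Nd f a) :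
    ∀ (k : ℕ) (x : Fin k → (Fin n → F)),
    ∃ (m' : ℕ) (a' : Fin m' → (Fin n → F)), Nd f a' ∧ m' ≤ m + 2 * k ∧
      Submodule.span F (Set.range a) ≤ Submodule.span F (Set.range a') ∧
      ∀ i, x i ∈ Submodule.span F (Set.range a') := by
  intro k
  induction k with
  | zero =>
    intro x
    exact ⟨m, a, ha, by omega, le_refl _, fun i => Fin.elim0 i⟩
  | succ k ih =>
    intro x
    obtain ⟨m₁, a₁, ha₁, hm₁, hle₁, hx₁⟩ := ih (Fin.tail x)
    obtain ⟨m', a', ha', hm', hle, hx0⟩ := nd_hull_step hq a₁ ha₁ (x 0)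
    refine ⟨m', a', ha', by omega, le_trans hle₁ hle, fun i => ?_⟩
    refine Fin.cases ?_ (fun j => ?_) i
    · exact hx0
    · exact hle (hx₁ j)

theorem nd_ex_sing [Fintype F] (hq : QF Q f) {m : ℕ} (a : Fin m → (Fin n → F)) (ha : Nd f a)
    (h : m + 3 ≤ n) : ∃ s, Perp f a s ∧ Q s = 0 ∧ s ≠ 0 := by
  have hf := hq.sym
  by_cases h2 : (2 : F) = 0
  · exact c2_ex_sing hq h2 a ha h
  · obtain ⟨s, hsa, hss, hs0⟩ := ex_sing hf h2 a ha h
    refine ⟨s, hsa, ?_, hs0⟩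
    have h' := f_self hq s
    rw [hss] at h'
    rcases mul_eq_zero.1 h'.symm with h'' | h''
    · exact absurd h'' h2
    · exact h''

theorem rel_sing [Fintype F] (hq : QF Q f) {m : ℕ} (a : Fin m → (Fin n → F)) (ha : Nd f a)
    (k : ℕ) (x : Fin k → (Fin n → F)) (h : m + 2 * k + 3 ≤ n) :
    ∃ s, Q s = 0 ∧ s ≠ 0 ∧ Perp f a s ∧ (∀ i, f (x i) s = 0) ∧
      s ∉ Submodule.span F (Set.range a) ⊔ Submodule.span F (Set.range x) := by
  have hf := hq.sym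
  obtain ⟨m', a', ha', hm', hle, hx⟩ := nd_hull_from hq a ha k x
  obtain ⟨s, hsa, hss, hs0⟩ := nd_ex_sing hq a' ha' (by omega)
  have hall : ∀ y ∈ Submodule.span F (Set.range a'), f y s = 0 := perp_span' hf a' s hsa
  refine ⟨s, hss, hs0, fun i => ?_, fun i => hall _ (hx i), ?_⟩
  · have := hall (a i) (hle (Submodule.subset_span ⟨i, rfl⟩))
    rw [s_symm hf]
    exact this
  · intro hmem
    have h1 : s ∈ Submodule.span F (Set.range a') := by
      refine (sup_le hle ?_) hmem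
      rw [Submodule.span_le]
      rintro _ ⟨i, rfl⟩
      exact hx i
    exact hs0 (ha'.nd s h1 hsa)

theorem split_sing [Fintype F] (hq : QF Q f) {W O : Submodule F (Fin n → F)} (sp : Split f W O)
    (k : ℕ) (x : Fin k → (Fin n → F)) (h : Module.finrank F W + 2 * k + 3 ≤ n) :
    ∃ s ∈ O, Q s = 0 ∧ s ≠ 0 ∧ (∀ i, f (x i) s = 0) ∧
      s ∉ W ⊔ Submodule.span F (Set.range x) := by
  have hf := hq.sym
  obtain ⟨a, ha, hspan⟩ := sp.nd hf
  obtain ⟨s, hss, hs0, hsa, hsx, hsn⟩ := rel_sing hq a ha k x h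
  rw [hspan] at hsn
  exact ⟨s, (sp.perp_iff hf a hspan s).1 hsa, hss, hs0, hsx, hsn⟩

theorem rel_partner (hq : QF Q f) (S : Submodule F (Fin n → F)) (u : Fin n → F) (hu : Q u = 0)
    (huS : ∀ x ∈ S, f x u = 0) (hun : u ∉ S) :
    ∃ s, Q s = 0 ∧ f s u = 1 ∧ ∀ x ∈ S, f x s = 0 := by
  have hf := hq.sym
  obtain ⟨y, hyS, huy⟩ := dperp_s hf S u hun
  obtain ⟨y₁, hy₁⟩ : ∃ y₁, y₁ = (f u y)⁻¹ • y := ⟨_, rfl⟩
  have hy₁u : f y₁ u = 1 := by
    rw [hy₁, hf.smul_left, s_symm hf y u, inv_mul_cancel₀ huy]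
  have hy₁S : ∀ x ∈ S, f x y₁ = 0 := by
    intro x hx
    rw [hy₁, s_smul_right hf, hyS x hx, mul_zero]
  refine ⟨y₁ - Q y₁ • u, ?_, ?_, ?_⟩
  · rw [Q_sub hq, hq.smul, hu, s_smul_right hf, hy₁u]
    ring
  · rw [f_sub_left hf, hf.smul_left, f_sing hq hu, hy₁u]
    ring
  · intro x hx
    rw [f_sub_right hf, s_smul_right hf, hy₁S x hx, huS x hx]
    ring

theorem split_partner (hq : QF Q f) {W O : Submodule F (Fin n → F)} (sp : Split f W O)
    {u : Fin n → F} (huO : u ∈ O) (hu0 : u ≠ 0) (hu : Q u = 0) :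
    ∃ s ∈ O, Q s = 0 ∧ f s u = 1 := by
  have hf := hq.sym
  obtain ⟨s, hss, hsu, hsW⟩ := rel_partner hq W u hu (fun x hx => sp.orth x hx u huO)
    (fun h => hu0 (sp.inf hf h huO))
  exact ⟨s, sp.mem_O hf hsW, hss, hsu⟩

theorem split_span [Fintype F] (hq : QF Q f) {W O : Submodule F (Fin n → F)} (sp : Split f W O)
    (h3 : Module.finrank F W + 3 ≤ n) (X : Submodule F (Fin n → F)) (hX : ¬ O ≤ X) :
    ∃ p ∈ O, Q p = 0 ∧ p ∉ X := by
  have hf := hq.sym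
  obtain ⟨s, hsO, hss, hs0, -, -⟩ := split_sing hq sp 0 Fin.elim0 (by omega)
  obtain ⟨s', hs'O, hs's', hs's⟩ := split_partner hq sp hsO hs0 hss
  by_cases hsX : s ∈ X
  swap
  · exact ⟨s, hsO, hss, hsX⟩
  by_cases hs'X : s' ∈ X
  swap
  · exact ⟨s', hs'O, hs's', hs'X⟩
  obtain ⟨x, hxO, hxX⟩ := SetLike.not_le_iff_exists.1 hX
  obtain ⟨y, hy⟩ : ∃ y, y = x - f x s' • s - f x s • s' := ⟨_, rfl⟩
  have hyO : y ∈ O := by
    rw [hy]
    exact O.sub_mem (O.sub_mem hxO (O.smul_mem _ hsO)) (O.smul_mem _ hs'O)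
  have hys : f y s = 0 := by
    rw [hy, f_sub_left hf, f_sub_left hf, hf.smul_left, hf.smul_left, f_sing hq hss, hs's]
    ring
  have hys' : f y s' = 0 := by
    rw [hy, f_sub_left hf, f_sub_left hf, hf.smul_left, hf.smul_left, f_sing hq hs's',
      s_symm hf s s', hs's]
    ring
  have hyX : y ∉ X := by
    intro h
    apply hxX
    have e : x = y + f x s' • s + f x s • s' := by
      rw [hy]
      abel
    rw [e]
    exact X.add_mem (X.add_mem h (X.smul_mem _ hsX)) (X.smul_mem _ hs'X)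
  refine ⟨s' - Q y • s + y, O.add_mem (O.sub_mem hs'O (O.smul_mem _ hsO)) hyO, ?_, ?_⟩
  · rw [hq.polar, Q_sub hq, hq.smul, hss, hs's', s_smul_right hf, hs's, f_sub_left hf,
      hf.smul_left, s_symm hf s' y, hys', s_symm hf s y, hys]
    ring
  · intro h
    apply hyX
    have e : y = (s' - Q y • s + y) - s' + Q y • s := by abel
    rw [e]
    exact X.add_mem (X.sub_mem h hs'X) (X.smul_mem _ hsX)

theorem split_nonsing (hq : QF Q f) {W O : Submodule F (Fin n → F)} (sp : Split f W O)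
    (h3 : Module.finrank F W + 3 ≤ n) {s u : Fin n → F} (hsO : s ∈ O) (huO : u ∈ O)
    (hss : Q s = 0) (huu : Q u = 0) (hsu : f s u ≠ 0) :
    ∃ y ∈ O, f y s = 0 ∧ f y u = 0 ∧ Q y ≠ 0 ∧ ∃ y' ∈ O, f y' s = 0 ∧ f y' u = 0 ∧ f y y' ≠ 0 := by
  have hf := hq.sym
  obtain ⟨a, ha, hspan⟩ := sp.nd hf
  have hsa := (sp.perp_iff hf a hspan s).2 hsO
  have hua := (sp.perp_iff hf a hspan u).2 huO
  have hnd := nd_cons2 hf a ha u s hua hsa (f_sing hq huu) (f_sing hq hss) hsu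
  obtain ⟨y, hyc, hyy⟩ := c2_nonsing_perp hq _ hnd (by omega)
  have hyc' := hyc
  rw [perp_cons, perp_cons] at hyc
  obtain ⟨hyu, hys, hya⟩ := hyc
  have hy0 : y ≠ 0 := by
    rintro rfl
    exact hyy (Q_zero hq)
  obtain ⟨x, hx⟩ := (hf.nondegenerate y hy0).2
  obtain ⟨p, hp, hxp⟩ := nd_proj hf _ hnd x
  have hxp' := hxp
  rw [perp_cons, perp_cons] at hxp
  obtain ⟨hxu, hxs, hxa⟩ := hxp
  refine ⟨y, (sp.perp_iff hf a hspan y).1 hya, hys, hyu, hyy, x - p,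
    (sp.perp_iff hf a hspan _).1 hxa, hxs, hxu, ?_⟩
  rw [f_sub_right hf, perp_span hf _ y hyc' p hp, sub_zero]
  exact hx


def IsRho (Q : (Fin n → F) → F) (f : (Fin n → F) → (Fin n → F) → F)
    (r : Matrix.GeneralLinearGroup (Fin n) F) (u y : Fin n → F) : Prop :=
  ∀ x, (r : Matrix (Fin n) (Fin n) F) *ᵥ x = x + f u x • y - f y x • u - (Q y * f u x) • u

theorem isRho_ex (hq : QF Q f) (vf : VFacts Q f)
    {G : Subgroup (Matrix.GeneralLinearGroup (Fin n) F)} (hG : SgGroupQ Q f G)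
    (u y : Fin n → F) (hu : Q u = 0) (hu0 : u ≠ 0) (hyu : f y u = 0) :
    ∃ r ∈ G, IsRho Q f r u y :=
  Cfsg.Agent.Lib.Helper28.ONsp.rho_ex hq vf hG u y hu hu0 hyu

theorem isRho_unique {r r' : Matrix.GeneralLinearGroup (Fin n) F} {u y : Fin n → F}
    (h : IsRho Q f r u y) (h' : IsRho Q f r' u y) : r = r' :=
  gl_ext r r' (fun x => by rw [h x, h' x])

theorem isRho_mem (hq : QF Q f) (vf : VFacts Q f)
    {G : Subgroup (Matrix.GeneralLinearGroup (Fin n) F)} (hG : SgGroupQ Q f G)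
    {r : Matrix.GeneralLinearGroup (Fin n) F} {u y : Fin n → F} (hr : IsRho Q f r u y)
    (hu : Q u = 0) (hu0 : u ≠ 0) (hyu : f y u = 0) : r ∈ G := by
  obtain ⟨r', hr'G, hr'⟩ := isRho_ex hq vf hG u y hu hu0 hyu
  rw [isRho_unique hr hr']
  exact hr'G

theorem isRho_mul (hq : QF Q f) {r₁ r₂ : Matrix.GeneralLinearGroup (Fin n) F}
    {u y₁ y₂ : Fin n → F} (hu : Q u = 0) (h1 : f y₁ u = 0) (h2' : f y₂ u = 0)
    (hr₁ : IsRho Q f r₁ u y₁) (hr₂ : IsRho Q f r₂ u y₂) : IsRho Q f (r₁ * r₂) u (y₁ + y₂) := by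
  intro x
  rw [Cfsg.Agent.S5643.mul_mv, hr₂ x, hr₁]
  exact Cfsg.Agent.Lib.Helper28.ONsp.rho_mul hq u y₁ y₂ hu h1 h2' x

theorem isRho_one (hq : QF Q f) (u : Fin n → F) :
    IsRho Q f (1 : Matrix.GeneralLinearGroup (Fin n) F) u 0 := by
  intro x
  rw [Units.val_one, Matrix.one_mulVec, f_zero_left hq.sym, Q_zero hq]
  simp

theorem isRho_inv (hq : QF Q f) {r : Matrix.GeneralLinearGroup (Fin n) F}
    {u y : Fin n → F} (hu : Q u = 0) (h1 : f y u = 0)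
    (hr : IsRho Q f r u y) : IsRho Q f r⁻¹ u (-y) := by
  intro x
  have h2' : f (-y) u = 0 := by rw [f_neg_left hq.sym, h1, neg_zero]
  have key := Cfsg.Agent.Lib.Helper28.ONsp.rho_mul hq u y (-y) hu h1 h2' x
  rw [add_neg_cancel, f_zero_left hq.sym, Q_zero hq] at key
  simp only [smul_zero, zero_smul, zero_mul, add_zero, sub_zero] at key
  rw [← hr] at key
  have h3 := congrArg (fun v => ((r⁻¹ : Matrix.GeneralLinearGroup (Fin n) F) :
    Matrix (Fin n) (Fin n) F) *ᵥ v) key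
  simp only [Cfsg.Agent.S5643.inv_mv] at h3
  rw [← h3]

theorem isRho_conj (hq : QF Q f) {r k : Matrix.GeneralLinearGroup (Fin n) F}
    {u y : Fin n → F} (hk : ∀ x, Q ((k : Matrix (Fin n) (Fin n) F) *ᵥ x) = Q x)
    (hr : IsRho Q f r u y) :
    IsRho Q f (k * r * k⁻¹) ((k : Matrix (Fin n) (Fin n) F) *ᵥ u)
      ((k : Matrix (Fin n) (Fin n) F) *ᵥ y) := by
  have hki := iso_f hq k hk
  intro x
  rw [Cfsg.Agent.S5643.mul_mv, Cfsg.Agent.S5643.mul_mv, hr]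
  have e1 : ∀ a : Fin n → F, f a (((k⁻¹ : Matrix.GeneralLinearGroup (Fin n) F) :
      Matrix (Fin n) (Fin n) F) *ᵥ x) = f ((k : Matrix (Fin n) (Fin n) F) *ᵥ a) x := by
    intro a
    rw [← hki a, Cfsg.Agent.S5643.inv_mv']
  rw [e1, e1, hk, Matrix.mulVec_sub, Matrix.mulVec_sub, Matrix.mulVec_add,
    Cfsg.Agent.S5643.inv_mv', Matrix.mulVec_smul, Matrix.mulVec_smul, Matrix.mulVec_smul]

theorem isRho_of_sg (hq : QF Q f) {t : Matrix.GeneralLinearGroup (Fin n) F}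
    {u v : Fin n → F} {c : F} (hv : Q v = 0) (h : IsSg f t u v c) : IsRho Q f t u (c • v) := by
  intro x
  rw [h x]
  unfold Tv
  rw [hq.sym.smul_left, hq.smul, hv]
  module

theorem isSg_of_rho (hq : QF Q f) {t : Matrix.GeneralLinearGroup (Fin n) F}
    {u v : Fin n → F} {c : F} (hv : Q v = 0) (h : IsRho Q f t u (c • v)) : IsSg f t u v c := by
  intro x
  rw [h x]
  unfold Tv
  rw [hq.sym.smul_left, hq.smul, hv]
  module

theorem isRho_fix {r : Matrix.GeneralLinearGroup (Fin n) F}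
    {u y x : Fin n → F} (hr : IsRho Q f r u y) (hxu : f u x = 0) (hxy : f y x = 0) :
    (r : Matrix (Fin n) (Fin n) F) *ᵥ x = x := by
  rw [hr x, hxu, hxy]
  simp

theorem isRho_smul (hq : QF Q f) {r : Matrix.GeneralLinearGroup (Fin n) F}
    {u y : Fin n → F} (a : F) (hr : IsRho Q f r (a • u) y) : IsRho Q f r u (a • y) := by
  intro x
  rw [hr x, hq.sym.smul_left, hq.sym.smul_left, hq.smul]
  module

theorem isRho_smul' (hq : QF Q f) {r : Matrix.GeneralLinearGroup (Fin n) F}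
    {u y : Fin n → F} (a : F) (hr : IsRho Q f r u (a • y)) : IsRho Q f r (a • u) y := by
  intro x
  rw [hr x, hq.sym.smul_left, hq.sym.smul_left, hq.smul]
  module

theorem XSQ_two (hq : QF Q f) (vf : VFacts Q f)
    {G : Subgroup (Matrix.GeneralLinearGroup (Fin n) F)} (hG : SgGroupQ Q f G)
    (M : Subgroup (Matrix.GeneralLinearGroup (Fin n) F)) (hMG : M ≤ G)
    {z w : Fin n → F} (hz : z ∈ XSQ Q f M) (hw : w ∈ XSQ Q f M) (hzw : f z w ≠ 0) : G ≤ M := by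
  have hf := hq.sym
  have hMQ : ∀ m ∈ M, ∀ x, Q ((m : Matrix (Fin n) (Fin n) F) *ᵥ x) = Q x :=
    fun m hm => hG.iso m (hMG hm)
  have hstepD : ∀ z ∈ XSQ Q f M, ∀ w₁ ∈ XSQ Q f M, f z w₁ ≠ 0 → ∀ v : Fin n → F, Q v = 0 →
      f v w₁ ≠ 0 → v ∈ XSQ Q f M := by
    intro z hzX w₁ hw₁X hzw₁
    have hw₁0 : w₁ ≠ 0 := by
      rintro rfl
      exact hzw₁ (f_zero_right hf z)
    have hw₁w₁ := hw₁X.1
    have hfw₁ := f_sing hq hw₁w₁
    obtain ⟨κ, hκ⟩ : ∃ κ, κ = f z w₁ := ⟨_, rfl⟩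
    have hκ0 : κ ≠ 0 := by
      rw [hκ]
      exact hzw₁
    have hzz := hzX.1
    have hstepC : ∀ v : Fin n → F, Q v = 0 → f v w₁ = κ → v ∈ XSQ Q f M := by
      intro v hvv hvw
      obtain ⟨y, hy⟩ : ∃ y, y = κ⁻¹ • (v - z) := ⟨_, rfl⟩
      have hyw : f y w₁ = 0 := by
        rw [hy, hf.smul_left, f_sub_left hf, hvw, ← hκ, sub_self, mul_zero]
      obtain ⟨y₁, y₂, hsum, h11, h22, h1w, h2w⟩ := vf.decomp w₁ y hw₁w₁ hw₁0 hyw
      have hw1 : f w₁ y₁ = 0 := by rw [s_symm hf, h1w]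
      have hw2 : f w₁ y₂ = 0 := by rw [s_symm hf, h2w]
      obtain ⟨t₁, ht₁⟩ := hG.ex w₁ y₁ 1 hw₁w₁ h11 hw1
      obtain ⟨t₂, ht₂⟩ := hG.ex w₁ y₂ 1 hw₁w₁ h22 hw2
      have ht₁M : t₁ ∈ M := hw₁X.2 y₁ 1 t₁ h11 hw1 ht₁
      have ht₂M : t₂ ∈ M := hw₁X.2 y₂ 1 t₂ h22 hw2 ht₂
      have hρM : t₂ * t₁ ∈ M := M.mul_mem ht₂M ht₁M
      have h1 := XSQ_conj hq M hρM (hMQ _ hρM) hzX
      have h12 : f y₁ y₂ = Q y := by
        rw [← hsum, hq.polar, h11, h22]
        ring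
      have hyy : Q y = -(κ⁻¹ * κ⁻¹ * f v z) := by
        rw [hy, hq.smul, Q_sub hq, hvv, hzz]
        ring
      have hyz : f y z = κ⁻¹ * f v z := by
        rw [hy, hf.smul_left, f_sub_left hf, f_sing hq hzz]
        ring
      have e : ((t₂ * t₁ : Matrix.GeneralLinearGroup (Fin n) F) :
          Matrix (Fin n) (Fin n) F) *ᵥ z = v := by
        rw [Cfsg.Agent.S5643.mul_mv, ht₁ z, ht₂, rho_formula hf w₁ y₁ y₂ hfw₁ h1w h2w, hsum,
          s_symm hf w₁ z, ← hκ, hyz]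
        have e1 : κ • y = v - z := by
          rw [hy, smul_smul, mul_inv_cancel₀ hκ0, one_smul]
        have e2 : f y₁ y₂ * κ = -(κ⁻¹ * f v z) := by
          rw [h12, hyy]
          field_simp
        rw [e1, e2]
        module
      rw [e] at h1
      exact h1
    intro v hvv hvw
    have h1 := hstepC ((κ / f v w₁) • v)
      (by rw [hq.smul, hvv, mul_zero])
      (by rw [hf.smul_left]; field_simp)
    have h3 := XSQ_smul hq M (f v w₁ / κ) (div_ne_zero hvw hκ0) h1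
    rw [smul_smul] at h3
    have e : f v w₁ / κ * (κ / f v w₁) = 1 := by field_simp
    rw [e, one_smul] at h3
    exact h3
  have hwz : f w z ≠ 0 := by
    rw [s_symm hf]
    exact hzw
  have hw0 : w ≠ 0 := by
    rintro rfl
    exact hzw (f_zero_right hf z)
  have hall : ∀ v : Fin n → F, Q v = 0 → v ≠ 0 → v ∈ XSQ Q f M := by
    intro v hvv hv0
    by_cases h1 : f v w = 0
    swap
    · exact hstepD z hz w hw hzw v hvv h1
    by_cases h3 : f v z = 0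
    swap
    · exact hstepD w hw z hz hwz v hvv h3
    have hvs : v ∉ Submodule.span F {w} := by
      intro h
      obtain ⟨a, rfl⟩ := Submodule.mem_span_singleton.1 h
      rw [hf.smul_left] at h3
      rcases mul_eq_zero.1 h3 with h4 | h4
      · apply hv0
        rw [h4, zero_smul]
      · exact hwz h4
    obtain ⟨z', hz'z', hz'w, hz'v⟩ := far_pair_q hq w v hw0 hvs hw.1 (by rw [s_symm hf]; exact h1)
    have hz'X := hstepD z hz w hw hzw z' hz'z' hz'w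
    exact hstepD w hw z' hz'X (by rw [s_symm hf]; exact hz'w) v hvv (by rw [s_symm hf]; exact hz'v)
  apply hG.gen M
  intro t u v c hu hv huv ht
  by_cases hu0 : u = 0
  · rw [hu0] at ht
    rw [isSg_one_of_zero hf ht]
    exact M.one_mem
  · exact (hall u hu hu0).2 v c t hv huv ht


theorem Split.map (hq : QF Q f) {W O : Submodule F (Fin n → F)} (sp : Split f W O)
    (k : Matrix.GeneralLinearGroup (Fin n) F)
    (hk : ∀ x, Q ((k : Matrix (Fin n) (Fin n) F) *ᵥ x) = Q x) :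
    Split f (W.map (Matrix.toLin' (k : Matrix (Fin n) (Fin n) F)))
      (O.map (Matrix.toLin' (k : Matrix (Fin n) (Fin n) F))) := by
  have hki := iso_f hq k hk
  constructor
  · rintro _ ⟨w, hw, rfl⟩ _ ⟨o, ho, rfl⟩
    rw [Matrix.toLin'_apply, Matrix.toLin'_apply, hki]
    exact sp.orth w hw o ho
  · rw [eq_top_iff]
    intro x _
    obtain ⟨w, hw, o, ho, hwo⟩ := sp.dec (((k⁻¹ : Matrix.GeneralLinearGroup (Fin n) F) :
      Matrix (Fin n) (Fin n) F) *ᵥ x)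
    have e : x = (k : Matrix (Fin n) (Fin n) F) *ᵥ w + (k : Matrix (Fin n) (Fin n) F) *ᵥ o := by
      rw [← Matrix.mulVec_add, hwo, Cfsg.Agent.S5643.inv_mv']
    rw [e]
    exact Submodule.add_mem _
      (Submodule.mem_sup_left ⟨w, hw, by rw [Matrix.toLin'_apply]⟩)
      (Submodule.mem_sup_right ⟨o, ho, by rw [Matrix.toLin'_apply]⟩)

def RhoIn (Q : (Fin n → F) → F) (f : (Fin n → F) → (Fin n → F) → F)
    (M : Subgroup (Matrix.GeneralLinearGroup (Fin n) F)) (O : Submodule F (Fin n → F)) : Prop :=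
  ∀ (r : Matrix.GeneralLinearGroup (Fin n) F) (u y : Fin n → F), u ∈ O → y ∈ O → Q u = 0 →
    u ≠ 0 → f y u = 0 → IsRho Q f r u y → r ∈ M

theorem rhoIn_H (hq : QF Q f) (vf : VFacts Q f)
    {G : Subgroup (Matrix.GeneralLinearGroup (Fin n) F)} (hG : SgGroupQ Q f G)
    {W O : Submodule F (Fin n → F)} (sp : Split f W O) :
    RhoIn Q f (Cfsg.Geo.subspaceStabilizer W ⊓ G) O := by
  have hf := hq.sym
  intro r u y huO hyO hu hu0 hyu hr
  refine ⟨Cfsg.Agent.Lib.Helper28.UMax.stab_of_maps W r (fun x hx => ?_),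
    isRho_mem hq vf hG hr hu hu0 hyu⟩
  rw [isRho_fix hr (by rw [s_symm hf]; exact sp.orth x hx u huO)
    (by rw [s_symm hf]; exact sp.orth x hx y hyO)]
  exact hx

theorem rhoIn_mono {M M' : Subgroup (Matrix.GeneralLinearGroup (Fin n) F)}
    {O : Submodule F (Fin n → F)} (h : RhoIn Q f M O) (hMM : M ≤ M') : RhoIn Q f M' O :=
  fun r u y huO hyO hu hu0 hyu hr => hMM (h r u y huO hyO hu hu0 hyu hr)

theorem rhoIn_map (hq : QF Q f) {M : Subgroup (Matrix.GeneralLinearGroup (Fin n) F)}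
    {O : Submodule F (Fin n → F)} (h : RhoIn Q f M O)
    {k : Matrix.GeneralLinearGroup (Fin n) F} (hkM : k ∈ M)
    (hk : ∀ x, Q ((k : Matrix (Fin n) (Fin n) F) *ᵥ x) = Q x) :
    RhoIn Q f M (O.map (Matrix.toLin' (k : Matrix (Fin n) (Fin n) F))) := by
  have hki := iso_f hq k hk
  have hk' : ∀ x, Q (((k⁻¹ : Matrix.GeneralLinearGroup (Fin n) F) :
      Matrix (Fin n) (Fin n) F) *ᵥ x) = Q x := by
    intro x
    rw [← hk, Cfsg.Agent.S5643.inv_mv']
  rintro r _ _ ⟨u₀, hu₀, rfl⟩ ⟨y₀, hy₀, rfl⟩ hu hu0 hyu hr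
  rw [Matrix.toLin'_apply] at hu hu0 hyu hr
  rw [Matrix.toLin'_apply] at hyu hr
  have h1 := isRho_conj hq hk' hr
  rw [Cfsg.Agent.S5643.inv_mv, Cfsg.Agent.S5643.inv_mv] at h1
  have h2 : k⁻¹ * r * k⁻¹⁻¹ ∈ M := h _ u₀ y₀ hu₀ hy₀ (by rw [← hk]; exact hu)
    (by
      rintro rfl
      apply hu0
      rw [Matrix.mulVec_zero])
    (by rw [← hki]; exact hyu) h1
  have e : r = k * (k⁻¹ * r * k⁻¹⁻¹) * k⁻¹ := by group
  rw [e]
  exact M.mul_mem (M.mul_mem hkM h2) (M.inv_mem hkM)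

theorem nd_strict [Fintype F] (hq : QF Q f) (hn : 7 ≤ n)
    {G : Subgroup (Matrix.GeneralLinearGroup (Fin n) F)} (hG : SgGroupQ Q f G)
    {W O : Submodule F (Fin n → F)} (sp : Split f W O) (hW0 : W ≠ ⊥)
    (h3 : Module.finrank F W + 3 ≤ n) : Cfsg.Geo.subspaceStabilizer W ⊓ G < G := by
  have hf := hq.sym
  refine lt_of_le_of_ne inf_le_right ?_
  intro heq
  obtain ⟨u, huO, hu, hu0, -, -⟩ := split_sing hq sp 0 Fin.elim0 (by omega)
  obtain ⟨w, hwW, hw0⟩ := Submodule.exists_mem_ne_zero_of_ne_bot hW0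
  have hws : w ∉ Submodule.span F {u} := by
    intro h
    obtain ⟨a, rfl⟩ := Submodule.mem_span_singleton.1 h
    exact hw0 (sp.inf hf hwW (O.smul_mem a huO))
  have hfr : Module.finrank F (Submodule.span F ({u} : Set (Fin n → F))) = 1 :=
    finrank_span_singleton hu0
  obtain ⟨v, hv, hvS, hvw⟩ := sing_val_cf hq (Submodule.span F {u}) w hws (by omega)
  have huv : f u v = 0 := hvS u (Submodule.mem_span_singleton_self u)
  obtain ⟨t, ht⟩ := hG.ex u v 1 hu hv huv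
  have htG : t ∈ G := hG.sg t u v 1 hu hv huv ht
  rw [← heq] at htG
  have h1 := ((Cfsg.Agent.Lib.Helper28.UMax.mem_stab_iff W t).1 htG.1 w).1 hwW
  rw [ht w] at h1
  unfold Tv at h1
  rw [hvw, s_symm hf u w, sp.orth w hwW u huO, zero_smul, zero_sub, one_smul, one_smul] at h1
  have h5 : u ∈ W := by
    have h4 := W.sub_mem hwW h1
    have e : w - (w + -u) = u := by abel
    rw [e] at h4
    exact h4
  exact hu0 (sp.inf hf h5 huO)

theorem nd_move (hq : QF Q f)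
    {G : Subgroup (Matrix.GeneralLinearGroup (Fin n) F)} (hG : SgGroupQ Q f G)
    {W O : Submodule F (Fin n → F)} (sp : Split f W O)
    (M : Subgroup (Matrix.GeneralLinearGroup (Fin n) F))
    (hHM : Cfsg.Geo.subspaceStabilizer W ⊓ G ≤ M) (hMG : M ≤ G)
    (hMH : M ≠ Cfsg.Geo.subspaceStabilizer W ⊓ G) :
    ∃ k ∈ M, ¬ (O.map (Matrix.toLin' (k : Matrix (Fin n) (Fin n) F)) ≤ O) := by
  have hf := hq.sym
  obtain ⟨h, hhM, hh⟩ : ∃ h ∈ M, h ∉ Cfsg.Geo.subspaceStabilizer W := by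
    by_contra hcon
    push Not at hcon
    exact hMH (le_antisymm (fun x hx => ⟨hcon x hx, hMG hx⟩) hHM)
  refine ⟨h⁻¹, M.inv_mem hhM, fun hle => hh ?_⟩
  have hhi := iso_f hq h (hG.iso h (hMG hhM))
  apply Cfsg.Agent.Lib.Helper28.UMax.stab_of_maps
  intro x hx
  apply sp.mem_W hf
  intro o ho
  have h1 : ((h⁻¹ : Matrix.GeneralLinearGroup (Fin n) F) : Matrix (Fin n) (Fin n) F) *ᵥ o ∈ O :=
    hle ⟨o, ho, by rw [Matrix.toLin'_apply]⟩
  have h2 := hhi (((h⁻¹ : Matrix.GeneralLinearGroup (Fin n) F) :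
    Matrix (Fin n) (Fin n) F) *ᵥ o) x
  rw [Cfsg.Agent.S5643.inv_mv'] at h2
  rw [h2, s_symm hf]
  exact sp.orth x hx _ h1

theorem nd_fin2 (hq : QF Q f) (vf : VFacts Q f)
    {G : Subgroup (Matrix.GeneralLinearGroup (Fin n) F)} (hG : SgGroupQ Q f G)
    {W O : Submodule F (Fin n → F)} (sp : Split f W O)
    (M : Subgroup (Matrix.GeneralLinearGroup (Fin n) F)) (hRO : RhoIn Q f M O)
    {u v : Fin n → F} {r : Matrix.GeneralLinearGroup (Fin n) F}
    (huO : u ∈ O) (hu : Q u = 0) (hu0 : u ≠ 0) (hvu : f v u = 0) (hvO : v ∉ O)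
    (hrM : r ∈ M) (hr : IsRho Q f r u v) :
    ∃ z ∈ W, z ≠ 0 ∧ ∃ r' ∈ M, IsRho Q f r' u z := by
  have hf := hq.sym
  obtain ⟨w, hw, o, ho, hwo⟩ := sp.dec v
  have hw0 : w ≠ 0 := by
    rintro rfl
    rw [zero_add] at hwo
    rw [← hwo] at hvO
    exact hvO ho
  have hwu : f w u = 0 := sp.orth w hw u huO
  have hou : f o u = 0 := by
    have : o = v - w := by
      rw [← hwo]
      abel
    rw [this, f_sub_left hf, hvu, hwu, sub_zero]
  have hou' : f (-o) u = 0 := by rw [f_neg_left hf, hou, neg_zero]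
  obtain ⟨r₂, hr₂G, hr₂⟩ := isRho_ex hq vf hG u (-o) hu hu0 hou'
  have hr₂M : r₂ ∈ M := hRO r₂ u (-o) huO (O.neg_mem ho) hu hu0 hou' hr₂
  refine ⟨w, hw, hw0, r * r₂, M.mul_mem hrM hr₂M, ?_⟩
  have h1 := isRho_mul hq hu hvu hou' hr hr₂
  have e : v + -o = w := by
    rw [← hwo]
    abel
  rw [e] at h1
  exact h1

theorem nd_step2 [Fintype F] (hq : QF Q f) (vf : VFacts Q f)
    {G : Subgroup (Matrix.GeneralLinearGroup (Fin n) F)} (hG : SgGroupQ Q f G)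
    {W O W' O' : Submodule F (Fin n → F)} (sp : Split f W O) (sp' : Split f W' O')
    (h7 : Module.finrank F W + 7 ≤ n) (h7' : Module.finrank F W' + 7 ≤ n)
    (M : Subgroup (Matrix.GeneralLinearGroup (Fin n) F))
    (hRO : RhoIn Q f M O) (hRO' : RhoIn Q f M O') (hne : ¬ O' ≤ O) (hns : ¬ O' ≤ W) :
    ∃ u ∈ O, Q u = 0 ∧ u ≠ 0 ∧ ∃ z ∈ W, z ≠ 0 ∧ ∃ r ∈ M, IsRho Q f r u z := by
  have hf := hq.sym
  have hE2 : ∀ p ∈ O', Q p = 0 → p ≠ 0 → ∃ q ∈ O', Q q = 0 ∧ f p q = 0 ∧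
      q ∉ Submodule.span F {p} := by
    intro p _ _ _
    obtain ⟨q, hqO', hqq, -, hpq, hqn⟩ := split_sing hq sp' 1 (fun _ => p) (by omega)
    refine ⟨q, hqO', hqq, hpq 0, fun h => hqn (Submodule.mem_sup_right ?_)⟩
    rw [Set.range_const]
    exact h
  obtain ⟨p, q, hpO', hqO', hpp, hqq, hpq, hp0, hqp, hnO, hnW⟩ : ∃ p q, p ∈ O' ∧ q ∈ O' ∧
      Q p = 0 ∧ Q q = 0 ∧ f p q = 0 ∧ p ≠ 0 ∧ q ∉ Submodule.span F {p} ∧ ¬ (p ∈ O ∧ q ∈ O) ∧
      ¬ (p ∈ W ∧ q ∈ W) := by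
    obtain ⟨p₁, hp₁O', hp₁, hp₁n⟩ := split_span hq sp' (by omega) O hne
    obtain ⟨p₂, hp₂O', hp₂, hp₂n⟩ := split_span hq sp' (by omega) W hns
    have hp₁0 : p₁ ≠ 0 := by
      rintro rfl
      exact hp₁n O.zero_mem
    have hp₂0 : p₂ ≠ 0 := by
      rintro rfl
      exact hp₂n W.zero_mem
    by_cases h1 : p₁ ∈ W
    swap
    · obtain ⟨q, hqO', hqq, hpq, hqn⟩ := hE2 p₁ hp₁O' hp₁ hp₁0
      exact ⟨p₁, q, hp₁O', hqO', hp₁, hqq, hpq, hp₁0, hqn, fun h => hp₁n h.1, fun h => h1 h.1⟩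
    by_cases h2 : p₂ ∈ O
    swap
    · obtain ⟨q, hqO', hqq, hpq, hqn⟩ := hE2 p₂ hp₂O' hp₂ hp₂0
      exact ⟨p₂, q, hp₂O', hqO', hp₂, hqq, hpq, hp₂0, hqn, fun h => h2 h.1, fun h => hp₂n h.1⟩
    refine ⟨p₁, p₂, hp₁O', hp₂O', hp₁, hp₂, sp.orth p₁ h1 p₂ h2, hp₁0, ?_, fun h => hp₁n h.1,
      fun h => hp₂n h.2⟩
    intro h
    obtain ⟨a, rfl⟩ := Submodule.mem_span_singleton.1 h
    exact hp₂n (W.smul_mem a h1)
  have hfpp := f_sing hq hpp
  have hfqq := f_sing hq hqq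
  have hqp' : f q p = 0 := by rw [s_symm hf, hpq]
  by_cases hc : ∃ α β : F, (α ≠ 0 ∨ β ≠ 0) ∧ α • p + β • q ∈ O
  · obtain ⟨α, β, hαβ, hmem⟩ := hc
    obtain ⟨p', hp'⟩ : ∃ p', p' = α • p + β • q := ⟨_, rfl⟩
    rw [← hp'] at hmem
    have hp'0 : p' ≠ 0 := by
      intro h0
      rw [hp'] at h0
      by_cases hβ : β = 0
      · rw [hβ, zero_smul, add_zero] at h0
        rcases hαβ with h | h
        · rcases smul_eq_zero.1 h0 with h' | h'
          · exact h h'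
          · exact hp0 h'
        · exact h hβ
      · apply hqp
        rw [Submodule.mem_span_singleton]
        refine ⟨-(α / β), ?_⟩
        have h1 : β • q = -(α • p) := eq_neg_of_add_eq_zero_right h0
        have h2 : q = β⁻¹ • (β • q) := by rw [smul_smul, inv_mul_cancel₀ hβ, one_smul]
        rw [h2, h1]
        rw [smul_neg, smul_smul, neg_smul]
        congr 2
        field_simp
    have hp'p' : Q p' = 0 := by
      rw [hp', hq.polar, hq.smul, hq.smul, hpp, hqq, hf.smul_left, s_smul_right hf, hpq]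
      ring
    have hp'O' : p' ∈ O' := by
      rw [hp']
      exact O'.add_mem (O'.smul_mem _ hpO') (O'.smul_mem _ hqO')
    have hpp' : f p p' = 0 := by
      rw [hp', f_add_right hf, s_smul_right hf, s_smul_right hf, hfpp, hpq]
      ring
    have hqp'' : f q p' = 0 := by
      rw [hp', f_add_right hf, s_smul_right hf, s_smul_right hf, hfqq, hqp']
      ring
    obtain ⟨q', hq'O', hq'q', hq'p', hq'n⟩ : ∃ q', q' ∈ O' ∧ Q q' = 0 ∧ f q' p' = 0 ∧ q' ∉ O := by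
      by_cases h : p ∈ O
      · exact ⟨q, hqO', hqq, hqp'', fun h' => hnO ⟨h, h'⟩⟩
      · exact ⟨p, hpO', hpp, hpp', h⟩
    obtain ⟨r, hrG, hr⟩ := isRho_ex hq vf hG p' q' hp'p' hp'0 hq'p'
    have hrM : r ∈ M := hRO' r p' q' hp'O' hq'O' hp'p' hp'0 hq'p' hr
    obtain ⟨z, hzW, hz0, r', hr'M, hr'⟩ :=
      nd_fin2 hq vf hG sp M hRO hmem hp'p' hp'0 hq'p' hq'n hrM hr
    exact ⟨p', hmem, hp'p', hp'0, z, hzW, hz0, r', hr'M, hr'⟩
  · push Not at hc
    obtain ⟨u, huO, hu, hu0, hux, hun⟩ := split_sing hq sp 2 ![p, q] (by omega)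
    have hpu : f p u = 0 := hux 0
    have hqu : f q u = 0 := hux 1
    have hup : f u p = 0 := by rw [s_symm hf, hpu]
    have huq : f u q = 0 := by rw [s_symm hf, hqu]
    obtain ⟨k, hkG, hk⟩ := isRho_ex hq vf hG p q hpp hp0 hqp'
    have hkM : k ∈ M := hRO' k p q hpO' hqO' hpp hp0 hqp' hk
    have hku : (k : Matrix (Fin n) (Fin n) F) *ᵥ u = u := isRho_fix hk hpu hqu
    have hpT : p ∈ W ⊔ Submodule.span F (Set.range ![p, q]) :=
      Submodule.mem_sup_right (Submodule.subset_span ⟨0, rfl⟩)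
    have hqT : q ∈ W ⊔ Submodule.span F (Set.range ![p, q]) :=
      Submodule.mem_sup_right (Submodule.subset_span ⟨1, rfl⟩)
    obtain ⟨pW, hpW, pO, hpO, hpdec⟩ := sp.dec p
    obtain ⟨qW, hqW, qO, hqO, hqdec⟩ := sp.dec q
    have hpOT : pO ∈ W ⊔ Submodule.span F (Set.range ![p, q]) := by
      have e : pO = p - pW := by
        rw [← hpdec]
        abel
      rw [e]
      exact Submodule.sub_mem _ hpT (Submodule.mem_sup_left hpW)
    have hqOT : qO ∈ W ⊔ Submodule.span F (Set.range ![p, q]) := by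
      have e : qO = q - qW := by
        rw [← hqdec]
        abel
      rw [e]
      exact Submodule.sub_mem _ hqT (Submodule.mem_sup_left hqW)
    have hex : ∀ z₀ ∈ O, z₀ ≠ 0 → z₀ ∈ W ⊔ Submodule.span F (Set.range ![p, q]) →
        ∃ y ∈ O, f u y = 0 ∧ f z₀ y ≠ 0 := by
      intro z₀ hz₀O hz₀0 hz₀T
      have hz₀S : z₀ ∉ W ⊔ Submodule.span F {u} := by
        intro h
        obtain ⟨w, hw, cu, hcu, hsum⟩ := Submodule.mem_sup.1 h
        obtain ⟨c, rfl⟩ := Submodule.mem_span_singleton.1 hcu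
        have hw0 : w = 0 := by
          apply sp.inf hf hw
          have e : w = z₀ - c • u := by
            rw [← hsum]
            abel
          rw [e]
          exact O.sub_mem hz₀O (O.smul_mem c huO)
        rw [hw0, zero_add] at hsum
        have hc0 : c ≠ 0 := by
          rintro rfl
          rw [zero_smul] at hsum
          exact hz₀0 hsum.symm
        apply hun
        have e : u = c⁻¹ • z₀ := by
          rw [← hsum, smul_smul, inv_mul_cancel₀ hc0, one_smul]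
        rw [e]
        exact Submodule.smul_mem _ _ hz₀T
      obtain ⟨y, hyS, hzy⟩ := dperp_s hf _ z₀ hz₀S
      exact ⟨y, sp.mem_O hf (fun w hw => hyS w (Submodule.mem_sup_left hw)),
        hyS u (Submodule.mem_sup_right (Submodule.mem_span_singleton_self u)), hzy⟩
    obtain ⟨y, hyO, huy, hpqy⟩ : ∃ y ∈ O, f u y = 0 ∧ (f p y ≠ 0 ∨ f q y ≠ 0) := by
      by_cases hpO0 : pO = 0
      · have hqO0 : qO ≠ 0 := by
          intro hqO0
          apply hnW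
          rw [← hpdec, ← hqdec, hpO0, hqO0, add_zero, add_zero]
          exact ⟨hpW, hqW⟩
        obtain ⟨y, hyO, huy, hzy⟩ := hex qO hqO hqO0 hqOT
        refine ⟨y, hyO, huy, Or.inr ?_⟩
        rw [← hqdec, hf.add_left, sp.orth qW hqW y hyO, zero_add]
        exact hzy
      · obtain ⟨y, hyO, huy, hzy⟩ := hex pO hpO hpO0 hpOT
        refine ⟨y, hyO, huy, Or.inl ?_⟩
        rw [← hpdec, hf.add_left, sp.orth pW hpW y hyO, zero_add]
        exact hzy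
    have hyu : f y u = 0 := by rw [s_symm hf, huy]
    obtain ⟨r₀, hr₀G, hr₀⟩ := isRho_ex hq vf hG u y hu hu0 hyu
    have hr₀M : r₀ ∈ M := hRO r₀ u y huO hyO hu hu0 hyu hr₀
    have hkQ := hG.iso k hkG
    have h1 := isRho_conj hq hkQ hr₀
    rw [hku] at h1
    have hkyu : f ((k : Matrix (Fin n) (Fin n) F) *ᵥ y) u = 0 := by
      have := iso_f hq k hkQ y u
      rw [hku] at this
      rw [this, hyu]
    have hkyO : (k : Matrix (Fin n) (Fin n) F) *ᵥ y ∉ O := by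
      intro h
      rw [hk y, hqq, zero_mul, zero_smul, sub_zero] at h
      have h2 := O.sub_mem h hyO
      have e : y + f p y • q - f q y • p - y = (-(f q y)) • p + f p y • q := by module
      rw [e] at h2
      refine hc (-(f q y)) (f p y) ?_ h2
      rcases hpqy with h' | h'
      · exact Or.inr h'
      · exact Or.inl (neg_ne_zero.2 h')
    obtain ⟨z, hzW, hz0, r', hr'M, hr'⟩ :=
      nd_fin2 hq vf hG sp M hRO huO hu hu0 hkyu hkyO
        (M.mul_mem (M.mul_mem hkM hr₀M) (M.inv_mem hkM)) h1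
    exact ⟨u, huO, hu, hu0, z, hzW, hz0, r', hr'M, hr'⟩


def ZZ (Q : (Fin n → F) → F) (f : (Fin n → F) → (Fin n → F) → F)
    (M : Subgroup (Matrix.GeneralLinearGroup (Fin n) F)) (W : Submodule F (Fin n → F))
    (u w : Fin n → F) : Prop :=
  w ∈ W ∧ ∃ r ∈ M, IsRho Q f r u w

theorem ZZ_add (hq : QF Q f) {M : Subgroup (Matrix.GeneralLinearGroup (Fin n) F)}
    {W O : Submodule F (Fin n → F)} (sp : Split f W O) {u : Fin n → F} (huO : u ∈ O)
    (hu : Q u = 0) {w₁ w₂ : Fin n → F} (h1 : ZZ Q f M W u w₁) (h2 : ZZ Q f M W u w₂) :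
    ZZ Q f M W u (w₁ + w₂) := by
  obtain ⟨hw₁, r₁, hr₁M, hr₁⟩ := h1
  obtain ⟨hw₂, r₂, hr₂M, hr₂⟩ := h2
  exact ⟨W.add_mem hw₁ hw₂, r₁ * r₂, M.mul_mem hr₁M hr₂M,
    isRho_mul hq hu (sp.orth w₁ hw₁ u huO) (sp.orth w₂ hw₂ u huO) hr₁ hr₂⟩

theorem ZZ_neg (hq : QF Q f) {M : Subgroup (Matrix.GeneralLinearGroup (Fin n) F)}
    {W O : Submodule F (Fin n → F)} (sp : Split f W O) {u : Fin n → F} (huO : u ∈ O)
    (hu : Q u = 0) {w : Fin n → F} (h1 : ZZ Q f M W u w) : ZZ Q f M W u (-w) := by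
  obtain ⟨hw, r, hrM, hr⟩ := h1
  exact ⟨W.neg_mem hw, r⁻¹, M.inv_mem hrM, isRho_inv hq hu (sp.orth w hw u huO) hr⟩

theorem ZZ_sub (hq : QF Q f) {M : Subgroup (Matrix.GeneralLinearGroup (Fin n) F)}
    {W O : Submodule F (Fin n → F)} (sp : Split f W O) {u : Fin n → F} (huO : u ∈ O)
    (hu : Q u = 0) {w₁ w₂ : Fin n → F} (h1 : ZZ Q f M W u w₁) (h2 : ZZ Q f M W u w₂) :
    ZZ Q f M W u (w₁ - w₂) := by
  rw [sub_eq_add_neg]
  exact ZZ_add hq sp huO hu h1 (ZZ_neg hq sp huO hu h2)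

theorem ZZ_act (hq : QF Q f) {M : Subgroup (Matrix.GeneralLinearGroup (Fin n) F)}
    {W : Submodule F (Fin n → F)} {u : Fin n → F}
    {h : Matrix.GeneralLinearGroup (Fin n) F} (hhM : h ∈ M)
    (hhQ : ∀ x, Q ((h : Matrix (Fin n) (Fin n) F) *ᵥ x) = Q x)
    (hhu : (h : Matrix (Fin n) (Fin n) F) *ᵥ u = u)
    (hhW : ∀ x ∈ W, (h : Matrix (Fin n) (Fin n) F) *ᵥ x ∈ W)
    {w : Fin n → F} (h1 : ZZ Q f M W u w) :
    ZZ Q f M W u ((h : Matrix (Fin n) (Fin n) F) *ᵥ w) := by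
  obtain ⟨hw, r, hrM, hr⟩ := h1
  have h2 := isRho_conj hq hhQ hr
  rw [hhu] at h2
  exact ⟨hhW w hw, h * r * h⁻¹, M.mul_mem (M.mul_mem hhM hrM) (M.inv_mem hhM), h2⟩

theorem nd_D1 (hq : QF Q f) (vf : VFacts Q f)
    {G : Subgroup (Matrix.GeneralLinearGroup (Fin n) F)} (hG : SgGroupQ Q f G)
    {W O : Submodule F (Fin n → F)} (sp : Split f W O)
    (M : Subgroup (Matrix.GeneralLinearGroup (Fin n) F))
    (hHM : Cfsg.Geo.subspaceStabilizer W ⊓ G ≤ M)
    {u : Fin n → F} (huO : u ∈ O) (hu : Q u = 0)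
    {z s v₁ v₂ : Fin n → F} (hz : ZZ Q f M W u z) (hsW : s ∈ W) (hss : Q s = 0) (hs0 : s ≠ 0)
    (hsz : f s z ≠ 0) (hv₁W : v₁ ∈ W) (hv₂W : v₂ ∈ W) (hv₁s : f v₁ s = 0) (hv₂s : f v₂ s = 0)
    (hv₁₂ : f v₁ v₂ ≠ 0) :
    (∀ c : F, ZZ Q f M W u (c • s)) ∧ (∀ v ∈ W, f v s = 0 → ZZ Q f M W u v) := by
  have hf := hq.sym
  obtain ⟨κ, hκ⟩ : ∃ κ, κ = f s z := ⟨_, rfl⟩
  have hκ0 : κ ≠ 0 := by
    rw [hκ]
    exact hsz
  have hD : ∀ v ∈ W, f v s = 0 → ZZ Q f M W u (κ • v - (f v z + Q v * κ) • s) := by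
    intro v hvW hvs
    obtain ⟨h, hhG, hh⟩ := isRho_ex hq vf hG s v hss hs0 hvs
    have hhW : ∀ x ∈ W, (h : Matrix (Fin n) (Fin n) F) *ᵥ x ∈ W := by
      intro x hx
      rw [hh x]
      exact W.sub_mem (W.sub_mem (W.add_mem hx (W.smul_mem _ hvW)) (W.smul_mem _ hsW))
        (W.smul_mem _ hsW)
    have hhM : h ∈ M := hHM ⟨Cfsg.Agent.Lib.Helper28.UMax.stab_of_maps W h hhW, hhG⟩
    have hhu : (h : Matrix (Fin n) (Fin n) F) *ᵥ u = u :=
      isRho_fix hh (sp.orth s hsW u huO) (sp.orth v hvW u huO)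
    have h1 := ZZ_act hq hhM (hG.iso h hhG) hhu hhW hz
    have h2 := ZZ_sub hq sp huO hu h1 hz
    rw [hh z, ← hκ] at h2
    have e : z + κ • v - f v z • s - (Q v * κ) • s - z = κ • v - (f v z + Q v * κ) • s := by
      module
    rw [e] at h2
    exact h2
  have hcs : ∀ c : F, ZZ Q f M W u (c • s) := by
    intro c'
    obtain ⟨c, hc⟩ : ∃ c, c = c' / (κ * f v₁ v₂) := ⟨_, rfl⟩
    have h1 := hD (c • v₁) (W.smul_mem c hv₁W) (by rw [hf.smul_left, hv₁s, mul_zero])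
    have h2 := hD v₂ hv₂W hv₂s
    have h3 := hD (c • v₁ + v₂) (W.add_mem (W.smul_mem c hv₁W) hv₂W)
      (by rw [hf.add_left, hf.smul_left, hv₁s, hv₂s]; ring)
    have h4 := ZZ_sub hq sp huO hu (ZZ_add hq sp huO hu h1 h2) h3
    have e : κ • (c • v₁) - (f (c • v₁) z + Q (c • v₁) * κ) • s +
        (κ • v₂ - (f v₂ z + Q v₂ * κ) • s) -
        (κ • (c • v₁ + v₂) - (f (c • v₁ + v₂) z + Q (c • v₁ + v₂) * κ) • s) = c' • s := by
      rw [hq.polar, hf.add_left, hf.smul_left, hf.smul_left]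
      have e2 : c' = c * κ * f v₁ v₂ := by
        rw [hc]
        field_simp
      rw [e2]
      module
    rw [e] at h4
    exact h4
  refine ⟨hcs, fun v hvW hvs => ?_⟩
  have h1 := hD (κ⁻¹ • v) (W.smul_mem _ hvW) (by rw [hf.smul_left, hvs, mul_zero])
  have h2 := ZZ_add hq sp huO hu h1 (hcs (f (κ⁻¹ • v) z + Q (κ⁻¹ • v) * κ))
  have e : κ • κ⁻¹ • v - (f (κ⁻¹ • v) z + Q (κ⁻¹ • v) * κ) • s +
      (f (κ⁻¹ • v) z + Q (κ⁻¹ • v) * κ) • s = v := by
    rw [smul_smul, mul_inv_cancel₀ hκ0, one_smul]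
    abel
  rw [e] at h2
  exact h2

theorem nd_step3 [Fintype F] (hq : QF Q f) (vf : VFacts Q f)
    {G : Subgroup (Matrix.GeneralLinearGroup (Fin n) F)} (hG : SgGroupQ Q f G)
    {W O : Submodule F (Fin n → F)} (sp : Split f W O) (h3 : Module.finrank F O + 3 ≤ n)
    (M : Subgroup (Matrix.GeneralLinearGroup (Fin n) F))
    (hHM : Cfsg.Geo.subspaceStabilizer W ⊓ G ≤ M)
    {u : Fin n → F} (huO : u ∈ O) (hu : Q u = 0)
    {z : Fin n → F} (hz0 : z ≠ 0) (hz : ZZ Q f M W u z) :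
    ∀ w ∈ W, ZZ Q f M W u w := by
  have hf := hq.sym
  have sps := sp.symm hf
  have hzW := hz.1
  obtain ⟨X, hX⟩ : ∃ X : Submodule F (Fin n → F),
      X = LinearMap.ker (perpMap hf (fun _ : Fin 1 => z)) := ⟨_, rfl⟩
  have hXmem : ∀ x, x ∈ X ↔ f x z = 0 := by
    intro x
    rw [hX, mem_ker_perpMap]
    exact ⟨fun h => h 0, fun h _ => h⟩
  have hWX : ¬ W ≤ X := by
    intro hle
    apply hz0
    apply sp.inf hf hzW
    apply sp.mem_O hf
    intro w hw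
    exact (hXmem w).1 (hle hw)
  obtain ⟨s, hsW, hss, hsX⟩ := split_span hq sps h3 X hWX
  have hsz : f s z ≠ 0 := fun h => hsX ((hXmem s).2 h)
  have hs0 : s ≠ 0 := by
    rintro rfl
    exact hsz (f_zero_left hf z)
  obtain ⟨s', hs'W, hs's', hs's⟩ := split_partner hq sps hsW hs0 hss
  have hss' : f s s' ≠ 0 := by
    rw [s_symm hf, hs's]
    exact one_ne_zero
  have hs'0 : s' ≠ 0 := by
    rintro rfl
    exact hss' (f_zero_right hf s)
  obtain ⟨v₁, hv₁W, hv₁s, hv₁s', -, v₂, hv₂W, hv₂s, hv₂s', hv₁₂⟩ :=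
    split_nonsing hq sps h3 hsW hs'W hss hs's' hss'
  obtain ⟨hA1, hA2⟩ := nd_D1 hq vf hG sp M hHM huO hu hz hsW hss hs0 hsz hv₁W hv₂W hv₁s hv₂s hv₁₂
  have hZs : ZZ Q f M W u s := by
    have := hA1 1
    rw [one_smul] at this
    exact this
  obtain ⟨hB1, -⟩ := nd_D1 hq vf hG sp M hHM huO hu hZs hs'W hs's' hs'0
    (by rw [hs's]; exact one_ne_zero) hv₁W hv₂W hv₁s' hv₂s' hv₁₂
  intro x hxW
  have h1 := hA2 (x - f x s • s') (W.sub_mem hxW (W.smul_mem _ hs'W))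
    (by rw [f_sub_left hf, hf.smul_left, hs's]; ring)
  have h2 := ZZ_add hq sp huO hu h1 (hB1 (f x s))
  rw [sub_add_cancel] at h2
  exact h2

theorem nd_fin (hq : QF Q f) (vf : VFacts Q f)
    {G : Subgroup (Matrix.GeneralLinearGroup (Fin n) F)} (hG : SgGroupQ Q f G)
    {W O : Submodule F (Fin n → F)} (sp : Split f W O) (h3 : Module.finrank F W + 3 ≤ n)
    (M : Subgroup (Matrix.GeneralLinearGroup (Fin n) F))
    (hHM : Cfsg.Geo.subspaceStabilizer W ⊓ G ≤ M) (hMG : M ≤ G)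
    {u : Fin n → F} (huO : u ∈ O) (hu : Q u = 0) (hu0 : u ≠ 0)
    (hall : ∀ w ∈ W, ZZ Q f M W u w) : G ≤ M := by
  have hf := hq.sym
  have hRO : RhoIn Q f M O := rhoIn_mono (rhoIn_H hq vf hG sp) hHM
  have huX : u ∈ XSQ Q f M := by
    refine ⟨hu, fun v c t hv huv ht => ?_⟩
    have ht' := isRho_of_sg hq hv ht
    obtain ⟨w, hw, o, ho, hwo⟩ := sp.dec (c • v)
    have hwu : f w u = 0 := sp.orth w hw u huO
    have hou : f o u = 0 := by
      have e : o = c • v - w := by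
        rw [← hwo]
        abel
      rw [e, f_sub_left hf, hf.smul_left, s_symm hf v u, huv, hwu]
      ring
    obtain ⟨-, r₁, hr₁M, hr₁⟩ := hall w hw
    obtain ⟨r₂, hr₂G, hr₂⟩ := isRho_ex hq vf hG u o hu hu0 hou
    have hr₂M : r₂ ∈ M := hRO r₂ u o huO ho hu hu0 hou hr₂
    have h1 := isRho_mul hq hu hwu hou hr₁ hr₂
    rw [hwo] at h1
    rw [isRho_unique ht' h1]
    exact M.mul_mem hr₁M hr₂M
  obtain ⟨s, hsO, hss, hsu⟩ := split_partner hq sp huO hu0 hu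
  have hsu0 : f s u ≠ 0 := by
    rw [hsu]
    exact one_ne_zero
  have hs0 : s ≠ 0 := by
    rintro rfl
    exact hsu0 (f_zero_left hf u)
  obtain ⟨y, hyO, hys, hyu, hyy, -⟩ := split_nonsing hq sp h3 hsO huO hss hu hsu0
  obtain ⟨h, hhG, hh⟩ := isRho_ex hq vf hG s y hss hs0 hys
  have hhM : h ∈ M := hRO h s y hsO hyO hss hs0 hys hh
  have h1 := XSQ_conj hq M hhM (hG.iso h hhG) huX
  apply XSQ_two hq vf hG M hMG huX h1
  rw [hh u, hsu, hyu]
  simp only [f_sub_right hf, f_add_right hf, s_smul_right hf, f_sing hq hu, s_symm hf u s, hsu,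
    s_symm hf u y, hyu]
  intro h0
  apply hyy
  linear_combination -h0

theorem nd_max_of [Fintype F] (hq : QF Q f) (vf : VFacts Q f) (hn : 13 ≤ n)
    {G : Subgroup (Matrix.GeneralLinearGroup (Fin n) F)} (hG : SgGroupQ Q f G)
    {W O : Submodule F (Fin n → F)} (sp : Split f W O) (hW0 : W ≠ ⊥)
    (he : Module.finrank F W + 7 ≤ n)
    (hns : ∀ g ∈ G, ¬ (O.map (Matrix.toLin' (g : Matrix (Fin n) (Fin n) F)) ≤ W))
    (hstep : ∀ M : Subgroup (Matrix.GeneralLinearGroup (Fin n) F),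
      Cfsg.Geo.subspaceStabilizer W ⊓ G ≤ M → M ≤ G → ∀ u ∈ O, Q u = 0 → u ≠ 0 →
      ∀ z, z ≠ 0 → ZZ Q f M W u z → ∀ w ∈ W, ZZ Q f M W u w) :
    Cfsg.Geo.IsMaximalIn G (Cfsg.Geo.subspaceStabilizer W ⊓ G) := by
  have hf := hq.sym
  refine ⟨nd_strict hq (by omega) hG sp hW0 (by omega), ?_⟩
  intro M hHM hMG
  by_cases hMH : M = Cfsg.Geo.subspaceStabilizer W ⊓ G
  · left
    exact hMH
  right
  apply le_antisymm hMG
  obtain ⟨k, hkM, hkO⟩ := nd_move hq hG sp M hHM hMG hMH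
  have hkQ := hG.iso k (hMG hkM)
  have sp' := sp.map hq k hkQ
  have hRO : RhoIn Q f M O := rhoIn_mono (rhoIn_H hq vf hG sp) hHM
  have hRO' := rhoIn_map hq hRO hkM hkQ
  obtain ⟨u, huO, hu, hu0, z, hzW, hz0, r, hrM, hr⟩ := nd_step2 hq vf hG sp sp' he
    (by rw [Cfsg.Agent.Lib.Helper28.OPair.finrank_map_gl]; exact he) M hRO hRO' hkO
    (hns k (hMG hkM))
  have hall := hstep M hHM hMG u huO hu hu0 z hz0 ⟨hzW, r, hrM, hr⟩
  exact nd_fin hq vf hG sp (by omega) M hHM hMG huO hu hu0 hall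

theorem nd_max3 [Fintype F] (hq : QF Q f) (vf : VFacts Q f) (hn : 13 ≤ n)
    {G : Subgroup (Matrix.GeneralLinearGroup (Fin n) F)} (hG : SgGroupQ Q f G)
    {W O : Submodule F (Fin n → F)} (sp : Split f W O) (hd : 3 ≤ Module.finrank F W)
    (he : Module.finrank F W + 7 ≤ n)
    (hns : ∀ g ∈ G, ¬ (O.map (Matrix.toLin' (g : Matrix (Fin n) (Fin n) F)) ≤ W)) :
    Cfsg.Geo.IsMaximalIn G (Cfsg.Geo.subspaceStabilizer W ⊓ G) := by
  have hf := hq.sym
  have hW0 : W ≠ ⊥ := by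
    rintro rfl
    rw [finrank_bot] at hd
    omega
  have hfr := sp.finrank hf
  apply nd_max_of hq vf hn hG sp hW0 he hns
  intro M hHM _ u huO hu _ z hz0 hz
  exact nd_step3 hq vf hG sp (by omega) M hHM huO hu hz0 hz

end Cfsg.Agent.Lib.Helper28.ONd
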