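import Cfsg.Agent.Lib.Helper28.ONdW
import Cfsg.Agent.Lib.helper6.Disc2

set_option autoImplicit false

open Cfsg

namespace Cfsg.Agent.Lib.Helper28.ONdS

open Matrix Cfsg.Agent.Lib.helper6.Disc
  Cfsg.Agent.Lib.Helper28.HForm Cfsg.Agent.Lib.Helper28.OGen
  Cfsg.Agent.Lib.Helper28.OMax Cfsg.Agent.Lib.Helper28.OQ
  Cfsg.Agent.Lib.Helper28.OMax2 Cfsg.Agent.Lib.Helper28.OGenQ Cfsg.Agent.Lib.Helper28.OEven
  Cfsg.Agent.Lib.Helper28.OBundle Cfsg.Agent.Lib.Helper28.ONd Cfsg.Agent.Lib.Helper28.ONdW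
  Cfsg.Agent.Lib.Helper28.DecGen

variable {n : ℕ} {F : Type*} [Field F]

theorem no_swap [Fintype F] (hn : 13 ≤ n) (Q : (Fin n → F) → F)
    (hQ : Cfsg.Geo.IsNondegenerateQuadraticForm Q) (hminus : ¬ Cfsg.Geo.IsPlusTypeOn Q ⊤)
    (W : Submodule F (Fin n → F)) (hW : Cfsg.Geo.IsNondegenerateOn (QuadraticMap.polar Q) W)
    (hk : 2 * Module.finrank F W = n) (hev : Even (Module.finrank F W))
    (g : Matrix.GeneralLinearGroup (Fin n) F)
    (hg : ∀ x, Q ((g : Matrix (Fin n) (Fin n) F) *ᵥ x) = Q x) :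
    ¬ (∀ x, (∀ w ∈ W, QuadraticMap.polar Q w x = 0) →
      (g : Matrix (Fin n) (Fin n) F) *ᵥ x ∈ W) := by
  intro hmap
  apply hminus
  have hq := qf_unb Q hQ
  have hf := hq.sym
  have hgi := iso_f hq g hg
  have sp := split_perp hf W hW
  have hfr := sp.finrank hf
  obtain ⟨O, hO⟩ : ∃ O, O = perpSub (QuadraticMap.polar Q) hf W := ⟨_, rfl⟩
  rw [← hO] at sp hfr
  have hmap' : ∀ x ∈ O, (g : Matrix (Fin n) (Fin n) F) *ᵥ x ∈ W := by
    intro x hx
    rw [hO] at hx
    exact hmap x hx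
  have htop : Module.finrank F (⊤ : Submodule F (Fin n → F)) = n := by
    rw [finrank_top, Module.finrank_fin_fun]
  by_cases h2 : (2 : F) = 0
  · obtain ⟨φ, hφ⟩ : ∃ φ : O →ₗ[F] (Fin n → F),
        φ = (LinearMap.id + Matrix.toLin' (g : Matrix (Fin n) (Fin n) F)) ∘ₗ O.subtype := ⟨_, rfl⟩
    have hφv : ∀ o : O, φ o = (o : Fin n → F) + (g : Matrix (Fin n) (Fin n) F) *ᵥ (o : Fin n → F) := by
      intro o
      rw [hφ]
      simp [Matrix.toLin'_apply]
    have hinj : Function.Injective φ := by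
      rw [injective_iff_map_eq_zero]
      intro o ho
      rw [hφv] at ho
      have h1 : (o : Fin n → F) = -((g : Matrix (Fin n) (Fin n) F) *ᵥ (o : Fin n → F)) :=
        eq_neg_of_add_eq_zero_left ho
      have h3 : (o : Fin n → F) ∈ W := by
        rw [h1]
        exact W.neg_mem (hmap' _ o.2)
      exact Subtype.ext (sp.inf hf h3 o.2)
    refine ⟨LinearMap.range φ, le_top, ?_, ?_⟩
    · rintro _ ⟨o, rfl⟩
      rw [hφv, hq.polar, hg, s_symm hf, sp.orth _ (hmap' _ o.2) _ o.2, add_zero, ← two_mul, h2,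
        zero_mul]
    · rw [LinearMap.finrank_range_of_inj hinj, htop]
      omega
  · obtain ⟨k, hkdef⟩ : ∃ k, k = Module.finrank F W := ⟨_, rfl⟩
    rw [← hkdef] at hk hev hfr
    have hOk : Module.finrank F O = k := by omega
    obtain ⟨c, hc⟩ : ∃ c : Module.Basis (Fin k) F O, c = Module.finBasisOfFinrankEq F O hOk :=
      ⟨_, rfl⟩
    have hk1 : 0 < k := by omega
    have : Nonempty (Fin k ⊕ Fin k) := ⟨Sum.inl ⟨0, hk1⟩⟩
    obtain ⟨v₁, hv₁⟩ : ∃ v₁ : Fin k → (Fin n → F), v₁ = fun i => ((c i : O) : Fin n → F) :=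
      ⟨_, rfl⟩
    obtain ⟨v₂, hv₂⟩ : ∃ v₂ : Fin k → (Fin n → F),
        v₂ = fun i => (g : Matrix (Fin n) (Fin n) F) *ᵥ ((c i : O) : Fin n → F) := ⟨_, rfl⟩
    have hli₁ : LinearIndependent F v₁ := by
      rw [hv₁]
      exact c.linearIndependent.map' O.subtype O.ker_subtype
    have hli₂ : LinearIndependent F v₂ := by
      have h5 := hli₁.map' (Matrix.toLin' (g : Matrix (Fin n) (Fin n) F))
        (LinearMap.ker_eq_bot.2 (gl_inj g))
      have e : v₂ = (Matrix.toLin' (g : Matrix (Fin n) (Fin n) F)) ∘ v₁ := by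
        rw [hv₁, hv₂]
        funext i
        simp [Matrix.toLin'_apply]
      rw [e]
      exact h5
    have hs₁ : Submodule.span F (Set.range v₁) ≤ O := by
      rw [Submodule.span_le, hv₁]
      rintro _ ⟨i, rfl⟩
      exact (c i).2
    have hs₂ : Submodule.span F (Set.range v₂) ≤ W := by
      rw [Submodule.span_le, hv₂]
      rintro _ ⟨i, rfl⟩
      exact hmap' _ (c i).2
    have hdisj : Disjoint (Submodule.span F (Set.range v₁)) (Submodule.span F (Set.range v₂)) := by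
      rw [Submodule.disjoint_def]
      intro x hx₁ hx₂
      exact sp.inf hf (hs₂ hx₂) (hs₁ hx₁)
    have hli := hli₁.sum_type hli₂ hdisj
    obtain ⟨b, hb⟩ : ∃ b : Module.Basis (Fin k ⊕ Fin k) F (Fin n → F), ⇑b = Sum.elim v₁ v₂ :=
      ⟨basisOfLinearIndependentOfCardEqFinrank hli (by
        rw [Fintype.card_sum, Fintype.card_fin, Module.finrank_fin_fun]
        omega), coe_basisOfLinearIndependentOfCardEqFinrank _ _⟩
    obtain ⟨B, hB⟩ : ∃ B : LinearMap.BilinForm F (Fin n → F),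
        B = QuadraticMap.polarBilin (bundle Q hQ) := ⟨_, rfl⟩
    have hBv : ∀ x y, B x y = QuadraticMap.polar Q x y := by
      intro x y
      rw [hB]
      rfl
    have hS : B.IsSymm := by
      rw [LinearMap.BilinForm.isSymm_def]
      intro x y
      rw [hBv, hBv, s_symm hf]
    have hBnd : B.Nondegenerate := by
      rw [hB]
      exact bundle_nondeg Q hQ
    obtain ⟨A, hA⟩ : ∃ A : Matrix (Fin k) (Fin k) F,
        A = Matrix.of (fun i j => QuadraticMap.polar Q (v₁ i) (v₁ j)) := ⟨_, rfl⟩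
    have hM : LinearMap.BilinForm.toMatrix b B = Matrix.fromBlocks A 0 0 A := by
      ext i j
      rw [LinearMap.BilinForm.toMatrix_apply, hb, hBv]
      rcases i with i | i <;> rcases j with j | j
      · simp [hA]
      · simp only [Sum.elim_inl, Sum.elim_inr, Matrix.fromBlocks_apply₁₂, Matrix.zero_apply]
        rw [s_symm hf]
        exact sp.orth _ (hs₂ (Submodule.subset_span ⟨j, rfl⟩)) _
          (hs₁ (Submodule.subset_span ⟨i, rfl⟩))
      · simp only [Sum.elim_inl, Sum.elim_inr, Matrix.fromBlocks_apply₂₁, Matrix.zero_apply]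
        exact sp.orth _ (hs₂ (Submodule.subset_span ⟨i, rfl⟩)) _
          (hs₁ (Submodule.subset_span ⟨j, rfl⟩))
      · simp only [Sum.elim_inr, Matrix.fromBlocks_apply₂₂, hA, Matrix.of_apply]
        rw [hv₂, hv₁]
        exact hgi _ _
    have hsq : IsSquare ((-1 : F) ^ k * gdet b B) := by
      refine ⟨A.det, ?_⟩
      unfold gdet
      rw [hM, Matrix.det_fromBlocks_zero₂₁, Even.neg_one_pow hev, one_mul]
    obtain ⟨X, hXk, hXti⟩ := exists_ti_of_isSquare h2 B hS hBnd k (by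
      rw [Module.finrank_fin_fun]
      omega) b hsq
    refine ⟨X, le_top, ?_, ?_⟩
    · intro x hx
      have h5 := hXti x hx x hx
      rw [hBv, f_self hq] at h5
      rcases mul_eq_zero.1 h5 with h6 | h6
      · exact absurd h6 h2
      · exact h6
    · rw [hXk, htop]
      omega

end Cfsg.Agent.Lib.Helper28.ONdS
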