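import Mathlib
import Cfsg.Agent.Lib.Helper18.OPE.Defs
import Cfsg.Agent.Lib.Helper25.SQMD1
import Cfsg.Agent.Lib.Helper25.SQMD3
import Cfsg.Agent.Lib.helper14.ODNSQc
import Cfsg.Agent.Lib.Helper16.PlusFam

set_option autoImplicit false
set_option linter.unusedVariables false
set_option linter.unusedSectionVars false

/-!
# Project OPE, rows SQNEGEX (`sq_neg_ex`), SQNEG8 (`sq_neg_8`), SQNEGNOT (`sq_neg_not`) (helper28), verbatim from `Helper18/OPE/Skel2.lean.txt`.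
All three run on helper14's `odnsq_omegaGL` (`x ∈ Ω ⇔ IsSquare (2 ^ d)` for an isometry with `x² = -1`) and helper25's SQM existence rows.
-/

namespace Cfsg.Agent.Lib.Helper18.OPE

open Polynomial Module Cfsg.Agent.Lib.Helper13.S5955 Cfsg.Agent.Lib.helper15.S5972
open scoped Matrix

/-- SQNEGEX [M]: `d` even, `q` odd: `Ω⁺_{2d}(q)` contains `x` with `x² = -1`: OMEGAMAT, SL2EMB `φ`, JCOMM: `x = φ J = [φ a, φ b]` is a commutator of isometries (`commutator_mem_commutator` …),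
`x² = φ (J²) = φ (-1) = -1` (the block formula). -/
theorem sq_neg_ex {F : Type*} [Field F] [Fintype F] (h2 : (2 : F) ≠ 0) (d : ℕ) (hd : Even d) :
    ∃ x : GL (Fin d ⊕ Fin d) F, x ∈ Cfsg.Geo.omegaGL (Cfsg.quadFormPlus d F) ∧
      (x : Matrix (Fin d ⊕ Fin d) (Fin d ⊕ Fin d) F) * (x : Matrix (Fin d ⊕ Fin d) (Fin d ⊕ Fin d) F) = -1 := by
  obtain ⟨k, hk⟩ := hd
  have hd' : d = 2 * k := by omega
  subst hd'
  obtain ⟨x, hx, hxx⟩ := Cfsg.Agent.Lib.helper15.SQM.sqm_ex_plus3 (F := F) k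
  refine ⟨x, ?_, hxx⟩
  refine (Cfsg.Agent.Lib.helper14.ODNSQ.odnsq_omegaGL h2 (Cfsg.Agent.Lib.Helper16.qfPlus (2 * k) F)
    (Cfsg.Agent.Lib.Helper16.qfPlus_nondeg _ _) x hx hxx (2 * k) (by simp [two_mul])).2 ?_
  exact ⟨(2 : F) ^ k, by ring⟩

/-- `2 ≠ 0` in a finite field of odd order -/
theorem opesqneg_two_ne {F : Type*} [Field F] [Fintype F] (hq : Fintype.card F % 2 = 1) : (2 : F) ≠ 0 := by
  apply Ring.two_ne_zero
  intro h
  rw [FiniteField.even_card_iff_char_two] at h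
  omega

/-- SQNEG8 [M]: `q ≡ 1 (mod 8)`, `d ≥ 3`: `κ` of order 8 (`F^×` cyclic of order `q - 1`), `κ⁴ = -1`; `x = levi (κ² • 1) = (levi (κ • 1))²` is in `Ω`
(`Cfsg.Agent.Lib.Helper16.OB.sq_mem_omega_all` with `qfPlus d F`, `qfPlus_nondeg`; see Helper9/OPHOMEGA.lean for the bookkeeping), `x² = levi (κ⁴ • 1) = diag(-1, -1)`. -/
theorem sq_neg_8 {F : Type*} [Field F] [Fintype F] (hq : Fintype.card F % 8 = 1) (d : ℕ) (hd : 3 ≤ d) :
    ∃ x : GL (Fin d ⊕ Fin d) F, x ∈ Cfsg.Geo.omegaGL (Cfsg.quadFormPlus d F) ∧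
      (x : Matrix (Fin d ⊕ Fin d) (Fin d ⊕ Fin d) F) * (x : Matrix (Fin d ⊕ Fin d) (Fin d ⊕ Fin d) F) = -1 := by
  have h2 : (2 : F) ≠ 0 := opesqneg_two_ne (by omega)
  obtain ⟨i0, hi0⟩ : IsSquare (-1 : F) := FiniteField.isSquare_neg_one_iff.2 (by omega)
  obtain ⟨x, hx, hxx, _⟩ := Cfsg.Agent.Lib.helper15.SQM.sqm_ex_plus1 d i0 hi0.symm
  refine ⟨x, ?_, hxx⟩
  refine (Cfsg.Agent.Lib.helper14.ODNSQ.odnsq_omegaGL h2 (Cfsg.Agent.Lib.Helper16.qfPlus d F)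
    (Cfsg.Agent.Lib.Helper16.qfPlus_nondeg _ _) x hx hxx d (by simp [two_mul])).2 ?_
  rw [Cfsg.Agent.Lib.helper14.ODNSQ.odnsq_two_pow h2]
  right
  exact FiniteField.isSquare_two_iff.2 ⟨by omega, by omega⟩

/-- SQNEGNOT [L]: `d` odd, `ι² = -1`, `ι` not a square (`q ≡ 5 (mod 8)`): no `x ∈ Ω⁺_{2d}(q)` has `x² = -1`.  DUALBASIS for `toLin' x` on `qfPlus d F`; on the plane `⟨e_j, f_j⟩`:
`diag(ι, -ι) = r_{e_j + ι f_j} ∘ r_{e_j - f_j}` (`r_w v = v - B(v,w)/Q(w) w`, `Cfsg.reflectionMatrix`; `Q (e - f) = -1`, `Q (e + ι f) = ι`), and these reflections fix the other basis vectors; so `x` is the product of `2d` reflections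
with `∏ Q = (-ι)^d = ±ι` (`d` odd), a non-square (`-1 = ι²`); helper16's `Cfsg.Agent.Lib.Helper16.master` (SpinE3.lean). -/
theorem sq_neg_not {F : Type*} [Field F] [Fintype F] (h2 : (2 : F) ≠ 0) (ι : F) (hι : ι * ι = -1)
    (hns : ∀ a : F, a * a ≠ ι) (d : ℕ) (hd : Odd d) (x : GL (Fin d ⊕ Fin d) F)
    (hx : x ∈ Cfsg.Geo.omegaGL (Cfsg.quadFormPlus d F))
    (hxx : (x : Matrix (Fin d ⊕ Fin d) (Fin d ⊕ Fin d) F) * (x : Matrix (Fin d ⊕ Fin d) (Fin d ⊕ Fin d) F) = -1) :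
    False := by
  have hxi : x ∈ Cfsg.isometryGroup F (Cfsg.quadFormPlus d F) := by
    unfold Cfsg.Geo.omegaGL at hx
    rw [Subgroup.mem_map] at hx
    obtain ⟨g, _, rfl⟩ := hx
    exact g.2
  have hsq := (Cfsg.Agent.Lib.helper14.ODNSQ.odnsq_omegaGL h2 (Cfsg.Agent.Lib.Helper16.qfPlus d F)
    (Cfsg.Agent.Lib.Helper16.qfPlus_nondeg _ _) x hxi hxx d (by simp [two_mul])).1 hx
  rw [Cfsg.Agent.Lib.helper14.ODNSQ.odnsq_two_pow h2] at hsq
  rcases hsq with he | ⟨a, ha⟩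
  · exact (Nat.not_even_iff_odd.2 hd) he
  · have ha0 : a ≠ 0 := by
      rintro rfl
      rw [mul_zero] at ha
      exact h2 ha
    apply hns ((1 + ι) / a)
    have h1 : (1 + ι) * (1 + ι) = 2 * ι := by linear_combination hι
    rw [div_mul_div_comm, h1, ← ha]
    field_simp

end Cfsg.Agent.Lib.Helper18.OPE
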