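import Mathlib
import Cfsg.Agent.Lib.Helper18.OPE.Defs
import Cfsg.Agent.Lib.Helper28.OPESQPLANEcore
import Cfsg.Agent.Lib.helper17.OPEQTYCLASScore
import Cfsg.Agent.Lib.Helper21.OTSTYCLASS

set_option autoImplicit false
set_option linter.unusedVariables false
set_option linter.unusedSectionVars false

/-!
# Project OPE, rows SQSPPLANE (`q_sq_split_plane`) + SQNSPLANE (`q_sq_nonsplit_plane`) (helper28), verbatim from `Helper18/OPE/Skel2.lean.txt`.
Cores in `Helper28/OPESQPLANEcore.lean`; the type of the plane from helper17's `opeqtyclass_core` on helper21's OTS `q_ty_class`.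
-/

namespace Cfsg.Agent.Lib.Helper18.OPE

open Polynomial Module Cfsg.Agent.Lib.Helper13.S5955 Cfsg.Agent.Lib.helper15.S5972
open scoped Matrix

/-- SQSPPLANE [M]: `x² = -1`, `-1 = ι²`: a nonzero invariant nondegenerate `N` contains an invariant hyperbolic plane.  (`w ≠ 0` in `N`; `w ∓ ι x w` are eigenvectors of `x`
(eigenvalues `±ι`), not both zero; let `e ∈ N` be a nonzero eigenvector, `x e = λ e`, `λ² = -1`; `Q e = Q (x e) = λ² Q e = - Q e`, so `Q e = 0`; `v ∈ N` with `B e v ≠ 0`;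
`f := v + λ⁻¹ x v = v - λ x v` satisfies `x f = -λ f`, `Q f = 0`, and `B e (v + λ x v) = B e v + λ B (x e) (x x v) / …`: eigenvectors for the SAME eigenvalue are orthogonal
(`B e e' = B (x e) (x e') = λ² B e e' = - B e e'`), so `B e f = 2 B e v ≠ 0`.  `P = ⟨e, f⟩`; `U = ⟨e⟩`; QTYIFF.) -/
theorem q_sq_split_plane {F : Type*} [Field F] [Fintype F] (h2 : (2 : F) ≠ 0)
    {V : Type*} [AddCommGroup V] [Module F V] [FiniteDimensional F V]
    {Q : QuadraticForm F V} {x : Module.End F V} (h : QCtx 4 Q x) (hxx : x * x = -1)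
    (ι : F) (hι : ι * ι = -1)
    (N : Submodule F V) (hN : SInv x N) (hNnd : SND (QuadraticMap.polarBilin Q) N) (hN0 : N ≠ ⊥) :
    ∃ P : Submodule F V, P ≤ N ∧ SInv x P ∧ SND (QuadraticMap.polarBilin Q) P ∧ finrank F P = 2 ∧
      QTy Q P 1 := by
  obtain ⟨P, hPN, hPinv, hPnd, hPdim, hPhyp⟩ := opesqspplane_core h2 h.pres hxx ι hι N hN hNnd hN0
  refine ⟨P, hPN, hPinv, hPnd, hPdim, ?_⟩
  have hcl := opeqtyclass_core Q P
    (Cfsg.Agent.Lib.Helper13.OTS.q_ty_class Q P hPnd (by rw [hPdim]; exact even_two))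
  rcases hcl with ⟨_, h1⟩ | ⟨h1, _⟩
  · exact h1
  · exact absurd hPhyp h1

/-- SQNSPLANE [M]: `x² = -1`, `-1` a non-square: a nonzero invariant nondegenerate `N` contains an invariant anisotropic plane.  (`w ∈ N` with `Q w ≠ 0` (else `B = 0` on `N`);
`B w (x w) = B (x w) (x x w) = - B (x w) w`, so `B w (x w) = 0`; `Q (a w + b x w) = (a² + b²) Q w ≠ 0` unless `a = b = 0`; `w, x w` independent (`x w = λ w` ⇒ `λ² = -1`);
`P = ⟨w, x w⟩` is anisotropic, hence nondegenerate (`B v v = 2 Q v`) and not `QHyp`; QTYIFF.) -/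
theorem q_sq_nonsplit_plane {F : Type*} [Field F] [Fintype F] (h2 : (2 : F) ≠ 0)
    {V : Type*} [AddCommGroup V] [Module F V] [FiniteDimensional F V]
    {Q : QuadraticForm F V} {x : Module.End F V} (h : QCtx 4 Q x) (hxx : x * x = -1)
    (hns : ∀ a : F, a * a ≠ -1)
    (N : Submodule F V) (hN : SInv x N) (hNnd : SND (QuadraticMap.polarBilin Q) N) (hN0 : N ≠ ⊥) :
    ∃ P : Submodule F V, P ≤ N ∧ SInv x P ∧ SND (QuadraticMap.polarBilin Q) P ∧ finrank F P = 2 ∧
      QTy Q P (-1) := by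
  obtain ⟨P, hPN, hPinv, hPnd, hPdim, hPhyp⟩ := opesqnsplane_core h2 h.pres hxx hns N hN hNnd hN0
  refine ⟨P, hPN, hPinv, hPnd, hPdim, ?_⟩
  have hcl := opeqtyclass_core Q P
    (Cfsg.Agent.Lib.Helper13.OTS.q_ty_class Q P hPnd (by rw [hPdim]; exact even_two))
  rcases hcl with ⟨h1, _⟩ | ⟨_, h1⟩
  · exact absurd h1 hPhyp
  · exact h1

end Cfsg.Agent.Lib.Helper18.OPE
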