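import Cfsg.Agent.Lib.Helper28.OGenQ

set_option autoImplicit false

open Cfsg

namespace Cfsg.Agent.Lib.Helper28.OPlane2

open Matrix Cfsg.Agent.Lib.Lead Cfsg.Agent.Lib.Helper28.HForm Cfsg.Agent.Lib.Helper28.OGen
  Cfsg.Agent.Lib.Helper28.OMax Cfsg.Agent.Lib.Helper28.OQ Cfsg.Agent.Lib.Helper28.OMax2
  Cfsg.Agent.Lib.Helper28.OChar2

theorem card2 {F : Type*} [Field F] [Fintype F] (hq : Fintype.card F = 2) (a : F) :
    a = 0 ∨ a = 1 := by
  have h1 : a ^ 2 = a := by
    rw [← hq]
    exact FiniteField.pow_card a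
  have h3 : a * (a - 1) = 0 := by linear_combination h1
  rcases mul_eq_zero.1 h3 with h | h
  · left
    exact h
  · right
    exact sub_eq_zero.1 h

theorem two_eq_zero2 {F : Type*} [Field F] [Fintype F] (hq : Fintype.card F = 2) :
    (2 : F) = 0 := by
  have h := Nat.cast_card_eq_zero F
  rw [hq] at h
  exact_mod_cast h

theorem plus_plane_abs2 {n : ℕ} {F : Type*} [Field F] [Fintype F] {Q : (Fin n → F) → F}
    {f : (Fin n → F) → (Fin n → F) → F} (hcard : Fintype.card F = 2) (hq : QF Q f) (hn : 6 ≤ n)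
    {G : Subgroup (Matrix.GeneralLinearGroup (Fin n) F)} (hG : SgGroupQ Q f G)
    (W : Submodule F (Fin n → F)) (e₁ f₁ : Fin n → F) (he : Q e₁ = 0) (hf₁ : Q f₁ = 0)
    (hef : f e₁ f₁ = 1) (hW : W = Submodule.span F {e₁, f₁}) :
    ∃ K : Subgroup (Matrix.GeneralLinearGroup (Fin n) F),
      Cfsg.Geo.subspaceStabilizer W ⊓ G < K ∧ K < G := by
  have hf := hq.sym
  have h2 := two_eq_zero2 hcard
  have hfe : f f₁ e₁ = 1 := by rw [s_symm hf, hef]
  have hee : f e₁ e₁ = 0 := f_sing hq he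
  have hff : f f₁ f₁ = 0 := f_sing hq hf₁
  obtain ⟨p, hp⟩ : ∃ p, p = e₁ + f₁ := ⟨_, rfl⟩
  have he₁W : e₁ ∈ W := by
    rw [hW]
    exact Submodule.subset_span (by simp)
  have hf₁W : f₁ ∈ W := by
    rw [hW]
    exact Submodule.subset_span (by simp)
  have hpW : p ∈ W := by
    rw [hp]
    exact W.add_mem he₁W hf₁W
  have hQp : Q p = 1 := by
    rw [hp, hq.polar, he, hf₁, hef]
    ring
  have hpp : f p p = 0 := c2_f_self hq h2 p
  have hpe : f p e₁ = 1 := by rw [hp, hf.add_left, hee, hfe, zero_add]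
  have hep : f e₁ p = 1 := by rw [s_symm hf, hpe]
  have hnd2 := c2_nd_pair hq h2 e0 nd_e0 e₁ f₁ (perp_e0 e₁) (perp_e0 f₁) (by
    rw [hfe]
    exact one_ne_zero)
  obtain ⟨v, hva, hvv, hv0⟩ := c2_ex_sing hq h2 _ hnd2 (by omega)
  obtain ⟨v', hv'v', hv'v, hv'a⟩ := c2_partner hq _ hnd2 v hv0 hva hvv
  have hnd4 := c2_nd_pair hq h2 _ hnd2 v v' hva hv'a (by
    rw [hv'v]
    exact one_ne_zero)
  rw [perp_cons, perp_cons] at hva hv'a
  obtain ⟨hve, hvf, _⟩ := hva
  have hvp : f v p = 0 := by rw [hp, f_add_right hf, hve, hvf, add_zero]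
  have hvW : v ∉ W := by
    intro h
    rw [hW] at h
    obtain ⟨a, b, hab⟩ := Submodule.mem_span_pair.1 h
    have h1 := hve
    have h3 := hvf
    rw [← hab, hf.add_left, hf.smul_left, hf.smul_left, hee, hfe] at h1
    rw [← hab, hf.add_left, hf.smul_left, hf.smul_left, hff, hef] at h3
    have hb : b = 0 := by linear_combination h1
    have ha : a = 0 := by linear_combination h3
    rw [ha, hb, zero_smul, zero_smul, add_zero] at hab
    exact hv0 hab.symm
  refine ⟨Cfsg.Geo.subspaceStabilizer (Submodule.span F {p}) ⊓ G, ?_, ?_⟩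
  · rw [SetLike.lt_iff_le_and_exists]
    constructor
    · rintro g ⟨hgS, hgG⟩
      refine ⟨?_, hgG⟩
      apply Cfsg.Agent.Lib.Helper28.UMax.stab_of_maps
      intro x hx
      obtain ⟨c, rfl⟩ := Submodule.mem_span_singleton.1 hx
      rw [Matrix.mulVec_smul]
      apply Submodule.smul_mem
      have h1 := ((Cfsg.Agent.Lib.Helper28.UMax.mem_stab_iff W g).1 hgS p).1 hpW
      rw [hW] at h1
      obtain ⟨a, b, hab⟩ := Submodule.mem_span_pair.1 h1
      have h3 := hG.iso g hgG p
      rw [← hab, hQp, hq.polar, hq.smul, hq.smul, he, hf₁, hf.smul_left, s_smul_right hf, hef] at h3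
      have h4 : a * b = 1 := by linear_combination h3
      rw [← hab, Submodule.mem_span_singleton]
      rcases card2 hcard a with ha | ha
      · rw [ha, zero_mul] at h4
        exact absurd h4 zero_ne_one
      · rw [ha, one_mul] at h4
        refine ⟨1, ?_⟩
        rw [ha, h4, hp, one_smul, one_smul, one_smul]
    · obtain ⟨t, htv, htv', hte, htf, htt⟩ : ∃ t, f t v = 0 ∧ f t v' = 0 ∧ f t e₁ = 0 ∧
          f t f₁ = 0 ∧ Q t = 1 := by
        obtain ⟨t, hta, htt⟩ := c2_rep hq h2 _ hnd4 (by omega) 1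
        rw [perp_cons, perp_cons, perp_cons, perp_cons] at hta
        exact ⟨t, hta.1, hta.2.1, hta.2.2.1, hta.2.2.2.1, htt⟩
      have htp : f t p = 0 := by rw [hp, f_add_right hf, hte, htf, add_zero]
      obtain ⟨u, hu⟩ : ∃ u, u = p + t := ⟨_, rfl⟩
      have hQu : Q u = 0 := by
        rw [hu, hq.polar, hQp, htt, s_symm hf, htp]
        linear_combination h2
      have hup : f u p = 0 := by rw [hu, hf.add_left, hpp, htp, add_zero]
      have huv : f u v = 0 := by rw [hu, hf.add_left, s_symm hf p v, hvp, htv, add_zero]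
      have hue : f u e₁ = 1 := by rw [hu, hf.add_left, hpe, hte, add_zero]
      obtain ⟨T, hT⟩ := hG.ex u v 1 hQu hvv huv
      have hTG : T ∈ G := hG.sg T u v 1 hQu hvv huv hT
      refine ⟨T, ⟨?_, hTG⟩, ?_⟩
      · apply Cfsg.Agent.Lib.Helper28.UMax.stab_of_maps
        intro x hx
        obtain ⟨c, rfl⟩ := Submodule.mem_span_singleton.1 hx
        rw [Matrix.mulVec_smul]
        apply Submodule.smul_mem
        rw [hT p]
        unfold Tv
        rw [hup, hvp, zero_smul, zero_smul, sub_zero, smul_zero, add_zero]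
        exact Submodule.mem_span_singleton_self p
      · rintro ⟨hTS, _⟩
        have h1 := ((Cfsg.Agent.Lib.Helper28.UMax.mem_stab_iff W T).1 hTS e₁).1 he₁W
        rw [hT e₁] at h1
        unfold Tv at h1
        rw [hue, hve, zero_smul, sub_zero, one_smul, one_smul] at h1
        have h3 := W.sub_mem h1 he₁W
        rw [add_sub_cancel_left] at h3
        exact hvW h3
  · rw [SetLike.lt_iff_le_and_exists]
    refine ⟨inf_le_right, ?_⟩
    have hev : f e₁ v = 0 := by rw [s_symm hf, hve]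
    obtain ⟨T, hT⟩ := hG.ex e₁ v 1 he hvv hev
    have hTG : T ∈ G := hG.sg T e₁ v 1 he hvv hev hT
    refine ⟨T, hTG, ?_⟩
    rintro ⟨hTS, _⟩
    have h1 := ((Cfsg.Agent.Lib.Helper28.UMax.mem_stab_iff _ T).1 hTS p).1
      (Submodule.mem_span_singleton_self p)
    rw [hT p] at h1
    unfold Tv at h1
    rw [hep, hvp, zero_smul, sub_zero, one_smul, one_smul] at h1
    have h3 := (Submodule.span F {p}).sub_mem h1 (Submodule.mem_span_singleton_self p)
    rw [add_sub_cancel_left] at h3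
    obtain ⟨a, ha⟩ := Submodule.mem_span_singleton.1 h3
    have h4 := hve
    rw [← ha, hf.smul_left, hpe, mul_one] at h4
    rw [h4, zero_smul] at ha
    exact hv0 ha.symm

end Cfsg.Agent.Lib.Helper28.OPlane2
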