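import Cfsg.Agent.Lib.Helper28.OIwa

set_option autoImplicit false

open Cfsg

namespace Cfsg.Agent.Lib.Helper28.OQ

open Matrix Cfsg.Agent.Lib.Helper28.HForm Cfsg.Agent.Lib.Helper28.OGen
  Cfsg.Agent.Lib.Helper28.OMax

variable {n : ℕ} {F : Type*} [Field F] {Q : (Fin n → F) → F}
  {f : (Fin n → F) → (Fin n → F) → F}

structure QF (Q : (Fin n → F) → F) (f : (Fin n → F) → (Fin n → F) → F) : Prop where
  sym : SymF f
  polar : ∀ x y, Q (x + y) = Q x + Q y + f x y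
  smul : ∀ (c : F) (x : Fin n → F), Q (c • x) = c * c * Q x

theorem Q_zero (hq : QF Q f) : Q 0 = 0 := by
  have := hq.smul 0 0
  simpa using this

theorem f_self (hq : QF Q f) (x : Fin n → F) : f x x = 2 * Q x := by
  have h1 := hq.polar x x
  have h3 := hq.smul 2 x
  have e : (2 : F) • x = x + x := two_smul F x
  rw [e] at h3
  linear_combination h3 - h1

theorem f_sing (hq : QF Q f) {u : Fin n → F} (hu : Q u = 0) : f u u = 0 := by
  rw [f_self hq, hu, mul_zero]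

theorem Q_neg (hq : QF Q f) (x : Fin n → F) : Q (-x) = Q x := by
  have := hq.smul (-1) x
  simpa using this

theorem Q_sub (hq : QF Q f) (x y : Fin n → F) : Q (x - y) = Q x + Q y - f x y := by
  rw [sub_eq_add_neg, hq.polar, Q_neg hq, f_neg_right hq.sym]
  ring

theorem ts_ti (hq : QF Q f) (S : Submodule F (Fin n → F)) (h : ∀ y ∈ S, Q y = 0) :
    ∀ x ∈ S, ∀ y ∈ S, f x y = 0 := by
  intro x hx y hy
  have h1 := hq.polar x y
  rw [h (x + y) (S.add_mem hx hy), h x hx, h y hy] at h1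
  linear_combination -h1

theorem hyp_partner_q (hq : QF Q f) (w : Fin n → F) (hw0 : w ≠ 0) (hw : Q w = 0) :
    ∃ z, Q z = 0 ∧ f z w = 1 := by
  obtain ⟨x, hx⟩ := (hq.sym.nondegenerate w hw0).1
  obtain ⟨x₁, hx₁⟩ : ∃ x₁, x₁ = (f x w)⁻¹ • x := ⟨_, rfl⟩
  have hx₁w : f x₁ w = 1 := by
    rw [hx₁, hq.sym.smul_left, inv_mul_cancel₀ hx]
  refine ⟨x₁ - Q x₁ • w, ?_, ?_⟩
  · rw [Q_sub hq, hq.smul, hw, s_smul_right hq.sym, hx₁w]
    ring
  · rw [f_sub_left hq.sym, hq.sym.smul_left, f_sing hq hw, hx₁w]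
    ring

theorem iso_fix_q (hq : QF Q f) (z w : Fin n → F) (hw : Q w = 0) (hzw : f z w ≠ 0) :
    ∃ β : F, Q (z + β • w) = 0 := by
  refine ⟨-(Q z) / f z w, ?_⟩
  rw [hq.polar, hq.smul, hw, s_smul_right hq.sym]
  field_simp
  ring

theorem perp_partner_q (hq : QF Q f) (z w : Fin n → F) (hw0 : w ≠ 0)
    (hz : z ∉ Submodule.span F {w}) (hww : Q w = 0) (hwz : f w z = 0) :
    ∃ v, Q v = 0 ∧ f v z = 0 ∧ f v w = 1 := by
  have hli : LinearIndependent F ![w, z] := li2 w z hw0 hz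
  obtain ⟨y, hy⟩ := lin_solve hq.sym _ hli ![1, 0]
  have hyw : f y w = 1 := by
    have := hy 0
    simpa using this
  have hyz : f y z = 0 := by
    have := hy 1
    simpa using this
  refine ⟨y - Q y • w, ?_, ?_, ?_⟩
  · rw [Q_sub hq, hq.smul, hww, s_smul_right hq.sym, hyw]
    ring
  · rw [f_sub_left hq.sym, hq.sym.smul_left, hwz, hyz]
    ring
  · rw [f_sub_left hq.sym, hq.sym.smul_left, f_sing hq hww, hyw]
    ring

theorem far_pair_q (hq : QF Q f) (w₁ w₂ : Fin n → F) (hw0 : w₁ ≠ 0)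
    (hw₂ : w₂ ∉ Submodule.span F {w₁}) (h11 : Q w₁ = 0) (h12 : f w₁ w₂ = 0) :
    ∃ z, Q z = 0 ∧ f z w₁ ≠ 0 ∧ f z w₂ ≠ 0 := by
  have hli : LinearIndependent F ![w₁, w₂] := li2 w₁ w₂ hw0 hw₂
  obtain ⟨y, hy⟩ := lin_solve hq.sym _ hli ![1, 1]
  have hy1 : f y w₁ = 1 := by
    have := hy 0
    simpa using this
  have hy2 : f y w₂ = 1 := by
    have := hy 1
    simpa using this
  refine ⟨y - Q y • w₁, ?_, ?_, ?_⟩
  · rw [Q_sub hq, hq.smul, h11, s_smul_right hq.sym, hy1]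
    ring
  · rw [f_sub_left hq.sym, hq.sym.smul_left, f_sing hq h11, hy1]
    simp
  · rw [f_sub_left hq.sym, hq.sym.smul_left, h12, hy2]
    simp

theorem ex_nonsing_perp_q (hq : QF Q f) (W : Submodule F (Fin n → F))
    (u : Fin n → F) (hdim : 2 * Module.finrank F W + 3 ≤ n) :
    ∃ w, (∀ x ∈ W, f x w = 0) ∧ f u w = 0 ∧ Q w ≠ 0 := by
  have hf := hq.sym
  by_contra hcon
  push Not at hcon
  obtain ⟨X, hX⟩ : ∃ X : Submodule F (Fin n → F), X = W ⊔ Submodule.span F {u} := ⟨_, rfl⟩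
  have hXdim : Module.finrank F X ≤ Module.finrank F W + 1 := by
    rw [hX]
    have h1 := Submodule.finrank_add_le_finrank_add_finrank W (Submodule.span F {u})
    have h3 : Module.finrank F (Submodule.span F ({u} : Set (Fin n → F))) ≤ 1 := by
      have h4 := finrank_span_finset_le_card (R := F) ({u} : Finset (Fin n → F))
      rw [Finset.coe_singleton, Finset.card_singleton] at h4
      exact h4
    omega
  let b := Module.finBasis F X
  have hli : LinearIndependent F (fun i => ((b i : X) : Fin n → F)) :=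
    b.linearIndependent.map' X.subtype X.ker_subtype
  have h1 := finrank_ker_eq hf _ hli
  have hperpX : ∀ y ∈ LinearMap.ker (perpMap hf (fun i => ((b i : X) : Fin n → F))),
      ∀ x ∈ X, f x y = 0 := by
    intro y hy x hx
    rw [mem_ker_perpMap] at hy
    have h3 := perp_span' hf _ y hy x
    rw [basis_span] at h3
    exact h3 hx
  have hiso : ∀ y ∈ LinearMap.ker (perpMap hf (fun i => ((b i : X) : Fin n → F))), Q y = 0 := by
    intro y hy
    apply hcon y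
    · intro x hx
      exact hperpX y hy x (by rw [hX]; exact Submodule.mem_sup_left hx)
    · exact hperpX y hy u (by
        rw [hX]
        exact Submodule.mem_sup_right (Submodule.mem_span_singleton_self u))
  have h3 := rb hf e0 nd_e0 _ (ts_ti hq _ hiso) (fun x _ => perp_e0 x)
  omega

structure VFacts (Q : (Fin n → F) → F) (f : (Fin n → F) → (Fin n → F) → F) : Prop where
  hyp_perp : ∀ z w : Fin n → F, Q z = 0 → Q w = 0 → f z w ≠ 0 →
    ∃ s s', Q s = 0 ∧ Q s' = 0 ∧ f s z = 0 ∧ f s w = 0 ∧ f s' z = 0 ∧ f s' w = 0 ∧ f s' s = 1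
  decomp : ∀ w y : Fin n → F, Q w = 0 → w ≠ 0 → f y w = 0 →
    ∃ y₁ y₂, y₁ + y₂ = y ∧ Q y₁ = 0 ∧ Q y₂ = 0 ∧ f y₁ w = 0 ∧ f y₂ w = 0
  sing : ∃ s : Fin n → F, Q s = 0 ∧ s ≠ 0
  perfect : ∀ u v : Fin n → F, Q u = 0 → Q v = 0 → f u v = 0 → u ≠ 0 →
    v ∉ Submodule.span F {u} →
    ∃ z w, Q z = 0 ∧ Q w = 0 ∧ f z u = 0 ∧ f z v = 0 ∧ f w u = 0 ∧ f w v = 0 ∧ f z w = -1

end Cfsg.Agent.Lib.Helper28.OQ
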