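import Mathlib
import Cfsg.Agent.Lib.Helper19.ORE.Defs

set_option autoImplicit false

namespace Cfsg.Agent.Lib.Helper19.ORE

universe u v w

section General
variable {F : Type u} [Field F]

/-- going there and back along a ring isomorphism is the identity on `SL_n`. -/
theorem orem2_map_symm_map {F' : Type w} [Field F'] (e : F ≃+* F') (n : ℕ)
    (g : Matrix.SpecialLinearGroup (Fin n) F) :
    Matrix.SpecialLinearGroup.map (e.symm : F' →+* F)
      (Matrix.SpecialLinearGroup.map (e : F →+* F') g) = g := by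
  apply Matrix.SpecialLinearGroup.ext
  intro i j
  rw [Matrix.SpecialLinearGroup.map_apply_coe, Matrix.SpecialLinearGroup.map_apply_coe]
  simp [RingHom.mapMatrix_apply, Matrix.map_apply]

/-- **M2** (`Matrix.SpecialLinearGroup.map`). -/
theorem transfer {F' : Type w} [Field F'] (e : F ≃+* F') (n : ℕ)
    (h : ∀ g : Matrix.SpecialLinearGroup (Fin n) F',
      ∃ a b : Matrix.SpecialLinearGroup (Fin n) F', g = a * b * a⁻¹ * b⁻¹) :
    ∀ g : Matrix.SpecialLinearGroup (Fin n) F,
      ∃ a b : Matrix.SpecialLinearGroup (Fin n) F, g = a * b * a⁻¹ * b⁻¹ := by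
  intro g
  obtain ⟨a, b, hab⟩ := h (Matrix.SpecialLinearGroup.map (e : F →+* F') g)
  refine ⟨Matrix.SpecialLinearGroup.map (e.symm : F' →+* F) a,
    Matrix.SpecialLinearGroup.map (e.symm : F' →+* F) b, ?_⟩
  have h1 := congrArg (Matrix.SpecialLinearGroup.map (e.symm : F' →+* F)) hab
  rw [orem2_map_symm_map] at h1
  rw [h1]
  simp only [map_mul, map_inv]

end General

end Cfsg.Agent.Lib.Helper19.ORE
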