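import Mathlib
import Cfsg.Agent.Lib.Helper19.ORE.Defs
import Cfsg.Agent.Lib.Helper1.OREK4
import Cfsg.Agent.Lib.helper2.OREM1
import Cfsg.Agent.Lib.Helper16.OREH3

set_option autoImplicit false

namespace Cfsg.Agent.Lib.Helper19.ORE

open Module

universe u v w

section General
variable {F : Type u} [Field F]

/-- the determinant of `toLin' g` is `1`. -/
theorem orem3_det_toLin' (n : ℕ) (g : Matrix.SpecialLinearGroup (Fin n) F) :
    LinearEquiv.det (Matrix.SpecialLinearGroup.toLin' g) = 1 := by
  apply Units.ext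
  rw [LinearEquiv.coe_det, Matrix.SpecialLinearGroup.toLin'_to_linearMap, LinearMap.det_toLin',
    Units.val_one]
  exact g.2

/-- if `toLin' g` is the scalar `c` then the matrix of `g` is `c • 1`. -/
theorem orem3_scalar_of_toLin' (n : ℕ) (g : Matrix.SpecialLinearGroup (Fin n) F) (c : F)
    (h : ∀ x, Matrix.SpecialLinearGroup.toLin' g x = c • x) :
    (g : Matrix (Fin n) (Fin n) F) = c • 1 := by
  ext i j
  have h1 := congrFun (h (Pi.single j 1)) i
  rw [Matrix.SpecialLinearGroup.toLin'_apply, Matrix.toLin'_apply, Matrix.mulVec_single_one] at h1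
  simp only [Matrix.col_apply, Pi.smul_apply, smul_eq_mul] at h1
  rw [Matrix.smul_apply, Matrix.one_apply, smul_eq_mul]
  rw [h1, Pi.single_apply]

/-- **M3** (`|F| ≥ 4`): scalar matrices by `scalar_comm`, the others by `big_nonscalar` + `bridge`
(`NonScalar (toLin' g)` from `g` not being a scalar matrix). -/
theorem big_main [Fintype F] (hF : 4 ≤ Fintype.card F) (n : ℕ) (hn : 2 ≤ n)
    (g : Matrix.SpecialLinearGroup (Fin n) F) :
    ∃ a b : Matrix.SpecialLinearGroup (Fin n) F, g = a * b * a⁻¹ * b⁻¹ := by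
  by_cases hs : ∃ c : F, ∀ x, Matrix.SpecialLinearGroup.toLin' g x = c • x
  · obtain ⟨c, hc⟩ := hs
    exact scalar_comm n (by omega) g c (orem3_scalar_of_toLin' n g c hc)
  · have h2 : 2 ≤ finrank F (Fin n → F) := by
      rw [Module.finrank_fin_fun]; exact hn
    exact bridge n g (big_nonscalar hF (Matrix.SpecialLinearGroup.toLin' g) h2
      (orem3_det_toLin' n g) hs)

end General

end Cfsg.Agent.Lib.Helper19.ORE
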