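import Cfsg.Agent.Lib.Helper28.OGenQ
import Cfsg.Agent.S5643

set_option autoImplicit false

open Cfsg

namespace Cfsg.Agent.Lib.Helper28.OSim

open Matrix Cfsg.Agent.Lib.Helper28.HForm Cfsg.Agent.Lib.Helper28.OGen
  Cfsg.Agent.Lib.Helper28.OMax Cfsg.Agent.Lib.Helper28.OQ Cfsg.Agent.Lib.Helper28.OMax2
  Cfsg.Agent.Lib.Helper28.OIwa Cfsg.Agent.Lib.Helper28.OIwa2

variable {n : ℕ} {F : Type*} [Field F] {Q : (Fin n → F) → F}
  {f : (Fin n → F) → (Fin n → F) → F}

theorem finrank_sup_span_le (S : Submodule F (Fin n → F)) (u : Fin n → F) :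
    Module.finrank F (S ⊔ Submodule.span F {u} : Submodule F (Fin n → F)) ≤
      Module.finrank F S + 1 := by
  have h1 := Submodule.finrank_add_le_finrank_add_finrank S (Submodule.span F {u})
  have h3 : Module.finrank F (Submodule.span F ({u} : Set (Fin n → F))) ≤ 1 := by
    have h4 := finrank_span_finset_le_card (R := F) ({u} : Finset (Fin n → F))
    rw [Finset.coe_singleton, Finset.card_singleton] at h4
    exact h4
  omega

theorem finrank_span_one_le (a : Fin n → F) :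
    Module.finrank F (Submodule.span F ({a} : Set (Fin n → F))) ≤ 1 := by
  have h := finrank_sup_span_le (⊥ : Submodule F (Fin n → F)) a
  rw [bot_sup_eq, finrank_bot] at h
  exact h

theorem finrank_span_pair_le (a b : Fin n → F) :
    Module.finrank F (Submodule.span F ({a, b} : Set (Fin n → F))) ≤ 2 := by
  have h := finrank_sup_span_le (Submodule.span F ({b} : Set (Fin n → F))) a
  have h1 := finrank_span_one_le b
  rw [Submodule.span_insert, sup_comm]
  omega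

theorem finrank_span_triple_le (a b c : Fin n → F) :
    Module.finrank F (Submodule.span F ({a, b, c} : Set (Fin n → F))) ≤ 3 := by
  have h := finrank_sup_span_le (Submodule.span F ({b, c} : Set (Fin n → F))) a
  have h1 := finrank_span_pair_le b c
  rw [Submodule.span_insert, sup_comm]
  omega

theorem finrank_span_quad_le (a b c d : Fin n → F) :
    Module.finrank F (Submodule.span F ({a, b, c, d} : Set (Fin n → F))) ≤ 4 := by
  have h := finrank_sup_span_le (Submodule.span F ({b, c, d} : Set (Fin n → F))) a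
  have h1 := finrank_span_triple_le b c d
  rw [Submodule.span_insert, sup_comm]
  omega

theorem sing_out [Fintype F] (hq : QF Q f) (h2 : (2 : F) ≠ 0) (S : Submodule F (Fin n → F))
    (hdim : 2 * Module.finrank F S + 5 ≤ n) :
    ∃ w, Q w = 0 ∧ (∀ s ∈ S, f s w = 0) ∧ w ∉ S := by
  have hf := hq.sym
  obtain ⟨w₁, hw₁S, -, hw₁⟩ := ex_nonsing_perp hf h2 S 0 (by omega)
  obtain ⟨w₂, hw₂S, h12, hw₂⟩ := ex_nonsing_perp hf h2 S w₁ (by omega)
  have hd := finrank_sup_span_le S w₁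
  obtain ⟨w₃, hw₃S, h23, hw₃⟩ := ex_nonsing_perp hf h2 (S ⊔ Submodule.span F {w₁}) w₂ (by omega)
  have h13 : f w₁ w₃ = 0 :=
    hw₃S w₁ (Submodule.mem_sup_right (Submodule.mem_span_singleton_self w₁))
  have hw₃S' : ∀ s ∈ S, f s w₃ = 0 := fun s hs => hw₃S s (Submodule.mem_sup_left hs)
  obtain ⟨α, β, hαβ⟩ := solve2 h2 (f w₁ w₁) (f w₂ w₂) (-(f w₃ w₃)) hw₁ hw₂
  obtain ⟨w, hw⟩ : ∃ w, w = α • w₁ + β • w₂ + w₃ := ⟨_, rfl⟩
  have h21 : f w₂ w₁ = 0 := by rw [s_symm hf, h12]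
  have h31 : f w₃ w₁ = 0 := by rw [s_symm hf, h13]
  have h32 : f w₃ w₂ = 0 := by rw [s_symm hf, h23]
  have hww3 : f w w₃ = f w₃ w₃ := by
    rw [hw, hf.add_left, hf.add_left, hf.smul_left, hf.smul_left, h13, h23]
    ring
  have hww : f w w = 0 := by
    rw [hw]
    simp only [hf.add_left, f_add_right hf, hf.smul_left, s_smul_right hf, h12, h21, h13, h31,
      h23, h32]
    linear_combination hαβ
  refine ⟨w, ?_, ?_, ?_⟩
  · have h := f_self hq w
    rw [hww] at h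
    rcases mul_eq_zero.1 h.symm with h' | h'
    · exact absurd h' h2
    · exact h'
  · intro s hs
    rw [hw, f_add_right hf, f_add_right hf, s_smul_right hf, s_smul_right hf, hw₁S s hs,
      hw₂S s hs, hw₃S' s hs]
    ring
  · intro hwS
    have := hw₃S' w hwS
    rw [hww3] at this
    exact hw₃ this

theorem sing_val [Fintype F] (hq : QF Q f) (h2 : (2 : F) ≠ 0) (S : Submodule F (Fin n → F))
    (a : Fin n → F) (ha : a ∉ S) (hdim : 2 * Module.finrank F S + 7 ≤ n) :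
    ∃ v, Q v = 0 ∧ (∀ s ∈ S, f s v = 0) ∧ f v a = 1 := by
  have hf := hq.sym
  have hd := finrank_sup_span_le S a
  obtain ⟨w, hw, hwS', hwn⟩ := sing_out hq h2 (S ⊔ Submodule.span F {a}) (by omega)
  have hwS : ∀ s ∈ S, f s w = 0 := fun s hs => hwS' s (Submodule.mem_sup_left hs)
  have haw : f a w = 0 := hwS' a (Submodule.mem_sup_right (Submodule.mem_span_singleton_self a))
  have hwnS : w ∉ S := fun h => hwn (Submodule.mem_sup_left h)
  obtain ⟨y₁, hy₁S, hy₁a⟩ := dperp_s hf S a ha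
  obtain ⟨y₂, hy₂S, hy₂w⟩ := dperp_s hf S w hwnS
  obtain ⟨y, hyS, hya, hyw⟩ : ∃ y, (∀ s ∈ S, f s y = 0) ∧ f a y ≠ 0 ∧ f w y ≠ 0 := by
    by_cases h1 : f w y₁ = 0
    · by_cases h3 : f a y₂ = 0
      · refine ⟨y₁ + y₂, fun s hs => ?_, ?_, ?_⟩
        · rw [f_add_right hf, hy₁S s hs, hy₂S s hs, add_zero]
        · rw [f_add_right hf, h3, add_zero]
          exact hy₁a
        · rw [f_add_right hf, h1, zero_add]
          exact hy₂w
      · exact ⟨y₂, hy₂S, h3, hy₂w⟩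
    · exact ⟨y₁, hy₁S, hy₁a, h1⟩
  obtain ⟨β, hβ⟩ := iso_fix_q hq y w hw (by rw [s_symm hf]; exact hyw)
  have hva : f (y + β • w) a = f a y := by
    rw [hf.add_left, hf.smul_left, s_symm hf w a, haw, s_symm hf y a]
    ring
  refine ⟨(f a y)⁻¹ • (y + β • w), ?_, ?_, ?_⟩
  · rw [hq.smul, hβ, mul_zero]
  · intro s hs
    rw [s_smul_right hf, f_add_right hf, s_smul_right hf, hyS s hs, hwS s hs]
    ring
  · rw [hf.smul_left, hva, inv_mul_cancel₀ hya]


def TV (f : (Fin n → F) → (Fin n → F) → F) (M : Subgroup (Matrix.GeneralLinearGroup (Fin n) F))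
    (w u : Fin n → F) : Prop :=
  ∀ g : Matrix.GeneralLinearGroup (Fin n) F,
    (∀ x, (g : Matrix (Fin n) (Fin n) F) *ᵥ x = x + f x u • w) → g ∈ M

theorem tvGL (hf : SymF f) (w u : Fin n → F) (h : f w u = 0) :
    ∃ g : Matrix.GeneralLinearGroup (Fin n) F, g ∈ Cfsg.Geo.specialLinear (Fin n) F ∧
      ∀ x, (g : Matrix (Fin n) (Fin n) F) *ᵥ x = x + f x u • w := by
  have h0 : rho f u ⬝ᵥ w = 0 := by rw [← f_eq_dot hf, h]
  obtain ⟨g, hgS, hg⟩ := Cfsg.Agent.S5632.transv w (rho f u) h0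
  exact ⟨g, hgS, fun x => by rw [hg, ← f_eq_dot hf]⟩

theorem TV_add (hf : SymF f)
    (M : Subgroup (Matrix.GeneralLinearGroup (Fin n) F)) (w u1 u2 : Fin n → F)
    (h1 : f w u1 = 0) (h2 : f w u2 = 0) (t1 : TV f M w u1) (t2 : TV f M w u2) :
    TV f M w (u1 + u2) := by
  intro g hg
  obtain ⟨g1, _, hg1⟩ := tvGL hf w u1 h1
  obtain ⟨g2, _, hg2⟩ := tvGL hf w u2 h2
  have : g = g1 * g2 := by
    apply gl_ext
    intro x
    rw [Cfsg.Agent.S5643.mul_mv, hg, hg2, hg1, hf.add_left, hf.smul_left, h1, mul_zero, add_zero,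
      f_add_right hf, add_smul]
    abel
  rw [this]
  exact M.mul_mem (t1 g1 hg1) (t2 g2 hg2)

theorem TV_scale (hf : SymF f)
    (M : Subgroup (Matrix.GeneralLinearGroup (Fin n) F)) (w u : Fin n → F) (a : F) :
    TV f M (a • w) u ↔ TV f M w (a • u) := by
  have key : ∀ x, f x (a • u) • w = f x u • (a • w) := by
    intro x
    rw [s_smul_right hf, smul_smul, mul_comm]
  constructor
  · intro t g hg
    exact t g (fun x => by rw [hg, key])
  · intro t g hg
    exact t g (fun x => by rw [hg, key])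

theorem TV_add_centre (hf : SymF f)
    (M : Subgroup (Matrix.GeneralLinearGroup (Fin n) F)) (w1 w2 u : Fin n → F)
    (h1 : f w1 u = 0) (h2 : f w2 u = 0) (t1 : TV f M w1 u) (t2 : TV f M w2 u) :
    TV f M (w1 + w2) u := by
  intro g hg
  obtain ⟨g1, _, hg1⟩ := tvGL hf w1 u h1
  obtain ⟨g2, _, hg2⟩ := tvGL hf w2 u h2
  have : g = g1 * g2 := by
    apply gl_ext
    intro x
    rw [Cfsg.Agent.S5643.mul_mv, hg, hg2, hg1, hf.add_left, hf.smul_left, h2, mul_zero, add_zero,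
      smul_add]
    abel
  rw [this]
  exact M.mul_mem (t1 g1 hg1) (t2 g2 hg2)

theorem TV_neg_centre (hf : SymF f)
    (M : Subgroup (Matrix.GeneralLinearGroup (Fin n) F)) (w u : Fin n → F)
    (h : f w u = 0) (t : TV f M w u) : TV f M (-w) u := by
  intro g hg
  obtain ⟨g1, _, hg1⟩ := tvGL hf w u h
  have : g = g1⁻¹ := by
    rw [eq_inv_iff_mul_eq_one]
    apply gl_ext
    intro x
    rw [Cfsg.Agent.S5643.mul_mv, hg, hg1, hf.add_left, hf.smul_left, h, Units.val_one,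
      Matrix.one_mulVec]
    simp
  rw [this]
  exact M.inv_mem (t g1 hg1)

theorem TV_conj_iso (hf : SymF f)
    (M : Subgroup (Matrix.GeneralLinearGroup (Fin n) F)) (w u : Fin n → F) (h : f w u = 0)
    (t : TV f M w u) (m : Matrix.GeneralLinearGroup (Fin n) F) (hm : m ∈ M)
    (hiso : ∀ x y, f ((m : Matrix (Fin n) (Fin n) F) *ᵥ x) ((m : Matrix (Fin n) (Fin n) F) *ᵥ y) =
      f x y) :
    TV f M ((m : Matrix (Fin n) (Fin n) F) *ᵥ w) ((m : Matrix (Fin n) (Fin n) F) *ᵥ u) := by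
  intro g hg
  obtain ⟨g0, _, hg0⟩ := tvGL hf w u h
  have : g = m * g0 * m⁻¹ := by
    apply gl_ext
    intro x
    have e := hiso (((m⁻¹ : Matrix.GeneralLinearGroup (Fin n) F) :
      Matrix (Fin n) (Fin n) F) *ᵥ x) u
    rw [Cfsg.Agent.S5643.inv_mv'] at e
    rw [Cfsg.Agent.S5643.mul_mv, Cfsg.Agent.S5643.mul_mv, hg0, Matrix.mulVec_add,
      Cfsg.Agent.S5643.inv_mv', Matrix.mulVec_smul, hg, e]
  rw [this]
  exact M.mul_mem (M.mul_mem hm (t g0 hg0)) (M.inv_mem hm)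

theorem TV_sub_centre (hf : SymF f)
    (M : Subgroup (Matrix.GeneralLinearGroup (Fin n) F)) (w1 w2 u : Fin n → F)
    (h1 : f w1 u = 0) (h2 : f w2 u = 0) (t1 : TV f M (w1 + w2) u) (t2 : TV f M w1 u) :
    TV f M w2 u := by
  have t3 := TV_neg_centre hf M w1 u h1 t2
  have t4 := TV_add_centre hf M (w1 + w2) (-w1) u (by rw [hf.add_left, h1, h2, add_zero])
    (by rw [f_neg_left hf, h1, neg_zero]) t1 t3
  have e : w1 + w2 + -w1 = w2 := by abel
  rw [e] at t4
  exact t4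

structure MS (Q : (Fin n → F) → F) (f : (Fin n → F) → (Fin n → F) → F)
    (M : Subgroup (Matrix.GeneralLinearGroup (Fin n) F)) : Prop where
  sg : ∀ (t : Matrix.GeneralLinearGroup (Fin n) F) (u v : Fin n → F) (c : F),
      Q u = 0 → Q v = 0 → f u v = 0 → IsSg f t u v c → t ∈ M
  ex : ∀ (u v : Fin n → F) (c : F), Q u = 0 → Q v = 0 → f u v = 0 →
      ∃ t : Matrix.GeneralLinearGroup (Fin n) F, IsSg f t u v c

theorem sg_iso (hq : QF Q f) {t : Matrix.GeneralLinearGroup (Fin n) F} {u v : Fin n → F} {c : F}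
    (hu : Q u = 0) (hv : Q v = 0) (huv : f u v = 0) (ht : IsSg f t u v c) (x y : Fin n → F) :
    f ((t : Matrix (Fin n) (Fin n) F) *ᵥ x) ((t : Matrix (Fin n) (Fin n) F) *ᵥ y) = f x y := by
  have hf := hq.sym
  have huu := f_sing hq hu
  have hvv := f_sing hq hv
  have hvu : f v u = 0 := by rw [s_symm hf, huv]
  rw [ht x, ht y]
  unfold Tv
  simp only [hf.add_left, f_add_right hf, f_sub_left hf, f_sub_right hf, hf.smul_left,
    s_smul_right hf, huu, hvv, huv, hvu]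
  rw [s_symm hf x u, s_symm hf x v]
  ring

theorem full_line [Fintype F] (hq : QF Q f) (h2 : (2 : F) ≠ 0) (hn : 13 ≤ n)
    {M : Subgroup (Matrix.GeneralLinearGroup (Fin n) F)} (hM : MS Q f M)
    (u w₁ : Fin n → F) (hu : Q u = 0) (hw₁u : f w₁ u = 0)
    (hw₁ : w₁ ∉ Submodule.span F {u}) (t : TV f M w₁ u) (c : F) : TV f M (c • u) u := by
  have hf := hq.sym
  have hd := finrank_span_one_le u
  obtain ⟨z, hz, hzS, hzw⟩ := sing_val hq h2 (Submodule.span F {u}) w₁ hw₁ (by omega)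
  have huz : f u z = 0 := hzS u (Submodule.mem_span_singleton_self u)
  obtain ⟨T, hT⟩ := hM.ex u z (-c) hu hz huz
  have hTM := hM.sg T u z (-c) hu hz huz hT
  have t1 := TV_conj_iso hf M w₁ u hw₁u t T hTM (sg_iso hq hu hz huz hT)
  have e1 : (T : Matrix (Fin n) (Fin n) F) *ᵥ u = u := by
    rw [hT u]
    unfold Tv
    rw [f_sing hq hu, s_symm hf z u, huz]
    simp
  have e2 : (T : Matrix (Fin n) (Fin n) F) *ᵥ w₁ = w₁ + c • u := by
    rw [hT w₁]
    unfold Tv
    rw [s_symm hf u w₁, hw₁u, hzw]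
    module
  rw [e1, e2] at t1
  exact TV_sub_centre hf M w₁ (c • u) u hw₁u (by rw [hf.smul_left, f_sing hq hu, mul_zero]) t1 t

theorem full_step2 [Fintype F] (hq : QF Q f) (h2 : (2 : F) ≠ 0) (hn : 13 ≤ n)
    {M : Subgroup (Matrix.GeneralLinearGroup (Fin n) F)} (hM : MS Q f M)
    (u w₁ z' : Fin n → F) (hu : Q u = 0) (hw₁u : f w₁ u = 0) (t : TV f M w₁ u)
    (hz' : Q z' = 0) (hz'u : f z' u = 0) (hz'w : f z' w₁ = 0)
    (hw₁ : w₁ ∉ Submodule.span F {u, z'}) : TV f M z' u := by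
  have hf := hq.sym
  have hd := finrank_span_pair_le u z'
  obtain ⟨z, hz, hzS, hzw⟩ := sing_val hq h2 (Submodule.span F {u, z'}) w₁ hw₁ (by omega)
  have huz : f u z = 0 := hzS u (Submodule.subset_span (by simp))
  have hz'z : f z' z = 0 := hzS z' (Submodule.subset_span (by simp))
  have hzz' : f z z' = 0 := by rw [s_symm hf, hz'z]
  obtain ⟨T, hT⟩ := hM.ex z z' 1 hz hz' hzz'
  have hTM := hM.sg T z z' 1 hz hz' hzz' hT
  have t1 := TV_conj_iso hf M w₁ u hw₁u t T hTM (sg_iso hq hz hz' hzz' hT)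
  have e1 : (T : Matrix (Fin n) (Fin n) F) *ᵥ u = u := by
    rw [hT u]
    unfold Tv
    rw [s_symm hf z u, huz, hz'u]
    simp
  have e2 : (T : Matrix (Fin n) (Fin n) F) *ᵥ w₁ = w₁ + z' := by
    rw [hT w₁]
    unfold Tv
    rw [hzw, hz'w]
    module
  rw [e1, e2] at t1
  exact TV_sub_centre hf M w₁ z' u hw₁u hz'u t1 t

def FullAx (f : (Fin n → F) → (Fin n → F) → F)
    (M : Subgroup (Matrix.GeneralLinearGroup (Fin n) F)) (u : Fin n → F) : Prop :=
  ∀ w, f w u = 0 → TV f M w u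

theorem span_pair_of (a b x : Fin n → F) (α β : F) (hx : x = α • a + β • b) :
    x ∈ Submodule.span F ({a, b} : Set (Fin n → F)) := by
  rw [hx]
  exact Submodule.add_mem _ (Submodule.smul_mem _ _ (Submodule.subset_span (by simp)))
    (Submodule.smul_mem _ _ (Submodule.subset_span (by simp)))

theorem fullAx_of_one [Fintype F] (hq : QF Q f) (vf : VFacts Q f) (h2 : (2 : F) ≠ 0) (hn : 13 ≤ n)
    {M : Subgroup (Matrix.GeneralLinearGroup (Fin n) F)} (hM : MS Q f M)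
    (u w₁ : Fin n → F) (hu : Q u = 0) (hu0 : u ≠ 0) (hw₁u : f w₁ u = 0)
    (hw₁ : w₁ ∉ Submodule.span F {u}) (t : TV f M w₁ u) : FullAx f M u := by
  have hf := hq.sym
  have hsing : ∀ s, Q s = 0 → f s u = 0 → TV f M s u := by
    intro s hs hsu
    by_cases hsu' : s ∈ Submodule.span F {u}
    · obtain ⟨c, rfl⟩ := Submodule.mem_span_singleton.1 hsu'
      exact full_line hq h2 hn hM u w₁ hu hw₁u hw₁ t c
    obtain ⟨S, hS⟩ : ∃ S : Submodule F (Fin n → F), S = Submodule.span F {u, w₁, s} := ⟨_, rfl⟩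
    have hd : Module.finrank F S ≤ 3 := by
      rw [hS]
      exact finrank_span_triple_le u w₁ s
    obtain ⟨z', hz', hz'S, hz'n⟩ := sing_out hq h2 S (by omega)
    have huS : u ∈ S := by
      rw [hS]
      exact Submodule.subset_span (by simp)
    have hwS : w₁ ∈ S := by
      rw [hS]
      exact Submodule.subset_span (by simp)
    have hsS : s ∈ S := by
      rw [hS]
      exact Submodule.subset_span (by simp)
    have hz'u : f z' u = 0 := by rw [s_symm hf, hz'S u huS]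
    have hz'w : f z' w₁ = 0 := by rw [s_symm hf, hz'S w₁ hwS]
    have hsz' : f s z' = 0 := hz'S s hsS
    have t1 : TV f M z' u := by
      apply full_step2 hq h2 hn hM u w₁ z' hu hw₁u t hz' hz'u hz'w
      intro hmem
      obtain ⟨α, β, hαβ⟩ := Submodule.mem_span_pair.1 hmem
      by_cases hβ : β = 0
      · apply hw₁
        rw [Submodule.mem_span_singleton]
        refine ⟨α, ?_⟩
        rw [← hαβ, hβ, zero_smul, add_zero]
      · apply hz'n
        have e : z' = β⁻¹ • w₁ - (β⁻¹ * α) • u := by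
          rw [← hαβ, smul_add, smul_smul, smul_smul, inv_mul_cancel₀ hβ, one_smul]
          abel
        rw [e]
        exact S.sub_mem (S.smul_mem _ hwS) (S.smul_mem _ huS)
    apply full_step2 hq h2 hn hM u z' s hu hz'u t1 hs hsu hsz'
    intro hmem
    obtain ⟨α, β, hαβ⟩ := Submodule.mem_span_pair.1 hmem
    apply hz'n
    rw [← hαβ]
    exact S.add_mem (S.smul_mem _ huS) (S.smul_mem _ hsS)
  intro w hwu
  obtain ⟨y₁, y₂, hsum, h11, h22, h1u, h2u⟩ := vf.decomp u w hu hu0 hwu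
  rw [← hsum]
  exact TV_add_centre hf M y₁ y₂ u h1u h2u (hsing y₁ h11 h1u) (hsing y₂ h22 h2u)


theorem TV_zero_axis (M : Subgroup (Matrix.GeneralLinearGroup (Fin n) F)) (hf : SymF f)
    (w : Fin n → F) : TV f M w 0 := by
  intro g hg
  have : g = 1 := by
    apply gl_ext
    intro x
    rw [hg, f_zero_right hf, zero_smul, add_zero, Units.val_one, Matrix.one_mulVec]
  rw [this]
  exact M.one_mem

theorem fullAx_smul (hf : SymF f) (M : Subgroup (Matrix.GeneralLinearGroup (Fin n) F))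
    (u : Fin n → F) (a : F) (ha : a ≠ 0) (h : FullAx f M u) : FullAx f M (a • u) := by
  intro w hw
  rw [s_smul_right hf] at hw
  have hwu : f w u = 0 := (mul_eq_zero.1 hw).resolve_left ha
  rw [← TV_scale hf]
  apply h
  rw [hf.smul_left, hwu, mul_zero]

theorem fullAx_trans (hq : QF Q f) (vf : VFacts Q f)
    {G M : Subgroup (Matrix.GeneralLinearGroup (Fin n) F)} (hG : SgGroupQ Q f G) (hGM : G ≤ M)
    (u u₂ : Fin n → F) (hu : Q u = 0) (hu0 : u ≠ 0) (hu₂ : Q u₂ = 0) (hu₂0 : u₂ ≠ 0)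
    (h : FullAx f M u) : FullAx f M u₂ := by
  have hf := hq.sym
  obtain ⟨g, hgG, a, ha, hga⟩ := trans_sing_q hq vf hG u u₂ hu hu0 hu₂ hu₂0
  have hiso := iso_f hq g (hG.iso g hgG)
  have h1 : FullAx f M ((g : Matrix (Fin n) (Fin n) F) *ᵥ u) := by
    intro w hw
    obtain ⟨w', hw'⟩ : ∃ w', w' = ((g⁻¹ : Matrix.GeneralLinearGroup (Fin n) F) :
      Matrix (Fin n) (Fin n) F) *ᵥ w := ⟨_, rfl⟩
    have e : (g : Matrix (Fin n) (Fin n) F) *ᵥ w' = w := by
      rw [hw', Cfsg.Agent.S5643.inv_mv']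
    have hw'u : f w' u = 0 := by
      rw [← hiso, e]
      exact hw
    have t1 := TV_conj_iso hf M w' u hw'u (h w' hw'u) g (hGM hgG) hiso
    rw [e] at t1
    exact t1
  have h3 := fullAx_smul hf M _ a⁻¹ (inv_ne_zero ha) h1
  rw [hga, smul_smul, inv_mul_cancel₀ ha, one_smul] at h3
  exact h3

theorem all_tv [Fintype F] (hq : QF Q f) (h2 : (2 : F) ≠ 0) (hn : 13 ≤ n)
    (M : Subgroup (Matrix.GeneralLinearGroup (Fin n) F))
    (hfull : ∀ u, Q u = 0 → u ≠ 0 → FullAx f M u) :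
    ∀ (v r : Fin n → F), r ⬝ᵥ v = 0 → ∀ g : Matrix.GeneralLinearGroup (Fin n) F,
      (∀ x, (g : Matrix (Fin n) (Fin n) F) *ᵥ x = x + (r ⬝ᵥ x) • v) → g ∈ M := by
  have hf := hq.sym
  have hsing : ∀ v y : Fin n → F, Q y = 0 → f v y = 0 → TV f M v y := by
    intro v y hy hvy
    by_cases hy0 : y = 0
    · rw [hy0]
      exact TV_zero_axis M hf v
    · exact hfull y hy hy0 v hvy
  intro v r hrv g hg
  obtain ⟨y, hy⟩ := rho_surj hf r
  have hvy : f v y = 0 := by rw [hy, hrv]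
  have key : TV f M v y := by
    by_cases hQy : Q y = 0
    · exact hsing v y hQy hvy
    have hyv : y ∉ Submodule.span F {v} := by
      intro hmem
      obtain ⟨c, rfl⟩ := Submodule.mem_span_singleton.1 hmem
      rw [s_smul_right hf, f_self hq] at hvy
      rw [hq.smul] at hQy
      apply hQy
      rcases mul_eq_zero.1 hvy with h | h
      · rw [h, zero_mul, zero_mul]
      · rcases mul_eq_zero.1 h with h' | h'
        · exact absurd h' h2
        · rw [h', mul_zero]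
    have hd := finrank_span_one_le v
    obtain ⟨y₁, hy₁, hy₁S, hy₁y⟩ := sing_val hq h2 (Submodule.span F {v}) y hyv (by omega)
    have hvy₁ : f v y₁ = 0 := hy₁S v (Submodule.mem_span_singleton_self v)
    obtain ⟨y₁', hy₁'⟩ : ∃ y₁', y₁' = Q y • y₁ := ⟨_, rfl⟩
    have hQy₁' : Q y₁' = 0 := by rw [hy₁', hq.smul, hy₁, mul_zero]
    have hvy₁' : f v y₁' = 0 := by rw [hy₁', s_smul_right hf, hvy₁, mul_zero]
    have hyy₁' : f y y₁' = Q y := by rw [hy₁', s_smul_right hf, s_symm hf, hy₁y, mul_one]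
    have hQy₂ : Q (y - y₁') = 0 := by
      rw [Q_sub hq, hQy₁', hyy₁']
      ring
    have hvy₂ : f v (y - y₁') = 0 := by rw [f_sub_right hf, hvy, hvy₁', sub_zero]
    have t1 := TV_add hf M v y₁' (y - y₁') hvy₁' hvy₂ (hsing v y₁' hQy₁' hvy₁')
      (hsing v _ hQy₂ hvy₂)
    have e : y₁' + (y - y₁') = y := by abel
    rw [e] at t1
    exact t1
  apply key g
  intro x
  rw [hg, hy]

theorem SL_le_of_one [Fintype F] (hq : QF Q f) (vf : VFacts Q f) (h2 : (2 : F) ≠ 0) (hn : 13 ≤ n)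
    {G M : Subgroup (Matrix.GeneralLinearGroup (Fin n) F)} (hG : SgGroupQ Q f G) (hGM : G ≤ M)
    (u w₁ : Fin n → F) (hu : Q u = 0) (hu0 : u ≠ 0) (hw₁u : f w₁ u = 0)
    (hw₁ : w₁ ∉ Submodule.span F {u}) (t : TV f M w₁ u) :
    Cfsg.Geo.specialLinear (Fin n) F ≤ M := by
  have hM : MS Q f M :=
    ⟨fun t u v c hu hv huv ht => hGM (hG.sg t u v c hu hv huv ht), hG.ex⟩
  have h1 := fullAx_of_one hq vf h2 hn hM u w₁ hu hu0 hw₁u hw₁ t
  apply Cfsg.Agent.S5631.SL_le (by omega) M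
  exact all_tv hq h2 hn M (fun u₂ hu₂ hu₂0 => fullAx_trans hq vf hG hGM u u₂ hu hu0 hu₂ hu₂0 h1)


theorem lam_pair_s (hf : SymF f) (g : Matrix.GeneralLinearGroup (Fin n) F)
    (v v2 : Fin n → F) (l l2 : F) (hne : f v2 v ≠ 0)
    (h : ∀ x, f ((g : Matrix (Fin n) (Fin n) F) *ᵥ x) ((g : Matrix (Fin n) (Fin n) F) *ᵥ v) =
      l * f x v)
    (h2 : ∀ x, f ((g : Matrix (Fin n) (Fin n) F) *ᵥ x) ((g : Matrix (Fin n) (Fin n) F) *ᵥ v2) =
      l2 * f x v2) : l = l2 := by
  have e1 := h v2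
  have e2 := h2 v
  rw [s_symm hf, e2, s_symm hf v v2] at e1
  have : (l2 - l) * f v2 v = 0 := by linear_combination e1
  rcases mul_eq_zero.mp this with h3 | h3
  · exact (sub_eq_zero.mp h3).symm
  · exact absurd h3 hne

theorem sim_of_local_q [Fintype F] (hq : QF Q f) (vf : VFacts Q f) (h2 : (2 : F) ≠ 0)
    (hn : 13 ≤ n) (g : Matrix.GeneralLinearGroup (Fin n) F)
    (h : ∀ v, Q v = 0 → ∃ lam : F, ∀ x,
      f ((g : Matrix (Fin n) (Fin n) F) *ᵥ x) ((g : Matrix (Fin n) (Fin n) F) *ᵥ v) = lam * f x v) :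
    g ∈ Cfsg.Geo.quadSimilarityGroup Q := by
  have hf := hq.sym
  obtain ⟨v0, hv0, hv00⟩ := vf.sing
  obtain ⟨l0, hl0⟩ := h v0 hv0
  have hl00 : l0 ≠ 0 := by
    intro h0
    have hgv : (g : Matrix (Fin n) (Fin n) F) *ᵥ v0 ≠ 0 := by
      intro h1
      apply hv00
      have := Cfsg.Agent.S5643.inv_mv g v0
      rw [h1, Matrix.mulVec_zero] at this
      exact this.symm
    obtain ⟨y, hy⟩ := (hf.nondegenerate _ hgv).1
    apply hy
    have := hl0 (((g⁻¹ : Matrix.GeneralLinearGroup (Fin n) F) : Matrix (Fin n) (Fin n) F) *ᵥ y)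
    rw [Cfsg.Agent.S5643.inv_mv', h0, zero_mul] at this
    exact this
  have hiso : ∀ v, Q v = 0 → ∀ x,
      f ((g : Matrix (Fin n) (Fin n) F) *ᵥ x) ((g : Matrix (Fin n) (Fin n) F) *ᵥ v) =
        l0 * f x v := by
    intro v hv x
    obtain ⟨l, hl⟩ := h v hv
    by_cases h1 : f v0 v = 0
    · by_cases hmem : v ∈ Submodule.span F {v0}
      · obtain ⟨a, rfl⟩ := Submodule.mem_span_singleton.mp hmem
        rw [Matrix.mulVec_smul, s_smul_right hf, s_smul_right hf, hl0]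
        ring
      · obtain ⟨z, hz, hz0, hzv⟩ := far_pair_q hq v0 v hv00 hmem hv0 h1
        obtain ⟨lz, hlz⟩ := h z hz
        have e1 := lam_pair_s hf g z v0 lz l0 (by rw [s_symm hf]; exact hz0) hlz hl0
        have e2 := lam_pair_s hf g v z l lz hzv hl hlz
        rw [hl, e2, e1]
    · have e1 := lam_pair_s hf g v v0 l l0 h1 hl hl0
      rw [hl, e1]
  have hall : ∀ x y, f ((g : Matrix (Fin n) (Fin n) F) *ᵥ x) ((g : Matrix (Fin n) (Fin n) F) *ᵥ y) =
      l0 * f x y := by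
    intro x y
    by_cases hy : Q y = 0
    · exact hiso y hy x
    have hy0 : y ∉ (⊥ : Submodule F (Fin n → F)) := by
      rw [Submodule.mem_bot]
      rintro rfl
      exact hy (Q_zero hq)
    obtain ⟨v, hv, -, hvy⟩ := sing_val hq h2 ⊥ y hy0 (by rw [finrank_bot]; omega)
    obtain ⟨w1, hw1⟩ : ∃ w1, w1 = Q y • v := ⟨_, rfl⟩
    have hQw1 : Q w1 = 0 := by rw [hw1, hq.smul, hv, mul_zero]
    have hyw1 : f y w1 = Q y := by rw [hw1, s_smul_right hf, s_symm hf, hvy, mul_one]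
    have hQw2 : Q (y - w1) = 0 := by
      rw [Q_sub hq, hQw1, hyw1]
      ring
    have e : y = w1 + (y - w1) := by abel
    rw [e, Matrix.mulVec_add, f_add_right hf, f_add_right hf, hiso w1 hQw1, hiso _ hQw2]
    ring
  refine ⟨Units.mk0 l0 hl00, fun y => ?_⟩
  rw [Units.val_mk0]
  have h1 := hall y y
  rw [f_self hq, f_self hq] at h1
  have h3 : 2 * (Q ((g : Matrix (Fin n) (Fin n) F) *ᵥ y) - l0 * Q y) = 0 := by
    linear_combination h1
  rcases mul_eq_zero.1 h3 with h4 | h4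
  · exact absurd h4 h2
  · exact sub_eq_zero.1 h4

theorem start [Fintype F] (hq : QF Q f) (vf : VFacts Q f) (h2 : (2 : F) ≠ 0) (hn : 13 ≤ n)
    {G M : Subgroup (Matrix.GeneralLinearGroup (Fin n) F)} (hG : SgGroupQ Q f G) (hGM : G ≤ M)
    (g : Matrix.GeneralLinearGroup (Fin n) F) (hgM : g ∈ M)
    (hg : g ∉ Cfsg.Geo.quadSimilarityGroup Q) :
    ∃ u w₁ : Fin n → F, Q u = 0 ∧ u ≠ 0 ∧ f w₁ u = 0 ∧ w₁ ∉ Submodule.span F {u} ∧
      TV f M w₁ u := by
  have hf := hq.sym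
  have hex : ∃ v, Q v = 0 ∧ ∀ lam : F, ∃ x,
      f ((g : Matrix (Fin n) (Fin n) F) *ᵥ x) ((g : Matrix (Fin n) (Fin n) F) *ᵥ v) ≠
        lam * f x v := by
    by_contra hcon
    push Not at hcon
    exact hg (sim_of_local_q hq vf h2 hn g hcon)
  obtain ⟨u', hu', hbad⟩ := hex
  have hu'0 : u' ≠ 0 := by
    intro h0
    obtain ⟨x, hx⟩ := hbad 0
    apply hx
    rw [h0, Matrix.mulVec_zero, f_zero_right hf, f_zero_right hf, mul_zero]
  have hriesz : ∀ y : Fin n → F, ∃ a, ∀ x, f x a =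
      f (((g⁻¹ : Matrix.GeneralLinearGroup (Fin n) F) : Matrix (Fin n) (Fin n) F) *ᵥ x) y := by
    intro y
    let ψ : (Fin n → F) →ₗ[F] F :=
      { toFun := fun x => f (((g⁻¹ : Matrix.GeneralLinearGroup (Fin n) F) :
          Matrix (Fin n) (Fin n) F) *ᵥ x) y
        map_add' := by
          intro a b
          rw [Matrix.mulVec_add, hf.add_left]
        map_smul' := by
          intro c a
          rw [Matrix.mulVec_smul, hf.smul_left]
          rfl }
    obtain ⟨a, ha⟩ := riesz hf ψ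
    exact ⟨a, ha⟩
  obtain ⟨a', ha'⟩ := hriesz u'
  have ha'g : ∀ y, f ((g : Matrix (Fin n) (Fin n) F) *ᵥ y) a' = f y u' := by
    intro y
    rw [ha', Cfsg.Agent.S5643.inv_mv]
  have ha'n : a' ∉ Submodule.span F {(g : Matrix (Fin n) (Fin n) F) *ᵥ u'} := by
    intro hmem
    obtain ⟨c, hc⟩ := Submodule.mem_span_singleton.1 hmem
    have h1 : ∀ y, f y u' = c * f ((g : Matrix (Fin n) (Fin n) F) *ᵥ y)
        ((g : Matrix (Fin n) (Fin n) F) *ᵥ u') := by
      intro y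
      rw [← ha'g, ← hc, s_smul_right hf]
    have hc0 : c ≠ 0 := by
      rintro rfl
      obtain ⟨x, hx⟩ := (hf.nondegenerate u' hu'0).1
      apply hx
      rw [h1, zero_mul]
    obtain ⟨x, hx⟩ := hbad c⁻¹
    apply hx
    rw [h1 x, ← mul_assoc, inv_mul_cancel₀ hc0, one_mul]
  obtain ⟨p, hp⟩ : ∃ p, p = ((g⁻¹ : Matrix.GeneralLinearGroup (Fin n) F) :
      Matrix (Fin n) (Fin n) F) *ᵥ a' := ⟨_, rfl⟩
  have hdP := finrank_span_pair_le p u'
  obtain ⟨v', hv', hv'P, hv'n⟩ := sing_out hq h2 (Submodule.span F {p, u'}) (by omega)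
  have hu'v' : f u' v' = 0 := hv'P u' (Submodule.subset_span (by simp))
  obtain ⟨b', hb'⟩ := hriesz v'
  have ha'2 : a' ∉ Submodule.span F {(g : Matrix (Fin n) (Fin n) F) *ᵥ u',
      (g : Matrix (Fin n) (Fin n) F) *ᵥ v'} := by
    intro hmem
    obtain ⟨α, β, hαβ⟩ := Submodule.mem_span_pair.1 hmem
    by_cases hβ : β = 0
    · apply ha'n
      rw [Submodule.mem_span_singleton]
      refine ⟨α, ?_⟩
      rw [← hαβ, hβ, zero_smul, add_zero]
    · apply hv'n
      have e1 : p = α • u' + β • v' := by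
        rw [hp, ← hαβ, Matrix.mulVec_add, Matrix.mulVec_smul, Matrix.mulVec_smul,
          Cfsg.Agent.S5643.inv_mv, Cfsg.Agent.S5643.inv_mv]
      have e : v' = β⁻¹ • p - (β⁻¹ * α) • u' := by
        rw [e1, smul_add, smul_smul, smul_smul, inv_mul_cancel₀ hβ, one_smul]
        abel
      rw [e]
      exact Submodule.sub_mem _ (Submodule.smul_mem _ _ (Submodule.subset_span (by simp)))
        (Submodule.smul_mem _ _ (Submodule.subset_span (by simp)))
  obtain ⟨gu, hgu⟩ : ∃ gu, gu = (g : Matrix (Fin n) (Fin n) F) *ᵥ u' := ⟨_, rfl⟩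
  obtain ⟨gv, hgv⟩ : ∃ gv, gv = (g : Matrix (Fin n) (Fin n) F) *ᵥ v' := ⟨_, rfl⟩
  rw [← hgu, ← hgv] at ha'2
  have hdT := finrank_span_quad_le gu gv a' b'
  obtain ⟨u, hu, huT, hun⟩ := sing_out hq h2 (Submodule.span F {gu, gv, a', b'}) (by omega)
  have hguu : f gu u = 0 := huT gu (Submodule.subset_span (by simp))
  have hgvu : f gv u = 0 := huT gv (Submodule.subset_span (by simp))
  have ha'u : f a' u = 0 := huT a' (Submodule.subset_span (by simp))
  have hb'u : f b' u = 0 := huT b' (Submodule.subset_span (by simp))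
  have hu0 : u ≠ 0 := by
    rintro rfl
    exact hun (Submodule.zero_mem _)
  have ha'3 : a' ∉ Submodule.span F {gu, gv, u} := by
    intro hmem
    obtain ⟨α, β, γ, hαβγ⟩ := Submodule.mem_span_triple.1 hmem
    by_cases hγ : γ = 0
    · apply ha'2
      rw [Submodule.mem_span_pair]
      refine ⟨α, β, ?_⟩
      rw [← hαβγ, hγ, zero_smul, add_zero]
    · apply hun
      have e : u = γ⁻¹ • a' - (γ⁻¹ * α) • gu - (γ⁻¹ * β) • gv := by
        rw [← hαβγ, smul_add, smul_add, smul_smul, smul_smul, smul_smul, inv_mul_cancel₀ hγ,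
          one_smul]
        abel
      rw [e]
      exact Submodule.sub_mem _ (Submodule.sub_mem _
        (Submodule.smul_mem _ _ (Submodule.subset_span (by simp)))
        (Submodule.smul_mem _ _ (Submodule.subset_span (by simp))))
        (Submodule.smul_mem _ _ (Submodule.subset_span (by simp)))
  have hdS := finrank_span_triple_le gu gv u
  obtain ⟨v, hv, hvS, hva'⟩ := sing_val hq h2 (Submodule.span F {gu, gv, u}) a' ha'3 (by omega)
  have hguv : f gu v = 0 := hvS gu (Submodule.subset_span (by simp))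
  have hgvv : f gv v = 0 := hvS gv (Submodule.subset_span (by simp))
  have huv : f u v = 0 := hvS u (Submodule.subset_span (by simp))
  obtain ⟨t₁, ht₁⟩ := hG.ex u v 1 hu hv huv
  have ht₁M : t₁ ∈ M := hGM (hG.sg t₁ u v 1 hu hv huv ht₁)
  obtain ⟨t₂, ht₂⟩ := hG.ex u' v' 1 hu' hv' hu'v'
  have ht₂M : t₂ ∈ M := hGM (hG.sg t₂ u' v' 1 hu' hv' hu'v' ht₂)
  obtain ⟨s, hs⟩ : ∃ s, s = g * t₂ * g⁻¹ := ⟨_, rfl⟩
  have hsM : s ∈ M := by
    rw [hs]
    exact M.mul_mem (M.mul_mem hgM ht₂M) (M.inv_mem hgM)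
  have hsx : ∀ x, (s : Matrix (Fin n) (Fin n) F) *ᵥ x = x + f x a' • gv - f x b' • gu := by
    intro x
    rw [hs, Cfsg.Agent.S5643.mul_mv, Cfsg.Agent.S5643.mul_mv, ht₂]
    unfold Tv
    rw [one_smul, Matrix.mulVec_add, Matrix.mulVec_sub, Matrix.mulVec_smul, Matrix.mulVec_smul,
      Cfsg.Agent.S5643.inv_mv', s_symm hf u', s_symm hf v', ← ha', ← hb', hgu, hgv]
    abel
  obtain ⟨d, hd⟩ : ∃ d, d = f v b' := ⟨_, rfl⟩
  obtain ⟨w₀, hw₀⟩ : ∃ w₀, w₀ = gv - d • gu := ⟨_, rfl⟩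
  have hw₀u : f (-w₀) u = 0 := by
    rw [hw₀, f_neg_left hf, f_sub_left hf, hf.smul_left, hguu, hgvu]
    ring
  obtain ⟨τ, _, hτ⟩ := tvGL hf (-w₀) u hw₀u
  have hcomm : t₁ * s = τ * s * t₁ := by
    apply gl_ext
    intro x
    rw [Cfsg.Agent.S5643.mul_mv, Cfsg.Agent.S5643.mul_mv, Cfsg.Agent.S5643.mul_mv, hτ, hsx,
      hsx, ht₁, ht₁]
    unfold Tv
    simp only [hf.add_left, f_add_right hf, f_sub_left hf, f_sub_right hf, hf.smul_left,
      s_smul_right hf, one_smul]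
    rw [s_symm hf u gv, s_symm hf u gu, s_symm hf v gv, s_symm hf v gu, hgvu, hguu, hgvv, hguv,
      s_symm hf u a', s_symm hf u b', ha'u, hb'u, hva', ← hd, s_symm hf v u, huv,
      f_sing hq hu, hw₀, s_symm hf u x]
    module
  have hτM : τ ∈ M := by
    have e : τ = t₁ * s * t₁⁻¹ * s⁻¹ := by
      rw [hcomm]
      group
    rw [e]
    exact M.mul_mem (M.mul_mem (M.mul_mem ht₁M hsM) (M.inv_mem ht₁M)) (M.inv_mem hsM)
  refine ⟨u, -w₀, hu, hu0, hw₀u, ?_, ?_⟩
  · intro hmem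
    obtain ⟨c, hc⟩ := Submodule.mem_span_singleton.1 hmem
    by_cases hc0 : c = 0
    · rw [hc0, zero_smul] at hc
      apply hv'n
      have h1 : gv = d • gu := by
        have : w₀ = 0 := by
          rw [← neg_eq_zero]
          exact hc.symm
        rw [hw₀] at this
        exact sub_eq_zero.1 this
      have h3 : v' = d • u' := by
        have := congrArg (fun y => ((g⁻¹ : Matrix.GeneralLinearGroup (Fin n) F) :
          Matrix (Fin n) (Fin n) F) *ᵥ y) h1
        simp only [hgu, hgv, Matrix.mulVec_smul, Cfsg.Agent.S5643.inv_mv] at this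
        exact this
      rw [h3]
      exact Submodule.smul_mem _ _ (Submodule.subset_span (by simp))
    · apply hun
      have e : u = c⁻¹ • (-w₀) := by
        rw [← hc, smul_smul, inv_mul_cancel₀ hc0, one_smul]
      rw [e, hw₀]
      apply Submodule.smul_mem
      apply Submodule.neg_mem
      exact Submodule.sub_mem _ (Submodule.subset_span (by simp))
        (Submodule.smul_mem _ _ (Submodule.subset_span (by simp)))
  · intro g' hg'
    have : g' = τ := by
      apply gl_ext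
      intro x
      rw [hg', hτ]
    rw [this]
    exact hτM

end Cfsg.Agent.Lib.Helper28.OSim
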