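import Cfsg.Agent.Lib.Helper28.OTensW
import Cfsg.Agent.S5638

set_option autoImplicit false

open Cfsg

namespace Cfsg.Agent.Lib.Helper28.OTensC

open Matrix Kronecker Cfsg.Agent.Lib.Lead
  Cfsg.Agent.Lib.Helper28.HForm Cfsg.Agent.Lib.Helper28.OGen
  Cfsg.Agent.Lib.Helper28.OMax Cfsg.Agent.Lib.Helper28.OQ
  Cfsg.Agent.Lib.Helper28.OMax2 Cfsg.Agent.Lib.Helper28.OGenQ
  Cfsg.Agent.Lib.Helper28.OTrans Cfsg.Agent.Lib.Helper28.OAll
  Cfsg.Agent.Lib.Helper28.ONd Cfsg.Agent.Lib.Helper28.ONdW Cfsg.Agent.Lib.Helper28.ONdA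
  Cfsg.Agent.Lib.Helper28.OTens Cfsg.Agent.Lib.Helper28.OTensW
  Cfsg.Agent.Lib.Helper28.Transport Cfsg.Agent.S5638 Cfsg.Agent.S0795

section grp

variable {G : Type*} [Group G]

def invNorm (z : G) : Subgroup G where
  carrier := {g | g * z = z * g ∨ g * z = z⁻¹ * g}
  mul_mem' := by
    intro a b ha hb
    simp only [Set.mem_ofPred_eq] at ha hb ⊢
    rcases ha with ha | ha <;> rcases hb with hb | hb
    · left
      rw [mul_assoc, hb, ← mul_assoc, ha, mul_assoc]
    · right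
      rw [mul_assoc, hb, ← mul_assoc]
      have : a * z⁻¹ = z⁻¹ * a := by
        have h1 : z⁻¹ * (a * z) * z⁻¹ = z⁻¹ * (z * a) * z⁻¹ := by rw [ha]
        simp only [mul_assoc, mul_inv_cancel, mul_one, inv_mul_cancel_left] at h1
        exact h1.symm
      rw [this, mul_assoc]
    · right
      rw [mul_assoc, hb, ← mul_assoc, ha, mul_assoc]
    · left
      rw [mul_assoc, hb, ← mul_assoc]
      have : a * z⁻¹ = z * a := by
        have h1 : z * (a * z) * z⁻¹ = z * (z⁻¹ * a) * z⁻¹ := by rw [ha]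
        simp only [mul_assoc, mul_inv_cancel, mul_one, mul_inv_cancel_left] at h1
        exact h1.symm
      rw [this, mul_assoc]
  one_mem' := by
    left
    simp
  inv_mem' := by
    intro a ha
    simp only [Set.mem_ofPred_eq] at ha ⊢
    rcases ha with ha | ha
    · left
      have h1 : a⁻¹ * (a * z) * a⁻¹ = a⁻¹ * (z * a) * a⁻¹ := by rw [ha]
      simp only [mul_assoc, mul_inv_cancel, mul_one, inv_mul_cancel_left] at h1
      exact h1.symm
    · right
      have h1 : a⁻¹ * (a * z) * a⁻¹ = a⁻¹ * (z⁻¹ * a) * a⁻¹ := by rw [ha]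
      simp only [mul_assoc, mul_inv_cancel, mul_one, inv_mul_cancel_left] at h1
      have h2 : z⁻¹ * (z * a⁻¹) * z = z⁻¹ * (a⁻¹ * z⁻¹) * z := by rw [h1]
      simp only [mul_assoc, inv_mul_cancel, mul_one, inv_mul_cancel_left] at h2
      exact h2

theorem mem_invNorm (z g : G) : g ∈ invNorm z ↔ g * z = z * g ∨ g * z = z⁻¹ * g := Iff.rfl

end grp

section tens

variable {F : Type*} [Field F] {n₁ n₂ : ℕ} {ι : Type} [Fintype ι] [DecidableEq ι]
  (e : ι ≃ Fin n₁ × Fin n₂) (P : Matrix.GeneralLinearGroup ι F)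

omit [Fintype ι] in
theorem pt_single (k : ι) :
    pt (Pi.single (e k).1 (1 : F)) (Pi.single (e k).2 (1 : F)) ∘ e = Pi.single k (1 : F) := by
  funext k'
  simp only [Function.comp_apply, pt, Pi.single_apply]
  by_cases h : k' = k
  · subst h
    simp
  · have : ¬ ((e k').1 = (e k).1 ∧ (e k').2 = (e k).2) := by
      rintro ⟨h1, h2⟩
      exact h (e.injective (Prod.ext h1 h2))
    rw [if_neg h]
    by_cases h1 : (e k').1 = (e k).1
    · have h2 : ¬ (e k').2 = (e k).2 := fun h2 => this ⟨h1, h2⟩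
      rw [if_neg h2, mul_zero]
    · rw [if_neg h1, zero_mul]

theorem tau_ext (A B : Matrix ι ι F)
    (h : ∀ α v, A *ᵥ tau e P α v = B *ᵥ tau e P α v) : A = B := by
  have h1 : A * (P : Matrix ι ι F) = B * (P : Matrix ι ι F) := by
    apply Matrix.ext_of_mulVec_single
    intro k
    rw [← Matrix.mulVec_mulVec, ← Matrix.mulVec_mulVec, ← pt_single e k]
    exact h _ _
  have h2 := congrArg (fun M => M * ((P⁻¹ : Matrix.GeneralLinearGroup ι F) : Matrix ι ι F)) h1
  simp only [Matrix.mul_assoc, ← Units.val_mul, mul_inv_cancel, Units.val_one, Matrix.mul_one] at h2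
  exact h2

theorem gl_tau_ext (g g' : Matrix.GeneralLinearGroup ι F)
    (h : ∀ α v, (g : Matrix ι ι F) *ᵥ tau e P α v = (g' : Matrix ι ι F) *ᵥ tau e P α v) :
    g = g' :=
  Units.ext (tau_ext e P _ _ h)

theorem tau_inj_left {v : Fin n₂ → F} (hv : v ≠ 0) {α α' : Fin n₁ → F}
    (h : tau e P α v = tau e P α' v) : α = α' := by
  obtain ⟨j, hj⟩ : ∃ j, v j ≠ 0 := by
    by_contra hcon
    push Not at hcon
    exact hv (funext hcon)
  have h1 := tau_pt e P h
  funext i
  have h2 := congrFun h1 (i, j)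
  simp only [pt] at h2
  exact mul_right_cancel₀ hj h2

theorem tmap_tau (k : Matrix.GeneralLinearGroup (Fin n₁ × Fin n₂) F) (α : Fin n₁ → F)
    (v : Fin n₂ → F) :
    ((tmap e.symm P k : Matrix.GeneralLinearGroup ι F) : Matrix ι ι F) *ᵥ tau e P α v =
      (P : Matrix ι ι F) *ᵥ (((k : Matrix (Fin n₁ × Fin n₂) (Fin n₁ × Fin n₂) F) *ᵥ pt α v) ∘ e) := by
  unfold tau
  have h1 : (tmap e.symm P k : Matrix.GeneralLinearGroup ι F) =
      P * (Cfsg.Geo.glReindex e.symm k) * P⁻¹ := rfl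
  rw [h1, Units.val_mul, Units.val_mul, ← Matrix.mulVec_mulVec, ← Matrix.mulVec_mulVec,
    Cfsg.Agent.Lib.Helper28.DecGen.gl_cancel]
  congr 1
  have h2 : ((Cfsg.Geo.glReindex e.symm k : Matrix.GeneralLinearGroup ι F) : Matrix ι ι F) =
      (k : Matrix (Fin n₁ × Fin n₂) (Fin n₁ × Fin n₂) F).submatrix e e := rfl
  rw [h2, Matrix.submatrix_mulVec_equiv]
  congr 2
  funext ab
  simp

theorem om_mulVec (α : Fin 2 → F) : om F *ᵥ α = ![α 1, α 0 + α 1] := by
  funext i
  fin_cases i <;> simp [om, Matrix.mulVec, dotProduct, Fin.sum_univ_two]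

noncomputable def zT (h2 : (1 : F) + 1 = 0) (e : ι ≃ Fin 2 × Fin n₂)
    (P : Matrix.GeneralLinearGroup ι F) : Matrix.GeneralLinearGroup ι F :=
  tmap e.symm P (Zu h2 n₂)

theorem zT_tau (h2 : (1 : F) + 1 = 0) (e : ι ≃ Fin 2 × Fin n₂)
    (P : Matrix.GeneralLinearGroup ι F) (α : Fin 2 → F) (v : Fin n₂ → F) :
    ((zT h2 e P : Matrix.GeneralLinearGroup ι F) : Matrix ι ι F) *ᵥ tau e P α v =
      tau e P (om F *ᵥ α) v := by
  unfold zT
  rw [tmap_tau]
  have h1 : ((Zu h2 n₂ : Matrix.GeneralLinearGroup (Fin 2 × Fin n₂) F) :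
      Matrix (Fin 2 × Fin n₂) (Fin 2 × Fin n₂) F) = Zm n₂ F := rfl
  rw [h1, Zm_kron, kron_mulVec_pt, Matrix.one_mulVec]
  rfl

theorem zT_inv_tau (h2 : (1 : F) + 1 = 0) (e : ι ≃ Fin 2 × Fin n₂)
    (P : Matrix.GeneralLinearGroup ι F) (α : Fin 2 → F) (v : Fin n₂ → F) :
    (((zT h2 e P)⁻¹ : Matrix.GeneralLinearGroup ι F) : Matrix ι ι F) *ᵥ tau e P α v =
      tau e P (om F *ᵥ (om F *ᵥ α)) v := by
  unfold zT
  rw [← map_inv, tmap_tau]
  have h1 : (((Zu h2 n₂)⁻¹ : Matrix.GeneralLinearGroup (Fin 2 × Fin n₂) F) :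
      Matrix (Fin 2 × Fin n₂) (Fin 2 × Fin n₂) F) = Zm n₂ F * Zm n₂ F := rfl
  rw [h1, ← Matrix.mulVec_mulVec, Zm_kron, kron_mulVec_pt, kron_mulVec_pt, Matrix.one_mulVec,
    Matrix.one_mulVec]
  rfl

end tens

section main

variable {n : ℕ} {F : Type*} [Field F]

theorem vec2 (α : Fin 2 → F) : α = α 0 • ![(1 : F), 0] + α 1 • ![(0 : F), 1] := by
  funext i
  fin_cases i <;> simp

theorem tensC_fin [Fintype F] (hc2 : Fintype.card F = 2) (hn : 13 ≤ n)
    (Q : QuadraticForm F (Fin n → F)) (hQ : (QuadraticMap.polarBilin Q).Nondegenerate)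
    (n₂ : ℕ) (h2n : 2 < n₂) (e : Fin n ≃ Fin 2 × Fin n₂) (P : Matrix.GeneralLinearGroup (Fin n) F)
    (f₁ : (Fin 2 → F) → (Fin 2 → F) → F) (f₂ : (Fin n₂ → F) → (Fin n₂ → F) → F)
    (hf₁ : Cfsg.Geo.IsSymplecticForm f₁) (hf₂ : Cfsg.Geo.IsSymplecticForm f₂)
    (hT : Cfsg.Geo.IsTensorFormStructure id (QuadraticMap.polar (⇑Q)) f₁ f₂ e P)
    (hpure : ∀ (x₁ : Fin 2 → F) (x₂ : Fin n₂ → F), Q (tau e P x₁ x₂) = 0) :
    ∃ K : Subgroup (Matrix.GeneralLinearGroup (Fin n) F),
      Cfsg.Geo.tensorProductSubgroup 2 n₂ e P ⊓ Cfsg.Geo.omegaGL (⇑Q) < K ∧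
        K < Cfsg.Geo.omegaGL (⇑Q) := by
  classical
  have h2 := one_add_one hc2
  have hcases := Cfsg.Agent.S5635.f2_cases hc2
  have hneg : ∀ a : F, -a = a := by
    intro a
    have : a + a = 0 := by linear_combination a * h2
    exact neg_eq_of_add_eq_zero_left this
  have hq := qf_of_quad Q hQ
  have hf := hq.sym
  have vf := vfacts_quad (by omega) Q hQ
  have hG := sgGroupQ_quad (by omega) Q hQ
  obtain ⟨c, hc, hT'⟩ := hT
  have hc1 : c = 1 := (hcases c).resolve_left hc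
  have tf : ∀ α α' v v', pf Q (tau e P α v) (tau e P α' v') = f₁ α α' * f₂ v v' := by
    intro α α' v v'
    have := tform e P hf₁.bilinear hf₂.bilinear hT' α α' v v'
    rw [hc1, one_mul] at this
    exact this
  obtain ⟨e0, he0⟩ : ∃ x : Fin 2 → F, x = ![1, 0] := ⟨_, rfl⟩
  obtain ⟨e1, he1⟩ : ∃ x : Fin 2 → F, x = ![0, 1] := ⟨_, rfl⟩
  have he0n : e0 ≠ 0 := by
    rw [he0]
    intro h
    have := congrFun h 0
    simp at this
  have he1n : e1 ≠ 0 := by
    rw [he1]
    intro h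
    have := congrFun h 1
    simp at this
  have hvec : ∀ α : Fin 2 → F, α = α 0 • e0 + α 1 • e1 := by
    intro α
    rw [he0, he1]
    exact vec2 α
  have hd : f₁ e0 e1 = 1 := by
    obtain ⟨-, x, hx⟩ := hf₁.nondegenerate e0 he0n
    rw [hvec x, hf₁.bilinear.add_right, hf₁.bilinear.smul_right, hf₁.bilinear.smul_right,
      hf₁.alternating, mul_zero, zero_add] at hx
    have : f₁ e0 e1 ≠ 0 := fun h => hx (by rw [h, mul_zero])
    exact (hcases _).resolve_left this
  have hf10 : ∀ α, f₁ e0 α = α 1 := by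
    intro α
    conv_lhs => rw [hvec α]
    rw [hf₁.bilinear.add_right, hf₁.bilinear.smul_right, hf₁.bilinear.smul_right,
      hf₁.alternating, hd]
    ring
  have hf11 : ∀ α, f₁ e1 α = α 0 := by
    intro α
    conv_lhs => rw [hvec α]
    rw [hf₁.bilinear.add_right, hf₁.bilinear.smul_right, hf₁.bilinear.smul_right,
      hf₁.alternating, hf₁.skew e1 e0, hd, hneg]
    ring
  obtain ⟨u₁, hu₁⟩ : ∃ u : Fin n₂ → F, u = Pi.single (⟨0, by omega⟩ : Fin n₂) (1 : F) := ⟨_, rfl⟩
  have hu₁0 : u₁ ≠ 0 := by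
    rw [hu₁]
    intro h
    have := congrFun h ⟨0, by omega⟩
    simp at this
  obtain ⟨-, v₁, hv₁⟩ := hf₂.nondegenerate u₁ hu₁0
  have huv : f₂ u₁ v₁ = 1 := (hcases _).resolve_left hv₁
  have hvu : f₂ v₁ u₁ = 1 := by rw [hf₂.skew, huv, hneg]
  have huu : f₂ u₁ u₁ = 0 := hf₂.alternating u₁
  have hvv : f₂ v₁ v₁ = 0 := hf₂.alternating v₁
  obtain ⟨π, hπ⟩ : ∃ π : (Fin n₂ → F) → (Fin n₂ → F),
      π = fun v => f₂ u₁ v • v₁ + f₂ v₁ v • u₁ := ⟨_, rfl⟩
  have hπu : π u₁ = u₁ := by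
    rw [hπ]
    simp only [huu, hvu, zero_smul, one_smul, zero_add]
  have hππ : ∀ v, π (π v) = π v := by
    intro v
    rw [hπ]
    simp only [hf₂.bilinear.add_right, hf₂.bilinear.smul_right, huu, hvv, huv, hvu]
    simp
  obtain ⟨w, hw⟩ : ∃ w : Fin n₂ → F, w ∉ Submodule.span F ({u₁, v₁} : Set (Fin n₂ → F)) := by
    by_contra hcon
    push Not at hcon
    have hle : (⊤ : Submodule F (Fin n₂ → F)) ≤ Submodule.span F ({u₁, v₁} : Set (Fin n₂ → F)) :=
      fun w _ => hcon w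
    have h1 := Submodule.finrank_mono hle
    rw [finrank_top, Module.finrank_fin_fun] at h1
    have h3 : Module.finrank F (Submodule.span F ({u₁, v₁} : Set (Fin n₂ → F))) ≤ 2 := by
      have h4 : Module.finrank F (Submodule.span F
          ((({u₁, v₁} : Finset (Fin n₂ → F)) : Set (Fin n₂ → F)))) ≤
          ({u₁, v₁} : Finset (Fin n₂ → F)).card :=
        finrank_span_finset_le_card (R := F) ({u₁, v₁} : Finset (Fin n₂ → F))
      have h5 : ({u₁, v₁} : Finset (Fin n₂ → F)).card ≤ 2 := Finset.card_le_two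
      have h6 : ((({u₁, v₁} : Finset (Fin n₂ → F)) : Set (Fin n₂ → F))) = {u₁, v₁} := by simp
      rw [h6] at h4
      omega
    omega
  obtain ⟨s, hs⟩ : ∃ s : Fin n₂ → F, s = w + π w := ⟨_, rfl⟩
  have hs0 : s ≠ 0 := by
    intro h
    apply hw
    have : w = -(π w) := eq_neg_of_add_eq_zero_left (by rw [← hs, h])
    rw [this, hπ]
    apply Submodule.neg_mem
    apply Submodule.add_mem
    · exact Submodule.smul_mem _ _ (Submodule.subset_span (by simp))
    · exact Submodule.smul_mem _ _ (Submodule.subset_span (by simp))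
  have hπs : π s = 0 := by
    have hus : f₂ u₁ s = 0 := by
      rw [hs, hπ]
      simp only [hf₂.bilinear.add_right, hf₂.bilinear.smul_right, huu, huv]
      linear_combination f₂ u₁ w * h2
    have hvs : f₂ v₁ s = 0 := by
      rw [hs, hπ]
      simp only [hf₂.bilinear.add_right, hf₂.bilinear.smul_right, hvv, hvu]
      linear_combination f₂ v₁ w * h2
    rw [hπ]
    simp only [hus, hvs, zero_smul, add_zero]
  have tau0 : ∀ α, tau e P α (0 : Fin n₂ → F) = 0 := tau_zero_right e P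
  have hτne : ∀ i : Fin 2 → F, i ≠ 0 → ∀ v : Fin n₂ → F, v ≠ 0 → tau e P i v ≠ 0 := by
    intro i hi v hv h
    apply hv
    exact tau_inj e P hi (by rw [h, tau0])
  have hrho : ∀ x : Fin 2 → F, x ≠ 0 → ∃ r ∈ Cfsg.Geo.omegaGL (⇑Q), ∀ α v,
      (r : Matrix (Fin n) (Fin n) F) *ᵥ tau e P α v =
        tau e P α v + tau e P (f₁ x α • x) (π v) := by
    intro x hx
    have hU : Q (tau e P x u₁) = 0 := hpure _ _
    have hY : Q (tau e P x v₁) = 0 := hpure _ _
    have hYU : pf Q (tau e P x v₁) (tau e P x u₁) = 0 := by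
      rw [tf, hf₁.alternating, zero_mul]
    obtain ⟨r, hrG, hr⟩ := isRho_ex hq vf hG (tau e P x u₁) (tau e P x v₁) hU
      (hτne x hx u₁ hu₁0) hYU
    refine ⟨r, hrG, fun α v => ?_⟩
    rw [hr, hY, zero_mul, zero_smul, sub_zero, tf, tf, sub_eq_add_neg, ← neg_smul, hneg, hπ]
    simp only [tau_add_right, tau_smul_right, tau_smul_left]
    module
  obtain ⟨r₀, hr₀G, hr₀'⟩ := hrho e0 he0n
  obtain ⟨r₁, hr₁G, hr₁'⟩ := hrho e1 he1n
  have hr₀ : ∀ α v, (r₀ : Matrix (Fin n) (Fin n) F) *ᵥ tau e P α v =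
      tau e P α v + tau e P (α 1 • e0) (π v) := by
    intro α v
    rw [hr₀', hf10]
  have hr₁ : ∀ α v, (r₁ : Matrix (Fin n) (Fin n) F) *ᵥ tau e P α v =
      tau e P α v + tau e P (α 0 • e1) (π v) := by
    intro α v
    rw [hr₁', hf11]
  have he00 : e0 0 = 1 := by rw [he0]; rfl
  have he01 : e0 1 = 0 := by rw [he0]; rfl
  have he10 : e1 0 = 0 := by rw [he1]; rfl
  have he11 : e1 1 = 1 := by rw [he1]; rfl
  obtain ⟨z, hz⟩ : ∃ z : Matrix.GeneralLinearGroup (Fin n) F, z = zT h2 e P := ⟨_, rfl⟩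
  have hzτ : ∀ α v, (z : Matrix (Fin n) (Fin n) F) *ᵥ tau e P α v =
      tau e P (α 1 • e0 + (α 0 + α 1) • e1) v := by
    intro α v
    rw [hz, zT_tau, om_mulVec]
    congr 1
    funext i
    fin_cases i <;> simp [he00, he01, he10, he11]
  have hzi : ∀ α v, ((z⁻¹ : Matrix.GeneralLinearGroup (Fin n) F) : Matrix (Fin n) (Fin n) F) *ᵥ
      tau e P α v = tau e P ((α 0 + α 1) • e0 + α 0 • e1) v := by
    intro α v
    rw [hz, zT_inv_tau, om_mulVec, om_mulVec]
    congr 1
    funext i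
    fin_cases i
    · simp [he00, he10]
    · simp [he01, he11]
      linear_combination α 1 * h2
  refine ⟨invNorm z ⊓ Cfsg.Geo.omegaGL (⇑Q), ?_, ?_⟩
  · refine lt_of_le_of_ne ?_ ?_
    · rintro g ⟨hgT, hgΩ⟩
      refine ⟨?_, hgΩ⟩
      obtain ⟨a, b, hact⟩ := tens_act e P g hgT
      have hA : (a : Matrix (Fin 2) (Fin 2) F).det ≠ 0 := by
        have := a.isUnit
        have h1 := (Matrix.isUnit_iff_isUnit_det _).mp this
        exact h1.ne_zero
      show g * z = z * g ∨ g * z = z⁻¹ * g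
      rcases two_by_two hc2 (a : Matrix (Fin 2) (Fin 2) F) hA with h | h
      · left
        apply gl_tau_ext e P
        intro α v
        rw [Units.val_mul, Units.val_mul, ← Matrix.mulVec_mulVec, ← Matrix.mulVec_mulVec, hz,
          zT_tau, hact, hact, zT_tau, Matrix.mulVec_mulVec, Matrix.mulVec_mulVec, h]
      · right
        apply gl_tau_ext e P
        intro α v
        rw [Units.val_mul, Units.val_mul, ← Matrix.mulVec_mulVec, ← Matrix.mulVec_mulVec, hz,
          zT_tau, hact, hact, zT_inv_tau, Matrix.mulVec_mulVec, Matrix.mulVec_mulVec,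
          Matrix.mulVec_mulVec, h, Matrix.mul_assoc]
    · intro heq
      have hg : ∀ α v, ((r₀ * r₁ : Matrix.GeneralLinearGroup (Fin n) F) :
          Matrix (Fin n) (Fin n) F) *ᵥ tau e P α v =
          tau e P α v + tau e P ((α 0 + α 1) • e0 + α 0 • e1) (π v) := by
        intro α v
        rw [Units.val_mul, ← Matrix.mulVec_mulVec, hr₁, Matrix.mulVec_add, hr₀, hr₀, hππ]
        have h1 : (α 0 • e1) 1 = α 0 := by simp [he11]
        rw [h1]
        simp only [tau_add_left, tau_smul_left]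
        module
      have hgK : r₀ * r₁ ∈ invNorm z ⊓ Cfsg.Geo.omegaGL (⇑Q) := by
        refine ⟨?_, Subgroup.mul_mem _ hr₀G hr₁G⟩
        left
        apply gl_tau_ext e P
        intro α v
        rw [Units.val_mul (r₀ * r₁) z, Units.val_mul z (r₀ * r₁), ← Matrix.mulVec_mulVec,
          ← Matrix.mulVec_mulVec, hzτ, hg, hg, Matrix.mulVec_add, hzτ, hzτ]
        congr 2
        funext i
        fin_cases i
        · simp [he00, he01, he10, he11]
          linear_combination α 1 * h2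
        · simp [he00, he01, he10, he11]
          linear_combination (-α 0) * h2
      rw [← heq] at hgK
      obtain ⟨a, b, hact⟩ := tens_act e P _ hgK.1
      have h1 := hact e0 s
      rw [hg, hπs, tau0, add_zero] at h1
      have h2' := hact e0 u₁
      rw [hg, hπu, ← tau_add_left] at h2'
      obtain ⟨j, hj⟩ : ∃ j, s j ≠ 0 := by
        by_contra hcon
        push Not at hcon
        exact hs0 (funext hcon)
      have p1 := tau_pt e P h1
      have q0 := congrFun p1 (0, j)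
      have q1 := congrFun p1 (1, j)
      simp only [pt, he00, he01, one_mul, zero_mul] at q0 q1
      have hbs : ((b : Matrix (Fin n₂) (Fin n₂) F) *ᵥ s) j ≠ 0 := by
        intro h
        rw [h, mul_zero] at q0
        exact hj q0
      have ha1 : ((a : Matrix (Fin 2) (Fin 2) F) *ᵥ e0) 1 = 0 := by
        rcases mul_eq_zero.1 q1.symm with h | h
        · exact h
        · exact absurd h hbs
      obtain ⟨j', hj'⟩ : ∃ j, u₁ j ≠ 0 := by
        by_contra hcon
        push Not at hcon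
        exact hu₁0 (funext hcon)
      have p2 := tau_pt e P h2'
      have q2 := congrFun p2 (1, j')
      simp only [pt, ha1, zero_mul] at q2
      simp [he00, he01, he11] at q2
      exact hj' q2
  · refine lt_of_le_of_ne inf_le_right ?_
    intro heq
    have hmem : r₀ ∈ invNorm z ⊓ Cfsg.Geo.omegaGL (⇑Q) := by
      rw [heq]
      exact hr₀G
    rcases hmem.1 with h | h
    · have h1 := congrArg (fun g : Matrix.GeneralLinearGroup (Fin n) F =>
        (g : Matrix (Fin n) (Fin n) F) *ᵥ tau e P e1 u₁) h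
      simp only [Units.val_mul, ← Matrix.mulVec_mulVec] at h1
      rw [hzτ, hr₀, hr₀, hπu, ← tau_add_left, ← tau_add_left, hzτ] at h1
      have h3 := congrFun (tau_inj_left e P hu₁0 h1) 0
      simp [he00, he01, he10, he11] at h3
    · have h1 := congrArg (fun g : Matrix.GeneralLinearGroup (Fin n) F =>
        (g : Matrix (Fin n) (Fin n) F) *ᵥ tau e P e0 s) h
      simp only [Units.val_mul, ← Matrix.mulVec_mulVec] at h1
      rw [hzτ, hr₀, hr₀, hπs, tau0, tau0, add_zero, add_zero, hzi] at h1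
      have h3 := congrFun (tau_inj_left e P hs0 h1) 0
      simp [he00, he01, he10] at h3

end main

end Cfsg.Agent.Lib.Helper28.OTensC
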