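import Cfsg.Agent.Lib.Helper28.OTens
import Cfsg.Agent.S5647

set_option autoImplicit false

open Cfsg

namespace Cfsg.Agent.Lib.Helper28.OTensSp

open Matrix Kronecker Cfsg.Agent.Lib.helper6 Cfsg.Agent.S5646 Cfsg.Agent.Lib.Helper28.OTens

variable {ι : Type} [Fintype ι] [DecidableEq ι] {F : Type*} [Field F] {n₁ n₂ : ℕ}

theorem tensor_swap_le (e : ι ≃ Fin n₁ × Fin n₂) (P : Matrix.GeneralLinearGroup ι F) :
    Cfsg.Geo.tensorProductSubgroup n₁ n₂ e P ≤
      Cfsg.Geo.tensorProductSubgroup n₂ n₁ (e.trans (Equiv.prodComm (Fin n₁) (Fin n₂))) P := by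
  rintro g ⟨k', ⟨k, ⟨a, b, hk⟩, rfl⟩, rfl⟩
  refine ⟨_, ⟨Cfsg.Geo.glReindex (Equiv.prodComm (Fin n₁) (Fin n₂)) k, ⟨b, a, ?_⟩, rfl⟩, ?_⟩
  · ext ⟨i₂, i₁⟩ ⟨j₂, j₁⟩
    show (k : Matrix (Fin n₁ × Fin n₂) (Fin n₁ × Fin n₂) F) (i₁, i₂) (j₁, j₂) = _
    rw [hk]
    simp [mul_comm]
  · congr 1

theorem form_swap (G₁ : Matrix (Fin n₁) (Fin n₁) F) (G₂ : Matrix (Fin n₂) (Fin n₂) F)
    (x y : Fin n₂ × Fin n₁ → F) :
    Cfsg.Geo.formOfGram id (G₁ ⊗ₖ G₂) (x ∘ Equiv.prodComm (Fin n₁) (Fin n₂))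
      (y ∘ Equiv.prodComm (Fin n₁) (Fin n₂)) = Cfsg.Geo.formOfGram id (G₂ ⊗ₖ G₁) x y := by
  unfold Cfsg.Geo.formOfGram
  rw [← Equiv.sum_comp (Equiv.prodComm (Fin n₁) (Fin n₂))]
  apply Finset.sum_congr rfl
  intro p _
  rw [← Equiv.sum_comp (Equiv.prodComm (Fin n₁) (Fin n₂))]
  apply Finset.sum_congr rfl
  intro p' _
  obtain ⟨a, b⟩ := p
  obtain ⟨a', b'⟩ := p'
  simp [mul_comm]


theorem tau_zero_right' (e : ι ≃ Fin n₁ × Fin n₂) (P : Matrix.GeneralLinearGroup ι F)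
    (α : Fin n₁ → F) : tau e P α (0 : Fin n₂ → F) = 0 := by
  have := tau_smul_right e P 0 α 0
  rw [zero_smul, zero_smul] at this
  exact this

theorem tens3_sp [Fintype F] (hc3 : Fintype.card F = 3) (m : ℕ) (hm : 7 ≤ m) (n₁ : ℕ)
    (e : (Fin m ⊕ Fin m) ≃ Fin n₁ × Fin 3) (P : Matrix.GeneralLinearGroup (Fin m ⊕ Fin m) F)
    (f₁ : (Fin n₁ → F) → (Fin n₁ → F) → F) (f₂ : (Fin 3 → F) → (Fin 3 → F) → F)
    (hf₁ : Cfsg.Geo.IsSymplecticForm f₁) (hf₂ : Cfsg.Geo.IsSymmetricForm f₂)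
    (hT : Cfsg.Geo.IsTensorFormStructure id (Cfsg.sympForm m F) f₁ f₂ e P) :
    ∃ K : Subgroup (Matrix.GeneralLinearGroup (Fin m ⊕ Fin m) F),
      Cfsg.Geo.tensorProductSubgroup n₁ 3 e P ⊓ Cfsg.spGL m F < K ∧ K < Cfsg.spGL m F := by
  classical
  have hcard : 2 * m = n₁ * 3 := by
    have := Fintype.card_congr e
    simp only [Fintype.card_sum, Fintype.card_fin, Fintype.card_prod] at this
    omega
  obtain ⟨e', he'⟩ : ∃ e' : (Fin m ⊕ Fin m) ≃ Fin 3 × Fin n₁,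
      e' = e.trans (Equiv.prodComm (Fin n₁) (Fin 3)) := ⟨_, rfl⟩
  obtain ⟨c, hc, hT0⟩ := hT
  have hT' : ∀ x y : Fin 3 × Fin n₁ → F,
      Cfsg.sympForm m F ((P : Matrix (Fin m ⊕ Fin m) (Fin m ⊕ Fin m) F) *ᵥ (x ∘ e'))
        ((P : Matrix (Fin m ⊕ Fin m) (Fin m ⊕ Fin m) F) *ᵥ (y ∘ e')) =
        c * Cfsg.Geo.formOfGram id (Cfsg.Geo.gramMatrix f₂ ⊗ₖ Cfsg.Geo.gramMatrix f₁) x y := by
    intro x y
    have := hT0 (x ∘ Equiv.prodComm (Fin n₁) (Fin 3)) (y ∘ Equiv.prodComm (Fin n₁) (Fin 3))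
    rw [form_swap] at this
    rw [he']
    exact this
  obtain ⟨X, δ, hδ, hXX, hXo, hXP⟩ := frame3 hc3 hf₂
  have hX0 : ∀ i, X i ≠ 0 := by
    intro i h
    have := hXX i
    rw [h, bil_zero_left hf₂.bilinear] at this
    exact hδ this.symm
  have tf : ∀ α α' v v', Cfsg.sympForm m F (tau e' P α v) (tau e' P α' v') =
      c * (f₂ α α' * f₁ v v') :=
    fun α α' v v' => tform e' P hf₂.bilinear hf₁.bilinear hT' α α' v v'
  obtain ⟨D, hD⟩ : ∃ D : Fin 3 → Submodule F (Fin m ⊕ Fin m → F),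
      D = fun i => blk e' P (X i) := ⟨_, rfl⟩
  have hDmem : ∀ i w, w ∈ D i ↔ ∃ v, tau e' P (X i) v = w := by
    intro i w
    rw [hD]
    exact mem_blk e' P _ _
  have hfr : ∀ i, Module.finrank F (D i) = n₁ := by
    intro i
    rw [hD]
    exact blk_finrank e' P (hX0 i)
  have horth : ∀ i j, i ≠ j → ∀ x ∈ D i, ∀ y ∈ D j, Cfsg.sympForm m F x y = 0 := by
    intro i j hij x hx y hy
    obtain ⟨v, rfl⟩ := (hDmem i x).1 hx
    obtain ⟨v', rfl⟩ := (hDmem j y).1 hy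
    rw [tf, hXo i j hij]
    ring
  have hnd : ∀ i, ∀ w ∈ D i, w ≠ 0 → ∃ x ∈ D i, Cfsg.sympForm m F x w ≠ 0 := by
    intro i w hw hw0
    obtain ⟨v, rfl⟩ := (hDmem i w).1 hw
    have hv0 : v ≠ 0 := by
      rintro rfl
      exact hw0 (tau_zero_right' e' P (X i))
    obtain ⟨⟨x, hx⟩, -⟩ := hf₁.nondegenerate v hv0
    refine ⟨tau e' P (X i) x, (hDmem i _).2 ⟨_, rfl⟩, ?_⟩
    rw [tf, hXX]
    exact mul_ne_zero hc (mul_ne_zero hδ hx)
  have hdisj : ∀ i j, i ≠ j → ∀ w, w ∈ D i → w ∈ D j → w = 0 := by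
    intro i j hij w hwi hwj
    by_contra hw0
    obtain ⟨x, hx, hxw⟩ := hnd i w hwi hw0
    exact hxw (horth i j hij x hx w hwj)
  have hnd₁ : ∃ v v', f₁ v v' ≠ 0 := by
    have h0 : (Pi.single (⟨0, by omega⟩ : Fin n₁) (1 : F) : Fin n₁ → F) ≠ 0 := by
      intro h
      have := congrFun h ⟨0, by omega⟩
      simp at this
    obtain ⟨⟨x, hx⟩, -⟩ := hf₁.nondegenerate _ h0
    exact ⟨x, _, hx⟩
  obtain ⟨a, haD, ha0⟩ := Cfsg.Agent.Lib.Helper28.DecGen.exists_ne_zero (D 0) (hfr 0)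
    (by omega : 0 < n₁)
  obtain ⟨b, hbD, hb0⟩ := Cfsg.Agent.Lib.Helper28.DecGen.exists_ne_zero (D 1) (hfr 1)
    (by omega : 0 < n₁)
  obtain ⟨a', ha'D, ha'⟩ := hnd 0 a haD ha0
  refine ⟨Cfsg.Geo.decompositionStabilizer D ⊓ Cfsg.spGL m F, ?_, ?_⟩
  · refine lt_of_le_of_ne ?_ ?_
    · rintro g ⟨hgT, hgS⟩
      refine ⟨?_, hgS⟩
      rw [hD]
      have hgT' := tensor_swap_le e P hgT
      rw [← he'] at hgT'
      exact tens_stab hc3 e' P hf₂ hf₁.bilinear hnd₁ hc hT' X δ hδ hXX hXP hXo g hgT'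
        ((mem_spGL_iff g).1 hgS)
    · intro heq
      obtain ⟨r, hr, hrS⟩ := tsGL a (1 : F)
      have hrK : r ∈ Cfsg.Geo.decompositionStabilizer D ⊓ Cfsg.spGL m F := by
        refine ⟨Cfsg.Agent.Lib.Helper28.DecGen.stab_of_maps D hfr r 1 ?_, hrS⟩
        intro i x hx
        rw [ts_apply r a 1 hr, Equiv.Perm.one_apply]
        by_cases hi : i = 0
        · subst hi
          exact (D 0).add_mem hx ((D 0).smul_mem _ haD)
        · rw [horth i 0 hi x hx a haD, mul_zero, zero_smul, add_zero]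
          exact hx
      rw [← heq] at hrK
      have hrT := tensor_swap_le e P hrK.1
      rw [← he'] at hrT
      have hra' : (r : Matrix (Fin m ⊕ Fin m) (Fin m ⊕ Fin m) F) *ᵥ a' =
          a' + Cfsg.sympForm m F a' a • a := by
        rw [ts_apply r a 1 hr, one_mul]
      obtain ⟨μ, hμ⟩ := tens_scalar e' P r hrT (X 0) (X 1) (hX0 0) (hX0 1)
        (by
          intro w hw
          have hw' : w ∈ D 1 := by
            rw [hD]
            exact hw
          rw [ts_apply r a 1 hr, horth 1 0 (by decide) w hw' a haD, mul_zero, zero_smul,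
            add_zero])
        a' (by rw [hD] at ha'D; exact ha'D)
        (by
          rw [hra']
          have := (D 0).add_mem ha'D ((D 0).smul_mem (Cfsg.sympForm m F a' a) haD)
          rw [hD] at this
          exact this)
      rw [hra'] at hμ
      have h1 : Cfsg.sympForm m F (a' + Cfsg.sympForm m F a' a • a) a =
          Cfsg.sympForm m F (μ • a') a := by rw [hμ]
      rw [sympForm_add_left, sympForm_smul_left, sympForm_smul_left, sympForm_self, mul_zero,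
        add_zero] at h1
      have hμ1 : μ = 1 := by
        have : (μ - 1) * Cfsg.sympForm m F a' a = 0 := by linear_combination -h1
        rcases mul_eq_zero.1 this with h | h
        · exact sub_eq_zero.1 h
        · exact absurd h ha'
      rw [hμ1, one_smul] at hμ
      have h2 : Cfsg.sympForm m F a' a • a = 0 := by
        have := congrArg (fun z => z - a') hμ
        simpa using this
      rcases smul_eq_zero.1 h2 with h | h
      · exact ha' h
      · exact ha0 h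
  · refine lt_of_le_of_ne inf_le_right ?_
    intro heq
    obtain ⟨g, hg, hgS⟩ := tsGL (a + b) (1 : F)
    rw [← heq] at hgS
    obtain ⟨⟨σ, hσ⟩, -⟩ := hgS
    have h1 : (g : Matrix (Fin m ⊕ Fin m) (Fin m ⊕ Fin m) F) *ᵥ a' ∈ D (σ 0) := by
      rw [← hσ 0]
      exact ⟨a', ha'D, by rw [Matrix.toLin'_apply]⟩
    rw [ts_apply g _ _ hg, one_mul, sympForm_add_right, horth 0 1 (by decide) a' ha'D b hbD,
      add_zero, smul_add, ← add_assoc] at h1
    obtain ⟨p, hp⟩ : ∃ p, p = a' + Cfsg.sympForm m F a' a • a := ⟨_, rfl⟩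
    obtain ⟨q, hq⟩ : ∃ q, q = Cfsg.sympForm m F a' a • b := ⟨_, rfl⟩
    rw [← hp, ← hq] at h1
    have hpD : p ∈ D 0 := by
      rw [hp]
      exact (D 0).add_mem ha'D ((D 0).smul_mem _ haD)
    have hqD : q ∈ D 1 := by
      rw [hq]
      exact (D 1).smul_mem _ hbD
    have hq0 : q ≠ 0 := by
      rw [hq]
      exact smul_ne_zero ha' hb0
    have hpa : Cfsg.sympForm m F p a ≠ 0 := by
      rw [hp, sympForm_add_left, sympForm_smul_left, sympForm_self, mul_zero, add_zero]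
      exact ha'
    have hp0 : p ≠ 0 := by
      rintro rfl
      exact hpa (sympForm_zero_left m a)
    have hcases : σ 0 = 0 ∨ σ 0 = 1 ∨ σ 0 = 2 := by
      rcases σ 0 with ⟨k, hk⟩
      interval_cases k
      · exact Or.inl rfl
      · exact Or.inr (Or.inl rfl)
      · exact Or.inr (Or.inr rfl)
    rcases hcases with h | h | h
    · rw [h] at h1
      have hq' : q ∈ D 0 := by
        have := (D 0).sub_mem h1 hpD
        rwa [add_sub_cancel_left] at this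
      exact hq0 (hdisj 0 1 (by decide) q hq' hqD)
    · rw [h] at h1
      have hp' : p ∈ D 1 := by
        have := (D 1).sub_mem h1 hqD
        rwa [add_sub_cancel_right] at this
      exact hp0 (hdisj 0 1 (by decide) p hpD hp')
    · rw [h] at h1
      have h2 := horth 2 0 (by decide) (p + q) h1 a haD
      rw [sympForm_add_left, horth 1 0 (by decide) q hqD a haD, add_zero] at h2
      exact hpa h2

end Cfsg.Agent.Lib.Helper28.OTensSp
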