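import Cfsg.Agent.Lib.Helper28.OTensW

set_option autoImplicit false

open Cfsg

namespace Cfsg.Agent.Lib.Helper28.OTensT

open Matrix Kronecker Cfsg.Agent.Lib.Lead Cfsg.Agent.Lib.Helper28.OTrans
  Cfsg.Agent.Lib.Helper28.OFrameT Cfsg.Agent.Lib.Helper28.OTensW Cfsg.Agent.Lib.Helper28.ONdA

variable {ι κ : Type} [Fintype ι] [DecidableEq ι] [Fintype κ] [DecidableEq κ]
  {F : Type*} [Field F] {n₁ n₂ : ℕ}

theorem reindex_reindex (e₀ : ι ≃ κ) (e : ι ≃ Fin n₁ × Fin n₂)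
    (k : Matrix.GeneralLinearGroup (Fin n₁ × Fin n₂) F) :
    RI.glReindex (F := F) e₀ (Cfsg.Geo.glReindex e.symm k) =
      Cfsg.Geo.glReindex (e₀.symm.trans e).symm k := by
  apply Units.ext
  ext i j
  rfl

theorem map_tensor (e₀ : ι ≃ κ) (e : ι ≃ Fin n₁ × Fin n₂) (P : Matrix.GeneralLinearGroup ι F) :
    (Cfsg.Geo.tensorProductSubgroup n₁ n₂ e P).map (RI.glReindex (F := F) e₀).toMonoidHom =
      Cfsg.Geo.tensorProductSubgroup n₁ n₂ (e₀.symm.trans e) (RI.glReindex (F := F) e₀ P) := by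
  ext g
  constructor
  · rintro ⟨h, ⟨k', ⟨k, hk, rfl⟩, rfl⟩, rfl⟩
    refine ⟨Cfsg.Geo.glReindex (e₀.symm.trans e).symm k, ⟨k, hk, rfl⟩, ?_⟩
    show RI.glReindex (F := F) e₀ P * Cfsg.Geo.glReindex (e₀.symm.trans e).symm k *
      (RI.glReindex (F := F) e₀ P)⁻¹ = RI.glReindex (F := F) e₀
        (P * Cfsg.Geo.glReindex e.symm k * P⁻¹)
    rw [map_mul, map_mul, map_inv, reindex_reindex]
  · rintro ⟨k', ⟨k, hk, rfl⟩, rfl⟩
    refine ⟨P * Cfsg.Geo.glReindex e.symm k * P⁻¹, ⟨Cfsg.Geo.glReindex e.symm k, ⟨k, hk, rfl⟩, rfl⟩,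
      ?_⟩
    show RI.glReindex (F := F) e₀ (P * Cfsg.Geo.glReindex e.symm k * P⁻¹) =
      RI.glReindex (F := F) e₀ P * Cfsg.Geo.glReindex (e₀.symm.trans e).symm k *
      (RI.glReindex (F := F) e₀ P)⁻¹
    rw [map_mul, map_mul, map_inv, reindex_reindex]

theorem tensorForm_reindex (e₀ : ι ≃ κ) (Q : QuadraticForm F (ι → F))
    (e : ι ≃ Fin n₁ × Fin n₂) (P : Matrix.GeneralLinearGroup ι F)
    (f₁ : (Fin n₁ → F) → (Fin n₁ → F) → F) (f₂ : (Fin n₂ → F) → (Fin n₂ → F) → F)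
    (hT : Cfsg.Geo.IsTensorFormStructure id (QuadraticMap.polar (⇑Q)) f₁ f₂ e P) :
    Cfsg.Geo.IsTensorFormStructure id (QuadraticMap.polar (⇑(RI.qReindex e₀ Q))) f₁ f₂
      (e₀.symm.trans e) (RI.glReindex (F := F) e₀ P) := by
  obtain ⟨c, hc, h⟩ := hT
  refine ⟨c, hc, fun x y => ?_⟩
  have hP : ∀ z : Fin n₁ × Fin n₂ → F,
      ((RI.glReindex (F := F) e₀ P : Matrix.GeneralLinearGroup κ F) : Matrix κ κ F) *ᵥ
        (z ∘ (e₀.symm.trans e)) = ((P : Matrix ι ι F) *ᵥ (z ∘ e)) ∘ e₀.symm := by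
    intro z
    rw [RI.glReindex_coe, RI.reindex_mulVec]
    congr 2
    funext i
    simp
  have hQc : ∀ u : ι → F, (RI.qReindex e₀ Q) (u ∘ e₀.symm) = Q u := by
    intro u
    show Q ((u ∘ e₀.symm) ∘ e₀) = Q u
    rw [comp_symm_comp]
  have hpc : ∀ u w : ι → F, QuadraticMap.polar (⇑(RI.qReindex e₀ Q)) (u ∘ e₀.symm) (w ∘ e₀.symm) =
      QuadraticMap.polar (⇑Q) u w := by
    intro u w
    unfold QuadraticMap.polar
    have : u ∘ e₀.symm + w ∘ e₀.symm = (u + w) ∘ e₀.symm := rfl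
    rw [this, hQc, hQc, hQc]
  rw [hP, hP, hpc]
  exact h x y

theorem tens3_any {ι : Type} [Fintype ι] [DecidableEq ι] {F : Type*} [Field F] [Fintype F]
    (hc3 : Fintype.card F = 3) (hn : 13 ≤ Fintype.card ι)
    (Q : QuadraticForm F (ι → F)) (hQ : (QuadraticMap.polarBilin Q).Nondegenerate)
    (n₂ : ℕ) (e : ι ≃ Fin 3 × Fin n₂) (P : Matrix.GeneralLinearGroup ι F)
    (f₁ : (Fin 3 → F) → (Fin 3 → F) → F) (f₂ : (Fin n₂ → F) → (Fin n₂ → F) → F)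
    (hf₁ : Cfsg.Geo.IsSymmetricForm f₁) (hf₂ : Cfsg.Geo.IsSymmetricForm f₂)
    (hT : Cfsg.Geo.IsTensorFormStructure id (QuadraticMap.polar (⇑Q)) f₁ f₂ e P) :
    ∃ K : Subgroup (Matrix.GeneralLinearGroup ι F),
      Cfsg.Geo.tensorProductSubgroup 3 n₂ e P ⊓ Cfsg.Geo.omegaGL (⇑Q) < K ∧
        K < Cfsg.Geo.omegaGL (⇑Q) := by
  obtain ⟨e₀, he₀⟩ : ∃ e₀ : ι ≃ Fin (Fintype.card ι), e₀ = Fintype.equivFin ι := ⟨_, rfl⟩
  apply nonmax_map (RI.glReindex (F := F) e₀)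
  rw [map_omegaGL, map_tensor]
  exact tens3_fin hc3 hn (RI.qReindex e₀ Q) (RI.qReindex_nondeg e₀ Q hQ) n₂ _ _ f₁ f₂ hf₁ hf₂
    (tensorForm_reindex e₀ Q e P f₁ f₂ hT)

end Cfsg.Agent.Lib.Helper28.OTensT
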