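import Cfsg.Agent.Lib.Helper28.OTens
import Cfsg.Agent.Lib.Helper28.OFrameT

set_option autoImplicit false

open Cfsg

namespace Cfsg.Agent.Lib.Helper28.OTensW

open Matrix Kronecker Cfsg.Agent.Lib.Lead
  Cfsg.Agent.Lib.Helper28.HForm Cfsg.Agent.Lib.Helper28.OGen
  Cfsg.Agent.Lib.Helper28.OMax Cfsg.Agent.Lib.Helper28.OQ
  Cfsg.Agent.Lib.Helper28.OMax2 Cfsg.Agent.Lib.Helper28.OGenQ
  Cfsg.Agent.Lib.Helper28.OTrans Cfsg.Agent.Lib.Helper28.OAll
  Cfsg.Agent.Lib.Helper28.ONd Cfsg.Agent.Lib.Helper28.ONdW Cfsg.Agent.Lib.Helper28.ONdA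
  Cfsg.Agent.Lib.Helper28.OFrame Cfsg.Agent.Lib.Helper28.OFrameT
  Cfsg.Agent.Lib.Helper28.OPlane Cfsg.Agent.Lib.Helper28.OTens Cfsg.Agent.S0795
  Cfsg.Agent.Lib.Helper28.OHull Cfsg.Agent.Lib.Helper28.OChar2 Cfsg.Agent.Lib.Helper28.OIwa

variable {n : ℕ} {F : Type*} [Field F] {Q : (Fin n → F) → F}
  {f : (Fin n → F) → (Fin n → F) → F}

theorem nd_strict_wit [Fintype F] (hq : QF Q f) (hn : 7 ≤ n)
    {G : Subgroup (Matrix.GeneralLinearGroup (Fin n) F)} (hG : SgGroupQ Q f G)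
    {W O : Submodule F (Fin n → F)} (sp : Split f W O) (hW0 : W ≠ ⊥)
    (h3 : Module.finrank F W + 3 ≤ n) :
    ∃ t ∈ G, ∃ w ∈ W, w ≠ 0 ∧ ∃ u ∈ O, u ≠ 0 ∧
      (t : Matrix (Fin n) (Fin n) F) *ᵥ w = w + -u := by
  have hf := hq.sym
  obtain ⟨u, huO, hu, hu0, -, -⟩ := split_sing hq sp 0 Fin.elim0 (by omega)
  obtain ⟨w, hwW, hw0⟩ := Submodule.exists_mem_ne_zero_of_ne_bot hW0
  have hws : w ∉ Submodule.span F {u} := by
    intro h
    obtain ⟨a, rfl⟩ := Submodule.mem_span_singleton.1 h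
    exact hw0 (sp.inf hf hwW (O.smul_mem a huO))
  have hfr : Module.finrank F (Submodule.span F ({u} : Set (Fin n → F))) = 1 :=
    finrank_span_singleton hu0
  obtain ⟨v, hv, hvS, hvw⟩ := sing_val_cf hq (Submodule.span F {u}) w hws (by omega)
  have huv : f u v = 0 := hvS u (Submodule.mem_span_singleton_self u)
  obtain ⟨t, ht⟩ := hG.ex u v 1 hu hv huv
  have htG : t ∈ G := hG.sg t u v 1 hu hv huv ht
  refine ⟨t, htG, w, hwW, hw0, u, huO, hu0, ?_⟩
  rw [ht w]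
  unfold Tv
  rw [hvw, s_symm hf u w, sp.orth w hwW u huO, zero_smul, zero_sub, one_smul, one_smul]

theorem split_rho_wit [Fintype F] (hq : QF Q f) (vf : VFacts Q f)
    {G : Subgroup (Matrix.GeneralLinearGroup (Fin n) F)} (hG : SgGroupQ Q f G)
    {W O : Submodule F (Fin n → F)} (sp : Split f W O)
    (h5 : Module.finrank F W + 5 ≤ n) :
    ∃ r ∈ G, (∀ x ∈ W, (r : Matrix (Fin n) (Fin n) F) *ᵥ x = x) ∧
      (∀ x ∈ O, (r : Matrix (Fin n) (Fin n) F) *ᵥ x ∈ O) ∧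
      ∃ s ∈ O, ¬ ∃ μ : F, (r : Matrix (Fin n) (Fin n) F) *ᵥ s = μ • s := by
  have hf := hq.sym
  obtain ⟨u, huO, hu, hu0, -, -⟩ := split_sing hq sp 0 Fin.elim0 (by omega)
  obtain ⟨y, hyO, hy, hy0, hyu, hyn⟩ := split_sing hq sp 1 (fun _ => u) (by omega)
  have huy : f u y = 0 := hyu 0
  have hyu' : f y u = 0 := by rw [s_symm hf, huy]
  obtain ⟨r, hrG, hr⟩ := isRho_ex hq vf hG u y hu hu0 hyu'
  obtain ⟨s, hsO, hss, hsu⟩ := split_partner hq sp huO hu0 hu
  refine ⟨r, hrG, ?_, ?_, s, hsO, ?_⟩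
  · intro x hx
    exact isRho_fix hr (by rw [s_symm hf]; exact sp.orth x hx u huO)
      (by rw [s_symm hf]; exact sp.orth x hx y hyO)
  · intro x hx
    rw [hr x]
    exact O.sub_mem (O.sub_mem (O.add_mem hx (O.smul_mem _ hyO)) (O.smul_mem _ huO))
      (O.smul_mem _ huO)
  · rintro ⟨μ, hμ⟩
    rw [hr s, hy, zero_mul, zero_smul, sub_zero, s_symm hf u s, hsu, one_smul] at hμ
    have h1 : f (s + y - f y s • u) u = f (μ • s) u := by rw [hμ]
    rw [f_sub_left hf, hf.add_left, hf.smul_left, hf.smul_left, hsu, hyu', f_sing hq hu] at h1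
    have hμ1 : μ = 1 := by linear_combination -h1
    rw [hμ1, one_smul] at hμ
    apply hyn
    apply Submodule.mem_sup_right
    rw [Set.range_const]
    rw [Submodule.mem_span_singleton]
    refine ⟨f y s, ?_⟩
    have : y = f y s • u := by
      have h2 : s + y - f y s • u - s = 0 := by rw [hμ, sub_self]
      have e : s + y - f y s • u - s = y - f y s • u := by abel
      rw [e] at h2
      exact sub_eq_zero.1 h2
    exact this.symm


theorem tau_zero_right {ι : Type} [Fintype ι] [DecidableEq ι] {n₁ n₂ : ℕ}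
    (e : ι ≃ Fin n₁ × Fin n₂) (P : Matrix.GeneralLinearGroup ι F) (α : Fin n₁ → F) :
    tau e P α (0 : Fin n₂ → F) = 0 := by
  have := tau_smul_right e P 0 α 0
  rw [zero_smul, zero_smul] at this
  exact this

theorem tens3_fin [Fintype F] (hc3 : Fintype.card F = 3) (hn : 13 ≤ n)
    (Q : QuadraticForm F (Fin n → F)) (hQ : (QuadraticMap.polarBilin Q).Nondegenerate)
    (n₂ : ℕ) (e : Fin n ≃ Fin 3 × Fin n₂) (P : Matrix.GeneralLinearGroup (Fin n) F)
    (f₁ : (Fin 3 → F) → (Fin 3 → F) → F) (f₂ : (Fin n₂ → F) → (Fin n₂ → F) → F)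
    (hf₁ : Cfsg.Geo.IsSymmetricForm f₁) (hf₂ : Cfsg.Geo.IsSymmetricForm f₂)
    (hT : Cfsg.Geo.IsTensorFormStructure id (QuadraticMap.polar (⇑Q)) f₁ f₂ e P) :
    ∃ K : Subgroup (Matrix.GeneralLinearGroup (Fin n) F),
      Cfsg.Geo.tensorProductSubgroup 3 n₂ e P ⊓ Cfsg.Geo.omegaGL (⇑Q) < K ∧
        K < Cfsg.Geo.omegaGL (⇑Q) := by
  classical
  have hq := qf_of_quad Q hQ
  have hf := hq.sym
  have vf := vfacts_quad (by omega) Q hQ
  have hG := sgGroupQ_quad (by omega) Q hQ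
  have hcard : n = 3 * n₂ := by
    have := Fintype.card_congr e
    simpa using this
  obtain ⟨c, hc, hT'⟩ := hT
  obtain ⟨X, δ, hδ, hXX, hXo, hXP⟩ := frame3 hc3 hf₁
  have hX0 : ∀ i, X i ≠ 0 := by
    intro i h
    have := hXX i
    rw [h, bil_zero_left hf₁.bilinear] at this
    exact hδ this.symm
  have tf : ∀ α α' v v', pf Q (tau e P α v) (tau e P α' v') = c * (f₁ α α' * f₂ v v') :=
    fun α α' v v' => tform e P hf₁.bilinear hf₂.bilinear hT' α α' v v'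
  obtain ⟨D, hD⟩ : ∃ D : Fin 3 → Submodule F (Fin n → F), D = fun i => blk e P (X i) :=
    ⟨_, rfl⟩
  have hDmem : ∀ i w, w ∈ D i ↔ ∃ v, tau e P (X i) v = w := by
    intro i w
    rw [hD]
    exact mem_blk e P _ _
  have hfr : ∀ i, Module.finrank F (D i) = n₂ := by
    intro i
    rw [hD]
    exact blk_finrank e P (hX0 i)
  have horth : ∀ i j, i ≠ j → ∀ x ∈ D i, ∀ y ∈ D j, pf Q x y = 0 := by
    intro i j hij x hx y hy
    obtain ⟨v, rfl⟩ := (hDmem i x).1 hx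
    obtain ⟨v', rfl⟩ := (hDmem j y).1 hy
    rw [tf, hXo i j hij]
    ring
  have hnd : ∀ i, Cfsg.Geo.IsNondegenerateOn (pf Q) (D i) := by
    intro i w hw hw0
    obtain ⟨v, rfl⟩ := (hDmem i w).1 hw
    have hv0 : v ≠ 0 := by
      rintro rfl
      exact hw0 (tau_zero_right e P (X i))
    obtain ⟨⟨x, hx⟩, ⟨y, hy⟩⟩ := hf₂.nondegenerate v hv0
    refine ⟨⟨tau e P (X i) x, (hDmem i _).2 ⟨_, rfl⟩, ?_⟩,
      ⟨tau e P (X i) y, (hDmem i _).2 ⟨_, rfl⟩, ?_⟩⟩
    · rw [tf, hXX]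
      exact mul_ne_zero hc (mul_ne_zero hδ hx)
    · rw [tf, hXX]
      exact mul_ne_zero hc (mul_ne_zero hδ hy)
  have sp := split_perp hf (D 0) (hnd 0)
  have hDO : ∀ j, j ≠ 0 → D j ≤ perpSub (pf Q) hf (D 0) := by
    intro j hj y hy w hw
    exact horth 0 j (Ne.symm hj) w hw y hy
  have hfrO := sp.finrank hf
  have hfr0 := hfr 0
  have hnd₂ : ∃ v v', f₂ v v' ≠ 0 := by
    have h0 : (Pi.single (⟨0, by omega⟩ : Fin n₂) (1 : F) : Fin n₂ → F) ≠ 0 := by
      intro h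
      have := congrFun h ⟨0, by omega⟩
      simp at this
    obtain ⟨⟨x, hx⟩, -⟩ := hf₂.nondegenerate _ h0
    exact ⟨x, _, hx⟩
  refine ⟨Cfsg.Geo.decompositionStabilizer D ⊓ Cfsg.Geo.omegaGL (⇑Q), ?_, ?_⟩
  · refine lt_of_le_of_ne ?_ ?_
    · rintro g ⟨hgT, hgΩ⟩
      refine ⟨?_, hgΩ⟩
      rw [hD]
      have hgiso := hG.iso g hgΩ
      exact tens_stab hc3 e P hf₁ hf₂.bilinear hnd₂ hc hT' X δ hδ hXX hXP hXo g hgT
        (iso_f hq g hgiso)
    · intro heq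
      have sps := sp.symm hf
      obtain ⟨r, hrG, hrfix, hrO, s, hsO, hsμ⟩ := split_rho_wit hq vf hG sps (by omega)
      have hrK : r ∈ Cfsg.Geo.decompositionStabilizer D ⊓ Cfsg.Geo.omegaGL (⇑Q) := by
        refine ⟨Cfsg.Agent.Lib.Helper28.DecGen.stab_of_maps D hfr r 1 ?_, hrG⟩
        intro i x hx
        by_cases hi : i = 0
        · subst hi
          exact hrO x hx
        · rw [hrfix x (hDO i hi hx)]
          exact hx
      rw [← heq] at hrK
      apply hsμ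
      refine tens_scalar e P r hrK.1 (X 0) (X 1) (hX0 0) (hX0 1) ?_ s ?_ ?_
      · intro w hw
        apply hrfix w
        apply hDO 1 (by decide)
        rw [hD]
        exact hw
      · rw [hD] at hsO
        exact hsO
      · have := hrO s hsO
        rw [hD] at this
        exact this
  · refine lt_of_le_of_ne inf_le_right ?_
    intro heq
    have hW0 : D 0 ≠ ⊥ := by
      intro h
      rw [h, finrank_bot] at hfr0
      omega
    obtain ⟨t, htG, w, hwW, hw0, u, huO, hu0, htw⟩ :=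
      nd_strict_wit hq (by omega) hG sp hW0 (by omega)
    rw [← heq] at htG
    obtain ⟨⟨σ, hσ⟩, -⟩ := htG
    have h1 : (t : Matrix (Fin n) (Fin n) F) *ᵥ w ∈ D (σ 0) := by
      rw [← hσ 0]
      exact ⟨w, hwW, by rw [Matrix.toLin'_apply]⟩
    rw [htw] at h1
    by_cases hσ0 : σ 0 = 0
    · rw [hσ0] at h1
      have h2 : u ∈ D 0 := by
        have := (D 0).sub_mem hwW h1
        have e' : w - (w + -u) = u := by abel
        rw [e'] at this
        exact this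
      exact hu0 (sp.inf hf h2 huO)
    · have h2 := hDO _ hσ0 h1
      have h3 : w ∈ perpSub (pf Q) hf (D 0) := by
        have := Submodule.add_mem _ h2 huO
        have e' : w + -u + u = w := by abel
        rw [e'] at this
        exact this
      exact hw0 (sp.inf hf hwW h3)

end Cfsg.Agent.Lib.Helper28.OTensW
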