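import Cfsg.Agent.Lib.Helper28.OsC
import Cfsg.Agent.Lib.Helper28.ONd2

set_option autoImplicit false

/-! Orthogonal decompositions `V = D 0 ⊥ ... ⊥ D (t-1)` into isometric nondegenerate blocks of
dimension at least three: abstract context for the maximality of the stabiliser (S5677). -/

namespace Cfsg.Agent.Lib.Helper28.Od

open Matrix Cfsg.Agent.Lib.Helper28.Sf Cfsg.Agent.Lib.Helper28.HForm
  Cfsg.Agent.Lib.Helper28.OGen Cfsg.Agent.Lib.Helper28.OMax Cfsg.Agent.Lib.Helper28.OQ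
  Cfsg.Agent.Lib.Helper28.OMax2 Cfsg.Agent.Lib.Helper28.OIwa Cfsg.Agent.Lib.Helper28.Os

variable {n : ℕ} {F : Type*} [Field F] {t : ℕ}

/-- `h` fixes every vector perpendicular to the block `B` -/
def ActsOn (f : (Fin n → F) → (Fin n → F) → F) (B : Submodule F (Fin n → F))
    (h : Matrix.GeneralLinearGroup (Fin n) F) : Prop :=
  ∀ x : Fin n → F, (∀ y ∈ B, f x y = 0) → (h : Matrix (Fin n) (Fin n) F) *ᵥ x = x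

/-- the reflection formula `x ↦ x - (f x v / Q v) • v` -/
def Rf (Q : (Fin n → F) → F) (f : (Fin n → F) → (Fin n → F) → F) (v x : Fin n → F) :
    Fin n → F := x - (f x v / Q v) • v

/-- the directions `y` for which the Siegel element with centre `u` and direction `y` lies in `M` -/
def YY (Q : (Fin n → F) → F) (f : (Fin n → F) → (Fin n → F) → F)
    (M : Subgroup (Matrix.GeneralLinearGroup (Fin n) F)) (u : Fin n → F) : Set (Fin n → F) :=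
  {y | f u y = 0 ∧ ∃ s ∈ M, IsSgg Q f s u y}

/-- some Siegel element of `M` has its centre in a block and its direction outside that block -/
def Crux (Q : (Fin n → F) → F) (f : (Fin n → F) → (Fin n → F) → F)
    (D : Fin t → Submodule F (Fin n → F))
    (M : Subgroup (Matrix.GeneralLinearGroup (Fin n) F)) : Prop :=
  ∃ i, ∃ u ∈ D i, u ≠ 0 ∧ Q u = 0 ∧ ∃ y ∈ YY Q f M u, y ∉ D i

/-- the abstract context -/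
structure Ctx (Q : (Fin n → F) → F) (f : (Fin n → F) → (Fin n → F) → F)
    (D : Fin t → Submodule F (Fin n → F))
    (pr : Fin t → (Fin n → F) →ₗ[F] (Fin n → F))
    (G N M : Subgroup (Matrix.GeneralLinearGroup (Fin n) F)) : Prop where
  hq : QF Q f
  h2 : (2 : F) ≠ 0
  vf : VFacts Q f
  hG : SgGroupQ Q f G
  three : 3 ≤ t
  -- the decomposition
  orth : ∀ i j, i ≠ j → ∀ x ∈ D i, ∀ y ∈ D j, f x y = 0
  nd : ∀ i, ∀ x ∈ D i, x ≠ 0 → ∃ y ∈ D i, f x y ≠ 0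
  pr_mem : ∀ i x, pr i x ∈ D i
  pr_sum : ∀ x, ∑ i, pr i x = x
  pr_self : ∀ i, ∀ x ∈ D i, pr i x = x
  pr_other : ∀ i j, i ≠ j → ∀ x ∈ D j, pr i x = 0
  -- the groups
  NM : N ≤ M
  MG : M ≤ G
  stab_of : ∀ g ∈ G, (∀ i, ∃ j, ∀ x ∈ D i, (g : Matrix (Fin n) (Fin n) F) *ᵥ x ∈ D j) → g ∈ N
  -- elements of `N`
  sieg : ∀ j, ∀ a ∈ D j, ∀ b ∈ D j, a ≠ 0 → Q a = 0 → f a b = 0 →
    ∀ s : Matrix.GeneralLinearGroup (Fin n) F, IsSgg Q f s a b → s ∈ N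
  fix : ∀ j, ∀ w ∈ D j, ∀ v ∈ D j, w ≠ 0 → v ∉ Submodule.span F {w} →
    ∃ h ∈ N, ActsOn f (D j) h ∧ (h : Matrix (Fin n) (Fin n) F) *ᵥ w = w ∧
      (h : Matrix (Fin n) (Fin n) F) *ᵥ v ≠ v
  cyc : ∀ i j l : Fin t, i ≠ j → j ≠ l → i ≠ l → ∃ c ∈ N,
    (∀ x ∈ D i, (c : Matrix (Fin n) (Fin n) F) *ᵥ x ∈ D j) ∧
    (∀ x ∈ D j, (c : Matrix (Fin n) (Fin n) F) *ᵥ x ∈ D l) ∧
    (∀ x ∈ D l, (c : Matrix (Fin n) (Fin n) F) *ᵥ x ∈ D i) ∧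
    ∀ m, m ≠ i → m ≠ j → m ≠ l → ∀ x ∈ D m, (c : Matrix (Fin n) (Fin n) F) *ᵥ x = x
  sshift : ∀ j, ∀ w ∈ D j, w ≠ 0 → Q w = 0 → ∃ h ∈ N, ActsOn f (D j) h ∧
    Q ((h : Matrix (Fin n) (Fin n) F) *ᵥ w - w) = 0 ∧ (h : Matrix (Fin n) (Fin n) F) *ᵥ w - w ≠ 0
  move : ∀ j, ∀ w ∈ D j, ∀ x ∈ D j, Q w ≠ 0 → Q x = Q w → Q (x - w) ≠ 0 →
    ∃ h ∈ N, ActsOn f (D j) h ∧ (h : Matrix (Fin n) (Fin n) F) *ᵥ w = x
  -- geometry of the blocks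
  sing : ∀ j, ∃ a ∈ D j, a ≠ 0 ∧ Q a = 0
  nsperp : ∀ j, ∀ a ∈ D j, a ≠ 0 → Q a = 0 → ∃ b ∈ D j, f a b = 0 ∧ Q b ≠ 0
  normsel : ∀ j, ∀ w ∈ D j, Q w ≠ 0 → ∀ c : F, c ≠ 0 →
    ∃ x ∈ D j, Q x = Q w ∧ Q (x - w) = c
  normsel2 : ∀ j, ∀ w ∈ D j, Q w ≠ 0 → ∀ c : F, c ≠ 0 →
    (c ≠ 4 * Q w ∨ ∃ e ∈ D j, e ≠ 0 ∧ Q e = 0 ∧ f e w = 0) →
    ∃ a : F, ∃ x' ∈ D j, x' ≠ 0 ∧ f x' w = 0 ∧ Q (a • w + x') = Q w ∧ Q (a • w + x' - w) = c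
  sq2 : ∀ x : F, ∃ a b : F, x = a * a + b * b
  alt : (∀ j, ∀ w ∈ D j, Q w ≠ 0 → ∃ e ∈ D j, e ≠ 0 ∧ Q e = 0 ∧ f e w = 0) ∨
    (5 ≤ t ∧ ∀ a b c : F, ∃ x : F, x ≠ 0 ∧ x ≠ a ∧ x ≠ b ∧ x ≠ c)

end Cfsg.Agent.Lib.Helper28.Od
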