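import Cfsg.Agent.Lib.Helper28.OdA

set_option autoImplicit false

namespace Cfsg.Agent.Lib.Helper28.Od

open Matrix Cfsg.Agent.Lib.Helper28.Sf Cfsg.Agent.Lib.Helper28.HForm
  Cfsg.Agent.Lib.Helper28.OGen Cfsg.Agent.Lib.Helper28.OMax Cfsg.Agent.Lib.Helper28.OQ
  Cfsg.Agent.Lib.Helper28.OMax2 Cfsg.Agent.Lib.Helper28.OIwa Cfsg.Agent.Lib.Helper28.Os

variable {n : ℕ} {F : Type*} [Field F] {t : ℕ} {Q : (Fin n → F) → F}
  {f : (Fin n → F) → (Fin n → F) → F}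
  {M : Subgroup (Matrix.GeneralLinearGroup (Fin n) F)}

/-! ### the sets `YY` -/

theorem yy_zero (hq : QF Q f) (M : Subgroup (Matrix.GeneralLinearGroup (Fin n) F))
    (u : Fin n → F) : (0 : Fin n → F) ∈ YY Q f M u :=
  ⟨f_zero_right hq.sym u, 1, M.one_mem, IsSgg.one hq u⟩

theorem yy_add (hq : QF Q f) {u y y' : Fin n → F} (hu : Q u = 0) (h : y ∈ YY Q f M u)
    (h' : y' ∈ YY Q f M u) : y + y' ∈ YY Q f M u := by
  obtain ⟨h1, s, hs, hs'⟩ := h
  obtain ⟨h2, s', hs2, hs2'⟩ := h'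
  exact ⟨by rw [f_add_right hq.sym, h1, h2, add_zero], s * s', M.mul_mem hs hs2,
    IsSgg.mul hq hu h1 h2 hs' hs2'⟩

theorem yy_neg (hq : QF Q f) {u y : Fin n → F} (hu : Q u = 0) (h : y ∈ YY Q f M u) :
    -y ∈ YY Q f M u := by
  obtain ⟨h1, s, hs, hs'⟩ := h
  exact ⟨by rw [f_neg_right hq.sym, h1, neg_zero], s⁻¹, M.inv_mem hs, hs'.inv hq hu h1⟩

theorem yy_sub (hq : QF Q f) {u y y' : Fin n → F} (hu : Q u = 0) (h : y ∈ YY Q f M u)
    (h' : y' ∈ YY Q f M u) : y - y' ∈ YY Q f M u := by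
  rw [sub_eq_add_neg]
  exact yy_add hq hu h (yy_neg hq hu h')

theorem yy_add_center (hq : QF Q f) {u y : Fin n → F} (hu : Q u = 0) (a : F)
    (h : y ∈ YY Q f M u) : y + a • u ∈ YY Q f M u := by
  obtain ⟨h1, s, hs, hs'⟩ := h
  refine ⟨?_, s, hs, hs'.add_center hq hu h1 a⟩
  rw [f_add_right hq.sym, h1, s_smul_right hq.sym, f_sing hq hu, mul_zero, add_zero]

theorem yy_center (hq : QF Q f) (M : Subgroup (Matrix.GeneralLinearGroup (Fin n) F))
    {u : Fin n → F} (hu : Q u = 0) (a : F) : a • u ∈ YY Q f M u := by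
  have := yy_add_center hq hu a (yy_zero hq M u)
  rwa [zero_add] at this

theorem yy_of_add_center (hq : QF Q f) {u y : Fin n → F} (hu : Q u = 0) (a : F)
    (h : y + a • u ∈ YY Q f M u) : y ∈ YY Q f M u := by
  have := yy_add_center hq hu (-a) h
  rwa [neg_smul, add_neg_cancel_right] at this

theorem yy_conj (hq : QF Q f) {k : Matrix.GeneralLinearGroup (Fin n) F} {u y : Fin n → F}
    (hk : k ∈ M) (hkQ : ∀ x, Q ((k : Matrix (Fin n) (Fin n) F) *ᵥ x) = Q x)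
    (h : y ∈ YY Q f M u) :
    (k : Matrix (Fin n) (Fin n) F) *ᵥ y ∈ YY Q f M ((k : Matrix (Fin n) (Fin n) F) *ᵥ u) := by
  obtain ⟨h1, s, hs, hs'⟩ := h
  refine ⟨by rw [iso_f hq k hkQ, h1], k * s * k⁻¹, M.mul_mem (M.mul_mem hk hs) (M.inv_mem hk),
    hs'.conj hq hkQ⟩

theorem yy_comm (hq : QF Q f) {k : Matrix.GeneralLinearGroup (Fin n) F} {u y : Fin n → F}
    (hu : Q u = 0) (hk : k ∈ M) (hkQ : ∀ x, Q ((k : Matrix (Fin n) (Fin n) F) *ᵥ x) = Q x)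
    (hku : (k : Matrix (Fin n) (Fin n) F) *ᵥ u = u) (h : y ∈ YY Q f M u) :
    (k : Matrix (Fin n) (Fin n) F) *ᵥ y - y ∈ YY Q f M u := by
  have h1 := yy_conj hq hk hkQ h
  rw [hku] at h1
  exact yy_sub hq hu h1 h

theorem yy_flip (hq : QF Q f) {u y : Fin n → F} (hu : Q u = 0) (hy : Q y = 0)
    (h : y ∈ YY Q f M u) : u ∈ YY Q f M y := by
  obtain ⟨h1, s, hs, hs'⟩ := h
  have hf := hq.sym
  have e1 : IsSg f s u y 1 := isSg_of_isSgg hf hy hq (by rw [one_smul]; exact hs')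
  have e2 := isSg_swap e1
  have e3 := isSgg_of_isSg hf hu hq e2
  have h4 : (-1 : F) • u ∈ YY Q f M y :=
    ⟨by rw [s_smul_right hf, s_symm hf, h1, mul_zero], s, hs, e3⟩
  have h5 := yy_neg hq hy h4
  rwa [neg_smul, one_smul, neg_neg] at h5

theorem yy_smul_center (hq : QF Q f) {u y : Fin n → F} {a : F}
    (h : y ∈ YY Q f M (a • u)) : a • y ∈ YY Q f M u := by
  obtain ⟨h1, s, hs, hs'⟩ := h
  refine ⟨?_, s, hs, hs'.smul_center hq⟩
  rw [s_smul_right hq.sym]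
  rw [hq.sym.smul_left] at h1
  exact h1

theorem yy_sum (hq : QF Q f) {u : Fin n → F} (hu : Q u = 0) {ι : Type*} (s : Finset ι)
    (g : ι → (Fin n → F)) (h : ∀ i ∈ s, g i ∈ YY Q f M u) : ∑ i ∈ s, g i ∈ YY Q f M u := by
  classical
  induction s using Finset.induction_on with
  | empty => simpa using yy_zero hq M u
  | insert a s ha ih =>
    rw [Finset.sum_insert ha]
    exact yy_add hq hu (h a (Finset.mem_insert_self a s))
      (ih (fun i hi => h i (Finset.mem_insert_of_mem hi)))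

theorem yy_perp {u y : Fin n → F} (h : y ∈ YY Q f M u) : f u y = 0 := h.1

end Cfsg.Agent.Lib.Helper28.Od
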