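import Cfsg.Agent.Lib.Helper28.OdA
import Cfsg.Agent.Lib.Helper28.OGenQ
import Cfsg.Agent.Lib.Helper28.DecGen
import Cfsg.Agent.Lib.Helper28.OdP
import Cfsg.Agent.Lib.Helper28.OdR
import Cfsg.Agent.Lib.helper6.CartanDieudonne

set_option autoImplicit false

/-! Piece C of S5677: block 3-cycles in the stabiliser of an orthogonal decomposition. -/

namespace Cfsg.Agent.Lib.Helper28.Od

open Matrix Cfsg.Agent.Lib.Helper28.Sf Cfsg.Agent.Lib.Helper28.HForm
  Cfsg.Agent.Lib.Helper28.OGen Cfsg.Agent.Lib.Helper28.OMax Cfsg.Agent.Lib.Helper28.OQ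
  Cfsg.Agent.Lib.Helper28.OMax2 Cfsg.Agent.Lib.Helper28.OIwa Cfsg.Agent.Lib.Helper28.Os
  Cfsg.Agent.Lib.Helper28.ONd Cfsg.Agent.S0795

variable {n : ℕ} {F : Type*} [Field F] {Q : (Fin n → F) → F}
  {f : (Fin n → F) → (Fin n → F) → F}

namespace CAux

/-- `Q` is additive on pairwise orthogonal families -/
theorem Q_sum_orth (hq : QF Q f) {ι : Type*} [DecidableEq ι] (s : Finset ι)
    (y : ι → (Fin n → F))
    (horth : ∀ a ∈ s, ∀ b ∈ s, a ≠ b → f (y a) (y b) = 0) :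
    Q (∑ a ∈ s, y a) = ∑ a ∈ s, Q (y a) := by
  have hf := hq.sym
  induction s using Finset.induction_on with
  | empty => simp [Q_zero hq]
  | insert a s ha ih =>
    rw [Finset.sum_insert ha, Finset.sum_insert ha, hq.polar, ih]
    · have h0 : f (y a) (∑ b ∈ s, y b) = 0 := by
        have : ∀ (u : Finset ι), (∀ b ∈ u, f (y a) (y b) = 0) →
            f (y a) (∑ b ∈ u, y b) = 0 := by
          intro u
          induction u using Finset.induction_on with
          | empty => intro _; simp [f_zero_right hf]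
          | insert c u hc ihu =>
            intro h
            rw [Finset.sum_insert hc, f_add_right hf, h c (Finset.mem_insert_self c u),
              ihu (fun b hb => h b (Finset.mem_insert_of_mem hb)), add_zero]
        apply this
        intro b hb
        apply horth a (Finset.mem_insert_self a s) b (Finset.mem_insert_of_mem hb)
        rintro rfl
        exact ha hb
      rw [h0, add_zero]
    · intro b hb c hc hbc
      exact horth b (Finset.mem_insert_of_mem hb) c (Finset.mem_insert_of_mem hc) hbc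

open Cfsg.Agent.Lib.helper6 Cfsg.Agent.Lib.helper6.CD in
/-- an isometry of the whole space glued from isometries of the blocks along a permutation -/
theorem block_iso (Q : QuadraticForm F (Fin n → F))
    (hQ : (QuadraticMap.polarBilin Q).Nondegenerate) {t k : ℕ}
    (D : Fin t → Submodule F (Fin n → F))
    (hD : Cfsg.Geo.IsOrthogonalMDecomposition (⇑Q) k D)
    (σ : Equiv.Perm (Fin t)) (ψ : Fin t → ((Fin n → F) →ₗ[F] (Fin n → F)))
    (hψ : ∀ m, ∀ x ∈ D m, ψ m x ∈ D (σ m) ∧ Q (ψ m x) = Q x) :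
    ∃ g : ↥(Cfsg.isometryGroup F ⇑Q), ∀ m, ∀ x ∈ D m,
      ((g : Matrix.GeneralLinearGroup (Fin n) F) : Matrix (Fin n) (Fin n) F) *ᵥ x = ψ m x := by
  classical
  have hq : QF (⇑Q) (pf Q) := Cfsg.Agent.Lib.Helper28.OGenQ.qf_of_quad Q hQ
  have hf : SymF (pf Q) := hq.sym
  obtain ⟨pr, hpr_mem, hpr_sum, hpr_self, hpr_other⟩ := p_pr D hD.decomp.decomp
  let L : (Fin n → F) →ₗ[F] (Fin n → F) := ∑ m, (ψ m) ∘ₗ (pr m)
  have hL : ∀ x, L x = ∑ m, ψ m (pr m x) := by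
    intro x
    simp only [L, LinearMap.sum_apply, LinearMap.comp_apply]
  have hLblock : ∀ m, ∀ x ∈ D m, L x = ψ m x := by
    intro m x hx
    rw [hL, Finset.sum_eq_single m]
    · rw [hpr_self m x hx]
    · intro m' _ hm'
      rw [hpr_other m' m hm' x hx, map_zero]
    · intro h
      exact absurd (Finset.mem_univ m) h
  have hQL : ∀ x, Q (L x) = Q x := by
    intro x
    rw [hL, CAux.Q_sum_orth hq Finset.univ (fun m => ψ m (pr m x))]
    · have h1 : ∀ m, Q (ψ m (pr m x)) = Q (pr m x) := fun m => (hψ m _ (hpr_mem m x)).2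
      simp only [h1]
      rw [← CAux.Q_sum_orth hq Finset.univ (fun m => pr m x), hpr_sum]
      intro a _ b _ hab
      exact hD.decomp.orthogonal a b hab _ (hpr_mem a x) _ (hpr_mem b x)
    · intro a _ b _ hab
      exact hD.decomp.orthogonal (σ a) (σ b) (fun h => hab (σ.injective h)) _
        (hψ a _ (hpr_mem a x)).1 _ (hψ b _ (hpr_mem b x)).1
  have hpol : ∀ x y, pf Q (L x) (L y) = pf Q x y := by
    intro x y
    unfold pf QuadraticMap.polar
    rw [← map_add, hQL, hQL, hQL]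
  have hinj : Function.Injective L := by
    rw [← LinearMap.ker_eq_bot, LinearMap.ker_eq_bot']
    intro x hx
    by_contra hx0
    obtain ⟨y, hy⟩ := (hf.nondegenerate x hx0).1
    apply hy
    rw [← hpol, hx]
    exact f_zero_right hf _
  let e : (Fin n → F) ≃ₗ[F] (Fin n → F) := LinearEquiv.ofInjectiveEndo L hinj
  have he : ∀ x, e x = L x := fun x => rfl
  have hAA' : LinearMap.toMatrix' L *
      LinearMap.toMatrix' (e.symm : (Fin n → F) →ₗ[F] (Fin n → F)) = 1 := by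
    rw [← LinearMap.toMatrix'_comp, ← LinearMap.toMatrix'_id]
    congr 1
    refine LinearMap.ext fun x => ?_
    rw [LinearMap.comp_apply, LinearEquiv.coe_coe, ← he, LinearEquiv.apply_symm_apply,
      LinearMap.id_apply]
  have hA'A : LinearMap.toMatrix' (e.symm : (Fin n → F) →ₗ[F] (Fin n → F)) *
      LinearMap.toMatrix' L = 1 := by
    rw [← LinearMap.toMatrix'_comp, ← LinearMap.toMatrix'_id]
    congr 1
    refine LinearMap.ext fun x => ?_
    rw [LinearMap.comp_apply, LinearEquiv.coe_coe, ← he, LinearEquiv.symm_apply_apply,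
      LinearMap.id_apply]
  let g0 : Matrix.GeneralLinearGroup (Fin n) F := ⟨_, _, hAA', hA'A⟩
  have hg0 : ∀ x, (g0 : Matrix (Fin n) (Fin n) F) *ᵥ x = L x := by
    intro x
    show LinearMap.toMatrix' L *ᵥ x = L x
    rw [LinearMap.toMatrix'_mulVec]
  have hmem : g0 ∈ Cfsg.isometryGroup F ⇑Q := by
    rw [mem_iso]
    intro x
    rw [hg0, hQL]
  refine ⟨⟨g0, hmem⟩, fun m x hx => ?_⟩
  show (g0 : Matrix (Fin n) (Fin n) F) *ᵥ x = ψ m x
  rw [hg0, hLblock m x hx]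

/-- the swap of two blocks -/
theorem swap_iso (Q : QuadraticForm F (Fin n → F))
    (hQ : (QuadraticMap.polarBilin Q).Nondegenerate) {t k : ℕ}
    (D : Fin t → Submodule F (Fin n → F))
    (hD : Cfsg.Geo.IsOrthogonalMDecomposition (⇑Q) k D) (a b : Fin t) (hab : a ≠ b) :
    ∃ g : ↥(Cfsg.isometryGroup F ⇑Q),
      (∀ x ∈ D a, ((g : Matrix.GeneralLinearGroup (Fin n) F) : Matrix (Fin n) (Fin n) F) *ᵥ x
        ∈ D b) ∧
      (∀ x ∈ D b, ((g : Matrix.GeneralLinearGroup (Fin n) F) : Matrix (Fin n) (Fin n) F) *ᵥ x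
        ∈ D a) ∧
      ∀ m, m ≠ a → m ≠ b → ∀ x ∈ D m,
        ((g : Matrix.GeneralLinearGroup (Fin n) F) : Matrix (Fin n) (Fin n) F) *ᵥ x = x := by
  classical
  obtain ⟨pr, hpr_mem, -, hpr_self, -⟩ := p_pr D hD.decomp.decomp
  obtain ⟨φ, hφ⟩ := hD.isometric a b
  have hφs : ∀ w : D b, Q ((φ.symm w : D a) : Fin n → F) = Q (w : Fin n → F) := by
    intro w
    have := hφ (φ.symm w)
    rw [LinearEquiv.apply_symm_apply] at this
    exact this.symm
  let ψa : (Fin n → F) →ₗ[F] (Fin n → F) :=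
    (D b).subtype ∘ₗ (φ : D a →ₗ[F] D b) ∘ₗ (pr a).codRestrict (D a) (hpr_mem a)
  let ψb : (Fin n → F) →ₗ[F] (Fin n → F) :=
    (D a).subtype ∘ₗ (φ.symm : D b →ₗ[F] D a) ∘ₗ (pr b).codRestrict (D b) (hpr_mem b)
  have hψa : ∀ x (hx : x ∈ D a), ψa x = ((φ ⟨x, hx⟩ : D b) : Fin n → F) := by
    intro x hx
    show ((φ ⟨pr a x, hpr_mem a x⟩ : D b) : Fin n → F) = _
    congr 2
    exact Subtype.ext (hpr_self a x hx)
  have hψb : ∀ x (hx : x ∈ D b), ψb x = ((φ.symm ⟨x, hx⟩ : D a) : Fin n → F) := by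
    intro x hx
    show ((φ.symm ⟨pr b x, hpr_mem b x⟩ : D a) : Fin n → F) = _
    congr 2
    exact Subtype.ext (hpr_self b x hx)
  let ψ : Fin t → ((Fin n → F) →ₗ[F] (Fin n → F)) := fun m =>
    if m = a then ψa else if m = b then ψb else LinearMap.id
  have hψA : ψ a = ψa := by simp [ψ]
  have hψB : ψ b = ψb := by simp [ψ, hab.symm]
  have hψM : ∀ m, m ≠ a → m ≠ b → ψ m = LinearMap.id := by
    intro m h1 h2
    simp [ψ, h1, h2]
  obtain ⟨g, hg⟩ := block_iso Q hQ D hD (Equiv.swap a b) ψ (by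
    intro m x hx
    by_cases hma : m = a
    · subst hma
      rw [hψA, Equiv.swap_apply_left, hψa x hx]
      exact ⟨(φ ⟨x, hx⟩).2, hφ ⟨x, hx⟩⟩
    · by_cases hmb : m = b
      · subst hmb
        rw [hψB, Equiv.swap_apply_right, hψb x hx]
        exact ⟨(φ.symm ⟨x, hx⟩).2, hφs ⟨x, hx⟩⟩
      · rw [hψM m hma hmb, Equiv.swap_apply_of_ne_of_ne hma hmb, LinearMap.id_apply]
        exact ⟨hx, rfl⟩)
  refine ⟨g, ?_, ?_, ?_⟩
  · intro x hx
    rw [hg a x hx, hψA, hψa x hx]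
    exact (φ ⟨x, hx⟩).2
  · intro x hx
    rw [hg b x hx, hψB, hψb x hx]
    exact (φ.symm ⟨x, hx⟩).2
  · intro m hma hmb x hx
    rw [hg m x hx, hψM m hma hmb, LinearMap.id_apply]

theorem inv_maps {t k : ℕ} (D : Fin t → Submodule F (Fin n → F))
    (hfr : ∀ i, Module.finrank F (D i) = k) (g : Matrix.GeneralLinearGroup (Fin n) F)
    (a b : Fin t) (h : ∀ x ∈ D a, (g : Matrix (Fin n) (Fin n) F) *ᵥ x ∈ D b) :
    ∀ y ∈ D b, ((g⁻¹ : Matrix.GeneralLinearGroup (Fin n) F) : Matrix (Fin n) (Fin n) F) *ᵥ y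
      ∈ D a := by
  intro y hy
  have hm := DecGen.map_eq D hfr g a b h
  rw [← hm] at hy
  obtain ⟨x, hx, rfl⟩ := hy
  rw [Matrix.toLin'_apply, DecGen.gl_cancel]
  exact hx

theorem inv_fix (g : Matrix.GeneralLinearGroup (Fin n) F) (x : Fin n → F)
    (h : (g : Matrix (Fin n) (Fin n) F) *ᵥ x = x) :
    ((g⁻¹ : Matrix.GeneralLinearGroup (Fin n) F) : Matrix (Fin n) (Fin n) F) *ᵥ x = x := by
  have := DecGen.gl_cancel g x
  rw [h] at this
  exact this

end CAux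

open scoped commutatorElement in
theorem c_cyc (h2 : (2 : F) ≠ 0) (Q : QuadraticForm F (Fin n → F))
    (hQ : (QuadraticMap.polarBilin Q).Nondegenerate) {t k : ℕ}
    (D : Fin t → Submodule F (Fin n → F))
    (hD : Cfsg.Geo.IsOrthogonalMDecomposition (⇑Q) k D) (i j l : Fin t) (hij : i ≠ j)
    (hjl : j ≠ l) (hil : i ≠ l) :
    ∃ c ∈ Cfsg.Geo.decompositionStabilizer D ⊓ Cfsg.Geo.omegaGL (⇑Q),
      (∀ x ∈ D i, (c : Matrix (Fin n) (Fin n) F) *ᵥ x ∈ D j) ∧
      (∀ x ∈ D j, (c : Matrix (Fin n) (Fin n) F) *ᵥ x ∈ D l) ∧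
      (∀ x ∈ D l, (c : Matrix (Fin n) (Fin n) F) *ᵥ x ∈ D i) ∧
      ∀ m, m ≠ i → m ≠ j → m ≠ l → ∀ x ∈ D m, (c : Matrix (Fin n) (Fin n) F) *ᵥ x = x := by
  have hfr := hD.decomp.decomp.finrank_eq
  obtain ⟨σ, Sij, Sji, Sfix⟩ := CAux.swap_iso Q hQ D hD i j hij
  obtain ⟨τ, Tjl, Tlj, Tfix⟩ := CAux.swap_iso Q hQ D hD j l hjl
  set S : Matrix.GeneralLinearGroup (Fin n) F := (σ : Matrix.GeneralLinearGroup (Fin n) F)
    with hS
  set T : Matrix.GeneralLinearGroup (Fin n) F := (τ : Matrix.GeneralLinearGroup (Fin n) F)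
    with hT
  have Si_ij := CAux.inv_maps D hfr S j i Sji
  have Si_ji := CAux.inv_maps D hfr S i j Sij
  have Ti_jl := CAux.inv_maps D hfr T l j Tlj
  have Ti_lj := CAux.inv_maps D hfr T j l Tjl
  have hmem : ⁅τ, σ⁆ ∈ Cfsg.Omega F ⇑Q :=
    Subgroup.commutator_mem_commutator (Subgroup.mem_top τ) (Subgroup.mem_top σ)
  have hcoe : ((⁅τ, σ⁆ : ↥(Cfsg.isometryGroup F ⇑Q)) : Matrix.GeneralLinearGroup (Fin n) F) =
      T * S * T⁻¹ * S⁻¹ := by
    rw [commutatorElement_def]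
    simp only [Subgroup.coe_mul, Subgroup.coe_inv, hS, hT]
  have hmv : ∀ x, ((T * S * T⁻¹ * S⁻¹ : Matrix.GeneralLinearGroup (Fin n) F) :
      Matrix (Fin n) (Fin n) F) *ᵥ x =
      (T : Matrix (Fin n) (Fin n) F) *ᵥ ((S : Matrix (Fin n) (Fin n) F) *ᵥ
        (((T⁻¹ : Matrix.GeneralLinearGroup (Fin n) F) : Matrix (Fin n) (Fin n) F) *ᵥ
          (((S⁻¹ : Matrix.GeneralLinearGroup (Fin n) F) : Matrix (Fin n) (Fin n) F) *ᵥ x))) := by
    intro x
    rw [Units.val_mul, Units.val_mul, Units.val_mul, ← Matrix.mulVec_mulVec,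
      ← Matrix.mulVec_mulVec, ← Matrix.mulVec_mulVec]
  have h1 : ∀ x ∈ D i, ((T * S * T⁻¹ * S⁻¹ : Matrix.GeneralLinearGroup (Fin n) F) :
      Matrix (Fin n) (Fin n) F) *ᵥ x ∈ D j := by
    intro x hx
    rw [hmv]
    have a1 := Si_ij x hx
    have a2 := Ti_jl _ a1
    rw [Sfix l hil.symm hjl.symm _ a2]
    exact Tlj _ a2
  have h2' : ∀ x ∈ D j, ((T * S * T⁻¹ * S⁻¹ : Matrix.GeneralLinearGroup (Fin n) F) :
      Matrix (Fin n) (Fin n) F) *ᵥ x ∈ D l := by
    intro x hx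
    rw [hmv]
    have a1 := Si_ji x hx
    rw [CAux.inv_fix T _ (Tfix i hij hil _ a1)]
    exact Tjl _ (Sij _ a1)
  have h3 : ∀ x ∈ D l, ((T * S * T⁻¹ * S⁻¹ : Matrix.GeneralLinearGroup (Fin n) F) :
      Matrix (Fin n) (Fin n) F) *ᵥ x ∈ D i := by
    intro x hx
    rw [hmv, CAux.inv_fix S _ (Sfix l hil.symm hjl.symm x hx)]
    have a2 := Ti_lj x hx
    have a3 := Sji _ a2
    rw [Tfix i hij hil _ a3]
    exact a3
  have h4 : ∀ m, m ≠ i → m ≠ j → m ≠ l → ∀ x ∈ D m,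
      ((T * S * T⁻¹ * S⁻¹ : Matrix.GeneralLinearGroup (Fin n) F) :
      Matrix (Fin n) (Fin n) F) *ᵥ x = x := by
    intro m hmi hmj hml x hx
    rw [hmv, CAux.inv_fix S _ (Sfix m hmi hmj x hx), CAux.inv_fix T _ (Tfix m hmj hml x hx),
      Sfix m hmi hmj x hx, Tfix m hmj hml x hx]
  refine ⟨T * S * T⁻¹ * S⁻¹, ⟨?_, ?_⟩, h1, h2', h3, h4⟩
  · apply r_stab_of D hD.decomp.decomp
    intro m
    by_cases hmi : m = i
    · exact ⟨j, by rw [hmi]; exact h1⟩
    · by_cases hmj : m = j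
      · exact ⟨l, by rw [hmj]; exact h2'⟩
      · by_cases hml : m = l
        · exact ⟨i, by rw [hml]; exact h3⟩
        · exact ⟨m, fun x hx => by rw [h4 m hmi hmj hml x hx]; exact hx⟩
  · exact (Cfsg.Agent.Lib.Helper28.OMaxQ.mem_omegaGL_iff Q _).2 ⟨⁅τ, σ⁆, hmem, hcoe⟩

end Cfsg.Agent.Lib.Helper28.Od
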