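import Cfsg.Agent.Lib.Helper28.OdA
import Cfsg.Agent.Lib.Helper28.OGenQ
import Cfsg.Agent.Lib.Helper28.DecGen

set_option autoImplicit false
set_option linter.unusedVariables false

namespace Cfsg.Agent.Lib.Helper28.Od

open Matrix Cfsg.Agent.Lib.Helper28.Sf Cfsg.Agent.Lib.Helper28.HForm
  Cfsg.Agent.Lib.Helper28.OGen Cfsg.Agent.Lib.Helper28.OMax Cfsg.Agent.Lib.Helper28.OQ
  Cfsg.Agent.Lib.Helper28.OMax2 Cfsg.Agent.Lib.Helper28.OIwa Cfsg.Agent.Lib.Helper28.Os
  Cfsg.Agent.Lib.Helper28.ONd Cfsg.Agent.S0795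

variable {n : ℕ} {F : Type*} [Field F] {Q : (Fin n → F) → F}
  {f : (Fin n → F) → (Fin n → F) → F}

/-! ## Piece G (file OdG.lean): geometry of a block `B` with complement `W` -/

theorem blk_sing [Fintype F] (hq : QF Q f) {W B : Submodule F (Fin n → F)} (sp : Split f W B)
    (h3 : Module.finrank F W + 3 ≤ n) : ∃ a ∈ B, a ≠ 0 ∧ Q a = 0 := by
  obtain ⟨s, hsO, hss, hs0, -, -⟩ := split_sing hq sp 0 Fin.elim0 (by omega)
  exact ⟨s, hsO, hs0, hss⟩

theorem blk_nsperp [Fintype F] (hq : QF Q f) (h2 : (2 : F) ≠ 0) {W B : Submodule F (Fin n → F)}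
    (sp : Split f W B) (h3 : Module.finrank F W + 3 ≤ n) {a : Fin n → F} (ha : a ∈ B)
    (ha0 : a ≠ 0) (hQa : Q a = 0) : ∃ b ∈ B, f a b = 0 ∧ Q b ≠ 0 := by
  have hf := hq.sym
  obtain ⟨s, hsO, hss, hsa⟩ := split_partner hq sp ha ha0 hQa
  obtain ⟨y, hyO, -, hya, hyy, -⟩ := split_nonsing hq sp h3 hsO ha hss hQa (by rw [hsa]; exact one_ne_zero)
  exact ⟨y, hyO, by rw [s_symm hf]; exact hya, hyy⟩

/-- a basis of `W` extended by a nonsingular vector of `B` -/
theorem blk_nd1 (hq : QF Q f) (h2 : (2 : F) ≠ 0) {W B : Submodule F (Fin n → F)}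
    (sp : Split f W B) {w : Fin n → F} (hw : w ∈ B) (hQw : Q w ≠ 0) :
    ∃ a : Fin (Module.finrank F W + 1) → (Fin n → F), Nd f a ∧
      ∀ x, Perp f a x ↔ (x ∈ B ∧ f x w = 0) := by
  have hf := hq.sym
  obtain ⟨a, ha, hspan⟩ := sp.nd hf
  have hwa := (sp.perp_iff hf a hspan w).2 hw
  have hww : f w w ≠ 0 := by
    rw [f_self hq]
    exact mul_ne_zero h2 hQw
  refine ⟨Fin.cons w a, nd_cons1 hf a ha w hwa hww, ?_⟩
  intro x
  rw [perp_cons, sp.perp_iff hf a hspan x]
  tauto

theorem blk_univ [Fintype F] (hq : QF Q f) (h2 : (2 : F) ≠ 0) {W B : Submodule F (Fin n → F)}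
    (sp : Split f W B) (h3 : Module.finrank F W + 3 ≤ n) {w : Fin n → F} (hw : w ∈ B)
    (hQw : Q w ≠ 0) (c : F) (hc : c ≠ 0) : ∃ b ∈ B, f b w = 0 ∧ Q b = c := by
  have hf := hq.sym
  obtain ⟨a, ha, hperp⟩ := blk_nd1 hq h2 sp hw hQw
  obtain ⟨t, hta, htt⟩ := rep_value hf h2 a ha (by omega) (2 * c)
  obtain ⟨htB, htw⟩ := (hperp t).1 hta
  refine ⟨t, htB, htw, ?_⟩
  rw [f_self hq] at htt
  exact mul_left_cancel₀ h2 htt

theorem blk_plus [Fintype F] (hq : QF Q f) {W B : Submodule F (Fin n → F)} (sp : Split f W B)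
    (h5 : Module.finrank F W + 5 ≤ n) {w : Fin n → F} (hw : w ∈ B) :
    ∃ e ∈ B, e ≠ 0 ∧ Q e = 0 ∧ f e w = 0 ∧ e ∉ Submodule.span F {w} := by
  have hf := hq.sym
  obtain ⟨s, hsO, hss, hs0, hsx, hsn⟩ := split_sing hq sp 1 ![w] (by omega)
  refine ⟨s, hsO, hs0, hss, ?_, ?_⟩
  · rw [s_symm hf]
    exact hsx 0
  · intro h
    apply hsn
    apply Submodule.mem_sup_right
    have : Set.range ![w] = {w} := by
      ext y
      simp [eq_comm]
    rw [this]
    exact h

theorem blk_twin [Fintype F] (hq : QF Q f) (h2 : (2 : F) ≠ 0) {W B : Submodule F (Fin n → F)}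
    (sp : Split f W B) (h3 : Module.finrank F W + 3 ≤ n)
    (h5 : Module.finrank F W + 5 ≤ n ∨ 5 ≤ Fintype.card F) {w b : Fin n → F} (hw : w ∈ B)
    (hQw : Q w ≠ 0) (hb : b ∈ B) (hbw : f b w = 0) (hQb : Q b ≠ 0) :
    ∃ b' ∈ B, f b' w = 0 ∧ Q b' = Q b ∧ b' ∉ Submodule.span F {b} := by
  classical
  have hf := hq.sym
  obtain ⟨a, ha, hperp⟩ := blk_nd1 hq h2 sp hw hQw
  have hba : Perp f a b := (hperp b).2 ⟨hb, hbw⟩
  have hbb : f b b ≠ 0 := by
    rw [f_self hq]
    exact mul_ne_zero h2 hQb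
  have hnd2 := nd_cons1 hf a ha b hba hbb
  rcases h5 with h5 | h5
  · -- a singular vector perpendicular to w and b
    obtain ⟨e, hea, hee, he0⟩ := nd_ex_sing hq _ hnd2 (by omega)
    rw [perp_cons] at hea
    obtain ⟨heb, hea⟩ := hea
    obtain ⟨heB, hew⟩ := (hperp e).1 hea
    refine ⟨b + e, B.add_mem hb heB, ?_, ?_, ?_⟩
    · rw [hf.add_left, hbw, hew, add_zero]
    · rw [hq.polar, hee, s_symm hf, heb]
      ring
    · intro h
      rw [Submodule.mem_span_singleton] at h
      obtain ⟨l, hl⟩ := h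
      have e1 : e = (l - 1) • b := by
        rw [sub_smul, one_smul, hl]
        abel
      have e2 : Q e = (l - 1) * (l - 1) * Q b := by rw [e1, hq.smul]
      rw [hee] at e2
      have e3 : l - 1 = 0 := by
        rcases mul_eq_zero.1 e2.symm with h' | h'
        · rcases mul_eq_zero.1 h' with h'' | h'' <;> exact h''
        · exact absurd h' hQb
      rw [e3, zero_smul] at e1
      exact he0 e1
  · -- a nonsingular vector perpendicular to w and b, and a point of the conic
    obtain ⟨e, hea, hee⟩ := Cfsg.Agent.Lib.Helper28.OChar2.c2_nonsing_perp hq _ hnd2 (by omega)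
    rw [perp_cons] at hea
    obtain ⟨heb, hea⟩ := hea
    obtain ⟨heB, hew⟩ := (hperp e).1 hea
    obtain ⟨δ, hδ⟩ : ∃ δ : F, δ = Q e / Q b := ⟨_, rfl⟩
    have hδ0 : δ ≠ 0 := by
      rw [hδ]
      exact div_ne_zero hee hQb
    -- choose s with s ≠ 0 and 1 + δ s² ≠ 0
    have hex : ∃ s : F, s ≠ 0 ∧ 1 + δ * (s * s) ≠ 0 := by
      by_contra hcon
      push Not at hcon
      -- all nonzero s are roots of δ X² + 1, so at most two of them
      have hsub : (Finset.univ.erase (0 : F)) ⊆ (Polynomial.C δ * Polynomial.X ^ 2 + Polynomial.C 1 : Polynomial F).roots.toFinset := by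
        intro s hs
        rw [Finset.mem_erase] at hs
        rw [Multiset.mem_toFinset, Polynomial.mem_roots']
        constructor
        · intro h0
          have := congrArg (fun p : Polynomial F => p.coeff 2) h0
          simp [Polynomial.coeff_one] at this
          exact hδ0 this
        · rw [Polynomial.IsRoot.def]
          simp only [Polynomial.eval_add, Polynomial.eval_mul, Polynomial.eval_C, Polynomial.eval_pow,
            Polynomial.eval_X]
          have := hcon s hs.1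
          linear_combination this
      have h1 := Finset.card_le_card hsub
      rw [Finset.card_erase_of_mem (Finset.mem_univ _), Finset.card_univ] at h1
      have h2' : (Polynomial.C δ * Polynomial.X ^ 2 + Polynomial.C 1 : Polynomial F).roots.toFinset.card ≤ 2 := by
        refine (Multiset.toFinset_card_le _).trans ((Polynomial.card_roots' _).trans ?_)
        refine Polynomial.natDegree_add_le_of_degree_le ?_ ?_
        · exact (Polynomial.natDegree_C_mul_le _ _).trans (by simp)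
        · simp
      omega
    obtain ⟨s, hs0, hs1⟩ := hex
    obtain ⟨D, hD⟩ : ∃ D : F, D = 1 + δ * (s * s) := ⟨_, rfl⟩
    rw [← hD] at hs1
    obtain ⟨x, hx⟩ : ∃ x : F, x = (1 - δ * (s * s)) / D := ⟨_, rfl⟩
    obtain ⟨y, hy⟩ : ∃ y : F, y = 2 * s / D := ⟨_, rfl⟩
    have hy0 : y ≠ 0 := by
      rw [hy]
      exact div_ne_zero (mul_ne_zero h2 hs0) hs1
    have hconic : x * x * Q b + y * y * Q e = Q b := by
      have hQe : Q e = δ * Q b := by
        rw [hδ]
        field_simp
      rw [hQe, hx, hy]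
      field_simp
      rw [hD]
      ring
    refine ⟨x • b + y • e, B.add_mem (B.smul_mem _ hb) (B.smul_mem _ heB), ?_, ?_, ?_⟩
    · rw [hf.add_left, hf.smul_left, hf.smul_left, hbw, hew]
      ring
    · rw [hq.polar, hq.smul, hq.smul, hf.smul_left, s_smul_right hf, s_symm hf b e, heb]
      linear_combination hconic
    · intro h
      rw [Submodule.mem_span_singleton] at h
      obtain ⟨l, hl⟩ := h
      have e1 : y • e = (l - x) • b := by
        rw [sub_smul, hl]
        abel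
      have e2 : f (y • e) e = f ((l - x) • b) e := by rw [e1]
      rw [hf.smul_left, hf.smul_left, s_symm hf b e, heb, f_self hq, mul_zero] at e2
      rcases mul_eq_zero.1 e2 with h' | h'
      · exact hy0 h'
      · rcases mul_eq_zero.1 h' with h'' | h''
        · exact h2 h''
        · exact hee h''

theorem blk_nsdual [Fintype F] (hq : QF Q f) (h2 : (2 : F) ≠ 0) {W B : Submodule F (Fin n → F)}
    (sp : Split f W B) (h3 : Module.finrank F W + 3 ≤ n) {w v : Fin n → F} (hw : w ∈ B)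
    (hQw : Q w ≠ 0) (hv : v ∈ B) (hv0 : v ≠ 0) (hvw : f v w = 0) :
    ∃ b ∈ B, f b w = 0 ∧ Q b ≠ 0 ∧ f v b ≠ 0 := by
  have hf := hq.sym
  by_cases hQv : Q v = 0
  swap
  · refine ⟨v, hv, hvw, hQv, ?_⟩
    rw [f_self hq]
    exact mul_ne_zero h2 hQv
  -- the subspace `W + F w`
  have hvS : ∀ x ∈ W ⊔ Submodule.span F {w}, f x v = 0 := by
    intro x hx
    obtain ⟨x₁, hx₁, x₂, hx₂, rfl⟩ := Submodule.mem_sup.1 hx
    rw [Submodule.mem_span_singleton] at hx₂
    obtain ⟨c, rfl⟩ := hx₂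
    rw [hf.add_left, hf.smul_left, sp.orth x₁ hx₁ v hv, s_symm hf w v, hvw]
    ring
  have hvn : v ∉ W ⊔ Submodule.span F {w} := by
    intro h
    obtain ⟨x₁, hx₁, x₂, hx₂, hx⟩ := Submodule.mem_sup.1 h
    rw [Submodule.mem_span_singleton] at hx₂
    obtain ⟨c, rfl⟩ := hx₂
    -- x₁ = v - c w ∈ B ∩ W = 0
    have hx₁B : x₁ ∈ B := by
      have : x₁ = v - c • w := by rw [← hx]; abel
      rw [this]
      exact B.sub_mem hv (B.smul_mem _ hw)
    have hx₁0 : x₁ = 0 := sp.inf hf hx₁ hx₁B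
    rw [hx₁0, zero_add] at hx
    have h1 : f v w = c * f w w := by rw [← hx, hf.smul_left]
    rw [hvw, f_self hq] at h1
    have hc0 : c = 0 := by
      rcases mul_eq_zero.1 h1.symm with h' | h'
      · exact h'
      · exact absurd h' (mul_ne_zero h2 hQw)
    rw [hc0, zero_smul] at hx
    exact hv0 hx.symm
  obtain ⟨s, hss, hsv, hsS⟩ := rel_partner hq (W ⊔ Submodule.span F {w}) v hQv hvS hvn
  have hsB : s ∈ B := sp.mem_O hf (fun x hx => hsS x (Submodule.mem_sup_left hx))
  have hsw : f s w = 0 := by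
    rw [s_symm hf]
    exact hsS w (Submodule.mem_sup_right (Submodule.mem_span_singleton_self w))
  refine ⟨s + v, B.add_mem hsB hv, ?_, ?_, ?_⟩
  · rw [hf.add_left, hsw, hvw, add_zero]
  · rw [hq.polar, hss, hQv, hsv]
    simp
  · rw [f_add_right hf, s_symm hf v s, hsv, f_self hq, hQv]
    simp

theorem blk_normsel [Fintype F] (hq : QF Q f) (h2 : (2 : F) ≠ 0) {W B : Submodule F (Fin n → F)}
    (sp : Split f W B) (h3 : Module.finrank F W + 3 ≤ n) {w : Fin n → F} (hw : w ∈ B)
    (hQw : Q w ≠ 0) (c : F) (hc : c ≠ 0) : ∃ x ∈ B, Q x = Q w ∧ Q (x - w) = c := by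
  have hf := hq.sym
  obtain ⟨α, hα⟩ : ∃ α : F, α = 1 - c / (2 * Q w) := ⟨_, rfl⟩
  have h2Q : 2 * Q w ≠ 0 := mul_ne_zero h2 hQw
  have hα1 : 2 * Q w * (1 - α) = c := by
    rw [hα]
    field_simp
    ring
  by_cases hz : (1 - α * α) * Q w = 0
  · -- x' = 0
    refine ⟨α • w, B.smul_mem _ hw, ?_, ?_⟩
    · rw [hq.smul]
      linear_combination -hz
    · rw [Q_sub hq, hq.smul, hf.smul_left, f_self hq]
      linear_combination hα1 - hz
  · obtain ⟨x', hx'B, hx'w, hQx'⟩ := blk_univ hq h2 sp h3 hw hQw _ hz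
    refine ⟨α • w + x', B.add_mem (B.smul_mem _ hw) hx'B, ?_, ?_⟩
    · rw [hq.polar, hq.smul, hf.smul_left, s_symm hf w x', hx'w, hQx']
      ring
    · rw [Q_sub hq, hq.polar, hq.smul, hf.smul_left, s_symm hf w x', hx'w, hQx', hf.add_left,
        hf.smul_left, hx'w, f_self hq]
      linear_combination hα1

theorem blk_normsel2 [Fintype F] (hq : QF Q f) (h2 : (2 : F) ≠ 0) {W B : Submodule F (Fin n → F)}
    (sp : Split f W B) (h3 : Module.finrank F W + 3 ≤ n) {w : Fin n → F} (hw : w ∈ B)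
    (hQw : Q w ≠ 0) (c : F) (hc : c ≠ 0)
    (halt : c ≠ 4 * Q w ∨ ∃ e ∈ B, e ≠ 0 ∧ Q e = 0 ∧ f e w = 0) :
    ∃ a : F, ∃ x' ∈ B, x' ≠ 0 ∧ f x' w = 0 ∧ Q (a • w + x') = Q w ∧ Q (a • w + x' - w) = c := by
  have hf := hq.sym
  obtain ⟨α, hα⟩ : ∃ α : F, α = 1 - c / (2 * Q w) := ⟨_, rfl⟩
  have h2Q : 2 * Q w ≠ 0 := mul_ne_zero h2 hQw
  have hα1 : 2 * Q w * (1 - α) = c := by
    rw [hα]
    field_simp
    ring
  have key : ∀ x' : Fin n → F, f x' w = 0 → Q x' = (1 - α * α) * Q w →
      Q (α • w + x') = Q w ∧ Q (α • w + x' - w) = c := by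
    intro x' hx'w hQx'
    constructor
    · rw [hq.polar, hq.smul, hf.smul_left, s_symm hf w x', hx'w, hQx']
      ring
    · rw [Q_sub hq, hq.polar, hq.smul, hf.smul_left, s_symm hf w x', hx'w, hQx', hf.add_left,
        hf.smul_left, hx'w, f_self hq]
      linear_combination hα1
  by_cases hz : (1 - α * α) * Q w = 0
  · -- then α = -1, c = 4 Q w
    have hα2 : (1 - α) * (1 + α) = 0 := by
      rcases mul_eq_zero.1 hz with h' | h'
      · linear_combination h'
      · exact absurd h' hQw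
    have hα3 : 1 + α = 0 := by
      rcases mul_eq_zero.1 hα2 with h' | h'
      · exfalso
        apply hc
        rw [← hα1, h', mul_zero]
      · exact h'
    have hc4 : c = 4 * Q w := by
      linear_combination -hα1 - 2 * Q w * hα3
    rcases halt with h' | ⟨e, heB, he0, hee, hew⟩
    · exact absurd hc4 h'
    · exact ⟨α, e, heB, he0, hew, key e hew (by rw [hee, hz])⟩
  · obtain ⟨x', hx'B, hx'w, hQx'⟩ := blk_univ hq h2 sp h3 hw hQw _ hz
    refine ⟨α, x', hx'B, ?_, hx'w, key x' hx'w hQx'⟩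
    rintro rfl
    rw [Q_zero hq] at hQx'
    exact hz hQx'.symm

theorem sq2 [Fintype F] (x : F) : ∃ a b : F, x = a * a + b * b := by
  classical
  by_cases h2 : (2 : F) = 0
  · -- characteristic two: every element is a square
    have hch : ringChar F = 2 := by
      have : CharP F 2 := by
        apply CharTwo.of_one_ne_zero_of_two_eq_zero one_ne_zero h2
      exact ringChar.eq F 2
    have hinj : Function.Injective (fun y : F => y * y) := by
      intro y z hyz
      simp only at hyz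
      have h1 : (y - z) * (y - z) = 0 := by
        have e : (y - z) * (y - z) = y * y + z * z - 2 * (y * z) := by ring
        rw [e, h2, zero_mul, sub_zero, hyz]
        have : z * z + z * z = 2 * (z * z) := by ring
        rw [this, h2, zero_mul]
      have := mul_self_eq_zero.1 h1
      exact sub_eq_zero.1 this
    obtain ⟨a, ha⟩ := Finite.surjective_of_injective hinj x
    exact ⟨a, 0, by simp only at ha; rw [ha]; ring⟩
  · have hodd : Fintype.card F % 2 = 1 := by
      have hch : ringChar F ≠ 2 := by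
        intro h
        apply h2
        have : CharP F 2 := by rw [← h]; exact ringChar.charP F
        exact CharTwo.two_eq_zero
      exact FiniteField.odd_card_of_char_ne_two hch
    have hd1 : (Polynomial.X ^ 2 : Polynomial F).degree = 2 := Polynomial.degree_X_pow 2
    have hd2 : (Polynomial.X ^ 2 - Polynomial.C x : Polynomial F).degree = 2 :=
      Polynomial.degree_X_pow_sub_C (by norm_num) x
    obtain ⟨a, b, hab⟩ := FiniteField.exists_root_sum_quadratic hd1 hd2 hodd
    refine ⟨a, b, ?_⟩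
    simp only [Polynomial.eval_sub, Polynomial.eval_pow, Polynomial.eval_X, Polynomial.eval_C] at hab
    linear_combination -hab

theorem card5 [Fintype F] (h : 5 ≤ Fintype.card F) (a b c : F) :
    ∃ x : F, x ≠ 0 ∧ x ≠ a ∧ x ≠ b ∧ x ≠ c := by
  classical
  have hcard : ({0, a, b, c} : Finset F).card < Fintype.card F := by
    have h1 : ({0, a, b, c} : Finset F).card ≤ 4 := Finset.card_le_four
    omega
  obtain ⟨x, hx⟩ : ∃ x, x ∉ ({0, a, b, c} : Finset F) := by
    by_contra hcon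
    push Not at hcon
    have : ({0, a, b, c} : Finset F) = Finset.univ := Finset.eq_univ_iff_forall.2 hcon
    rw [this, Finset.card_univ] at hcard
    exact lt_irrefl _ hcard
  simp only [Finset.mem_insert, Finset.mem_singleton, not_or] at hx
  exact ⟨x, hx.1, hx.2.1, hx.2.2.1, hx.2.2.2⟩

end Cfsg.Agent.Lib.Helper28.Od
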