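import Cfsg.Agent.Lib.Helper28.OdA
import Cfsg.Agent.Lib.Helper28.OGenQ
import Cfsg.Agent.Lib.Helper28.DecGen
import Cfsg.Agent.Lib.Helper28.OdG

set_option autoImplicit false
set_option linter.unusedVariables false

namespace Cfsg.Agent.Lib.Helper28.Od

open Matrix Cfsg.Agent.Lib.Helper28.Sf Cfsg.Agent.Lib.Helper28.HForm
  Cfsg.Agent.Lib.Helper28.OGen Cfsg.Agent.Lib.Helper28.OMax Cfsg.Agent.Lib.Helper28.OQ
  Cfsg.Agent.Lib.Helper28.OMax2 Cfsg.Agent.Lib.Helper28.OIwa Cfsg.Agent.Lib.Helper28.Os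
  Cfsg.Agent.Lib.Helper28.ONd Cfsg.Agent.S0795

variable {n : ℕ} {F : Type*} [Field F] {Q : (Fin n → F) → F}
  {f : (Fin n → F) → (Fin n → F) → F}

/-! ## Piece D (file OdD.lean): `move`, `fix`, `sshift` from rotations and Siegel elements -/

namespace DAux

theorem Rf_perp (hq : QF Q f) {v x : Fin n → F} (h : f x v = 0) : Rf Q f v x = x := by
  unfold Rf
  rw [h, zero_div, zero_smul, sub_zero]

theorem Rf_Rf (hq : QF Q f) {v : Fin n → F} (hv : Q v ≠ 0) (x : Fin n → F) :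
    Rf Q f v (Rf Q f v x) = x := by
  have hf := hq.sym
  unfold Rf
  rw [f_sub_left hf, hf.smul_left, f_self hq]
  have : (f x v - f x v / Q v * (2 * Q v)) / Q v = -(f x v / Q v) := by
    field_simp
    ring
  rw [this, neg_smul]
  abel

theorem rot_acts (hq : QF Q f) {B : Submodule F (Fin n → F)} {b b' : Fin n → F} (hb : b ∈ B)
    (hb' : b' ∈ B) {h : Matrix.GeneralLinearGroup (Fin n) F}
    (hh : ∀ x, (h : Matrix (Fin n) (Fin n) F) *ᵥ x = Rf Q f b (Rf Q f b' x)) : ActsOn f B h := by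
  intro x hx
  rw [hh, Rf_perp hq (hx b' hb'), Rf_perp hq (hx b hb)]

theorem sgg_acts (hq : QF Q f) {B : Submodule F (Fin n → F)} {u y : Fin n → F} (hu : u ∈ B)
    (hy : y ∈ B) {s : Matrix.GeneralLinearGroup (Fin n) F} (hs : IsSgg Q f s u y) :
    ActsOn f B s := by
  have hf := hq.sym
  intro x hx
  rw [hs x]
  unfold Sgm
  rw [s_symm hf u x, s_symm hf y x, hx u hu, hx y hy]
  simp

/-- solve two linear conditions inside the block -/
theorem blk_solve2 (hq : QF Q f) {W B : Submodule F (Fin n → F)} (sp : Split f W B)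
    {u v : Fin n → F} (hu : u ∈ B) (hv : v ∈ B) (hu0 : u ≠ 0)
    (hvu : v ∉ Submodule.span F {u}) (α β : F) : ∃ y ∈ B, f y u = α ∧ f y v = β := by
  have hf := hq.sym
  have hli : LinearIndependent F ![u, v] := li2 u v hu0 hvu
  obtain ⟨y, hy⟩ := lin_solve hf _ hli ![α, β]
  have hy1 : f y u = α := by
    have := hy 0
    simpa using this
  have hy2 : f y v = β := by
    have := hy 1
    simpa using this
  obtain ⟨w', hw', o, ho, hsum⟩ := sp.dec y
  refine ⟨o, ho, ?_, ?_⟩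
  · have : o = y - w' := by rw [← hsum]; abel
    rw [this, f_sub_left hf, hy1, sp.orth w' hw' u hu, sub_zero]
  · have : o = y - w' := by rw [← hsum]; abel
    rw [this, f_sub_left hf, hy2, sp.orth w' hw' v hv, sub_zero]

end DAux

open DAux

theorem d_move [Fintype F] (hq : QF Q f) (h2 : (2 : F) ≠ 0) {W B : Submodule F (Fin n → F)}
    (sp : Split f W B) (h3 : Module.finrank F W + 3 ≤ n)
    {N : Subgroup (Matrix.GeneralLinearGroup (Fin n) F)}
    (rot : ∀ b ∈ B, ∀ b' ∈ B, Q b ≠ 0 → Q b' = Q b → ∃ h ∈ N, ∀ x,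
      (h : Matrix (Fin n) (Fin n) F) *ᵥ x = Rf Q f b (Rf Q f b' x))
    {w x : Fin n → F} (hw : w ∈ B) (hx : x ∈ B) (hQw : Q w ≠ 0) (hQx : Q x = Q w)
    (hd : Q (x - w) ≠ 0) :
    ∃ h ∈ N, ActsOn f B h ∧ (h : Matrix (Fin n) (Fin n) F) *ᵥ w = x := by
  have hf := hq.sym
  obtain ⟨b', hb'B, hb'w, hQb'⟩ := blk_univ hq h2 sp h3 hw hQw (Q (x - w)) hd
  have hbB : x - w ∈ B := B.sub_mem hx hw
  obtain ⟨h, hhN, hh⟩ := rot (x - w) hbB b' hb'B hd hQb'
  refine ⟨h, hhN, rot_acts hq hbB hb'B hh, ?_⟩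
  rw [hh, Rf_perp hq (v := b') (x := w) (by rw [s_symm hf]; exact hb'w)]
  unfold Rf
  have h1 : f w (x - w) = -Q (x - w) := by
    rw [f_sub_right hf, f_self hq, Q_sub hq, hQx, s_symm hf w x]
    ring
  rw [h1, neg_div, div_self hd, neg_smul, one_smul]
  abel

theorem d_fix [Fintype F] (hq : QF Q f) (h2 : (2 : F) ≠ 0) (vf : VFacts Q f)
    {G : Subgroup (Matrix.GeneralLinearGroup (Fin n) F)} (hG : SgGroupQ Q f G)
    {W B : Submodule F (Fin n → F)}
    (sp : Split f W B) (h3 : Module.finrank F W + 3 ≤ n)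
    (h5 : Module.finrank F W + 5 ≤ n ∨ 5 ≤ Fintype.card F)
    {N : Subgroup (Matrix.GeneralLinearGroup (Fin n) F)}
    (rot : ∀ b ∈ B, ∀ b' ∈ B, Q b ≠ 0 → Q b' = Q b → ∃ h ∈ N, ∀ x,
      (h : Matrix (Fin n) (Fin n) F) *ᵥ x = Rf Q f b (Rf Q f b' x))
    (sieg : ∀ a ∈ B, ∀ b ∈ B, a ≠ 0 → Q a = 0 → f a b = 0 →
      ∀ s : Matrix.GeneralLinearGroup (Fin n) F, IsSgg Q f s a b → s ∈ N)
    {w v : Fin n → F} (hw : w ∈ B) (hv : v ∈ B) (hw0 : w ≠ 0)
    (hvw : v ∉ Submodule.span F {w}) :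
    ∃ h ∈ N, ActsOn f B h ∧ (h : Matrix (Fin n) (Fin n) F) *ᵥ w = w ∧
      (h : Matrix (Fin n) (Fin n) F) *ᵥ v ≠ v := by
  have hf := hq.sym
  by_cases hQw : Q w = 0
  · -- Siegel element with centre `w`
    have key : ∀ b ∈ B, f w b = 0 →
        f w v • b - f b v • w - (Q b * f w v) • w ≠ 0 →
        ∃ h ∈ N, ActsOn f B h ∧ (h : Matrix (Fin n) (Fin n) F) *ᵥ w = w ∧
          (h : Matrix (Fin n) (Fin n) F) *ᵥ v ≠ v := by
      intro b hbB hwb hne
      obtain ⟨s, -, hs⟩ := ex_sgg hq vf hG hQw hw0 hwb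
      refine ⟨s, sieg w hw b hbB hw0 hQw hwb s hs, sgg_acts hq hw hbB hs, ?_, ?_⟩
      · rw [hs w]
        unfold Sgm
        rw [f_sing hq hQw, s_symm hf b w, hwb]
        simp
      · rw [hs v]
        unfold Sgm
        intro h
        apply hne
        have : v + f w v • b - f b v • w - (Q b * f w v) • w - v = 0 := by rw [h, sub_self]
        rw [← this]
        abel
    by_cases hwv : f w v = 0
    · obtain ⟨b, hbB, hbw, hbv⟩ := blk_solve2 hq sp hw hv hw0 hvw 0 1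
      apply key b hbB (by rw [s_symm hf]; exact hbw)
      rw [hwv, hbv]
      simp only [zero_smul, one_smul, mul_zero, zero_sub, sub_zero]
      exact neg_ne_zero.2 hw0
    · obtain ⟨b, hbB, hwb, hQb⟩ := blk_nsperp hq h2 sp h3 hw hw0 hQw
      apply key b hbB hwb
      intro h
      -- then b ∈ span w, so Q b = 0
      have e1 : f w v • b = (f b v + Q b * f w v) • w := by
        rw [add_smul]
        have : f w v • b = (f w v • b - f b v • w - (Q b * f w v) • w) + f b v • w + (Q b * f w v) • w := by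
          abel
        rw [this, h]
        abel
      have e2 : b = ((f w v)⁻¹ * (f b v + Q b * f w v)) • w := by
        rw [mul_smul, ← e1, smul_smul, inv_mul_cancel₀ hwv, one_smul]
      apply hQb
      rw [e2, hq.smul, hQw, mul_zero]
  · -- rotation inside `B ∩ w^⊥`
    obtain ⟨α, hα⟩ : ∃ α : F, α = f v w / f w w := ⟨_, rfl⟩
    have hww : f w w ≠ 0 := by
      rw [f_self hq]
      exact mul_ne_zero h2 hQw
    obtain ⟨v', hv'⟩ : ∃ v' : Fin n → F, v' = v - α • w := ⟨_, rfl⟩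
    have hv'B : v' ∈ B := by
      rw [hv']
      exact B.sub_mem hv (B.smul_mem _ hw)
    have hv'w : f v' w = 0 := by
      rw [hv', f_sub_left hf, hf.smul_left, hα]
      field_simp
      ring
    have hv'0 : v' ≠ 0 := by
      intro h
      apply hvw
      rw [Submodule.mem_span_singleton]
      refine ⟨α, ?_⟩
      rw [hv'] at h
      exact (sub_eq_zero.1 h).symm
    obtain ⟨b, hbB, hbw, hQb, hv'b⟩ := blk_nsdual hq h2 sp h3 hw hQw hv'B hv'0 hv'w
    obtain ⟨b', hb'B, hb'w, hQb', hb'n⟩ := blk_twin hq h2 sp h3 h5 hw hQw hbB hbw hQb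
    obtain ⟨h, hhN, hh⟩ := rot b hbB b' hb'B hQb hQb'
    have hhw : (h : Matrix (Fin n) (Fin n) F) *ᵥ w = w := by
      rw [hh, Rf_perp hq (v := b') (x := w) (by rw [s_symm hf]; exact hb'w),
        Rf_perp hq (v := b) (x := w) (by rw [s_symm hf]; exact hbw)]
    refine ⟨h, hhN, rot_acts hq hbB hb'B hh, hhw, ?_⟩
    intro hhv
    have hv_eq : v = α • w + v' := by rw [hv']; abel
    have hhv' : (h : Matrix (Fin n) (Fin n) F) *ᵥ v' = v' := by
      have h1 : (h : Matrix (Fin n) (Fin n) F) *ᵥ v =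
          α • w + (h : Matrix (Fin n) (Fin n) F) *ᵥ v' := by
        rw [hv_eq, Matrix.mulVec_add, Matrix.mulVec_smul, hhw]
      rw [hhv] at h1
      have h2' : α • w + v' = α • w + (h : Matrix (Fin n) (Fin n) F) *ᵥ v' := by
        rw [← hv_eq]; exact h1
      exact (add_left_cancel h2').symm
    rw [hh] at hhv'
    have h3' : Rf Q f b' v' = Rf Q f b v' := by
      have := congrArg (Rf Q f b) hhv'
      rw [Rf_Rf hq hQb] at this
      exact this
    unfold Rf at h3'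
    have h4 : (f v' b' / Q b') • b' = (f v' b / Q b) • b := by
      have := sub_right_injective h3'
      exact this
    have hc : f v' b / Q b ≠ 0 := div_ne_zero hv'b hQb
    have hc' : f v' b' / Q b' ≠ 0 := by
      intro h0
      rw [h0, zero_smul] at h4
      have := smul_eq_zero.1 h4.symm
      rcases this with h' | h'
      · exact hc h'
      · rw [h', Q_zero hq] at hQb
        exact hQb rfl
    apply hb'n
    rw [Submodule.mem_span_singleton]
    refine ⟨(f v' b' / Q b')⁻¹ * (f v' b / Q b), ?_⟩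
    rw [mul_smul, ← h4, smul_smul, inv_mul_cancel₀ hc', one_smul]

theorem d_sshift [Fintype F] (hq : QF Q f) (h2 : (2 : F) ≠ 0) (vf : VFacts Q f)
    {G : Subgroup (Matrix.GeneralLinearGroup (Fin n) F)} (hG : SgGroupQ Q f G)
    {W B : Submodule F (Fin n → F)}
    (sp : Split f W B) (h3 : Module.finrank F W + 3 ≤ n)
    (h5 : Module.finrank F W + 5 ≤ n ∨ 5 ≤ Fintype.card F)
    {N : Subgroup (Matrix.GeneralLinearGroup (Fin n) F)}
    (rot : ∀ b ∈ B, ∀ b' ∈ B, Q b ≠ 0 → Q b' = Q b → ∃ h ∈ N, ∀ x,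
      (h : Matrix (Fin n) (Fin n) F) *ᵥ x = Rf Q f b (Rf Q f b' x))
    (sieg : ∀ a ∈ B, ∀ b ∈ B, a ≠ 0 → Q a = 0 → f a b = 0 →
      ∀ s : Matrix.GeneralLinearGroup (Fin n) F, IsSgg Q f s a b → s ∈ N)
    {w : Fin n → F} (hw : w ∈ B) (hw0 : w ≠ 0) (hQw : Q w = 0) :
    ∃ h ∈ N, ActsOn f B h ∧ Q ((h : Matrix (Fin n) (Fin n) F) *ᵥ w - w) = 0 ∧
      (h : Matrix (Fin n) (Fin n) F) *ᵥ w - w ≠ 0 := by
  have hf := hq.sym
  rcases h5 with h5 | h5
  · -- Siegel element with centre `e ⟂ w`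
    obtain ⟨e, heB, he0, hQe, hew, hen⟩ := blk_plus hq sp h5 hw
    have hwe : w ∉ Submodule.span F {e} := by
      intro h
      rw [Submodule.mem_span_singleton] at h
      obtain ⟨c, hc⟩ := h
      apply hen
      rw [Submodule.mem_span_singleton]
      have hc0 : c ≠ 0 := by
        rintro rfl
        rw [zero_smul] at hc
        exact hw0 hc.symm
      refine ⟨c⁻¹, ?_⟩
      rw [← hc, smul_smul, inv_mul_cancel₀ hc0, one_smul]
    obtain ⟨y, hyB, hye, hyw⟩ := blk_solve2 hq sp heB hw he0 hwe 0 1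
    have hey : f e y = 0 := by rw [s_symm hf]; exact hye
    obtain ⟨s, -, hs⟩ := ex_sgg hq vf hG hQe he0 hey
    have hsw : (s : Matrix (Fin n) (Fin n) F) *ᵥ w - w = -e := by
      rw [hs w]
      unfold Sgm
      rw [hew, hyw]
      simp
    refine ⟨s, sieg e heB y hyB he0 hQe hey s hs, sgg_acts hq heB hyB hs, ?_, ?_⟩
    · rw [hsw, Q_neg hq, hQe]
    · rw [hsw]
      exact neg_ne_zero.2 he0
  · -- a torus element
    obtain ⟨u', hu'B, hQu', hu'w⟩ := split_partner hq sp hw hw0 hQw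
    obtain ⟨d, hd0, hd1, hdm1, -⟩ := card5 h5 (1 : F) (-1) 0
    have hwu' : f w u' = 1 := by rw [s_symm hf]; exact hu'w
    have hQb : Q (w - u') = -1 := by
      rw [Q_sub hq, hQw, hQu', hwu']
      ring
    have hQb' : Q (d • w - d⁻¹ • u') = -1 := by
      rw [Q_sub hq, hq.smul, hq.smul, hQw, hQu', hf.smul_left, s_smul_right hf, hwu']
      field_simp
      ring
    have hbB : w - u' ∈ B := B.sub_mem hw hu'B
    have hb'B : d • w - d⁻¹ • u' ∈ B := B.sub_mem (B.smul_mem _ hw) (B.smul_mem _ hu'B)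
    have hne : Q (w - u') ≠ 0 := by
      rw [hQb]
      exact neg_ne_zero.2 one_ne_zero
    obtain ⟨h, hhN, hh⟩ := rot (w - u') hbB (d • w - d⁻¹ • u') hb'B hne (by rw [hQb, hQb'])
    have hhw : (h : Matrix (Fin n) (Fin n) F) *ᵥ w = (d⁻¹ * d⁻¹) • w := by
      rw [hh]
      have e1 : Rf Q f (d • w - d⁻¹ • u') w = (d⁻¹ * d⁻¹) • u' := by
        unfold Rf
        rw [hQb', f_sub_right hf, s_smul_right hf, s_smul_right hf, f_sing hq hQw, hwu']
        have : (d * 0 - d⁻¹ * 1) / -1 = d⁻¹ := by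
          field_simp
          ring
        rw [this, smul_sub, smul_smul, smul_smul, inv_mul_cancel₀ hd0, one_smul]
        abel
      rw [e1]
      unfold Rf
      rw [hQb, hf.smul_left, f_sub_right hf, f_sing hq hQu', hu'w]
      have : d⁻¹ * d⁻¹ * (1 - 0) / -1 = -(d⁻¹ * d⁻¹) := by
        rw [sub_zero, mul_one, div_neg, div_one]
      rw [this, neg_smul, smul_sub]
      abel
    have hsq : d⁻¹ * d⁻¹ - 1 ≠ 0 := by
      intro h0
      have h1 : d * d = 1 := by
        have : d⁻¹ * d⁻¹ = 1 := sub_eq_zero.1 h0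
        field_simp at this
        linear_combination -this
      have h2' : (d - 1) * (d + 1) = 0 := by linear_combination h1
      rcases mul_eq_zero.1 h2' with h' | h'
      · exact hd1 (sub_eq_zero.1 h')
      · apply hdm1
        linear_combination h'
    have hdiff : (h : Matrix (Fin n) (Fin n) F) *ᵥ w - w = (d⁻¹ * d⁻¹ - 1) • w := by
      rw [hhw, sub_smul, one_smul]
    refine ⟨h, hhN, rot_acts hq hbB hb'B hh, ?_, ?_⟩
    · rw [hdiff, hq.smul, hQw, mul_zero]
    · rw [hdiff]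
      exact smul_ne_zero hsq hw0

end Cfsg.Agent.Lib.Helper28.Od
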