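import Cfsg.Agent.Lib.Helper28.OdB

set_option autoImplicit false

namespace Cfsg.Agent.Lib.Helper28.Od

open Matrix Cfsg.Agent.Lib.Helper28.Sf Cfsg.Agent.Lib.Helper28.HForm
  Cfsg.Agent.Lib.Helper28.OGen Cfsg.Agent.Lib.Helper28.OMax Cfsg.Agent.Lib.Helper28.OQ
  Cfsg.Agent.Lib.Helper28.OMax2 Cfsg.Agent.Lib.Helper28.OIwa Cfsg.Agent.Lib.Helper28.Os

variable {n : ℕ} {F : Type*} [Field F] {t : ℕ} {Q : (Fin n → F) → F}
  {f : (Fin n → F) → (Fin n → F) → F} {D : Fin t → Submodule F (Fin n → F)}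
  {pr : Fin t → (Fin n → F) →ₗ[F] (Fin n → F)}
  {G N M : Subgroup (Matrix.GeneralLinearGroup (Fin n) F)}

namespace Ctx

theorem hf (C : Ctx Q f D pr G N M) : SymF f := C.hq.sym

theorem pr_pr (C : Ctx Q f D pr G N M) (i : Fin t) (x : Fin n → F) : pr i (pr i x) = pr i x :=
  C.pr_self i _ (C.pr_mem i x)

theorem pr_pr_ne (C : Ctx Q f D pr G N M) {i j : Fin t} (hij : i ≠ j) (x : Fin n → F) :
    pr i (pr j x) = 0 := C.pr_other i j hij _ (C.pr_mem j x)

/-- `f x y` only sees the `j`-component of `x` when `y` lies in the block `j` -/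
theorem f_pr_left (C : Ctx Q f D pr G N M) (x : Fin n → F) {j : Fin t} {y : Fin n → F}
    (hy : y ∈ D j) : f x y = f (pr j x) y := by
  have hf := C.hf
  conv_lhs => rw [← C.pr_sum x]
  rw [f_sum_left hf]
  rw [Finset.sum_eq_single j]
  · intro i _ hij
    exact C.orth i j hij _ (C.pr_mem i x) y hy
  · intro h
    exact absurd (Finset.mem_univ j) h

theorem f_pr_right (C : Ctx Q f D pr G N M) {j : Fin t} {x : Fin n → F} (hx : x ∈ D j)
    (y : Fin n → F) : f x y = f x (pr j y) := by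
  rw [s_symm C.hf, C.f_pr_left y hx, s_symm C.hf]

theorem f_eq_sum (C : Ctx Q f D pr G N M) (x y : Fin n → F) :
    f x y = ∑ i, f (pr i x) (pr i y) := by
  have hf := C.hf
  conv_lhs => rw [← C.pr_sum x]
  rw [f_sum_left hf]
  apply Finset.sum_congr rfl
  intro i _
  exact C.f_pr_right (C.pr_mem i x) y

theorem Q_sum_orth (hq : QF Q f) {ι : Type*} (s : Finset ι) (g : ι → (Fin n → F))
    (h : ∀ i ∈ s, ∀ j ∈ s, i ≠ j → f (g i) (g j) = 0) :
    Q (∑ i ∈ s, g i) = ∑ i ∈ s, Q (g i) := by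
  classical
  induction s using Finset.induction_on with
  | empty => simpa using Q_zero hq
  | insert a s ha ih =>
    rw [Finset.sum_insert ha, Finset.sum_insert ha, hq.polar, ih (fun i hi j hj hij =>
      h i (Finset.mem_insert_of_mem hi) j (Finset.mem_insert_of_mem hj) hij)]
    have h0 : f (g a) (∑ i ∈ s, g i) = 0 := by
      rw [s_symm hq.sym, f_sum_left hq.sym]
      apply Finset.sum_eq_zero
      intro i hi
      rw [s_symm hq.sym]
      apply h a (Finset.mem_insert_self a s) i (Finset.mem_insert_of_mem hi)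
      rintro rfl
      exact ha hi
    rw [h0, add_zero]

theorem Q_eq_sum (C : Ctx Q f D pr G N M) (x : Fin n → F) : Q x = ∑ i, Q (pr i x) := by
  conv_lhs => rw [← C.pr_sum x]
  apply Q_sum_orth C.hq
  intro i _ j _ hij
  exact C.orth i j hij _ (C.pr_mem i x) _ (C.pr_mem j x)

/-- perpendicular to the block `j` iff the `j`-component vanishes -/
theorem perp_block_iff (C : Ctx Q f D pr G N M) (x : Fin n → F) (j : Fin t) :
    (∀ y ∈ D j, f x y = 0) ↔ pr j x = 0 := by
  constructor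
  · intro h
    by_contra h0
    obtain ⟨y, hy, hy'⟩ := C.nd j _ (C.pr_mem j x) h0
    apply hy'
    rw [← C.f_pr_left x hy]
    exact h y hy
  · intro h y hy
    rw [C.f_pr_left x hy, h, f_zero_left C.hf]

theorem mem_block_iff (C : Ctx Q f D pr G N M) (x : Fin n → F) (j : Fin t) :
    x ∈ D j ↔ ∀ i, i ≠ j → pr i x = 0 := by
  constructor
  · intro hx i hij
    exact C.pr_other i j hij x hx
  · intro h
    have e : x = pr j x := by
      conv_lhs => rw [← C.pr_sum x]
      rw [Finset.sum_eq_single j]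
      · intro i _ hij
        exact h i hij
      · intro h'
        exact absurd (Finset.mem_univ j) h'
    rw [e]
    exact C.pr_mem j x

theorem pr_zero_of_mem (C : Ctx Q f D pr G N M) {x : Fin n → F} {i j : Fin t} (hx : x ∈ D j)
    (hij : i ≠ j) : pr i x = 0 := C.pr_other i j hij x hx

theorem perp_of_mem (C : Ctx Q f D pr G N M) {x : Fin n → F} {i j : Fin t} (hx : x ∈ D i)
    (hij : i ≠ j) : ∀ y ∈ D j, f x y = 0 := fun y hy => C.orth i j hij x hx y hy

/-- a vector lying in no block has two non-zero components -/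
theorem two_comp (C : Ctx Q f D pr G N M) {w : Fin n → F} (hw : ∀ i, w ∉ D i) (j : Fin t) :
    ∃ i, i ≠ j ∧ pr i w ≠ 0 := by
  by_contra h
  push Not at h
  exact hw j ((C.mem_block_iff w j).2 h)

theorem ne_zero_of_not_mem (C : Ctx Q f D pr G N M) {w : Fin n → F} (hw : ∀ i, w ∉ D i) :
    w ≠ 0 := by
  rintro rfl
  have : 0 < t := by have := C.three; omega
  exact hw ⟨0, this⟩ (Submodule.zero_mem _)

theorem not_mem_of_perp (C : Ctx Q f D pr G N M) {w : Fin n → F} (hw0 : w ≠ 0) {j : Fin t}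
    (h : pr j w = 0) : w ∉ D j := by
  intro hw
  rw [C.pr_self j w hw] at h
  exact hw0 h

theorem N_le_G (C : Ctx Q f D pr G N M) : N ≤ G := C.NM.trans C.MG

theorem isoM (C : Ctx Q f D pr G N M) {g : Matrix.GeneralLinearGroup (Fin n) F} (hg : g ∈ M) :
    ∀ x, Q ((g : Matrix (Fin n) (Fin n) F) *ᵥ x) = Q x := C.hG.iso g (C.MG hg)

theorem isoN (C : Ctx Q f D pr G N M) {g : Matrix.GeneralLinearGroup (Fin n) F} (hg : g ∈ N) :
    ∀ x, Q ((g : Matrix (Fin n) (Fin n) F) *ᵥ x) = Q x := C.isoM (C.NM hg)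

theorem isoM_f (C : Ctx Q f D pr G N M) {g : Matrix.GeneralLinearGroup (Fin n) F} (hg : g ∈ M)
    (x y : Fin n → F) : f ((g : Matrix (Fin n) (Fin n) F) *ᵥ x)
      ((g : Matrix (Fin n) (Fin n) F) *ᵥ y) = f x y := iso_f C.hq g (C.isoM hg) x y

/-! ### elements acting on one block -/

theorem acts_apply (C : Ctx Q f D pr G N M) {h : Matrix.GeneralLinearGroup (Fin n) F}
    {j : Fin t} (hact : ActsOn f (D j) h) (x : Fin n → F) :
    (h : Matrix (Fin n) (Fin n) F) *ᵥ x =
      x - pr j x + (h : Matrix (Fin n) (Fin n) F) *ᵥ (pr j x) := by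
  have h1 : (h : Matrix (Fin n) (Fin n) F) *ᵥ (x - pr j x) = x - pr j x := by
    apply hact
    rw [C.perp_block_iff, map_sub, C.pr_pr, sub_self]
  have e : x = (x - pr j x) + pr j x := by abel
  conv_lhs => rw [e]
  rw [Matrix.mulVec_add, h1]

theorem acts_fix_perp (C : Ctx Q f D pr G N M) {h : Matrix.GeneralLinearGroup (Fin n) F}
    {j : Fin t} (hact : ActsOn f (D j) h) {x : Fin n → F} (hx : pr j x = 0) :
    (h : Matrix (Fin n) (Fin n) F) *ᵥ x = x :=
  hact x ((C.perp_block_iff x j).2 hx)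

theorem acts_fix_other (C : Ctx Q f D pr G N M) {h : Matrix.GeneralLinearGroup (Fin n) F}
    {i j : Fin t} (hact : ActsOn f (D j) h) (hij : i ≠ j) {x : Fin n → F} (hx : x ∈ D i) :
    (h : Matrix (Fin n) (Fin n) F) *ᵥ x = x :=
  C.acts_fix_perp hact (C.pr_other j i hij.symm x hx)

theorem acts_mem (C : Ctx Q f D pr G N M) {h : Matrix.GeneralLinearGroup (Fin n) F}
    (hh : h ∈ M) {j : Fin t} (hact : ActsOn f (D j) h) {x : Fin n → F} (hx : x ∈ D j) :
    (h : Matrix (Fin n) (Fin n) F) *ᵥ x ∈ D j := by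
  rw [C.mem_block_iff]
  intro i hij
  rw [← C.perp_block_iff]
  intro y hy
  have h1 := C.isoM_f hh x y
  rw [C.acts_fix_other hact hij hy] at h1
  rw [h1]
  exact C.orth j i hij.symm x hx y hy

theorem acts_pr_same (C : Ctx Q f D pr G N M) {h : Matrix.GeneralLinearGroup (Fin n) F}
    (hh : h ∈ M) {j : Fin t} (hact : ActsOn f (D j) h) (x : Fin n → F) :
    pr j ((h : Matrix (Fin n) (Fin n) F) *ᵥ x) = (h : Matrix (Fin n) (Fin n) F) *ᵥ (pr j x) := by
  rw [C.acts_apply hact x, map_add, map_sub, C.pr_pr, sub_self, zero_add]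
  exact C.pr_self j _ (C.acts_mem hh hact (C.pr_mem j x))

theorem acts_pr_other (C : Ctx Q f D pr G N M) {h : Matrix.GeneralLinearGroup (Fin n) F}
    (hh : h ∈ M) {i j : Fin t} (hact : ActsOn f (D j) h) (hij : i ≠ j) (x : Fin n → F) :
    pr i ((h : Matrix (Fin n) (Fin n) F) *ᵥ x) = pr i x := by
  rw [C.acts_apply hact x, map_add, map_sub, C.pr_pr_ne hij, sub_zero,
    C.pr_other i j hij _ (C.acts_mem hh hact (C.pr_mem j x)), add_zero]

/-! ### geometry inside a block -/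

/-- hyperbolic partner inside the block -/
theorem partner (C : Ctx Q f D pr G N M) {j : Fin t} {a : Fin n → F} (ha : a ∈ D j)
    (ha0 : a ≠ 0) (hQa : Q a = 0) : ∃ a' ∈ D j, Q a' = 0 ∧ f a a' = 1 := by
  have hf := C.hf
  obtain ⟨y, hy, hay⟩ := C.nd j a ha ha0
  obtain ⟨z, hz⟩ : ∃ z : Fin n → F, z = (f a y)⁻¹ • y := ⟨_, rfl⟩
  have hzD : z ∈ D j := by rw [hz]; exact (D j).smul_mem _ hy
  have haz : f a z = 1 := by rw [hz, s_smul_right hf, inv_mul_cancel₀ hay]
  refine ⟨z - Q z • a, (D j).sub_mem hzD ((D j).smul_mem _ ha), ?_, ?_⟩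
  · rw [Q_sub C.hq, C.hq.smul, hQa, mul_zero, add_zero, s_smul_right hf, s_symm hf z a, haz,
      mul_one, sub_self]
  · rw [f_sub_right hf, s_smul_right hf, f_sing C.hq hQa, mul_zero, sub_zero, haz]

/-- every vector of the block is `α a + β a' + s` with `s` singular and `f a s = 1` -/
theorem block_decomp (C : Ctx Q f D pr G N M) {j : Fin t} {a a' : Fin n → F} (ha : a ∈ D j)
    (ha' : a' ∈ D j) (hQa : Q a = 0) (hQa' : Q a' = 0) (haa' : f a a' = 1) {x : Fin n → F}
    (hx : x ∈ D j) : ∃ s ∈ D j, Q s = 0 ∧ f a s = 1 ∧ ∃ α β : F, x = α • a + β • a' + s := by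
  have hf := C.hf
  have ha'a : f a' a = 1 := by rw [s_symm hf, haa']
  obtain ⟨e, he⟩ : ∃ e : Fin n → F, e = x - f x a' • a - f x a • a' := ⟨_, rfl⟩
  have heD : e ∈ D j := by
    rw [he]
    exact (D j).sub_mem ((D j).sub_mem hx ((D j).smul_mem _ ha)) ((D j).smul_mem _ ha')
  have hea : f e a = 0 := by
    rw [he, f_sub_left hf, f_sub_left hf, hf.smul_left, hf.smul_left, f_sing C.hq hQa, ha'a]
    ring
  have hea' : f e a' = 0 := by
    rw [he, f_sub_left hf, f_sub_left hf, hf.smul_left, hf.smul_left, f_sing C.hq hQa', haa']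
    ring
  refine ⟨a' + e - Q e • a, (D j).sub_mem ((D j).add_mem ha' heD) ((D j).smul_mem _ ha), ?_, ?_,
    f x a' + Q e, f x a - 1, ?_⟩
  · rw [Q_sub C.hq, C.hq.polar, hQa', C.hq.smul, hQa, mul_zero, add_zero, zero_add,
      s_smul_right hf, hf.add_left, ha'a, hea, s_symm hf a' e, hea']
    ring
  · rw [f_sub_right hf, f_add_right hf, s_smul_right hf, f_sing C.hq hQa, haa', s_symm hf a e, hea]
    ring
  · rw [he]
    module

/-- some singular vector of the block is not perpendicular to a given non-zero vector -/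
theorem sing_dual (C : Ctx Q f D pr G N M) {j : Fin t} {v : Fin n → F} (hv : v ∈ D j)
    (hv0 : v ≠ 0) : ∃ a ∈ D j, a ≠ 0 ∧ Q a = 0 ∧ f a v ≠ 0 := by
  have hf := C.hf
  by_contra hcon
  push Not at hcon
  obtain ⟨a, ha, ha0, hQa⟩ := C.sing j
  obtain ⟨a', ha', hQa', haa'⟩ := C.partner ha ha0 hQa
  have ha'0 : a' ≠ 0 := by
    rintro rfl
    rw [f_zero_right hf] at haa'
    exact zero_ne_one haa'
  obtain ⟨y, hy, hvy⟩ := C.nd j v hv hv0
  obtain ⟨s, hs, hQs, has, α, β, hx⟩ := C.block_decomp ha ha' hQa hQa' haa' hy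
  have hs0 : s ≠ 0 := by
    rintro rfl
    rw [f_zero_right hf] at has
    exact zero_ne_one has
  apply hvy
  rw [hx, f_add_right hf, f_add_right hf, s_smul_right hf, s_smul_right hf, s_symm hf v a,
    s_symm hf v a', s_symm hf v s, hcon a ha ha0 hQa, hcon a' ha' ha'0 hQa', hcon s hs hs0 hQs]
  ring

end Ctx

end Cfsg.Agent.Lib.Helper28.Od
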