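import Cfsg.Agent.Lib.Helper28.OdE

set_option autoImplicit false

namespace Cfsg.Agent.Lib.Helper28.Od

open Matrix Cfsg.Agent.Lib.Helper28.Sf Cfsg.Agent.Lib.Helper28.HForm
  Cfsg.Agent.Lib.Helper28.OGen Cfsg.Agent.Lib.Helper28.OMax Cfsg.Agent.Lib.Helper28.OQ
  Cfsg.Agent.Lib.Helper28.OMax2 Cfsg.Agent.Lib.Helper28.OIwa Cfsg.Agent.Lib.Helper28.Os
  Cfsg.Agent.Lib.Helper28.ONd

variable {n : ℕ} {F : Type*} [Field F] {t : ℕ} {Q : (Fin n → F) → F}
  {f : (Fin n → F) → (Fin n → F) → F} {D : Fin t → Submodule F (Fin n → F)}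
  {pr : Fin t → (Fin n → F) →ₗ[F] (Fin n → F)}
  {G N M : Subgroup (Matrix.GeneralLinearGroup (Fin n) F)}

namespace Ctx

/-- Siegel elements inside a block lie in `M` -/
theorem blockSieg (C : Ctx Q f D pr G N M) {j : Fin t} {a b : Fin n → F} (ha : a ∈ D j)
    (hb : b ∈ D j) (ha0 : a ≠ 0) (hQa : Q a = 0) (hab : f a b = 0) :
    ∃ s ∈ N, IsSgg Q f s a b := by
  obtain ⟨s, _, hs⟩ := ex_sgg C.hq C.vf C.hG hQa ha0 hab
  exact ⟨s, C.sieg j a ha b hb ha0 hQa hab s hs, hs⟩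

theorem sgm_fix (hq : QF Q f) {a b x : Fin n → F} (h1 : f a x = 0) (h2 : f b x = 0) :
    Sgm Q f a b x = x := by
  unfold Sgm
  rw [h1, h2]
  simp

/-- one step of the spreading argument -/
theorem spread_step (C : Ctx Q f D pr G N M) {u : Fin n → F} (hu : Q u = 0) {j : Fin t}
    (hj : pr j u = 0) {y : Fin n → F} (hy : y ∈ YY Q f M u) {a : Fin n → F} (ha : a ∈ D j)
    (ha0 : a ≠ 0) (hQa : Q a = 0) (hay : f a y ≠ 0) (μ : F) : μ • a ∈ YY Q f M u := by
  have hf := C.hf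
  obtain ⟨b, hb, hab, hQb⟩ := C.nsperp j a ha ha0 hQa
  have hperp : ∀ z ∈ D j, f z u = 0 := by
    intro z hz
    rw [s_symm hf]
    exact (C.perp_block_iff u j).2 hj z hz
  -- the elements `d λ`
  have key : ∀ l : F, (f a y * l) • b - (l * f b y) • a - (l * l * Q b * f a y) • a
      ∈ YY Q f M u := by
    intro l
    have hlb : l • b ∈ D j := (D j).smul_mem _ hb
    obtain ⟨s, hsN, hs⟩ := C.blockSieg ha hlb ha0 hQa (by rw [s_smul_right hf, hab, mul_zero])
    have hsu : (s : Matrix (Fin n) (Fin n) F) *ᵥ u = u := by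
      rw [hs u]
      exact sgm_fix C.hq (hperp a ha) (hperp _ hlb)
    have h1 := yy_comm C.hq hu (C.NM hsN) (C.isoN hsN) hsu hy
    rw [hs y] at h1
    have e : Sgm Q f a (l • b) y - y =
        (f a y * l) • b - (l * f b y) • a - (l * l * Q b * f a y) • a := by
      unfold Sgm
      rw [C.hq.smul, hf.smul_left]
      module
    rwa [e] at h1
  have key2 : ∀ l : F, (-(2 * Q b * f a y) * (l * l)) • a ∈ YY Q f M u := by
    intro l
    have h1 := yy_add C.hq hu (key l) (key (-l))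
    have e : (f a y * l) • b - (l * f b y) • a - (l * l * Q b * f a y) • a +
        ((f a y * -l) • b - (-l * f b y) • a - (-l * -l * Q b * f a y) • a) =
        (-(2 * Q b * f a y) * (l * l)) • a := by
      module
    rwa [e] at h1
  have hc : -(2 * Q b * f a y) ≠ 0 :=
    neg_ne_zero.2 (mul_ne_zero (mul_ne_zero C.h2 hQb) hay)
  obtain ⟨α, β, hαβ⟩ := C.sq2 (μ / -(2 * Q b * f a y))
  have h3 := yy_add C.hq hu (key2 α) (key2 β)
  have e : (-(2 * Q b * f a y) * (α * α)) • a + (-(2 * Q b * f a y) * (β * β)) • a = μ • a := by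
    rw [← add_smul, ← mul_add, ← hαβ, mul_div_cancel₀ _ hc]
  rwa [e] at h3

/-- the spreading lemma: a non-zero `j`-component of some direction gives the whole block `j` -/
theorem spread (C : Ctx Q f D pr G N M) {u : Fin n → F} (hu : Q u = 0) {j : Fin t}
    (hj : pr j u = 0) {y : Fin n → F} (hy : y ∈ YY Q f M u) (hyj : pr j y ≠ 0) :
    ∀ x ∈ D j, x ∈ YY Q f M u := by
  have hf := C.hf
  obtain ⟨a, ha, ha0, hQa, hay⟩ := C.sing_dual (C.pr_mem j y) hyj
  have hay' : f a y ≠ 0 := by rw [C.f_pr_right ha y]; exact hay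
  have hFa : ∀ μ : F, μ • a ∈ YY Q f M u := C.spread_step hu hj hy ha ha0 hQa hay'
  obtain ⟨a', ha', hQa', haa'⟩ := C.partner ha ha0 hQa
  have hone : (1 : F) • a ∈ YY Q f M u := hFa 1
  rw [one_smul] at hone
  have hFs : ∀ s ∈ D j, Q s = 0 → f a s = 1 → ∀ μ : F, μ • s ∈ YY Q f M u := by
    intro s hs hQs has μ
    have hs0 : s ≠ 0 := by
      rintro rfl
      rw [f_zero_right hf] at has
      exact zero_ne_one has
    exact C.spread_step hu hj hone hs hs0 hQs (by rw [s_symm hf, has]; exact one_ne_zero) μ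
  intro x hx
  obtain ⟨s, hs, hQs, has, α, β, rfl⟩ := C.block_decomp ha ha' hQa hQa' haa' hx
  have h1 := hFs s hs hQs has 1
  rw [one_smul] at h1
  exact yy_add C.hq hu (yy_add C.hq hu (hFa α) (hFs a' ha' hQa' haa' β)) h1

/-- a direction with a non-zero component in a block perpendicular to the centre gives `Crux` -/
theorem crux_out (C : Ctx Q f D pr G N M) {w : Fin n → F} (hw : Q w = 0) (hw0 : w ≠ 0)
    {j : Fin t} (hj : pr j w = 0) {y : Fin n → F} (hy : y ∈ YY Q f M w) (hyj : pr j y ≠ 0) :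
    Crux Q f D M := by
  have h1 := C.spread hw hj hy hyj
  obtain ⟨b, hb, hb0, hQb⟩ := C.sing j
  exact ⟨j, b, hb, hb0, hQb, w, yy_flip C.hq hw hQb (h1 b hb), C.not_mem_of_perp hw0 hj⟩

/-- `RR i j`: every singular centre in block `i` has all of block `j` as directions -/
def RR (Q : (Fin n → F) → F) (f : (Fin n → F) → (Fin n → F) → F)
    (D : Fin t → Submodule F (Fin n → F)) (M : Subgroup (Matrix.GeneralLinearGroup (Fin n) F))
    (i j : Fin t) : Prop :=
  ∀ b ∈ D i, b ≠ 0 → Q b = 0 → ∀ x ∈ D j, x ∈ YY Q f M b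

theorem rr_of_one (C : Ctx Q f D pr G N M) {i j : Fin t} (hij : i ≠ j) {b : Fin n → F}
    (hb : b ∈ D i) (hb0 : b ≠ 0) (hQb : Q b = 0) {y : Fin n → F} (hy : y ∈ YY Q f M b)
    (hyj : pr j y ≠ 0) : RR Q f D M j i := by
  have h1 := C.spread hQb (C.pr_other j i hij.symm b hb) hy hyj
  intro b' hb' hb'0 hQb' x hx
  have h2 : b ∈ YY Q f M b' := yy_flip C.hq hQb hQb' (h1 b' hb')
  exact C.spread hQb' (C.pr_other i j hij b' hb') h2 (by rw [C.pr_self i b hb]; exact hb0) x hx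

theorem rr_symm (C : Ctx Q f D pr G N M) {i j : Fin t} (hij : i ≠ j) (h : RR Q f D M i j) :
    RR Q f D M j i := by
  obtain ⟨b, hb, hb0, hQb⟩ := C.sing i
  obtain ⟨x, hx, hx0, _⟩ := C.sing j
  exact C.rr_of_one hij hb hb0 hQb (h b hb hb0 hQb x hx) (by rw [C.pr_self j x hx]; exact hx0)

theorem rr_pull (C : Ctx Q f D pr G N M) {i j i' j' : Fin t}
    {c : Matrix.GeneralLinearGroup (Fin n) F} (hc : c ∈ M)
    (h1 : ∀ x ∈ D i', (c : Matrix (Fin n) (Fin n) F) *ᵥ x ∈ D i)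
    (h2 : ∀ x ∈ D j', (c : Matrix (Fin n) (Fin n) F) *ᵥ x ∈ D j) (h : RR Q f D M i j) :
    RR Q f D M i' j' := by
  intro b hb hb0 hQb x hx
  have h3 := h _ (h1 b hb) (Cfsg.Agent.Lib.Helper28.DecGen.gl_ne_zero c b hb0)
    (by rw [C.isoM hc, hQb]) _ (h2 x hx)
  have hc' : c⁻¹ ∈ M := M.inv_mem hc
  have h4 := yy_conj C.hq hc' (C.isoM hc') h3
  rwa [Cfsg.Agent.S5643.inv_mv, Cfsg.Agent.S5643.inv_mv] at h4

theorem rr_third (C : Ctx Q f D pr G N M) {i j l : Fin t} (hij : i ≠ j) (hjl : j ≠ l)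
    (hil : i ≠ l) (h : RR Q f D M i j) : RR Q f D M l i ∧ RR Q f D M j l := by
  obtain ⟨c, hcN, h1, h2, h3, _⟩ := C.cyc i j l hij hjl hil
  have hc := C.NM hcN
  have hli : RR Q f D M l i := C.rr_pull hc h3 h1 h
  exact ⟨hli, C.rr_pull hc h2 h3 hli⟩

theorem rr_all (C : Ctx Q f D pr G N M) {i j : Fin t} (hij : i ≠ j) (h : RR Q f D M i j)
    (a b : Fin t) (hab : a ≠ b) : RR Q f D M a b := by
  have hji := C.rr_symm hij h
  -- pairs containing `i`
  have hi : ∀ l, l ≠ i → RR Q f D M i l ∧ RR Q f D M l i := by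
    intro l hl
    by_cases hlj : l = j
    · subst hlj
      exact ⟨h, hji⟩
    · have h1 := (C.rr_third hij (Ne.symm hlj) (Ne.symm hl) h).1
      exact ⟨C.rr_symm hl h1, h1⟩
  by_cases hai : a = i
  · subst hai
    exact (hi b (Ne.symm hab)).1
  by_cases hbi : b = i
  · subst hbi
    exact (hi a hai).2
  · -- from `RR i a` and the third block `b`
    have h1 := (hi a hai).1
    exact (C.rr_third (Ne.symm hai) hab (Ne.symm hbi) h1).2

/-- Step A: `Crux` forces `M = G` -/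
theorem crux_top (C : Ctx Q f D pr G N M) (h : Crux Q f D M) : G ≤ M := by
  have hf := C.hf
  obtain ⟨i, u, hu, hu0, hQu, y, hy, hyi⟩ := h
  -- some other component of `y` is non-zero
  obtain ⟨j, hji, hyj⟩ : ∃ j, j ≠ i ∧ pr j y ≠ 0 := by
    by_contra hcon
    push Not at hcon
    exact hyi ((C.mem_block_iff y i).2 hcon)
  have hR := C.rr_of_one (Ne.symm hji) hu hu0 hQu hy hyj
  have hall := C.rr_all hji hR
  -- every singular vector of a block has all directions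
  have hfull : ∀ m, ∀ b ∈ D m, b ≠ 0 → Q b = 0 → ∀ z, f b z = 0 → z ∈ YY Q f M b := by
    intro m b hb hb0 hQb z hbz
    rw [← C.pr_sum z]
    apply yy_sum C.hq hQb
    intro l _
    by_cases hlm : l = m
    · subst hlm
      have h0 : f b (pr l z) = 0 := by rw [← C.f_pr_right hb z, hbz]
      obtain ⟨s, hsN, hs⟩ := C.blockSieg hb (C.pr_mem l z) hb0 hQb h0
      exact ⟨h0, s, C.NM hsN, hs⟩
    · exact hall m l (Ne.symm hlm) b hb hb0 hQb _ (C.pr_mem l z)
  have hX : ∀ m, ∀ b ∈ D m, b ≠ 0 → Q b = 0 → b ∈ XSQ Q f M := by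
    intro m b hb hb0 hQb
    refine ⟨hQb, fun v c s hv hbv hs => ?_⟩
    obtain ⟨_, s', hs'M, hs'⟩ := hfull m b hb hb0 hQb (c • v)
      (by rw [s_smul_right hf, hbv, mul_zero])
    have e := isSgg_of_isSg hf hv C.hq hs
    rw [e.unique hs']
    exact hs'M
  obtain ⟨a', ha', hQa', haa'⟩ := C.partner hu hu0 hQu
  have ha'0 : a' ≠ 0 := by
    rintro rfl
    rw [f_zero_right hf] at haa'
    exact zero_ne_one haa'
  exact XSQ_two C.hq C.vf C.hG M C.MG (hX i u hu hu0 hQu) (hX i a' ha' ha'0 hQa')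
    (by rw [haa']; exact one_ne_zero)

end Ctx

end Cfsg.Agent.Lib.Helper28.Od
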