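import Cfsg.Agent.Lib.Helper28.OdF

set_option autoImplicit false

namespace Cfsg.Agent.Lib.Helper28.Od

open Matrix Cfsg.Agent.Lib.Helper28.Sf Cfsg.Agent.Lib.Helper28.HForm
  Cfsg.Agent.Lib.Helper28.OGen Cfsg.Agent.Lib.Helper28.OMax Cfsg.Agent.Lib.Helper28.OQ
  Cfsg.Agent.Lib.Helper28.OMax2 Cfsg.Agent.Lib.Helper28.OIwa Cfsg.Agent.Lib.Helper28.Os
  Cfsg.Agent.Lib.Helper28.ONd

variable {n : ℕ} {F : Type*} [Field F] {t : ℕ} {Q : (Fin n → F) → F}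
  {f : (Fin n → F) → (Fin n → F) → F} {D : Fin t → Submodule F (Fin n → F)}
  {pr : Fin t → (Fin n → F) →ₗ[F] (Fin n → F)}
  {G N M : Subgroup (Matrix.GeneralLinearGroup (Fin n) F)}

namespace Ctx

/-- an element of `M` outside `N` moves some singular vector of a block out of all blocks -/
theorem ex_bad (C : Ctx Q f D pr G N M) {g : Matrix.GeneralLinearGroup (Fin n) F}
    (hgM : g ∈ M) (hgN : g ∉ N) :
    ∃ i, ∃ u ∈ D i, ∃ z ∈ D i, u ≠ 0 ∧ Q u = 0 ∧ f u z = 0 ∧ Q z ≠ 0 ∧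
      ∀ j, (g : Matrix (Fin n) (Fin n) F) *ᵥ u ∉ D j := by
  have hf := C.hf
  suffices h : ∃ i, ∃ u ∈ D i, u ≠ 0 ∧ Q u = 0 ∧
      ∀ j, (g : Matrix (Fin n) (Fin n) F) *ᵥ u ∉ D j by
    obtain ⟨i, u, hu, hu0, hQu, hb⟩ := h
    obtain ⟨z, hz, huz, hQz⟩ := C.nsperp i u hu hu0 hQu
    exact ⟨i, u, hu, z, hz, hu0, hQu, huz, hQz, hb⟩
  by_contra hcon
  push Not at hcon
  apply hgN
  apply C.stab_of g (C.MG hgM)
  intro i
  obtain ⟨a, ha, ha0, hQa⟩ := C.sing i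
  obtain ⟨j, hj⟩ := hcon i a ha ha0 hQa
  refine ⟨j, ?_⟩
  have hs : ∀ s ∈ D i, Q s = 0 → f a s = 1 → (g : Matrix (Fin n) (Fin n) F) *ᵥ s ∈ D j := by
    intro s hs hQs has
    have hs0 : s ≠ 0 := by
      rintro rfl
      rw [f_zero_right hf] at has
      exact zero_ne_one has
    obtain ⟨j', hj'⟩ := hcon i s hs hs0 hQs
    by_cases hjj : j = j'
    · rw [hjj]; exact hj'
    · exfalso
      have h1 := C.orth j j' hjj _ hj _ hj'
      rw [C.isoM_f hgM, has] at h1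
      exact one_ne_zero h1
  obtain ⟨a', ha', hQa', haa'⟩ := C.partner ha ha0 hQa
  intro x hx
  obtain ⟨s, hs', hQs, has, α, β, rfl⟩ := C.block_decomp ha ha' hQa hQa' haa' hx
  rw [Matrix.mulVec_add, Matrix.mulVec_add, Matrix.mulVec_smul, Matrix.mulVec_smul]
  exact (D j).add_mem ((D j).add_mem ((D j).smul_mem _ hj) ((D j).smul_mem _ (hs a' ha' hQa' haa')))
    (hs s hs' hQs has)

/-- the trichotomy for a Siegel element of `M` whose centre lies in no block -/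
theorem dich (C : Ctx Q f D pr G N M) {w : Fin n → F} (hw : Q w = 0) (hwD : ∀ i, w ∉ D i)
    {y : Fin n → F} (L : Set F) (h1 : (1 : F) ∈ L) (hy : ∀ l ∈ L, l • y ∈ YY Q f M w) :
    Crux Q f D M ∨
    (∃ j a, pr j w ≠ 0 ∧ a ∈ D j ∧ a ≠ 0 ∧ f a (pr j w) = 0 ∧ ∀ l ∈ L, l • a ∈ YY Q f M w) ∨
    (∀ j, ∃ β : F, pr j y = β • pr j w) := by
  have hf := C.hf
  have hw0 := C.ne_zero_of_not_mem hwD
  have hy1 : y ∈ YY Q f M w := by
    have := hy 1 h1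
    rwa [one_smul] at this
  by_cases h0 : ∃ j, pr j w = 0 ∧ pr j y ≠ 0
  · obtain ⟨j, hj, hyj⟩ := h0
    exact Or.inl (C.crux_out hw hw0 hj hy1 hyj)
  by_cases h2 : ∃ j, pr j w ≠ 0 ∧ pr j y ∉ Submodule.span F {pr j w}
  · obtain ⟨j, hj, hyj⟩ := h2
    obtain ⟨h, hhN, hact, hhw, hhy⟩ := C.fix j _ (C.pr_mem j w) _ (C.pr_mem j y) hj hyj
    have hhM := C.NM hhN
    have hfixw : (h : Matrix (Fin n) (Fin n) F) *ᵥ w = w := by
      rw [C.acts_apply hact w, hhw]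
      abel
    have hay : (h : Matrix (Fin n) (Fin n) F) *ᵥ y - y =
        (h : Matrix (Fin n) (Fin n) F) *ᵥ (pr j y) - pr j y := by
      rw [C.acts_apply hact y]
      abel
    refine Or.inr (Or.inl ⟨j, (h : Matrix (Fin n) (Fin n) F) *ᵥ (pr j y) - pr j y, hj,
      (D j).sub_mem (C.acts_mem hhM hact (C.pr_mem j y)) (C.pr_mem j y), sub_ne_zero.2 hhy, ?_, ?_⟩)
    · rw [f_sub_left hf]
      conv_lhs => rw [← hhw]
      rw [C.isoM_f hhM, hhw, sub_self]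
    · intro l hl
      have h3 := yy_comm C.hq hw hhM (C.isoM hhM) hfixw (hy l hl)
      rw [Matrix.mulVec_smul, ← smul_sub, hay] at h3
      exact h3
  · push Not at h0 h2
    refine Or.inr (Or.inr (fun j => ?_))
    by_cases hj : pr j w = 0
    · refine ⟨0, ?_⟩
      rw [zero_smul]
      exact h0 j hj
    · obtain ⟨β, hβ⟩ := Submodule.mem_span_singleton.1 (h2 j hj)
      exact ⟨β, hβ.symm⟩

end Ctx

end Cfsg.Agent.Lib.Helper28.Od
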