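import Cfsg.Agent.Lib.Helper28.OdH

set_option autoImplicit false

namespace Cfsg.Agent.Lib.Helper28.Od

open Matrix Cfsg.Agent.Lib.Helper28.Sf Cfsg.Agent.Lib.Helper28.HForm
  Cfsg.Agent.Lib.Helper28.OGen Cfsg.Agent.Lib.Helper28.OMax Cfsg.Agent.Lib.Helper28.OQ
  Cfsg.Agent.Lib.Helper28.OMax2 Cfsg.Agent.Lib.Helper28.OIwa Cfsg.Agent.Lib.Helper28.Os
  Cfsg.Agent.Lib.Helper28.ONd

variable {n : ℕ} {F : Type*} [Field F] {t : ℕ} {Q : (Fin n → F) → F}
  {f : (Fin n → F) → (Fin n → F) → F} {D : Fin t → Submodule F (Fin n → F)}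
  {pr : Fin t → (Fin n → F) →ₗ[F] (Fin n → F)}
  {G N M : Subgroup (Matrix.GeneralLinearGroup (Fin n) F)}

/-- the product formula `S_{u+u',a} = S_{u,a} S_{u',a+Q(a)u}` -/
theorem sgm_prod (hq : QF Q f) {u u' a : Fin n → F} (hu : Q u = 0) (hu' : Q u' = 0)
    (huu' : f u u' = 0) (hau : f a u = 0) (hau' : f a u' = 0) (x : Fin n → F) :
    Sgm Q f (u + u') a x = Sgm Q f u a (Sgm Q f u' (a + Q a • u) x) := by
  have hf := hq.sym
  have hua : f u a = 0 := by rw [s_symm hf, hau]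
  have huu := f_sing hq hu
  have hQ : Q (a + Q a • u) = Q a := by
    rw [hq.polar, hq.smul, hu, mul_zero, add_zero, s_smul_right hf, hau, mul_zero, add_zero]
  unfold Sgm
  rw [hQ]
  simp only [f_add_right hf, f_sub_right hf, s_smul_right hf, hf.add_left, hf.smul_left, huu,
    huu', hua, hau, hau', f_self hq]
  module

theorem yy_split (hq : QF Q f) {M : Subgroup (Matrix.GeneralLinearGroup (Fin n) F)}
    {u u' a : Fin n → F} (hu : Q u = 0) (hu' : Q u' = 0) (huu' : f u u' = 0) (hau : f a u = 0)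
    (hau' : f a u' = 0) (h1 : a ∈ YY Q f M u) (h : a ∈ YY Q f M (u + u')) :
    a + Q a • u ∈ YY Q f M u' := by
  have hf := hq.sym
  obtain ⟨_, s1, hs1M, hs1⟩ := h1
  obtain ⟨_, s, hsM, hs⟩ := h
  refine ⟨?_, s1⁻¹ * s, M.mul_mem (M.inv_mem hs1M) hsM, ?_⟩
  · rw [f_add_right hf, s_smul_right hf, s_symm hf u' a, hau', s_symm hf u' u, huu', mul_zero,
      add_zero]
  · intro x
    rw [Cfsg.Agent.S5643.mul_mv, hs x, sgm_prod hq hu hu' huu' hau hau' x, ← hs1,
      Cfsg.Agent.S5643.inv_mv]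

namespace Ctx

/-- `a + Q a • v ≠ 0` when `a ≠ 0` is perpendicular to `v` -/
theorem add_smul_ne_zero (C : Ctx Q f D pr G N M) {a v : Fin n → F} (ha0 : a ≠ 0)
    (hav : f a v = 0) : a + Q a • v ≠ 0 := by
  have hf := C.hf
  intro h
  have h1 : a = -(Q a • v) := eq_neg_of_add_eq_zero_left h
  have hQ : Q a = Q a * Q a * Q v := by
    conv_lhs => rw [h1]
    rw [Q_neg C.hq, C.hq.smul]
  have h2 : Q a * (2 * Q v) = 0 := by
    have : f a v = -(Q a * (2 * Q v)) := by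
      conv_lhs => rw [h1]
      rw [f_neg_left hf, hf.smul_left, f_self C.hq]
    rw [hav] at this
    exact neg_eq_zero.1 this.symm
  have hQa : Q a = 0 := by
    rcases mul_eq_zero.1 h2 with h3 | h3
    · exact h3
    · have hQv : Q v = 0 := (mul_eq_zero.1 h3).resolve_left C.h2
      rw [hQ, hQv, mul_zero]
  apply ha0
  rw [h1, hQa, zero_smul, neg_zero]

/-- Case II, the component of the centre in the block of `a` is singular -/
theorem case2_sing (C : Ctx Q f D pr G N M) {w : Fin n → F} (hw : Q w = 0)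
    (hwD : ∀ i, w ∉ D i) {j : Fin t} (hj : pr j w ≠ 0) (hQj : Q (pr j w) = 0) {a : Fin n → F}
    (ha : a ∈ D j) (ha0 : a ≠ 0) (haw : f a (pr j w) = 0) (hay : a ∈ YY Q f M w) :
    Crux Q f D M := by
  have hf := C.hf
  obtain ⟨u', hu'⟩ : ∃ u' : Fin n → F, u' = w - pr j w := ⟨_, rfl⟩
  have hsum : pr j w + u' = w := by rw [hu']; abel
  have hu'j : pr j u' = 0 := by rw [hu', map_sub, C.pr_pr, sub_self]
  have huu' : f (pr j w) u' = 0 := by
    rw [C.f_pr_right (C.pr_mem j w), hu'j, f_zero_right hf]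
  have hQu' : Q u' = 0 := by
    have := C.hq.polar (pr j w) u'
    rw [hsum, hw, hQj, huu'] at this
    simpa using this.symm
  have hu'0 : u' ≠ 0 := by
    intro h0
    rw [h0, add_zero] at hsum
    exact hwD j (hsum ▸ C.pr_mem j w)
  have hau' : f a u' = 0 := by rw [C.f_pr_right ha, hu'j, f_zero_right hf]
  have h1 : a ∈ YY Q f M (pr j w) := by
    have hwa : f (pr j w) a = 0 := by rw [s_symm hf, haw]
    obtain ⟨s, hsN, hs⟩ := C.blockSieg (C.pr_mem j w) ha hj hQj hwa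
    exact ⟨hwa, s, C.NM hsN, hs⟩
  have h2 := yy_split C.hq hQj hQu' huu' haw hau' h1 (by rw [hsum]; exact hay)
  apply C.crux_out hQu' hu'0 hu'j h2
  rw [map_add, map_smul, C.pr_self j a ha, C.pr_pr]
  exact C.add_smul_ne_zero ha0 haw

/-- Case II, given an element of `N` fixing `a` and shifting `w` by a singular vector
perpendicular to the block of `a` -/
theorem case2_shift (C : Ctx Q f D pr G N M) {w : Fin n → F} (hw : Q w = 0) {j : Fin t}
    {a : Fin n → F} (ha : a ∈ D j) (ha0 : a ≠ 0)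
    (haw : f a (pr j w) = 0) (hay : a ∈ YY Q f M w)
    {h : Matrix.GeneralLinearGroup (Fin n) F} (hh : h ∈ N)
    (hha : (h : Matrix (Fin n) (Fin n) F) *ᵥ a = a)
    (hs0 : w - (h : Matrix (Fin n) (Fin n) F) *ᵥ w ≠ 0)
    (hQs : Q (w - (h : Matrix (Fin n) (Fin n) F) *ᵥ w) = 0)
    (hsj : pr j (w - (h : Matrix (Fin n) (Fin n) F) *ᵥ w) = 0) : Crux Q f D M := by
  have hf := C.hf
  have hhM := C.NM hh
  obtain ⟨s, hs⟩ : ∃ s : Fin n → F, s = w - (h : Matrix (Fin n) (Fin n) F) *ᵥ w := ⟨_, rfl⟩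
  rw [← hs] at hs0 hQs hsj
  have hhw : (h : Matrix (Fin n) (Fin n) F) *ᵥ w = w + -s := by rw [hs]; abel
  have hQhw : Q ((h : Matrix (Fin n) (Fin n) F) *ᵥ w) = 0 := by rw [C.isoM hhM, hw]
  have hws : f w s = 0 := by
    have h1 : Q s = Q w + Q ((h : Matrix (Fin n) (Fin n) F) *ᵥ w) -
        f w ((h : Matrix (Fin n) (Fin n) F) *ᵥ w) := by rw [hs, Q_sub C.hq]
    rw [hQs, hw, hQhw] at h1
    rw [hs, f_sub_right hf, f_sing C.hq hw]
    linear_combination (-1 : F) * h1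
  have h1 := yy_conj C.hq hhM (C.isoM hhM) hay
  rw [hha, hhw] at h1
  have hwa : f a w = 0 := by rw [s_symm hf]; exact hay.1
  have has : f a s = 0 := by rw [C.f_pr_right ha, hsj, f_zero_right hf]
  have h2 := yy_split C.hq hw (by rw [Q_neg C.hq, hQs])
    (by rw [f_neg_right hf, hws, neg_zero]) hwa (by rw [f_neg_right hf, has, neg_zero]) hay h1
  have h3 : -s = (-1 : F) • s := by rw [neg_smul, one_smul]
  rw [h3] at h2
  have h4 := yy_neg C.hq hQs (yy_smul_center C.hq h2)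
  rw [neg_smul, one_smul, neg_neg] at h4
  apply C.crux_out hQs hs0 hsj h4
  rw [map_add, map_smul, C.pr_self j a ha]
  exact C.add_smul_ne_zero ha0 haw

/-- an element of `N` acting on the block `i` and shifting the `i`-component of `w` by a
singular vector gives the shift needed in `case2_shift` -/
theorem shift_of_acts (C : Ctx Q f D pr G N M) {w : Fin n → F} {i j : Fin t} (hij : i ≠ j)
    {h : Matrix.GeneralLinearGroup (Fin n) F} (hh : h ∈ N) (hact : ActsOn f (D i) h)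
    (hQ : Q ((h : Matrix (Fin n) (Fin n) F) *ᵥ (pr i w) - pr i w) = 0)
    (h0 : (h : Matrix (Fin n) (Fin n) F) *ᵥ (pr i w) - pr i w ≠ 0) :
    (∀ x ∈ D j, (h : Matrix (Fin n) (Fin n) F) *ᵥ x = x) ∧
    w - (h : Matrix (Fin n) (Fin n) F) *ᵥ w ≠ 0 ∧
    Q (w - (h : Matrix (Fin n) (Fin n) F) *ᵥ w) = 0 ∧
    pr j (w - (h : Matrix (Fin n) (Fin n) F) *ᵥ w) = 0 := by
  have hhM := C.NM hh
  have e : w - (h : Matrix (Fin n) (Fin n) F) *ᵥ w =
      -((h : Matrix (Fin n) (Fin n) F) *ᵥ (pr i w) - pr i w) := by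
    rw [C.acts_apply hact w]
    abel
  refine ⟨fun x hx => C.acts_fix_other hact (Ne.symm hij) hx, ?_, ?_, ?_⟩
  · rw [e]
    exact neg_ne_zero.2 h0
  · rw [e, Q_neg C.hq, hQ]
  · rw [e, map_neg, map_sub, C.pr_pr_ne (Ne.symm hij),
      C.pr_other j i (Ne.symm hij) _ (C.acts_mem hhM hact (C.pr_mem i w)), sub_zero, neg_zero]

/-- the shifting element when two further components of `w` are non-zero -/
theorem shift3 (C : Ctx Q f D pr G N M) {w : Fin n → F} {j i l : Fin t}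
    (hij : i ≠ j) (hlj : l ≠ j) (hil : i ≠ l) (hi : pr i w ≠ 0) (hl : pr l w ≠ 0) :
    ∃ h ∈ N, (∀ x ∈ D j, (h : Matrix (Fin n) (Fin n) F) *ᵥ x = x) ∧
      w - (h : Matrix (Fin n) (Fin n) F) *ᵥ w ≠ 0 ∧
      Q (w - (h : Matrix (Fin n) (Fin n) F) *ᵥ w) = 0 ∧
      pr j (w - (h : Matrix (Fin n) (Fin n) F) *ᵥ w) = 0 := by
  have hf := C.hf
  by_cases hQi : Q (pr i w) = 0
  · obtain ⟨h, hh, hact, hQ, h0⟩ := C.sshift i _ (C.pr_mem i w) hi hQi
    exact ⟨h, hh, C.shift_of_acts hij hh hact hQ h0⟩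
  by_cases hQl : Q (pr l w) = 0
  · obtain ⟨h, hh, hact, hQ, h0⟩ := C.sshift l _ (C.pr_mem l w) hl hQl
    exact ⟨h, hh, C.shift_of_acts hlj hh hact hQ h0⟩
  obtain ⟨xi, hxi, hQxi, hdi⟩ := C.normsel i _ (C.pr_mem i w) hQi 1 one_ne_zero
  obtain ⟨xl, hxl, hQxl, hdl⟩ := C.normsel l _ (C.pr_mem l w) hQl (-1) (neg_ne_zero.2 one_ne_zero)
  obtain ⟨hi', hhi, hacti, hmi⟩ := C.move i _ (C.pr_mem i w) xi hxi hQi hQxi
    (by rw [hdi]; exact one_ne_zero)
  obtain ⟨hl', hhl, hactl, hml⟩ := C.move l _ (C.pr_mem l w) xl hxl hQl hQxl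
    (by rw [hdl]; exact neg_ne_zero.2 one_ne_zero)
  have hhiM := C.NM hhi
  have hhlM := C.NM hhl
  have e1 : (hl' : Matrix (Fin n) (Fin n) F) *ᵥ w = w - pr l w + xl := by
    rw [C.acts_apply hactl w, hml]
  have e2 : ((hi' * hl' : Matrix.GeneralLinearGroup (Fin n) F) : Matrix (Fin n) (Fin n) F) *ᵥ w =
      w - pr l w + xl - pr i w + xi := by
    rw [Cfsg.Agent.S5643.mul_mv, e1, C.acts_apply hacti]
    have e3 : pr i (w - pr l w + xl) = pr i w := by
      rw [map_add, map_sub, C.pr_pr_ne hil, C.pr_other i l hil xl hxl, sub_zero, add_zero]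
    rw [e3, hmi]
  have e4 : w - ((hi' * hl' : Matrix.GeneralLinearGroup (Fin n) F) :
      Matrix (Fin n) (Fin n) F) *ᵥ w = -(xi - pr i w) + -(xl - pr l w) := by
    rw [e2]
    abel
  have hdiD : xi - pr i w ∈ D i := (D i).sub_mem hxi (C.pr_mem i w)
  have hdlD : xl - pr l w ∈ D l := (D l).sub_mem hxl (C.pr_mem l w)
  refine ⟨hi' * hl', N.mul_mem hhi hhl, ?_, ?_, ?_, ?_⟩
  · intro x hx
    rw [Cfsg.Agent.S5643.mul_mv, C.acts_fix_other hactl (Ne.symm hlj) hx,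
      C.acts_fix_other hacti (Ne.symm hij) hx]
  · rw [e4]
    intro h0
    have h1 := congrArg (pr i) h0
    rw [map_add, map_neg, map_neg, C.pr_self i _ hdiD, C.pr_other i l hil _ hdlD, neg_zero,
      add_zero, map_zero, neg_eq_zero] at h1
    rw [h1, Q_zero C.hq] at hdi
    exact zero_ne_one hdi
  · rw [e4, C.hq.polar, Q_neg C.hq, Q_neg C.hq, hdi, hdl, f_neg_left hf, f_neg_right hf,
      C.orth i l hil _ hdiD _ hdlD]
    ring
  · rw [e4, map_add, map_neg, map_neg, C.pr_other j i (Ne.symm hij) _ hdiD,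
      C.pr_other j l (Ne.symm hlj) _ hdlD]
    simp

/-- Case II when the centre has at least three non-zero components -/
theorem case2a (C : Ctx Q f D pr G N M) {w : Fin n → F} (hw : Q w = 0)
    (hwD : ∀ i, w ∉ D i) {j : Fin t} (hj : pr j w ≠ 0) {a : Fin n → F}
    (ha : a ∈ D j) (ha0 : a ≠ 0) (haw : f a (pr j w) = 0) (hay : a ∈ YY Q f M w)
    {i l : Fin t} (hij : i ≠ j) (hlj : l ≠ j) (hil : i ≠ l) (hi : pr i w ≠ 0)
    (hl : pr l w ≠ 0) : Crux Q f D M := by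
  obtain ⟨h, hh, hfix, hs0, hQs, hsj⟩ := C.shift3 hij hlj hil hi hl
  exact C.case2_shift hw ha ha0 haw hay hh (hfix a ha) hs0 hQs hsj

end Ctx

end Cfsg.Agent.Lib.Helper28.Od
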