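import Cfsg.Agent.Lib.Helper28.OdI

set_option autoImplicit false

namespace Cfsg.Agent.Lib.Helper28.Od

open Matrix Cfsg.Agent.Lib.Helper28.Sf Cfsg.Agent.Lib.Helper28.HForm
  Cfsg.Agent.Lib.Helper28.OGen Cfsg.Agent.Lib.Helper28.OMax Cfsg.Agent.Lib.Helper28.OQ
  Cfsg.Agent.Lib.Helper28.OMax2 Cfsg.Agent.Lib.Helper28.OIwa Cfsg.Agent.Lib.Helper28.Os
  Cfsg.Agent.Lib.Helper28.ONd

variable {n : ℕ} {F : Type*} [Field F] {t : ℕ} {Q : (Fin n → F) → F}
  {f : (Fin n → F) → (Fin n → F) → F} {D : Fin t → Submodule F (Fin n → F)}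
  {pr : Fin t → (Fin n → F) →ₗ[F] (Fin n → F)}
  {G N M : Subgroup (Matrix.GeneralLinearGroup (Fin n) F)}

/-- the product of two Siegel elements with the same direction and centres `w`, `w''`
with `f w w'' = -2ν` is again a Siegel element when `λ λ' Q(a) ν = 2` -/
theorem sgm_pair (hq : QF Q f) {w w'' a : Fin n → F} {α ν l l' : F} (hw : Q w = 0)
    (hw'' : Q w'' = 0) (haw : f a w = 0) (haw'' : f a w'' = 0) (hww : f w w'' = -(2 * ν))
    (hα : Q a = α) (hα0 : α ≠ 0) (hrel : l * l' * α * ν = 2) (x : Fin n → F) :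
    Sgm Q f w (-(l • a)) (Sgm Q f w'' (l' • a) x) =
      Sgm Q f (a + (l * α) • w + (a + (l' * α) • w'')) (-(α⁻¹ • (a + (l * α) • w))) x := by
  have hf := hq.sym
  have hwa : f w a = 0 := by rw [s_symm hf, haw]
  have hw''a : f w'' a = 0 := by rw [s_symm hf, haw'']
  have hw''w : f w'' w = -(2 * ν) := by rw [s_symm hf, hww]
  have hww0 := f_sing hq hw
  have hww0'' := f_sing hq hw''
  have hQ1 : Q (-(l • a)) = l * l * α := by rw [Q_neg hq, hq.smul, hα]
  have hQ2 : Q (l' • a) = l' * l' * α := by rw [hq.smul, hα]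
  have hQ3 : Q (-(α⁻¹ • (a + (l * α) • w))) = α⁻¹ := by
    rw [Q_neg hq, hq.smul, hq.polar, hq.smul, hw, hα, s_smul_right hf, haw]
    field_simp
    ring
  unfold Sgm
  rw [hQ1, hQ2, hQ3]
  simp only [f_add_right hf, f_sub_right hf, s_smul_right hf, hf.add_left, hf.smul_left,
    f_neg_left hf, hww, hwa, haw'', f_self hq, hα]
  match_scalars <;> field_simp
  · linear_combination (-2 * f a x - 2 * α * l' * f w'' x) * hrel
  · ring
  · linear_combination l * (-2 * f a x - 2 * α * l' * f w'' x) * hrel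

theorem exists_notMem {t : ℕ} (s : Finset (Fin t)) (h : s.card < t) : ∃ x, x ∉ s := by
  by_contra hcon
  push Not at hcon
  have : s = Finset.univ := Finset.eq_univ_iff_forall.2 hcon
  rw [this, Finset.card_univ, Fintype.card_fin] at h
  exact lt_irrefl _ h

/-- a scalar `l ≠ 0` with `l * l ≠ κ` in a field with at least five elements -/
theorem exists_nonroot (hcard : ∀ a b c : F, ∃ x : F, x ≠ 0 ∧ x ≠ a ∧ x ≠ b ∧ x ≠ c) (κ : F) :
    ∃ l : F, l ≠ 0 ∧ l * l ≠ κ := by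
  obtain ⟨x₁, hx₁, _⟩ := hcard 0 0 0
  by_cases h : x₁ * x₁ = κ
  · obtain ⟨l, hl0, hl1, hl2, _⟩ := hcard x₁ (-x₁) 0
    refine ⟨l, hl0, fun hl => ?_⟩
    have h1 : (l - x₁) * (l + x₁) = 0 := by
      have : l * l = x₁ * x₁ := by rw [hl, h]
      linear_combination this
    rcases mul_eq_zero.1 h1 with h2 | h2
    · exact hl1 (sub_eq_zero.1 h2)
    · exact hl2 (eq_neg_of_add_eq_zero_left h2)
  · exact ⟨x₁, hx₁, h⟩

namespace Ctx

/-- the plus-point shift: a block Siegel element moving a nonsingular `w_i` by a singular vector -/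
theorem shift_plus (C : Ctx Q f D pr G N M) {w : Fin n → F} {i j : Fin t} (hij : i ≠ j)
    (hQi : Q (pr i w) ≠ 0) {e : Fin n → F} (he : e ∈ D i) (he0 : e ≠ 0) (hQe : Q e = 0)
    (hew : f e (pr i w) = 0) :
    ∃ h ∈ N, (∀ x ∈ D j, (h : Matrix (Fin n) (Fin n) F) *ᵥ x = x) ∧
      w - (h : Matrix (Fin n) (Fin n) F) *ᵥ w ≠ 0 ∧
      Q (w - (h : Matrix (Fin n) (Fin n) F) *ᵥ w) = 0 ∧
      pr j (w - (h : Matrix (Fin n) (Fin n) F) *ᵥ w) = 0 := by
  have hf := C.hf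
  obtain ⟨s, hsN, hs⟩ := C.blockSieg he (C.pr_mem i w) he0 hQe hew
  have hact : ActsOn f (D i) s := by
    intro x hx
    rw [hs x]
    exact sgm_fix C.hq (by rw [s_symm hf]; exact hx e he)
      (by rw [s_symm hf]; exact hx _ (C.pr_mem i w))
  have e1 : (s : Matrix (Fin n) (Fin n) F) *ᵥ (pr i w) - pr i w = (-(2 * Q (pr i w))) • e := by
    rw [hs]
    unfold Sgm
    rw [hew, f_self C.hq]
    module
  refine ⟨s, hsN, C.shift_of_acts hij hsN hact ?_ ?_⟩
  · rw [e1, C.hq.smul, hQe, mul_zero]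
  · rw [e1]
    exact smul_ne_zero (neg_ne_zero.2 (mul_ne_zero C.h2 hQi)) he0

end Ctx

end Cfsg.Agent.Lib.Helper28.Od
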