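import Cfsg.Agent.Lib.Helper28.OdJ

set_option autoImplicit false

namespace Cfsg.Agent.Lib.Helper28.Od

open Matrix Cfsg.Agent.Lib.Helper28.Sf Cfsg.Agent.Lib.Helper28.HForm
  Cfsg.Agent.Lib.Helper28.OGen Cfsg.Agent.Lib.Helper28.OMax Cfsg.Agent.Lib.Helper28.OQ
  Cfsg.Agent.Lib.Helper28.OMax2 Cfsg.Agent.Lib.Helper28.OIwa Cfsg.Agent.Lib.Helper28.Os
  Cfsg.Agent.Lib.Helper28.ONd

variable {n : ℕ} {F : Type*} [Field F] {t : ℕ} {Q : (Fin n → F) → F}
  {f : (Fin n → F) → (Fin n → F) → F} {D : Fin t → Submodule F (Fin n → F)}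
  {pr : Fin t → (Fin n → F) →ₗ[F] (Fin n → F)}
  {G N M : Subgroup (Matrix.GeneralLinearGroup (Fin n) F)}

namespace Ctx

/-- Case II for a centre with exactly two non-zero nonsingular components, `|F| ≥ 5`, `t ≥ 5` -/
theorem case2_pair (C : Ctx Q f D pr G N M)
    (hcard : ∀ a b c : F, ∃ x : F, x ≠ 0 ∧ x ≠ a ∧ x ≠ b ∧ x ≠ c) (ht : 5 ≤ t)
    {w : Fin n → F} (hw : Q w = 0) {j i : Fin t} (hij : i ≠ j)
    (hsupp : ∀ m, m ≠ j → m ≠ i → pr m w = 0) (hQi : Q (pr i w) ≠ 0) {a : Fin n → F}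
    (ha : a ∈ D j) (hQa : Q a ≠ 0) (haw : f a (pr j w) = 0)
    (hcl : ∀ l : F, l • a ∈ YY Q f M w) : Crux Q f D M := by
  classical
  have hf := C.hf
  have ha0 : a ≠ 0 := by
    rintro rfl
    exact hQa (Q_zero C.hq)
  have hwsum : w = pr j w + pr i w := by
    conv_lhs => rw [← C.pr_sum w]
    rw [Finset.sum_eq_add j i (Ne.symm hij)]
    · intro c _ hc
      exact hsupp c hc.1 hc.2
    · intro h
      exact absurd (Finset.mem_univ j) h
    · intro h
      exact absurd (Finset.mem_univ i) h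
  obtain ⟨ν, hν⟩ : ∃ ν : F, ν = Q (pr i w) := ⟨_, rfl⟩
  obtain ⟨α, hα⟩ : ∃ α : F, α = Q a := ⟨_, rfl⟩
  have hν0 : ν ≠ 0 := by rw [hν]; exact hQi
  have hα0 : α ≠ 0 := by rw [hα]; exact hQa
  have hji : f (pr j w) (pr i w) = 0 := C.orth j i (Ne.symm hij) _ (C.pr_mem j w) _ (C.pr_mem i w)
  have hQj : Q (pr j w) = -ν := by
    have h1 := C.hq.polar (pr j w) (pr i w)
    rw [← hwsum, hw, hji, ← hν] at h1
    linear_combination -h1
  -- two further blocks
  obtain ⟨l₁, hl₁⟩ := exists_notMem ({i, j} : Finset (Fin t)) (by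
    have := Finset.card_le_two (a := i) (b := j)
    omega)
  obtain ⟨l₂, hl₂⟩ := exists_notMem ({i, j, l₁} : Finset (Fin t)) (by
    have := Finset.card_le_three (a := i) (b := j) (c := l₁)
    omega)
  simp only [Finset.mem_insert, Finset.mem_singleton, not_or] at hl₁ hl₂
  obtain ⟨hl₁i, hl₁j⟩ := hl₁
  obtain ⟨hl₂i, hl₂j, hl₂l⟩ := hl₂
  obtain ⟨c, hcN, hc1, _, _, hcfix⟩ := C.cyc i l₁ l₂ (Ne.symm hl₁i) (Ne.symm hl₂l) (Ne.symm hl₂i)
  have hcM := C.NM hcN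
  have hcj : ∀ x ∈ D j, (c : Matrix (Fin n) (Fin n) F) *ᵥ x = x :=
    hcfix j (Ne.symm hij) (Ne.symm hl₁j) (Ne.symm hl₂j)
  obtain ⟨x', hx'⟩ : ∃ x' : Fin n → F, x' = (c : Matrix (Fin n) (Fin n) F) *ᵥ (pr i w) :=
    ⟨_, rfl⟩
  have hx'D : x' ∈ D l₁ := by rw [hx']; exact hc1 _ (C.pr_mem i w)
  have hQx' : Q x' = ν := by rw [hx', C.isoM hcM, hν]
  have hx'0 : x' ≠ 0 := by
    rintro rfl
    rw [Q_zero C.hq] at hQx'
    exact hν0 hQx'.symm
  obtain ⟨w'', hw''⟩ : ∃ w'' : Fin n → F, w'' = pr j w + x' := ⟨_, rfl⟩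
  have hcw : (c : Matrix (Fin n) (Fin n) F) *ᵥ w = w'' := by
    conv_lhs => rw [hwsum]
    rw [Matrix.mulVec_add, hcj _ (C.pr_mem j w), ← hx', hw'']
  have hQw'' : Q w'' = 0 := by rw [← hcw, C.isoM hcM, hw]
  have hwa : f w a = 0 := by
    have := (hcl 1).1
    rwa [one_smul] at this
  have haw' : f a w = 0 := by rw [s_symm hf, hwa]
  have haw'' : f a w'' = 0 := by
    have h1 := C.isoM_f hcM a w
    rw [hcj a ha, hcw] at h1
    rw [h1, haw']
  have hjx' : f (pr j w) x' = 0 := C.orth j l₁ (Ne.symm hl₁j) _ (C.pr_mem j w) _ hx'D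
  have hix' : f (pr i w) x' = 0 := C.orth i l₁ (Ne.symm hl₁i) _ (C.pr_mem i w) _ hx'D
  have hww : f w w'' = -(2 * ν) := by
    conv_lhs => rw [hwsum, hw'']
    rw [hf.add_left, f_add_right hf, f_add_right hf, f_self C.hq, hQj, hjx', hix',
      s_symm hf (pr i w) (pr j w), hji]
    ring
  -- the scalars
  obtain ⟨l, hl0, hlκ⟩ := exists_nonroot hcard (2 / (α * ν))
  obtain ⟨l', hl'⟩ : ∃ l' : F, l' = 2 / (α * ν) / l := ⟨_, rfl⟩
  have hrel : l * l' * α * ν = 2 := by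
    rw [hl']
    field_simp
  have hne : l ≠ l' := by
    intro h
    apply hlκ
    have : l * l' = 2 / (α * ν) := by rw [hl']; field_simp
    rw [← h] at this
    exact this
  have hl'0 : l' ≠ 0 := by
    rintro rfl
    rw [mul_zero, zero_mul, zero_mul] at hrel
    exact C.h2 hrel.symm
  -- the two Siegel elements
  obtain ⟨h1a, s₁, hs₁M, hs₁⟩ := hcl l
  have h2 := yy_conj C.hq hcM (C.isoM hcM) (hcl l')
  rw [Matrix.mulVec_smul, hcj a ha, hcw] at h2
  obtain ⟨_, s₂, hs₂M, hs₂⟩ := h2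
  obtain ⟨S, hS⟩ : ∃ S : Fin n → F, S = a + (l * α) • w + (a + (l' * α) • w'') := ⟨_, rfl⟩
  obtain ⟨Y, hY⟩ : ∃ Y : Fin n → F, Y = -(α⁻¹ • (a + (l * α) • w)) := ⟨_, rfl⟩
  have hSY : IsSgg Q f (s₁⁻¹ * s₂) S Y := by
    intro x
    rw [Cfsg.Agent.S5643.mul_mv, hs₂ x, (hs₁.inv C.hq hw h1a) _, hS, hY]
    exact sgm_pair C.hq hw hQw'' haw' haw'' hww hα.symm hα0 hrel x
  have hQv : Q (a + (l * α) • w) = α := by
    rw [C.hq.polar, C.hq.smul, hw, s_smul_right hf, haw', ← hα]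
    ring
  have hQv' : Q (a + (l' * α) • w'') = α := by
    rw [C.hq.polar, C.hq.smul, hQw'', s_smul_right hf, haw'', ← hα]
    ring
  have hvv' : f (a + (l * α) • w) (a + (l' * α) • w'') = -(2 * α) := by
    rw [hf.add_left, f_add_right hf, f_add_right hf, hf.smul_left, hf.smul_left,
      s_smul_right hf, s_smul_right hf, f_self C.hq, ← hα, haw'', hwa, hww]
    linear_combination (-(2 : F) * α) * hrel
  have hQS : Q S = 0 := by
    rw [hS, C.hq.polar, hQv, hQv', hvv']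
    ring
  have hfSY : f S Y = 0 := by
    rw [hS, hY, f_neg_right hf, s_smul_right hf, hf.add_left, f_self C.hq, hQv,
      s_symm hf (a + (l' * α) • w'') (a + (l * α) • w), hvv']
    ring
  have hYS : Y ∈ YY Q f M S := ⟨hfSY, s₁⁻¹ * s₂, M.mul_mem (M.inv_mem hs₁M) hs₂M, hSY⟩
  -- the components of `S` and `Y`
  have hpja : pr j a = a := C.pr_self j a ha
  have hpjw'' : pr j w'' = pr j w := by
    rw [hw'', map_add, C.pr_pr, C.pr_other j l₁ (Ne.symm hl₁j) x' hx'D, add_zero]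
  have hprS : ∀ m, pr m S = (2 : F) • pr m a + (l * α) • pr m w + (l' * α) • pr m w'' := by
    intro m
    rw [hS]
    simp only [map_add, map_smul]
    module
  have hSj : pr j S = (2 : F) • a + (l * α + l' * α) • pr j w := by
    rw [hprS, hpja, hpjw'']
    module
  have hSi : pr i S = (l * α) • pr i w := by
    rw [hprS, C.pr_other i j hij a ha, hw'', map_add, C.pr_pr_ne hij,
      C.pr_other i l₁ (Ne.symm hl₁i) x' hx'D]
    simp
  have hSl : pr l₁ S = (l' * α) • x' := by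
    rw [hprS, C.pr_other l₁ j hl₁j a ha, hsupp l₁ hl₁j hl₁i, hw'', map_add,
      C.pr_pr_ne hl₁j, C.pr_self l₁ x' hx'D]
    simp
  have hSm : ∀ m, m ≠ j → m ≠ i → m ≠ l₁ → pr m S = 0 := by
    intro m hmj hmi hml
    rw [hprS, C.pr_other m j hmj a ha, hsupp m hmj hmi, hw'', map_add, C.pr_pr_ne hmj,
      C.pr_other m l₁ hml x' hx'D]
    simp
  have hSi0 : pr i S ≠ 0 := by
    rw [hSi]
    refine smul_ne_zero (mul_ne_zero hl0 hα0) ?_
    intro h
    rw [h, Q_zero C.hq] at hQi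
    exact hQi rfl
  have hSl0 : pr l₁ S ≠ 0 := by
    rw [hSl]
    exact smul_ne_zero (mul_ne_zero hl'0 hα0) hx'0
  have hSja : f (pr j S) a = 4 * α := by
    rw [hSj, hf.add_left, hf.smul_left, hf.smul_left, f_self C.hq, ← hα, s_symm hf (pr j w) a,
      haw]
    ring
  have hSj0 : pr j S ≠ 0 := by
    intro h
    rw [h, f_zero_left hf] at hSja
    have h4 : (4 : F) ≠ 0 := by
      have : (4 : F) = 2 * 2 := by norm_num
      rw [this]
      exact mul_ne_zero C.h2 C.h2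
    exact mul_ne_zero h4 hα0 hSja.symm
  have hSD : ∀ m, S ∉ D m := by
    intro m hm
    by_cases hmi : m = i
    · exact hSl0 (C.pr_other l₁ m (by rw [hmi]; exact hl₁i) S hm)
    · exact hSi0 (C.pr_other i m (Ne.symm hmi) S hm)
  have hYj : pr j Y = -(α⁻¹ • (a + (l * α) • pr j w)) := by
    rw [hY, map_neg, map_smul, map_add, map_smul, hpja]
  rcases C.dich hQS hSD {1} rfl (by
    intro l hl
    rw [Set.mem_singleton_iff.1 hl, one_smul]
    exact hYS) with h | h | h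
  · exact h
  · obtain ⟨j', a', hj', ha', ha'0, ha'w, ha'Y⟩ := h
    have ha'Y1 : a' ∈ YY Q f M S := by
      have := ha'Y 1 rfl
      rwa [one_smul] at this
    by_cases h1 : j' = j
    · subst h1
      exact C.case2a hQS hSD hj' ha' ha'0 ha'w ha'Y1 hij hl₁j (Ne.symm hl₁i) hSi0 hSl0
    by_cases h2 : j' = i
    · subst h2
      exact C.case2a hQS hSD hj' ha' ha'0 ha'w ha'Y1 (Ne.symm h1) hl₁i (Ne.symm hl₁j) hSj0 hSl0
    by_cases h3 : j' = l₁
    · subst h3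
      exact C.case2a hQS hSD hj' ha' ha'0 ha'w ha'Y1 (Ne.symm h1) (Ne.symm h2) (Ne.symm hij)
        hSj0 hSi0
    · exact absurd (hSm j' h1 h2 h3) hj'
  · exfalso
    obtain ⟨β, hβ⟩ := h j
    have e1 := congrArg (fun z => f z a) hβ
    have e2 := congrArg (fun z => f z (pr j w)) hβ
    simp only [hYj, hSj, f_neg_left hf, hf.smul_left, hf.add_left, f_self C.hq, ← hα,
      s_symm hf (pr j w) a, haw, hQj] at e1 e2
    have hαi : α⁻¹ * α = 1 := inv_mul_cancel₀ hα0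
    have e1' : 4 * α * β = -2 := by linear_combination -e1 - 2 * hαi
    have e3 : 2 * (ν * (l - l')) = 0 := by
      linear_combination 2 * e2 - 4 * l * ν * hαi - (ν * (l + l')) * e1'
    rcases mul_eq_zero.1 ((mul_eq_zero.1 e3).resolve_left C.h2) with h0 | h0
    · exact hν0 h0
    · exact hne (sub_eq_zero.1 h0)

/-- Case II in general (directions closed under scalars) -/
theorem case2 (C : Ctx Q f D pr G N M) {w : Fin n → F} (hw : Q w = 0) (hwD : ∀ i, w ∉ D i)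
    {j : Fin t} (hj : pr j w ≠ 0) {a : Fin n → F} (ha : a ∈ D j) (ha0 : a ≠ 0)
    (haw : f a (pr j w) = 0) (hcl : ∀ l : F, l • a ∈ YY Q f M w) : Crux Q f D M := by
  have hf := C.hf
  have hay : a ∈ YY Q f M w := by
    have := hcl 1
    rwa [one_smul] at this
  obtain ⟨i, hij, hi⟩ := C.two_comp hwD j
  by_cases h3 : ∃ l, l ≠ j ∧ l ≠ i ∧ pr l w ≠ 0
  · obtain ⟨l, hlj, hli, hl⟩ := h3
    exact C.case2a hw hwD hj ha ha0 haw hay hij hlj (Ne.symm hli) hi hl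
  push Not at h3
  by_cases hQj : Q (pr j w) = 0
  · exact C.case2_sing hw hwD hj hQj ha ha0 haw hay
  by_cases hQi : Q (pr i w) = 0
  · obtain ⟨h, hh, hact, hQ, h0⟩ := C.sshift i _ (C.pr_mem i w) hi hQi
    obtain ⟨hfix, hs0, hQs, hsj⟩ := C.shift_of_acts (w := w) hij hh hact hQ h0
    exact C.case2_shift hw ha ha0 haw hay hh (hfix a ha) hs0 hQs hsj
  rcases C.alt with hplus | ⟨ht5, hcard⟩
  · obtain ⟨e, he, he0, hQe, hew⟩ := hplus i _ (C.pr_mem i w) hQi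
    obtain ⟨h, hh, hfix, hs0, hQs, hsj⟩ := C.shift_plus (w := w) hij hQi he he0 hQe hew
    exact C.case2_shift hw ha ha0 haw hay hh (hfix a ha) hs0 hQs hsj
  · by_cases hQa : Q a = 0
    · exact ⟨j, a, ha, ha0, hQa, w, yy_flip C.hq hw hQa hay, hwD j⟩
    · exact C.case2_pair hcard ht5 hw hij h3 hQi ha hQa haw hcl

end Ctx

end Cfsg.Agent.Lib.Helper28.Od
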