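import Cfsg.Agent.Lib.Helper28.OdK

set_option autoImplicit false

namespace Cfsg.Agent.Lib.Helper28.Od

open Matrix Cfsg.Agent.Lib.Helper28.Sf Cfsg.Agent.Lib.Helper28.HForm
  Cfsg.Agent.Lib.Helper28.OGen Cfsg.Agent.Lib.Helper28.OMax Cfsg.Agent.Lib.Helper28.OQ
  Cfsg.Agent.Lib.Helper28.OMax2 Cfsg.Agent.Lib.Helper28.OIwa Cfsg.Agent.Lib.Helper28.Os
  Cfsg.Agent.Lib.Helper28.ONd

variable {n : ℕ} {F : Type*} [Field F] {t : ℕ} {Q : (Fin n → F) → F}
  {f : (Fin n → F) → (Fin n → F) → F} {D : Fin t → Submodule F (Fin n → F)}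
  {pr : Fin t → (Fin n → F) →ₗ[F] (Fin n → F)}
  {G N M : Subgroup (Matrix.GeneralLinearGroup (Fin n) F)}

namespace Ctx

/-- conjugating the Siegel element `S_{w,y}` by `h` and commuting: if `h w ⟂ w, y` and
`h y ⟂ w` then `-f (h y) y • h w` is a direction at `w` -/
theorem comm_step (C : Ctx Q f D pr G N M) {w y : Fin n → F} (hw : Q w = 0)
    (hy : y ∈ YY Q f M w) {h : Matrix.GeneralLinearGroup (Fin n) F} (hh : h ∈ M)
    (h1 : f ((h : Matrix (Fin n) (Fin n) F) *ᵥ w) w = 0)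
    (h2 : f ((h : Matrix (Fin n) (Fin n) F) *ᵥ y) w = 0)
    (h3 : f ((h : Matrix (Fin n) (Fin n) F) *ᵥ w) y = 0) :
    (-f ((h : Matrix (Fin n) (Fin n) F) *ᵥ y) y) • ((h : Matrix (Fin n) (Fin n) F) *ᵥ w)
      ∈ YY Q f M w := by
  obtain ⟨_, s, hsM, hs⟩ := yy_conj C.hq hh (C.isoM hh) hy
  have hfix : (s : Matrix (Fin n) (Fin n) F) *ᵥ w = w := by
    rw [hs w]
    unfold Sgm
    rw [h1, h2]
    simp
  have h4 := yy_comm C.hq hw hsM (C.isoM hsM) hfix hy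
  rw [hs y] at h4
  have e : Sgm Q f ((h : Matrix (Fin n) (Fin n) F) *ᵥ w) ((h : Matrix (Fin n) (Fin n) F) *ᵥ y) y
      - y = (-f ((h : Matrix (Fin n) (Fin n) F) *ᵥ y) y) • ((h : Matrix (Fin n) (Fin n) F) *ᵥ w) := by
    unfold Sgm
    rw [h3]
    module
  rwa [e] at h4

/-- the shift of the `m`-component under an element acting on the block `m` pairs with the
component to minus its norm -/
theorem shift_pair (C : Ctx Q f D pr G N M) {h : Matrix.GeneralLinearGroup (Fin n) F}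
    (hh : h ∈ M) (v : Fin n → F) :
    f ((h : Matrix (Fin n) (Fin n) F) *ᵥ v - v) v =
      -Q ((h : Matrix (Fin n) (Fin n) F) *ᵥ v - v) := by
  have hf := C.hf
  have h1 := Q_sub C.hq ((h : Matrix (Fin n) (Fin n) F) *ᵥ v) v
  rw [C.isoM hh] at h1
  rw [f_sub_left hf, f_self C.hq, h1]
  ring

/-- an element of `N` acting on the block `m` with prescribed norm of the shift of `w_m` -/
theorem mover (C : Ctx Q f D pr G N M) {m : Fin t} {v : Fin n → F} (hv : v ∈ D m)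
    (hQv : Q v ≠ 0) (c : F) :
    ∃ h ∈ N, ActsOn f (D m) h ∧ Q ((h : Matrix (Fin n) (Fin n) F) *ᵥ v - v) = c := by
  by_cases hc : c = 0
  · refine ⟨1, N.one_mem, fun x _ => by simp, ?_⟩
    rw [hc]
    simp [Q_zero C.hq]
  · obtain ⟨x, hx, hQx, hd⟩ := C.normsel m v hv hQv c hc
    obtain ⟨h, hh, hact, hm⟩ := C.move m v hv x hx hQv hQx (by rw [hd]; exact hc)
    exact ⟨h, hh, hact, by rw [hm, hd]⟩

/-- two movers whose images of `v` differ by `2 x'` -/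
theorem mover2 (C : Ctx Q f D pr G N M) {m : Fin t} {v : Fin n → F} (hv : v ∈ D m)
    (hQv : Q v ≠ 0) (c : F) (hc : c ≠ 0)
    (halt : c ≠ 4 * Q v ∨ ∃ e ∈ D m, e ≠ 0 ∧ Q e = 0 ∧ f e v = 0) :
    ∃ h₁ ∈ N, ∃ h₂ ∈ N, ∃ x' ∈ D m, ActsOn f (D m) h₁ ∧ ActsOn f (D m) h₂ ∧ x' ≠ 0 ∧
      f x' v = 0 ∧ Q ((h₁ : Matrix (Fin n) (Fin n) F) *ᵥ v - v) = c ∧
      Q ((h₂ : Matrix (Fin n) (Fin n) F) *ᵥ v - v) = c ∧
      (h₁ : Matrix (Fin n) (Fin n) F) *ᵥ v - (h₂ : Matrix (Fin n) (Fin n) F) *ᵥ v = (2 : F) • x' := by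
  have hf := C.hf
  obtain ⟨a, x', hx', hx'0, hx'v, hQ1, hQ2⟩ := C.normsel2 m v hv hQv c hc halt
  have hvx' : f v x' = 0 := by rw [s_symm hf, hx'v]
  have hQ1' : Q (a • v - x') = Q v := by
    rw [← hQ1, Q_sub C.hq, C.hq.polar, hf.smul_left, hvx']
    ring
  have hQ2' : Q (a • v - x' - v) = c := by
    have e1 : a • v - x' - v = (a - 1) • v - x' := by module
    have e2 : a • v + x' - v = (a - 1) • v + x' := by module
    rw [e2, C.hq.polar, hf.smul_left, hvx'] at hQ2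
    rw [e1, Q_sub C.hq, hf.smul_left, hvx', ← hQ2]
    ring
  obtain ⟨h₁, hh₁, hact₁, hm₁⟩ := C.move m v hv (a • v + x')
    ((D m).add_mem ((D m).smul_mem _ hv) hx') hQv hQ1 (by rw [hQ2]; exact hc)
  obtain ⟨h₂, hh₂, hact₂, hm₂⟩ := C.move m v hv (a • v - x')
    ((D m).sub_mem ((D m).smul_mem _ hv) hx') hQv hQ1' (by rw [hQ2']; exact hc)
  refine ⟨h₁, hh₁, h₂, hh₂, x', hx', hact₁, hact₂, hx'0, hx'v, by rw [hm₁, hQ2],
    by rw [hm₂, hQ2'], ?_⟩
  rw [hm₁, hm₂]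
  module

/-- the action of a product of three elements acting on three different blocks -/
theorem acts3 (C : Ctx Q f D pr G N M) {a b c : Fin t} (hab : a ≠ b) (hac : a ≠ c)
    (hbc : b ≠ c) {h₁ h₂ h₃ : Matrix.GeneralLinearGroup (Fin n) F} (hh₂ : h₂ ∈ M)
    (hh₃ : h₃ ∈ M) (ha : ActsOn f (D a) h₁) (hb : ActsOn f (D b) h₂) (hc : ActsOn f (D c) h₃)
    (x : Fin n → F) :
    ((h₁ * h₂ * h₃ : Matrix.GeneralLinearGroup (Fin n) F) : Matrix (Fin n) (Fin n) F) *ᵥ x =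
      x + ((h₁ : Matrix (Fin n) (Fin n) F) *ᵥ (pr a x) - pr a x) +
        ((h₂ : Matrix (Fin n) (Fin n) F) *ᵥ (pr b x) - pr b x) +
        ((h₃ : Matrix (Fin n) (Fin n) F) *ᵥ (pr c x) - pr c x) := by
  rw [Cfsg.Agent.S5643.mul_mv, Cfsg.Agent.S5643.mul_mv]
  have e3 := C.acts_apply hc x
  have e2 := C.acts_apply hb ((h₃ : Matrix (Fin n) (Fin n) F) *ᵥ x)
  rw [C.acts_pr_other hh₃ hc hbc x] at e2
  have e1 := C.acts_apply ha ((h₂ : Matrix (Fin n) (Fin n) F) *ᵥ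
    ((h₃ : Matrix (Fin n) (Fin n) F) *ᵥ x))
  rw [C.acts_pr_other hh₂ hb hab, C.acts_pr_other hh₃ hc hac x] at e1
  rw [e1, e2, e3]
  abel

/-- one conjugation step of Case I: three block elements with prescribed norms of the shifts -/
theorem case1_dir (C : Ctx Q f D pr G N M) {w y : Fin n → F} (hw : Q w = 0)
    (hy : y ∈ YY Q f M w) (β : Fin t → F) (hβ : ∀ j, pr j y = β j • pr j w)
    {p p' p'' : Fin t} (h12 : p ≠ p') (h13 : p ≠ p'') (h23 : p' ≠ p'')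
    {h₁ h₂ h₃ : Matrix.GeneralLinearGroup (Fin n) F} (hh₁ : h₁ ∈ N) (hh₂ : h₂ ∈ N) (hh₃ : h₃ ∈ N)
    (ha₁ : ActsOn f (D p) h₁) (ha₂ : ActsOn f (D p') h₂) (ha₃ : ActsOn f (D p'') h₃)
    {c c' c'' : F} (hc : Q ((h₁ : Matrix (Fin n) (Fin n) F) *ᵥ (pr p w) - pr p w) = c)
    (hc' : Q ((h₂ : Matrix (Fin n) (Fin n) F) *ᵥ (pr p' w) - pr p' w) = c')
    (hc'' : Q ((h₃ : Matrix (Fin n) (Fin n) F) *ᵥ (pr p'' w) - pr p'' w) = c'')
    (hsum : c + c' + c'' = 0) (hβsum : β p * c + β p' * c' + β p'' * c'' = 0) :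
    (-(2 * Q y - (β p * β p * c + β p' * β p' * c' + β p'' * β p'' * c''))) •
      (w + ((h₁ : Matrix (Fin n) (Fin n) F) *ᵥ (pr p w) - pr p w) +
        ((h₂ : Matrix (Fin n) (Fin n) F) *ᵥ (pr p' w) - pr p' w) +
        ((h₃ : Matrix (Fin n) (Fin n) F) *ᵥ (pr p'' w) - pr p'' w)) ∈ YY Q f M w := by
  have hf := C.hf
  have hM₁ := C.NM hh₁
  have hM₂ := C.NM hh₂
  have hM₃ := C.NM hh₃
  obtain ⟨d, hd⟩ : ∃ d, d = (h₁ : Matrix (Fin n) (Fin n) F) *ᵥ (pr p w) - pr p w := ⟨_, rfl⟩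
  obtain ⟨d', hd'⟩ : ∃ d', d' = (h₂ : Matrix (Fin n) (Fin n) F) *ᵥ (pr p' w) - pr p' w :=
    ⟨_, rfl⟩
  obtain ⟨d'', hd''⟩ : ∃ d'', d'' = (h₃ : Matrix (Fin n) (Fin n) F) *ᵥ (pr p'' w) - pr p'' w :=
    ⟨_, rfl⟩
  have hdD : d ∈ D p := by
    rw [hd]; exact (D p).sub_mem (C.acts_mem hM₁ ha₁ (C.pr_mem p w)) (C.pr_mem p w)
  have hd'D : d' ∈ D p' := by
    rw [hd']; exact (D p').sub_mem (C.acts_mem hM₂ ha₂ (C.pr_mem p' w)) (C.pr_mem p' w)
  have hd''D : d'' ∈ D p'' := by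
    rw [hd'']; exact (D p'').sub_mem (C.acts_mem hM₃ ha₃ (C.pr_mem p'' w)) (C.pr_mem p'' w)
  have hdw : f d w = -c := by
    rw [C.f_pr_right hdD, hd, C.shift_pair hM₁, hc]
  have hd'w : f d' w = -c' := by
    rw [C.f_pr_right hd'D, hd', C.shift_pair hM₂, hc']
  have hd''w : f d'' w = -c'' := by
    rw [C.f_pr_right hd''D, hd'', C.shift_pair hM₃, hc'']
  have hdy : f d y = -(β p * c) := by
    rw [C.f_pr_right hdD, hβ, s_smul_right hf, ← C.f_pr_right hdD, hdw]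
    ring
  have hd'y : f d' y = -(β p' * c') := by
    rw [C.f_pr_right hd'D, hβ, s_smul_right hf, ← C.f_pr_right hd'D, hd'w]
    ring
  have hd''y : f d'' y = -(β p'' * c'') := by
    rw [C.f_pr_right hd''D, hβ, s_smul_right hf, ← C.f_pr_right hd''D, hd''w]
    ring
  have hgw : ((h₁ * h₂ * h₃ : Matrix.GeneralLinearGroup (Fin n) F) :
      Matrix (Fin n) (Fin n) F) *ᵥ w = w + d + d' + d'' := by
    rw [C.acts3 h12 h13 h23 hM₂ hM₃ ha₁ ha₂ ha₃ w, hd, hd', hd'']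
  have hgy : ((h₁ * h₂ * h₃ : Matrix.GeneralLinearGroup (Fin n) F) :
      Matrix (Fin n) (Fin n) F) *ᵥ y = y + β p • d + β p' • d' + β p'' • d'' := by
    rw [C.acts3 h12 h13 h23 hM₂ hM₃ ha₁ ha₂ ha₃ y, hβ p, hβ p', hβ p'', Matrix.mulVec_smul,
      Matrix.mulVec_smul, Matrix.mulVec_smul, hd, hd', hd'']
    module
  have hwy : f w y = 0 := hy.1
  have hyw : f y w = 0 := by rw [s_symm hf, hwy]
  have hgM : h₁ * h₂ * h₃ ∈ M := M.mul_mem (M.mul_mem hM₁ hM₂) hM₃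
  have h1 : f (((h₁ * h₂ * h₃ : Matrix.GeneralLinearGroup (Fin n) F) :
      Matrix (Fin n) (Fin n) F) *ᵥ w) w = 0 := by
    rw [hgw, hf.add_left, hf.add_left, hf.add_left, f_sing C.hq hw, hdw, hd'w, hd''w]
    linear_combination -hsum
  have h2 : f (((h₁ * h₂ * h₃ : Matrix.GeneralLinearGroup (Fin n) F) :
      Matrix (Fin n) (Fin n) F) *ᵥ y) w = 0 := by
    rw [hgy, hf.add_left, hf.add_left, hf.add_left, hf.smul_left, hf.smul_left, hf.smul_left,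
      hyw, hdw, hd'w, hd''w]
    linear_combination -hβsum
  have h3 : f (((h₁ * h₂ * h₃ : Matrix.GeneralLinearGroup (Fin n) F) :
      Matrix (Fin n) (Fin n) F) *ᵥ w) y = 0 := by
    rw [hgw, hf.add_left, hf.add_left, hf.add_left, hwy, hdy, hd'y, hd''y]
    linear_combination -hβsum
  have h4 := C.comm_step hw hy hgM h1 h2 h3
  have h5 : f (((h₁ * h₂ * h₃ : Matrix.GeneralLinearGroup (Fin n) F) :
      Matrix (Fin n) (Fin n) F) *ᵥ y) y =
      2 * Q y - (β p * β p * c + β p' * β p' * c' + β p'' * β p'' * c'') := by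
    rw [hgy, hf.add_left, hf.add_left, hf.add_left, hf.smul_left, hf.smul_left, hf.smul_left,
      f_self C.hq, hdy, hd'y, hd''y]
    ring
  rw [h5, hgw, hd, hd', hd''] at h4
  exact h4

/-- Case I with three non-zero nonsingular components and admissible constants -/
theorem case1_three (C : Ctx Q f D pr G N M) {w y : Fin n → F} (hw : Q w = 0)
    (hwD : ∀ i, w ∉ D i) (hy : y ∈ YY Q f M w) (β : Fin t → F)
    (hβ : ∀ j, pr j y = β j • pr j w) {p p' p'' : Fin t} (h12 : p ≠ p') (h13 : p ≠ p'')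
    (h23 : p' ≠ p'') (hQp : Q (pr p w) ≠ 0) (hQp' : Q (pr p' w) ≠ 0)
    (hQp'' : Q (pr p'' w) ≠ 0) {c c' c'' : F} (hc : c ≠ 0) (hsum : c + c' + c'' = 0)
    (hβsum : β p * c + β p' * c' + β p'' * c'' = 0)
    (hκ : 2 * Q y - (β p * β p * c + β p' * β p' * c' + β p'' * β p'' * c'') ≠ 0)
    (halt : c ≠ 4 * Q (pr p w) ∨ ∃ e ∈ D p, e ≠ 0 ∧ Q e = 0 ∧ f e (pr p w) = 0) :
    Crux Q f D M := by
  have hf := C.hf
  obtain ⟨h₁, hh₁, h₂, hh₂, x', hx', ha₁, ha₂, hx'0, hx'w, hc₁, hc₂, hdiff⟩ :=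
    C.mover2 (C.pr_mem p w) hQp c hc halt
  obtain ⟨h', hh', ha', hc'⟩ := C.mover (C.pr_mem p' w) hQp' c'
  obtain ⟨h'', hh'', ha'', hc''⟩ := C.mover (C.pr_mem p'' w) hQp'' c''
  have e1 := C.case1_dir hw hy β hβ h12 h13 h23 hh₁ hh' hh'' ha₁ ha' ha'' hc₁ hc' hc'' hsum hβsum
  have e2 := C.case1_dir hw hy β hβ h12 h13 h23 hh₂ hh' hh'' ha₂ ha' ha'' hc₂ hc' hc'' hsum hβsum
  have e3 := yy_sub C.hq hw e1 e2
  obtain ⟨κ, hκ'⟩ : ∃ κ : F, κ = 2 * Q y -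
      (β p * β p * c + β p' * β p' * c' + β p'' * β p'' * c'') := ⟨_, rfl⟩
  rw [← hκ'] at e3 hκ
  have e4 : (-κ) • (w + ((h₁ : Matrix (Fin n) (Fin n) F) *ᵥ (pr p w) - pr p w) +
        ((h' : Matrix (Fin n) (Fin n) F) *ᵥ (pr p' w) - pr p' w) +
        ((h'' : Matrix (Fin n) (Fin n) F) *ᵥ (pr p'' w) - pr p'' w)) -
      (-κ) • (w + ((h₂ : Matrix (Fin n) (Fin n) F) *ᵥ (pr p w) - pr p w) +
        ((h' : Matrix (Fin n) (Fin n) F) *ᵥ (pr p' w) - pr p' w) +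
        ((h'' : Matrix (Fin n) (Fin n) F) *ᵥ (pr p'' w) - pr p'' w)) =
      (-κ) • ((2 : F) • x') := by
    rw [← hdiff]
    module
  rw [e4] at e3
  have ha : (-κ) • ((2 : F) • x') ∈ D p := (D p).smul_mem _ ((D p).smul_mem _ hx')
  have ha0 : (-κ) • ((2 : F) • x') ≠ 0 :=
    smul_ne_zero (neg_ne_zero.2 hκ) (smul_ne_zero C.h2 hx'0)
  have haw : f ((-κ) • ((2 : F) • x')) (pr p w) = 0 := by
    rw [hf.smul_left, hf.smul_left, hx'w, mul_zero, mul_zero]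
  have hp' : pr p' w ≠ 0 := by
    intro h
    rw [h, Q_zero C.hq] at hQp'
    exact hQp' rfl
  have hp'' : pr p'' w ≠ 0 := by
    intro h
    rw [h, Q_zero C.hq] at hQp''
    exact hQp'' rfl
  have hp : pr p w ≠ 0 := by
    intro h
    rw [h, Q_zero C.hq] at hQp
    exact hQp rfl
  exact C.case2a hw hwD hp ha ha0 haw e3 (Ne.symm h12) (Ne.symm h13) h23 hp' hp''

/-- Case I: scale admissible constants so that `case1_three` applies -/
theorem case1_scaled (C : Ctx Q f D pr G N M) {w y : Fin n → F} (hw : Q w = 0)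
    (hwD : ∀ i, w ∉ D i) (hy : y ∈ YY Q f M w) (hQy : Q y ≠ 0) (β : Fin t → F)
    (hβ : ∀ j, pr j y = β j • pr j w) {p p' p'' : Fin t} (h12 : p ≠ p') (h13 : p ≠ p'')
    (h23 : p' ≠ p'') (hQp : Q (pr p w) ≠ 0) (hQp' : Q (pr p' w) ≠ 0)
    (hQp'' : Q (pr p'' w) ≠ 0) {c c' c'' : F} (hc : c ≠ 0) (hsum : c + c' + c'' = 0)
    (hβsum : β p * c + β p' * c' + β p'' * c'' = 0) : Crux Q f D M := by
  obtain ⟨K, hK⟩ : ∃ K : F, K = β p * β p * c + β p' * β p' * c' + β p'' * β p'' * c'' :=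
    ⟨_, rfl⟩
  have hq0 : 2 * Q y ≠ 0 := mul_ne_zero C.h2 hQy
  -- the scalar `γ`
  obtain ⟨γ, hγ0, hγK, hγalt⟩ : ∃ γ : F, γ ≠ 0 ∧ 2 * Q y - γ * K ≠ 0 ∧
      (γ * c ≠ 4 * Q (pr p w) ∨ ∃ e ∈ D p, e ≠ 0 ∧ Q e = 0 ∧ f e (pr p w) = 0) := by
    rcases C.alt with hplus | ⟨_, hcard⟩
    · have hpl := hplus p _ (C.pr_mem p w) hQp
      by_cases h1 : 2 * Q y - 1 * K = 0
      · refine ⟨2, C.h2, ?_, Or.inr hpl⟩
        intro h2
        apply hq0
        linear_combination 2 * h1 - h2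
      · exact ⟨1, one_ne_zero, h1, Or.inr hpl⟩
    · obtain ⟨x, hx0, hxa, hxb, _⟩ := hcard (2 * Q y / K) (4 * Q (pr p w) / c) 0
      refine ⟨x, hx0, ?_, Or.inl ?_⟩
      · by_cases hK0 : K = 0
        · rw [hK0, mul_zero, sub_zero]
          exact hq0
        · intro h
          apply hxa
          field_simp
          linear_combination -h
      · intro h
        apply hxb
        field_simp
        exact h
  apply C.case1_three hw hwD hy β hβ h12 h13 h23 hQp hQp' hQp'' (c := γ * c) (c' := γ * c')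
    (c'' := γ * c'') (mul_ne_zero hγ0 hc)
  · linear_combination γ * hsum
  · linear_combination γ * hβsum
  · intro h
    apply hγK
    rw [hK]
    linear_combination h
  · exact hγalt

/-- Case I: every component of the direction is a multiple of the component of the centre -/
theorem case1 (C : Ctx Q f D pr G N M) {w y : Fin n → F} (hw : Q w = 0)
    (hwD : ∀ i, w ∉ D i) (hy : y ∈ YY Q f M w) (hQy : Q y ≠ 0)
    (hβ : ∀ j, ∃ β : F, pr j y = β • pr j w) : Crux Q f D M := by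
  classical
  have hf := C.hf
  choose β hβ using hβ
  have hwy : f w y = 0 := hy.1
  by_cases hs : ∃ j, pr j w ≠ 0 ∧ Q (pr j w) = 0
  · -- a singular component
    obtain ⟨j, hj, hQj⟩ := hs
    obtain ⟨h, hh, hact, hQd, hd0⟩ := C.sshift j _ (C.pr_mem j w) hj hQj
    have hhM := C.NM hh
    obtain ⟨d, hd⟩ : ∃ d, d = (h : Matrix (Fin n) (Fin n) F) *ᵥ (pr j w) - pr j w := ⟨_, rfl⟩
    rw [← hd] at hQd hd0
    have hdD : d ∈ D j := by
      rw [hd]; exact (D j).sub_mem (C.acts_mem hhM hact (C.pr_mem j w)) (C.pr_mem j w)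
    have hhw : (h : Matrix (Fin n) (Fin n) F) *ᵥ w = w + d := by
      rw [C.acts_apply hact w, hd]; abel
    have hhy : (h : Matrix (Fin n) (Fin n) F) *ᵥ y = y + β j • d := by
      rw [C.acts_apply hact y, hβ j, Matrix.mulVec_smul, hd]; module
    have hdw : f d w = 0 := by
      rw [C.f_pr_right hdD, hd, C.shift_pair hhM, ← hd, hQd, neg_zero]
    have hdy : f d y = 0 := by
      rw [C.f_pr_right hdD, hβ j, s_smul_right hf, ← C.f_pr_right hdD, hdw, mul_zero]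
    have h1 : f ((h : Matrix (Fin n) (Fin n) F) *ᵥ w) w = 0 := by
      rw [hhw, hf.add_left, f_sing C.hq hw, hdw, add_zero]
    have h2 : f ((h : Matrix (Fin n) (Fin n) F) *ᵥ y) w = 0 := by
      rw [hhy, hf.add_left, hf.smul_left, hdw, s_symm hf y w, hwy]; ring
    have h3 : f ((h : Matrix (Fin n) (Fin n) F) *ᵥ w) y = 0 := by
      rw [hhw, hf.add_left, hwy, hdy, add_zero]
    have h4 := C.comm_step hw hy hhM h1 h2 h3
    have h5 : f ((h : Matrix (Fin n) (Fin n) F) *ᵥ y) y = 2 * Q y := by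
      rw [hhy, hf.add_left, hf.smul_left, f_self C.hq, hdy]; ring
    rw [h5, hhw, smul_add, add_comm] at h4
    have h6 := yy_of_add_center C.hq hw _ h4
    have hu0 : (-(2 * Q y)) • d ≠ 0 :=
      smul_ne_zero (neg_ne_zero.2 (mul_ne_zero C.h2 hQy)) hd0
    have hQu : Q ((-(2 * Q y)) • d) = 0 := by rw [C.hq.smul, hQd, mul_zero]
    exact ⟨j, _, (D j).smul_mem _ hdD, hu0, hQu, w, yy_flip C.hq hw hQu h6, hwD j⟩
  · push Not at hs
    have hw0 := C.ne_zero_of_not_mem hwD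
    -- three non-zero components
    obtain ⟨p₁, hp₁⟩ : ∃ p₁, pr p₁ w ≠ 0 := by
      by_contra hcon
      push Not at hcon
      apply hw0
      rw [← C.pr_sum w]
      exact Finset.sum_eq_zero (fun i _ => hcon i)
    obtain ⟨p₂, h21, hp₂⟩ := C.two_comp hwD p₁
    have hQ₁ := hs p₁ hp₁
    have hQ₂ := hs p₂ hp₂
    obtain ⟨p₃, h31, h32, hp₃⟩ : ∃ p₃, p₃ ≠ p₁ ∧ p₃ ≠ p₂ ∧ pr p₃ w ≠ 0 := by
      by_contra hcon
      push Not at hcon
      have e1 : Q w = Q (pr p₁ w) + Q (pr p₂ w) := by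
        rw [C.Q_eq_sum w, Finset.sum_eq_add p₁ p₂ (Ne.symm h21)]
        · intro c _ hc
          rw [hcon c hc.1 hc.2, Q_zero C.hq]
        · intro h; exact absurd (Finset.mem_univ p₁) h
        · intro h; exact absurd (Finset.mem_univ p₂) h
      have e2 : f w y = β p₁ * (2 * Q (pr p₁ w)) + β p₂ * (2 * Q (pr p₂ w)) := by
        rw [C.f_eq_sum w y, Finset.sum_eq_add p₁ p₂ (Ne.symm h21)]
        · rw [hβ p₁, hβ p₂, s_smul_right hf, s_smul_right hf, f_self C.hq, f_self C.hq]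
        · intro c _ hc
          rw [hcon c hc.1 hc.2, f_zero_left hf]
        · intro h; exact absurd (Finset.mem_univ p₁) h
        · intro h; exact absurd (Finset.mem_univ p₂) h
      have e3 : Q y = β p₁ * β p₁ * Q (pr p₁ w) + β p₂ * β p₂ * Q (pr p₂ w) := by
        rw [C.Q_eq_sum y, Finset.sum_eq_add p₁ p₂ (Ne.symm h21)]
        · rw [hβ p₁, hβ p₂, C.hq.smul, C.hq.smul]
        · intro c _ hc
          rw [hβ c, hcon c hc.1 hc.2, smul_zero, Q_zero C.hq]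
        · intro h; exact absurd (Finset.mem_univ p₁) h
        · intro h; exact absurd (Finset.mem_univ p₂) h
      rw [hw] at e1
      rw [hwy] at e2
      have e4 : Q (pr p₂ w) = -Q (pr p₁ w) := by linear_combination -e1
      have e5 : (β p₁ - β p₂) * (2 * Q (pr p₁ w)) = 0 := by
        rw [e4] at e2
        linear_combination -e2
      have e6 : β p₁ = β p₂ :=
        sub_eq_zero.1 ((mul_eq_zero.1 e5).resolve_right (mul_ne_zero C.h2 hQ₁))
      apply hQy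
      rw [e3, e4, e6]
      ring
    have hQ₃ := hs p₃ hp₃
    by_cases hA : β p₁ = β p₂
    · exact C.case1_scaled hw hwD hy hQy β hβ (Ne.symm h21) (Ne.symm h31) (Ne.symm h32) hQ₁ hQ₂
        hQ₃ (c := 1) (c' := -1) (c'' := 0) one_ne_zero (by ring) (by rw [hA]; ring)
    by_cases hB : β p₁ = β p₃
    · exact C.case1_scaled hw hwD hy hQy β hβ (Ne.symm h31) (Ne.symm h21) h32 hQ₁ hQ₃
        hQ₂ (c := 1) (c' := -1) (c'' := 0) one_ne_zero (by ring) (by rw [hB]; ring)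
    by_cases hC : β p₂ = β p₃
    · exact C.case1_scaled hw hwD hy hQy β hβ (Ne.symm h32) h21 h31 hQ₂ hQ₃
        hQ₁ (c := 1) (c' := -1) (c'' := 0) one_ne_zero (by ring) (by rw [hC]; ring)
    · exact C.case1_scaled hw hwD hy hQy β hβ (Ne.symm h21) (Ne.symm h31) (Ne.symm h32) hQ₁ hQ₂
        hQ₃ (c := β p₂ - β p₃) (c' := β p₃ - β p₁) (c'' := β p₁ - β p₂) (sub_ne_zero.2 hC)
        (by ring) (by ring)

end Ctx

end Cfsg.Agent.Lib.Helper28.Od
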