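import Cfsg.Agent.Lib.Helper28.OdL

set_option autoImplicit false

namespace Cfsg.Agent.Lib.Helper28.Od

open Matrix Cfsg.Agent.Lib.Helper28.Sf Cfsg.Agent.Lib.Helper28.HForm
  Cfsg.Agent.Lib.Helper28.OGen Cfsg.Agent.Lib.Helper28.OMax Cfsg.Agent.Lib.Helper28.OQ
  Cfsg.Agent.Lib.Helper28.OMax2 Cfsg.Agent.Lib.Helper28.OIwa Cfsg.Agent.Lib.Helper28.Os
  Cfsg.Agent.Lib.Helper28.ONd

variable {n : ℕ} {F : Type*} [Field F] {t : ℕ} {Q : (Fin n → F) → F}
  {f : (Fin n → F) → (Fin n → F) → F} {D : Fin t → Submodule F (Fin n → F)}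
  {pr : Fin t → (Fin n → F) →ₗ[F] (Fin n → F)}
  {G N M : Subgroup (Matrix.GeneralLinearGroup (Fin n) F)}

namespace Ctx

/-- Step B: an element of `M` outside `N` produces `Crux` -/
theorem crux_of_ne (C : Ctx Q f D pr G N M) {g : Matrix.GeneralLinearGroup (Fin n) F}
    (hgM : g ∈ M) (hgN : g ∉ N) : Crux Q f D M := by
  have hf := C.hf
  obtain ⟨i, u, hu, z, hz, hu0, hQu, huz, hQz, hbad⟩ := C.ex_bad hgM hgN
  obtain ⟨w, hw⟩ : ∃ w, w = (g : Matrix (Fin n) (Fin n) F) *ᵥ u := ⟨_, rfl⟩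
  obtain ⟨y, hy⟩ : ∃ y, y = (g : Matrix (Fin n) (Fin n) F) *ᵥ z := ⟨_, rfl⟩
  rw [← hw] at hbad
  have hQw : Q w = 0 := by rw [hw, C.isoM hgM, hQu]
  have hQy : Q y ≠ 0 := by rw [hy, C.isoM hgM]; exact hQz
  have hcl : ∀ l : F, l • y ∈ YY Q f M w := by
    intro l
    have hlz : f u (l • z) = 0 := by rw [s_smul_right hf, huz, mul_zero]
    obtain ⟨s, hsN, hs⟩ := C.blockSieg hu ((D i).smul_mem l hz) hu0 hQu hlz
    have h1 : l • z ∈ YY Q f M u := ⟨hlz, s, C.NM hsN, hs⟩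
    have h2 := yy_conj C.hq hgM (C.isoM hgM) h1
    rwa [Matrix.mulVec_smul, ← hw, ← hy] at h2
  have hy1 : y ∈ YY Q f M w := by
    have := hcl 1
    rwa [one_smul] at this
  rcases C.dich hQw hbad Set.univ (Set.mem_univ _) (fun l _ => hcl l) with h | h | h
  · exact h
  · obtain ⟨j, a, hj, ha, ha0, haw, hacl⟩ := h
    exact C.case2 hQw hbad hj ha ha0 haw (fun l => hacl l (Set.mem_univ _))
  · exact C.case1 hQw hbad hy1 hQy h

/-- the abstract maximality statement -/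
theorem core (C : Ctx Q f D pr G N M) (hne : M ≠ N) : M = G := by
  apply le_antisymm C.MG
  obtain ⟨g, hgM, hgN⟩ : ∃ g ∈ M, g ∉ N := by
    by_contra hcon
    push Not at hcon
    exact hne (le_antisymm hcon C.NM)
  exact C.crux_top (C.crux_of_ne hgM hgN)

end Ctx

end Cfsg.Agent.Lib.Helper28.Od
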