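import Cfsg.Agent.Lib.Helper28.OdZ

set_option autoImplicit false

namespace Cfsg.Agent.Lib.Helper28.Od

open Matrix Cfsg.Agent.Lib.Lead
  Cfsg.Agent.Lib.Helper28.HForm Cfsg.Agent.Lib.Helper28.OGen
  Cfsg.Agent.Lib.Helper28.OMax Cfsg.Agent.Lib.Helper28.OQ
  Cfsg.Agent.Lib.Helper28.OMax2 Cfsg.Agent.Lib.Helper28.OGenQ
  Cfsg.Agent.Lib.Helper28.OTrans Cfsg.Agent.Lib.Helper28.OAll
  Cfsg.Agent.Lib.Helper28.ONdA Cfsg.Agent.Lib.Helper28.OFrameT Cfsg.Agent.S0795

section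

variable {ι κ : Type} [Fintype ι] [DecidableEq ι] [Fintype κ] [DecidableEq κ]
  {F : Type*} [Field F]

omit [DecidableEq ι] [DecidableEq κ] in
theorem mdecomp_comap (e : ι ≃ κ) {t k : ℕ} (D : Fin t → Submodule F (ι → F))
    (hD : Cfsg.Geo.IsMDecomposition k D) :
    Cfsg.Geo.IsMDecomposition k (fun i => (D i).comap (LinearMap.funLeft F F e)) := by
  obtain ⟨fc, hfc⟩ : ∃ fc : (κ → F) ≃ₗ[F] (ι → F), fc = LinearEquiv.funCongrLeft F F e :=
    ⟨_, rfl⟩
  have hcm : ∀ A : Submodule F (ι → F), A.comap (LinearMap.funLeft F F e) =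
      (Submodule.orderIsoMapComap fc).symm A := by
    intro A
    rw [hfc]
    rfl
  refine ⟨hD.two_le, hD.pos, fun i => ?_, ?_, ?_⟩
  · rw [comap_finrank]
    exact hD.finrank_eq i
  · have h1 : (fun i => (D i).comap (LinearMap.funLeft F F e)) =
        (Submodule.orderIsoMapComap fc).symm ∘ D := by
      funext i
      exact hcm (D i)
    rw [h1, iSupIndep_map_orderIso_iff]
    exact hD.indep
  · have h1 : (⨆ i, (D i).comap (LinearMap.funLeft F F e)) =
        (Submodule.orderIsoMapComap fc).symm (⨆ i, D i) := by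
      rw [OrderIso.map_iSup]
      exact iSup_congr fun i => hcm (D i)
    rw [h1, hD.iSup_eq_top, OrderIso.map_top]

omit [DecidableEq ι] [DecidableEq κ] in
theorem odecomp_comap (e : ι ≃ κ) (Q : QuadraticForm F (ι → F)) {t k : ℕ}
    (D : Fin t → Submodule F (ι → F)) (hD : Cfsg.Geo.IsOrthogonalMDecomposition (⇑Q) k D) :
    Cfsg.Geo.IsOrthogonalMDecomposition (⇑(RI.qReindex e Q)) k
      (fun i => (D i).comap (LinearMap.funLeft F F e)) := by
  have hpf : ∀ x y : κ → F, QuadraticMap.polar (⇑(RI.qReindex e Q)) x y =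
      QuadraticMap.polar (⇑Q) (x ∘ e) (y ∘ e) := by
    intro x y
    unfold QuadraticMap.polar
    rfl
  have hne0 : ∀ x : κ → F, x ≠ 0 → x ∘ e ≠ 0 := by
    intro x hx h
    apply hx
    rw [← comp_comp_symm e x, h]
    rfl
  refine ⟨⟨mdecomp_comap e D hD.decomp.decomp, ?_, ?_⟩, ?_⟩
  · intro i w' hw' hw'0
    obtain ⟨⟨x, hxW, hx⟩, ⟨y, hyW, hy⟩⟩ := hD.decomp.nondegenerate i (w' ∘ e) hw' (hne0 w' hw'0)
    refine ⟨⟨x ∘ e.symm, ?_, ?_⟩, ⟨y ∘ e.symm, ?_, ?_⟩⟩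
    · show (x ∘ e.symm) ∘ e ∈ D i
      rw [comp_symm_comp]
      exact hxW
    · rw [hpf, comp_symm_comp]
      exact hx
    · show (y ∘ e.symm) ∘ e ∈ D i
      rw [comp_symm_comp]
      exact hyW
    · rw [hpf, comp_symm_comp]
      exact hy
  · intro i j hij u hu v hv
    rw [hpf]
    exact hD.decomp.orthogonal i j hij _ hu _ hv
  · intro i j
    exact iso_comap e Q _ _ (hD.isometric i j)

end

theorem dec_dim_any {ι : Type} [Fintype ι] {F : Type*} [Field F] {t m : ℕ}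
    {D : Fin t → Submodule F (ι → F)} (hD : Cfsg.Geo.IsMDecomposition m D) :
    Fintype.card ι = t * m := by
  have hint := DirectSum.isInternal_submodule_of_iSupIndep_of_iSup_eq_top hD.indep hD.iSup_eq_top
  have e := LinearEquiv.ofBijective (DirectSum.coeLinearMap D) hint
  have h1 := e.finrank_eq
  rw [Module.finrank_directSum] at h1
  simp only [hD.finrank_eq, Finset.sum_const, Finset.card_univ, Fintype.card_fin, smul_eq_mul,
    Module.finrank_fintype_fun_eq_card] at h1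
  exact h1.symm

theorem od_max_any {ι : Type} [Fintype ι] [DecidableEq ι] {F : Type*} [Field F] [Fintype F]
    (h2 : (2 : F) ≠ 0) (hn : 7 ≤ Fintype.card ι) (Q : QuadraticForm F (ι → F))
    (hQ : (QuadraticMap.polarBilin Q).Nondegenerate) {t k : ℕ}
    (D : Fin t → Submodule F (ι → F))
    (hD : Cfsg.Geo.IsOrthogonalMDecomposition (⇑Q) k D) (hk : 3 ≤ k) (ht : 3 ≤ t)
    (hk5 : 5 ≤ k ∨ (5 ≤ Fintype.card F ∧ 5 ≤ t)) :
    Cfsg.Geo.IsMaximalIn (Cfsg.Geo.omegaGL (⇑Q))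
      (Cfsg.Geo.decompositionStabilizer D ⊓ Cfsg.Geo.omegaGL (⇑Q)) := by
  obtain ⟨e, he⟩ : ∃ e : ι ≃ Fin (Fintype.card ι), e = Fintype.equivFin ι := ⟨_, rfl⟩
  apply isMaximalIn_of_map (RI.glReindex (F := F) e)
  rw [Subgroup.map_inf (Cfsg.Geo.decompositionStabilizer D) (Cfsg.Geo.omegaGL ⇑Q)
    (RI.glReindex (F := F) e).toMonoidHom (RI.glReindex (F := F) e).injective, map_omegaGL,
    map_decomp]
  have hQ' := RI.qReindex_nondeg e Q hQ
  exact od_max_fin h2 hn (RI.qReindex e Q) hQ' _ (odecomp_comap e Q D hD) hk ht hk5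

end Cfsg.Agent.Lib.Helper28.Od
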