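import Cfsg.Agent.Lib.Helper28.OdM
import Cfsg.Agent.Lib.Helper28.OdC
import Cfsg.Agent.Lib.Helper28.OdD
import Cfsg.Agent.Lib.Helper28.OFrameT

set_option autoImplicit false

/-! Assembly for S5677: the stabiliser of an orthogonal decomposition into isometric blocks of
dimension at least three is maximal in `Ω`. -/

namespace Cfsg.Agent.Lib.Helper28.Od

open Matrix Cfsg.Agent.Lib.Helper28.Sf Cfsg.Agent.Lib.Helper28.HForm
  Cfsg.Agent.Lib.Helper28.OGen Cfsg.Agent.Lib.Helper28.OMax Cfsg.Agent.Lib.Helper28.OQ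
  Cfsg.Agent.Lib.Helper28.OMax2 Cfsg.Agent.Lib.Helper28.OIwa Cfsg.Agent.Lib.Helper28.Os
  Cfsg.Agent.Lib.Helper28.ONd Cfsg.Agent.S0795 Cfsg.Agent.Lib.Helper28.OGenQ

variable {n : ℕ} {F : Type*} [Field F]

theorem od_ctx [Fintype F] (h2 : (2 : F) ≠ 0) (hn : 7 ≤ n) (Q : QuadraticForm F (Fin n → F))
    (hQ : (QuadraticMap.polarBilin Q).Nondegenerate) {t k : ℕ}
    (D : Fin t → Submodule F (Fin n → F))
    (hD : Cfsg.Geo.IsOrthogonalMDecomposition (⇑Q) k D) (hk : 3 ≤ k) (ht : 3 ≤ t)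
    (hk5 : 5 ≤ k ∨ (5 ≤ Fintype.card F ∧ 5 ≤ t)) :
    ∃ pr : Fin t → (Fin n → F) →ₗ[F] (Fin n → F),
      ∀ M : Subgroup (Matrix.GeneralLinearGroup (Fin n) F),
        Cfsg.Geo.decompositionStabilizer D ⊓ Cfsg.Geo.omegaGL (⇑Q) ≤ M →
        M ≤ Cfsg.Geo.omegaGL (⇑Q) →
        Ctx (⇑Q) (pf Q) D pr (Cfsg.Geo.omegaGL (⇑Q))
          (Cfsg.Geo.decompositionStabilizer D ⊓ Cfsg.Geo.omegaGL (⇑Q)) M := by
  have hq := qf_of_quad Q hQ
  have hf := hq.sym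
  have vf := vfacts_quad hn Q hQ
  have hG := sgGroupQ_quad hn Q hQ
  obtain ⟨pr, hpr1, hpr2, hpr3, hpr4⟩ := p_pr D hD.decomp.decomp
  -- the splitting of each block
  have hsp : ∀ j, ∃ W : Submodule F (Fin n → F), Split (pf Q) W (D j) ∧
      Module.finrank F W + 3 ≤ n ∧
      (Module.finrank F W + 5 ≤ n ∨ 5 ≤ Fintype.card F) ∧
      (5 ≤ k → Module.finrank F W + 5 ≤ n) := by
    intro j
    obtain ⟨W, sp, hfr, -⟩ := p_split Q hQ D hD j
    refine ⟨W, sp, by omega, ?_, fun h => by omega⟩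
    rcases hk5 with h | h
    · left
      omega
    · right
      exact h.1
  -- Siegel elements of the blocks
  have hsieg : ∀ j, ∀ a ∈ D j, ∀ b ∈ D j, a ≠ 0 → Q a = 0 → pf Q a b = 0 →
      ∀ s : Matrix.GeneralLinearGroup (Fin n) F, IsSgg (⇑Q) (pf Q) s a b →
        s ∈ Cfsg.Geo.decompositionStabilizer D ⊓ Cfsg.Geo.omegaGL (⇑Q) := by
    intro j a ha b hb ha0 hQa hab s hs
    have hsG : s ∈ Cfsg.Geo.omegaGL (⇑Q) := by
      refine isRho_mem hq vf hG (r := s) (u := a) (y := b) ?_ hQa ha0 ?_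
      · intro x
        exact hs x
      · rw [s_symm hf, hab]
    exact ⟨r_stab_acts Q hQ D hD s (hG.iso s hsG) j (DAux.sgg_acts hq ha hb hs), hsG⟩
  -- rotations of the blocks
  have hrot : ∀ j, ∀ b ∈ D j, ∀ b' ∈ D j, Q b ≠ 0 → Q b' = Q b →
      ∃ h ∈ Cfsg.Geo.decompositionStabilizer D ⊓ Cfsg.Geo.omegaGL (⇑Q), ∀ x,
        (h : Matrix (Fin n) (Fin n) F) *ᵥ x = Rf (⇑Q) (pf Q) b (Rf (⇑Q) (pf Q) b' x) := by
    intro j b hb b' hb' hQb hQb'
    obtain ⟨h, hhG, hh⟩ := r_rot h2 Q b b' hQb hQb'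
    exact ⟨h, ⟨r_stab_acts Q hQ D hD h (hG.iso h hhG) j (DAux.rot_acts hq hb hb' hh), hhG⟩, hh⟩
  refine ⟨pr, fun M hNM hMG => ?_⟩
  refine
    { hq := hq
      h2 := h2
      vf := vf
      hG := hG
      three := ht
      orth := ?_
      nd := ?_
      pr_mem := hpr1
      pr_sum := hpr2
      pr_self := hpr3
      pr_other := hpr4
      NM := hNM
      MG := hMG
      stab_of := ?_
      sieg := hsieg
      fix := ?_
      cyc := ?_
      sshift := ?_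
      move := ?_
      sing := ?_
      nsperp := ?_
      normsel := ?_
      normsel2 := ?_
      sq2 := sq2
      alt := ?_ }
  · intro i j hij x hx y hy
    exact hD.decomp.orthogonal i j hij x hx y hy
  · intro i x hx hx0
    exact (hD.decomp.nondegenerate i x hx hx0).2
  · intro g hg h
    exact ⟨r_stab_of D hD.decomp.decomp g h, hg⟩
  · intro j w hw v hv hw0 hvw
    obtain ⟨W, sp, h3, h5, -⟩ := hsp j
    exact d_fix hq h2 vf hG sp h3 h5 (hrot j) (hsieg j) hw hv hw0 hvw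
  · intro i j l hij hjl hil
    exact c_cyc h2 Q hQ D hD i j l hij hjl hil
  · intro j w hw hw0 hQw
    obtain ⟨W, sp, h3, h5, -⟩ := hsp j
    exact d_sshift hq h2 vf hG sp h3 h5 (hrot j) (hsieg j) hw hw0 hQw
  · intro j w hw x hx hQw hQx hd
    obtain ⟨W, sp, h3, -, -⟩ := hsp j
    exact d_move hq h2 sp h3 (hrot j) hw hx hQw hQx hd
  · intro j
    obtain ⟨W, sp, h3, -, -⟩ := hsp j
    exact blk_sing hq sp h3
  · intro j a ha ha0 hQa
    obtain ⟨W, sp, h3, -, -⟩ := hsp j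
    exact blk_nsperp hq h2 sp h3 ha ha0 hQa
  · intro j w hw hQw c hc
    obtain ⟨W, sp, h3, -, -⟩ := hsp j
    exact blk_normsel hq h2 sp h3 hw hQw c hc
  · intro j w hw hQw c hc halt
    obtain ⟨W, sp, h3, -, -⟩ := hsp j
    exact blk_normsel2 hq h2 sp h3 hw hQw c hc halt
  · rcases hk5 with h | h
    · left
      intro j w hw hQw
      obtain ⟨W, sp, -, -, h5⟩ := hsp j
      obtain ⟨e, he, he0, hQe, hew, -⟩ := blk_plus hq sp (h5 h) hw
      exact ⟨e, he, he0, hQe, hew⟩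
    · right
      exact ⟨h.2, card5 h.1⟩

theorem od_max_fin [Fintype F] (h2 : (2 : F) ≠ 0) (hn : 7 ≤ n) (Q : QuadraticForm F (Fin n → F))
    (hQ : (QuadraticMap.polarBilin Q).Nondegenerate) {t k : ℕ}
    (D : Fin t → Submodule F (Fin n → F))
    (hD : Cfsg.Geo.IsOrthogonalMDecomposition (⇑Q) k D) (hk : 3 ≤ k) (ht : 3 ≤ t)
    (hk5 : 5 ≤ k ∨ (5 ≤ Fintype.card F ∧ 5 ≤ t)) :
    Cfsg.Geo.IsMaximalIn (Cfsg.Geo.omegaGL (⇑Q))
      (Cfsg.Geo.decompositionStabilizer D ⊓ Cfsg.Geo.omegaGL (⇑Q)) := by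
  obtain ⟨pr, hctx⟩ := od_ctx h2 hn Q hQ D hD hk ht hk5
  refine ⟨r_proper h2 hn Q hQ hk D hD, fun M hNM hMG => ?_⟩
  by_cases hne : M = Cfsg.Geo.decompositionStabilizer D ⊓ Cfsg.Geo.omegaGL (⇑Q)
  · left
    exact hne
  · right
    exact (hctx M hNM hMG).core hne

end Cfsg.Agent.Lib.Helper28.Od
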