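import Cfsg.Agent.Lib.Helper28.SfB

set_option autoImplicit false

namespace Cfsg.Agent.Lib.Helper28.Os

open Matrix Cfsg.Agent.Lib.Helper28.Sf

variable {n : ℕ} {F : Type*} [Field F] {F₀ : Subfield F}

/-- an `F₀`-linear retraction of `F` onto `F₀` -/
theorem exists_retr (F₀ : Subfield F) : ∃ φ : F →ₗ[F₀] F₀, ∀ a : F₀, φ (a : F) = a := by
  have hinj : LinearMap.ker (Algebra.linearMap F₀ F) = ⊥ := by
    rw [LinearMap.ker_eq_bot]
    exact (algebraMap F₀ F).injective
  obtain ⟨g, hg⟩ := LinearMap.exists_leftInverse_of_injective (Algebra.linearMap F₀ F) hinj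
  refine ⟨g, fun a => ?_⟩
  have := congrArg (fun l => l a) hg
  simp only [LinearMap.comp_apply, Algebra.linearMap_apply, LinearMap.id_apply] at this
  exact this

/-- apply an `F₀`-linear functional coordinatewise -/
def ratl (ψ : F →ₗ[F₀] F₀) (x : Fin n → F) : Fin n → F := fun i => ((ψ (x i) : F₀) : F)

theorem ratl_rat (ψ : F →ₗ[F₀] F₀) (x : Fin n → F) : Rat F₀ (ratl ψ x) := fun i => (ψ (x i)).2

theorem ratl_add (ψ : F →ₗ[F₀] F₀) (x y : Fin n → F) : ratl ψ (x + y) = ratl ψ x + ratl ψ y := by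
  funext i
  simp [ratl]

theorem ratl_zero (ψ : F →ₗ[F₀] F₀) : ratl ψ (0 : Fin n → F) = 0 := by
  funext i
  simp [ratl]

theorem ratl_sum (ψ : F →ₗ[F₀] F₀) {ι : Type*} (s : Finset ι) (x : ι → (Fin n → F)) :
    ratl ψ (∑ j ∈ s, x j) = ∑ j ∈ s, ratl ψ (x j) := by
  classical
  induction s using Finset.induction_on with
  | empty => simp [ratl_zero]
  | insert a s ha ih => rw [Finset.sum_insert ha, Finset.sum_insert ha, ratl_add, ih]

/-- for a rational vector `x`, `ψ (c • x) = ψ(c) • x` -/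
theorem ratl_smul_of_rat (ψ : F →ₗ[F₀] F₀) {x : Fin n → F} (hx : Rat F₀ x) (c : F) :
    ratl ψ (c • x) = ((ψ c : F₀) : F) • x := by
  funext i
  simp only [ratl, Pi.smul_apply, smul_eq_mul]
  have h1 : c * x i = (⟨x i, hx i⟩ : F₀) • c := by
    rw [Subfield.smul_def, smul_eq_mul, mul_comm]
  rw [h1, map_smul, smul_eq_mul, Subfield.coe_mul, mul_comm]

theorem ratl_of_rat {φ : F →ₗ[F₀] F₀} (hφ : ∀ a : F₀, φ (a : F) = a) {x : Fin n → F}
    (hx : Rat F₀ x) : ratl φ x = x := by
  funext i
  simp only [ratl]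
  have := hφ ⟨x i, hx i⟩
  rw [this]

/-- a rational linear functional commutes with `ratl` -/
theorem dot_ratl (ψ : F →ₗ[F₀] F₀) {l : Fin n → F} (hl : Rat F₀ l) (x : Fin n → F) :
    l ⬝ᵥ ratl ψ x = ((ψ (l ⬝ᵥ x) : F₀) : F) := by
  unfold dotProduct
  rw [map_sum, AddSubmonoidClass.coe_finset_sum]
  apply Finset.sum_congr rfl
  intro i _
  simp only [ratl]
  have h1 : l i * x i = (⟨l i, hl i⟩ : F₀) • x i := by
    rw [Subfield.smul_def, smul_eq_mul]
  rw [h1, map_smul, smul_eq_mul, Subfield.coe_mul]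

/-- decomposition of a vector along an `F₀`-basis of `F` -/
theorem vec_decomp {ι : Type*} [Fintype ι] (b : Module.Basis ι F₀ F) (x : Fin n → F) :
    x = ∑ j, b j • ratl (b.coord j) x := by
  funext i
  rw [Finset.sum_apply]
  simp only [Pi.smul_apply, ratl, smul_eq_mul, Module.Basis.coord_apply]
  have := b.sum_repr (x i)
  conv_lhs => rw [← this]
  apply Finset.sum_congr rfl
  intro j _
  rw [Subfield.smul_def, smul_eq_mul, mul_comm]

/-- uniqueness of the decomposition -/
theorem vec_unique {ι : Type*} [Fintype ι] (b : Module.Basis ι F₀ F) (X : ι → (Fin n → F))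
    (hX : ∀ j, Rat F₀ (X j)) (h : ∑ j, b j • X j = 0) : ∀ j, X j = 0 := by
  intro j
  funext i
  have h1 := congrFun h i
  rw [Finset.sum_apply] at h1
  simp only [Pi.smul_apply, smul_eq_mul, Pi.zero_apply] at h1
  have h2 := Fintype.linearIndependent_iff.mp b.linearIndependent
    (fun j => (⟨X j i, hX j i⟩ : F₀)) (by
      rw [← h1]
      apply Finset.sum_congr rfl
      intro j _
      rw [Subfield.smul_def, smul_eq_mul, mul_comm]) j
  have := congrArg (fun a : F₀ => (a : F)) h2
  simpa using this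

/-- scalar version: an element of `F₀` has rational coordinates proportional to those of `1` -/
theorem scal_decomp {ι : Type*} [Fintype ι] (b : Module.Basis ι F₀ F) (c : F) :
    c = ∑ j, b j * ((b.coord j c : F₀) : F) := by
  have := b.sum_repr c
  conv_lhs => rw [← this]
  apply Finset.sum_congr rfl
  intro j _
  rw [Subfield.smul_def, smul_eq_mul, mul_comm, Module.Basis.coord_apply]

theorem scal_unique {ι : Type*} [Fintype ι] (b : Module.Basis ι F₀ F) (a : ι → F)
    (ha : ∀ j, a j ∈ F₀) (h : ∑ j, b j * a j = 0) : ∀ j, a j = 0 := by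
  intro j
  have h2 := Fintype.linearIndependent_iff.mp b.linearIndependent
    (fun j => (⟨a j, ha j⟩ : F₀)) (by
      rw [← h]
      apply Finset.sum_congr rfl
      intro j _
      rw [Subfield.smul_def, smul_eq_mul, mul_comm]) j
  have := congrArg (fun a : F₀ => (a : F)) h2
  simpa using this

end Cfsg.Agent.Lib.Helper28.Os
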