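import Cfsg.Agent.Lib.Helper28.OsA
import Cfsg.Agent.Lib.Helper28.OsCW
import Cfsg.Agent.Lib.Helper28.OIwa2

set_option autoImplicit false

namespace Cfsg.Agent.Lib.Helper28.Os

open Matrix Cfsg.Agent.Lib.Helper28.Sf Cfsg.Agent.Lib.Helper28.HForm
  Cfsg.Agent.Lib.Helper28.OGen Cfsg.Agent.Lib.Helper28.OMax Cfsg.Agent.Lib.Helper28.OQ

variable {n : ℕ} {F : Type*} [Field F] {F₀ : Subfield F} {Q : (Fin n → F) → F}
  {f : (Fin n → F) → (Fin n → F) → F}

/-- a quadratic form taking rational values on rational vectors -/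
structure RC (F₀ : Subfield F) (Q : (Fin n → F) → F) (f : (Fin n → F) → (Fin n → F) → F) :
    Prop where
  hq : QF Q f
  rq : ∀ v, Rat F₀ v → Q v ∈ F₀

theorem RC.f_rat (C : RC F₀ Q f) {x y : Fin n → F} (hx : Rat F₀ x) (hy : Rat F₀ y) :
    f x y ∈ F₀ := by
  have h1 := C.hq.polar x y
  have h2 : f x y = Q (x + y) - Q x - Q y := by rw [h1]; ring
  rw [h2]
  exact F₀.sub_mem (F₀.sub_mem (C.rq _ (hx.add hy)) (C.rq _ hx)) (C.rq _ hy)

theorem RC.rho_rat (C : RC F₀ Q f) {u : Fin n → F} (hu : Rat F₀ u) : Rat F₀ (rho f u) :=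
  fun i => C.f_rat (Rat.single i F₀.one_mem) hu

theorem RC.f_ratl (C : RC F₀ Q f) (ψ : F →ₗ[F₀] F₀) {a : Fin n → F} (ha : Rat F₀ a)
    (x : Fin n → F) : f a (ratl ψ x) = ((ψ (f a x) : F₀) : F) := by
  have hf := C.hq.sym
  rw [s_symm hf a (ratl ψ x), f_eq_dot hf, dot_ratl ψ (C.rho_rat ha), ← f_eq_dot hf,
    s_symm hf x a]

/-- a rational vector with prescribed pairing -/
theorem RC.ex_rat_dual (C : RC F₀ Q f) {k : ℕ} (a : Fin k → (Fin n → F))
    (ha : ∀ j, Rat F₀ (a j)) {w : Fin n → F} (hw : Rat F₀ w)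
    (hwa : w ∉ Submodule.span F (Set.range a)) :
    ∃ y, Rat F₀ y ∧ (∀ j, f (a j) y = 0) ∧ f w y = 1 := by
  have hf := C.hq.sym
  obtain ⟨φ, hφ⟩ := exists_retr F₀
  obtain ⟨y', hy'S, hy'w⟩ := dperp_s hf _ w hwa
  set y'' : Fin n → F := (f w y')⁻¹ • y' with hy''
  refine ⟨ratl φ y'', ratl_rat _ _, fun j => ?_, ?_⟩
  · rw [C.f_ratl φ (ha j), hy'', s_smul_right hf, hy'S _ (Submodule.subset_span ⟨j, rfl⟩),
      mul_zero, map_zero]
    rfl
  · rw [C.f_ratl φ hw, hy'', s_smul_right hf, inv_mul_cancel₀ hy'w]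
    have := hφ 1
    simp only [Subfield.coe_one] at this
    rw [this]
    rfl

/-- a rational singular partner -/
theorem RC.ex_partner (C : RC F₀ Q f) {k : ℕ} (a : Fin k → (Fin n → F))
    (ha : ∀ j, Rat F₀ (a j)) {w : Fin n → F} (hw : Rat F₀ w) (hws : Q w = 0)
    (hwp : ∀ j, f (a j) w = 0) (hwa : w ∉ Submodule.span F (Set.range a)) :
    ∃ w', Rat F₀ w' ∧ Q w' = 0 ∧ (∀ j, f (a j) w' = 0) ∧ f w w' = 1 := by
  have hf := C.hq.sym
  obtain ⟨y, hy, hya, hyw⟩ := C.ex_rat_dual a ha hw hwa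
  have hyw' : f y w = 1 := by rw [s_symm hf, hyw]
  refine ⟨y - Q y • w, hy.sub (Rat.smul (C.rq y hy) hw), ?_, fun j => ?_, ?_⟩
  · rw [Q_sub C.hq, C.hq.smul, hws, s_smul_right hf, hyw']
    ring
  · rw [f_sub_right hf, s_smul_right hf, hya j, hwp j]
    ring
  · rw [f_sub_right hf, s_smul_right hf, hyw, f_sing C.hq hws]
    ring

/-- Chevalley–Warning: three rational vectors have a non-trivial rational singular combination -/
theorem RC.cw3 [Finite F] (C : RC F₀ Q f) {b₁ b₂ b₃ : Fin n → F} (h1 : Rat F₀ b₁)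
    (h2 : Rat F₀ b₂) (h3 : Rat F₀ b₃) :
    ∃ x₁ x₂ x₃ : F, x₁ ∈ F₀ ∧ x₂ ∈ F₀ ∧ x₃ ∈ F₀ ∧ ¬ (x₁ = 0 ∧ x₂ = 0 ∧ x₃ = 0) ∧
      Q (x₁ • b₁ + x₂ • b₂ + x₃ • b₃) = 0 := by
  have hf := C.hq.sym
  haveI : Fintype F₀ := Fintype.ofFinite F₀
  obtain ⟨x₁, x₂, x₃, hne, hx⟩ := cw_ternary (K := F₀) ⟨Q b₁, C.rq _ h1⟩ ⟨Q b₂, C.rq _ h2⟩
    ⟨Q b₃, C.rq _ h3⟩ ⟨f b₁ b₂, C.f_rat h1 h2⟩ ⟨f b₁ b₃, C.f_rat h1 h3⟩ ⟨f b₂ b₃, C.f_rat h2 h3⟩
  refine ⟨x₁, x₂, x₃, x₁.2, x₂.2, x₃.2, ?_, ?_⟩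
  · rintro ⟨e1, e2, e3⟩
    apply hne
    exact ⟨Subtype.ext e1, Subtype.ext e2, Subtype.ext e3⟩
  · have hx' := congrArg (fun a : F₀ => (a : F)) hx
    simp only [Subfield.coe_add, Subfield.coe_mul, Subfield.coe_zero] at hx'
    rw [C.hq.polar, C.hq.polar, C.hq.smul, C.hq.smul, C.hq.smul, hf.add_left, hf.smul_left,
      hf.smul_left, s_smul_right hf, s_smul_right hf, hf.smul_left, s_smul_right hf]
    linear_combination hx'

/-- coordinatewise inclusion of `F₀ⁿ` into `Fⁿ` -/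
def incl (F₀ : Subfield F) (n : ℕ) : (Fin n → F₀) →ₗ[F₀] (Fin n → F) where
  toFun x := fun i => (x i : F)
  map_add' x y := by
    funext i
    simp
  map_smul' c x := by
    funext i
    simp only [Pi.smul_apply, smul_eq_mul, Subfield.coe_mul, RingHom.id_apply]
    rw [Subfield.smul_def, smul_eq_mul]

theorem incl_rat (x : Fin n → F₀) : Rat F₀ (incl F₀ n x) := fun i => (x i).2

theorem incl_injective : Function.Injective (incl F₀ n) := by
  intro x y h
  funext i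
  exact Subtype.ext (congrFun h i)

theorem incl_smul (c : F₀) (x : Fin n → F₀) : incl F₀ n (c • x) = (c : F) • incl F₀ n x := by
  rw [map_smul]
  funext i
  rw [Pi.smul_apply, Pi.smul_apply, Subfield.smul_def]

/-- (RX): a rational singular vector orthogonal to, and independent of, `k` given rational
vectors, when `2k + 3 ≤ n`. -/
theorem RC.ex_rs [Finite F] (C : RC F₀ Q f) {k : ℕ} (a : Fin k → (Fin n → F))
    (ha : ∀ j, Rat F₀ (a j)) (hk : 2 * k + 3 ≤ n) :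
    ∃ x, Rat F₀ x ∧ Q x = 0 ∧ (∀ j, f (a j) x = 0) ∧
      x ∉ Submodule.span F (Set.range a) := by
  classical
  have hf := C.hq.sym
  set a₀ : Fin k → (Fin n → F₀) := fun j i => ⟨a j i, ha j i⟩ with ha₀
  have ha₀i : ∀ j, incl F₀ n (a₀ j) = a j := fun j => rfl
  let L : (Fin n → F₀) →ₗ[F₀] (Fin k → F₀) :=
    { toFun := fun x j => ⟨f (a j) (incl F₀ n x), C.f_rat (ha j) (incl_rat x)⟩
      map_add' := by
        intro x y
        funext j
        apply Subtype.ext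
        simp only [map_add, Pi.add_apply, Subfield.coe_add]
        exact f_add_right hf _ _ _
      map_smul' := by
        intro c x
        funext j
        apply Subtype.ext
        simp only [RingHom.id_apply, Pi.smul_apply, smul_eq_mul, Subfield.coe_mul]
        rw [incl_smul, s_smul_right hf] }
  set R₀ := LinearMap.ker L with hR₀
  set S₀ := Submodule.span F₀ (Set.range a₀) with hS₀
  have hR₀d : n ≤ Module.finrank F₀ R₀ + k := by
    have h1 := LinearMap.finrank_range_add_finrank_ker L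
    rw [Module.finrank_fin_fun, ← hR₀] at h1
    have h2 : Module.finrank F₀ (LinearMap.range L) ≤ k := by
      have := Submodule.finrank_le (LinearMap.range L)
      rwa [Module.finrank_fin_fun] at this
    omega
  have hS₀d : Module.finrank F₀ S₀ ≤ k := by
    have := finrank_range_le_card (R := F₀) a₀
    rwa [Fintype.card_fin] at this
  obtain ⟨C', hC'⟩ := Submodule.exists_isCompl (R₀ ⊓ S₀)
  set D := C' ⊓ R₀ with hD
  have hDS : D ⊓ S₀ = ⊥ := by
    rw [hD, inf_assoc]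
    rw [inf_comm]
    exact hC'.inf_eq_bot
  have hDd : 3 ≤ Module.finrank F₀ D := by
    have h1 := Submodule.finrank_sup_add_finrank_inf_eq C' R₀
    have h2 := Submodule.finrank_sup_add_finrank_inf_eq (R₀ ⊓ S₀) C'
    rw [hC'.sup_eq_top, hC'.inf_eq_bot, finrank_top, finrank_bot, Module.finrank_fin_fun] at h2
    have h3 : Module.finrank F₀ ↥(R₀ ⊓ S₀) ≤ Module.finrank F₀ S₀ :=
      Submodule.finrank_mono inf_le_right
    have h4 : Module.finrank F₀ ↥(C' ⊔ R₀) ≤ n := by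
      have := Submodule.finrank_le (C' ⊔ R₀)
      rwa [Module.finrank_fin_fun] at this
    rw [← hD] at h1
    omega
  obtain ⟨b, hb⟩ := exists_linearIndependent_of_le_finrank hDd
  have hbr : ∀ i, Rat F₀ (incl F₀ n (b i : Fin n → F₀)) := fun i => incl_rat _
  obtain ⟨x₁, x₂, x₃, h1, h2, h3, hne, hQ⟩ := C.cw3 (hbr 0) (hbr 1) (hbr 2)
  set y₀ : D := (⟨x₁, h1⟩ : F₀) • b 0 + (⟨x₂, h2⟩ : F₀) • b 1 + (⟨x₃, h3⟩ : F₀) • b 2 with hy₀
  have hy₀i : incl F₀ n (y₀ : Fin n → F₀) = x₁ • incl F₀ n (b 0 : Fin n → F₀) +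
      x₂ • incl F₀ n (b 1 : Fin n → F₀) + x₃ • incl F₀ n (b 2 : Fin n → F₀) := by
    rw [hy₀]
    simp only [Submodule.coe_add, Submodule.coe_smul, map_add, incl_smul]
  have hy₀0 : y₀ ≠ 0 := by
    intro h0
    have h5 := Fintype.linearIndependent_iff.mp hb
      (fun i : Fin 3 => if i = 0 then (⟨x₁, h1⟩ : F₀) else if i = 1 then ⟨x₂, h2⟩ else ⟨x₃, h3⟩)
      (by
        rw [Fin.sum_univ_three]
        simpa using h0)
    apply hne
    refine ⟨?_, ?_, ?_⟩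
    · have := congrArg (fun a : F₀ => (a : F)) (h5 0)
      simpa using this
    · have := congrArg (fun a : F₀ => (a : F)) (h5 1)
      simpa using this
    · have := congrArg (fun a : F₀ => (a : F)) (h5 2)
      simpa using this
  refine ⟨incl F₀ n (y₀ : Fin n → F₀), incl_rat _, ?_, ?_, ?_⟩
  · rw [hy₀i]
    exact hQ
  · intro j
    have hmem : (y₀ : Fin n → F₀) ∈ R₀ := (y₀.2 : (y₀ : Fin n → F₀) ∈ C' ⊓ R₀).2
    rw [hR₀, LinearMap.mem_ker] at hmem
    have := congrArg (fun v : Fin k → F₀ => ((v j : F₀) : F)) hmem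
    simpa [L] using this
  · intro hmem
    apply hy₀0
    -- a rational vector in the `F`-span lies in the `F₀`-span
    obtain ⟨φ, hφ⟩ := exists_retr F₀
    obtain ⟨c, hc⟩ := (Submodule.mem_span_range_iff_exists_fun F).mp hmem
    have h5 : incl F₀ n (y₀ : Fin n → F₀) = ∑ j, ((φ (c j) : F₀) : F) • a j := by
      have h6 := ratl_of_rat hφ (incl_rat (y₀ : Fin n → F₀))
      rw [← h6, ← hc, ratl_sum]
      apply Finset.sum_congr rfl
      intro j _
      rw [ratl_smul_of_rat φ (ha j)]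
    have h7 : (y₀ : Fin n → F₀) = ∑ j, φ (c j) • a₀ j := by
      apply incl_injective
      rw [h5, map_sum]
      apply Finset.sum_congr rfl
      intro j _
      rw [incl_smul, ha₀i]
    have h8 : (y₀ : Fin n → F₀) ∈ S₀ := by
      rw [h7]
      apply Submodule.sum_mem
      intro j _
      exact Submodule.smul_mem _ _ (Submodule.subset_span ⟨j, rfl⟩)
    have h9 : (y₀ : Fin n → F₀) ∈ D ⊓ S₀ := ⟨y₀.2, h8⟩
    rw [hDS, Submodule.mem_bot] at h9
    exact Subtype.ext h9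

theorem perp_cons_iff {k : ℕ} (a : Fin k → (Fin n → F)) (y x : Fin n → F) :
    (∀ j, f ((Fin.cons y a : Fin (k + 1) → (Fin n → F)) j) x = 0) ↔
      f y x = 0 ∧ ∀ j, f (a j) x = 0 := by
  rw [Fin.forall_fin_succ]
  simp

theorem rat_cons_iff {k : ℕ} (a : Fin k → (Fin n → F)) (y : Fin n → F) :
    (∀ j, Rat F₀ ((Fin.cons y a : Fin (k + 1) → (Fin n → F)) j)) ↔
      Rat F₀ y ∧ ∀ j, Rat F₀ (a j) := by
  rw [Fin.forall_fin_succ]
  simp

theorem span_le_cons {k : ℕ} (a : Fin k → (Fin n → F)) (y : Fin n → F) :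
    Submodule.span F (Set.range a) ≤
      Submodule.span F (Set.range (Fin.cons y a : Fin (k + 1) → (Fin n → F))) := by
  apply Submodule.span_mono
  rintro _ ⟨j, rfl⟩
  exact ⟨j.succ, by simp⟩

theorem head_mem_cons {k : ℕ} (a : Fin k → (Fin n → F)) (y : Fin n → F) :
    y ∈ Submodule.span F (Set.range (Fin.cons y a : Fin (k + 1) → (Fin n → F))) :=
  Submodule.subset_span ⟨0, by simp⟩

/-- (R-span): a rational vector orthogonal to a small rational family is a sum of two rational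
singular vectors orthogonal to the family. -/
theorem RC.rat_sum_rs [Finite F] (C : RC F₀ Q f) {k : ℕ} (a : Fin k → (Fin n → F))
    (ha : ∀ j, Rat F₀ (a j)) (hk : 2 * (k + 2) + 3 ≤ n) {y : Fin n → F} (hy : Rat F₀ y)
    (hya : ∀ j, f (a j) y = 0) (hyn : Q y ≠ 0 → y ∉ Submodule.span F (Set.range a)) :
    ∃ y₁ y₂, Rat F₀ y₁ ∧ Rat F₀ y₂ ∧ Q y₁ = 0 ∧ Q y₂ = 0 ∧ (∀ j, f (a j) y₁ = 0) ∧
      (∀ j, f (a j) y₂ = 0) ∧ y = y₁ + y₂ := by
  have hf := C.hq.sym
  by_cases hQy : Q y = 0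
  · exact ⟨y, 0, hy, Rat.zero, hQy, Q_zero C.hq, hya, fun j => f_zero_right hf _, (add_zero y).symm⟩
  obtain ⟨y₂, hy₂, hy₂a, hyy₂⟩ := C.ex_rat_dual a ha hy (hyn hQy)
  -- a rational singular vector `e` orthogonal to the family with `f y e = 1`
  obtain ⟨e, he, hQe, hea, hye⟩ : ∃ e, Rat F₀ e ∧ Q e = 0 ∧ (∀ j, f (a j) e = 0) ∧ f y e = 1 := by
    by_cases hQy₂ : Q y₂ = 0
    · exact ⟨y₂, hy₂, hQy₂, hy₂a, hyy₂⟩
    set a' : Fin (k + 2) → (Fin n → F) := Fin.cons y (Fin.cons y₂ a) with ha'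
    have ha'r : ∀ j, Rat F₀ (a' j) := by
      rw [ha', rat_cons_iff, rat_cons_iff]
      exact ⟨hy, hy₂, ha⟩
    obtain ⟨e₀, he₀, hQe₀, he₀a, he₀n⟩ := C.ex_rs a' ha'r hk
    obtain ⟨e₁, he₁, hQe₁, he₁a, he₀e₁⟩ := C.ex_partner a' ha'r he₀ hQe₀ he₀a he₀n
    rw [ha', perp_cons_iff, perp_cons_iff] at he₀a he₁a
    obtain ⟨h1, h2, h3⟩ := he₀a
    obtain ⟨h4, h5, h6⟩ := he₁a
    refine ⟨y₂ + e₀ - Q y₂ • e₁, (hy₂.add he₀).sub (Rat.smul (C.rq _ hy₂) he₁), ?_, fun j => ?_, ?_⟩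
    · rw [Q_sub C.hq, C.hq.polar, C.hq.smul, hQe₀, hQe₁, hf.add_left, s_smul_right hf,
        s_smul_right hf, h2, h5, he₀e₁]
      ring
    · rw [f_sub_right hf, f_add_right hf, s_smul_right hf, hy₂a j, h3 j, h6 j]
      ring
    · rw [f_sub_right hf, f_add_right hf, s_smul_right hf, hyy₂, h1, h4]
      ring
  refine ⟨y - Q y • e, Q y • e, hy.sub (Rat.smul (C.rq _ hy) he), Rat.smul (C.rq _ hy) he, ?_, ?_,
    fun j => ?_, fun j => ?_, by abel⟩
  · rw [Q_sub C.hq, C.hq.smul, hQe, s_smul_right hf, hye]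
    ring
  · rw [C.hq.smul, hQe, mul_zero]
  · rw [f_sub_right hf, s_smul_right hf, hya j, hea j]
    ring
  · rw [s_smul_right hf, hea j, mul_zero]

/-- a vector pairing rationally with all rational vectors is rational -/
theorem RC.rat_of_pair (C : RC F₀ Q f) {y : Fin n → F}
    (h : ∀ x, Rat F₀ x → f x y ∈ F₀) : Rat F₀ y := by
  have hf := C.hq.sym
  obtain ⟨φ, hφ⟩ := exists_retr F₀
  have h1 : ∀ x, Rat F₀ x → f x (y - ratl φ y) = 0 := by
    intro x hx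
    rw [f_sub_right hf, C.f_ratl φ hx]
    have := hφ ⟨f x y, h x hx⟩
    simp only at this
    rw [this]
    ring
  have h2 : y - ratl φ y = 0 := by
    by_contra hne
    obtain ⟨z, hz⟩ := (hf.nondegenerate _ hne).1
    apply hz
    rw [f_eq_dot hf]
    have : rho f (y - ratl φ y) = 0 := by
      funext i
      exact h1 _ (Rat.single i F₀.one_mem)
    rw [this, zero_dotProduct]
  have h3 : y = ratl φ y := sub_eq_zero.mp h2
  rw [h3]
  exact ratl_rat _ _

/-- independent rational vectors: rational coefficients -/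
theorem coeff_rat2 {a b : Fin n → F} (ha : Rat F₀ a) (hb : Rat F₀ b)
    (hli : ∀ α β : F, α • a + β • b = 0 → α = 0 ∧ β = 0) {α β : F}
    (h : Rat F₀ (α • a + β • b)) : α ∈ F₀ ∧ β ∈ F₀ := by
  obtain ⟨φ, hφ⟩ := exists_retr F₀
  have h1 := ratl_of_rat hφ h
  rw [ratl_add, ratl_smul_of_rat φ ha, ratl_smul_of_rat φ hb] at h1
  have h2 : (((φ α : F₀) : F) - α) • a + (((φ β : F₀) : F) - β) • b = 0 := by
    rw [sub_smul, sub_smul]
    linear_combination (exp := 1) h1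
  obtain ⟨e1, e2⟩ := hli _ _ h2
  constructor
  · rw [← sub_eq_zero.mp e1]
    exact (φ α).2
  · rw [← sub_eq_zero.mp e2]
    exact (φ β).2

end Cfsg.Agent.Lib.Helper28.Os
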