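import Cfsg.Agent.Lib.Helper28.OsB

set_option autoImplicit false

namespace Cfsg.Agent.Lib.Helper28.Os

open Matrix Cfsg.Agent.Lib.Helper28.Sf Cfsg.Agent.Lib.Helper28.HForm
  Cfsg.Agent.Lib.Helper28.OGen Cfsg.Agent.Lib.Helper28.OMax Cfsg.Agent.Lib.Helper28.OQ
  Cfsg.Agent.Lib.Helper28.OMax2 Cfsg.Agent.Lib.Helper28.OIwa

variable {n : ℕ} {F : Type*} [Field F] {F₀ : Subfield F} {Q : (Fin n → F) → F}
  {f : (Fin n → F) → (Fin n → F) → F}

local notation "GLn" => Matrix.GeneralLinearGroup (Fin n) F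

/-- the general Siegel map with centre `u` and direction `y` -/
def Sgm (Q : (Fin n → F) → F) (f : (Fin n → F) → (Fin n → F) → F) (u y x : Fin n → F) :
    Fin n → F := x + f u x • y - f y x • u - (Q y * f u x) • u

def IsSgg (Q : (Fin n → F) → F) (f : (Fin n → F) → (Fin n → F) → F) (t : GLn)
    (u y : Fin n → F) : Prop := ∀ x, (t : Matrix (Fin n) (Fin n) F) *ᵥ x = Sgm Q f u y x

theorem Sgm_sing {u y : Fin n → F} (hy : Q y = 0) (x : Fin n → F) :
    Sgm Q f u y x = Tv f u y 1 x := by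
  unfold Sgm Tv
  rw [hy]
  module

theorem isSgg_of_isSg (hf : SymF f) {t : GLn} {u v : Fin n → F} {c : F} (hv : Q v = 0)
    (hq : QF Q f) (h : IsSg f t u v c) : IsSgg Q f t u (c • v) := by
  intro x
  rw [h x, Sgm_sing (by rw [hq.smul, hv, mul_zero]), Tv_scale hf]

theorem isSg_of_isSgg (hf : SymF f) {t : GLn} {u v : Fin n → F} {c : F} (hv : Q v = 0)
    (hq : QF Q f) (h : IsSgg Q f t u (c • v)) : IsSg f t u v c := by
  intro x
  rw [h x, Sgm_sing (by rw [hq.smul, hv, mul_zero]), Tv_scale hf u v c]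

theorem Sgm_comp (hq : QF Q f) {u y y' : Fin n → F} (hu : Q u = 0) (huy : f u y = 0)
    (huy' : f u y' = 0) (x : Fin n → F) :
    Sgm Q f u y (Sgm Q f u y' x) = Sgm Q f u (y + y') x := by
  have hf := hq.sym
  have huu := f_sing hq hu
  have hyu : f y u = 0 := by rw [s_symm hf, huy]
  unfold Sgm
  simp only [f_add_right hf, f_sub_right hf, s_smul_right hf, hf.add_left, huu, huy, huy', hyu,
    hq.polar y y']
  module

theorem Sgm_zero (hq : QF Q f) (u x : Fin n → F) : Sgm Q f u 0 x = x := by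
  unfold Sgm
  rw [f_zero_left hq.sym, Q_zero hq]
  module

theorem Sgm_add_center (hq : QF Q f) {u y : Fin n → F} (hu : Q u = 0) (huy : f u y = 0) (a : F)
    (x : Fin n → F) : Sgm Q f u (y + a • u) x = Sgm Q f u y x := by
  have hf := hq.sym
  have hyu : f y u = 0 := by rw [s_symm hf, huy]
  unfold Sgm
  rw [hq.polar, hq.smul, hu, s_smul_right hf, hyu, hf.add_left, hf.smul_left]
  module

theorem Sgm_smul_center (hq : QF Q f) (a : F) (u y x : Fin n → F) :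
    Sgm Q f (a • u) y x = Sgm Q f u (a • y) x := by
  have hf := hq.sym
  unfold Sgm
  rw [hq.smul, hf.smul_left, hf.smul_left]
  module

theorem IsSgg.mul (hq : QF Q f) {t t' : GLn} {u y y' : Fin n → F} (hu : Q u = 0)
    (huy : f u y = 0) (huy' : f u y' = 0) (h : IsSgg Q f t u y) (h' : IsSgg Q f t' u y') :
    IsSgg Q f (t * t') u (y + y') := by
  intro x
  rw [Cfsg.Agent.S5643.mul_mv, h' x, h, Sgm_comp hq hu huy huy']

theorem IsSgg.one (hq : QF Q f) (u : Fin n → F) : IsSgg Q f (1 : GLn) u 0 := by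
  intro x
  rw [Units.val_one, Matrix.one_mulVec, Sgm_zero hq]

theorem IsSgg.unique {t t' : GLn} {u y : Fin n → F} (h : IsSgg Q f t u y)
    (h' : IsSgg Q f t' u y) : t = t' := by
  apply gl_ext
  intro x
  rw [h x, h' x]

theorem IsSgg.inv (hq : QF Q f) {t : GLn} {u y : Fin n → F} (hu : Q u = 0)
    (huy : f u y = 0) (h : IsSgg Q f t u y) : IsSgg Q f t⁻¹ u (-y) := by
  intro x
  have huy' : f u (-y) = 0 := by rw [f_neg_right hq.sym, huy, neg_zero]
  have h1 := h (Sgm Q f u (-y) x)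
  rw [Sgm_comp hq hu huy huy', add_neg_cancel, Sgm_zero hq] at h1
  rw [← h1, Cfsg.Agent.S5643.inv_mv, h1]

theorem IsSgg.congr {t : GLn} {u y y' : Fin n → F} (h : IsSgg Q f t u y) (e : y = y') :
    IsSgg Q f t u y' := by rw [← e]; exact h

theorem IsSgg.add_center (hq : QF Q f) {t : GLn} {u y : Fin n → F} (hu : Q u = 0)
    (huy : f u y = 0) (a : F) (h : IsSgg Q f t u y) : IsSgg Q f t u (y + a • u) := by
  intro x
  rw [h x, Sgm_add_center hq hu huy]

theorem IsSgg.smul_center (hq : QF Q f) {t : GLn} {u y : Fin n → F} {a : F}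
    (h : IsSgg Q f t (a • u) y) : IsSgg Q f t u (a • y) := by
  intro x
  rw [h x, Sgm_smul_center hq]

/-- conjugation by an isometry -/
theorem IsSgg.conj (hq : QF Q f) {t k : GLn} {u y : Fin n → F}
    (hk : ∀ x, Q ((k : Matrix (Fin n) (Fin n) F) *ᵥ x) = Q x) (h : IsSgg Q f t u y) :
    IsSgg Q f (k * t * k⁻¹) ((k : Matrix (Fin n) (Fin n) F) *ᵥ u)
      ((k : Matrix (Fin n) (Fin n) F) *ᵥ y) := by
  have hiso := iso_f hq k hk
  intro x
  rw [Cfsg.Agent.S5643.mul_mv, Cfsg.Agent.S5643.mul_mv, h]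
  unfold Sgm
  have e1 : ∀ a : Fin n → F, f a (((k⁻¹ : GLn) : Matrix (Fin n) (Fin n) F) *ᵥ x) =
      f ((k : Matrix (Fin n) (Fin n) F) *ᵥ a) x := by
    intro a
    rw [← hiso a, Cfsg.Agent.S5643.inv_mv']
  rw [e1, e1, hk, Matrix.mulVec_sub, Matrix.mulVec_sub, Matrix.mulVec_add,
    Cfsg.Agent.S5643.inv_mv', Matrix.mulVec_smul, Matrix.mulVec_smul, Matrix.mulVec_smul]

/-- the commutator of an isometry fixing `u` with a Siegel element of centre `u` -/
theorem IsSgg.commutator (hq : QF Q f) {t k : GLn} {u y : Fin n → F} (hu : Q u = 0)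
    (huy : f u y = 0)
    (hk : ∀ x, Q ((k : Matrix (Fin n) (Fin n) F) *ᵥ x) = Q x)
    (hku : (k : Matrix (Fin n) (Fin n) F) *ᵥ u = u) (h : IsSgg Q f t u y) :
    IsSgg Q f (k * t * k⁻¹ * t⁻¹) u ((k : Matrix (Fin n) (Fin n) F) *ᵥ y - y) := by
  have h1 := h.conj hq hk
  rw [hku] at h1
  have huky : f u ((k : Matrix (Fin n) (Fin n) F) *ᵥ y) = 0 := by
    have := iso_f hq k hk u y
    rw [hku] at this
    rw [this, huy]
  have h2 := h.inv hq hu huy
  have h3 := IsSgg.mul hq hu huky (by rw [f_neg_right hq.sym, huy, neg_zero]) h1 h2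
  exact h3.congr (by abel)

/-- a Siegel element with rational data maps rational vectors to rational vectors -/
theorem IsSgg.rat (C : RC F₀ Q f) {t : GLn} {u y : Fin n → F} (hu : Rat F₀ u) (hy : Rat F₀ y)
    (h : IsSgg Q f t u y) {x : Fin n → F} (hx : Rat F₀ x) :
    Rat F₀ ((t : Matrix (Fin n) (Fin n) F) *ᵥ x) := by
  rw [h x]
  unfold Sgm
  exact ((hx.add (Rat.smul (C.f_rat hu hx) hy)).sub (Rat.smul (C.f_rat hy hx) hu)).sub
    (Rat.smul (F₀.mul_mem (C.rq y hy) (C.f_rat hu hx)) hu)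

theorem IsSgg.mem_sub (C : RC F₀ Q f) {t : GLn} {u y : Fin n → F} (hu : Rat F₀ u)
    (hy : Rat F₀ y) (h : IsSgg Q f t u y) :
    t ∈ Cfsg.Geo.subfieldSubgroup F₀ (1 : GLn) := by
  apply mem_sub_one_of_rat (c := 1) one_ne_zero
  intro x hx
  rw [inv_one, one_smul]
  exact h.rat C hu hy hx

/-- Siegel elements exist in `G` -/
theorem ex_sgg (hq : QF Q f) (vf : VFacts Q f) {G : Subgroup GLn} (hG : SgGroupQ Q f G)
    {u y : Fin n → F} (hu : Q u = 0) (hu0 : u ≠ 0) (huy : f u y = 0) :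
    ∃ t ∈ G, IsSgg Q f t u y := by
  have hf := hq.sym
  obtain ⟨y₁, y₂, hsum, hy₁, hy₂, h1, h2⟩ := vf.decomp u y hu hu0 (by rw [s_symm hf, huy])
  have h1' : f u y₁ = 0 := by rw [s_symm hf, h1]
  have h2' : f u y₂ = 0 := by rw [s_symm hf, h2]
  obtain ⟨t₁, ht₁⟩ := hG.ex u y₁ 1 hu hy₁ h1'
  obtain ⟨t₂, ht₂⟩ := hG.ex u y₂ 1 hu hy₂ h2'
  refine ⟨t₁ * t₂, G.mul_mem (hG.sg _ _ _ _ hu hy₁ h1' ht₁) (hG.sg _ _ _ _ hu hy₂ h2' ht₂), ?_⟩
  have e1 : IsSgg Q f t₁ u y₁ := by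
    have := isSgg_of_isSg hf hy₁ hq ht₁
    rwa [one_smul] at this
  have e2 : IsSgg Q f t₂ u y₂ := by
    have := isSgg_of_isSg hf hy₂ hq ht₂
    rwa [one_smul] at this
  exact (IsSgg.mul hq hu h1' h2' e1 e2).congr hsum

end Cfsg.Agent.Lib.Helper28.Os
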