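import Cfsg.Agent.Lib.Helper28.OsC

set_option autoImplicit false

namespace Cfsg.Agent.Lib.Helper28.Os

open Matrix Cfsg.Agent.Lib.Helper28.Sf Cfsg.Agent.Lib.Helper28.HForm
  Cfsg.Agent.Lib.Helper28.OGen Cfsg.Agent.Lib.Helper28.OMax Cfsg.Agent.Lib.Helper28.OQ
  Cfsg.Agent.Lib.Helper28.OMax2 Cfsg.Agent.Lib.Helper28.OIwa

variable {n : ℕ} {F : Type*} [Field F] {F₀ : Subfield F} {Q : (Fin n → F) → F}
  {f : (Fin n → F) → (Fin n → F) → F}

local notation "GLn" => Matrix.GeneralLinearGroup (Fin n) F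

/-- the ambient hypotheses -/
structure OC (F₀ : Subfield F) (Q : (Fin n → F) → F) (f : (Fin n → F) → (Fin n → F) → F)
    (G H : Subgroup GLn) : Prop where
  rc : RC F₀ Q f
  vf : VFacts Q f
  sg : SgGroupQ Q f G
  le : H ≤ G
  sub : Cfsg.Geo.subfieldSubgroup F₀ (1 : GLn) ⊓ G ≤ H
  hn : 13 ≤ n

variable {G H : Subgroup (Matrix.GeneralLinearGroup (Fin n) F)}

theorem OC.hq (C : OC F₀ Q f G H) : QF Q f := C.rc.hq

theorem OC.hf (C : OC F₀ Q f G H) : SymF f := C.rc.hq.sym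

/-- rational Siegel elements lie in `H` -/
theorem OC.rat_sgg_mem (C : OC F₀ Q f G H) {t : GLn} {u y : Fin n → F} (hu : Rat F₀ u)
    (hy : Rat F₀ y) (hQu : Q u = 0) (hu0 : u ≠ 0) (huy : f u y = 0) (ht : IsSgg Q f t u y) :
    t ∈ H := by
  obtain ⟨t', ht'G, ht'⟩ := ex_sgg C.hq C.vf C.sg hQu hu0 huy
  have e : t = t' := ht.unique ht'
  rw [e]
  apply C.sub
  exact ⟨ht'.mem_sub C.rc hu hy, ht'G⟩

theorem OC.rat_sg_mem (C : OC F₀ Q f G H) {t : GLn} {u v : Fin n → F} {c : F} (hu : Rat F₀ u)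
    (hv : Rat F₀ v) (hc : c ∈ F₀) (hQu : Q u = 0) (hQv : Q v = 0) (huv : f u v = 0)
    (ht : IsSg f t u v c) : t ∈ H := by
  apply C.sub
  refine ⟨?_, C.sg.sg t u v c hQu hQv huv ht⟩
  exact (isSgg_of_isSg C.hf hQv C.hq ht).mem_sub C.rc hu (Rat.smul hc hv)

/-- isometry property of elements of `H` -/
theorem OC.isoQ (C : OC F₀ Q f G H) {h : GLn} (hh : h ∈ H) (x : Fin n → F) :
    Q ((h : Matrix (Fin n) (Fin n) F) *ᵥ x) = Q x := C.sg.iso h (C.le hh) x

theorem OC.isof (C : OC F₀ Q f G H) {h : GLn} (hh : h ∈ H) (x y : Fin n → F) :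
    f ((h : Matrix (Fin n) (Fin n) F) *ᵥ x) ((h : Matrix (Fin n) (Fin n) F) *ᵥ y) = f x y :=
  iso_f C.hq h (C.isoQ hh) x y

/-- parameter sets of long root subgroups -/
def AA (f : (Fin n → F) → (Fin n → F) → F) (H : Subgroup GLn) (u v : Fin n → F) : Set F :=
  {c | ∃ t ∈ H, IsSg f t u v c}

theorem IsSg.unique {t t' : GLn} {u v : Fin n → F} {c : F} (h : IsSg f t u v c)
    (h' : IsSg f t' u v c) : t = t' := by
  apply gl_ext
  intro x
  rw [h x, h' x]

theorem OC.AA_F0 (C : OC F₀ Q f G H) {u v : Fin n → F} (hu : Rat F₀ u) (hv : Rat F₀ v)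
    (hQu : Q u = 0) (hQv : Q v = 0) (huv : f u v = 0) {c : F} (hc : c ∈ F₀) :
    c ∈ AA f H u v := by
  obtain ⟨t, ht⟩ := C.sg.ex u v c hQu hQv huv
  exact ⟨t, C.rat_sg_mem hu hv hc hQu hQv huv ht, ht⟩

theorem OC.AA_add (C : OC F₀ Q f G H) {u v : Fin n → F} (hQu : Q u = 0) (hQv : Q v = 0)
    (huv : f u v = 0) {c c' : F} (hc : c ∈ AA f H u v) (hc' : c' ∈ AA f H u v) :
    c + c' ∈ AA f H u v := by
  obtain ⟨t, ht, hts⟩ := hc
  obtain ⟨t', ht', hts'⟩ := hc'
  refine ⟨t * t', H.mul_mem ht ht', ?_⟩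
  have h1 := isSgg_of_isSg C.hf hQv C.hq hts
  have h2 := isSgg_of_isSg C.hf hQv C.hq hts'
  have h3 := IsSgg.mul C.hq hQu (by rw [s_smul_right C.hf, huv, mul_zero])
    (by rw [s_smul_right C.hf, huv, mul_zero]) h1 h2
  apply isSg_of_isSgg C.hf hQv C.hq
  exact h3.congr (by rw [add_smul])

theorem OC.AA_neg (C : OC F₀ Q f G H) {u v : Fin n → F} (hQu : Q u = 0) (hQv : Q v = 0)
    (huv : f u v = 0) {c : F} (hc : c ∈ AA f H u v) : -c ∈ AA f H u v := by
  obtain ⟨t, ht, hts⟩ := hc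
  exact ⟨t⁻¹, H.inv_mem ht, isSg_inv C.hf (f_sing C.hq hQu) (f_sing C.hq hQv) huv hts⟩

theorem OC.AA_swap (C : OC F₀ Q f G H) {u v : Fin n → F} (hQu : Q u = 0) (hQv : Q v = 0)
    (huv : f u v = 0) {c : F} (hc : c ∈ AA f H u v) : c ∈ AA f H v u := by
  obtain ⟨t, ht, hts⟩ := C.AA_neg hQu hQv huv hc
  refine ⟨t, ht, ?_⟩
  have := isSg_swap hts
  rwa [neg_neg] at this

/-- the basic commutator relation: `AA a b * AA b' c ⊆ AA a c` -/
theorem OC.AA_mul (C : OC F₀ Q f G H) {a b b' c : Fin n → F} (hQa : Q a = 0) (hQb : Q b = 0)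
    (hQb' : Q b' = 0) (hQc : Q c = 0) (hab : f a b = 0) (hac : f a c = 0) (hbc : f b c = 0)
    (hab' : f a b' = 0) (hb'c : f b' c = 0) (hbb' : f b b' = 1) {lam mu : F}
    (hl : lam ∈ AA f H a b) (hm : mu ∈ AA f H b' c) : lam * mu ∈ AA f H a c := by
  have hf := C.hf
  obtain ⟨t, ht, hts⟩ := hl
  obtain ⟨k, hk, hks⟩ := hm
  refine ⟨k * t * k⁻¹ * t⁻¹, H.mul_mem (H.mul_mem (H.mul_mem hk ht) (H.inv_mem hk)) (H.inv_mem ht),
    ?_⟩
  have h1 := isSgg_of_isSg hf hQb C.hq hts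
  have hka : (k : Matrix (Fin n) (Fin n) F) *ᵥ a = a := by
    rw [hks a]
    unfold Tv
    rw [s_symm hf b' a, hab', s_symm hf c a, hac]
    module
  have h2 := h1.commutator C.hq hQa (by rw [s_smul_right hf, hab, mul_zero]) (C.isoQ hk) hka
  apply isSg_of_isSgg hf hQc C.hq
  refine h2.congr ?_
  rw [Matrix.mulVec_smul, hks b]
  unfold Tv
  rw [s_symm hf b' b, hbb', s_symm hf c b, hbc]
  module

theorem mem_span_pair' {a c x : Fin n → F} :
    x ∈ Submodule.span F (Set.range ![a, c]) ↔ ∃ α β : F, α • a + β • c = x := by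
  have : Set.range ![a, c] = {a, c} := by
    rw [Matrix.range_cons, Matrix.range_cons, Matrix.range_empty, Set.union_empty,
      Set.singleton_union]
  rw [this, Submodule.mem_span_pair]

/-- one step: a rational totally singular triple `a, b, c` with `b` independent of `a, c` -/
theorem OC.AA_step [Finite F] (C : OC F₀ Q f G H) {a b c : Fin n → F} (ha : Rat F₀ a)
    (hb : Rat F₀ b) (hc : Rat F₀ c) (hQa : Q a = 0) (hQb : Q b = 0) (hQc : Q c = 0)
    (hab : f a b = 0) (hac : f a c = 0) (hbc : f b c = 0)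
    (hind : b ∉ Submodule.span F (Set.range ![a, c])) {lam : F} (hl : lam ∈ AA f H a b) :
    lam ∈ AA f H a c := by
  have hf := C.hf
  have hfam : ∀ j, Rat F₀ (![a, c] j) := by
    intro j
    fin_cases j
    · exact ha
    · exact hc
  have hperp : ∀ j, f (![a, c] j) b = 0 := by
    intro j
    fin_cases j
    · exact hab
    · simpa using (by rw [s_symm hf, hbc] : f c b = 0)
  obtain ⟨b', hb', hQb', hb'p, hbb'⟩ := C.rc.ex_partner ![a, c] hfam hb hQb hperp hind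
  have hab' : f a b' = 0 := hb'p 0
  have hcb' : f c b' = 0 := hb'p 1
  have hb'c : f b' c = 0 := by rw [s_symm hf, hcb']
  have h1 : (1 : F) ∈ AA f H b' c := C.AA_F0 hb' hc hQb' hQc hb'c F₀.one_mem
  have := C.AA_mul hQa hQb hQb' hQc hab hac hbc hab' hb'c hbb' hl h1
  rwa [mul_one] at this

/-- an independent rational totally singular pair -/
structure TP (F₀ : Subfield F) (Q : (Fin n → F) → F) (f : (Fin n → F) → (Fin n → F) → F)
    (u v : Fin n → F) : Prop where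
  ru : Rat F₀ u
  rv : Rat F₀ v
  qu : Q u = 0
  qv : Q v = 0
  uv : f u v = 0
  u0 : u ≠ 0
  ind : v ∉ Submodule.span F {u}

theorem TP.v0 {u v : Fin n → F} (h : TP F₀ Q f u v) : v ≠ 0 := by
  rintro rfl
  exact h.ind (Submodule.zero_mem _)

theorem TP.symm (hf : SymF f) {u v : Fin n → F} (h : TP F₀ Q f u v) : TP F₀ Q f v u where
  ru := h.rv
  rv := h.ru
  qu := h.qv
  qv := h.qu
  uv := by rw [s_symm hf, h.uv]
  u0 := h.v0
  ind := by
    intro hm
    obtain ⟨a, ha⟩ := Submodule.mem_span_singleton.mp hm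
    apply h.ind
    have ha0 : a ≠ 0 := by
      rintro rfl
      rw [zero_smul] at ha
      exact h.u0 ha.symm
    rw [Submodule.mem_span_singleton]
    refine ⟨a⁻¹, ?_⟩
    rw [← ha, smul_smul, inv_mul_cancel₀ ha0, one_smul]

/-- all parameter sets of independent rational totally singular pairs are contained in each
other -/
theorem OC.AA_sub [Finite F] (C : OC F₀ Q f G H) {u v u₂ v₂ : Fin n → F}
    (h1 : TP F₀ Q f u v) (h2 : TP F₀ Q f u₂ v₂) {lam : F} (hl : lam ∈ AA f H u v) :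
    lam ∈ AA f H u₂ v₂ := by
  have hf := C.hf
  have hn := C.hn
  have hfam4 : ∀ j, Rat F₀ (![u, v, u₂, v₂] j) := by
    intro j
    fin_cases j
    · exact h1.ru
    · exact h1.rv
    · exact h2.ru
    · exact h2.rv
  obtain ⟨w, hw, hQw, hwp, hwn⟩ := C.rc.ex_rs ![u, v, u₂, v₂] hfam4 (by omega)
  have hfam5 : ∀ j, Rat F₀ (![u, v, u₂, v₂, w] j) := by
    intro j
    fin_cases j
    · exact h1.ru
    · exact h1.rv
    · exact h2.ru
    · exact h2.rv
    · exact hw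
  obtain ⟨x, hx, hQx, hxp, hxn⟩ := C.rc.ex_rs ![u, v, u₂, v₂, w] hfam5 (by omega)
  have huw : f u w = 0 := hwp 0
  have hvw : f v w = 0 := hwp 1
  have hu₂w : f u₂ w = 0 := hwp 2
  have hv₂w : f v₂ w = 0 := hwp 3
  have hux : f u x = 0 := hxp 0
  have hu₂x : f u₂ x = 0 := hxp 2
  have hwx : f w x = 0 := hxp 4
  -- membership helpers
  have m4 : ∀ j, ![u, v, u₂, v₂] j ∈ Submodule.span F (Set.range ![u, v, u₂, v₂]) :=
    fun j => Submodule.subset_span ⟨j, rfl⟩
  have m5 : ∀ j, ![u, v, u₂, v₂, w] j ∈ Submodule.span F (Set.range ![u, v, u₂, v₂, w]) :=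
    fun j => Submodule.subset_span ⟨j, rfl⟩
  -- step 1
  have s1 : lam ∈ AA f H u w := by
    apply C.AA_step h1.ru h1.rv hw h1.qu h1.qv hQw h1.uv huw hvw _ hl
    rw [mem_span_pair']
    rintro ⟨α, β, hαβ⟩
    by_cases hβ : β = 0
    · apply h1.ind
      rw [Submodule.mem_span_singleton]
      refine ⟨α, ?_⟩
      rw [← hαβ, hβ, zero_smul, add_zero]
    · apply hwn
      have : w = β⁻¹ • (v - α • u) := by
        rw [← hαβ, add_sub_cancel_left, smul_smul, inv_mul_cancel₀ hβ, one_smul]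
      rw [this]
      exact Submodule.smul_mem _ _ (Submodule.sub_mem _ (m4 1) (Submodule.smul_mem _ _ (m4 0)))
  have s1' : lam ∈ AA f H w u := C.AA_swap h1.qu hQw huw s1
  -- step 2
  have hwu : f w u = 0 := by rw [s_symm hf, huw]
  have s2 : lam ∈ AA f H w x := by
    apply C.AA_step hw h1.ru hx hQw h1.qu hQx hwu hwx hux _ s1'
    rw [mem_span_pair']
    rintro ⟨α, β, hαβ⟩
    by_cases hβ : β = 0
    · rw [hβ, zero_smul, add_zero] at hαβ
      have hα : α ≠ 0 := by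
        rintro rfl
        rw [zero_smul] at hαβ
        exact h1.u0 hαβ.symm
      apply hwn
      have : w = α⁻¹ • u := by
        rw [← hαβ, smul_smul, inv_mul_cancel₀ hα, one_smul]
      rw [this]
      exact Submodule.smul_mem _ _ (m4 0)
    · apply hxn
      have : x = β⁻¹ • (u - α • w) := by
        rw [← hαβ, add_sub_cancel_left, smul_smul, inv_mul_cancel₀ hβ, one_smul]
      rw [this]
      exact Submodule.smul_mem _ _ (Submodule.sub_mem _ (m5 0) (Submodule.smul_mem _ _ (m5 4)))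
  -- step 3
  have hwu₂ : f w u₂ = 0 := by rw [s_symm hf, hu₂w]
  have hxu₂ : f x u₂ = 0 := by rw [s_symm hf, hu₂x]
  have s3 : lam ∈ AA f H w u₂ := by
    apply C.AA_step hw hx h2.ru hQw hQx h2.qu hwx hwu₂ hxu₂ _ s2
    rw [mem_span_pair']
    rintro ⟨α, β, hαβ⟩
    apply hxn
    rw [← hαβ]
    exact Submodule.add_mem _ (Submodule.smul_mem _ _ (m5 4)) (Submodule.smul_mem _ _ (m5 2))
  have s3' : lam ∈ AA f H u₂ w := C.AA_swap hQw h2.qu hwu₂ s3
  -- step 4
  have hwv₂ : f w v₂ = 0 := by rw [s_symm hf, hv₂w]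
  apply C.AA_step h2.ru hw h2.rv h2.qu hQw h2.qv hu₂w h2.uv hwv₂ _ s3'
  rw [mem_span_pair']
  rintro ⟨α, β, hαβ⟩
  apply hwn
  rw [← hαβ]
  exact Submodule.add_mem _ (Submodule.smul_mem _ _ (m4 2)) (Submodule.smul_mem _ _ (m4 3))

theorem mem_span_single' {a x : Fin n → F} :
    x ∈ Submodule.span F (Set.range ![a]) ↔ ∃ α : F, α • a = x := by
  have : Set.range ![a] = {a} := by
    rw [Matrix.range_cons, Matrix.range_empty, Set.union_empty]
  rw [this, Submodule.mem_span_singleton]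

/-- a rational singular non-zero vector exists -/
theorem OC.ex_rs0 [Finite F] (C : OC F₀ Q f G H) :
    ∃ u : Fin n → F, Rat F₀ u ∧ Q u = 0 ∧ u ≠ 0 := by
  have hn := C.hn
  obtain ⟨u, hu, hQu, -, hun⟩ := C.rc.ex_rs (![] : Fin 0 → (Fin n → F))
    (fun j => Fin.elim0 j) (by omega)
  refine ⟨u, hu, hQu, ?_⟩
  rintro rfl
  exact hun (Submodule.zero_mem _)

/-- extend a rational singular vector to a pair -/
theorem OC.ex_TP_of [Finite F] (C : OC F₀ Q f G H) {u : Fin n → F} (hu : Rat F₀ u)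
    (hQu : Q u = 0) (hu0 : u ≠ 0) : ∃ v, TP F₀ Q f u v := by
  have hn := C.hn
  obtain ⟨v, hv, hQv, hvp, hvn⟩ := C.rc.ex_rs ![u] (fun j => by fin_cases j; exact hu)
    (by omega)
  refine ⟨v, hu, hv, hQu, hQv, hvp 0, hu0, ?_⟩
  intro hm
  apply hvn
  rw [mem_span_single']
  exact Submodule.mem_span_singleton.mp hm

theorem OC.ex_TP [Finite F] (C : OC F₀ Q f G H) : ∃ u v, TP F₀ Q f u v := by
  obtain ⟨u, hu, hQu, hu0⟩ := C.ex_rs0
  obtain ⟨v, hv⟩ := C.ex_TP_of hu hQu hu0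
  exact ⟨u, v, hv⟩

/-- the parameter set is closed under multiplication -/
theorem OC.AA_mul_self [Finite F] (C : OC F₀ Q f G H) {u v : Fin n → F} (h : TP F₀ Q f u v)
    {lam mu : F} (hl : lam ∈ AA f H u v) (hm : mu ∈ AA f H u v) : lam * mu ∈ AA f H u v := by
  have hf := C.hf
  have hn := C.hn
  have hfam : ∀ j, Rat F₀ (![u, v] j) := by
    intro j
    fin_cases j
    · exact h.ru
    · exact h.rv
  obtain ⟨w, hw, hQw, hwp, hwn⟩ := C.rc.ex_rs ![u, v] hfam (by omega)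
  have huw : f u w = 0 := hwp 0
  have hvw : f v w = 0 := hwp 1
  have hfam2 : ∀ j, Rat F₀ (![u, w] j) := by
    intro j
    fin_cases j
    · exact h.ru
    · exact hw
  have hperp : ∀ j, f (![u, w] j) v = 0 := by
    intro j
    fin_cases j
    · exact h.uv
    · simpa using (by rw [s_symm hf, hvw] : f w v = 0)
  have hind : v ∉ Submodule.span F (Set.range ![u, w]) := by
    rw [mem_span_pair']
    rintro ⟨α, β, hαβ⟩
    by_cases hβ : β = 0
    · apply h.ind
      rw [Submodule.mem_span_singleton]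
      refine ⟨α, ?_⟩
      rw [← hαβ, hβ, zero_smul, add_zero]
    · apply hwn
      rw [mem_span_pair']
      refine ⟨-(β⁻¹ * α), β⁻¹, ?_⟩
      rw [← hαβ, smul_add, smul_smul, smul_smul, inv_mul_cancel₀ hβ, one_smul, neg_smul]
      abel
  obtain ⟨v', hv', hQv', hv'p, hvv'⟩ := C.rc.ex_partner ![u, w] hfam2 h.rv h.qv hperp hind
  have huv' : f u v' = 0 := hv'p 0
  have hwv' : f w v' = 0 := hv'p 1
  have hv'w : f v' w = 0 := by rw [s_symm hf, hwv']
  have hw0 : w ≠ 0 := by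
    rintro rfl
    exact hwn (Submodule.zero_mem _)
  have hv'0 : v' ≠ 0 := by
    rintro rfl
    rw [f_zero_right hf] at hvv'
    exact zero_ne_one hvv'
  have tp1 : TP F₀ Q f v' w := by
    refine ⟨hv', hw, hQv', hQw, hv'w, hv'0, ?_⟩
    intro hm'
    obtain ⟨a, ha⟩ := Submodule.mem_span_singleton.mp hm'
    have h5 : f v w = a := by
      rw [← ha, s_smul_right hf, hvv', mul_one]
    rw [hvw] at h5
    rw [← h5, zero_smul] at ha
    exact hw0 ha.symm
  have tp2 : TP F₀ Q f u w := by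
    refine ⟨h.ru, hw, h.qu, hQw, huw, h.u0, ?_⟩
    intro hm'
    obtain ⟨a, ha⟩ := Submodule.mem_span_singleton.mp hm'
    apply hwn
    rw [mem_span_pair']
    exact ⟨a, 0, by rw [zero_smul, add_zero, ha]⟩
  have hm' : mu ∈ AA f H v' w := C.AA_sub h tp1 hm
  have h5 := C.AA_mul h.qu h.qv hQv' hQw h.uv huw hvw huv' hv'w hvv' hl hm'
  exact C.AA_sub tp2 h h5

/-- generic dichotomy for subrings between `F₀` and `F` when the degree is prime -/
theorem subring_cases [Fintype F] {r : ℕ} (hr : r.Prime)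
    (hcard : Fintype.card F = Nat.card F₀ ^ r) (A : Set F) (h0 : ∀ a ∈ F₀, a ∈ A)
    (hadd : ∀ a b, a ∈ A → b ∈ A → a + b ∈ A) (hmul : ∀ a b, a ∈ A → b ∈ A → a * b ∈ A) :
    (∀ a, a ∈ A → a ∈ F₀) ∨ (∀ a : F, a ∈ A) := by
  have hfr : (Module.finrank F₀ F).Prime := by rw [finrank_eq hcard]; exact hr
  have := Subalgebra.isSimpleOrder_of_finrank_prime F₀ F hfr
  let S : Subalgebra F₀ F :=
    { carrier := A
      mul_mem' := fun ha hb => hmul _ _ ha hb
      add_mem' := fun ha hb => hadd _ _ ha hb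
      algebraMap_mem' := fun a => h0 _ a.2 }
  rcases eq_bot_or_eq_top S with h | h
  · left
    intro a ha
    have h1 : a ∈ S := ha
    rw [h, Algebra.mem_bot] at h1
    obtain ⟨b, rfl⟩ := h1
    exact b.2
  · right
    intro a
    have h1 : a ∈ S := by rw [h]; exact Algebra.mem_top
    exact h1

/-- dichotomy for the parameter sets -/
theorem OC.AA_cases [Fintype F] (C : OC F₀ Q f G H) {r : ℕ} (hr : r.Prime)
    (hcard : Fintype.card F = Nat.card F₀ ^ r) :
    (∀ u v, TP F₀ Q f u v → ∀ a, a ∈ AA f H u v → a ∈ F₀) ∨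
      (∀ u v, TP F₀ Q f u v → ∀ a : F, a ∈ AA f H u v) := by
  obtain ⟨u₀, v₀, h0⟩ := C.ex_TP
  rcases subring_cases hr hcard (AA f H u₀ v₀)
    (fun a ha => C.AA_F0 h0.ru h0.rv h0.qu h0.qv h0.uv ha)
    (fun a b ha hb => C.AA_add h0.qu h0.qv h0.uv ha hb)
    (fun a b ha hb => C.AA_mul_self h0 ha hb) with h | h
  · left
    intro u v huv a ha
    exact h a (C.AA_sub huv h0 ha)
  · right
    intro u v huv a
    exact C.AA_sub h0 huv (h a)

end Cfsg.Agent.Lib.Helper28.Os
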