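import Cfsg.Agent.Lib.Helper28.OsD

set_option autoImplicit false

namespace Cfsg.Agent.Lib.Helper28.Os

open Matrix Cfsg.Agent.Lib.Helper28.Sf Cfsg.Agent.Lib.Helper28.HForm
  Cfsg.Agent.Lib.Helper28.OGen Cfsg.Agent.Lib.Helper28.OMax Cfsg.Agent.Lib.Helper28.OQ
  Cfsg.Agent.Lib.Helper28.OMax2 Cfsg.Agent.Lib.Helper28.OIwa

variable {n : ℕ} {F : Type*} [Field F] {F₀ : Subfield F} {Q : (Fin n → F) → F}
  {f : (Fin n → F) → (Fin n → F) → F}
  {G H : Subgroup (Matrix.GeneralLinearGroup (Fin n) F)}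

local notation "GLn" => Matrix.GeneralLinearGroup (Fin n) F

/-- the Siegel element with centre `u` and direction `y` lies in `H` -/
def InQ (Q : (Fin n → F) → F) (f : (Fin n → F) → (Fin n → F) → F) (H : Subgroup GLn)
    (u y : Fin n → F) : Prop := ∃ t ∈ H, IsSgg Q f t u y

theorem InQ.add (hq : QF Q f) {u y y' : Fin n → F} (hu : Q u = 0) (huy : f u y = 0)
    (huy' : f u y' = 0) (h : InQ Q f H u y) (h' : InQ Q f H u y') : InQ Q f H u (y + y') := by
  obtain ⟨t, ht, hts⟩ := h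
  obtain ⟨t', ht', hts'⟩ := h'
  exact ⟨t * t', H.mul_mem ht ht', IsSgg.mul hq hu huy huy' hts hts'⟩

theorem InQ.zero (hq : QF Q f) (u : Fin n → F) : InQ Q f H u 0 :=
  ⟨1, H.one_mem, IsSgg.one hq u⟩

theorem InQ.center (hq : QF Q f) {u : Fin n → F} (hu : Q u = 0) (a : F) :
    InQ Q f H u (a • u) := by
  refine ⟨1, H.one_mem, ?_⟩
  have := (IsSgg.one hq u).add_center hq hu (f_zero_right hq.sym u) a
  rwa [zero_add] at this

theorem InQ.sum (hq : QF Q f) {u : Fin n → F} (hu : Q u = 0) {ι : Type*} (s : Finset ι)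
    (y : ι → (Fin n → F)) (hy : ∀ i ∈ s, f u (y i) = 0) (h : ∀ i ∈ s, InQ Q f H u (y i)) :
    InQ Q f H u (∑ i ∈ s, y i) := by
  classical
  induction s using Finset.induction_on with
  | empty => simpa using InQ.zero hq u
  | insert a s ha ih =>
    rw [Finset.sum_insert ha]
    have h1 : f u (∑ i ∈ s, y i) = 0 := by
      rw [s_symm hq.sym, f_sum_left hq.sym]
      apply Finset.sum_eq_zero
      intro i hi
      rw [s_symm hq.sym, hy i (Finset.mem_insert_of_mem hi)]
    exact InQ.add hq hu (hy a (Finset.mem_insert_self a s)) h1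
      (h a (Finset.mem_insert_self a s))
      (ih (fun i hi => hy i (Finset.mem_insert_of_mem hi))
        (fun i hi => h i (Finset.mem_insert_of_mem hi)))

/-- (C1) when the parameter sets are everything, `H` contains the full unipotent radical of
every rational singular point -/
theorem OC.C1 [Finite F] (C : OC F₀ Q f G H)
    (hA : ∀ u v, TP F₀ Q f u v → ∀ a : F, a ∈ AA f H u v) {u : Fin n → F} (hu : Rat F₀ u)
    (hQu : Q u = 0) (hu0 : u ≠ 0) {y : Fin n → F} (huy : f u y = 0) : InQ Q f H u y := by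
  have hf := C.hf
  have hq := C.hq
  have hn := C.hn
  -- rational singular directions
  have key1 : ∀ p : Fin n → F, Rat F₀ p → Q p = 0 → f u p = 0 → ∀ c : F,
      InQ Q f H u (c • p) := by
    intro p hp hQp hup c
    by_cases hpu : p ∈ Submodule.span F {u}
    · obtain ⟨a, rfl⟩ := Submodule.mem_span_singleton.mp hpu
      rw [smul_smul]
      exact InQ.center hq hQu _
    · obtain ⟨t, ht, hts⟩ := hA u p ⟨hu, hp, hQu, hQp, hup, hu0, hpu⟩ c
      exact ⟨t, ht, isSgg_of_isSg hf hQp hq hts⟩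
  -- rational directions
  have key2 : ∀ p : Fin n → F, Rat F₀ p → f u p = 0 → ∀ c : F, InQ Q f H u (c • p) := by
    intro p hp hup c
    obtain ⟨p₁, p₂, hp₁, hp₂, hQ₁, hQ₂, h1, h2, hsum⟩ := C.rc.rat_sum_rs ![u]
      (fun j => by fin_cases j; exact hu) (by omega) hp
      (fun j => by fin_cases j; exact hup)
      (by
        intro hQp hm
        rw [mem_span_single'] at hm
        obtain ⟨α, rfl⟩ := hm
        apply hQp
        rw [hq.smul, hQu, mul_zero])
    have e1 : f u p₁ = 0 := h1 0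
    have e2 : f u p₂ = 0 := h2 0
    rw [hsum, smul_add]
    exact InQ.add hq hQu (by rw [s_smul_right hf, e1, mul_zero])
      (by rw [s_smul_right hf, e2, mul_zero]) (key1 p₁ hp₁ hQ₁ e1 c) (key1 p₂ hp₂ hQ₂ e2 c)
  -- a rational partner of `u`
  obtain ⟨u', hu', hQu', -, huu'⟩ := C.rc.ex_partner (![] : Fin 0 → (Fin n → F))
    (fun j => Fin.elim0 j) hu hQu (fun j => Fin.elim0 j) (by
      intro hm
      have : Set.range (![] : Fin 0 → (Fin n → F)) = ∅ := Set.range_eq_empty _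
      rw [this, Submodule.span_empty, Submodule.mem_bot] at hm
      exact hu0 hm)
  set P : Fin n → (Fin n → F) := fun i =>
    (Pi.single i 1 : Fin n → F) - f (Pi.single i 1) u' • u - f (Pi.single i 1) u • u' with hP
  have hPr : ∀ i, Rat F₀ (P i) := fun i =>
    ((Rat.single i F₀.one_mem).sub (Rat.smul (C.rc.f_rat (Rat.single i F₀.one_mem) hu') hu)).sub
      (Rat.smul (C.rc.f_rat (Rat.single i F₀.one_mem) hu) hu')
  have hPu : ∀ i, f u (P i) = 0 := by
    intro i
    rw [hP]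
    simp only [f_sub_right hf, s_smul_right hf, f_sing hq hQu, huu', s_symm hf u (Pi.single i 1)]
    ring
  have hy : y = ∑ i, y i • P i + f y u' • u := by
    have hx : y = ∑ i, y i • (Pi.single i (1 : F) : Fin n → F) := by
      ext j
      simp [Finset.sum_apply, Pi.single_apply]
    have e1 : f y u' = ∑ i, y i * f (Pi.single i 1) u' := by
      conv_lhs => rw [hx]
      rw [f_sum_left hf]
      apply Finset.sum_congr rfl
      intro i _
      rw [hf.smul_left]
    have e2 : (0 : F) = ∑ i, y i * f (Pi.single i 1) u := by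
      rw [← huy, s_symm hf u y]
      conv_lhs => rw [hx]
      rw [f_sum_left hf]
      apply Finset.sum_congr rfl
      intro i _
      rw [hf.smul_left]
    simp only [hP, smul_sub, Finset.sum_sub_distrib, smul_smul, ← Finset.sum_smul]
    rw [← hx, ← e1, ← e2, zero_smul]
    abel
  rw [hy]
  apply InQ.add hq hQu
  · rw [s_symm hf, f_sum_left hf]
    apply Finset.sum_eq_zero
    intro i _
    rw [hf.smul_left, s_symm hf, hPu i, mul_zero]
  · rw [s_smul_right hf, f_sing hq hQu, mul_zero]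
  · apply InQ.sum hq hQu
    · intro i _
      rw [s_smul_right hf, hPu i, mul_zero]
    · intro i _
      exact key2 (P i) (hPr i) (hPu i) (y i)
  · exact InQ.center hq hQu _

/-- a rational singular partner of a rational singular vector -/
theorem RC.ex_partner0 (C : RC F₀ Q f) {u : Fin n → F} (hu : Rat F₀ u) (hQu : Q u = 0)
    (hu0 : u ≠ 0) : ∃ u', Rat F₀ u' ∧ Q u' = 0 ∧ f u u' = 1 := by
  obtain ⟨u', hu', hQu', -, huu'⟩ := C.ex_partner (![] : Fin 0 → (Fin n → F))
    (fun j => Fin.elim0 j) hu hQu (fun j => Fin.elim0 j) (by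
      intro hm
      have : Set.range (![] : Fin 0 → (Fin n → F)) = ∅ := Set.range_eq_empty _
      rw [this, Submodule.span_empty, Submodule.mem_bot] at hm
      exact hu0 hm)
  exact ⟨u', hu', hQu', huu'⟩

/-- every non-zero vector pairs non-trivially with some rational singular vector -/
theorem OC.ex_rs_pair [Finite F] (C : OC F₀ Q f G H) {a : Fin n → F} (ha : a ≠ 0) :
    ∃ w, Rat F₀ w ∧ Q w = 0 ∧ f w a ≠ 0 := by
  have hf := C.hf
  have hq := C.hq
  have hn := C.hn
  obtain ⟨i, hi⟩ : ∃ i : Fin n, f (Pi.single i 1) a ≠ 0 := by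
    by_contra hcon
    push Not at hcon
    obtain ⟨x, hx⟩ := (hf.nondegenerate a ha).1
    apply hx
    rw [f_eq_dot hf]
    have : rho f a = 0 := funext hcon
    rw [this, zero_dotProduct]
  obtain ⟨p₁, p₂, hp₁, hp₂, hQ₁, hQ₂, -, -, hsum⟩ := C.rc.rat_sum_rs
    (![] : Fin 0 → (Fin n → F)) (fun j => Fin.elim0 j) (by omega)
    (Rat.single i F₀.one_mem) (fun j => Fin.elim0 j)
    (by
      intro _ hm
      have : Set.range (![] : Fin 0 → (Fin n → F)) = ∅ := Set.range_eq_empty _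
      rw [this, Submodule.span_empty, Submodule.mem_bot] at hm
      have := congrFun hm i
      rw [Pi.single_eq_same] at this
      exact one_ne_zero this)
  rw [hsum, hf.add_left] at hi
  by_cases h1 : f p₁ a = 0
  · rw [h1, zero_add] at hi
    exact ⟨p₂, hp₂, hQ₂, hi⟩
  · exact ⟨p₁, hp₁, hQ₁, h1⟩

/-- (C2) every singular point is `H`-conjugate to a rational one -/
theorem OC.C2 [Finite F] (C : OC F₀ Q f G H)
    (hA : ∀ u v, TP F₀ Q f u v → ∀ a : F, a ∈ AA f H u v) {a : Fin n → F} (ha0 : a ≠ 0)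
    (hQa : Q a = 0) :
    ∃ g ∈ H, ∃ u₀ : Fin n → F, Rat F₀ u₀ ∧ Q u₀ = 0 ∧ u₀ ≠ 0 ∧ ∃ κ : F, κ ≠ 0 ∧
      (g : Matrix (Fin n) (Fin n) F) *ᵥ a = κ • u₀ := by
  have hf := C.hf
  have hq := C.hq
  obtain ⟨w, hw, hQw, hwa⟩ := C.ex_rs_pair ha0
  have hw0 : w ≠ 0 := by
    rintro rfl
    exact hwa (f_zero_left hf a)
  obtain ⟨u₀, hu₀, hQu₀, hwu₀⟩ := C.rc.ex_partner0 hw hQw hw0
  have hu₀0 : u₀ ≠ 0 := by
    rintro rfl
    rw [f_zero_right hf] at hwu₀
    exact zero_ne_one hwu₀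
  set κ : F := f w a with hκ
  set y : Fin n → F := κ⁻¹ • (κ • u₀ - a) with hy
  have hwy : f w y = 0 := by
    rw [hy, s_smul_right hf, f_sub_right hf, s_smul_right hf, hwu₀, ← hκ]
    ring
  obtain ⟨g, hg, hgs⟩ := C.C1 hA hw hQw hw0 hwy
  refine ⟨g, hg, u₀, hu₀, hQu₀, hu₀0, κ, hwa, ?_⟩
  rw [hgs a]
  unfold Sgm
  have e1 : f y a = κ⁻¹ * (κ * f u₀ a) := by
    rw [hy, hf.smul_left, f_sub_left hf, hf.smul_left, f_sing hq hQa]
    ring
  have e2 : Q y = -(κ⁻¹ * κ⁻¹ * (κ * f u₀ a)) := by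
    rw [hy, hq.smul, Q_sub hq, hq.smul, hQu₀, hQa, hf.smul_left]
    ring
  rw [e1, e2, ← hκ, hy]
  have hκ0 : κ ≠ 0 := hwa
  have e3 : κ • κ⁻¹ • (κ • u₀ - a) = κ • u₀ - a := by
    rw [smul_smul, mul_inv_cancel₀ hκ0, one_smul]
  have e4 : -(κ⁻¹ * κ⁻¹ * (κ * f u₀ a)) * κ = -(κ⁻¹ * (κ * f u₀ a)) := by
    field_simp
  rw [e3, e4]
  module

/-- Step C: if the parameter sets are everything then `H = G` -/
theorem OC.stepC [Finite F] (C : OC F₀ Q f G H)
    (hA : ∀ u v, TP F₀ Q f u v → ∀ a : F, a ∈ AA f H u v) : H = G := by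
  have hf := C.hf
  have hq := C.hq
  apply le_antisymm C.le
  apply C.sg.gen
  intro t u v c hQu hQv huv ht
  by_cases hu0 : u = 0
  · have : t = 1 := by
      apply gl_ext
      intro x
      rw [ht x, Units.val_one, Matrix.one_mulVec]
      unfold Tv
      rw [hu0, f_zero_left hf]
      module
    rw [this]
    exact H.one_mem
  obtain ⟨g, hg, u₀, hu₀, hQu₀, hu₀0, κ, hκ, hgu⟩ := C.C2 hA hu0 hQu
  have h1 := (isSgg_of_isSg hf hQv hq ht).conj hq (C.isoQ hg)
  rw [hgu] at h1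
  have h2 := h1.smul_center hq
  have h3 : f u₀ (κ • (g : Matrix (Fin n) (Fin n) F) *ᵥ (c • v)) = 0 := by
    have e := C.isof hg u (c • v)
    rw [hgu, hf.smul_left, s_smul_right hf c u, huv, mul_zero] at e
    rw [s_smul_right hf]
    rcases mul_eq_zero.mp e with h | h
    · exact absurd h hκ
    · rw [h, mul_zero]
  obtain ⟨t', ht', hts'⟩ := C.C1 hA hu₀ hQu₀ hu₀0 h3
  have e : g * t * g⁻¹ = t' := h2.unique hts'
  have e2 : t = g⁻¹ * t' * g := by
    rw [← e]
    group
  rw [e2]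
  exact H.mul_mem (H.mul_mem (H.inv_mem hg) ht') hg

end Cfsg.Agent.Lib.Helper28.Os
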