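import Cfsg.Agent.Lib.Helper28.OsE

set_option autoImplicit false

namespace Cfsg.Agent.Lib.Helper28.Os

open Matrix Cfsg.Agent.Lib.Helper28.Sf Cfsg.Agent.Lib.Helper28.HForm
  Cfsg.Agent.Lib.Helper28.OGen Cfsg.Agent.Lib.Helper28.OMax Cfsg.Agent.Lib.Helper28.OQ
  Cfsg.Agent.Lib.Helper28.OMax2 Cfsg.Agent.Lib.Helper28.OIwa

variable {n : ℕ} {F : Type*} [Field F] {F₀ : Subfield F} {Q : (Fin n → F) → F}
  {f : (Fin n → F) → (Fin n → F) → F}
  {G H : Subgroup (Matrix.GeneralLinearGroup (Fin n) F)}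

local notation "GLn" => Matrix.GeneralLinearGroup (Fin n) F

theorem mem_span_triple' {a b c x : Fin n → F} :
    x ∈ Submodule.span F (Set.range ![a, b, c]) ↔ ∃ α β γ : F, α • a + β • b + γ • c = x := by
  have : Set.range ![a, b, c] = insert a (Set.range ![b, c]) := by
    rw [Matrix.range_cons, Set.singleton_union]
  rw [this, Submodule.mem_span_insert]
  constructor
  · rintro ⟨α, z, hz, rfl⟩
    obtain ⟨β, γ, rfl⟩ := mem_span_pair'.mp hz
    exact ⟨α, β, γ, by rw [add_assoc]⟩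
  · rintro ⟨α, β, γ, rfl⟩
    exact ⟨α, β • b + γ • c, mem_span_pair'.mpr ⟨β, γ, rfl⟩, by rw [add_assoc]⟩

/-- the projection of a vector to the orthogonal complement of a hyperbolic pair -/
def prj (f : (Fin n → F) → (Fin n → F) → F) (u u' x : Fin n → F) : Fin n → F :=
  x - f x u' • u - f x u • u'

theorem prj_perp (hq : QF Q f) {u u' : Fin n → F} (hu : Q u = 0) (hu' : Q u' = 0)
    (huu' : f u u' = 1) (x : Fin n → F) : f u (prj f u u' x) = 0 ∧ f u' (prj f u u' x) = 0 := by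
  have hf := hq.sym
  have h1 : f u' u = 1 := by rw [s_symm hf, huu']
  unfold prj
  constructor
  · simp only [f_sub_right hf, s_smul_right hf, f_sing hq hu, huu', s_symm hf u x]
    ring
  · simp only [f_sub_right hf, s_smul_right hf, f_sing hq hu', h1, s_symm hf u' x]
    ring

theorem prj_rat (C : RC F₀ Q f) {u u' x : Fin n → F} (hu : Rat F₀ u) (hu' : Rat F₀ u')
    (hx : Rat F₀ x) : Rat F₀ (prj f u u' x) :=
  (hx.sub (Rat.smul (C.f_rat hx hu') hu)).sub (Rat.smul (C.f_rat hx hu) hu')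

theorem prj_decomp (u u' x : Fin n → F) :
    x = prj f u u' x + f x u' • u + f x u • u' := by
  unfold prj
  abel

/-- a rational vector orthogonal to a rational hyperbolic pair is a sum of two rational singular
vectors orthogonal to the pair -/
theorem OC.sum_rs_pair [Finite F] (C : OC F₀ Q f G H) {u u' : Fin n → F} (hu : Rat F₀ u)
    (hu' : Rat F₀ u') (hQu : Q u = 0) (hQu' : Q u' = 0) (huu' : f u u' = 1) {x : Fin n → F}
    (hx : Rat F₀ x) (hux : f u x = 0) (hu'x : f u' x = 0) :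
    ∃ y₁ y₂, Rat F₀ y₁ ∧ Rat F₀ y₂ ∧ Q y₁ = 0 ∧ Q y₂ = 0 ∧ f u y₁ = 0 ∧ f u' y₁ = 0 ∧
      f u y₂ = 0 ∧ f u' y₂ = 0 ∧ x = y₁ + y₂ := by
  have hf := C.hf
  have hq := C.hq
  have hn := C.hn
  have h1 : f u' u = 1 := by rw [s_symm hf, huu']
  obtain ⟨y₁, y₂, hy₁, hy₂, hQ₁, hQ₂, hp₁, hp₂, hsum⟩ := C.rc.rat_sum_rs ![u, u']
    (fun j => by fin_cases j; exact hu; exact hu') (by omega) hx
    (fun j => by fin_cases j; exact hux; exact hu'x)
    (by
      intro hQx hm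
      rw [mem_span_pair'] at hm
      obtain ⟨α, β, hαβ⟩ := hm
      apply hQx
      have e1 : β = 0 := by
        have := hux
        rw [← hαβ, f_add_right hf, s_smul_right hf, s_smul_right hf, f_sing hq hQu, huu'] at this
        linear_combination this
      have e2 : α = 0 := by
        have := hu'x
        rw [← hαβ, f_add_right hf, s_smul_right hf, s_smul_right hf, f_sing hq hQu', h1] at this
        linear_combination this
      rw [← hαβ, e1, e2, zero_smul, zero_smul, add_zero, Q_zero hq])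
  exact ⟨y₁, y₂, hy₁, hy₂, hQ₁, hQ₂, hp₁ 0, hp₁ 1, hp₂ 0, hp₂ 1, hsum⟩

theorem Tv_fix (hf : SymF f) {z w u : Fin n → F} (hzu : f z u = 0) (hwu : f w u = 0) (c : F) :
    Tv f z w c u = u := by
  unfold Tv
  rw [hzu, hwu]
  module

/-- (TC): under `A = F₀`, Siegel elements of `H` with rational singular centre have rational
direction modulo the centre. -/
theorem OC.TC [Finite F] (C : OC F₀ Q f G H)
    (hA : ∀ u v, TP F₀ Q f u v → ∀ a, a ∈ AA f H u v → a ∈ F₀)
    {u y : Fin n → F} (hu : Rat F₀ u) (hQu : Q u = 0) (hu0 : u ≠ 0) (huy : f u y = 0)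
    {t : GLn} (ht : t ∈ H) (hts : IsSgg Q f t u y) : ∃ β : F, Rat F₀ (y - β • u) := by
  have hf := C.hf
  have hq := C.hq
  have hn := C.hn
  obtain ⟨u', hu', hQu', huu'⟩ := C.rc.ex_partner0 hu hQu hu0
  have hu'u : f u' u = 1 := by rw [s_symm hf, huu']
  refine ⟨f y u', ?_⟩
  set y' : Fin n → F := y - f y u' • u with hy'
  have hts' : IsSgg Q f t u y' := by
    have := hts.add_center hq hQu huy (-(f y u'))
    rwa [neg_smul, ← sub_eq_add_neg] at this
  have huy' : f u y' = 0 := by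
    rw [hy', f_sub_right hf, s_smul_right hf, huy, f_sing hq hQu]
    ring
  have hu'y' : f u' y' = 0 := by
    rw [hy', f_sub_right hf, s_smul_right hf, hu'u, s_symm hf u' y]
    ring
  -- the key claim for rational singular vectors orthogonal to `u, u'`
  have key : ∀ z : Fin n → F, Rat F₀ z → Q z = 0 → f u z = 0 → f u' z = 0 → f z y' ∈ F₀ := by
    intro z hz hQz huz hu'z
    by_cases hz0 : z = 0
    · rw [hz0, f_zero_left hf]
      exact F₀.zero_mem
    have hzu : f z u = 0 := by rw [s_symm hf, huz]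
    have hfam3 : ∀ j, Rat F₀ (![u, u', z] j) := by
      intro j
      fin_cases j
      · exact hu
      · exact hu'
      · exact hz
    obtain ⟨w, hw, hQw, hwp, hwn⟩ := C.rc.ex_rs ![u, u', z] hfam3 (by omega)
    obtain ⟨z₂, hz₂, hQz₂, hz₂p, hwz₂⟩ := C.rc.ex_partner ![u, u', z] hfam3 hw hQw hwp hwn
    have hfam5 : ∀ j, Rat F₀ (![u, u', z, w, z₂] j) := by
      intro j
      fin_cases j
      · exact hu
      · exact hu'
      · exact hz
      · exact hw
      · exact hz₂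
    obtain ⟨w₂, hw₂, hQw₂, hw₂p, hw₂n⟩ := C.rc.ex_rs ![u, u', z, w, z₂] hfam5 (by omega)
    have huw : f u w = 0 := hwp 0
    have hzw : f z w = 0 := hwp 2
    have huz₂ : f u z₂ = 0 := hz₂p 0
    have hzz₂ : f z z₂ = 0 := hz₂p 2
    have huw₂ : f u w₂ = 0 := hw₂p 0
    have hzw₂ : f z w₂ = 0 := hw₂p 2
    have hww₂ : f w w₂ = 0 := hw₂p 3
    have hz₂w₂ : f z₂ w₂ = 0 := hw₂p 4
    -- first commutator
    obtain ⟨g₁, hg₁s⟩ := C.sg.ex z w 1 hQz hQw hzw
    have hg₁ : g₁ ∈ H := C.rat_sg_mem hz hw F₀.one_mem hQz hQw hzw hg₁s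
    have hg₁u : (g₁ : Matrix (Fin n) (Fin n) F) *ᵥ u = u := by
      rw [hg₁s u]
      exact Tv_fix hf hzu (by rw [s_symm hf, huw]) 1
    have hc₁ := hts'.commutator hq hQu huy' (C.isoQ hg₁) hg₁u
    have hc₁H : g₁ * t * g₁⁻¹ * t⁻¹ ∈ H :=
      H.mul_mem (H.mul_mem (H.mul_mem hg₁ ht) (H.inv_mem hg₁)) (H.inv_mem ht)
    set y₁ : Fin n → F := f z y' • w - f w y' • z with hy₁
    have e1 : (g₁ : Matrix (Fin n) (Fin n) F) *ᵥ y' - y' = y₁ := by
      rw [hg₁s y']
      unfold Tv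
      rw [hy₁]
      module
    rw [e1] at hc₁
    have huy₁ : f u y₁ = 0 := by
      rw [hy₁, f_sub_right hf, s_smul_right hf, s_smul_right hf, huw, huz]
      ring
    -- second commutator
    obtain ⟨g₂, hg₂s⟩ := C.sg.ex z₂ w₂ 1 hQz₂ hQw₂ hz₂w₂
    have hg₂ : g₂ ∈ H := C.rat_sg_mem hz₂ hw₂ F₀.one_mem hQz₂ hQw₂ hz₂w₂ hg₂s
    have hg₂u : (g₂ : Matrix (Fin n) (Fin n) F) *ᵥ u = u := by
      rw [hg₂s u]
      exact Tv_fix hf (by rw [s_symm hf, huz₂]) (by rw [s_symm hf, huw₂]) 1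
    have hc₂ := hc₁.commutator hq hQu huy₁ (C.isoQ hg₂) hg₂u
    have hc₂H : g₂ * (g₁ * t * g₁⁻¹ * t⁻¹) * g₂⁻¹ * (g₁ * t * g₁⁻¹ * t⁻¹)⁻¹ ∈ H :=
      H.mul_mem (H.mul_mem (H.mul_mem hg₂ hc₁H) (H.inv_mem hg₂)) (H.inv_mem hc₁H)
    have e2 : (g₂ : Matrix (Fin n) (Fin n) F) *ᵥ y₁ - y₁ = f z y' • w₂ := by
      rw [hg₂s y₁]
      unfold Tv
      have a1 : f z₂ y₁ = f z y' := by
        rw [hy₁, f_sub_right hf, s_smul_right hf, s_smul_right hf, s_symm hf z₂ w, hwz₂,
          s_symm hf z₂ z, hzz₂]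
        ring
      have a2 : f w₂ y₁ = 0 := by
        rw [hy₁, f_sub_right hf, s_smul_right hf, s_smul_right hf, s_symm hf w₂ w, hww₂,
          s_symm hf w₂ z, hzw₂]
        ring
      rw [a1, a2]
      module
    rw [e2] at hc₂
    have hmem : f z y' ∈ AA f H u w₂ := ⟨_, hc₂H, isSg_of_isSgg hf hQw₂ hq hc₂⟩
    refine hA u w₂ ⟨hu, hw₂, hQu, hQw₂, huw₂, hu0, ?_⟩ _ hmem
    intro hm
    obtain ⟨a, ha⟩ := Submodule.mem_span_singleton.mp hm
    apply hw₂n
    rw [← ha]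
    exact Submodule.smul_mem _ _ (Submodule.subset_span ⟨0, rfl⟩)
  apply C.rc.rat_of_pair
  intro x hx
  obtain ⟨hp1, hp2⟩ := prj_perp hq hQu hQu' huu' x
  obtain ⟨z₁, z₂, hz₁, hz₂, hQ₁, hQ₂, h1, h2, h3, h4, hsum⟩ :=
    C.sum_rs_pair hu hu' hQu hQu' huu' (prj_rat C.rc hu hu' hx) hp1 hp2
  have e : f x y' = f z₁ y' + f z₂ y' := by
    conv_lhs => rw [prj_decomp (f := f) u u' x]
    rw [hf.add_left, hf.add_left, hf.smul_left, hf.smul_left, huy', hu'y', hsum, hf.add_left]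
    ring
  rw [e]
  exact F₀.add_mem (key z₁ hz₁ hQ₁ h1 h2) (key z₂ hz₂ hQ₂ h3 h4)

theorem sq_mem_char2 [Finite F] (h2 : (2 : F) = 0) {d : F} (hd : d * d ∈ F₀) : d ∈ F₀ := by
  have h2' : ((2 : ℕ) : F₀) = 0 := by
    apply Subtype.ext
    push_cast
    exact h2
  have hch : ringChar F₀ = 2 := CharP.ringChar_of_prime_eq_zero Nat.prime_two h2'
  obtain ⟨e, he⟩ := FiniteField.isSquare_of_char_two hch (⟨d * d, hd⟩ : F₀)
  have he' : d * d = (e : F) * (e : F) := by
    have := congrArg (fun a : F₀ => (a : F)) he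
    simpa using this
  have h3 : (d - (e : F)) * (d - (e : F)) = 0 := by
    have : (d - (e : F)) * (d - (e : F)) = d * d + (e : F) * (e : F) - 2 * (d * (e : F)) := by ring
    rw [this, h2, ← he']
    have h4 : d * d + d * d = 2 * (d * d) := by ring
    rw [h4, h2]
    ring
  have h5 : d - (e : F) = 0 := by
    rcases mul_eq_zero.mp h3 with h | h <;> exact h
  rw [sub_eq_zero.mp h5]
  exact e.2

theorem Tv_Tv (hf : SymF f) {a b : Fin n → F} (haa : f a a = 0) (hbb : f b b = 0)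
    (hab : f a b = 0) (c : F) (x : Fin n → F) :
    Tv f a b c (Tv f a b c x) = (2 : F) • Tv f a b c x - x := by
  have hba : f b a = 0 := by rw [s_symm hf, hab]
  unfold Tv
  simp only [f_add_right hf, f_sub_right hf, s_smul_right hf, haa, hbb, hab, hba]
  module

/-- (M-unip): a long root element lying in the subfield group maps rational vectors to rational
vectors -/
theorem unip_rat [Finite F] {t : GLn} {a b : Fin n → F} {c : F}
    (hf : SymF f) (haa : f a a = 0) (hbb : f b b = 0) (hab : f a b = 0) (hts : IsSg f t a b c)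
    (hm : t ∈ Cfsg.Geo.subfieldSubgroup F₀ (1 : GLn)) :
    ∀ x, Rat F₀ x → Rat F₀ ((t : Matrix (Fin n) (Fin n) F) *ᵥ x) := by
  obtain ⟨c₀, hc₀, hrat⟩ := rat_of_mem_sub_one hm
  by_cases hex : ∃ x, Rat F₀ x ∧ (t : Matrix (Fin n) (Fin n) F) *ᵥ x ≠ x
  swap
  · push Not at hex
    intro x hx
    rw [hex x hx]
    exact hx
  obtain ⟨x, hx, hne⟩ := hex
  set d : F := c₀⁻¹ with hd
  have hd0 : d ≠ 0 := inv_ne_zero hc₀
  set y : Fin n → F := (t : Matrix (Fin n) (Fin n) F) *ᵥ x - x with hy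
  have hy0 : y ≠ 0 := sub_ne_zero.mpr hne
  have htt : (t : Matrix (Fin n) (Fin n) F) *ᵥ ((t : Matrix (Fin n) (Fin n) F) *ᵥ x) =
      (2 : F) • ((t : Matrix (Fin n) (Fin n) F) *ᵥ x) - x := by
    rw [hts x, hts, Tv_Tv hf haa hbb hab]
  have hty : (t : Matrix (Fin n) (Fin n) F) *ᵥ y = y := by
    rw [hy, Matrix.mulVec_sub, htt]
    module
  have htx : (t : Matrix (Fin n) (Fin n) F) *ᵥ x = x + y := by rw [hy]; abel
  -- `x, y` are independent
  have hli : ∀ μ ν : F, μ • x + ν • y = 0 → μ = 0 ∧ ν = 0 := by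
    intro μ ν h
    have h1 := congrArg (fun z => (t : Matrix (Fin n) (Fin n) F) *ᵥ z - z) h
    simp only [Matrix.mulVec_add, Matrix.mulVec_smul, hty, htx, Matrix.mulVec_zero, sub_zero] at h1
    have h2 : μ • y = 0 := by
      rw [← h1]
      module
    have hμ : μ = 0 := by
      rcases smul_eq_zero.mp h2 with h | h
      · exact h
      · exact absurd h hy0
    rw [hμ, zero_smul, zero_add] at h
    rcases smul_eq_zero.mp h with h | h
    · exact ⟨hμ, h⟩
    · exact absurd h hy0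
  set v₁ : Fin n → F := d • ((t : Matrix (Fin n) (Fin n) F) *ᵥ x) with hv₁
  have hv₁r : Rat F₀ v₁ := hrat x hx
  have hv₂r : Rat F₀ (d • ((t : Matrix (Fin n) (Fin n) F) *ᵥ v₁)) := hrat v₁ hv₁r
  have hv₂ : d • ((t : Matrix (Fin n) (Fin n) F) *ᵥ v₁) = (2 * d) • v₁ + (-(d * d)) • x := by
    rw [hv₁, Matrix.mulVec_smul, htt]
    module
  rw [hv₂] at hv₂r
  have hli2 : ∀ α β : F, α • v₁ + β • x = 0 → α = 0 ∧ β = 0 := by
    intro α β h
    rw [hv₁, htx] at h
    have h1 : (α * d + β) • x + (α * d) • y = 0 := by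
      rw [← h]
      module
    obtain ⟨e1, e2⟩ := hli _ _ h1
    have hα : α = 0 := by
      rcases mul_eq_zero.mp e2 with h | h
      · exact h
      · exact absurd h hd0
    rw [hα, zero_mul, zero_add] at e1
    exact ⟨hα, e1⟩
  obtain ⟨h2d, hdd⟩ := coeff_rat2 hv₁r hx hli2 hv₂r
  have hdF : d ∈ F₀ := by
    by_cases h2 : (2 : F) = 0
    · apply sq_mem_char2 h2
      have := F₀.neg_mem hdd
      rwa [neg_neg] at this
    · have h3 : d = 2⁻¹ * (2 * d) := by field_simp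
      rw [h3]
      exact F₀.mul_mem (F₀.inv_mem (by
        have : (2 : F) = 1 + 1 := by norm_num
        rw [this]
        exact F₀.add_mem F₀.one_mem F₀.one_mem)) h2d
  intro x' hx'
  have h5 := hrat x' hx'
  have h6 : (t : Matrix (Fin n) (Fin n) F) *ᵥ x' =
      d⁻¹ • (c₀⁻¹ • ((t : Matrix (Fin n) (Fin n) F) *ᵥ x')) := by
    rw [← hd, smul_smul, inv_mul_cancel₀ hd0, one_smul]
  rw [h6]
  exact Rat.smul (F₀.inv_mem hdF) h5

end Cfsg.Agent.Lib.Helper28.Os
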