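import Cfsg.Agent.Lib.Helper28.OsF

set_option autoImplicit false

namespace Cfsg.Agent.Lib.Helper28.Os

open Matrix Cfsg.Agent.Lib.Helper28.Sf Cfsg.Agent.Lib.Helper28.HForm
  Cfsg.Agent.Lib.Helper28.OGen Cfsg.Agent.Lib.Helper28.OMax Cfsg.Agent.Lib.Helper28.OQ
  Cfsg.Agent.Lib.Helper28.OMax2 Cfsg.Agent.Lib.Helper28.OIwa

variable {n : ℕ} {F : Type*} [Field F] {F₀ : Subfield F} {Q : (Fin n → F) → F}
  {f : (Fin n → F) → (Fin n → F) → F}
  {G H : Subgroup (Matrix.GeneralLinearGroup (Fin n) F)}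

local notation "GLn" => Matrix.GeneralLinearGroup (Fin n) F

/-- (GP0'): under `A = F₀`, an element of `H` fixing a rational singular point lies in the
subfield group. -/
theorem OC.GP0 [Finite F] (C : OC F₀ Q f G H)
    (hA : ∀ u v, TP F₀ Q f u v → ∀ a, a ∈ AA f H u v → a ∈ F₀)
    {k : GLn} (hk : k ∈ H) {u : Fin n → F} (hu : Rat F₀ u) (hQu : Q u = 0) (hu0 : u ≠ 0)
    {lam : F} (hku : (k : Matrix (Fin n) (Fin n) F) *ᵥ u = lam • u) :
    k ∈ Cfsg.Geo.subfieldSubgroup F₀ (1 : GLn) := by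
  have hf := C.hf
  have hq := C.hq
  have hn := C.hn
  have hlam : lam ≠ 0 := by
    rintro rfl
    rw [zero_smul] at hku
    exact hu0 (Cfsg.Agent.Lib.Helper28.SubF.gl_inj k hku)
  have huu : f u u = 0 := f_sing hq hQu
  -- step 1
  have step1 : ∀ v : Fin n → F, Rat F₀ v → f u v = 0 →
      ∃ β : F, Rat F₀ (lam • ((k : Matrix (Fin n) (Fin n) F) *ᵥ v) - β • u) := by
    intro v hv huv
    obtain ⟨tv, htvG, htvs⟩ := ex_sgg hq C.vf C.sg hQu hu0 huv
    have htvH : tv ∈ H := C.rat_sgg_mem hu hv hQu hu0 huv htvs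
    have h1 := htvs.conj hq (C.isoQ hk)
    rw [hku] at h1
    have h2 := h1.smul_center hq
    have h3 : f u (lam • ((k : Matrix (Fin n) (Fin n) F) *ᵥ v)) = 0 := by
      have e := C.isof hk u v
      rw [hku, hf.smul_left, huv] at e
      rw [s_smul_right hf]
      exact e
    exact C.TC hA hu hQu hu0 h3 (H.mul_mem (H.mul_mem hk htvH) (H.inv_mem hk)) h2
  obtain ⟨u', hu', hQu', huu'⟩ := C.rc.ex_partner0 hu hQu hu0
  have hu'u : f u' u = 1 := by rw [s_symm hf, huu']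
  have hu'u' : f u' u' = 0 := f_sing hq hQu'
  obtain ⟨x, hx⟩ : ∃ x : Fin n → F, x = lam • ((k : Matrix (Fin n) (Fin n) F) *ᵥ u') := ⟨_, rfl⟩
  have hux : f u x = 1 := by
    have e := C.isof hk u u'
    rw [hku, hf.smul_left, huu'] at e
    rw [hx, s_smul_right hf]
    exact e
  have hQx : Q x = 0 := by
    rw [hx, hq.smul, C.isoQ hk, hQu', mul_zero]
  obtain ⟨z, hz⟩ : ∃ z : Fin n → F, z = x - u' - f x u' • u := ⟨_, rfl⟩
  have huz : f u z = 0 := by
    rw [hz, f_sub_right hf, f_sub_right hf, s_smul_right hf, hux, huu', huu]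
    ring
  have hu'z : f u' z = 0 := by
    rw [hz, f_sub_right hf, f_sub_right hf, s_smul_right hf, hu'u', hu'u, s_symm hf u' x]
    ring
  have hzu : f z u = 0 := by rw [s_symm hf, huz]
  have hzu' : f z u' = 0 := by rw [s_symm hf, hu'z]
  have hQz : f x u' = -Q z := by
    have e : x = z + (u' + f x u' • u) := by rw [hz]; abel
    have h1 := hQx
    rw [e, hq.polar, hq.polar, hq.smul, hQu, hQu', s_smul_right hf, hu'u, f_add_right hf,
      s_smul_right hf, hzu, hzu'] at h1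
    linear_combination h1
  obtain ⟨s, hsG, hss⟩ := ex_sgg hq C.vf C.sg hQu hu0 huz
  have hsu' : (s : Matrix (Fin n) (Fin n) F) *ᵥ u' = x := by
    rw [hss u']
    unfold Sgm
    rw [huu', hzu']
    have e : x = z + u' + f x u' • u := by rw [hz]; abel
    conv_rhs => rw [e, hQz]
    module
  have hsu : (s : Matrix (Fin n) (Fin n) F) *ᵥ u = u := by
    rw [hss u]
    unfold Sgm
    rw [huu, hzu]
    module
  have hsiu : ((s⁻¹ : GLn) : Matrix (Fin n) (Fin n) F) *ᵥ u = u := by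
    conv_lhs => rw [← hsu]
    exact Cfsg.Agent.S5643.inv_mv s u
  obtain ⟨k', hk'⟩ : ∃ k' : GLn, k' = s⁻¹ * k := ⟨_, rfl⟩
  have hk'G : k' ∈ G := by
    rw [hk']
    exact G.mul_mem (G.inv_mem hsG) (C.le hk)
  have hk'Q : ∀ y, Q ((k' : Matrix (Fin n) (Fin n) F) *ᵥ y) = Q y := C.sg.iso k' hk'G
  have hk'f := iso_f hq k' hk'Q
  have hk'u : (k' : Matrix (Fin n) (Fin n) F) *ᵥ u = lam • u := by
    rw [hk', Cfsg.Agent.S5643.mul_mv, hku, Matrix.mulVec_smul, hsiu]
  have hk'u' : lam • ((k' : Matrix (Fin n) (Fin n) F) *ᵥ u') = u' := by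
    rw [hk', Cfsg.Agent.S5643.mul_mv, ← Matrix.mulVec_smul, ← hx, ← hsu',
      Cfsg.Agent.S5643.inv_mv]
  have hsi := hss.inv hq hQu huz
  -- step 3
  have step3 : ∀ v : Fin n → F, Rat F₀ v → f u v = 0 → f u' v = 0 →
      Rat F₀ (lam • ((k' : Matrix (Fin n) (Fin n) F) *ᵥ v)) := by
    intro v hv huv hu'v
    obtain ⟨β, hβ⟩ := step1 v hv huv
    obtain ⟨v₀, hv₀⟩ : ∃ v₀ : Fin n → F,
        v₀ = lam • ((k : Matrix (Fin n) (Fin n) F) *ᵥ v) - β • u := ⟨_, rfl⟩
    rw [← hv₀] at hβ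
    have e1 : lam • ((k : Matrix (Fin n) (Fin n) F) *ᵥ v) = v₀ + β • u := by rw [hv₀]; abel
    have huv₀ : f u v₀ = 0 := by
      have e := C.isof hk u v
      rw [hku, hf.smul_left, huv] at e
      rw [hv₀, f_sub_right hf, s_smul_right hf, s_smul_right hf, huu]
      rcases mul_eq_zero.mp e with h | h
      · exact absurd h hlam
      · rw [h]; ring
    have e2 : lam • ((k' : Matrix (Fin n) (Fin n) F) *ᵥ v) = v₀ + (f z v₀ + β) • u := by
      rw [hk', Cfsg.Agent.S5643.mul_mv, ← Matrix.mulVec_smul, e1, Matrix.mulVec_add,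
        Matrix.mulVec_smul, hsiu, hsi v₀]
      unfold Sgm
      rw [huv₀, f_neg_left hf]
      module
    have e3 : f (lam • ((k' : Matrix (Fin n) (Fin n) F) *ᵥ v)) u' = 0 := by
      conv_lhs => rw [← hk'u']
      rw [hf.smul_left, s_smul_right hf, hk'f, s_symm hf v u', hu'v]
      ring
    rw [e2, hf.add_left, hf.smul_left, huu', mul_one] at e3
    have e4 : f z v₀ + β = -(f v₀ u') := by linear_combination e3
    rw [e2, e4]
    exact hβ.add (Rat.smul (F₀.neg_mem (C.rc.f_rat hβ hu')) hu)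
  -- step 4
  have hfam : ∀ j, Rat F₀ (![u, u'] j) := fun j => by fin_cases j; exact hu; exact hu'
  obtain ⟨v, hv, hQv, hvp, hvn⟩ := C.rc.ex_rs ![u, u'] hfam (by omega)
  obtain ⟨v', hv', hQv', hv'p, hvv'⟩ := C.rc.ex_partner ![u, u'] hfam hv hQv hvp hvn
  have step4 : lam * lam ∈ F₀ := by
    have h1 := C.rc.f_rat (step3 v hv (hvp 0) (hvp 1)) (step3 v' hv' (hv'p 0) (hv'p 1))
    rw [hf.smul_left, s_smul_right hf, hk'f, hvv'] at h1
    simpa using h1
  -- step 5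
  have step5 : ∀ y : Fin n → F, Rat F₀ y →
      Rat F₀ (lam • ((k' : Matrix (Fin n) (Fin n) F) *ᵥ y)) := by
    intro y hy
    obtain ⟨hp1, hp2⟩ := prj_perp hq hQu hQu' huu' y
    have h1 := step3 _ (prj_rat C.rc hu hu' hy) hp1 hp2
    have e : lam • ((k' : Matrix (Fin n) (Fin n) F) *ᵥ y) =
        lam • ((k' : Matrix (Fin n) (Fin n) F) *ᵥ (prj f u u' y)) +
          (f y u' * (lam * lam)) • u + f y u • u' := by
      conv_lhs => rw [prj_decomp (f := f) u u' y]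
      rw [Matrix.mulVec_add, Matrix.mulVec_add, Matrix.mulVec_smul, Matrix.mulVec_smul, hk'u]
      have e3 : f y u • u' = f y u • (lam • ((k' : Matrix (Fin n) (Fin n) F) *ᵥ u')) := by
        rw [hk'u']
      rw [e3]
      module
    rw [e]
    exact (h1.add (Rat.smul (F₀.mul_mem (C.rc.f_rat hy hu') step4) hu)).add
      (Rat.smul (C.rc.f_rat hy hu) hu')
  have hk'sub : k' ∈ Cfsg.Geo.subfieldSubgroup F₀ (1 : GLn) := by
    apply mem_sub_one_of_rat (c := lam⁻¹) (inv_ne_zero hlam)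
    intro y hy
    rw [inv_inv]
    exact step5 y hy
  have hk'H : k' ∈ H := C.sub ⟨hk'sub, hk'G⟩
  -- step 6
  have hs_eq : s = k * k'⁻¹ := by rw [hk']; group
  have hsH : s ∈ H := by
    rw [hs_eq]
    exact H.mul_mem hk (H.inv_mem hk'H)
  obtain ⟨β, hβ⟩ := C.TC hA hu hQu hu0 huz hsH hss
  have hβF : β ∈ F₀ := by
    have h1 := C.rc.f_rat hu' hβ
    rw [f_sub_right hf, s_smul_right hf, hu'z, hu'u] at h1
    have : β = -(0 - β * 1) := by ring
    rw [this]
    exact F₀.neg_mem h1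
  have hzr : Rat F₀ z := by
    have : z = (z - β • u) + β • u := by abel
    rw [this]
    exact hβ.add (Rat.smul hβF hu)
  have hssub := hss.mem_sub C.rc hu hzr
  have : k = s * k' := by rw [hk']; group
  rw [this]
  exact Subgroup.mul_mem _ hssub hk'sub

end Cfsg.Agent.Lib.Helper28.Os
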