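import Cfsg.Agent.Lib.Helper28.OsG

set_option autoImplicit false

namespace Cfsg.Agent.Lib.Helper28.Os

open Matrix Cfsg.Agent.Lib.Helper28.Sf Cfsg.Agent.Lib.Helper28.HForm
  Cfsg.Agent.Lib.Helper28.OGen Cfsg.Agent.Lib.Helper28.OMax Cfsg.Agent.Lib.Helper28.OQ
  Cfsg.Agent.Lib.Helper28.OMax2 Cfsg.Agent.Lib.Helper28.OIwa

variable {n : ℕ} {F : Type*} [Field F] {F₀ : Subfield F} {Q : (Fin n → F) → F}
  {f : (Fin n → F) → (Fin n → F) → F}

local notation "GLn" => Matrix.GeneralLinearGroup (Fin n) F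

theorem ratl_neg (ψ : F →ₗ[F₀] F₀) (x : Fin n → F) : ratl ψ (-x) = - ratl ψ x := by
  funext i
  simp [ratl]

theorem ratl_sub (ψ : F →ₗ[F₀] F₀) (x y : Fin n → F) : ratl ψ (x - y) = ratl ψ x - ratl ψ y := by
  funext i
  simp [ratl]

/-- matrices mapping rational vectors to rational vectors -/
def RatM (F₀ : Subfield F) (N : Matrix (Fin n) (Fin n) F) : Prop :=
  ∀ x, Rat F₀ x → Rat F₀ (N *ᵥ x)

theorem RatM.entry {N : Matrix (Fin n) (Fin n) F} (h : RatM F₀ N) (i j : Fin n) :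
    N i j ∈ F₀ := by
  have := h (Pi.single j 1) (Rat.single j F₀.one_mem) i
  rwa [Matrix.mulVec_single_one] at this

theorem RatM.mulVec_ratl {N : Matrix (Fin n) (Fin n) F} (h : RatM F₀ N) (ψ : F →ₗ[F₀] F₀)
    (x : Fin n → F) : N *ᵥ ratl ψ x = ratl ψ (N *ᵥ x) := by
  funext i
  exact dot_ratl ψ (fun j => h.entry i j) x

/-- subspaces closed under all coordinatewise `F₀`-linear functionals -/
def RatCl (F₀ : Subfield F) (U : Submodule F (Fin n → F)) : Prop :=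
  ∀ (ψ : F →ₗ[F₀] F₀) (x : Fin n → F), x ∈ U → ratl ψ x ∈ U

theorem RatCl.inf {U₁ U₂ : Submodule F (Fin n → F)} (h1 : RatCl F₀ U₁) (h2 : RatCl F₀ U₂) :
    RatCl F₀ (U₁ ⊓ U₂) := fun ψ x hx => ⟨h1 ψ x hx.1, h2 ψ x hx.2⟩

theorem ratCl_span {k : ℕ} (a : Fin k → (Fin n → F)) (ha : ∀ j, Rat F₀ (a j)) :
    RatCl F₀ (Submodule.span F (Set.range a)) := by
  intro ψ x hx
  obtain ⟨c, rfl⟩ := (Submodule.mem_span_range_iff_exists_fun F).mp hx
  rw [ratl_sum]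
  apply Submodule.sum_mem
  intro j _
  rw [ratl_smul_of_rat ψ (ha j)]
  exact Submodule.smul_mem _ _ (Submodule.subset_span ⟨j, rfl⟩)

theorem ex_ratl_notin [Finite F] (U : Submodule F (Fin n → F)) {w : Fin n → F} (hw : w ∉ U) :
    ∃ ψ : F →ₗ[F₀] F₀, ratl ψ w ∉ U := by
  by_contra hcon
  push Not at hcon
  apply hw
  have b := Module.finBasis F₀ F
  rw [vec_decomp b w]
  apply Submodule.sum_mem
  intro j _
  exact Submodule.smul_mem _ _ (hcon _)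

theorem RatCl.line [Finite F] {U : Submodule F (Fin n → F)} (h : RatCl F₀ U) {w : Fin n → F}
    (hw : w ∈ U) (hw0 : w ≠ 0) (hl : ∀ y ∈ U, ∃ c : F, y = c • w) :
    ∃ c : F, c ≠ 0 ∧ Rat F₀ (c • w) := by
  obtain ⟨ψ, hψ⟩ := ex_ratl_notin (F₀ := F₀) (⊥ : Submodule F (Fin n → F)) (w := w)
    (by rwa [Submodule.mem_bot])
  rw [Submodule.mem_bot] at hψ
  obtain ⟨c, hc⟩ := hl _ (h ψ w hw)
  refine ⟨c, ?_, ?_⟩
  · rintro rfl
    rw [zero_smul] at hc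
    exact hψ hc
  · rw [← hc]
    exact ratl_rat _ _

/-- a vector in an at most two-dimensional `RatCl` subspace lies in the span of two rational
vectors of the subspace -/
theorem RatCl.hull2 [Finite F] {U : Submodule F (Fin n → F)} (h : RatCl F₀ U) {w a b : Fin n → F}
    (hw : w ∈ U) (hU : ∀ y ∈ U, ∃ α β : F, y = α • a + β • b) :
    ∃ p₁ p₂ : Fin n → F, Rat F₀ p₁ ∧ Rat F₀ p₂ ∧ p₁ ∈ U ∧ p₂ ∈ U ∧
      ∃ α β : F, w = α • p₁ + β • p₂ := by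
  by_cases h1 : w = 0
  · exact ⟨0, 0, Rat.zero, Rat.zero, U.zero_mem, U.zero_mem, 0, 0, by rw [h1]; simp⟩
  obtain ⟨ψ₁, hψ₁⟩ := ex_ratl_notin (F₀ := F₀) (⊥ : Submodule F (Fin n → F)) (w := w)
    (by rwa [Submodule.mem_bot])
  rw [Submodule.mem_bot] at hψ₁
  obtain ⟨p₁, hp₁⟩ : ∃ p₁, p₁ = ratl ψ₁ w := ⟨_, rfl⟩
  rw [← hp₁] at hψ₁
  have hp₁r : Rat F₀ p₁ := by rw [hp₁]; exact ratl_rat _ _
  have hp₁U : p₁ ∈ U := by rw [hp₁]; exact h ψ₁ w hw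
  by_cases h2 : w ∈ Submodule.span F {p₁}
  · obtain ⟨α, hα⟩ := Submodule.mem_span_singleton.mp h2
    exact ⟨p₁, p₁, hp₁r, hp₁r, hp₁U, hp₁U, α, 0, by rw [zero_smul, add_zero, hα]⟩
  obtain ⟨ψ₂, hψ₂⟩ := ex_ratl_notin (F₀ := F₀) _ h2
  obtain ⟨p₂, hp₂⟩ : ∃ p₂, p₂ = ratl ψ₂ w := ⟨_, rfl⟩
  rw [← hp₂] at hψ₂
  have hp₂r : Rat F₀ p₂ := by rw [hp₂]; exact ratl_rat _ _
  have hp₂U : p₂ ∈ U := by rw [hp₂]; exact h ψ₂ w hw
  refine ⟨p₁, p₂, hp₁r, hp₂r, hp₁U, hp₂U, ?_⟩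
  obtain ⟨α₁, β₁, e1⟩ := hU p₁ hp₁U
  obtain ⟨α₂, β₂, e2⟩ := hU p₂ hp₂U
  obtain ⟨α, β, e⟩ := hU w hw
  have hD : α₁ * β₂ - α₂ * β₁ ≠ 0 := by
    intro hD
    apply hψ₂
    rw [Submodule.mem_span_singleton]
    by_cases hα₁ : α₁ = 0
    · have hβ₁ : β₁ ≠ 0 := by
        rintro rfl
        rw [hα₁, zero_smul, zero_smul, add_zero] at e1
        exact hψ₁ e1
      have hα₂ : α₂ = 0 := by
        rw [hα₁, zero_mul, zero_sub, neg_eq_zero] at hD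
        rcases mul_eq_zero.mp hD with h | h
        · exact h
        · exact absurd h hβ₁
      refine ⟨β₂ / β₁, ?_⟩
      rw [e1, e2, hα₁, hα₂, zero_smul, zero_add, zero_add, smul_smul,
        div_mul_cancel₀ _ hβ₁]
    · refine ⟨α₂ / α₁, ?_⟩
      have hβ₂ : β₂ = α₂ / α₁ * β₁ := by
        field_simp
        linear_combination hD
      rw [e1, e2, smul_add, smul_smul, smul_smul, div_mul_cancel₀ _ hα₁, ← hβ₂]
  set D : F := α₁ * β₂ - α₂ * β₁ with hDdef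
  refine ⟨(α * β₂ - β * α₂) / D, (β * α₁ - α * β₁) / D, ?_⟩
  rw [e, e1, e2]
  have e3 : ((α * β₂ - β * α₂) / D) • (α₁ • a + β₁ • b) +
      ((β * α₁ - α * β₁) / D) • (α₂ • a + β₂ • b) =
      (((α * β₂ - β * α₂) / D) * α₁ + ((β * α₁ - α * β₁) / D) * α₂) • a +
      (((α * β₂ - β * α₂) / D) * β₁ + ((β * α₁ - α * β₁) / D) * β₂) • b := by
    module
  rw [e3]
  have e4 : ((α * β₂ - β * α₂) / D) * α₁ + ((β * α₁ - α * β₁) / D) * α₂ = α := by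
    field_simp
    rw [hDdef]
    ring
  have e5 : ((α * β₂ - β * α₂) / D) * β₁ + ((β * α₁ - α * β₁) / D) * β₂ = β := by
    field_simp
    rw [hDdef]
    ring
  rw [e4, e5]

/-- the centre line of a rational long root element is `RatCl` -/
theorem isSg_ratCl (hf : SymF f) {t : GLn} {a b : Fin n → F} (hts : IsSg f t a b 1)
    (ha : a ≠ 0) (hb : b ∉ Submodule.span F {a})
    (hr : RatM F₀ (t : Matrix (Fin n) (Fin n) F)) :
    RatCl F₀ (Submodule.span F {a, b}) := by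
  intro ψ y hy
  obtain ⟨α, β, rfl⟩ := Submodule.mem_span_pair.mp hy
  obtain ⟨x₀, hx₀⟩ := lin_solve hf ![a, b] (li2 a b ha hb) ![β, -α]
  have h1 : f a x₀ = β := by
    have := hx₀ 0
    rw [s_symm hf]
    simpa using this
  have h2 : f b x₀ = -α := by
    have := hx₀ 1
    rw [s_symm hf]
    simpa using this
  have e : α • a + β • b = (t : Matrix (Fin n) (Fin n) F) *ᵥ x₀ - x₀ := by
    rw [hts x₀]
    unfold Tv
    rw [h1, h2]
    module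
  rw [e, ratl_sub, ← hr.mulVec_ratl, hts]
  unfold Tv
  rw [Submodule.mem_span_pair]
  refine ⟨-(f b (ratl ψ x₀)), f a (ratl ψ x₀), ?_⟩
  module

end Cfsg.Agent.Lib.Helper28.Os
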