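import Cfsg.Agent.Lib.Helper28.OsH

set_option autoImplicit false

namespace Cfsg.Agent.Lib.Helper28.Os

open Matrix Cfsg.Agent.Lib.Helper28.Sf Cfsg.Agent.Lib.Helper28.HForm
  Cfsg.Agent.Lib.Helper28.OGen Cfsg.Agent.Lib.Helper28.OMax Cfsg.Agent.Lib.Helper28.OQ
  Cfsg.Agent.Lib.Helper28.OMax2 Cfsg.Agent.Lib.Helper28.OIwa

variable {n : ℕ} {F : Type*} [Field F] {F₀ : Subfield F} {Q : (Fin n → F) → F}
  {f : (Fin n → F) → (Fin n → F) → F}
  {G H : Subgroup (Matrix.GeneralLinearGroup (Fin n) F)}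

local notation "GLn" => Matrix.GeneralLinearGroup (Fin n) F

/-- a vector orthogonal to all rational vectors vanishes -/
theorem RC.eq_zero_of_perp_rat (C : RC F₀ Q f) {y : Fin n → F}
    (h : ∀ x, Rat F₀ x → f x y = 0) : y = 0 := by
  have hf := C.hq.sym
  by_contra hne
  obtain ⟨z, hz⟩ := (hf.nondegenerate _ hne).1
  apply hz
  rw [f_eq_dot hf]
  have : rho f y = 0 := by
    funext i
    exact h _ (Rat.single i F₀.one_mem)
  rw [this, zero_dotProduct]

/-- a vector orthogonal to all rational vectors of `u^⊥` is a multiple of `u` -/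
theorem RC.perp_perp (C : RC F₀ Q f) {u : Fin n → F} (hu : Rat F₀ u) (hQu : Q u = 0)
    (hu0 : u ≠ 0) {y : Fin n → F} (h : ∀ v, Rat F₀ v → f u v = 0 → f y v = 0) :
    ∃ c : F, y = c • u := by
  have hf := C.hq.sym
  have hq := C.hq
  obtain ⟨u', hu', hQu', huu'⟩ := C.ex_partner0 hu hQu hu0
  have hu'u : f u' u = 1 := by rw [s_symm hf, huu']
  have huu : f u u = 0 := f_sing hq hQu
  refine ⟨f y u', ?_⟩
  have h0 : y - f y u' • u = 0 := by
    apply C.eq_zero_of_perp_rat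
    intro x hx
    obtain ⟨hp1, hp2⟩ := prj_perp hq hQu hQu' huu' x
    have h1 : f y (prj f u u' x) = 0 := h _ (prj_rat C hu hu' hx) hp1
    have h2 : f y u = 0 := h u hu huu
    conv_lhs => rw [prj_decomp (f := f) u u' x]
    rw [hf.add_left, hf.add_left, hf.smul_left, hf.smul_left, f_sub_right hf, f_sub_right hf,
      f_sub_right hf, s_smul_right hf, s_smul_right hf, s_smul_right hf, s_symm hf _ y, h1,
      s_symm hf (prj f u u' x) u, hp1, huu, s_symm hf u y, h2, hu'u, s_symm hf u' y]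
    ring
  exact sub_eq_zero.mp h0

/-- transitivity of the rational Siegel elements: perpendicular case -/
theorem OC.trans_perp (C : OC F₀ Q f G H) {u w : Fin n → F} (hu : Rat F₀ u) (hw : Rat F₀ w)
    (hQu : Q u = 0) (hQw : Q w = 0) (huw : f u w = 0) (hu0 : u ≠ 0)
    (hind : w ∉ Submodule.span F {u}) :
    ∃ m ∈ H, m ∈ Cfsg.Geo.subfieldSubgroup F₀ (1 : GLn) ∧
      (m : Matrix (Fin n) (Fin n) F) *ᵥ w = u := by
  have hf := C.hf
  have hq := C.hq
  have hwu : f w u = 0 := by rw [s_symm hf, huw]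
  obtain ⟨c₁, hc₁, hQc₁, hc₁p, hwc₁⟩ := C.rc.ex_partner ![u] (fun j => by fin_cases j; exact hu)
    hw hQw (fun j => by fin_cases j; exact huw) (by
      rw [mem_span_single']
      rintro ⟨α, hα⟩
      exact hind (Submodule.mem_span_singleton.mpr ⟨α, hα⟩))
  have huc₁ : f u c₁ = 0 := hc₁p 0
  obtain ⟨c₂, hc₂, hQc₂, hc₂p, huc₂⟩ := C.rc.ex_partner ![w, c₁]
    (fun j => by fin_cases j; exact hw; exact hc₁) hu hQu
    (fun j => by fin_cases j; exact hwu; simpa using (by rw [s_symm hf, huc₁] : f c₁ u = 0)) (by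
      rw [mem_span_pair']
      rintro ⟨α, β, hαβ⟩
      have h1 : f w u = β := by
        rw [← hαβ, f_add_right hf, s_smul_right hf, s_smul_right hf, f_sing hq hQw, hwc₁]
        ring
      rw [hwu] at h1
      rw [← h1, zero_smul, add_zero] at hαβ
      have hα : α ≠ 0 := by
        rintro rfl
        rw [zero_smul] at hαβ
        exact hu0 hαβ.symm
      apply hind
      rw [Submodule.mem_span_singleton]
      refine ⟨α⁻¹, ?_⟩
      rw [← hαβ, smul_smul, inv_mul_cancel₀ hα, one_smul])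
  have hwc₂ : f w c₂ = 0 := hc₂p 0
  have hc₁c₂ : f c₁ c₂ = 0 := hc₂p 1
  obtain ⟨c, hc⟩ : ∃ c, c = c₁ + c₂ := ⟨_, rfl⟩
  have hcr : Rat F₀ c := by rw [hc]; exact hc₁.add hc₂
  have hQc : Q c = 0 := by rw [hc, hq.polar, hQc₁, hQc₂, hc₁c₂]; ring
  have hcw : f c w = 1 := by
    rw [hc, hf.add_left, s_symm hf c₁ w, hwc₁, s_symm hf c₂ w, hwc₂, add_zero]
  have hcu : f c u = 1 := by
    rw [hc, hf.add_left, s_symm hf c₁ u, huc₁, s_symm hf c₂ u, huc₂, zero_add]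
  have hc0 : c ≠ 0 := by
    rintro rfl
    rw [f_zero_left hf] at hcw
    exact zero_ne_one hcw
  have hcy : f c (u - w) = 0 := by rw [f_sub_right hf, hcu, hcw, sub_self]
  obtain ⟨t, htG, hts⟩ := ex_sgg hq C.vf C.sg hQc hc0 hcy
  have hyr : Rat F₀ (u - w) := hu.sub hw
  refine ⟨t, C.rat_sgg_mem hcr hyr hQc hc0 hcy hts, hts.mem_sub C.rc hcr hyr, ?_⟩
  rw [hts w]
  unfold Sgm
  have e1 : f (u - w) w = 0 := by rw [f_sub_left hf, huw, f_sing hq hQw, sub_self]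
  have e2 : Q (u - w) = 0 := by rw [Q_sub hq, hQu, hQw, huw]; ring
  rw [hcw, e1, e2]
  module

/-- transitivity of `H ∩ sub` on rational singular points -/
theorem OC.trans [Finite F] (C : OC F₀ Q f G H) {u w : Fin n → F} (hu : Rat F₀ u)
    (hw : Rat F₀ w) (hQu : Q u = 0) (hQw : Q w = 0) (hu0 : u ≠ 0) (hw0 : w ≠ 0) :
    ∃ m ∈ H, m ∈ Cfsg.Geo.subfieldSubgroup F₀ (1 : GLn) ∧
      ∃ c : F, (m : Matrix (Fin n) (Fin n) F) *ᵥ w = c • u := by
  have hf := C.hf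
  have hq := C.hq
  have hn := C.hn
  by_cases h1 : w ∈ Submodule.span F {u}
  · obtain ⟨a, ha⟩ := Submodule.mem_span_singleton.mp h1
    exact ⟨1, H.one_mem, Subgroup.one_mem _, a, by rw [Units.val_one, Matrix.one_mulVec, ha]⟩
  by_cases h2 : f u w = 0
  · obtain ⟨m, hm, hms, hmw⟩ := C.trans_perp hu hw hQu hQw h2 hu0 h1
    exact ⟨m, hm, hms, 1, by rw [hmw, one_smul]⟩
  obtain ⟨z, hz, hQz, hzp, hzn⟩ := C.rc.ex_rs ![u, w]
    (fun j => by fin_cases j; exact hu; exact hw) (by omega)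
  have huz : f u z = 0 := hzp 0
  have hwz : f w z = 0 := hzp 1
  have hz0 : z ≠ 0 := by
    rintro rfl
    exact hzn (Submodule.zero_mem _)
  obtain ⟨m₁, hm₁, hm₁s, hm₁w⟩ := C.trans_perp hz hw hQz hQw (by rw [s_symm hf, hwz]) hz0 (by
    intro hm
    obtain ⟨a, ha⟩ := Submodule.mem_span_singleton.mp hm
    apply h2
    rw [← ha, s_smul_right hf, huz, mul_zero])
  obtain ⟨m₂, hm₂, hm₂s, hm₂z⟩ := C.trans_perp hu hz hQu hQz huz hu0 (by
    intro hm
    obtain ⟨a, ha⟩ := Submodule.mem_span_singleton.mp hm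
    apply hzn
    rw [mem_span_pair']
    exact ⟨a, 0, by rw [zero_smul, add_zero, ha]⟩)
  refine ⟨m₂ * m₁, H.mul_mem hm₂ hm₁, Subgroup.mul_mem _ hm₂s hm₁s, 1, ?_⟩
  rw [Cfsg.Agent.S5643.mul_mv, hm₁w, hm₂z, one_smul]

/-- (E1): an element of `H` mapping a rational singular point to a rational point lies in the
subfield group -/
theorem OC.mem_sub_of_map [Finite F] (C : OC F₀ Q f G H)
    (hA : ∀ u v, TP F₀ Q f u v → ∀ a, a ∈ AA f H u v → a ∈ F₀)
    {h : GLn} (hh : h ∈ H) {u : Fin n → F} (hu : Rat F₀ u) (hQu : Q u = 0) (hu0 : u ≠ 0)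
    {c : F} {w₀ : Fin n → F} (hw₀ : Rat F₀ w₀)
    (e : (h : Matrix (Fin n) (Fin n) F) *ᵥ u = c • w₀) :
    h ∈ Cfsg.Geo.subfieldSubgroup F₀ (1 : GLn) := by
  have hf := C.hf
  have hq := C.hq
  have hne : (h : Matrix (Fin n) (Fin n) F) *ᵥ u ≠ 0 := by
    intro h0
    exact hu0 (Cfsg.Agent.Lib.Helper28.SubF.gl_inj h h0)
  have hc0 : c ≠ 0 := by
    rintro rfl
    rw [zero_smul] at e
    exact hne e
  have hw₀0 : w₀ ≠ 0 := by
    rintro rfl
    rw [smul_zero] at e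
    exact hne e
  have hQw₀ : Q w₀ = 0 := by
    have h1 := C.isoQ hh u
    rw [e, hq.smul, hQu] at h1
    rcases mul_eq_zero.mp h1 with h2 | h2
    · rcases mul_eq_zero.mp h2 with h3 | h3 <;> exact absurd h3 hc0
    · exact h2
  obtain ⟨m, hm, hms, c', hmw⟩ := C.trans hu hw₀ hQu hQw₀ hu0 hw₀0
  have h1 : ((m * h : GLn) : Matrix (Fin n) (Fin n) F) *ᵥ u = (c * c') • u := by
    rw [Cfsg.Agent.S5643.mul_mv, e, Matrix.mulVec_smul, hmw, smul_smul]
  have h2 := C.GP0 hA (H.mul_mem hm hh) hu hQu hu0 h1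
  have h3 : h = m⁻¹ * (m * h) := by group
  rw [h3]
  exact Subgroup.mul_mem _ (Subgroup.inv_mem _ hms) h2

/-- (E2): if all long root elements of `H` are rational then `H` lies in the subfield group -/
theorem OC.LR_imp [Finite F] (C : OC F₀ Q f G H)
    (hA : ∀ u v, TP F₀ Q f u v → ∀ a, a ∈ AA f H u v → a ∈ F₀)
    (hLR : ∀ t ∈ H, ∀ a b : Fin n → F, Q a = 0 → Q b = 0 → f a b = 0 → IsSg f t a b 1 →
      RatM F₀ (t : Matrix (Fin n) (Fin n) F)) :
    H ≤ Cfsg.Geo.subfieldSubgroup F₀ (1 : GLn) := by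
  have hf := C.hf
  have hq := C.hq
  have hn := C.hn
  intro h hh
  obtain ⟨u, v₁, tp⟩ := C.ex_TP
  obtain ⟨v₂, hv₂, hQv₂, hv₂p, hv₂n⟩ := C.rc.ex_rs ![u, v₁]
    (fun j => by fin_cases j; exact tp.ru; exact tp.rv) (by omega)
  have huv₂ : f u v₂ = 0 := hv₂p 0
  -- the two conjugated long root elements
  have key : ∀ v : Fin n → F, Rat F₀ v → Q v = 0 → f u v = 0 → v ∉ Submodule.span F {u} →
      RatCl F₀ (Submodule.span F {(h : Matrix (Fin n) (Fin n) F) *ᵥ u,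
        (h : Matrix (Fin n) (Fin n) F) *ᵥ v}) := by
    intro v hv hQv huv hvn
    obtain ⟨t, hts⟩ := C.sg.ex u v 1 tp.qu hQv huv
    have htH : t ∈ H := C.rat_sg_mem tp.ru hv F₀.one_mem tp.qu hQv huv hts
    have hts' := isSg_conj (k := h) (C.isof hh) hts
    have hr := hLR _ (H.mul_mem (H.mul_mem hh htH) (H.inv_mem hh)) _ _
      (by rw [C.isoQ hh, tp.qu]) (by rw [C.isoQ hh, hQv]) (by rw [C.isof hh, huv]) hts'
    apply isSg_ratCl hf hts' _ _ hr
    · intro h0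
      exact tp.u0 (Cfsg.Agent.Lib.Helper28.SubF.gl_inj h h0)
    · intro hm
      obtain ⟨a, ha⟩ := Submodule.mem_span_singleton.mp hm
      apply hvn
      rw [Submodule.mem_span_singleton]
      refine ⟨a, ?_⟩
      apply sub_eq_zero.mp
      apply Cfsg.Agent.Lib.Helper28.SubF.gl_inj h
      rw [Matrix.mulVec_sub, Matrix.mulVec_smul, ha, sub_self]
  have hv₂n' : v₂ ∉ Submodule.span F {u} := by
    intro hm
    obtain ⟨a, ha⟩ := Submodule.mem_span_singleton.mp hm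
    apply hv₂n
    rw [mem_span_pair']
    exact ⟨a, 0, by rw [zero_smul, add_zero, ha]⟩
  have k1 := key v₁ tp.rv tp.qv tp.uv tp.ind
  have k2 := key v₂ hv₂ hQv₂ huv₂ hv₂n'
  have hne : (h : Matrix (Fin n) (Fin n) F) *ᵥ u ≠ 0 := by
    intro h0
    exact tp.u0 (Cfsg.Agent.Lib.Helper28.SubF.gl_inj h h0)
  obtain ⟨c, hc0, hc⟩ := (k1.inf k2).line (w := (h : Matrix (Fin n) (Fin n) F) *ᵥ u)
    ⟨Submodule.subset_span (by simp), Submodule.subset_span (by simp)⟩ hne (by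
      rintro y ⟨hy1, hy2⟩
      obtain ⟨a₁, b₁, e1⟩ := Submodule.mem_span_pair.mp hy1
      obtain ⟨a₂, b₂, e2⟩ := Submodule.mem_span_pair.mp hy2
      have e3 : (a₁ - a₂) • u + b₁ • v₁ - b₂ • v₂ = 0 := by
        apply Cfsg.Agent.Lib.Helper28.SubF.gl_inj h
        rw [Matrix.mulVec_sub, Matrix.mulVec_add, Matrix.mulVec_smul, Matrix.mulVec_smul,
          Matrix.mulVec_smul]
        have e4 := e1.trans e2.symm
        rw [sub_smul]
        linear_combination (exp := 1) e4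
      have hb₂ : b₂ = 0 := by
        by_contra hb
        apply hv₂n
        rw [mem_span_pair']
        refine ⟨b₂⁻¹ * (a₁ - a₂), b₂⁻¹ * b₁, ?_⟩
        have e5 : b₂ • v₂ = (a₁ - a₂) • u + b₁ • v₁ := (sub_eq_zero.mp e3).symm
        have e6 : v₂ = b₂⁻¹ • (b₂ • v₂) := by rw [smul_smul, inv_mul_cancel₀ hb, one_smul]
        rw [e6, e5, smul_add, smul_smul, smul_smul]
      refine ⟨a₂, ?_⟩
      rw [← e2, hb₂, zero_smul, add_zero])
  have e7 : (h : Matrix (Fin n) (Fin n) F) *ᵥ u =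
      c⁻¹ • (c • ((h : Matrix (Fin n) (Fin n) F) *ᵥ u)) := by
    rw [smul_smul, inv_mul_cancel₀ hc0, one_smul]
  exact C.mem_sub_of_map hA hh tp.ru tp.qu tp.u0 hc e7

end Cfsg.Agent.Lib.Helper28.Os
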