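import Cfsg.Agent.Lib.Helper28.OsI

set_option autoImplicit false

namespace Cfsg.Agent.Lib.Helper28.Os

open Matrix Cfsg.Agent.Lib.Helper28.Sf Cfsg.Agent.Lib.Helper28.HForm
  Cfsg.Agent.Lib.Helper28.OGen Cfsg.Agent.Lib.Helper28.OMax Cfsg.Agent.Lib.Helper28.OQ
  Cfsg.Agent.Lib.Helper28.OMax2 Cfsg.Agent.Lib.Helper28.OIwa

variable {n : ℕ} {F : Type*} [Field F] {F₀ : Subfield F} {Q : (Fin n → F) → F}
  {f : (Fin n → F) → (Fin n → F) → F}
  {G H : Subgroup (Matrix.GeneralLinearGroup (Fin n) F)}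

local notation "GLn" => Matrix.GeneralLinearGroup (Fin n) F

/-- (D1) -/
theorem OC.D1 [Finite F] (C : OC F₀ Q f G H)
    (hA : ∀ u v, TP F₀ Q f u v → ∀ a, a ∈ AA f H u v → a ∈ F₀)
    {h : GLn} (hh : h ∈ H) {u : Fin n → F} (hu : Rat F₀ u) (hQu : Q u = 0) (hu0 : u ≠ 0)
    {x z : Fin n → F} (tp : TP F₀ Q f x z)
    (hxw : f x ((h : Matrix (Fin n) (Fin n) F) *ᵥ u) = 0)
    (hzw : f z ((h : Matrix (Fin n) (Fin n) F) *ᵥ u) = 0)
    (hwn : (h : Matrix (Fin n) (Fin n) F) *ᵥ u ∉ Submodule.span F (Set.range ![x, z])) :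
    ∃ L : Submodule F (Fin n → F), RatCl F₀ L ∧ (h : Matrix (Fin n) (Fin n) F) *ᵥ u ∈ L ∧
      ∃ p : Fin n → F, p ≠ 0 ∧ p ∈ Submodule.span F (Set.range ![x, z]) ∧
        ∀ y ∈ L, ∃ α β : F, y = α • ((h : Matrix (Fin n) (Fin n) F) *ᵥ u) + β • p := by
  have hf := C.hf
  have hq := C.hq
  obtain ⟨w, hw⟩ : ∃ w, w = (h : Matrix (Fin n) (Fin n) F) *ᵥ u := ⟨_, rfl⟩
  rw [← hw] at hxw hzw hwn ⊢
  have hQw : Q w = 0 := by rw [hw, C.isoQ hh, hQu]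
  have hw0 : w ≠ 0 := by
    rintro rfl
    exact hwn (Submodule.zero_mem _)
  have hzx : f z x = 0 := by rw [s_symm hf, tp.uv]
  have hxx : f x x = 0 := f_sing hq tp.qu
  have hzz : f z z = 0 := f_sing hq tp.qv
  -- step 1: a suitable `v`
  obtain ⟨v, hv, huv, hpv⟩ : ∃ v, Rat F₀ v ∧ f u v = 0 ∧
      f z ((h : Matrix (Fin n) (Fin n) F) *ᵥ v) • x -
        f x ((h : Matrix (Fin n) (Fin n) F) *ᵥ v) • z ≠ 0 := by
    by_contra hcon
    push Not at hcon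
    have h1 : ∀ v, Rat F₀ v → f u v = 0 →
        f (((h⁻¹ : GLn) : Matrix (Fin n) (Fin n) F) *ᵥ z) v = 0 := by
      intro v hv huv
      have h2 := hcon v hv huv
      have h3 : f x ((h : Matrix (Fin n) (Fin n) F) *ᵥ v) = 0 := by
        by_contra hne
        apply tp.ind
        rw [Submodule.mem_span_singleton]
        refine ⟨(f x ((h : Matrix (Fin n) (Fin n) F) *ᵥ v))⁻¹ *
          f z ((h : Matrix (Fin n) (Fin n) F) *ᵥ v), ?_⟩
        have h4 : f x ((h : Matrix (Fin n) (Fin n) F) *ᵥ v) • z =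
            f z ((h : Matrix (Fin n) (Fin n) F) *ᵥ v) • x := (sub_eq_zero.mp h2).symm
        rw [mul_smul, ← h4, smul_smul, inv_mul_cancel₀ hne, one_smul]
      rw [h3, zero_smul, sub_zero] at h2
      have h5 : f z ((h : Matrix (Fin n) (Fin n) F) *ᵥ v) = 0 := by
        rcases smul_eq_zero.mp h2 with h6 | h6
        · exact h6
        · exact absurd h6 tp.u0
      rw [← C.isof hh, Cfsg.Agent.S5643.inv_mv', h5]
    obtain ⟨c, hc⟩ := C.rc.perp_perp hu hQu hu0 h1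
    have h2 : z = c • w := by
      rw [hw, ← Matrix.mulVec_smul, ← hc, Cfsg.Agent.S5643.inv_mv']
    have hc0 : c ≠ 0 := by
      rintro rfl
      rw [zero_smul] at h2
      exact tp.v0 h2
    apply hwn
    rw [mem_span_pair']
    refine ⟨0, c⁻¹, ?_⟩
    rw [h2, smul_smul, inv_mul_cancel₀ hc0, one_smul, zero_smul, zero_add]
  obtain ⟨p, hp⟩ : ∃ p, p = f z ((h : Matrix (Fin n) (Fin n) F) *ᵥ v) • x -
      f x ((h : Matrix (Fin n) (Fin n) F) *ᵥ v) • z := ⟨_, rfl⟩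
  rw [← hp] at hpv
  have hpm : p ∈ Submodule.span F (Set.range ![x, z]) := by
    rw [mem_span_pair']
    exact ⟨f z ((h : Matrix (Fin n) (Fin n) F) *ᵥ v),
      -(f x ((h : Matrix (Fin n) (Fin n) F) *ᵥ v)), by rw [hp, neg_smul, sub_eq_add_neg]⟩
  have hQp : Q p = 0 := by
    rw [hp, Q_sub hq, hq.smul, hq.smul, tp.qu, tp.qv, hf.smul_left, s_smul_right hf, tp.uv]
    ring
  have hwp : f w p = 0 := by
    rw [hp, f_sub_right hf, s_smul_right hf, s_smul_right hf, s_symm hf w x, hxw, s_symm hf w z,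
      hzw]
    ring
  have hpx : f p x = 0 := by
    rw [hp, f_sub_left hf, hf.smul_left, hf.smul_left, hxx, hzx]
    ring
  -- step 2
  obtain ⟨tv, htvG, htvs⟩ := ex_sgg hq C.vf C.sg hQu hu0 huv
  have htvH : tv ∈ H := C.rat_sgg_mem hu hv hQu hu0 huv htvs
  have hs := htvs.conj hq (C.isoQ hh)
  rw [← hw] at hs
  have hsH : h * tv * h⁻¹ ∈ H := H.mul_mem (H.mul_mem hh htvH) (H.inv_mem hh)
  obtain ⟨g, hgs⟩ := C.sg.ex z x 1 tp.qv tp.qu hzx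
  have hgH : g ∈ H := C.rat_sg_mem tp.rv tp.ru F₀.one_mem tp.qv tp.qu hzx hgs
  have hgw : (g : Matrix (Fin n) (Fin n) F) *ᵥ w = w := by
    rw [hgs w]
    exact Tv_fix hf hzw hxw 1
  have hwhv : f w ((h : Matrix (Fin n) (Fin n) F) *ᵥ v) = 0 := by
    rw [hw, C.isof hh, huv]
  have hc := hs.commutator hq hQw hwhv (C.isoQ hgH) hgw
  have e1 : (g : Matrix (Fin n) (Fin n) F) *ᵥ ((h : Matrix (Fin n) (Fin n) F) *ᵥ v) -
      (h : Matrix (Fin n) (Fin n) F) *ᵥ v = p := by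
    rw [hgs, hp]
    unfold Tv
    module
  rw [e1] at hc
  obtain ⟨k, hk⟩ : ∃ k, k = g * (h * tv * h⁻¹) * g⁻¹ * (h * tv * h⁻¹)⁻¹ := ⟨_, rfl⟩
  rw [← hk] at hc
  have hkH : k ∈ H := by
    rw [hk]
    exact H.mul_mem (H.mul_mem (H.mul_mem hgH hsH) (H.inv_mem hgH)) (H.inv_mem hsH)
  have hkx : (k : Matrix (Fin n) (Fin n) F) *ᵥ x = (1 : F) • x := by
    rw [hc x]
    unfold Sgm
    rw [s_symm hf w x, hxw, hpx]
    module
  have hksub := C.GP0 hA hkH tp.ru tp.qu tp.u0 hkx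
  have hks : IsSg f k w p 1 := isSg_of_isSgg hf hQp hq (by rw [one_smul]; exact hc)
  have hr : RatM F₀ (k : Matrix (Fin n) (Fin n) F) :=
    unip_rat hf (f_sing hq hQw) (f_sing hq hQp) hwp hks hksub
  have hpn : p ∉ Submodule.span F {w} := by
    intro hm
    obtain ⟨a, ha⟩ := Submodule.mem_span_singleton.mp hm
    have ha0 : a ≠ 0 := by
      rintro rfl
      rw [zero_smul] at ha
      exact hpv ha.symm
    apply hwn
    have : w = a⁻¹ • p := by rw [← ha, smul_smul, inv_mul_cancel₀ ha0, one_smul]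
    rw [this]
    exact Submodule.smul_mem _ _ hpm
  refine ⟨Submodule.span F {w, p}, isSg_ratCl hf hks hw0 hpn hr,
    Submodule.subset_span (by simp), p, hpv, hpm, ?_⟩
  intro y hy
  obtain ⟨α, β, e⟩ := Submodule.mem_span_pair.mp hy
  exact ⟨α, β, e.symm⟩

/-- (D') -/
theorem OC.D' [Finite F] (C : OC F₀ Q f G H)
    (hA : ∀ u v, TP F₀ Q f u v → ∀ a, a ∈ AA f H u v → a ∈ F₀)
    {h : GLn} (hh : h ∈ H) {u : Fin n → F} (hu : Rat F₀ u) (hQu : Q u = 0) (hu0 : u ≠ 0)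
    {x z : Fin n → F} (tp : TP F₀ Q f x z)
    (hxw : f x ((h : Matrix (Fin n) (Fin n) F) *ᵥ u) = 0)
    (hzw : f z ((h : Matrix (Fin n) (Fin n) F) *ᵥ u) = 0) :
    ∃ c : F, c ≠ 0 ∧ Rat F₀ (c • ((h : Matrix (Fin n) (Fin n) F) *ᵥ u)) := by
  have hf := C.hf
  have hq := C.hq
  have hn := C.hn
  have hw0 : (h : Matrix (Fin n) (Fin n) F) *ᵥ u ≠ 0 := by
    intro h0
    exact hu0 (Cfsg.Agent.Lib.Helper28.SubF.gl_inj h h0)
  -- step A
  obtain ⟨a₁, a₂, ha₁, ha₂, hwa⟩ : ∃ a₁ a₂ : Fin n → F, Rat F₀ a₁ ∧ Rat F₀ a₂ ∧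
      (h : Matrix (Fin n) (Fin n) F) *ᵥ u ∈ Submodule.span F (Set.range ![a₁, a₂]) := by
    by_cases hwn : (h : Matrix (Fin n) (Fin n) F) *ᵥ u ∈ Submodule.span F (Set.range ![x, z])
    · exact ⟨x, z, tp.ru, tp.rv, hwn⟩
    obtain ⟨L, hL, hwL, p, -, -, hLp⟩ := C.D1 hA hh hu hQu hu0 tp hxw hzw hwn
    obtain ⟨p₁, p₂, hp₁, hp₂, -, -, α, β, e⟩ := hL.hull2 hwL hLp
    refine ⟨p₁, p₂, hp₁, hp₂, ?_⟩
    rw [mem_span_pair']
    exact ⟨α, β, e.symm⟩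
  obtain ⟨α₀, β₀, hαβ⟩ := mem_span_pair'.mp hwa
  -- step B
  have hfam2 : ∀ j, Rat F₀ (![a₁, a₂] j) := fun j => by fin_cases j; exact ha₁; exact ha₂
  obtain ⟨x₂, hx₂, hQx₂, hx₂p, hx₂n⟩ := C.rc.ex_rs ![a₁, a₂] hfam2 (by omega)
  have hfam3 : ∀ j, Rat F₀ (![a₁, a₂, x₂] j) := fun j => by
    fin_cases j
    · exact ha₁
    · exact ha₂
    · exact hx₂
  obtain ⟨z₂, hz₂, hQz₂, hz₂p, hz₂n⟩ := C.rc.ex_rs ![a₁, a₂, x₂] hfam3 (by omega)
  have indep : ∀ γ δ : F, γ • x₂ + δ • z₂ ∈ Submodule.span F (Set.range ![a₁, a₂]) →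
      γ = 0 ∧ δ = 0 := by
    intro γ δ hm
    obtain ⟨α, β, e⟩ := mem_span_pair'.mp hm
    have hδ : δ = 0 := by
      by_contra hδ
      apply hz₂n
      rw [mem_span_triple']
      refine ⟨δ⁻¹ * α, δ⁻¹ * β, -(δ⁻¹ * γ), ?_⟩
      have e2 : δ • z₂ = α • a₁ + β • a₂ - γ • x₂ := by rw [e]; abel
      have e3 : z₂ = δ⁻¹ • (δ • z₂) := by rw [smul_smul, inv_mul_cancel₀ hδ, one_smul]
      rw [e3, e2, smul_sub, smul_add, smul_smul, smul_smul, smul_smul, neg_smul, sub_eq_add_neg]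
    refine ⟨?_, hδ⟩
    by_contra hγ
    apply hx₂n
    rw [mem_span_pair']
    refine ⟨γ⁻¹ * α, γ⁻¹ * β, ?_⟩
    rw [hδ, zero_smul, add_zero] at e
    have e3 : x₂ = γ⁻¹ • (γ • x₂) := by rw [smul_smul, inv_mul_cancel₀ hγ, one_smul]
    rw [e3, ← e, smul_add, smul_smul, smul_smul]
  have hx₂0 : x₂ ≠ 0 := by
    rintro rfl
    exact hx₂n (Submodule.zero_mem _)
  have tp₂ : TP F₀ Q f x₂ z₂ := by
    refine ⟨hx₂, hz₂, hQx₂, hQz₂, hz₂p 2, hx₂0, ?_⟩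
    intro hm
    obtain ⟨a, ha⟩ := Submodule.mem_span_singleton.mp hm
    have := indep a (-1) (by
      rw [ha, neg_smul, one_smul, add_neg_cancel]
      exact Submodule.zero_mem _)
    exact absurd this.2 (by simp)
  have hperp : ∀ y : Fin n → F, f a₁ y = 0 → f a₂ y = 0 →
      f y ((h : Matrix (Fin n) (Fin n) F) *ᵥ u) = 0 := by
    intro y h1 h2
    rw [← hαβ, f_add_right hf, s_smul_right hf, s_smul_right hf, s_symm hf y a₁, h1,
      s_symm hf y a₂, h2]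
    ring
  have hx₂w := hperp x₂ (hx₂p 0) (hx₂p 1)
  have hz₂w := hperp z₂ (hz₂p 0) (hz₂p 1)
  have hwn₂ : (h : Matrix (Fin n) (Fin n) F) *ᵥ u ∉ Submodule.span F (Set.range ![x₂, z₂]) := by
    intro hm
    obtain ⟨γ, δ, e⟩ := mem_span_pair'.mp hm
    obtain ⟨hγ, hδ⟩ := indep γ δ (by rw [e]; exact hwa)
    rw [hγ, hδ, zero_smul, zero_smul, add_zero] at e
    exact hw0 e.symm
  obtain ⟨L₂, hL₂, hwL₂, p, hp0, hpm, hL₂p⟩ := C.D1 hA hh hu hQu hu0 tp₂ hx₂w hz₂w hwn₂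
  -- step C
  have hU := (ratCl_span (F₀ := F₀) ![a₁, a₂] hfam2).inf hL₂
  apply hU.line ⟨hwa, hwL₂⟩ hw0
  rintro y ⟨hy1, hy2⟩
  obtain ⟨α', β', e⟩ := hL₂p y hy2
  refine ⟨α', ?_⟩
  have hβ' : β' = 0 := by
    by_contra hβ'
    obtain ⟨γ, δ, e2⟩ := mem_span_pair'.mp hpm
    have h1 : p ∈ Submodule.span F (Set.range ![a₁, a₂]) := by
      have e3 : p = β'⁻¹ • (y - α' • ((h : Matrix (Fin n) (Fin n) F) *ᵥ u)) := by
        rw [e, add_sub_cancel_left, smul_smul, inv_mul_cancel₀ hβ', one_smul]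
      rw [e3]
      exact Submodule.smul_mem _ _ (Submodule.sub_mem _ hy1 (Submodule.smul_mem _ _ hwa))
    rw [← e2] at h1
    obtain ⟨hγ, hδ⟩ := indep γ δ h1
    rw [hγ, hδ, zero_smul, zero_smul, add_zero] at e2
    exact hp0 e2.symm
  rw [e, hβ', zero_smul, add_zero]

/-- (NR): for `h ∈ H` outside the subfield group, no rational totally singular pair is
orthogonal to the image of a rational singular vector -/
theorem OC.NR [Finite F] (C : OC F₀ Q f G H)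
    (hA : ∀ u v, TP F₀ Q f u v → ∀ a, a ∈ AA f H u v → a ∈ F₀)
    {h : GLn} (hh : h ∈ H) (hns : h ∉ Cfsg.Geo.subfieldSubgroup F₀ (1 : GLn))
    {u : Fin n → F} (hu : Rat F₀ u) (hQu : Q u = 0) (hu0 : u ≠ 0)
    {x z : Fin n → F} (tp : TP F₀ Q f x z)
    (hxw : f x ((h : Matrix (Fin n) (Fin n) F) *ᵥ u) = 0)
    (hzw : f z ((h : Matrix (Fin n) (Fin n) F) *ᵥ u) = 0) : False := by
  obtain ⟨c, hc0, hc⟩ := C.D' hA hh hu hQu hu0 tp hxw hzw
  apply hns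
  have e : (h : Matrix (Fin n) (Fin n) F) *ᵥ u =
      c⁻¹ • (c • ((h : Matrix (Fin n) (Fin n) F) *ᵥ u)) := by
    rw [smul_smul, inv_mul_cancel₀ hc0, one_smul]
  exact C.mem_sub_of_map hA hh hu hQu hu0 hc e

end Cfsg.Agent.Lib.Helper28.Os
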