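import Mathlib
import Cfsg.Agent.S0058

set_option autoImplicit false

namespace Cfsg.Agent.Lib.Helper28.Sf

/-- A self-normalizing abelian noncyclic `p`-subgroup `T` such that the centralizer of every
non-identity element of `T` lies in `T` is the whole group (Burnside's transfer theorem plus
generation by centralizers). -/
theorem frob_ab {G : Type*} [Group G] [Finite G] (p : ℕ) [Fact p.Prime] (T : Subgroup G)
    (hT : IsPGroup p T) (hcomm : ∀ a ∈ T, ∀ b ∈ T, a * b = b * a) (hnc : ¬ IsCyclic T)
    (hN : ∀ g : G, (∀ t ∈ T, g * t * g⁻¹ ∈ T) → g ∈ T)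
    (hF : ∀ g : G, ∀ a ∈ T, a ≠ 1 → g * a = a * g → g ∈ T) : ∀ g : G, g ∈ T := by
  classical
  -- `T` is a Sylow subgroup
  have hmax : ∀ {Q : Subgroup G}, IsPGroup p Q → T ≤ Q → Q = T := by
    intro Q hQ hTQ
    by_contra hne
    have hlt : T.subgroupOf Q < ⊤ := by
      rw [lt_top_iff_ne_top]
      intro htop
      apply hne
      apply le_antisymm _ hTQ
      intro x hx
      have : (⟨x, hx⟩ : Q) ∈ T.subgroupOf Q := by rw [htop]; trivial
      exact this
    have hnil : Group.IsNilpotent Q := hQ.isNilpotent
    have hnc' := (normalizerCondition_of_isNilpotent (G := Q)) (T.subgroupOf Q) hlt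
    obtain ⟨x, hx1, hx2⟩ := SetLike.exists_of_lt hnc'
    apply hx2
    show (x : G) ∈ T
    apply hN
    intro t ht
    rw [Subgroup.mem_normalizer_iff] at hx1
    have := (hx1 ⟨t, hTQ ht⟩).mp ht
    exact this
  let P : Sylow p G := ⟨T, hT, hmax⟩
  have hPT : (P : Subgroup G) = T := rfl
  have hP : Subgroup.normalizer ((P : Subgroup G) : Set G) ≤
      Subgroup.centralizer ((P : Subgroup G) : Set G) := by
    intro g hg
    rw [Subgroup.mem_normalizer_iff] at hg
    have hgT : g ∈ T := hN g (fun t ht => (hg t).mp ht)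
    rw [Subgroup.mem_centralizer_iff]
    intro t ht
    exact hcomm t ht g hgT
  have hcompl := MonoidHom.ker_transferSylow_isComplement' P hP
  have hndvd := MonoidHom.not_dvd_card_ker_transferSylow P hP
  set N : Subgroup G := (MonoidHom.transferSylow P hP).ker with hNdef
  have hdisj : N ⊓ T = ⊥ := by
    have := hcompl.disjoint
    rw [disjoint_iff] at this
    exact this
  have hcomm' : IsMulCommutative T := ⟨⟨fun a b => Subtype.ext (hcomm a a.2 b b.2)⟩⟩
  have hnorm : T ≤ Subgroup.normalizer (N : Set G) := by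
    intro t _
    have : N.Normal := by rw [hNdef]; infer_instance
    rw [Subgroup.mem_normalizer_iff]
    intro x
    constructor
    · intro hx; exact this.conj_mem x hx t
    · intro hx
      have := this.conj_mem _ hx t⁻¹
      simpa [mul_assoc] using this
  have hcop : (Nat.card T).Coprime (Nat.card N) := by
    obtain ⟨k, hk⟩ := hT.exists_card_eq
    rw [hk]
    exact Nat.Coprime.pow_left k ((Nat.Prime.coprime_iff_not_dvd Fact.out).mpr hndvd)
  have hgen := Cfsg.Agent.S0058.result T N hnc hnorm hcop
  have hNbot : N = ⊥ := by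
    rw [← hgen]
    rw [eq_bot_iff]
    apply iSup₂_le
    intro a ha
    intro g hg
    rw [Subgroup.mem_inf] at hg
    have hga : g * a = a * g := by
      have := Subgroup.mem_centralizer_iff.mp hg.2 a (Set.mem_singleton a)
      exact this.symm
    have hgT : g ∈ T := hF g a ha.1 ha.2 hga
    have : g ∈ N ⊓ T := ⟨hg.1, hgT⟩
    rw [hdisj] at this
    exact this
  have htop : T = ⊤ := by
    have h1 : Subgroup.IsComplement' (⊥ : Subgroup G) T := by
      rw [← hNbot]; exact hcompl
    exact Subgroup.isComplement'_bot_left.mp h1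
  intro g
  rw [htop]
  trivial

end Cfsg.Agent.Lib.Helper28.Sf
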