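import Cfsg.Agent.Lib.Helper28.OsJ
import Cfsg.Agent.Lib.Helper28.SfE

set_option autoImplicit false

namespace Cfsg.Agent.Lib.Helper28.Os

open Matrix Cfsg.Agent.Lib.Helper28.Sf

variable {F : Type*} [Field F]

/-- upper unitriangular elements of `SL₂` -/
def Ubar (a : F) : Matrix.SpecialLinearGroup (Fin 2) F :=
  ⟨!![1, a; 0, 1], by simp [Matrix.det_fin_two]⟩

/-- lower unitriangular elements of `SL₂` -/
def Lbar (b : F) : Matrix.SpecialLinearGroup (Fin 2) F :=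
  ⟨!![1, 0; b, 1], by simp [Matrix.det_fin_two]⟩

theorem Ubar_mul (a b : F) : Ubar a * Ubar b = Ubar (a + b) := by
  apply Subtype.ext
  rw [Matrix.SpecialLinearGroup.coe_mul]
  ext i j
  fin_cases i <;> fin_cases j <;> simp [Ubar, Matrix.mul_apply, Fin.sum_univ_two, add_comm]

theorem Ubar_zero : Ubar (0 : F) = 1 := by
  apply Subtype.ext
  ext i j
  fin_cases i <;> fin_cases j <;> simp [Ubar]

theorem Ubar_inv (a : F) : (Ubar a)⁻¹ = Ubar (-a) := by
  apply inv_eq_of_mul_eq_one_right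
  rw [Ubar_mul, add_neg_cancel, Ubar_zero]

theorem Ubar_pow (a : F) (m : ℕ) : Ubar a ^ m = Ubar ((m : F) * a) := by
  induction m with
  | zero => rw [pow_zero, Nat.cast_zero, zero_mul, Ubar_zero]
  | succ k ih =>
    rw [pow_succ, ih, Ubar_mul]
    congr 1
    push_cast
    ring

theorem Ubar_zpow (a : F) (m : ℤ) : Ubar a ^ m = Ubar ((m : F) * a) := by
  rcases Int.eq_nat_or_neg m with ⟨k, rfl | rfl⟩
  · rw [zpow_natCast, Int.cast_natCast, Ubar_pow]
  · rw [_root_.zpow_neg, zpow_natCast, Ubar_pow, Ubar_inv, Int.cast_neg, Int.cast_natCast,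
      neg_mul]

theorem Ubar_entry (a : F) : (Ubar a).1 0 1 = a ∧ (Ubar a).1 1 0 = 0 ∧ (Ubar a).1 0 0 = 1 ∧
    (Ubar a).1 1 1 = 1 := by
  simp [Ubar]

theorem Ubar_inj {a b : F} (h : Ubar a = Ubar b) : a = b := by
  have := congrArg (fun A : Matrix.SpecialLinearGroup (Fin 2) F => A.1 0 1) h
  simpa [Ubar] using this

theorem eq_Ubar {A : Matrix.SpecialLinearGroup (Fin 2) F} (h00 : A.1 0 0 = 1)
    (h10 : A.1 1 0 = 0) : A = Ubar (A.1 0 1) := by
  have hdet := A.2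
  rw [Matrix.det_fin_two, h00, h10, mul_zero, sub_zero, one_mul] at hdet
  apply Subtype.ext
  ext i j
  fin_cases i <;> fin_cases j <;> simp [Ubar, h00, h10, hdet]

theorem conj_entry (A : Matrix.SpecialLinearGroup (Fin 2) F) (e : F) :
    (A * Ubar e * A⁻¹).1 1 0 = -(A.1 1 0 * A.1 1 0 * e) := by
  rw [Matrix.SpecialLinearGroup.coe_mul, Matrix.SpecialLinearGroup.coe_mul,
    Matrix.SpecialLinearGroup.coe_inv, Matrix.adjugate_fin_two]
  simp [Ubar, Matrix.mul_apply, Fin.sum_univ_two]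
  ring

theorem comm_entry (A : Matrix.SpecialLinearGroup (Fin 2) F) (e : F)
    (h : A * Ubar e = Ubar e * A) : e * A.1 1 0 = 0 := by
  have := congrArg (fun B : Matrix.SpecialLinearGroup (Fin 2) F => B.1 0 0) h
  simp only [Matrix.SpecialLinearGroup.coe_mul] at this
  simp [Ubar, Matrix.mul_apply, Fin.sum_univ_two] at this
  rcases this with h1 | h1
  · rw [h1, zero_mul]
  · rw [h1, mul_zero]

/-- the group of upper unitriangular matrices with parameter in an additive subgroup -/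
def UT (W : AddSubgroup F) : Subgroup (Matrix.SpecialLinearGroup (Fin 2) F) where
  carrier := {A | ∃ c ∈ W, A = Ubar c}
  one_mem' := ⟨0, W.zero_mem, Ubar_zero.symm⟩
  mul_mem' := by
    rintro _ _ ⟨a, ha, rfl⟩ ⟨b, hb, rfl⟩
    exact ⟨a + b, W.add_mem ha hb, Ubar_mul a b⟩
  inv_mem' := by
    rintro _ ⟨a, ha, rfl⟩
    exact ⟨-a, W.neg_mem ha, Ubar_inv a⟩

/-- the Frobenius argument in `SL₂` -/
theorem sl2_frob [Finite F] (p : ℕ) [Fact p.Prime] [CharP F p] (F₀ : Subfield F)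
    (K : Subgroup (Matrix.SpecialLinearGroup (Fin 2) F)) (W : AddSubgroup F)
    (hTK : ∀ c ∈ W, Ubar c ∈ K)
    (hP2 : ∀ A ∈ K, A.1 1 0 = 0 → ∃ c ∈ W, A = Ubar c)
    (hW : ∃ c₁ ∈ W, ∃ c₂ ∈ W, c₁ ≠ 0 ∧ ∀ a ∈ F₀, c₂ ≠ a * c₁) :
    ∀ A ∈ K, A.1 1 0 = 0 := by
  obtain ⟨c₁, hc₁, c₂, hc₂, hc₁0, hc₁₂⟩ := hW
  have hfinS : Finite (Matrix.SpecialLinearGroup (Fin 2) F) :=
    Finite.of_injective (fun A => A.1) Subtype.val_injective
  have hTle : UT W ≤ K := by
    rintro _ ⟨c, hc, rfl⟩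
    exact hTK c hc
  have hpg : IsPGroup p (UT W) := by
    rintro ⟨_, c, hc, rfl⟩
    refine ⟨1, ?_⟩
    apply Subtype.ext
    rw [pow_one]
    show Ubar c ^ p = 1
    rw [Ubar_pow, CharP.cast_eq_zero F p, zero_mul, Ubar_zero]
  have hnc : ¬ IsCyclic (UT W) := by
    intro hcyc
    obtain ⟨⟨_, c₀, hc₀, rfl⟩, hgen⟩ := hcyc.exists_generator
    have key : ∀ c ∈ W, ∃ m : ℤ, c = (m : F) * c₀ := by
      intro c hc
      obtain ⟨m, hm⟩ := Subgroup.mem_zpowers_iff.mp (hgen ⟨Ubar c, c, hc, rfl⟩)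
      have hm' : Ubar c₀ ^ m = Ubar c := congrArg Subtype.val hm
      rw [Ubar_zpow] at hm'
      exact ⟨m, (Ubar_inj hm').symm⟩
    obtain ⟨m₁, h1⟩ := key c₁ hc₁
    obtain ⟨m₂, h2⟩ := key c₂ hc₂
    have hm₁ : (m₁ : F) ≠ 0 := by
      intro h0
      rw [h0, zero_mul] at h1
      exact hc₁0 h1
    apply hc₁₂ ((m₂ : F) / (m₁ : F)) (F₀.div_mem (intCast_mem F₀ m₂) (intCast_mem F₀ m₁))
    rw [h2, h1]
    field_simp
  have hall := frob_ab (G := K) p ((UT W).subgroupOf K) hpg.comap_subtype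
    (by
      rintro a ⟨ca, _, ha⟩ b ⟨cb, _, hb⟩
      apply Subtype.ext
      show a.1 * b.1 = b.1 * a.1
      have ha' : a.1 = Ubar ca := ha
      have hb' : b.1 = Ubar cb := hb
      rw [ha', hb', Ubar_mul, Ubar_mul, add_comm])
    (fun hcyc => hnc ((Subgroup.subgroupOfEquivOfLe hTle).isCyclic.mp hcyc))
    (by
      intro g hg
      have h1 : g.1 * Ubar c₁ * g.1⁻¹ ∈ UT W := hg ⟨Ubar c₁, hTK c₁ hc₁⟩ ⟨c₁, hc₁, rfl⟩
      obtain ⟨c, _, hc⟩ := h1
      have h2 := conj_entry g.1 c₁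
      rw [hc, (Ubar_entry c).2.1] at h2
      have h3 : g.1.1 1 0 = 0 := by
        have h4 : g.1.1 1 0 * g.1.1 1 0 * c₁ = 0 := by linear_combination h2
        rcases mul_eq_zero.mp h4 with h5 | h5
        · rcases mul_eq_zero.mp h5 with h6 | h6 <;> exact h6
        · exact absurd h5 hc₁0
      exact hP2 g.1 g.2 h3)
    (by
      rintro g a ⟨e, he, hae⟩ ha1 hcomm
      have he0 : e ≠ 0 := by
        rintro rfl
        apply ha1
        apply Subtype.ext
        show a.1 = 1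
        have hae' : a.1 = Ubar 0 := hae
        rw [hae', Ubar_zero]
      have hae' : a.1 = Ubar e := hae
      have h1 : g.1 * Ubar e = Ubar e * g.1 := by
        rw [← hae']
        exact congrArg Subtype.val hcomm
      have h2 := comm_entry g.1 e h1
      have h3 : g.1.1 1 0 = 0 := by
        rcases mul_eq_zero.mp h2 with h5 | h5
        · exact absurd h5 he0
        · exact h5
      exact hP2 g.1 g.2 h3)
  intro A hA
  obtain ⟨c, _, hc⟩ := hall ⟨A, hA⟩
  have hc' : A = Ubar c := hc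
  rw [hc', (Ubar_entry c).2.1]

end Cfsg.Agent.Lib.Helper28.Os
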