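import Cfsg.Agent.Lib.Helper28.OsK

set_option autoImplicit false

namespace Cfsg.Agent.Lib.Helper28.Os

open Matrix Cfsg.Agent.Lib.Helper28.Sf Cfsg.Agent.Lib.Helper28.HForm
  Cfsg.Agent.Lib.Helper28.OGen Cfsg.Agent.Lib.Helper28.OMax Cfsg.Agent.Lib.Helper28.OQ
  Cfsg.Agent.Lib.Helper28.OMax2 Cfsg.Agent.Lib.Helper28.OIwa

variable {n : ℕ} {F : Type*} [Field F] {F₀ : Subfield F} {Q : (Fin n → F) → F}
  {f : (Fin n → F) → (Fin n → F) → F}
  {G H : Subgroup (Matrix.GeneralLinearGroup (Fin n) F)}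

local notation "GLn" => Matrix.GeneralLinearGroup (Fin n) F

/-- the context of the Frobenius argument -/
structure FB (F₀ : Subfield F) (Q : (Fin n → F) → F) (f : (Fin n → F) → (Fin n → F) → F)
    (G H : Subgroup (Matrix.GeneralLinearGroup (Fin n) F)) (u w : Fin n → F) : Prop where
  oc : OC F₀ Q f G H
  hA : ∀ u v, TP F₀ Q f u v → ∀ a, a ∈ AA f H u v → a ∈ F₀
  ru : Rat F₀ u
  qu : Q u = 0
  u0 : u ≠ 0
  qw : Q w = 0
  uw : f u w = 0
  wn : w ∉ Submodule.span F {u}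
  nr : ∀ x z, TP F₀ Q f x z → f x w = 0 → f z w = 0 → False

variable {u w : Fin n → F}

/-- `w` does not lie in the span of a small rational family -/
theorem FB.nrfam [Finite F] (B : FB F₀ Q f G H u w) {k : ℕ} (a : Fin k → (Fin n → F))
    (ha : ∀ j, Rat F₀ (a j)) (hk : 2 * (k + 1) + 3 ≤ n) :
    w ∉ Submodule.span F (Set.range a) := by
  have hf := B.oc.hf
  intro hm
  obtain ⟨x, hx, hQx, hxp, hxn⟩ := B.oc.rc.ex_rs a ha (by omega)
  obtain ⟨z, hz, hQz, hzp, hzn⟩ := B.oc.rc.ex_rs (Fin.cons x a : Fin (k + 1) → (Fin n → F))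
    ((rat_cons_iff a x).mpr ⟨hx, ha⟩) hk
  rw [perp_cons_iff] at hzp
  have hx0 : x ≠ 0 := by
    rintro rfl
    exact hxn (Submodule.zero_mem _)
  have tp : TP F₀ Q f x z := by
    refine ⟨hx, hz, hQx, hQz, hzp.1, hx0, ?_⟩
    intro hm'
    obtain ⟨c, hc⟩ := Submodule.mem_span_singleton.mp hm'
    apply hzn
    rw [← hc]
    exact Submodule.smul_mem _ _ (head_mem_cons a x)
  refine B.nr x z tp ?_ ?_
  · exact perp_span hf a x (fun i => by rw [s_symm hf]; exact hxp i) w hm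
  · exact perp_span hf a z (fun i => by rw [s_symm hf]; exact hzp.2 i) w hm

/-- the additive group of parameters -/
def Wadd (hf : SymF f) (F₀ : Subfield F) (u w : Fin n → F) : AddSubgroup F where
  carrier := {c | ∃ y, Rat F₀ y ∧ f u y = 0 ∧ c = f y w}
  zero_mem' := ⟨0, Rat.zero, f_zero_right hf u, (f_zero_left hf w).symm⟩
  add_mem' := by
    rintro _ _ ⟨y₁, h1, h2, rfl⟩ ⟨y₂, h3, h4, rfl⟩
    exact ⟨y₁ + y₂, h1.add h3, by rw [f_add_right hf, h2, h4, add_zero], (hf.add_left _ _ _).symm⟩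
  neg_mem' := by
    rintro _ ⟨y, h1, h2, rfl⟩
    exact ⟨-y, h1.neg, by rw [f_neg_right hf, h2, neg_zero], (f_neg_left hf _ _).symm⟩

theorem FB.W_two [Finite F] (B : FB F₀ Q f G H u w) :
    ∃ c₁ ∈ Wadd B.oc.hf F₀ u w, ∃ c₂ ∈ Wadd B.oc.hf F₀ u w, c₁ ≠ 0 ∧
      ∀ a ∈ F₀, c₂ ≠ a * c₁ := by
  have hf := B.oc.hf
  have hq := B.oc.hq
  have hn := B.oc.hn
  have hu := B.ru
  have hQu := B.qu
  obtain ⟨y₁, hy₁, huy₁, hy₁w⟩ : ∃ y₁, Rat F₀ y₁ ∧ f u y₁ = 0 ∧ f y₁ w ≠ 0 := by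
    by_contra hcon
    push Not at hcon
    obtain ⟨c, hc⟩ := B.oc.rc.perp_perp hu hQu B.u0 (y := w) (fun v hv huv => by
      rw [s_symm hf]
      exact hcon v hv huv)
    exact B.wn (Submodule.mem_span_singleton.mpr ⟨c, hc.symm⟩)
  obtain ⟨c₁, hc₁⟩ : ∃ c₁, c₁ = f y₁ w := ⟨_, rfl⟩
  rw [← hc₁] at hy₁w
  refine ⟨c₁, ⟨y₁, hy₁, huy₁, hc₁⟩, ?_⟩
  by_contra hcon
  push Not at hcon
  have hW : ∀ y, Rat F₀ y → f u y = 0 → ∃ a ∈ F₀, f y w = a * c₁ := by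
    intro y hy huy
    exact hcon (f y w) ⟨y, hy, huy, rfl⟩ hy₁w
  obtain ⟨u', hu', hQu', huu'⟩ := B.oc.rc.ex_partner0 hu hQu B.u0
  have hu'u : f u' u = 1 := by rw [s_symm hf, huu']
  have huu : f u u = 0 := f_sing hq hQu
  obtain ⟨β, hβ⟩ : ∃ β, β = c₁⁻¹ * f w u' := ⟨_, rfl⟩
  obtain ⟨w', hw'⟩ : ∃ w', w' = c₁⁻¹ • w - β • u := ⟨_, rfl⟩
  have hw'r : Rat F₀ w' := by
    apply B.oc.rc.rat_of_pair
    intro x hx
    obtain ⟨hp1, hp2⟩ := prj_perp hq hQu hQu' huu' x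
    obtain ⟨a, ha, e⟩ := hW _ (prj_rat B.oc.rc hu hu' hx) hp1
    have e1 : f x w' = a := by
      conv_lhs => rw [prj_decomp (f := f) u u' x]
      rw [hf.add_left, hf.add_left, hf.smul_left, hf.smul_left, hw', f_sub_right hf,
        f_sub_right hf, f_sub_right hf, s_smul_right hf, s_smul_right hf, s_smul_right hf,
        s_smul_right hf, s_smul_right hf, s_smul_right hf, e, s_symm hf (prj f u u' x) u, hp1,
        B.uw, huu, hu'u, hβ, s_symm hf u' w]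
      field_simp
      ring
    rw [e1]
    exact ha
  apply B.nrfam ![u, w'] (fun j => by fin_cases j; exact hu; exact hw'r) (by omega)
  rw [mem_span_pair']
  refine ⟨c₁ * β, c₁, ?_⟩
  rw [hw', smul_sub, smul_smul, smul_smul, mul_inv_cancel₀ hy₁w, one_smul]
  abel

/-- the action of `k` on the line `⟨u, w⟩` is given by the matrix `A` -/
def Acts (u w : Fin n → F) (k : GLn) (A : Matrix (Fin 2) (Fin 2) F) : Prop :=
  (k : Matrix (Fin n) (Fin n) F) *ᵥ u = A 0 0 • u + A 1 0 • w ∧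
    (k : Matrix (Fin n) (Fin n) F) *ᵥ w = A 0 1 • u + A 1 1 • w

/-- `k` acts trivially on `⟨u, w⟩^⊥ / ⟨u, w⟩` -/
def PerpTriv (f : (Fin n → F) → (Fin n → F) → F) (u w : Fin n → F) (k : GLn) : Prop :=
  ∀ x, f u x = 0 → f w x = 0 → ∃ a b : F, (k : Matrix (Fin n) (Fin n) F) *ᵥ x = x + a • u + b • w

/-- the image in `SL₂` of the relevant part of `H` -/
def Kbar (f : (Fin n → F) → (Fin n → F) → F) (H : Subgroup GLn) (u w : Fin n → F) :
    Subgroup (Matrix.SpecialLinearGroup (Fin 2) F) where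
  carrier := {A | ∃ k ∈ H, Acts u w k A.1 ∧ PerpTriv f u w k}
  one_mem' := by
    refine ⟨1, H.one_mem, ⟨?_, ?_⟩, fun x _ _ => ⟨0, 0, ?_⟩⟩
    · simp
    · simp
    · simp
  mul_mem' := by
    rintro A B ⟨k, hk, ⟨hku, hkw⟩, hkp⟩ ⟨l, hl, ⟨hlu, hlw⟩, hlp⟩
    refine ⟨k * l, H.mul_mem hk hl, ⟨?_, ?_⟩, ?_⟩
    · rw [Cfsg.Agent.S5643.mul_mv, hlu, Matrix.mulVec_add, Matrix.mulVec_smul, Matrix.mulVec_smul,
        hku, hkw, Matrix.SpecialLinearGroup.coe_mul]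
      simp only [Matrix.mul_apply, Fin.sum_univ_two]
      module
    · rw [Cfsg.Agent.S5643.mul_mv, hlw, Matrix.mulVec_add, Matrix.mulVec_smul, Matrix.mulVec_smul,
        hku, hkw, Matrix.SpecialLinearGroup.coe_mul]
      simp only [Matrix.mul_apply, Fin.sum_univ_two]
      module
    · intro x hux hwx
      obtain ⟨a, b, e⟩ := hlp x hux hwx
      obtain ⟨a', b', e'⟩ := hkp x hux hwx
      refine ⟨a' + a * A.1 0 0 + b * A.1 0 1, b' + a * A.1 1 0 + b * A.1 1 1, ?_⟩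
      rw [Cfsg.Agent.S5643.mul_mv, e, Matrix.mulVec_add, Matrix.mulVec_add, Matrix.mulVec_smul,
        Matrix.mulVec_smul, hku, hkw, e']
      module
  inv_mem' := by
    rintro A ⟨k, hk, ⟨hku, hkw⟩, hkp⟩
    have hdet := A.2
    rw [Matrix.det_fin_two] at hdet
    have hiu : ((k⁻¹ : GLn) : Matrix (Fin n) (Fin n) F) *ᵥ u = A.1 1 1 • u - A.1 1 0 • w := by
      have h1 : (k : Matrix (Fin n) (Fin n) F) *ᵥ (A.1 1 1 • u - A.1 1 0 • w) = u := by
        rw [Matrix.mulVec_sub, Matrix.mulVec_smul, Matrix.mulVec_smul, hku, hkw]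
        have e : A.1 1 1 • (A.1 0 0 • u + A.1 1 0 • w) - A.1 1 0 • (A.1 0 1 • u + A.1 1 1 • w) =
            (A.1 0 0 * A.1 1 1 - A.1 0 1 * A.1 1 0) • u := by module
        rw [e, hdet, one_smul]
      rw [← h1, Cfsg.Agent.S5643.inv_mv, h1]
    have hiw : ((k⁻¹ : GLn) : Matrix (Fin n) (Fin n) F) *ᵥ w =
        -(A.1 0 1) • u + A.1 0 0 • w := by
      have h1 : (k : Matrix (Fin n) (Fin n) F) *ᵥ (-(A.1 0 1) • u + A.1 0 0 • w) = w := by
        rw [Matrix.mulVec_add, Matrix.mulVec_smul, Matrix.mulVec_smul, hku, hkw]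
        have e : -(A.1 0 1) • (A.1 0 0 • u + A.1 1 0 • w) + A.1 0 0 • (A.1 0 1 • u + A.1 1 1 • w) =
            (A.1 0 0 * A.1 1 1 - A.1 0 1 * A.1 1 0) • w := by module
        rw [e, hdet, one_smul]
      rw [← h1, Cfsg.Agent.S5643.inv_mv, h1]
    refine ⟨k⁻¹, H.inv_mem hk, ⟨?_, ?_⟩, ?_⟩
    · rw [hiu, Matrix.SpecialLinearGroup.coe_inv, Matrix.adjugate_fin_two]
      simp
      module
    · rw [hiw, Matrix.SpecialLinearGroup.coe_inv, Matrix.adjugate_fin_two]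
      simp
    · intro x hux hwx
      obtain ⟨a, b, e⟩ := hkp x hux hwx
      have h1 : ((k⁻¹ : GLn) : Matrix (Fin n) (Fin n) F) *ᵥ x =
          x - b • (((k⁻¹ : GLn) : Matrix (Fin n) (Fin n) F) *ᵥ w) -
            a • (((k⁻¹ : GLn) : Matrix (Fin n) (Fin n) F) *ᵥ u) := by
        have h2 := congrArg (fun y => ((k⁻¹ : GLn) : Matrix (Fin n) (Fin n) F) *ᵥ y) e
        simp only [Cfsg.Agent.S5643.inv_mv, Matrix.mulVec_add, Matrix.mulVec_smul] at h2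
        exact eq_sub_of_add_eq (eq_sub_of_add_eq h2.symm)
      rw [h1, hiu, hiw]
      refine ⟨-(a * A.1 1 1) + b * A.1 0 1, a * A.1 1 0 - b * A.1 0 0, ?_⟩
      module

end Cfsg.Agent.Lib.Helper28.Os
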