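import Cfsg.Agent.Lib.Helper28.OsL

set_option autoImplicit false

namespace Cfsg.Agent.Lib.Helper28.Os

open Matrix Cfsg.Agent.Lib.Helper28.Sf Cfsg.Agent.Lib.Helper28.HForm
  Cfsg.Agent.Lib.Helper28.OGen Cfsg.Agent.Lib.Helper28.OMax Cfsg.Agent.Lib.Helper28.OQ
  Cfsg.Agent.Lib.Helper28.OMax2 Cfsg.Agent.Lib.Helper28.OIwa

variable {n : ℕ} {F : Type*} [Field F] {F₀ : Subfield F} {Q : (Fin n → F) → F}
  {f : (Fin n → F) → (Fin n → F) → F}
  {G H : Subgroup (Matrix.GeneralLinearGroup (Fin n) F)}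

local notation "GLn" => Matrix.GeneralLinearGroup (Fin n) F

/-- normalisation: an isometry in the subfield group scaling a rational singular vector by `lam`
becomes rational after scaling by `lam` or by `lam⁻¹` -/
theorem OC.norm_rat (C : OC F₀ Q f G H) {k : GLn} (hk : k ∈ H)
    (hks : k ∈ Cfsg.Geo.subfieldSubgroup F₀ (1 : GLn)) {u : Fin n → F} (hu : Rat F₀ u)
    (hQu : Q u = 0) (hu0 : u ≠ 0) {lam : F}
    (hku : (k : Matrix (Fin n) (Fin n) F) *ᵥ u = lam • u) :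
    (∀ x, Rat F₀ x → Rat F₀ (lam⁻¹ • ((k : Matrix (Fin n) (Fin n) F) *ᵥ x))) ∧
      (∀ x, Rat F₀ x → Rat F₀ (lam • ((k : Matrix (Fin n) (Fin n) F) *ᵥ x))) := by
  have hf := C.hf
  have hq := C.hq
  have hlam : lam ≠ 0 := by
    rintro rfl
    rw [zero_smul] at hku
    exact hu0 (Cfsg.Agent.Lib.Helper28.SubF.gl_inj k hku)
  obtain ⟨c₀, hc₀, hrat⟩ := rat_of_mem_sub_one hks
  obtain ⟨j, hj⟩ : ∃ j, u j ≠ 0 := by
    by_contra hcon
    push Not at hcon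
    exact hu0 (funext hcon)
  have hρ : c₀⁻¹ * lam ∈ F₀ := by
    have h1 := hrat u hu j
    rw [hku, Pi.smul_apply, Pi.smul_apply, smul_eq_mul, smul_eq_mul] at h1
    have h2 : c₀⁻¹ * lam = c₀⁻¹ * (lam * u j) * (u j)⁻¹ := by field_simp
    rw [h2]
    exact F₀.mul_mem h1 (F₀.inv_mem (hu j))
  have h1 : ∀ x, Rat F₀ x → Rat F₀ (lam⁻¹ • ((k : Matrix (Fin n) (Fin n) F) *ᵥ x)) := by
    intro x hx
    have e : lam⁻¹ • ((k : Matrix (Fin n) (Fin n) F) *ᵥ x) =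
        (c₀⁻¹ * lam)⁻¹ • (c₀⁻¹ • ((k : Matrix (Fin n) (Fin n) F) *ᵥ x)) := by
      rw [smul_smul]
      congr 1
      field_simp
    rw [e]
    exact Rat.smul (F₀.inv_mem hρ) (hrat x hx)
  refine ⟨h1, ?_⟩
  obtain ⟨u', hu', hQu', huu'⟩ := C.rc.ex_partner0 hu hQu hu0
  have h2 : lam⁻¹ * lam⁻¹ ∈ F₀ := by
    have h3 := C.rc.f_rat (h1 u hu) (h1 u' hu')
    rw [hf.smul_left, s_smul_right hf, C.isof hk, huu'] at h3
    simpa using h3
  intro x hx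
  have e : lam • ((k : Matrix (Fin n) (Fin n) F) *ᵥ x) =
      (lam⁻¹ * lam⁻¹)⁻¹ • (lam⁻¹ • ((k : Matrix (Fin n) (Fin n) F) *ᵥ x)) := by
    rw [smul_smul]
    congr 1
    field_simp
  rw [e]
  exact Rat.smul (F₀.inv_mem h2) (h1 x hx)

variable {u w : Fin n → F}

/-- elements of the rational root group belong to `Kbar` -/
theorem FB.T_mem (B : FB F₀ Q f G H u w) {c : F} (hc : c ∈ Wadd B.oc.hf F₀ u w) :
    Ubar c ∈ Kbar f H u w := by
  have hf := B.oc.hf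
  have hq := B.oc.hq
  obtain ⟨y, hy, huy, rfl⟩ := hc
  have huy' : f u (-y) = 0 := by rw [f_neg_right hf, huy, neg_zero]
  obtain ⟨t, htG, hts⟩ := ex_sgg hq B.oc.vf B.oc.sg B.qu B.u0 huy'
  have htH : t ∈ H := B.oc.rat_sgg_mem B.ru hy.neg B.qu B.u0 huy' hts
  have hyu : f y u = 0 := by rw [s_symm hf, huy]
  refine ⟨t, htH, ⟨?_, ?_⟩, ?_⟩
  · rw [hts u]
    unfold Sgm
    rw [f_sing hq B.qu, f_neg_left hf, hyu]
    simp [Ubar]
  · rw [hts w]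
    unfold Sgm
    rw [B.uw, f_neg_left hf]
    simp [Ubar]
    module
  · intro x hux _
    refine ⟨f y x, 0, ?_⟩
    rw [hts x]
    unfold Sgm
    rw [hux, f_neg_left hf]
    module

/-- conjugated root elements belong to `Kbar` -/
theorem FB.L_mem (B : FB F₀ Q f G H u w) {h : GLn} (hh : h ∈ H)
    (hw : w = (h : Matrix (Fin n) (Fin n) F) *ᵥ u) {v : Fin n → F} (hv : Rat F₀ v)
    (huv : f u v = 0) :
    Lbar (-(f ((h : Matrix (Fin n) (Fin n) F) *ᵥ v) u)) ∈ Kbar f H u w := by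
  have hf := B.oc.hf
  have hq := B.oc.hq
  obtain ⟨t, htG, hts⟩ := ex_sgg hq B.oc.vf B.oc.sg B.qu B.u0 huv
  have htH : t ∈ H := B.oc.rat_sgg_mem B.ru hv B.qu B.u0 huv hts
  have hs := hts.conj hq (B.oc.isoQ hh)
  rw [← hw] at hs
  have hwu : f w u = 0 := by rw [s_symm hf, B.uw]
  have hvw : f ((h : Matrix (Fin n) (Fin n) F) *ᵥ v) w = 0 := by
    rw [hw, B.oc.isof hh, s_symm hf, huv]
  refine ⟨h * t * h⁻¹, H.mul_mem (H.mul_mem hh htH) (H.inv_mem hh), ⟨?_, ?_⟩, ?_⟩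
  · rw [hs u]
    unfold Sgm
    rw [hwu]
    simp [Lbar]
    module
  · rw [hs w]
    unfold Sgm
    rw [f_sing hq B.qw, hvw]
    simp [Lbar]
  · intro x _ hwx
    refine ⟨0, -(f ((h : Matrix (Fin n) (Fin n) F) *ᵥ v) x), ?_⟩
    rw [hs x]
    unfold Sgm
    rw [hwx]
    module

end Cfsg.Agent.Lib.Helper28.Os
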