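import Cfsg.Agent.Lib.Helper28.OsM

set_option autoImplicit false

namespace Cfsg.Agent.Lib.Helper28.Os

open Matrix Cfsg.Agent.Lib.Helper28.Sf Cfsg.Agent.Lib.Helper28.HForm
  Cfsg.Agent.Lib.Helper28.OGen Cfsg.Agent.Lib.Helper28.OMax Cfsg.Agent.Lib.Helper28.OQ
  Cfsg.Agent.Lib.Helper28.OMax2 Cfsg.Agent.Lib.Helper28.OIwa

variable {n : ℕ} {F : Type*} [Field F] {F₀ : Subfield F} {Q : (Fin n → F) → F}
  {f : (Fin n → F) → (Fin n → F) → F}
  {G H : Subgroup (Matrix.GeneralLinearGroup (Fin n) F)}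

local notation "GLn" => Matrix.GeneralLinearGroup (Fin n) F

variable {u w : Fin n → F}

/-- (P2): elements of `Kbar` fixing the point `⟨u⟩` are rational root elements -/
theorem FB.P2 [Finite F] (B : FB F₀ Q f G H u w)
    {A : Matrix.SpecialLinearGroup (Fin 2) F} (hAK : A ∈ Kbar f H u w) (h10 : A.1 1 0 = 0) :
    ∃ c ∈ Wadd B.oc.hf F₀ u w, A = Ubar c := by
  have hf := B.oc.hf
  have hq := B.oc.hq
  have hn := B.oc.hn
  have hu := B.ru
  have hQu := B.qu
  have hu0 := B.u0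
  have huu : f u u = 0 := f_sing hq hQu
  have hwu : f w u = 0 := by rw [s_symm hf, B.uw]
  obtain ⟨k, hkH, ⟨hku, hkw⟩, hpt⟩ := hAK
  obtain ⟨lam, hlam⟩ : ∃ lam, lam = A.1 0 0 := ⟨_, rfl⟩
  rw [h10, zero_smul, add_zero, ← hlam] at hku
  have hdet := A.2
  rw [Matrix.det_fin_two, h10, mul_zero, sub_zero, ← hlam] at hdet
  have hlam0 : lam ≠ 0 := by
    rintro rfl
    rw [zero_mul] at hdet
    exact zero_ne_one hdet
  have hks := B.oc.GP0 B.hA hkH hu hQu hu0 hku
  obtain ⟨hR₁, hR₂⟩ := B.oc.norm_rat hkH hks hu hQu hu0 hku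
  have hRM : RatM F₀ (lam • (k : Matrix (Fin n) (Fin n) F)) := by
    intro x hx
    rw [Matrix.smul_mulVec]
    exact hR₂ x hx
  have hkw' : lam • ((k : Matrix (Fin n) (Fin n) F) *ᵥ w) = w + (lam * A.1 0 1) • u := by
    rw [hkw, smul_add, smul_smul, smul_smul, hdet, one_smul, add_comm]
  -- the common computation
  have CC : ∀ ψ : F →ₗ[F₀] F₀, ∃ c : F,
      lam • ((k : Matrix (Fin n) (Fin n) F) *ᵥ ratl ψ w) = ratl ψ w + c • u := by
    intro ψ
    refine ⟨((ψ (lam * A.1 0 1) : F₀) : F), ?_⟩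
    rw [← Matrix.smul_mulVec, hRM.mulVec_ratl, Matrix.smul_mulVec, hkw', ratl_add,
      ratl_smul_of_rat ψ hu]
  have hup : ∀ ψ : F →ₗ[F₀] F₀, f u (ratl ψ w) = 0 := by
    intro ψ
    rw [B.oc.rc.f_ratl ψ hu, B.uw, map_zero]
    rfl
  -- step 1
  have step1 : lam * lam = 1 := by
    by_contra hμ
    obtain ⟨ψ, hψ⟩ := ex_ratl_notin (F₀ := F₀) _ B.wn
    obtain ⟨p, hp⟩ : ∃ p, p = ratl ψ w := ⟨_, rfl⟩
    obtain ⟨c, hc⟩ := CC ψ
    have hupp := hup ψ
    rw [← hp] at hψ hc hupp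
    have hpr : Rat F₀ p := by rw [hp]; exact ratl_rat _ _
    have hpu : f p u = 0 := by rw [s_symm hf, hupp]
    have hQp : Q p = 0 := by
      have h1 : Q (lam • ((k : Matrix (Fin n) (Fin n) F) *ᵥ p)) = lam * lam * Q p := by
        rw [hq.smul, B.oc.isoQ hkH]
      rw [hc, hq.polar, hq.smul, hQu, s_smul_right hf, hpu] at h1
      have h2 : (lam * lam - 1) * Q p = 0 := by linear_combination -h1
      rcases mul_eq_zero.mp h2 with h3 | h3
      · exact absurd (sub_eq_zero.mp h3) hμ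
      · exact h3
    have hpw : f p w = 0 := by
      have h1 : f (lam • ((k : Matrix (Fin n) (Fin n) F) *ᵥ p))
          (lam • ((k : Matrix (Fin n) (Fin n) F) *ᵥ w)) = lam * lam * f p w := by
        rw [hf.smul_left, s_smul_right hf, B.oc.isof hkH]
        ring
      rw [hc, hkw', hf.add_left, f_add_right hf, f_add_right hf, hf.smul_left, hf.smul_left,
        s_smul_right hf, s_smul_right hf, hpu, B.uw, huu] at h1
      have h2 : (lam * lam - 1) * f p w = 0 := by linear_combination -h1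
      rcases mul_eq_zero.mp h2 with h3 | h3
      · exact absurd (sub_eq_zero.mp h3) hμ
      · exact h3
    exact B.nr u p ⟨hu, hpr, hQu, hQp, hupp, hu0, hψ⟩ B.uw hpw
  -- step 2
  have step2 : lam = 1 := by
    by_contra hl1
    have hlm : lam = -1 := by
      have h1 : (lam - 1) * (lam + 1) = 0 := by linear_combination step1
      rcases mul_eq_zero.mp h1 with h2 | h2
      · exact absurd (sub_eq_zero.mp h2) hl1
      · linear_combination h2
    have h2ne : (2 : F) ≠ 0 := by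
      intro h2
      apply hl1
      rw [hlm]
      linear_combination -h2
    -- the general claim
    have GC : ∀ y : Fin n → F, f u y = 0 → f w y = 0 →
        (∃ c : F, (k : Matrix (Fin n) (Fin n) F) *ᵥ y = -y + c • u) →
        ∃ α β : F, y = α • u + β • w := by
      rintro y huy hwy ⟨c, hc⟩
      obtain ⟨a, b, e⟩ := hpt y huy hwy
      refine ⟨(c - a) / 2, -b / 2, ?_⟩
      have h1 : (2 : F) • y = (c - a) • u + (-b) • w := by
        have h2 := hc.symm.trans e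
        rw [two_smul, sub_smul, neg_smul]
        linear_combination (exp := 1) -h2
      have h3 : y = (2 : F)⁻¹ • ((2 : F) • y) := by
        rw [smul_smul, inv_mul_cancel₀ h2ne, one_smul]
      rw [h3, h1, smul_add, smul_smul, smul_smul]
      congr 2 <;> field_simp
    have CC' : ∀ ψ : F →ₗ[F₀] F₀, ∃ c : F,
        (k : Matrix (Fin n) (Fin n) F) *ᵥ ratl ψ w = -ratl ψ w + c • u := by
      intro ψ
      obtain ⟨c, hc⟩ := CC ψ
      refine ⟨-c, ?_⟩
      rw [hlm, neg_smul, one_smul] at hc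
      rw [neg_smul, ← neg_add, ← hc, neg_neg]
    obtain ⟨ψ₁, hψ₁⟩ := ex_ratl_notin (F₀ := F₀) _ B.wn
    obtain ⟨p₁, hp₁⟩ : ∃ p₁, p₁ = ratl ψ₁ w := ⟨_, rfl⟩
    obtain ⟨c₁, hc₁⟩ := CC' ψ₁
    have hup₁ := hup ψ₁
    rw [← hp₁] at hψ₁ hc₁ hup₁
    have hp₁r : Rat F₀ p₁ := by rw [hp₁]; exact ratl_rat _ _
    have hfam2 : ∀ j, Rat F₀ (![u, p₁] j) := fun j => by fin_cases j; exact hu; exact hp₁r
    by_cases hp₁w : f p₁ w = 0
    · obtain ⟨α, β, e⟩ := GC p₁ hup₁ (by rw [s_symm hf, hp₁w]) ⟨c₁, hc₁⟩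
      have hβ : β ≠ 0 := by
        rintro rfl
        rw [zero_smul, add_zero] at e
        exact hψ₁ (Submodule.mem_span_singleton.mpr ⟨α, e.symm⟩)
      apply B.nrfam ![u, p₁] hfam2 (by omega)
      rw [mem_span_pair']
      refine ⟨-(β⁻¹ * α), β⁻¹, ?_⟩
      rw [e, smul_add, smul_smul, smul_smul, inv_mul_cancel₀ hβ, one_smul, neg_smul]
      abel
    -- every `ratl ψ w` lies in the span of `u, w, p₁`
    have hall : ∀ ψ : F →ₗ[F₀] F₀, ∃ α β γ : F, ratl ψ w = α • u + β • w + γ • p₁ := by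
      intro ψ
      obtain ⟨c, hc⟩ := CC' ψ
      obtain ⟨r, hr⟩ : ∃ r, r = f (ratl ψ w) w / f p₁ w := ⟨_, rfl⟩
      obtain ⟨α, β, e⟩ := GC (ratl ψ w - r • p₁)
        (by rw [f_sub_right hf, s_smul_right hf, hup ψ, hup₁]; ring)
        (by
          rw [f_sub_right hf, s_smul_right hf, s_symm hf w (ratl ψ w), s_symm hf w p₁, hr]
          field_simp
          ring)
        ⟨c - r * c₁, by
          rw [Matrix.mulVec_sub, Matrix.mulVec_smul, hc, hc₁]
          module⟩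
      exact ⟨α, β, r, by rw [← e]; abel⟩
    by_cases hall2 : ∀ ψ : F →ₗ[F₀] F₀, ratl ψ w ∈ Submodule.span F (Set.range ![u, p₁])
    · apply B.nrfam ![u, p₁] hfam2 (by omega)
      by_contra hwn
      obtain ⟨ψ, hψ⟩ := ex_ratl_notin (F₀ := F₀) _ hwn
      exact hψ (hall2 ψ)
    push Not at hall2
    obtain ⟨ψ₂, hψ₂⟩ := hall2
    obtain ⟨α, β, γ, e⟩ := hall ψ₂
    obtain ⟨p₂, hp₂⟩ : ∃ p₂, p₂ = ratl ψ₂ w := ⟨_, rfl⟩
    rw [← hp₂] at hψ₂ e
    have hp₂r : Rat F₀ p₂ := by rw [hp₂]; exact ratl_rat _ _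
    have hβ : β ≠ 0 := by
      rintro rfl
      apply hψ₂
      rw [mem_span_pair']
      exact ⟨α, γ, by rw [e, zero_smul, add_zero]⟩
    apply B.nrfam ![u, p₁, p₂] (fun j => by
      fin_cases j
      · exact hu
      · exact hp₁r
      · exact hp₂r) (by omega)
    rw [mem_span_triple']
    refine ⟨-(β⁻¹ * α), -(β⁻¹ * γ), β⁻¹, ?_⟩
    rw [e, smul_add, smul_add, smul_smul, smul_smul, smul_smul, inv_mul_cancel₀ hβ, one_smul,
      neg_smul, neg_smul]
    abel
  -- step 3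
  rw [step2, one_mul] at hdet
  have h00 : A.1 0 0 = 1 := by rw [← hlam, step2]
  refine ⟨A.1 0 1, ?_, eq_Ubar h00 h10⟩
  rw [step2, one_smul] at hku
  rw [hdet, one_smul] at hkw
  have hkr : ∀ x, Rat F₀ x → Rat F₀ ((k : Matrix (Fin n) (Fin n) F) *ᵥ x) := by
    intro x hx
    have := hR₂ x hx
    rwa [step2, one_smul] at this
  obtain ⟨u', hu', hQu', huu'⟩ := B.oc.rc.ex_partner0 hu hQu hu0
  obtain ⟨x, hx⟩ : ∃ x, x = (k : Matrix (Fin n) (Fin n) F) *ᵥ u' := ⟨_, rfl⟩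
  have hxr : Rat F₀ x := by rw [hx]; exact hkr u' hu'
  have hux : f u x = 1 := by
    have := B.oc.isof hkH u u'
    rw [hku, ← hx, huu'] at this
    exact this
  have hwx : A.1 0 1 + f w x = f w u' := by
    have := B.oc.isof hkH w u'
    rw [hkw, ← hx, hf.add_left, hf.smul_left, hux, mul_one] at this
    exact this
  refine ⟨-(x - u' - f x u' • u), ((hxr.sub hu').sub (Rat.smul (B.oc.rc.f_rat hxr hu') hu)).neg,
    ?_, ?_⟩
  · rw [f_neg_right hf, f_sub_right hf, f_sub_right hf, s_smul_right hf, hux, huu', huu]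
    ring
  · rw [f_neg_left hf, f_sub_left hf, f_sub_left hf, hf.smul_left, B.uw, s_symm hf x w,
      s_symm hf u' w]
    linear_combination hwx

/-- the Frobenius argument: contradiction -/
theorem FB.false [Finite F] (B : FB F₀ Q f G H u w) {h : GLn} (hh : h ∈ H)
    (hw : w = (h : Matrix (Fin n) (Fin n) F) *ᵥ u) : False := by
  have hf := B.oc.hf
  obtain ⟨p, hp⟩ := CharP.exists F
  have : Fact p.Prime := ⟨CharP.char_is_prime F p⟩
  have key := sl2_frob p F₀ (Kbar f H u w) (Wadd hf F₀ u w) (fun c hc => B.T_mem hc)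
    (fun A hA h10 => B.P2 hA h10) B.W_two
  have h1 : ∀ v, Rat F₀ v → f u v = 0 →
      f (((h⁻¹ : GLn) : Matrix (Fin n) (Fin n) F) *ᵥ u) v = 0 := by
    intro v hv huv
    have h2 := key _ (B.L_mem hh hw hv huv)
    simp only [Lbar, Matrix.of_apply, Matrix.cons_val', Matrix.cons_val_one, Matrix.cons_val_zero,
      neg_eq_zero] at h2
    rw [← B.oc.isof hh, Cfsg.Agent.S5643.inv_mv', s_symm hf]
    exact h2
  obtain ⟨c, hc⟩ := B.oc.rc.perp_perp B.ru B.qu B.u0 h1
  have h2 : u = c • w := by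
    rw [hw, ← Matrix.mulVec_smul, ← hc, Cfsg.Agent.S5643.inv_mv']
  have hc0 : c ≠ 0 := by
    rintro rfl
    rw [zero_smul] at h2
    exact B.u0 h2
  apply B.wn
  rw [Submodule.mem_span_singleton]
  refine ⟨c⁻¹, ?_⟩
  rw [h2, smul_smul, inv_mul_cancel₀ hc0, one_smul]

/-- Step D: if the parameter sets are rational then `H` lies in the subfield group -/
theorem OC.stepD [Finite F] (C : OC F₀ Q f G H)
    (hA : ∀ u v, TP F₀ Q f u v → ∀ a, a ∈ AA f H u v → a ∈ F₀) :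
    H ≤ Cfsg.Geo.subfieldSubgroup F₀ (1 : GLn) := by
  have hf := C.hf
  have hq := C.hq
  apply C.LR_imp hA
  intro t htH a b hQa hQb hab hts
  by_contra hnr
  have hns : t ∉ Cfsg.Geo.subfieldSubgroup F₀ (1 : GLn) := by
    intro hm
    exact hnr (unip_rat hf (f_sing hq hQa) (f_sing hq hQb) hab hts hm)
  obtain ⟨u, hu, hQu, hu0⟩ := C.ex_rs0
  obtain ⟨w, hw⟩ : ∃ w, w = (t : Matrix (Fin n) (Fin n) F) *ᵥ u := ⟨_, rfl⟩
  have B : FB F₀ Q f G H u w := by
    refine ⟨C, hA, hu, hQu, hu0, by rw [hw, C.isoQ htH, hQu], ?_, ?_, ?_⟩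
    · rw [hw, hts u]
      unfold Tv
      rw [f_add_right hf, s_smul_right hf, f_sub_right hf, s_smul_right hf, s_smul_right hf,
        f_sing hq hQu, s_symm hf u b, s_symm hf u a]
      ring
    · intro hm
      obtain ⟨c, hc⟩ := Submodule.mem_span_singleton.mp hm
      rw [hw] at hc
      exact hns (C.GP0 hA htH hu hQu hu0 hc.symm)
    · intro x z tp hxw hzw
      rw [hw] at hxw hzw
      exact C.NR hA htH hns hu hQu hu0 tp hxw hzw
  exact B.false htH hw

end Cfsg.Agent.Lib.Helper28.Os
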