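import Cfsg.Agent.Lib.Helper28.OsN

set_option autoImplicit false

namespace Cfsg.Agent.Lib.Helper28.Os

open Matrix Cfsg.Agent.Lib.Helper28.Sf Cfsg.Agent.Lib.Helper28.HForm
  Cfsg.Agent.Lib.Helper28.OGen Cfsg.Agent.Lib.Helper28.OMax Cfsg.Agent.Lib.Helper28.OQ
  Cfsg.Agent.Lib.Helper28.OMax2 Cfsg.Agent.Lib.Helper28.OIwa

variable {n : ℕ} {F : Type*} [Field F] {F₀ : Subfield F} {Q : (Fin n → F) → F}
  {f : (Fin n → F) → (Fin n → F) → F}
  {G H : Subgroup (Matrix.GeneralLinearGroup (Fin n) F)}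

local notation "GLn" => Matrix.GeneralLinearGroup (Fin n) F

theorem exists_not_mem_F0 [Fintype F] {r : ℕ} (hr : r.Prime)
    (hcard : Fintype.card F = Nat.card F₀ ^ r) : ∃ c : F, c ∉ F₀ := by
  by_contra hcon
  push Not at hcon
  have h1 : Nat.card F₀ = Fintype.card F := by
    rw [← Nat.card_eq_fintype_card]
    exact Nat.card_congr (Equiv.subtypeUnivEquiv hcon)
  rw [h1] at hcard
  have h2 : 1 < Fintype.card F := Fintype.one_lt_card
  have h3 : Fintype.card F ^ 1 < Fintype.card F ^ r := Nat.pow_lt_pow_right h2 hr.one_lt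
  rw [pow_one] at h3
  omega

/-- the abstract maximality theorem for subfield subgroups of orthogonal groups -/
theorem os_main [Fintype F] {r : ℕ} (hr : r.Prime) (hcard : Fintype.card F = Nat.card F₀ ^ r)
    (rc : RC F₀ Q f) (vf : VFacts Q f) (sg : SgGroupQ Q f G) (hn : 13 ≤ n) :
    Cfsg.Geo.IsMaximalIn G (Cfsg.Geo.subfieldSubgroup F₀ (1 : GLn) ⊓ G) := by
  have hf := rc.hq.sym
  have hq := rc.hq
  constructor
  · -- properness
    apply lt_of_le_of_ne inf_le_right
    intro heq
    have C : OC F₀ Q f G G := ⟨rc, vf, sg, le_refl _, inf_le_right, hn⟩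
    obtain ⟨u, v, tp⟩ := C.ex_TP
    obtain ⟨c, hc⟩ := exists_not_mem_F0 hr hcard
    obtain ⟨t, hts⟩ := sg.ex u v c tp.qu tp.qv tp.uv
    have htG : t ∈ G := sg.sg t u v c tp.qu tp.qv tp.uv hts
    have hts' : t ∈ Cfsg.Geo.subfieldSubgroup F₀ (1 : GLn) := by
      rw [← heq] at htG
      exact htG.1
    have hr' := unip_rat hf (f_sing hq tp.qu) (f_sing hq tp.qv) tp.uv hts hts'
    obtain ⟨x, hx, hQx, hxp, hux⟩ := rc.ex_partner ![v] (fun j => by fin_cases j; exact tp.rv)
      tp.ru tp.qu (fun j => by fin_cases j; simpa using (by rw [s_symm hf, tp.uv] : f v u = 0))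
      (by
        rw [mem_span_single']
        rintro ⟨α, hα⟩
        have hα0 : α ≠ 0 := by
          rintro rfl
          rw [zero_smul] at hα
          exact tp.u0 hα.symm
        apply tp.ind
        rw [Submodule.mem_span_singleton]
        refine ⟨α⁻¹, ?_⟩
        rw [← hα, smul_smul, inv_mul_cancel₀ hα0, one_smul])
    have hvx : f v x = 0 := hxp 0
    have h1 := (hr' x hx).sub hx
    have e : (t : Matrix (Fin n) (Fin n) F) *ᵥ x - x = c • v := by
      rw [hts x]
      unfold Tv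
      rw [hux, hvx]
      module
    rw [e] at h1
    obtain ⟨j, hj⟩ : ∃ j, v j ≠ 0 := by
      by_contra hcon
      push Not at hcon
      exact tp.v0 (funext hcon)
    apply hc
    have h2 := h1 j
    rw [Pi.smul_apply, smul_eq_mul] at h2
    have h3 : c = c * v j * (v j)⁻¹ := by field_simp
    rw [h3]
    exact F₀.mul_mem h2 (F₀.inv_mem (tp.rv j))
  · intro M hM1 hM2
    have C : OC F₀ Q f G M := ⟨rc, vf, sg, hM2, hM1, hn⟩
    rcases C.AA_cases hr hcard with hA | hA
    · left
      apply le_antisymm _ hM1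
      exact le_inf (C.stepD hA) hM2
    · right
      exact C.stepC hA

end Cfsg.Agent.Lib.Helper28.Os
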