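import Cfsg.Agent.Lib.Helper28.OsO
import Cfsg.Agent.Lib.Helper28.OGenQ
import Cfsg.Agent.Lib.Helper28.SfH

set_option autoImplicit false

namespace Cfsg.Agent.Lib.Helper28.Os

open Matrix Cfsg.Agent.Lib.Helper28.Sf Cfsg.Agent.Lib.Helper28.HForm
  Cfsg.Agent.Lib.Helper28.OGen Cfsg.Agent.Lib.Helper28.OMax Cfsg.Agent.Lib.Helper28.OQ
  Cfsg.Agent.Lib.Helper28.OMax2 Cfsg.Agent.Lib.Helper28.OIwa Cfsg.Agent.Lib.Lead
  Cfsg.Agent.Lib.Helper28.OTrans Cfsg.Agent.Lib.Helper28.OGenQ Cfsg.Agent.S0795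

variable {n : ℕ} {F : Type*} [Field F]

local notation "GLn" => Matrix.GeneralLinearGroup (Fin n) F

/-- the transported and rescaled quadratic form -/
noncomputable def Q2 (Q : QuadraticForm F (Fin n → F)) (P : GLn) (ζ : F) :
    QuadraticForm F (Fin n → F) :=
  ζ • Q.comp (Matrix.mulVecLin (P : Matrix (Fin n) (Fin n) F))

theorem Q2_apply (Q : QuadraticForm F (Fin n → F)) (P : GLn) (ζ : F) (x : Fin n → F) :
    Q2 Q P ζ x = ζ * Q ((P : Matrix (Fin n) (Fin n) F) *ᵥ x) := rfl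

theorem Q2_polar (Q : QuadraticForm F (Fin n → F)) (P : GLn) (ζ : F) (x y : Fin n → F) :
    QuadraticMap.polarBilin (Q2 Q P ζ) x y =
      ζ * QuadraticMap.polarBilin Q ((P : Matrix (Fin n) (Fin n) F) *ᵥ x)
        ((P : Matrix (Fin n) (Fin n) F) *ᵥ y) := by
  simp only [QuadraticMap.polarBilin_apply_apply, QuadraticMap.polar, Q2_apply,
    Matrix.mulVec_add]
  ring

theorem Q2_nondeg (Q : QuadraticForm F (Fin n → F))
    (hQ : (QuadraticMap.polarBilin Q).Nondegenerate) (P : GLn) {ζ : F} (hζ : ζ ≠ 0) :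
    (QuadraticMap.polarBilin (Q2 Q P ζ)).Nondegenerate := by
  have hsurj : ∀ y' : Fin n → F, ∃ y : Fin n → F, (P : Matrix (Fin n) (Fin n) F) *ᵥ y = y' :=
    fun y' => ⟨_, Cfsg.Agent.S5643.inv_mv' P y'⟩
  constructor
  · intro x hx
    have h1 : (P : Matrix (Fin n) (Fin n) F) *ᵥ x = 0 := by
      apply hQ.1
      intro y'
      obtain ⟨y, rfl⟩ := hsurj y'
      have := hx y
      rw [Q2_polar] at this
      rcases mul_eq_zero.mp this with h | h
      · exact absurd h hζ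
      · exact h
    exact Cfsg.Agent.Lib.Helper28.SubF.gl_inj P h1
  · intro y hy
    have h1 : (P : Matrix (Fin n) (Fin n) F) *ᵥ y = 0 := by
      apply hQ.2
      intro x'
      obtain ⟨x, rfl⟩ := hsurj x'
      have := hy x
      rw [Q2_polar] at this
      rcases mul_eq_zero.mp this with h | h
      · exact absurd h hζ
      · exact h
    exact Cfsg.Agent.Lib.Helper28.SubF.gl_inj P h1

theorem map_iso_conj (Q : (Fin n → F) → F) (P : GLn) {ζ : F} (hζ : ζ ≠ 0) :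
    (Cfsg.isometryGroup F (fun x => ζ * Q ((P : Matrix (Fin n) (Fin n) F) *ᵥ x))).map
      (MulAut.conj P).toMonoidHom = Cfsg.isometryGroup F Q := by
  ext g
  rw [Subgroup.mem_map_equiv, RI.mem_iso_iff', RI.mem_iso_iff', MulAut.conj_symm_apply]
  constructor
  · intro h y
    have h1 := h (((P⁻¹ : GLn) : Matrix (Fin n) (Fin n) F) *ᵥ y)
    simp only [Cfsg.Agent.S5643.mul_mv, Cfsg.Agent.S5643.inv_mv'] at h1
    exact mul_left_cancel₀ hζ h1
  · intro h x
    simp only [Cfsg.Agent.S5643.mul_mv, Cfsg.Agent.S5643.inv_mv']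
    rw [h]

theorem map_omega_conj (Q : (Fin n → F) → F) (P : GLn) {ζ : F} (hζ : ζ ≠ 0) :
    (Cfsg.Geo.omegaGL (fun x => ζ * Q ((P : Matrix (Fin n) (Fin n) F) *ᵥ x))).map
      (MulAut.conj P).toMonoidHom = Cfsg.Geo.omegaGL Q := by
  rw [omegaGL_eq, omegaGL_eq, Subgroup.map_commutator, map_iso_conj Q P hζ]

/-- the subfield subgroups of the orthogonal groups in dimension at least `13` are maximal -/
theorem os_quad [Fintype F] (hn : 13 ≤ n) (Q : QuadraticForm F (Fin n → F))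
    (hQ : (QuadraticMap.polarBilin Q).Nondegenerate) (F₀ : Subfield F) (r : ℕ) (hr : r.Prime)
    (hcard : Fintype.card F = Nat.card F₀ ^ r) (P : GLn) (ζ : F) (hζ : ζ ≠ 0)
    (hP : Cfsg.Geo.IsQuadFormRationalStructure (fun v : Fin n → F => ζ * Q v) F₀ P) :
    Cfsg.Geo.IsMaximalIn (Cfsg.Geo.omegaGL (⇑Q))
      (Cfsg.Geo.subfieldSubgroup F₀ P ⊓ Cfsg.Geo.omegaGL (⇑Q)) := by
  have hQ₂ := Q2_nondeg Q hQ P hζ
  have rc : RC F₀ (⇑(Q2 Q P ζ)) (pf (Q2 Q P ζ)) := ⟨qf_of_quad _ hQ₂, fun v hv => hP v hv⟩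
  have main := os_main hr hcard rc (vfacts_quad (by omega) _ hQ₂) (sgGroupQ_quad (by omega) _ hQ₂)
    hn
  have h1 := isMaximalIn_map (MulAut.conj P) main
  have e : (⇑(Q2 Q P ζ) : (Fin n → F) → F) =
      fun x => ζ * Q ((P : Matrix (Fin n) (Fin n) F) *ᵥ x) := rfl
  rw [Subgroup.map_inf _ _ _ (MulAut.conj P).injective, ← sub_eq_map, e,
    map_omega_conj (⇑Q) P hζ] at h1
  exact h1

end Cfsg.Agent.Lib.Helper28.Os
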