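import Cfsg.Agent.Lib.helper3.PSL2A
import Cfsg.Agent.Lib.Helper28.P2Card

set_option autoImplicit false

namespace Cfsg.Agent.Lib.Helper28.P2

open Matrix Cfsg.Agent.Lib.helper3

/-- `H` is generated by elements of order dividing `p`. -/
def GenByP (p : ℕ) (H : Type*) [Group H] : Prop :=
  Subgroup.closure {g : H | g ^ p = 1} = ⊤

theorem GenByP.of_equiv {p : ℕ} {H H' : Type*} [Group H] [Group H'] (e : H ≃* H')
    (h : GenByP p H') : GenByP p H := by
  unfold GenByP at h ⊢
  have h1 : (Subgroup.closure {g : H' | g ^ p = 1}).comap e.toMonoidHom = ⊤ := by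
    rw [h]; rfl
  rw [eq_top_iff] at h1 ⊢
  intro x hx
  have hx' : e x ∈ Subgroup.closure {g : H' | g ^ p = 1} := h1 hx
  have : Subgroup.closure {g : H' | g ^ p = 1} ≤
      (Subgroup.closure {g : H | g ^ p = 1}).map e.toMonoidHom := by
    rw [Subgroup.closure_le]
    intro g hg
    refine ⟨e.symm g, Subgroup.subset_closure ?_, by simp⟩
    show (e.symm g) ^ p = 1
    rw [← map_pow, show g ^ p = 1 from hg, map_one]
  obtain ⟨y, hy, hye⟩ := this hx'
  have : y = x := e.injective hye
  rw [← this]; exact hy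

/-- a homomorphism out of a group generated by `p`-elements, mapping `p`-elements into `S`,
has image in `S` -/
theorem GenByP.map_le {p : ℕ} {H G : Type*} [Group H] [Group G] (h : GenByP p H)
    (f : H →* G) (S : Subgroup G) (hS : ∀ g : H, g ^ p = 1 → f g ∈ S) (x : H) : f x ∈ S := by
  have h1 : Subgroup.closure {g : H | g ^ p = 1} ≤ S.comap f := by
    rw [Subgroup.closure_le]
    intro g hg
    exact hS g hg
  rw [h] at h1
  exact h1 (Subgroup.mem_top x)

section
variable {K : Type*} [Field K]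

theorem uu_pow (t : K) (n : ℕ) : (uu t) ^ n = uu (n • t) := by
  induction n with
  | zero => simp [uu_zero]
  | succ k ih => rw [pow_succ, ih, uu_mul, succ_nsmul]

theorem vv_pow (t : K) (n : ℕ) : (vv t) ^ n = vv (n • t) := by
  induction n with
  | zero => simp [vv_zero]
  | succ k ih => rw [pow_succ, ih, vv_mul, succ_nsmul]

theorem genByP_psl2 (p : ℕ) [CharP K p] :
    GenByP p (Matrix.ProjectiveSpecialLinearGroup (Fin 2) K) := by
  unfold GenByP
  have hsurj : Function.Surjective
      (QuotientGroup.mk' (Subgroup.center (Matrix.SpecialLinearGroup (Fin 2) K))) :=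
    QuotientGroup.mk'_surjective _
  have h1 := closure_uu_vv (F := K)
  have h2 : (Subgroup.closure (Set.range (uu : K → S2 K) ∪ Set.range (vv : K → S2 K))).map
      (QuotientGroup.mk' (Subgroup.center (Matrix.SpecialLinearGroup (Fin 2) K))) = ⊤ := by
    rw [h1]
    exact Subgroup.map_top_of_surjective _ hsurj
  rw [MonoidHom.map_closure] at h2
  rw [eq_top_iff, ← h2]
  apply Subgroup.closure_mono
  rintro _ ⟨g, hg, rfl⟩
  show (QuotientGroup.mk' _ g) ^ p = 1
  rw [← map_pow]
  have hp0 : ∀ t : K, p • t = 0 := by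
    intro t
    rw [nsmul_eq_mul, CharP.cast_eq_zero, zero_mul]
  rcases hg with ⟨t, rfl⟩ | ⟨t, rfl⟩
  · rw [uu_pow, hp0, uu_zero, map_one]
  · rw [vv_pow, hp0, vv_zero, map_one]

end

section
variable {K : Type*} [Field K] [Fintype K]

theorem not_isPGroup_psl2 (p : ℕ) [hp : Fact p.Prime] [CharP K p] :
    ¬ IsPGroup p (Matrix.ProjectiveSpecialLinearGroup (Fin 2) K) := by
  intro h
  obtain ⟨n, hn⟩ := IsPGroup.iff_card.mp h
  obtain ⟨k, hpk, hk⟩ := FiniteField.card K p
  have hcard := card_psl2 (F := K)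
  rw [hn] at hcard
  set q := Fintype.card K with hq
  have hq2 : 2 ≤ q := two_le_card
  -- q^2 - 1 divides gcd * p^n, and is coprime to p
  have hdvd : q ^ 2 - 1 ∣ Nat.gcd 2 (q - 1) * p ^ n := by
    rw [hcard]; exact Dvd.intro_left _ rfl
  have hcop : Nat.Coprime (q ^ 2 - 1) (p ^ n) := by
    apply Nat.Coprime.pow_right
    rw [Nat.coprime_comm, Nat.Prime.coprime_iff_not_dvd hp.out]
    intro hd
    have h3 : p ∣ q ^ 2 := by
      rw [hk, ← pow_mul]
      exact dvd_pow_self p (by positivity)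
    have h4 : 1 ≤ q ^ 2 := Nat.one_le_pow _ _ (by omega)
    have h5 : p ∣ q ^ 2 - (q ^ 2 - 1) := Nat.dvd_sub h3 hd
    have h6 : q ^ 2 - (q ^ 2 - 1) = 1 := by omega
    rw [h6] at h5
    have := Nat.le_of_dvd (by norm_num) h5
    have := hp.out.two_le
    omega
  have h7 : q ^ 2 - 1 ∣ Nat.gcd 2 (q - 1) := hcop.dvd_of_dvd_mul_right hdvd
  have h8 : q ^ 2 - 1 ≤ 2 := by
    have := Nat.le_of_dvd (gcd_two_pos _) h7
    have := Nat.le_of_dvd (by norm_num) (gcd_two_dvd_two (q - 1))
    omega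
  have h9 : 4 ≤ q ^ 2 := by nlinarith
  omega

end

end Cfsg.Agent.Lib.Helper28.P2
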