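import Cfsg.Agent.S0799
import Cfsg.Agent.Lib.Helper28.P2Gen

set_option autoImplicit false

namespace Cfsg.Agent.Lib.Helper28.P2

open Matrix

theorem card_alt4 : Nat.card (alternatingGroup (Fin 4)) = 12 := by
  have h := two_mul_card_alternatingGroup (α := Fin 4)
  rw [Fintype.card_perm, Fintype.card_fin] at h
  rw [Nat.card_eq_fintype_card]
  have : (4 : ℕ).factorial = 24 := rfl
  omega

theorem card_alt5 : Nat.card (alternatingGroup (Fin 5)) = 60 := by
  have h := two_mul_card_alternatingGroup (α := Fin 5)
  rw [Fintype.card_perm, Fintype.card_fin] at h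
  rw [Nat.card_eq_fintype_card]
  have : (5 : ℕ).factorial = 120 := rfl
  omega

theorem card_perm4 : Nat.card (Equiv.Perm (Fin 4)) = 24 := by
  rw [Nat.card_eq_fintype_card, Fintype.card_perm, Fintype.card_fin]
  rfl

section
variable {G : Type*} [Group G]

/-- a subgroup generated by `p`-elements, inside a group isomorphic to a subgroup of the
normaliser of a Sylow `p`-subgroup, is a `p`-group -/
theorem isPGroup_of_le_iso_normalizer (p : ℕ) [Fact p.Prime] (P : Sylow p G)
    (K' L H0 : Subgroup G) (hK : K' ≤ Subgroup.normalizer ((P : Subgroup G) : Set G))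
    (e : L ≃* K') (hH0 : H0 ≤ L) (hgen : GenByP p H0) : IsPGroup p H0 := by
  let f : H0 →* G := (K'.subtype.comp e.toMonoidHom).comp (Subgroup.inclusion hH0)
  have hf : Function.Injective f := by
    intro x y hxy
    have h1 : e (Subgroup.inclusion hH0 x) = e (Subgroup.inclusion hH0 y) := Subtype.ext hxy
    exact Subgroup.inclusion_injective hH0 (e.injective h1)
  have hfN : ∀ x : H0, f x ∈ Subgroup.normalizer ((P : Subgroup G) : Set G) := by
    intro x
    exact hK (e (Subgroup.inclusion hH0 x)).2
  have hmem : ∀ x : H0, f x ∈ (P : Subgroup G) := by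
    apply hgen.map_le f
    intro g hg
    have hz : IsPGroup p (Subgroup.zpowers (f g)) := by
      have hfg : (f g) ^ p = 1 := by rw [← map_pow, hg, map_one]
      have hd := orderOf_dvd_of_pow_eq_one hfg
      rcases (Nat.dvd_prime (Fact.out : p.Prime)).mp hd with h1 | h1
      · apply IsPGroup.of_card (n := 0)
        rw [Nat.card_zpowers, h1, pow_zero]
      · apply IsPGroup.of_card (n := 1)
        rw [Nat.card_zpowers, h1, pow_one]
    have hle : Subgroup.zpowers (f g) ≤ Subgroup.normalizer ((P : Subgroup G) : Set G) := by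
      rw [Subgroup.zpowers_le]
      exact hfN g
    have h1 : Subgroup.zpowers (f g) ⊓ Subgroup.normalizer ((P : Subgroup G) : Set G) =
        Subgroup.zpowers (f g) ⊓ (P : Subgroup G) := hz.inf_normalizer_sylow P
    have h2 : Subgroup.zpowers (f g) ⊓ Subgroup.normalizer ((P : Subgroup G) : Set G) =
        Subgroup.zpowers (f g) := inf_eq_left.mpr hle
    rw [h2] at h1
    have h3 : Subgroup.zpowers (f g) ≤ (P : Subgroup G) := by
      rw [h1]; exact inf_le_right
    exact h3 (Subgroup.mem_zpowers _)
  have htop : (P : Subgroup G).comap f = ⊤ := by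
    rw [eq_top_iff]
    intro x _
    exact hmem x
  have h1 : IsPGroup p ((P : Subgroup G).comap f) := P.isPGroup'.comap_of_injective f hf
  rw [htop] at h1
  exact h1.of_equiv Subgroup.topEquiv

end

section
variable {F : Type*} [Field F] [Fintype F]

/-- `p ∣ q` for a finite field of characteristic `p` -/
theorem char_dvd_card (p : ℕ) [Fact p.Prime] [CharP F p] : p ∣ Fintype.card F := by
  obtain ⟨k, -, hk⟩ := FiniteField.card F p
  rw [hk]
  exact dvd_pow_self p (by positivity)

theorem coprime_of_dvd_succ (p q k : ℕ) (hp : p.Prime) (hpq : p ∣ q) (hq : 1 ≤ q)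
    (hk : k ∣ q + 1 ∨ k ∣ q - 1) : Nat.Coprime k p := by
  rw [Nat.coprime_comm, Nat.Prime.coprime_iff_not_dvd hp]
  intro hd
  rcases hk with hk | hk
  · have h1 : p ∣ q + 1 := dvd_trans hd hk
    have h2 : p ∣ 1 := (Nat.dvd_add_right hpq).mp h1
    have := Nat.le_of_dvd (by norm_num) h2
    have := hp.two_le
    omega
  · have h1 : p ∣ q - 1 := dvd_trans hd hk
    have h2 : p ∣ q - (q - 1) := Nat.dvd_sub hpq h1
    have h3 : q - (q - 1) = 1 := by omega
    rw [h3] at h2
    have := Nat.le_of_dvd (by norm_num) h2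
    have := hp.two_le
    omega

/-- Dickson's theorem for an overgroup `L` of a subgroup `H` containing a non-`p`-group `H0`
generated by `p`-elements: only the cases `A₄, S₄, A₅` and the subfield cases survive. -/
theorem overgroup_cases (p : ℕ) [Fact p.Prime] [CharP F p]
    (H0 H L : Subgroup (Matrix.ProjectiveSpecialLinearGroup (Fin 2) F))
    (hH0 : H0 ≤ H) (hHL : H ≤ L) (hgen : GenByP p H0) (hnp : ¬ IsPGroup p H0)
    (hpH : p ∣ Nat.card H) (h4 : p = 2 → 4 ∣ Nat.card H) :
    (Nat.card L = 12 ∨ Nat.card L = 24 ∨ Nat.card L = 60) ∨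
    (∃ (K' : Type) (_ : Field K') (_ : Fintype K') (m : ℕ),
      Fintype.card K' ^ m = Fintype.card F ∧
      (Nonempty (L ≃* Matrix.ProjectiveSpecialLinearGroup (Fin 2) K') ∨
        Nonempty (L ≃* Matrix.ProjGenLinGroup (Fin 2) K'))) := by
  have hp : p.Prime := Fact.out
  have hq2 : 2 ≤ Fintype.card F := two_le_card
  rcases Cfsg.Agent.S0799.result (F := F) (q := Fintype.card F) rfl p L with
    ⟨k, hk, hL⟩ | ⟨P, K', hK', ⟨e⟩⟩ | ⟨⟨e⟩⟩ | ⟨⟨e⟩⟩ | ⟨⟨e⟩⟩ | h
  · -- cyclic or dihedral
    exfalso
    have hk' : k ∣ Fintype.card F + 1 ∨ k ∣ Fintype.card F - 1 := by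
      rcases hk with hk | hk
      · left; exact dvd_trans hk (Nat.div_dvd_of_dvd (by
          rcases Nat.even_or_odd (Fintype.card F) with he | ho
          · have : Nat.gcd 2 (Fintype.card F - 1) = 1 := by
              apply Nat.coprime_two_left.mpr
              rcases he with ⟨t, ht⟩
              exact ⟨t - 1, by omega⟩
            rw [this]; exact one_dvd _
          · have h1 : 2 ∣ Fintype.card F + 1 := by
              rcases ho with ⟨t, ht⟩
              exact ⟨t + 1, by omega⟩
            exact dvd_trans (Nat.gcd_dvd_left _ _) h1))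
      · right; exact dvd_trans hk (Nat.div_dvd_of_dvd (Nat.gcd_dvd_right _ _))
    have hcop := coprime_of_dvd_succ p _ k hp (char_dvd_card p) (by omega) hk'
    have hLk : Nat.card L ∣ 2 * k := by
      rcases hL with ⟨_, hc⟩ | ⟨⟨e⟩⟩
      · rw [hc]; exact Dvd.intro_left _ rfl
      · rw [Nat.card_congr e.toEquiv, DihedralGroup.nat_card]
    have hHk : Nat.card H ∣ 2 * k := dvd_trans (Subgroup.card_dvd_of_le hHL) hLk
    rcases hp.eq_two_or_odd' with h2 | hodd
    · have h5 := dvd_trans (h4 h2) hHk
      have h6 : 2 ∣ k := by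
        have : 2 * 2 ∣ 2 * k := h5
        exact (Nat.mul_dvd_mul_iff_left (by norm_num)).mp this
      rw [h2] at hcop
      have := Nat.Coprime.eq_one_of_dvd hcop.symm h6
      omega
    · have h5 := dvd_trans hpH hHk
      rcases (Nat.Prime.dvd_mul hp).mp h5 with h6 | h6
      · have := Nat.le_of_dvd (by norm_num) h6
        have := hp.two_le
        have : p = 2 := by omega
        rw [this] at hodd
        exact absurd hodd (by decide)
      · have := Nat.Coprime.eq_one_of_dvd hcop.symm h6
        have := hp.two_le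
        omega
  · -- inside the normaliser of a Sylow subgroup
    exfalso
    exact hnp (isPGroup_of_le_iso_normalizer p P K' L H0 hK' e (hH0.trans hHL) hgen)
  · left; left
    rw [Nat.card_congr e.toEquiv, card_alt4]
  · left; right; left
    rw [Nat.card_congr e.toEquiv, card_perm4]
  · left; right; right
    rw [Nat.card_congr e.toEquiv, card_alt5]
  · right; exact h

end

end Cfsg.Agent.Lib.Helper28.P2
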