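import Cfsg.Agent.Lib.Helper28.P2Max

set_option autoImplicit false

namespace Cfsg.Agent.Lib.Helper28.P2

open Matrix Cfsg.Agent.Lib.helper3

section
variable {K : Type*} [Field K]

theorem genByP_of_surjective (p : ℕ) [CharP K p] {X : Type*} [Group X]
    (f : Matrix.SpecialLinearGroup (Fin 2) K →* X) (hf : Function.Surjective f) :
    GenByP p X := by
  unfold GenByP
  have h1 := closure_uu_vv (F := K)
  have h2 : (Subgroup.closure (Set.range (uu : K → S2 K) ∪ Set.range (vv : K → S2 K))).map f = ⊤ := by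
    rw [h1]
    exact Subgroup.map_top_of_surjective _ hf
  rw [MonoidHom.map_closure] at h2
  rw [eq_top_iff, ← h2]
  apply Subgroup.closure_mono
  rintro _ ⟨g, hg, rfl⟩
  show (f g) ^ p = 1
  rw [← map_pow]
  have hp0 : ∀ t : K, p • t = 0 := by
    intro t
    rw [nsmul_eq_mul, CharP.cast_eq_zero, zero_mul]
  rcases hg with ⟨t, rfl⟩ | ⟨t, rfl⟩
  · rw [uu_pow, hp0, uu_zero, map_one]
  · rw [vv_pow, hp0, vv_zero, map_one]

/-- the image of `SL₂(K)` in `PGL₂(K)` -/
def pslRange (K : Type*) [Field K] : Subgroup (Matrix.ProjGenLinGroup (Fin 2) K) :=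
  (Matrix.SpecialLinearGroup.toPGL : Matrix.SpecialLinearGroup (Fin 2) K →* _).range

theorem genByP_pslRange (p : ℕ) [CharP K p] : GenByP p ↥(pslRange K) :=
  genByP_of_surjective p
    (Matrix.SpecialLinearGroup.toPGL : Matrix.SpecialLinearGroup (Fin 2) K →* _).rangeRestrict
    (MonoidHom.rangeRestrict_surjective _)

end

section
variable {K : Type*} [Field K] [Fintype K]

theorem not_isPGroup_pslRange (p : ℕ) [Fact p.Prime] [CharP K p] :
    ¬ IsPGroup p ↥(pslRange K) := by
  intro h
  apply not_isPGroup_psl2 (K := K) p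
  intro x
  obtain ⟨g, rfl⟩ := QuotientGroup.mk_surjective x
  obtain ⟨k, hk⟩ := h ⟨Matrix.SpecialLinearGroup.toPGL g, ⟨g, rfl⟩⟩
  refine ⟨k, ?_⟩
  have h1 : (Matrix.SpecialLinearGroup.toPGL g : Matrix.ProjGenLinGroup (Fin 2) K) ^ (p ^ k) = 1 := by
    have := congrArg Subtype.val hk
    simpa using this
  rw [← map_pow] at h1
  have h2 : g ^ (p ^ k) ∈ (Matrix.SpecialLinearGroup.toPGL :
      Matrix.SpecialLinearGroup (Fin 2) K →* Matrix.ProjGenLinGroup (Fin 2) K).ker :=
    MonoidHom.mem_ker.mpr h1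
  rw [Matrix.SpecialLinearGroup.toPGL_ker] at h2
  show ((QuotientGroup.mk g : Matrix.ProjectiveSpecialLinearGroup (Fin 2) K)) ^ (p ^ k) = 1
  rw [← QuotientGroup.mk_pow]
  exact (QuotientGroup.eq_one_iff _).mpr h2

end

section
variable {F K : Type*} [Field F] [Fintype F] [Field K] [Fintype K]

/-- a subgroup `PGL₂(K) ≤ PSL₂(F)` with `|F| = |K|²` odd is maximal -/
theorem isCoatom_pgl2_subfield (p : ℕ) [Fact p.Prime] [CharP F p] [CharP K p] (hp2 : p ≠ 2)
    (hK : Fintype.card K ^ 2 = Fintype.card F)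
    (H : Subgroup (Matrix.ProjectiveSpecialLinearGroup (Fin 2) F))
    (e : H ≃* Matrix.ProjGenLinGroup (Fin 2) K) : IsCoatom H := by
  classical
  have hp : p.Prime := Fact.out
  have hq2 : 2 ≤ Fintype.card K := two_le_card
  have hpq : p ∣ Fintype.card K := char_dvd_card p
  obtain ⟨a, ha1, ha⟩ : ∃ a, 1 ≤ a ∧ Fintype.card K = p ^ a :=
    card_eq_char_pow (F := K) p 1 one_ne_zero (pow_one _)
  have hpodd : Odd p := hp.odd_of_ne_two hp2
  have hqodd : Odd (Fintype.card K) := by rw [ha]; exact hpodd.pow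
  have hq3 : 3 ≤ Fintype.card K := by
    rcases hqodd with ⟨t, ht⟩
    omega
  have hQodd : Odd (Fintype.card F) := by rw [← hK]; exact hqodd.pow
  have hh : Nat.card H = Fintype.card K * (Fintype.card K ^ 2 - 1) := by
    rw [Nat.card_congr e.toEquiv]; exact card_pgl2
  have hg : 2 * Nat.card (Matrix.ProjectiveSpecialLinearGroup (Fin 2) F) =
      Fintype.card F * (Fintype.card F ^ 2 - 1) := by
    have := card_psl2 (F := F)
    rw [gcd_two_pred_odd hQodd] at this
    exact this
  -- the subgroup H0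
  let H0' : Subgroup H := (pslRange K).map e.symm.toMonoidHom
  let H0 : Subgroup (Matrix.ProjectiveSpecialLinearGroup (Fin 2) F) := H0'.map H.subtype
  have hH0 : H0 ≤ H := by
    rintro _ ⟨x, -, rfl⟩
    exact x.2
  have e0 : ↥(pslRange K) ≃* ↥H0 :=
    (e.symm.subgroupMap (pslRange K)).trans
      (Subgroup.equivMapOfInjective H0' H.subtype H.subtype_injective)
  have hgen : GenByP p H0 := (genByP_pslRange (K := K) p).of_equiv e0.symm
  have hnp : ¬ IsPGroup p H0 := fun h => not_isPGroup_pslRange (K := K) p (h.of_equiv e0.symm)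
  have hpH : p ∣ Nat.card H := by
    rw [hh]; exact dvd_trans hpq (Dvd.intro _ rfl)
  have h4H : p = 2 → 4 ∣ Nat.card H := fun h => absurd h hp2
  -- sizes
  obtain ⟨u, hu⟩ : ∃ u, Fintype.card K ^ 2 = u + 1 := ⟨Fintype.card K ^ 2 - 1, by
    have : 1 ≤ Fintype.card K ^ 2 := Nat.one_le_pow _ _ (by omega)
    omega⟩
  have hu8 : 8 ≤ u := by
    have : 9 ≤ Fintype.card K ^ 2 := by nlinarith
    omega
  have hqu : Fintype.card K ≤ u + 1 := by
    rw [← hu]; nlinarith
  have hh' : Nat.card H = Fintype.card K * u := by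
    rw [hh, hu, Nat.add_sub_cancel]
  have hg' : 2 * Nat.card (Matrix.ProjectiveSpecialLinearGroup (Fin 2) F) =
      (u + 1) * (u * (u + 2)) := by
    rw [hg, ← hK, hu]
    congr 1
    have : (u + 1) ^ 2 = u * (u + 2) + 1 := by ring
    rw [this, Nat.add_sub_cancel]
  have hlt : Nat.card H < Nat.card (Matrix.ProjectiveSpecialLinearGroup (Fin 2) F) := by
    have h1 : 2 * Nat.card H < 2 * Nat.card (Matrix.ProjectiveSpecialLinearGroup (Fin 2) F) := by
      rw [hg', hh']
      have h2 : 2 * Fintype.card K ≤ 2 * (u + 1) := by omega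
      have h3 : 2 * (u + 1) < (u + 1) * (u + 2) := by nlinarith
      have h4 : 2 * (Fintype.card K * u) = (2 * Fintype.card K) * u := by ring
      have h5 : (u + 1) * (u * (u + 2)) = ((u + 1) * (u + 2)) * u := by ring
      rw [h4, h5]
      exact Nat.mul_lt_mul_of_pos_right (by omega) (by omega)
    omega
  have hh24 : Nat.card H = 24 ∨ 120 ≤ Nat.card H := by
    rcases Nat.lt_or_ge (Fintype.card K) 5 with h5 | h5
    · left
      have : Fintype.card K = 3 := by
        rcases hqodd with ⟨t, ht⟩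
        omega
      rw [hh, this]
      norm_num
    · right
      rw [hh']
      have : 24 ≤ u := by
        have : 25 ≤ Fintype.card K ^ 2 := by nlinarith
        omega
      nlinarith
  refine ⟨?_, ?_⟩
  · intro htop
    rw [htop, Subgroup.card_top] at hlt
    exact lt_irrefl _ hlt
  · intro L hHL
    by_contra hLtop
    have hdvdHL : Nat.card H ∣ Nat.card L := Subgroup.card_dvd_of_le hHL.le
    have hltL : Nat.card H < Nat.card L := by
      rcases Nat.lt_or_ge (Nat.card H) (Nat.card L) with h | h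
      · exact h
      · exfalso
        exact hHL.ne (Subgroup.eq_of_le_of_card_ge hHL.le h)
    have hLg : Nat.card L ≠ Nat.card (Matrix.ProjectiveSpecialLinearGroup (Fin 2) F) := by
      intro h
      exact hLtop ((Subgroup.card_eq_iff_eq_top L).mp h)
    have hLdvd : Nat.card L ∣ Nat.card (Matrix.ProjectiveSpecialLinearGroup (Fin 2) F) :=
      Subgroup.card_subgroup_dvd_card L
    rcases overgroup_cases p H0 H L hH0 hHL.le hgen hnp hpH h4H with
      hc | ⟨K', _, _, m, hK', hiso⟩
    · -- A4, S4, A5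
      rcases hh24 with h24 | h120
      · rw [h24] at hdvdHL hltL
        rcases hc with h | h | h <;> rw [h] at hdvdHL hltL <;> omega
      · rcases hc with h | h | h <;> omega
    · have hldvd : Nat.card L ∣ Fintype.card K' * (Fintype.card K' ^ 2 - 1) := by
        rcases hiso with ⟨⟨eL⟩⟩ | ⟨⟨eL⟩⟩
        · rw [Nat.card_congr eL.toEquiv]; exact card_psl2_dvd
        · rw [Nat.card_congr eL.toEquiv, card_pgl2]
      have hdvd : Fintype.card K * (Fintype.card K ^ 2 - 1) ∣
          2 * (Fintype.card K' * (Fintype.card K' ^ 2 - 1)) := by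
        rw [← hh]
        exact dvd_trans (dvd_trans hdvdHL hldvd) (Dvd.intro_left _ rfl)
      rcases subfield_card_cases p 2 m Nat.prime_two hK hK' hdvd with hq' | hq'
      · rcases hiso with ⟨⟨eL⟩⟩ | ⟨⟨eL⟩⟩
        · have hl : Nat.gcd 2 (Fintype.card K' - 1) * Nat.card L =
              Fintype.card K' * (Fintype.card K' ^ 2 - 1) := by
            rw [Nat.card_congr eL.toEquiv]; exact card_psl2
          rw [hq', ← hh, gcd_two_pred_odd hqodd] at hl
          omega
        · have hl : Nat.card L = Fintype.card K' * (Fintype.card K' ^ 2 - 1) := by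
            rw [Nat.card_congr eL.toEquiv]; exact card_pgl2
          rw [hq', ← hh] at hl
          omega
      · rcases hiso with ⟨⟨eL⟩⟩ | ⟨⟨eL⟩⟩
        · have hl : Nat.gcd 2 (Fintype.card K' - 1) * Nat.card L =
              Fintype.card K' * (Fintype.card K' ^ 2 - 1) := by
            rw [Nat.card_congr eL.toEquiv]; exact card_psl2
          rw [hq', gcd_two_pred_odd hQodd, ← hg] at hl
          omega
        · have hl : Nat.card L = Fintype.card K' * (Fintype.card K' ^ 2 - 1) := by
            rw [Nat.card_congr eL.toEquiv]; exact card_pgl2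
          rw [hq', ← hg] at hl
          have hLle : Nat.card L ≤ Nat.card (Matrix.ProjectiveSpecialLinearGroup (Fin 2) F) :=
            Nat.le_of_dvd Nat.card_pos hLdvd
          have : 0 < Nat.card (Matrix.ProjectiveSpecialLinearGroup (Fin 2) F) := Nat.card_pos
          omega

end

end Cfsg.Agent.Lib.Helper28.P2
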