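import Cfsg.Agent.Lib.Helper28.P2Over

set_option autoImplicit false

namespace Cfsg.Agent.Lib.Helper28.P2

open Matrix

section
variable {F : Type*} [Field F] [Fintype F]

/-- a finite field some power of whose order is the order of `F` has order a power of `char F` -/
theorem card_eq_char_pow (p : ℕ) [Fact p.Prime] [CharP F p] {K : Type*} [Field K] [Fintype K]
    (r : ℕ) (hr : r ≠ 0) (h : Fintype.card K ^ r = Fintype.card F) :
    ∃ a : ℕ, 1 ≤ a ∧ Fintype.card K = p ^ a := by
  obtain ⟨n, -, hn⟩ := FiniteField.card F p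
  obtain ⟨p', hp'⟩ := CharP.exists K
  have := hp'
  have : Fact p'.Prime := ⟨CharP.char_is_prime K p'⟩
  obtain ⟨a, hpa, ha⟩ := FiniteField.card K p'
  have hpp : p' = p := by
    rw [ha, hn, ← pow_mul] at h
    have h1 : p' ∣ p ^ (n : ℕ) := by
      rw [← h]
      exact dvd_pow_self _ (Nat.mul_ne_zero (PNat.ne_zero a) hr)
    exact (Nat.prime_dvd_prime_iff_eq hpa (Fact.out)).mp (hpa.dvd_of_dvd_pow h1)
  subst hpp
  exact ⟨a, a.2, ha⟩

/-- the subfield arithmetic: if `|K|^r = |F| = |K'|^m` with `r` prime and the order of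
`PSL₂(K)` (up to the factor 2) divides that of `PGL₂(K')`, then `|K'| = |K|` or `|K'| = |F|`. -/
theorem subfield_card_cases (p : ℕ) [Fact p.Prime] [CharP F p]
    {K K' : Type*} [Field K] [Fintype K] [Field K'] [Fintype K'] (r m : ℕ) (hr : r.Prime)
    (hK : Fintype.card K ^ r = Fintype.card F) (hK' : Fintype.card K' ^ m = Fintype.card F)
    (hdvd : Fintype.card K * (Fintype.card K ^ 2 - 1) ∣
      2 * (Fintype.card K' * (Fintype.card K' ^ 2 - 1))) :
    Fintype.card K' = Fintype.card K ∨ Fintype.card K' = Fintype.card F := by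
  have hp : p.Prime := Fact.out
  have hm : m ≠ 0 := by
    intro h0
    rw [h0, pow_zero] at hK'
    have := two_le_card (F := F)
    omega
  obtain ⟨a, ha1, ha⟩ := card_eq_char_pow p r hr.ne_zero hK
  obtain ⟨b, hb1, hb⟩ := card_eq_char_pow p m hm hK'
  rw [ha, hb] at hdvd
  have hab : a ∣ b := dvd_of_order_dvd p a b hp ha1 hdvd
  have hexp : b * m = a * r := by
    have h1 : p ^ (b * m) = p ^ (a * r) := by
      rw [pow_mul, pow_mul, ← ha, ← hb, hK, hK']
    exact Nat.pow_right_injective hp.two_le h1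
  rcases exp_cases a b r m hr ha1 hab hexp with h | h
  · left; rw [ha, hb, h]
  · right; rw [hb, h, pow_mul, ← ha, hK]

end

end Cfsg.Agent.Lib.Helper28.P2
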