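import Mathlib
import Cfsg.Agent.Lib.helper6.P4T.Defs

set_option autoImplicit false

/-!
# Project P4T, rows TR1 + TR2 (helper28): naturality of `sym2M` and `rho12M`.
-/

namespace Cfsg.Agent.Lib.helper23.P4S

open Matrix
open scoped Kronecker

theorem sym2M_map {R S : Type} [CommRing R] [CommRing S] (f : R →+* S) (A : Matrix (Fin 2) (Fin 2) R) :
    (sym2M A).map f = sym2M (A.map f) := by
  ext i j
  fin_cases i <;> fin_cases j <;> simp [sym2M, map_mul, map_add, map_ofNat]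

theorem p4ttr1_kron_map {R S : Type} [CommRing R] [CommRing S] (f : R →+* S) {l m n k : Type}
    (A : Matrix l m R) (B : Matrix n k R) : (A ⊗ₖ B).map f = A.map f ⊗ₖ B.map f := by
  ext ⟨i, j⟩ ⟨i', j'⟩
  simp [Matrix.kroneckerMap_apply, map_mul]

theorem p4ttr1_map_map {R S : Type} [CommRing R] [CommRing S] (f : R →+* S) (φ : R →+* R) (ψ : S →+* S)
    (hf : ∀ x, f (φ x) = ψ (f x)) (A : Matrix (Fin 2) (Fin 2) R) :
    (A.map φ).map f = (A.map f).map ψ := by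
  ext i j
  simp [hf]

theorem rho12M_map {R S : Type} [CommRing R] [CommRing S] (f : R →+* S) (φ₁ φ₂ : R →+* R) (ψ₁ ψ₂ : S →+* S)
    (hf₁ : ∀ x, f (φ₁ x) = ψ₁ (f x)) (hf₂ : ∀ x, f (φ₂ x) = ψ₂ (f x)) (A : Matrix (Fin 2) (Fin 2) R) :
    (rho12M φ₁ φ₂ A).map f = rho12M ψ₁ ψ₂ (A.map f) := by
  unfold rho12M
  rw [p4ttr1_kron_map, p4ttr1_kron_map, sym2M_map, p4ttr1_map_map f φ₁ ψ₁ hf₁,
    p4ttr1_map_map f φ₂ ψ₂ hf₂]

end Cfsg.Agent.Lib.helper23.P4S
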