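import Mathlib
import Cfsg.Agent.S1265
import Cfsg.Agent.Lib.Helper20.AutAlt5
import Cfsg.Agent.Lib.Helper11.PM3.Defs

/-!
# PM3 piece A1 : elements of odd order lie in `F*(X)` when `F*(X) ≅ A_n`, `n ≥ 5`.
-/

set_option autoImplicit false

namespace Cfsg.Agent.Lib.Helper11.PM3

open Equiv MulAction
open scoped Pointwise

/-- PIECE A1. -/
theorem odd_order_mem_fstar {X : Type*} [Group X] [Finite X] (n : ℕ) (hn : 5 ≤ n)
    (hF : Nonempty (↥(Cfsg.generalizedFittingSubgroup X) ≃* ↥(alternatingGroup (Fin n))))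
    (x : X) (hx : Odd (orderOf x)) : x ∈ Cfsg.generalizedFittingSubgroup X := by
  obtain ⟨e⟩ := hF
  have hFn : (Cfsg.generalizedFittingSubgroup X).Normal :=
    Cfsg.Agent.Lib.Helper12.generalizedFittingSubgroup_normal X
  have hcard : Fintype.card (Fin n) = n := Fintype.card_fin n
  -- the automorphism of `A_n` induced by `x`
  let Φ : X →* MulAut ↥(alternatingGroup (Fin n)) :=
    (MulAut.congr e).toMonoidHom.comp
      (MulAut.conjNormal (H := Cfsg.generalizedFittingSubgroup X))
  have hΦ : ∀ (g : X) (y : ↥(Cfsg.generalizedFittingSubgroup X)),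
      Φ g (e y) = e (MulAut.conjNormal g y) := by
    intro g y
    simp [Φ, MulAut.congr]
  have hodd : Odd (orderOf (Φ x)) := Odd.of_dvd_nat hx (orderOf_map_dvd Φ x)
  have hpres := Cfsg.Agent.Lib.Helper20.AutAlt.pres_of_odd_order (X := Fin n)
    (by rw [hcard]; exact hn) (Φ x) hodd
  obtain ⟨σ, hσ⟩ := Cfsg.Agent.Lib.Helper20.AutAlt.mem_range_of_pres (X := Fin n)
    (by rw [hcard]; omega) hpres
  have hinj := Cfsg.Agent.Lib.Helper20.AutAlt.conjNormal_injective (X := Fin n)
    (by rw [hcard]; omega)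
  have hσpow : σ ^ orderOf (Φ x) = 1 := by
    apply hinj
    rw [map_pow, hσ, pow_orderOf_eq_one, map_one]
  have hσmem : σ ∈ alternatingGroup (Fin n) := by
    rw [Equiv.Perm.mem_alternatingGroup]
    have h1 : Equiv.Perm.sign σ ^ orderOf (Φ x) = 1 := by rw [← map_pow, hσpow, map_one]
    rcases Int.units_eq_one_or (Equiv.Perm.sign σ) with h2 | h2
    · exact h2
    · rw [h2, hodd.neg_one_pow] at h1
      exact absurd h1 (by decide)
  -- the element of `F*` inducing the same automorphism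
  obtain ⟨f, hf⟩ : ∃ f : ↥(Cfsg.generalizedFittingSubgroup X), e f = ⟨σ, hσmem⟩ :=
    e.surjective _
  have hconj : ∀ y : ↥(Cfsg.generalizedFittingSubgroup X),
      MulAut.conjNormal x y = f * y * f⁻¹ := by
    intro y
    apply e.injective
    rw [← hΦ, ← hσ, map_mul, map_mul, map_inv, hf]
    apply Subtype.ext
    rw [MulAut.conjNormal_apply]
    simp
  have hcent : (f : X)⁻¹ * x ∈ Subgroup.centralizer
      ((Cfsg.generalizedFittingSubgroup X : Subgroup X) : Set X) := by
    rw [Subgroup.mem_centralizer_iff]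
    intro y hy
    have h1 := congrArg (Subtype.val) (hconj ⟨y, hy⟩)
    rw [MulAut.conjNormal_apply] at h1
    simp only [Subgroup.coe_mul, Subgroup.coe_inv] at h1
    -- x y x⁻¹ = f y f⁻¹
    have h2 : x * y = (f : X) * y * (f : X)⁻¹ * x := by
      rw [← h1]; group
    calc y * ((f : X)⁻¹ * x) = (f : X)⁻¹ * ((f : X) * y * (f : X)⁻¹ * x) := by group
      _ = (f : X)⁻¹ * x * y := by rw [← h2]; group
  have h3 := Cfsg.Agent.S1265.result hcent
  have h4 : x = (f : X) * ((f : X)⁻¹ * x) := by group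
  rw [h4]
  exact Subgroup.mul_mem _ f.2 h3

end Cfsg.Agent.Lib.Helper11.PM3
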