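import Mathlib
import Cfsg.Agent.Lib.helper8.RSM.Defs
import Cfsg.Agent.Lib.Helper28.RSMC5

/-! RSM row C6 (`U_index`), helper28. -/

set_option autoImplicit false

namespace Cfsg.Agent.Lib.helper8.RSM

universe u v w

variable {G : Type u} [Group G] {K : Type v} [Field K] [Fintype K] {m : ℕ}

/-- `|U| = q³` -/
theorem rsmc6_card (RU : ReeU G K m) : Nat.card RU.U = (3 ^ (2 * m + 1)) ^ 3 := by
  let f : K × K × K → RU.U := fun p =>
    ⟨RU.x p.1 p.2.1 p.2.2, Subgroup.subset_closure ⟨p.1, p.2.1, p.2.2, rfl⟩⟩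
  have hf : Function.Bijective f := by
    constructor
    · rintro ⟨t, u, v⟩ ⟨t', u', v'⟩ h
      have h1 : RU.x t u v = RU.x t' u' v' := congrArg Subtype.val h
      obtain ⟨e1, e2, e3⟩ := RU.x_inj _ _ _ _ _ _ h1
      rw [e1, e2, e3]
    · rintro ⟨g, hg⟩
      obtain ⟨t, u, v, rfl⟩ := (mem_U_iff RU g).1 hg
      exact ⟨(t, u, v), rfl⟩
  rw [← Nat.card_eq_of_bijective f hf, Nat.card_prod, Nat.card_prod, Nat.card_eq_fintype_card,
    RU.hK]
  ring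

/-- C6 [S-M]. `|U| = q³` (`x_inj`, C5) and `|G| = q³ (q - 1) (q³ + 1)`; `3 ∤ (q - 1) (q³ + 1)`. -/
theorem U_index (RU : ReeU G K m) [Finite G] : ¬ 3 ∣ RU.U.index := by
  have h1 := Subgroup.card_mul_index RU.U
  rw [rsmc6_card RU, RU.card, mul_assoc] at h1
  have hpos : 0 < (3 ^ (2 * m + 1)) ^ 3 := by positivity
  have h2 : RU.U.index = (3 ^ (2 * m + 1) - 1) * ((3 ^ (2 * m + 1)) ^ 3 + 1) :=
    Nat.eq_of_mul_eq_mul_left hpos h1
  rw [h2]
  obtain ⟨k, hk⟩ : ∃ k, 3 ^ (2 * m + 1) = 3 * k := ⟨3 ^ (2 * m), by rw [pow_succ]; ring⟩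
  have hk1 : 1 ≤ k := by
    rcases Nat.eq_zero_or_pos k with h | h
    · rw [h, mul_zero] at hk
      exact absurd hk (by positivity)
    · exact h
  rw [hk]
  have e : (3 * k) ^ 3 = 3 * (9 * k ^ 3) := by ring
  rw [e]
  intro hdvd
  rcases (Nat.Prime.dvd_mul Nat.prime_three).1 hdvd with h | h
  · omega
  · omega

end Cfsg.Agent.Lib.helper8.RSM
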