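import Mathlib
import Cfsg.Prelude.Def_LieRecognition

set_option autoImplicit false

open Cfsg

namespace Cfsg.Agent.Lib.Helper28.RankOne

variable {G Ω : Type*} [Group G] [MulAction G Ω] {a : Ω} {t : G} {Q : Subgroup G}

theorem t_inv (hS : Cfsg.IsRankOneSetup G Ω a t Q) : t⁻¹ = t :=
  inv_eq_of_mul_eq_one_left hS.mul_self

theorem tt_smul (hS : Cfsg.IsRankOneSetup G Ω a t Q) (b : Ω) : t • t • b = b := by
  rw [← mul_smul, hS.mul_self, one_smul]

theorem D_conj (hS : Cfsg.IsRankOneSetup G Ω a t Q) (c : G)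
    (hc : c ∈ MulAction.stabilizer G a ⊓ MulAction.stabilizer G (t • a)) :
    t * c * t ∈ MulAction.stabilizer G a ⊓ MulAction.stabilizer G (t • a) := by
  obtain ⟨h1, h2⟩ := Subgroup.mem_inf.mp hc
  rw [MulAction.mem_stabilizer_iff] at h1 h2
  refine Subgroup.mem_inf.mpr ⟨?_, ?_⟩
  · rw [MulAction.mem_stabilizer_iff, mul_smul, mul_smul, h2, tt_smul hS]
  · rw [MulAction.mem_stabilizer_iff, mul_smul, mul_smul, tt_smul hS, h1]

theorem ttc (hS : Cfsg.IsRankOneSetup G Ω a t Q) (c : G) : t * (t * c * t) * t = c := by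
  have h := hS.mul_self
  calc t * (t * c * t) * t = (t * t) * c * (t * t) := by group
    _ = c := by rw [h, one_mul, mul_one]

theorem D_le (c : G)
    (hc : c ∈ MulAction.stabilizer G a ⊓ MulAction.stabilizer G (t • a)) :
    c ∈ MulAction.stabilizer G a := (Subgroup.mem_inf.mp hc).1

theorem Q_conj (hS : Cfsg.IsRankOneSetup G Ω a t Q) (c x : G)
    (hc : c ∈ MulAction.stabilizer G a ⊓ MulAction.stabilizer G (t • a)) (hx : x ∈ Q) :
    c * x * c⁻¹ ∈ Q := hS.conj_mem c (D_le c hc) x hx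

theorem Q_conj' (hS : Cfsg.IsRankOneSetup G Ω a t Q) (c x : G)
    (hc : c ∈ MulAction.stabilizer G a ⊓ MulAction.stabilizer G (t • a)) (hx : x ∈ Q) :
    c⁻¹ * x * c ∈ Q := by
  have := hS.conj_mem c⁻¹ (Subgroup.inv_mem _ (D_le c hc)) x hx
  rwa [inv_inv] at this

theorem QD_bot (hS : Cfsg.IsRankOneSetup G Ω a t Q) (x : G) (hx : x ∈ Q)
    (hx' : x ∈ MulAction.stabilizer G (t • a)) : x = 1 := by
  have : x ∈ Q ⊓ MulAction.stabilizer G (t • a) := Subgroup.mem_inf.mpr ⟨hx, hx'⟩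
  rw [hS.inf_eq_bot] at this
  exact Subgroup.mem_bot.mp this

theorem uniq (hS : Cfsg.IsRankOneSetup G Ω a t Q) (g h f g' h' f' : G)
    (hg : g ∈ Q) (hh : h ∈ MulAction.stabilizer G a ⊓ MulAction.stabilizer G (t • a)) (hf : f ∈ Q)
    (hg' : g' ∈ Q) (hh' : h' ∈ MulAction.stabilizer G a ⊓ MulAction.stabilizer G (t • a))
    (hf' : f' ∈ Q) (heq : g * h * t * f = g' * h' * t * f') : g = g' ∧ h = h' ∧ f = f' := by
  have hb : g * h ∈ MulAction.stabilizer G a :=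
    Subgroup.mul_mem _ (hS.le hg) (D_le h hh)
  have hb' : g' * h' ∈ MulAction.stabilizer G a :=
    Subgroup.mul_mem _ (hS.le hg') (D_le h' hh')
  have e1 : f' * f⁻¹ = t⁻¹ * ((g' * h')⁻¹ * (g * h)) * t := by
    have : g * h * t = g' * h' * t * (f' * f⁻¹) := by
      rw [← mul_assoc, ← heq]
      group
    calc f' * f⁻¹ = (g' * h' * t)⁻¹ * (g' * h' * t * (f' * f⁻¹)) := by group
      _ = (g' * h' * t)⁻¹ * (g * h * t) := by rw [this]
      _ = t⁻¹ * ((g' * h')⁻¹ * (g * h)) * t := by group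
  have hmem : (g' * h')⁻¹ * (g * h) ∈ MulAction.stabilizer G a :=
    Subgroup.mul_mem _ (Subgroup.inv_mem _ hb') hb
  have e2 : f' * f⁻¹ ∈ MulAction.stabilizer G (t • a) := by
    rw [e1, t_inv hS, MulAction.mem_stabilizer_iff, mul_smul, mul_smul, tt_smul hS,
      MulAction.mem_stabilizer_iff.mp hmem]
  have e3 : f' * f⁻¹ = 1 := QD_bot hS _ (Q.mul_mem hf' (Q.inv_mem hf)) e2
  have hff : f = f' := (mul_inv_eq_one.mp e3).symm
  subst hff
  have e4 : g * h = g' * h' := by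
    have := mul_right_cancel heq
    exact mul_right_cancel this
  have e5 : g'⁻¹ * g = h' * h⁻¹ := by
    calc g'⁻¹ * g = g'⁻¹ * (g * h) * h⁻¹ := by group
      _ = g'⁻¹ * (g' * h') * h⁻¹ := by rw [e4]
      _ = h' * h⁻¹ := by group
  have e6 : g'⁻¹ * g = 1 := by
    apply QD_bot hS _ (Q.mul_mem (Q.inv_mem hg') hg)
    rw [e5]
    exact Subgroup.mul_mem _ (Subgroup.mem_inf.mp hh').2
      (Subgroup.inv_mem _ (Subgroup.mem_inf.mp hh).2)
  have hgg : g = g' := (inv_mul_eq_one.mp e6).symm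
  subst hgg
  exact ⟨rfl, (mul_left_cancel e4), rfl⟩

end Cfsg.Agent.Lib.Helper28.RankOne
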