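import Mathlib
import Cfsg.Agent.Lib.Helper19.S5954.Defs
import Cfsg.Agent.Lib.helper4.S5954.NSDefs

set_option autoImplicit false
set_option linter.unusedVariables false
set_option linter.unusedSectionVars false

/-!
# Project S5954, part NS, row NSANISO (helper28): `ns_aniso` verbatim.
-/

namespace Cfsg.Agent.Lib.Helper19.S5954

open Polynomial Module Cfsg.Agent.Lib.Helper13.S5955

variable {F : Type*} [Field F] {V : Type*} [AddCommGroup V] [Module F V]

/-- NSANISO [M]: a non-zero subspace on which `B` is nondegenerate has a non-isotropic vector. -/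
theorem ns_aniso {σ : F →+* F} {B : V →ₛₗ[σ] V →ₗ[F] F} (hne : ∃ a, σ a ≠ a) (hsymm : ∀ u v, σ (B u v) = B v u)
    (N : Submodule F V) (hN0 : N ≠ ⊥) (hNnd : HND B N) : ∃ v ∈ N, B v v ≠ 0 := by
  by_contra hcon
  have hiso : ∀ v ∈ N, B v v = 0 := by
    intro v hv
    by_contra h'
    exact hcon ⟨v, hv, h'⟩
  have hskew : ∀ a ∈ N, ∀ b ∈ N, B b a = - B a b := by
    intro a ha b hb
    have h1 := hiso (a + b) (N.add_mem ha hb)
    simp only [map_add, LinearMap.add_apply] at h1
    rw [hiso a ha, hiso b hb] at h1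
    linear_combination h1
  have hzero : ∀ u ∈ N, ∀ v ∈ N, B u v = 0 := by
    intro u hu v hv
    by_contra hne'
    have hkey : ∀ c : F, c * B u v = σ c * B u v := by
      intro c
      have h1 := hskew (c • v) (N.smul_mem c hv) u hu
      have h3 := hskew v hv u hu
      simp only [map_smul, LinearMap.map_smulₛₗ, LinearMap.smul_apply, smul_eq_mul] at h1
      rw [h1, h3]
      ring
    obtain ⟨c, hc⟩ := hne
    exact hc (mul_right_cancel₀ hne' (hkey c)).symm
  obtain ⟨u, hu, hu0⟩ := (Submodule.ne_bot_iff N).1 hN0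
  exact hu0 (hNnd u hu (fun v hv => hzero u hu v hv))

end Cfsg.Agent.Lib.Helper19.S5954
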