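import Mathlib
import Cfsg.Agent.Lib.Helper19.S5954.Defs
import Cfsg.Agent.Lib.helper4.S5954.NSDefs

set_option autoImplicit false
set_option linter.unusedVariables false
set_option linter.unusedSectionVars false

/-!
# Project S5954, part NS, row NSEIG (helper28): `ns_eig` verbatim.
-/

namespace Cfsg.Agent.Lib.Helper19.S5954

open Polynomial Module Cfsg.Agent.Lib.Helper13.S5955

variable {F : Type*} [Field F] {V : Type*} [AddCommGroup V] [Module F V]

/-- the Fourier projector `P μ v = ∑ k < r, μ ^ k • y ^ k v` -/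
noncomputable def s5954nseig_P (r : ℕ) (y : Module.End F V) (v : V) (μ : F) : V :=
  ∑ k ∈ Finset.range r, μ ^ k • (y ^ k) v

theorem s5954nseig_pow_mem {y : Module.End F V} (N : Submodule F V) (hN : SInv y N) (v : V) (hv : v ∈ N)
    (k : ℕ) : (y ^ k) v ∈ N := by
  induction k with
  | zero => simpa using hv
  | succ k ih =>
    rw [pow_succ', Module.End.mul_apply]
    exact hN _ ih

theorem s5954nseig_P_mem {r : ℕ} {y : Module.End F V} (N : Submodule F V) (hN : SInv y N) (v : V) (hv : v ∈ N)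
    (μ : F) : s5954nseig_P r y v μ ∈ N :=
  N.sum_mem (fun k _ => N.smul_mem _ (s5954nseig_pow_mem N hN v hv k))

theorem s5954nseig_P_eig {r : ℕ} (hr : 0 < r) {y : Module.End F V} (hy : y ^ r = 1) (v : V) (μ : F)
    (hμ : μ ^ r = 1) : y (s5954nseig_P r y v μ) = μ⁻¹ • s5954nseig_P r y v μ := by
  have hμ0 : μ ≠ 0 := by
    rintro rfl
    rw [zero_pow hr.ne'] at hμ
    exact zero_ne_one hμ
  have key : μ • y (s5954nseig_P r y v μ) = s5954nseig_P r y v μ := by
    unfold s5954nseig_P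
    rw [map_sum, Finset.smul_sum]
    have e : ∀ k ∈ Finset.range r, μ • y (μ ^ k • (y ^ k) v) = μ ^ (k + 1) • (y ^ (k + 1)) v := by
      intro k _
      rw [map_smul, smul_smul, pow_succ' μ, pow_succ' y, Module.End.mul_apply]
    rw [Finset.sum_congr rfl e]
    have h1 := Finset.sum_range_succ' (fun k => μ ^ k • (y ^ k) v) r
    have h2 := Finset.sum_range_succ (fun k => μ ^ k • (y ^ k) v) r
    rw [h2] at h1
    simp only [hμ, hy, pow_zero, one_smul, Module.End.one_apply] at h1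
    exact (add_right_cancel h1).symm
  calc y (s5954nseig_P r y v μ) = μ⁻¹ • (μ • y (s5954nseig_P r y v μ)) := by
        rw [smul_smul, inv_mul_cancel₀ hμ0, one_smul]
    _ = μ⁻¹ • s5954nseig_P r y v μ := by rw [key]

/-- eigenvectors for different eigenvalues of an isometry are orthogonal -/
theorem s5954nseig_orth {σ : F →+* F} {B : V →ₛₗ[σ] V →ₗ[F] F} {y : Module.End F V}
    (hpres : ∀ u v, B (y u) (y v) = B u v) (μ μ' : F) (hμσ : σ μ * μ = 1) (hμ' : μ' ≠ 0) (hne : μ ≠ μ')
    (u u' : V) (hu : y u = μ⁻¹ • u) (hu' : y u' = μ'⁻¹ • u') : B u u' = 0 := by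
  by_contra hB
  have h1 := hpres u u'
  rw [hu, hu', LinearMap.map_smulₛₗ₂, map_smul, smul_eq_mul, smul_eq_mul] at h1
  have hμ0 : μ ≠ 0 := by
    rintro rfl
    simp at hμσ
  have hσ : σ μ⁻¹ = μ := by
    rw [map_inv₀, eq_inv_of_mul_eq_one_left hμσ, inv_inv]
  rw [hσ] at h1
  have h2 : (μ * μ'⁻¹) * B u u' = 1 * B u u' := by
    rw [one_mul, mul_assoc]
    exact h1
  have h3 := mul_right_cancel₀ hB h2
  apply hne
  field_simp at h3
  exact h3

theorem s5954nseig_geom {r : ℕ} (a : F) (ha : a ^ r = 1) (ha1 : a ≠ 1) :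
    ∑ j ∈ Finset.range r, a ^ j = 0 := by
  have h := geom_sum_mul a r
  rw [ha, sub_self] at h
  rcases mul_eq_zero.1 h with h | h
  · exact h
  · exact absurd (sub_eq_zero.1 h) ha1

theorem s5954nseig_order {r : ℕ} (hr : r.Prime) (l : F) (hl : l ^ r = 1) (hl1 : l ≠ 1) : orderOf l = r := by
  rcases (Nat.dvd_prime hr).1 (orderOf_dvd_of_pow_eq_one hl) with h | h
  · exact absurd (orderOf_eq_one_iff.1 h) hl1
  · exact h

theorem s5954nseig_pow_inj {r : ℕ} (l : F) (hl0 : l ≠ 0) (hord : orderOf l = r) {j j' : ℕ}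
    (hj : j < r) (hj' : j' < r) (h : l ^ j = l ^ j') : j = j' := by
  wlog hle : j ≤ j' generalizing j j'
  · exact (this hj' hj h.symm (le_of_not_ge hle)).symm
  obtain ⟨d, rfl⟩ := Nat.exists_eq_add_of_le hle
  rw [pow_add] at h
  have h1 : l ^ d = 1 := by
    have := mul_left_cancel₀ (pow_ne_zero j hl0) (h.symm.trans (mul_one _).symm)
    exact this
  have h2 := orderOf_dvd_of_pow_eq_one h1
  rw [hord] at h2
  rcases Nat.eq_zero_or_pos d with hd | hd
  · omega
  · have := Nat.le_of_dvd hd h2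
    omega

theorem s5954nseig_sum {r : ℕ} (hr : r.Prime) (y : Module.End F V) (v : V) (l : F) (hl : l ^ r = 1) (hl1 : l ≠ 1) :
    ∑ j ∈ Finset.range r, s5954nseig_P r y v (l ^ j) = (r : F) • v := by
  unfold s5954nseig_P
  rw [Finset.sum_comm]
  have hord := s5954nseig_order hr l hl hl1
  have e : ∀ k ∈ Finset.range r, ∑ j ∈ Finset.range r, (l ^ j) ^ k • (y ^ k) v
      = (if k = 0 then (r : F) else 0) • (y ^ k) v := by
    intro k hk
    rw [← Finset.sum_smul]
    congr 1
    split_ifs with hk0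
    · subst hk0
      simp
    · have e2 : ∀ j ∈ Finset.range r, (l ^ j) ^ k = (l ^ k) ^ j := by
        intro j _
        rw [← pow_mul, ← pow_mul, mul_comm]
      rw [Finset.sum_congr rfl e2]
      apply s5954nseig_geom
      · rw [← pow_mul, mul_comm, pow_mul, hl, one_pow]
      · intro h1
        have := orderOf_dvd_of_pow_eq_one h1
        rw [hord] at this
        have hk' := Finset.mem_range.1 hk
        exact absurd (Nat.le_of_dvd (Nat.pos_of_ne_zero hk0) this) (not_le.2 hk')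
  rw [Finset.sum_congr rfl e]
  rw [Finset.sum_eq_single 0]
  · simp
  · intro b _ hb
    rw [if_neg hb, zero_smul]
  · intro h0
    exact absurd (Finset.mem_range.2 hr.pos) h0

/-- NSEIG [M-L]: an isometry `y` with `y ^ r = 1`, `l` of order `r` with `σ l = l⁻¹`, `r ≠ 0` in `F`: an invariant subspace with a non-isotropic vector has a non-isotropic
eigenvector. -/
theorem ns_eig {r : ℕ} (hr : r.Prime) {σ : F →+* F} {B : V →ₛₗ[σ] V →ₗ[F] F} {y : Module.End F V}
    (h : HCtx r σ B y) (hrF : (r : F) ≠ 0) (l : F) (hl : l ^ r = 1) (hl1 : l ≠ 1) (hlσ : σ l * l = 1)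
    (N : Submodule F V) (hN : SInv y N) (v : V) (hv : v ∈ N) (hvv : B v v ≠ 0) :
    ∃ u ∈ N, ∃ c : F, y u = c • u ∧ B u u ≠ 0 := by
  classical
  by_contra hcon
  have hord := s5954nseig_order hr l hl hl1
  have hpowr : ∀ j, (l ^ j) ^ r = 1 := by
    intro j
    rw [← pow_mul, mul_comm, pow_mul, hl, one_pow]
  have heig : ∀ j, y (s5954nseig_P r y v (l ^ j)) = (l ^ j)⁻¹ • s5954nseig_P r y v (l ^ j) :=
    fun j => s5954nseig_P_eig hr.pos h.pow v (l ^ j) (hpowr j)
  have hl0 : l ≠ 0 := by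
    rintro rfl
    simp at hlσ
  have hdiag : ∀ j, B (s5954nseig_P r y v (l ^ j)) (s5954nseig_P r y v (l ^ j)) = 0 := by
    intro j
    by_contra hB
    exact hcon ⟨_, s5954nseig_P_mem N hN v hv (l ^ j), (l ^ j)⁻¹, heig j, hB⟩
  have hall : ∀ j ∈ Finset.range r, ∀ j' ∈ Finset.range r,
      B (s5954nseig_P r y v (l ^ j)) (s5954nseig_P r y v (l ^ j')) = 0 := by
    intro j hj j' hj'
    by_cases hjj : j = j'
    · subst hjj
      exact hdiag j
    · apply s5954nseig_orth h.pres (l ^ j) (l ^ j') _ (pow_ne_zero _ hl0) _ _ _ (heig j) (heig j')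
      · rw [map_pow, ← mul_pow, hlσ, one_pow]
      · intro hpp
        exact hjj (s5954nseig_pow_inj l hl0 hord (Finset.mem_range.1 hj) (Finset.mem_range.1 hj') hpp)
  have hsum := s5954nseig_sum hr y v l hl hl1
  have hB0 : B (∑ j ∈ Finset.range r, s5954nseig_P r y v (l ^ j))
      (∑ j ∈ Finset.range r, s5954nseig_P r y v (l ^ j)) = 0 := by
    rw [map_sum]
    apply Finset.sum_eq_zero
    intro j' hj'
    rw [map_sum, LinearMap.sum_apply]
    apply Finset.sum_eq_zero
    intro j hj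
    exact hall j hj j' hj'
  rw [hsum, LinearMap.map_smulₛₗ₂, map_smul, smul_eq_mul, smul_eq_mul, map_natCast] at hB0
  rcases mul_eq_zero.1 hB0 with h0 | h0
  · exact hrF h0
  · rcases mul_eq_zero.1 h0 with h0 | h0
    · exact hrF h0
    · exact hvv h0

end Cfsg.Agent.Lib.Helper19.S5954
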