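import Mathlib
import Cfsg.Agent.Lib.Helper19.S5954.Defs
import Cfsg.Agent.Lib.helper4.S5954.NSDefs

set_option autoImplicit false
set_option linter.unusedVariables false
set_option linter.unusedSectionVars false

/-!
# Project S5954, part NS, row NSIND (helper28): `ns_indep` verbatim.
-/

namespace Cfsg.Agent.Lib.Helper19.S5954

open Polynomial Module Cfsg.Agent.Lib.Helper13.S5955

variable {F : Type*} [Field F] {V : Type*} [AddCommGroup V] [Module F V]

/-- NSIND [M]: non-split: `u, x u, …, x^(r-1) u` are linearly independent for `u ≠ 0`. -/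
theorem ns_indep {r : ℕ} (hr : r.Prime) (x : Module.End F V) (z : F) (hpow : x ^ r = z • 1) (hz : ∀ b : F, b ^ r ≠ z)
    (u : V) (hu : u ≠ 0) : LinearIndependent F (fun k : Fin r => (x ^ (k : ℕ)) u) := by
  classical
  rw [Fintype.linearIndependent_iff]
  intro c hc k
  set p : F[X] := ∑ k : Fin r, C (c k) * X ^ (k : ℕ) with hp
  have hdeg : p.degree < r := Polynomial.degree_sum_fin_lt c
  have hirr : Irreducible (X ^ r - C z : F[X]) := X_pow_sub_C_irreducible_of_prime hr hz
  have hg : aeval x (X ^ r - C z : F[X]) = 0 := by
    simp [hpow, Algebra.algebraMap_eq_smul_one]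
  have hpu : (aeval x p) u = 0 := by
    rw [hp, map_sum, LinearMap.sum_apply]
    rw [← hc]
    refine Finset.sum_congr rfl (fun k _ => ?_)
    simp [Algebra.algebraMap_eq_smul_one]
  by_cases hp0 : p = 0
  · have h1 : p.coeff (k : ℕ) = c k := by
      rw [hp, Polynomial.finsetSum_coeff]
      rw [Finset.sum_eq_single k]
      · simp
      · intro b _ hb
        rw [Polynomial.coeff_C_mul, Polynomial.coeff_X_pow, if_neg, mul_zero]
        intro hkb
        exact hb (Fin.ext hkb.symm)
      · intro hk
        exact absurd (Finset.mem_univ k) hk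
    rw [← h1, hp0, Polynomial.coeff_zero]
  · exfalso
    have hgdeg : (X ^ r - C z : F[X]).degree = r := Polynomial.degree_X_pow_sub_C hr.pos z
    have hcop : IsCoprime (X ^ r - C z : F[X]) p := by
      apply (hirr.coprime_iff_not_dvd).2
      intro hdvd
      have := Polynomial.degree_le_of_dvd hdvd hp0
      rw [hgdeg] at this
      exact absurd hdeg (not_lt.2 this)
    obtain ⟨a, b, hab⟩ := hcop
    have h2 := congrArg (fun f => (aeval x f) u) hab
    simp only [map_add, map_mul, hg, mul_zero, zero_add, map_one, Module.End.mul_apply,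
      Module.End.one_apply, hpu, map_zero] at h2
    exact hu h2.symm

end Cfsg.Agent.Lib.Helper19.S5954
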