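import Mathlib
import Cfsg.Agent.Lib.Helper13.S5955.Defs2
import Cfsg.Agent.Lib.Helper28.S5955T9
import Cfsg.Agent.Lib.Helper28.S5955N12

/-!
# S5955 row N13 (NECABS), core (helper28): the necessity assembly, with the statements of N10 (maxel) and
N11 (distel) as hypotheses.
-/

set_option autoImplicit false

namespace Cfsg.Agent.Lib.Helper13.S5955

open Polynomial Module

theorem s5955n13h28_core {F : Type*} [Field F] [Fintype F] {p : ℕ} [Fact p.Prime] [CharP F p]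
    (r : ℕ) [Fact r.Prime] (hrp : r ≠ p) (d m i c : ℕ)
    (hi : i = orderOf ((Fintype.card F : ℕ) : ZMod r)) (hc : c = if Even i then i else 2 * i)
    (hm1 : 1 ≤ m) (hmd : m ≤ d)
    (hj : ∃ j : ℕ, j < m ∧ r ∣ Fintype.card F ^ (2 * (d - j)) - 1)
    (hmaxel : c ≤ 2 * d → ∃ y : Module.End F (Fin d ⊕ Fin d → F), SCtx r (stdB d F) y ∧ y ≠ 1 ∧
      finrank F (fixS y) = (2 * d) % c)
    (hdistel : Even i → i ≤ 2 * d →
      ∃ y : Module.End F (Fin d ⊕ Fin d → F), SCtx r (stdB d F) y ∧ y ≠ 1 ∧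
        finrank F (fixS y) + i * min ((r - 1) / i) ((2 * d) / i) = 2 * d ∧
        ∀ W : Submodule F (Fin d ⊕ Fin d → F), SInv y W → STI (stdB d F) W → W ≤ fixS y)
    (hall : ∀ y : Module.End F (Fin d ⊕ Fin d → F), SCtx r (stdB d F) y → y ≠ 1 →
      TId (stdB d F) y m) :
    i ≤ m ∧ 2 * (m % i) ≤ (2 * d) % c ∧ (Odd i ∨ (r - 1) / i + 2 * (m / i) ≤ (2 * d) / i) := by
  have hipos : 1 ≤ i := by
    rw [hi]; exact Cfsg.Agent.Lib.Helper24.el_ord_pos (F := F) (p := p) r hrp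
  have hq1 : 1 ≤ Fintype.card F := Fintype.card_pos
  obtain ⟨j, hjm, hjr⟩ := hj
  have hji : i ∣ 2 * (d - j) := by
    rw [hi]; exact (Cfsg.Agent.Lib.Helper24.el_ord_dvd_iff _ r _ hq1).mp hjr
  have hdj : 1 ≤ d - j := by omega
  have hid : i ≤ 2 * d := by
    have := Nat.le_of_dvd (by omega) hji
    omega
  have hcd : c ≤ 2 * d := by
    rw [hc]
    split_ifs with he
    · exact hid
    · have hodd : Odd i := Nat.not_even_iff_odd.mp he
      have hcop : Nat.Coprime i 2 := Nat.coprime_two_right.mpr hodd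
      have h1 : i ∣ d - j := hcop.dvd_of_dvd_mul_left hji
      have := Nat.le_of_dvd (by omega) h1
      omega
  have hmax : ∃ w1 s : ℕ, m = w1 + s * i ∧ 2 * w1 ≤ (2 * d) % c := by
    obtain ⟨y, hy, hy1, hyfix⟩ := hmaxel hcd
    obtain ⟨W, hW, hWti, hWm⟩ := hall y hy hy1
    obtain ⟨w1, s, hws, hw1⟩ := nec_dim hrp hy W hW hWti
    refine ⟨w1, s, ?_, ?_⟩
    · rw [← hWm, hws, hi]
    · rw [← hyfix]; exact hw1
  have hdist : Even i → 2 * m + i * min ((r - 1) / i) ((2 * d) / i) ≤ 2 * d := by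
    intro he
    obtain ⟨y, hy, hy1, hysum, hyall⟩ := hdistel he hid
    obtain ⟨W, hW, hWti, hWm⟩ := hall y hy hy1
    have hWle := hyall W hW hWti
    have hnd : SND (stdB d F) (fixS y) := (split hrp hy).2.2.1
    have h2 := ti_le_half (stdB d F) (fixS y) W hnd hWle hWti
    rw [hWm] at h2
    omega
  exact arith_nec i c d m ((r - 1) / i) hipos hc hm1 hmd ⟨j, hjm, hji⟩ hmax hdist

end Cfsg.Agent.Lib.Helper13.S5955
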