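import Mathlib
import Cfsg.Agent.Lib.Helper13.S5955.Defs2
import Cfsg.Agent.Lib.Helper5.S5955T5
import Cfsg.Agent.Lib.Helper5.S5955T7

/-!
# S5955 row R1 (INVOL), second copy (helper28): an involutory isometry (`2 ≠ 0`) has totally isotropic
invariant subspaces of every dimension `m ≤ d`.
-/

set_option autoImplicit false

namespace Cfsg.Agent.Lib.Helper13.S5955

open Polynomial Module

theorem s5955r1_h28_invol_suff {F : Type*} [Field F] {V : Type*} [AddCommGroup V] [Module F V]
    [FiniteDimensional F V] (h2 : (2 : F) ≠ 0) {B : LinearMap.BilinForm F V}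
    {x : Module.End F V} (h : SCtx 2 B x) (d m : ℕ) (hV : finrank F V = 2 * d) (hm : m ≤ d) :
    TId B x m := by
  have hxx : ∀ v, x (x v) = v := by
    intro v
    have := congrArg (fun f : Module.End F V => f v) h.pow
    simpa [pow_two, Module.End.mul_apply] using this
  have hskew : ∀ u v : V, B u v = - B v u := by
    intro u v
    have h1 := h.alt (u + v)
    simp only [map_add, LinearMap.add_apply, h.alt u, h.alt v, zero_add, add_zero] at h1
    have : B u v + B v u = 0 := by rw [add_comm]; exact h1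
    exact eq_neg_of_add_eq_zero_left this
  -- the eigenspaces
  let Vp : Submodule F V := LinearMap.ker (x - 1)
  let Vm : Submodule F V := LinearMap.ker (x + 1)
  have hVp : ∀ v, v ∈ Vp ↔ x v = v := by
    intro v
    show v ∈ LinearMap.ker (x - 1) ↔ _
    rw [LinearMap.mem_ker, LinearMap.sub_apply, Module.End.one_apply, sub_eq_zero]
  have hVm : ∀ v, v ∈ Vm ↔ x v = -v := by
    intro v
    show v ∈ LinearMap.ker (x + 1) ↔ _
    rw [LinearMap.mem_ker, LinearMap.add_apply, Module.End.one_apply, add_eq_zero_iff_eq_neg]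
  have horth : ∀ u ∈ Vp, ∀ v ∈ Vm, B u v = 0 := by
    intro u hu v hv
    have h1 := h.pres u v
    rw [(hVp u).mp hu, (hVm v).mp hv, map_neg] at h1
    have h3 : (2 : F) * B u v = 0 := by
      have : B u v + B u v = 0 := by
        nth_rewrite 1 [← h1]
        exact neg_add_cancel _
      rw [two_mul]; exact this
    exact (mul_eq_zero.mp h3).resolve_left h2
  have hdecomp : ∀ w : V, ∃ a ∈ Vp, ∃ b ∈ Vm, w = a + b := by
    intro w
    refine ⟨(2 : F)⁻¹ • (w + x w), ?_, (2 : F)⁻¹ • (w - x w), ?_, ?_⟩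
    · rw [hVp, map_smul, map_add, hxx, add_comm]
    · rw [hVm, map_smul, map_sub, hxx, ← smul_neg, neg_sub]
    · rw [← smul_add, add_add_sub_cancel, ← two_smul F w, smul_smul, inv_mul_cancel₀ h2, one_smul]
  have hdisj : Disjoint Vp Vm := by
    rw [Submodule.disjoint_def]
    intro v hp hm'
    have h1 : v = -v := ((hVp v).mp hp).symm.trans ((hVm v).mp hm')
    have h3 : (2 : F) • v = 0 := by
      rw [two_smul]
      nth_rewrite 2 [h1]
      exact add_neg_cancel v
    exact (smul_eq_zero.mp h3).resolve_left h2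
  have hsup : Vp ⊔ Vm = ⊤ := by
    rw [eq_top_iff]
    intro w _
    obtain ⟨a, ha, b, hb, rfl⟩ := hdecomp w
    exact Submodule.add_mem _ (Submodule.mem_sup_left ha) (Submodule.mem_sup_right hb)
  have hndp : SND B Vp := by
    intro u hu huv
    apply h.nd u
    intro w
    obtain ⟨a, ha, b, hb, rfl⟩ := hdecomp w
    rw [map_add, huv a ha, horth u hu b hb, add_zero]
  have hndm : SND B Vm := by
    intro u hu huv
    apply h.nd u
    intro w
    obtain ⟨a, ha, b, hb, rfl⟩ := hdecomp w
    rw [map_add, huv b hb, hskew u a, horth a ha u hu, neg_zero, add_zero]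
  have hdim : finrank F Vp + finrank F Vm = 2 * d := by
    have := Submodule.finrank_sup_add_finrank_inf_eq Vp Vm
    rw [hsup, hdisj.eq_bot, finrank_bot, add_zero, finrank_top, hV] at this
    exact this.symm
  obtain ⟨a, ha⟩ := nd_even B h.alt Vp hndp
  obtain ⟨b, hb⟩ := nd_even B h.alt Vm hndm
  obtain ⟨Tp, hTp, hTpti, hTpd⟩ := ti_sub B h.alt Vp hndp (min m a) (by omega)
  obtain ⟨Tm, hTm, hTmti, hTmd⟩ := ti_sub B h.alt Vm hndm (m - min m a) (by omega)
  refine ⟨Tp ⊔ Tm, ?_, ?_, ?_⟩
  · intro w hw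
    obtain ⟨s, hs, t, ht, rfl⟩ := Submodule.mem_sup.mp hw
    rw [map_add, (hVp s).mp (hTp hs), (hVm t).mp (hTm ht)]
    exact Submodule.add_mem _ (Submodule.mem_sup_left hs)
      (Submodule.mem_sup_right (Submodule.neg_mem _ ht))
  · intro u hu v hv
    obtain ⟨s1, hs1, t1, ht1, rfl⟩ := Submodule.mem_sup.mp hu
    obtain ⟨s2, hs2, t2, ht2, rfl⟩ := Submodule.mem_sup.mp hv
    simp only [map_add, LinearMap.add_apply]
    rw [hTpti s1 hs1 s2 hs2, horth s1 (hTp hs1) t2 (hTm ht2), hTmti t1 ht1 t2 ht2,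
      hskew t1 s2, horth s2 (hTp hs2) t1 (hTm ht1)]
    simp
  · have hdisj' : Disjoint Tp Tm := (hdisj.mono_left hTp).mono_right hTm
    have hsum := Submodule.finrank_sup_add_finrank_inf_eq Tp Tm
    rw [hdisj'.eq_bot, finrank_bot, add_zero] at hsum
    rw [hsum, hTpd, hTmd]
    omega

end Cfsg.Agent.Lib.Helper13.S5955
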