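import Mathlib
import Cfsg.Agent.Lib.helper3.S77.Defs
import Cfsg.Prelude.Def_Sporadic_a

set_option autoImplicit false

/-! Project S77 (S0429), piece ASM2: isomorphic set systems have isomorphic block graphs. -/

namespace Cfsg.Agent.Lib.Helper28.S77

open Cfsg.Agent.Lib.helper3.S77 Finset Cfsg

universe u v

theorem blockGraph_iso {α : Type u} {β : Type v} [DecidableEq β] {B : Set (Finset α)}
    {B' : Set (Finset β)} (h : SetSystemIso B B') : Nonempty (blockGraph B ≃g blockGraph B') := by
  obtain ⟨e, he⟩ := h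
  have hmem : ∀ b : B, (b : Finset α).image e ∈ B' := fun b => by
    rw [← he]
    exact ⟨b.1, b.2, rfl⟩
  have hinj : Function.Injective (fun b : B => (⟨(b : Finset α).image e, hmem b⟩ : B')) := by
    intro b c hbc
    have h1 : (b : Finset α).image e = (c : Finset α).image e := congrArg Subtype.val hbc
    exact Subtype.ext (Finset.image_injective e.injective h1)
  have hsurj : Function.Surjective (fun b : B => (⟨(b : Finset α).image e, hmem b⟩ : B')) := by
    rintro ⟨c, hc⟩
    rw [← he] at hc
    obtain ⟨b, hb, hbc⟩ := hc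
    exact ⟨⟨b, hb⟩, Subtype.ext hbc⟩
  refine ⟨{ toEquiv := Equiv.ofBijective _ ⟨hinj, hsurj⟩, map_rel_iff' := ?_ }⟩
  intro b c
  have hval : ∀ x : B, ((Equiv.ofBijective _ ⟨hinj, hsurj⟩ x : B') : Finset β) =
      (x : Finset α).image e := fun x => rfl
  simp only [blockGraph, SimpleGraph.fromRel_adj, ne_eq]
  rw [hval b, hval c, Finset.disjoint_image e.injective, Finset.disjoint_image e.injective]
  constructor
  · rintro ⟨hne, hd⟩
    exact ⟨fun hbc => hne (by rw [hbc]), hd⟩
  · rintro ⟨hne, hd⟩
    exact ⟨fun hbc => hne ((Equiv.ofBijective _ ⟨hinj, hsurj⟩).injective hbc), hd⟩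

end Cfsg.Agent.Lib.Helper28.S77
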