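import Mathlib
import Cfsg.Agent.Lib.helper3.S77.Defs
import Cfsg.Agent.Lib.helper3.S77.A4
import Cfsg.Agent.Lib.helper3.S77.B1
import Cfsg.Agent.Lib.helper3.S77.CODefs

set_option autoImplicit false

/-! Project S77 (S0429), piece CO2: an ovoid of classes gives a 21-coclique through `o`. -/

namespace Cfsg.Agent.Lib.Helper28.S77

open Cfsg.Agent.Lib.helper3.S77 Finset

universe u

variable {V : Type u} [Fintype V] [DecidableEq V] (G : SimpleGraph V) [DecidableRel G.Adj]

theorem mem_cocOf_iff (h : Is77 G) (o : V) (O : Finset ↥(clsSet G o)) {x : V}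
    (hx : x ∈ nM G o) :
    x ∈ cocOf G o O ↔ (⟨cls G o x, cls_mem_clsSet G o hx⟩ : ↥(clsSet G o)) ∈ O := by
  rw [mem_cocOf]
  constructor
  · rintro (hxo | ⟨c, hc, hxc⟩)
    · exact absurd hxo ((mem_nM G).mp hx).1
    · have : c = ⟨cls G o x, cls_mem_clsSet G o hx⟩ :=
        Subtype.ext (eq_cls_of_mem G h o c.2 hxc)
      rw [← this]
      exact hc
  · intro hc
    exact Or.inr ⟨_, hc, mem_cls_self G h o hx⟩

theorem o_notMem_cls (o : V) (c : ↥(clsSet G o)) : o ∉ c.1 := by
  intro ho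
  exact ((mem_nM G).mp (clsSet_subset G o c.2 ho)).1 rfl

theorem card_biUnion_cls (h : Is77 G) (o : V) (O : Finset ↥(clsSet G o)) :
    (O.biUnion (fun c => c.1)).card = 4 * O.card := by
  rw [Finset.card_biUnion]
  · rw [Finset.sum_congr rfl (fun c _ => clsSet_card_eq G h o c.2), Finset.sum_const,
      smul_eq_mul, mul_comm]
  · intro c _ d _ hcd
    exact clsSet_disjoint G h o c.2 d.2 (fun e => hcd (Subtype.ext e))

theorem cocOf_isCoc21 (h : Is77 G) (o : V) {O : Finset ↥(clsSet G o)}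
    (hO : IsOv (fun c d : ↥(clsSet G o) => TAdj G o c.1 d.1) O) :
    IsCoc21 G (cocOf G o O) ∧ o ∈ cocOf G o O := by
  refine ⟨⟨?_, ?_⟩, (mem_cocOf G).mpr (Or.inl rfl)⟩
  · unfold cocOf
    rw [Finset.card_insert_of_notMem, card_biUnion_cls G h o O, hO.1]
    rw [Finset.mem_biUnion]
    rintro ⟨c, _, hc⟩
    exact o_notMem_cls G o c hc
  · intro x hx y hy hadj
    rw [mem_cocOf] at hx hy
    rcases hx with rfl | ⟨c, hc, hxc⟩
    · rcases hy with rfl | ⟨d, hd, hyd⟩
      · exact G.loopless.irrefl _ hadj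
      · exact ((mem_nM G).mp (clsSet_subset G x d.2 hyd)).2 hadj
    · rcases hy with rfl | ⟨d, hd, hyd⟩
      · exact ((mem_nM G).mp (clsSet_subset G y c.2 hxc)).2 hadj.symm
      · have hf := ff_adj G h o hadj
        by_cases hcd : c = d
        · subst hcd
          have := cls_ff_four G h o c.2 hxc hyd
          rw [hf] at this
          norm_num at this
        · have hne : c.1 ≠ d.1 := fun e => hcd (Subtype.ext e)
          have := not_tadj G h o c.2 d.2 hne (hO.2 c hc d hd) x hxc y hyd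
          rw [hf] at this
          norm_num at this

theorem ovOf_cocOf (h : Is77 G) (o : V) {O : Finset ↥(clsSet G o)}
    (hO : IsOv (fun c d : ↥(clsSet G o) => TAdj G o c.1 d.1) O) :
    ovOf G o (cocOf G o O) = O := by
  ext c
  rw [mem_ovOf]
  constructor
  · intro hsub
    obtain ⟨y, hy⟩ := clsSet_nonempty G h o c.2
    have hyM : y ∈ nM G o := clsSet_subset G o c.2 hy
    have hmem := (mem_cocOf_iff G h o O hyM).mp (hsub hy)
    have : c = ⟨cls G o y, cls_mem_clsSet G o hyM⟩ :=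
      Subtype.ext (eq_cls_of_mem G h o c.2 hy)
    rw [this]
    exact hmem
  · intro hc x hx
    exact (mem_cocOf G).mpr (Or.inr ⟨c, hc, hx⟩)

end Cfsg.Agent.Lib.Helper28.S77
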