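import Mathlib
import Cfsg.Agent.Lib.helper2.S91Defs

/-!
# S91 piece INF : `P ⊓ L` is a Sylow `p`-subgroup of `L` and `L = K (P ⊓ L)`.
-/

set_option autoImplicit false

namespace Cfsg.Agent.Lib.helper2.S91
open Subgroup

universe u

theorem h28_relIndex_mul_card {G : Type*} [Group G] {H K : Subgroup G} (h : H ≤ K) :
    H.relIndex K * Nat.card H = Nat.card K := by
  have h1 := Subgroup.index_mul_card (H.subgroupOf K)
  rw [Nat.card_congr (Subgroup.subgroupOfEquivOfLe h).toEquiv] at h1
  exact h1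

/-- S91-INF -/
theorem inf_sylow {G : Type u} [Group G] [Finite G] (p : ℕ) [Fact p.Prime] (K L : Subgroup G)
    [K.Normal] [L.Normal] (hKL : K ≤ L) (hK : (Nat.card K).Coprime p) (a : ℕ)
    (ha : K.relIndex L = p ^ a) (P : Sylow p G) :
    Nat.card ↥((P : Subgroup G) ⊓ L : Subgroup G) = p ^ a ∧ K ⊔ ((P : Subgroup G) ⊓ L) = L := by
  have hp : p.Prime := Fact.out
  have hL : p ^ a * Nat.card K = Nat.card L := by rw [← ha]; exact h28_relIndex_mul_card hKL
  have hKpos : 0 < Nat.card K := Nat.card_pos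
  -- `P ⊓ L` is a `p`-group
  have hQ : IsPGroup p ↥((P : Subgroup G) ⊓ L : Subgroup G) := P.2.to_le inf_le_left
  obtain ⟨b, hb⟩ := hQ.exists_card_eq
  have hcopK : ∀ n : ℕ, Nat.Coprime (p ^ n) (Nat.card K) := fun n =>
    (Nat.Coprime.pow_left n hK.symm)
  -- `b ≤ a`
  have hba : p ^ b ∣ p ^ a := by
    have h1 : Nat.card ↥((P : Subgroup G) ⊓ L : Subgroup G) ∣ Nat.card L :=
      Subgroup.card_dvd_of_le inf_le_right
    rw [hb, ← hL] at h1
    exact (hcopK b).dvd_of_dvd_mul_right h1
  -- `a ≤ b`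
  have hab : p ^ a ∣ p ^ b := by
    -- |P| = i * p^b with i ∣ L.index
    have h1 : L.relIndex (P : Subgroup G) * Nat.card ↥((P : Subgroup G) ⊓ L : Subgroup G) =
        Nat.card (P : Subgroup G) := by
      rw [← Subgroup.inf_relIndex_left]
      exact h28_relIndex_mul_card inf_le_left
    obtain ⟨j, hj⟩ : L.relIndex (P : Subgroup G) ∣ L.index := Subgroup.relIndex_dvd_index_of_normal _ _
    have h2 : (P : Subgroup G).index * Nat.card (P : Subgroup G) = Nat.card G :=
      Subgroup.index_mul_card _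
    have h3 : L.index * Nat.card L = Nat.card G := Subgroup.index_mul_card _
    have hipos : 0 < L.relIndex (P : Subgroup G) := by
      rcases Nat.eq_zero_or_pos (L.relIndex (P : Subgroup G)) with h0 | h0
      · rw [h0, zero_mul] at h1
        have : 0 < Nat.card (P : Subgroup G) := Nat.card_pos
        omega
      · exact h0
    have h4 : (P : Subgroup G).index * p ^ b = j * Nat.card K * p ^ a := by
      have : L.relIndex (P : Subgroup G) * ((P : Subgroup G).index * p ^ b) =
          L.relIndex (P : Subgroup G) * (j * Nat.card K * p ^ a) := by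
        calc L.relIndex (P : Subgroup G) * ((P : Subgroup G).index * p ^ b)
            = (P : Subgroup G).index * (L.relIndex (P : Subgroup G) * p ^ b) := by ring
          _ = Nat.card G := by rw [← hb, h1, h2]
          _ = L.index * Nat.card L := h3.symm
          _ = L.relIndex (P : Subgroup G) * (j * Nat.card K * p ^ a) := by
              rw [hj, ← hL]; ring
      exact Nat.eq_of_mul_eq_mul_left hipos this
    have h5 : ¬ p ∣ (P : Subgroup G).index := P.not_dvd_index
    have hcop : Nat.Coprime (p ^ a) (P : Subgroup G).index :=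
      Nat.Coprime.pow_left a ((Nat.Prime.coprime_iff_not_dvd hp).2 h5)
    have h6 : p ^ a ∣ (P : Subgroup G).index * p ^ b := by
      rw [h4]; exact dvd_mul_left _ _
    exact hcop.dvd_of_dvd_mul_left h6
  have hcard : Nat.card ↥((P : Subgroup G) ⊓ L : Subgroup G) = p ^ a := by
    rw [hb]; exact Nat.dvd_antisymm hba hab
  refine ⟨hcard, ?_⟩
  have hle : K ⊔ ((P : Subgroup G) ⊓ L) ≤ L := sup_le hKL inf_le_right
  apply Subgroup.eq_of_le_of_card_ge hle
  have hd1 : Nat.card K ∣ Nat.card ↥(K ⊔ ((P : Subgroup G) ⊓ L) : Subgroup G) :=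
    Subgroup.card_dvd_of_le le_sup_left
  have hd2 : p ^ a ∣ Nat.card ↥(K ⊔ ((P : Subgroup G) ⊓ L) : Subgroup G) := by
    rw [← hcard]; exact Subgroup.card_dvd_of_le le_sup_right
  have hd3 : p ^ a * Nat.card K ∣ Nat.card ↥(K ⊔ ((P : Subgroup G) ⊓ L) : Subgroup G) :=
    (hcopK a).mul_dvd_of_dvd_of_dvd hd2 hd1
  rw [← hL]
  exact Nat.le_of_dvd Nat.card_pos hd3

end Cfsg.Agent.Lib.helper2.S91
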