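import Mathlib
import Cfsg.Agent.Lib.helper8.SylowBasic
import Cfsg.Agent.Lib.helper8.SimpleEmbed
import Cfsg.Agent.Lib.helper8.OrbitCount
import Cfsg.Agent.Lib.helper23.OrdGen3

/-!
# S983 row N4200: no simple group of order 4200 = 2^3 * 3 * 5^2 * 7  (helper28)

Everything dies at `p = 7`: `n_7 ∈ {8, 15, 50, 120}`.
* `8`: `2 |G|` does not divide `8!`.
* `15`: `|N(P)| = 280`, `|C(P)| = 140` is even; an involution of `C(P)` has `f ≡ 1 mod 7`
  fixed points on the 15 Sylow 7-subgroups with `4 ∣ 15 - f`, `f < 15`: none.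
* `50`: `|N(P)| = 84`, `|C(P)| ∈ {42, 28, 14}` is even; `f = 22` is forced, the 8 orbits of `P`
  give `m'` with `7 m' + 7 ≤ |C(P)| ≤ 42` and `22 * |class| = 50 m'`, so `11 ∣ m'`: impossible.
* `120`: `|N(P)| = 35` admits no `r ∣ 6`, `r ≠ 1`.
-/

set_option autoImplicit false

namespace Cfsg.Agent.Lib.helper3.S983

open Cfsg.Agent.Lib.helper8 Cfsg.Agent.Lib.helper23

theorem no_simple_4200 {G : Type*} [Group G] [Finite G] [IsSimpleGroup G]
    (hG : Nat.card G = 4200) : False := by
  have : Fact (Nat.Prime 7) := ⟨by norm_num⟩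
  have hG' : Nat.card G = 7 ^ 1 * 600 := by rw [hG]; norm_num
  have hnd : ¬ 7 ∣ 600 := by norm_num
  have hnc : ¬ IsMulCommutative G := h8_not_comm_of_card (by rw [hG]; norm_num)
  have hmem := h8_nsylow_mem 7 1 600 hG' hnd
  have hne1 := h8_simple_nsylow_ne_one 7 1 600 hG' hnd (by norm_num) (by norm_num)
  obtain ⟨P⟩ : Nonempty (Sylow 7 G) := inferInstance
  obtain ⟨hP, hNn, hXn, r, hr6, hr1, hCr⟩ := og3_sylow_data 7 600 hG' hnd (by norm_num) P
  have hdiv : (Nat.divisors 600).filter (fun d => d % 7 = 1) = {1, 8, 15, 50, 120} := by decide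
  rw [hdiv] at hmem
  simp only [Finset.mem_insert, Finset.mem_singleton] at hmem
  have hr6' : r ∣ 6 := by simpa using hr6
  have hrle : r ≤ 6 := Nat.le_of_dvd (by norm_num) hr6'
  have horb := h8_card_orbits_sylow_prime 7 P hP
  rcases hmem with h | h | h | h | h
  · exact hne1 h
  · -- n_7 = 8
    have hidx := h8_nsylow_eq_index_normalizer 7 P
    have hNtop : Subgroup.normalizer ((P : Subgroup G) : Set G) ≠ ⊤ := by
      intro htop
      rw [htop, Subgroup.index_top] at hidx
      omega
    have := h8_simple_two_mul_card_dvd_factorial hnc _ hNtop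
    rw [← hidx, h, hG] at this
    revert this
    decide
  · -- n_7 = 15
    rw [h, hG] at hNn
    have hN : Nat.card (Subgroup.normalizer ((P : Subgroup G) : Set G)) = 280 := by omega
    rw [hN] at hCr
    have h2C : 2 ∣ Nat.card (Subgroup.centralizer ((P : Subgroup G) : Set G)) := by
      interval_cases r <;> omega
    obtain ⟨c, hcC, hc2, f, hf, hf7, hf4, hflt, himp⟩ :=
      og3_invol_package hnc 7 (by decide) P hP h2C hne1
    rw [h] at hf4 hflt
    have : f % 7 = 1 := hf7
    obtain ⟨k, hk⟩ := hf4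
    omega
  · -- n_7 = 50
    rw [h, hG] at hNn
    have hN : Nat.card (Subgroup.normalizer ((P : Subgroup G) : Set G)) = 84 := by omega
    rw [hN] at hCr
    have h2C : 2 ∣ Nat.card (Subgroup.centralizer ((P : Subgroup G) : Set G)) := by
      interval_cases r <;> omega
    have hCle : Nat.card (Subgroup.centralizer ((P : Subgroup G) : Set G)) ≤ 42 := by
      interval_cases r <;> omega
    obtain ⟨c, hcC, hc2, f, hf, hf7, hf4, hflt, himp⟩ :=
      og3_invol_package hnc 7 (by decide) P hP h2C hne1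
    rw [h] at hf4 hflt himp horb
    have hf7' : f % 7 = 1 := hf7
    obtain ⟨k, hk⟩ := hf4
    have hf22 : f = 22 := by omega
    subst hf22
    obtain ⟨m', hm1, hm2, hm3⟩ := himp (by omega)
    have hm5 : m' ≤ 5 := by omega
    have h11 : 11 ∣ 50 * m' := ⟨2 * Nat.card {g : G // IsConj c g}, by rw [← hm3]; ring⟩
    have h11' : 11 ∣ m' := by
      have hcop : Nat.Coprime 11 50 := by norm_num
      exact hcop.dvd_of_dvd_mul_left h11
    have := Nat.le_of_dvd (by omega) h11'
    omega
  · -- n_7 = 120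
    rw [h, hG] at hNn
    have hN : Nat.card (Subgroup.normalizer ((P : Subgroup G) : Set G)) = 35 := by omega
    rw [hN] at hCr
    interval_cases r <;> omega

end Cfsg.Agent.Lib.helper3.S983
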