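import Cfsg.Agent.Lib.helper7.SAP.Main

/-!
# `A_n` and `S_n` on 2 generators and 6 relators (helper28; towards S2285 and S2288)

In helper7's 7-relator presentations (project SAP) the two power relators `a^p`, `g^(3m)` are merged
into the single relator `a^p = g^(3m)`, and the exponent `r` of `β a β⁻¹ = a^r` is replaced by an
EVEN representative `re ∈ {r, r + p}`.  In the group presented by the six relators `c = a^p = g^(3m)`
is central, `β a β⁻¹ = a^re` gives `c^re = c`, `β z β⁻¹ = z⁻¹` with `z^3 = g^(3 ez) = c^t`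
(`ez = t m`, `t ∈ {1, 2}`) gives `c^(2t) = 1`; as `re` is even, `c = 1`.  So the six relators imply
helper7's seven.
-/

namespace Cfsg.Agent.Lib.Helper28.SAP6

open Equiv Cfsg.Agent.Lib.helper7.SAP

universe u

/-- explicit exponents for splitting `g = z τ` -/
theorem sap6_crt (m : ℕ) (h3 : ¬ 3 ∣ m) :
    ∃ t ez et : ℕ, (t = 1 ∨ t = 2) ∧ ez = t * m ∧ ez % 3 = 1 ∧ m ∣ ez ∧ 3 ∣ et ∧ et % m = 1 % m ∧
      (ez + et) % (3 * m) = 1 % (3 * m) := by
  have h : m % 3 = 1 ∨ m % 3 = 2 := by omega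
  rcases h with h | h
  · refine ⟨1, m, 2 * m + 1, Or.inl rfl, by ring, h, dvd_rfl, by omega, ?_, ?_⟩
    · rw [Nat.add_mod, Nat.mul_mod_left, zero_add, Nat.mod_mod]
    · have : m + (2 * m + 1) = 3 * m + 1 := by ring
      rw [this, Nat.add_mod, Nat.mod_self, zero_add, Nat.mod_mod]
  · refine ⟨2, 2 * m, m + 1, Or.inr rfl, rfl, by omega, Dvd.intro_left 2 rfl, by omega, ?_, ?_⟩
    · rw [Nat.add_mod, Nat.mod_self, zero_add, Nat.mod_mod]
    · have : 2 * m + (m + 1) = 3 * m + 1 := by ring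
      rw [this, Nat.add_mod, Nat.mod_self, zero_add, Nat.mod_mod]

/-- the central element `c = a^p = g^(3m)` is trivial -/
theorem sap6_collapse {G : Type*} [Group G] (a g β : G) (p m t re : ℕ)
    (hgen : Subgroup.closure ({a, g} : Set G) = ⊤)
    (hc : a ^ p = g ^ (3 * m)) (h4 : β * a * β⁻¹ = a ^ re)
    (h5 : β * g ^ (t * m) * β⁻¹ * g ^ (t * m) = 1) (hre : Even re) (ht : t = 1 ∨ t = 2) :
    a ^ p = 1 := by
  have hca : Commute (a ^ p) a := (Commute.refl a).pow_left p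
  have hcg : Commute (a ^ p) g := by rw [hc]; exact (Commute.refl g).pow_left _
  have hcentral : ∀ x : G, Commute (a ^ p) x := by
    intro x
    have hx : x ∈ Subgroup.closure ({a, g} : Set G) := by rw [hgen]; trivial
    induction hx using Subgroup.closure_induction with
    | mem y hy =>
      rcases hy with rfl | hy
      · exact hca
      · rw [Set.mem_singleton_iff] at hy; subst hy; exact hcg
    | one => exact Commute.one_right _
    | mul x y _ _ hx hy => exact hx.mul_right hy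
    | inv x _ hx => exact hx.inv_right
  -- `c ^ re = c`
  have h6 : (a ^ p) ^ re = a ^ p := by
    have e1 : β * a ^ p * β⁻¹ = (a ^ p) ^ re := by
      rw [← conj_pow, h4, ← pow_mul, ← pow_mul, mul_comm]
    have e2 : β * a ^ p * β⁻¹ = a ^ p := by
      rw [← (hcentral β).eq, mul_assoc, mul_inv_cancel, mul_one]
    rw [← e1, e2]
  -- `c ^ t * c ^ t = 1`
  have h7 : (a ^ p) ^ t * (a ^ p) ^ t = 1 := by
    have hz3 : (g ^ (t * m)) ^ 3 = (a ^ p) ^ t := by
      rw [hc, ← pow_mul, ← pow_mul]; congr 1; ring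
    have e1 : β * g ^ (t * m) * β⁻¹ = (g ^ (t * m))⁻¹ := eq_inv_of_mul_eq_one_left h5
    have e2 : β * (g ^ (t * m)) ^ 3 * β⁻¹ = ((g ^ (t * m)) ^ 3)⁻¹ := by
      rw [← conj_pow, e1, inv_pow]
    rw [hz3] at e2
    have e3 : β * (a ^ p) ^ t * β⁻¹ = (a ^ p) ^ t := by
      have := ((hcentral β).pow_left t).eq
      rw [← this, mul_assoc, mul_inv_cancel, mul_one]
    rw [e3] at e2
    nth_rewrite 2 [e2]
    exact mul_inv_cancel _
  obtain ⟨s, hs⟩ := hre
  have hfin : (a ^ p) ^ 2 = 1 → a ^ p = 1 := by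
    intro h8
    rw [← h6, hs, ← two_mul, pow_mul, h8, one_pow]
  rcases ht with rfl | rfl
  · apply hfin
    rw [pow_two]
    rwa [pow_one] at h7
  · apply hfin
    have h9 : (a ^ p) ^ 4 = 1 := by
      rw [show 4 = 2 + 2 from rfl, pow_add]
      exact h7
    have : (a ^ p) ^ 2 = ((a ^ p) ^ re) ^ 2 := by rw [h6]
    rw [this, hs, ← pow_mul]
    have : (s + s) * 2 = 4 * s := by ring
    rw [this, pow_mul, h9, one_pow]

/-- the six relators -/
def rels6 (p l k ez et re : ℕ) (Bw Nw kw : FreeGroup (Fin 2)) : List (FreeGroup (Fin 2)) :=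
  [ wA ^ p * (wG ^ (3 * (l + k)))⁻¹,
    (wG ^ ez * (wA * wG ^ ez * wA⁻¹)) ^ 2,
    Bw * wA * Bw⁻¹ * (wA ^ re)⁻¹,
    Bw * wG ^ ez * Bw⁻¹ * wG ^ ez,
    ((Nw⁻¹ * wG ^ et) * (wA ^ l * Bw * (wA ^ l)⁻¹)) *
      ((wA ^ l * Bw * (wA ^ l)⁻¹) * (Nw⁻¹ * wG ^ et))⁻¹,
    kw ]

theorem sap6_length (p l k ez et re : ℕ) (Bw Nw kw : FreeGroup (Fin 2)) :
    (rels6 p l k ez et re Bw Nw kw).length = 6 := rfl

/-- the six relators hold wherever the seven do (and `a^p = 1`) -/
theorem sap6_of_seven {G : Type*} [Group G] (f : FreeGroup (Fin 2) →* G) (p l k ez et rv re : ℕ)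
    (Bw Nw kw : FreeGroup (Fin 2)) (hre : re = rv ∨ re = rv + p)
    (h7 : ∀ w ∈ relsCommon p l k ez et rv Bw Nw, f w = 1) (hk : f kw = 1) :
    ∀ w ∈ rels6 p l k ez et re Bw Nw kw, f w = 1 := by
  have g1 := h7 (wA ^ p) (by simp [relsCommon])
  have g2 := h7 (wG ^ (3 * (l + k))) (by simp [relsCommon])
  have g3 := h7 ((wG ^ ez * (wA * wG ^ ez * wA⁻¹)) ^ 2) (by simp [relsCommon])
  have g4 := h7 (Bw * wA * Bw⁻¹ * (wA ^ rv)⁻¹) (by simp [relsCommon])
  have g5 := h7 (Bw * wG ^ ez * Bw⁻¹ * wG ^ ez) (by simp [relsCommon])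
  have g6 := h7 (((Nw⁻¹ * wG ^ et) * (wA ^ l * Bw * (wA ^ l)⁻¹)) *
      ((wA ^ l * Bw * (wA ^ l)⁻¹) * (Nw⁻¹ * wG ^ et))⁻¹) (by simp [relsCommon])
  have hpow : f (wA ^ re) = f (wA ^ rv) := by
    rcases hre with rfl | rfl
    · rfl
    · rw [pow_add, map_mul, g1, mul_one]
  intro w hw
  simp only [rels6, List.mem_cons, List.not_mem_nil, or_false] at hw
  rcases hw with rfl | rfl | rfl | rfl | rfl | rfl
  · rw [map_mul, map_inv, g1, g2, inv_one, mul_one]
  · exact g3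
  · rw [map_mul, map_inv, hpow, ← map_inv, ← map_mul]; exact g4
  · exact g5
  · exact g6
  · exact hk

/-- the seven relators follow from the six in a group generated by the two elements -/
theorem sap6_seven_of_six {G : Type*} [Group G] (a g : G) (p l k t ez et rv re : ℕ)
    (Bw Nw kw : FreeGroup (Fin 2)) (hgen : Subgroup.closure ({a, g} : Set G) = ⊤)
    (hre : re = rv ∨ re = rv + p) (hev : Even re) (ht : t = 1 ∨ t = 2) (hez : ez = t * (l + k))
    (h6 : ∀ w ∈ rels6 p l k ez et re Bw Nw kw, FreeGroup.lift ![a, g] w = 1) :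
    ∀ w ∈ relsCommon p l k ez et rv Bw Nw, FreeGroup.lift ![a, g] w = 1 := by
  have ea : FreeGroup.lift ![a, g] wA = a := by simp [wA]
  have eg : FreeGroup.lift ![a, g] wG = g := by simp [wG]
  have g1 := h6 (wA ^ p * (wG ^ (3 * (l + k)))⁻¹) (by simp [rels6])
  have g3 := h6 ((wG ^ ez * (wA * wG ^ ez * wA⁻¹)) ^ 2) (by simp [rels6])
  have g4 := h6 (Bw * wA * Bw⁻¹ * (wA ^ re)⁻¹) (by simp [rels6])
  have g5 := h6 (Bw * wG ^ ez * Bw⁻¹ * wG ^ ez) (by simp [rels6])
  have g6 := h6 (((Nw⁻¹ * wG ^ et) * (wA ^ l * Bw * (wA ^ l)⁻¹)) *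
      ((wA ^ l * Bw * (wA ^ l)⁻¹) * (Nw⁻¹ * wG ^ et))⁻¹) (by simp [rels6])
  have hc : a ^ p = g ^ (3 * (l + k)) := by
    rw [map_mul, map_inv, map_pow, map_pow, ea, eg, mul_inv_eq_one] at g1
    exact g1
  have h4 : FreeGroup.lift ![a, g] Bw * a * (FreeGroup.lift ![a, g] Bw)⁻¹ = a ^ re := by
    rw [map_mul, map_mul, map_mul, map_inv, map_inv, map_pow, ea, mul_inv_eq_one] at g4
    exact g4
  have h5 : FreeGroup.lift ![a, g] Bw * g ^ (t * (l + k)) * (FreeGroup.lift ![a, g] Bw)⁻¹ *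
      g ^ (t * (l + k)) = 1 := by
    rw [map_mul, map_mul, map_mul, map_inv, map_pow, eg, hez] at g5
    exact g5
  have hap : a ^ p = 1 := sap6_collapse a g _ p (l + k) t re hgen hc h4 h5 hev ht
  have hg3 : g ^ (3 * (l + k)) = 1 := by rw [← hc, hap]
  have hpow : a ^ re = a ^ rv := by
    rcases hre with rfl | rfl
    · rfl
    · rw [pow_add, hap, mul_one]
  intro w hw
  simp only [relsCommon, List.mem_cons, List.not_mem_nil, or_false] at hw
  rcases hw with rfl | rfl | rfl | rfl | rfl | rfl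
  · rw [map_pow, ea, hap]
  · rw [map_pow, eg, hg3]
  · exact g3
  · rw [map_mul, map_mul, map_mul, map_inv, map_inv, map_pow, ea, ← hpow, mul_inv_eq_one]
    exact h4
  · exact g5
  · exact g6

end Cfsg.Agent.Lib.Helper28.SAP6
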