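import Cfsg.Agent.Lib.Helper28.SAP6a

/-!
# `A_{p+2+k}` and `S_{p+2+k}` on 2 generators and 6 relators (helper28)

Copies of helper7's `presA` / `presS` (project SAP, rows PRES7 / PRES8) with the six relators
`rels6` of `SAP6a`: the seven relators are recovered by `sap6_seven_of_six`.
-/

namespace Cfsg.Agent.Lib.Helper28.SAP6

open Equiv Cfsg.Agent.Lib.helper7.SAP

universe u

/-- an even representative of the residue -/
theorem sap6_even_rep (p rv : ℕ) (hp : Odd p) : ∃ re : ℕ, (re = rv ∨ re = rv + p) ∧ Even re := by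
  rcases Nat.even_or_odd rv with h | h
  · exact ⟨rv, Or.inl rfl, h⟩
  · exact ⟨rv + p, Or.inr rfl, h.add_odd hp⟩

theorem sap6_range_fin2 {G : Type*} (f : Fin 2 → G) : Set.range f = {f 0, f 1} := by
  ext g
  simp [Fin.exists_fin_two, eq_comm]

/-- common part: the data of the presentation with an arbitrary kill relator -/
theorem sap6_data (p k l : ℕ) [Fact p.Prime] (hp : 3 ≤ p) (hkl : k + 1 ≤ l) (hlp : l + 1 ≤ p)
    (h3 : ¬ 3 ∣ (l + k)) (kw : FreeGroup (Fin 2) → FreeGroup (Fin 2) → FreeGroup (Fin 2))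
    (kperm : Perm (Pt p k)) (hkperm : kperm ∈ Subgroup.closure (Set.range (zh : Ix p k → Perm (Pt p k))))
    (hkw : ∀ (T W : FreeGroup (Fin 2)), evP p k l T = th p k l → evP p k l W = kperm →
      evP p k l (kw T W) = 1) :
    ∃ (ez et : ℕ) (Ww : FreeGroup (Fin 2)) (rels : Finset (FreeGroup (Fin 2))), rels.card ≤ 6 ∧
      ez % 3 = 1 ∧ (l + k) ∣ ez ∧ 3 ∣ et ∧ (ez + et) % (3 * (l + k)) = 1 % (3 * (l + k)) ∧
      Ww ∈ Subgroup.closure (Set.range (zx wA (wG ^ ez) (wG ^ et) l : Ix p k → FreeGroup (Fin 2))) ∧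
      evP p k l Ww = kperm ∧
      (∀ w ∈ (↑rels : Set (FreeGroup (Fin 2))),
        FreeGroup.lift ![ah p k, zh (Sum.inl 0) * th p k l] w = 1) ∧
      PresentedGroup.mk (↑rels : Set (FreeGroup (Fin 2))) (kw (wG ^ et) Ww) = 1 ∧
      PresentedGroup.mk (↑rels : Set (FreeGroup (Fin 2))) (wG ^ (3 * (l + k))) = 1 ∧
      ∀ ψ : PresentedGroup (↑rels : Set (FreeGroup (Fin 2))) →* Perm (Pt p k),
        ψ (PresentedGroup.of 0) = ah p k → ψ (PresentedGroup.of 1) = zh (Sum.inl 0) * th p k l →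
        ∃ H : GlueHyp p k l (PresentedGroup (↑rels : Set (FreeGroup (Fin 2)))),
          H.a = PresentedGroup.of 0 ∧ H.z = PresentedGroup.of 1 ^ ez ∧
          H.τ = PresentedGroup.of 1 ^ et ∧ H.ψ = ψ := by
  classical
  have hl : 1 ≤ l := by omega
  obtain ⟨t, ez, et, ht, hez, hz3, hzm, ht3, htm, hzt⟩ := sap6_crt (l + k) h3
  obtain ⟨r, hr⟩ := IsCyclic.exists_generator (α := (ZMod p)ˣ)
  obtain ⟨eA, eZ, eT, eZx⟩ := evP_basic p k l hlp ez et hz3 hzm ht3 htm
  have hfun : (fun x : ZMod p => evP p k l (zo wA (wG ^ ez) x)) =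
      fun x : ZMod p => zh (Sum.inl x : Ix p k) := funext eZx
  obtain ⟨Bw, hBw, hB⟩ := exists_word (evP p k l) (zo wA (wG ^ ez) : ZMod p → FreeGroup (Fin 2))
    (bh k r) (by rw [hfun]; exact bh_mem p k hp r hr)
  obtain ⟨Nw, hNw, hN⟩ := exists_word (evP p k l) (zo wA (wG ^ ez) : ZMod p → FreeGroup (Fin 2))
    (nh p k l) (by rw [hfun]; exact nh_mem p k l hlp hl)
  have hzx : ∀ y : Ix p k, evP p k l (zx wA (wG ^ ez) (wG ^ et) l y) = zh y := by
    intro y
    rw [sappres7_map_zx, eA, eZ, eT]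
    exact zx_perm p k l hlp hl y
  obtain ⟨Ww, hWw, hW⟩ := exists_word (evP p k l)
    (zx wA (wG ^ ez) (wG ^ et) l : Ix p k → FreeGroup (Fin 2)) kperm
    (by rw [funext hzx]; exact hkperm)
  have hpodd : Odd p := by
    have hpp : p.Prime := Fact.out
    exact hpp.odd_of_ne_two (by omega)
  obtain ⟨re, hre, hev⟩ := sap6_even_rep p (r : ZMod p).val hpodd
  set L : List (FreeGroup (Fin 2)) := rels6 p l k ez et re Bw Nw (kw (wG ^ et) Ww) with hL
  have hcoe : (↑L.toFinset : Set (FreeGroup (Fin 2))) = {w | w ∈ L} := by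
    ext w; simp
  have hmk : ∀ w ∈ L, PresentedGroup.mk (↑L.toFinset : Set (FreeGroup (Fin 2))) w = 1 := by
    intro w hw
    rw [PresentedGroup.mk_eq_one_iff]
    exact Subgroup.subset_normalClosure (by rw [hcoe]; exact hw)
  have hgenP : Subgroup.closure ({PresentedGroup.of (rels := (↑L.toFinset : Set (FreeGroup (Fin 2)))) 0,
      PresentedGroup.of 1} : Set (PresentedGroup (↑L.toFinset : Set (FreeGroup (Fin 2))))) = ⊤ := by
    rw [← sap6_range_fin2, PresentedGroup.closure_range_of]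
  have hrelG : ∀ w ∈ relsCommon p l k ez et (r : ZMod p).val Bw Nw,
      FreeGroup.lift ![(PresentedGroup.of 0 : PresentedGroup (↑L.toFinset : Set (FreeGroup (Fin 2)))),
        PresentedGroup.of 1] w = 1 := by
    refine sap6_seven_of_six _ _ p l k t ez et (r : ZMod p).val re Bw Nw (kw (wG ^ et) Ww) hgenP hre hev
      ht hez ?_
    intro w hw
    rw [sappres7_lift_of]
    exact hmk w hw
  refine ⟨ez, et, Ww, L.toFinset, ?_, hz3, hzm, ht3, hzt, hWw, hW, ?_, ?_, ?_, ?_⟩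
  · exact (List.toFinset_card_le L).trans (le_of_eq (sap6_length _ _ _ _ _ _ _ _ _))
  · intro w hw
    rw [hcoe] at hw
    change evP p k l w = 1
    exact sap6_of_seven (evP p k l) p l k ez et (r : ZMod p).val re Bw Nw (kw (wG ^ et) Ww) hre
      (rels_perm p k l hlp hl r ez et hz3 hzm ht3 htm Bw Nw hB hN) (hkw _ _ eT hW) w hw
  · exact hmk _ (by simp [hL, rels6])
  · have h2 := hrelG (wG ^ (3 * (l + k))) (by simp [relsCommon])
    rw [sappres7_lift_of] at h2
    exact h2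
  · intro ψ hψa hψg
    obtain ⟨H, ha, hz, hτ, hψ, -, -⟩ := glueHyp_of_rels p k l
      (PresentedGroup.of 0 : PresentedGroup (↑L.toFinset : Set (FreeGroup (Fin 2)))) (PresentedGroup.of 1)
      hkl hlp r hr ez et hz3 hzm ht3 htm hzt Bw Nw hBw hNw hB hN hrelG ψ hψa hψg
    exact ⟨H, ha, hz, hτ, hψ⟩

end Cfsg.Agent.Lib.Helper28.SAP6
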