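import Cfsg.Agent.Lib.Helper28.SAP6c

/-!
# A dummy third generator; `A_n`, `S_n` (`n ≥ 5`) on 3 generators and at most 7 relators (helper28)
-/

namespace Cfsg.Agent.Lib.Helper28.SAP6

open Equiv Cfsg.Agent.Lib.helper7.SAP

universe u

/-- adding a generator together with the relator killing it -/
theorem sap6_pad {H : Type*} [Group H] (rels : Finset (FreeGroup (Fin 2)))
    (e : PresentedGroup (↑rels : Set (FreeGroup (Fin 2))) ≃* H) :
    ∃ rels' : Finset (FreeGroup (Fin 3)), rels'.card ≤ rels.card + 1 ∧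
      Nonempty (PresentedGroup (↑rels' : Set (FreeGroup (Fin 3))) ≃* H) := by
  classical
  set ι : FreeGroup (Fin 2) →* FreeGroup (Fin 3) := FreeGroup.map (Fin.castSucc : Fin 2 → Fin 3) with hι
  set rels' : Finset (FreeGroup (Fin 3)) := rels.image ι ∪ {FreeGroup.of 2} with hrels'
  refine ⟨rels', ?_, ?_⟩
  · refine (Finset.card_union_le _ _).trans ?_
    rw [Finset.card_singleton]
    exact Nat.add_le_add_right Finset.card_image_le 1
  -- the two homomorphisms
  set f : Fin 3 → PresentedGroup (↑rels : Set (FreeGroup (Fin 2))) :=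
    ![PresentedGroup.of 0, PresentedGroup.of 1, 1] with hf
  have hf1 : (FreeGroup.lift f).comp ι = PresentedGroup.mk (↑rels : Set (FreeGroup (Fin 2))) := by
    ext i
    fin_cases i <;> simp [hι, hf, PresentedGroup.of]
  have hF : ∀ r ∈ (↑rels' : Set (FreeGroup (Fin 3))), FreeGroup.lift f r = 1 := by
    intro r hr
    rw [hrels', Finset.coe_union, Finset.coe_image, Finset.coe_singleton] at hr
    rcases hr with ⟨w, hw, rfl⟩ | hr
    · have : FreeGroup.lift f (ι w) = ((FreeGroup.lift f).comp ι) w := rfl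
      rw [this, hf1]
      exact PresentedGroup.one_of_mem hw
    · rw [Set.mem_singleton_iff] at hr
      subst hr
      simp [hf]
  set g : Fin 2 → PresentedGroup (↑rels' : Set (FreeGroup (Fin 3))) :=
    fun i => PresentedGroup.of (Fin.castSucc i) with hg
  have hg1 : FreeGroup.lift g = (PresentedGroup.mk (↑rels' : Set (FreeGroup (Fin 3)))).comp ι := by
    ext i
    simp [hι, hg, PresentedGroup.of]
  have hG : ∀ r ∈ (↑rels : Set (FreeGroup (Fin 2))), FreeGroup.lift g r = 1 := by
    intro r hr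
    rw [hg1, MonoidHom.comp_apply]
    refine PresentedGroup.one_of_mem ?_
    rw [hrels', Finset.coe_union, Finset.coe_image]
    exact Or.inl ⟨r, hr, rfl⟩
  set F : PresentedGroup (↑rels' : Set (FreeGroup (Fin 3))) →*
      PresentedGroup (↑rels : Set (FreeGroup (Fin 2))) := PresentedGroup.toGroup hF with hFdef
  set G : PresentedGroup (↑rels : Set (FreeGroup (Fin 2))) →*
      PresentedGroup (↑rels' : Set (FreeGroup (Fin 3))) := PresentedGroup.toGroup hG with hGdef
  have h2 : PresentedGroup.of (rels := (↑rels' : Set (FreeGroup (Fin 3)))) 2 = 1 := by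
    refine PresentedGroup.one_of_mem ?_
    rw [hrels', Finset.coe_union, Finset.coe_singleton]
    exact Or.inr rfl
  have hGF : G.comp F = MonoidHom.id _ := by
    refine PresentedGroup.ext (fun i => ?_)
    rw [MonoidHom.comp_apply, hFdef, PresentedGroup.toGroup.of, MonoidHom.id_apply]
    fin_cases i
    · show G (PresentedGroup.of 0) = _
      rw [hGdef, PresentedGroup.toGroup.of]; rfl
    · show G (PresentedGroup.of 1) = _
      rw [hGdef, PresentedGroup.toGroup.of]; rfl
    · show G 1 = _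
      rw [map_one]; exact h2.symm
  have hFG : F.comp G = MonoidHom.id _ := by
    refine PresentedGroup.ext (fun i => ?_)
    rw [MonoidHom.comp_apply, hGdef, PresentedGroup.toGroup.of, MonoidHom.id_apply, hFdef,
      PresentedGroup.toGroup.of]
    fin_cases i <;> rfl
  exact ⟨(MonoidHom.toMulEquiv F G hGF hFG).trans e⟩

/-- S2285: `S_n` and `A_n` (`n ≥ 5`) on 3 generators and at most 7 relators -/
theorem sap6_S2285 (n : ℕ) (hn : 5 ≤ n) : (∃ rels : Finset (FreeGroup (Fin 3)), rels.card ≤ 7 ∧ Nonempty (PresentedGroup (↑rels : Set (FreeGroup (Fin 3))) ≃* Equiv.Perm (Fin n))) ∧ (∃ rels : Finset (FreeGroup (Fin 3)), rels.card ≤ 7 ∧ Nonempty (PresentedGroup (↑rels : Set (FreeGroup (Fin 3))) ≃* ↥(alternatingGroup (Fin n)))) := by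
  constructor
  · obtain ⟨r0, h0, ⟨e0⟩⟩ := sap6_sym n hn
    obtain ⟨r1, h1, e1⟩ := sap6_pad r0 e0
    exact ⟨r1, by omega, e1⟩
  · obtain ⟨r0, h0, ⟨e0⟩⟩ := sap6_alt n hn
    obtain ⟨r1, h1, e1⟩ := sap6_pad r0 e0
    exact ⟨r1, by omega, e1⟩

end Cfsg.Agent.Lib.Helper28.SAP6
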