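import Cfsg.Agent.Lib.helper17.SLN.Defs
import Cfsg.Agent.Lib.Helper24.SLNM1
import Cfsg.Agent.Lib.Helper25.SLNM5
import Cfsg.Agent.Lib.Helper13.SLNM6

/-!
Project SLN (designer helper17; S2290), row M9 (`xr_M`, `hr_M`), by helper28.
-/

set_option autoImplicit false

namespace Cfsg.Agent.Lib.helper17.SLN

open Cfsg.Agent.Lib.helper17.SLP
open Cfsg.Agent.Lib.helper7.St

universe u v w v'

section M

open Matrix

variable {F : Type u} [Field F] {ι : Type w} [Fintype ι] [DecidableEq ι]

/-- M9 [S-M]  deps M4 M5 M6.  `xr`/`hr` for `ν := permSL`, `φ := rho p`: `phiR_M` + `rhoF_xM`/`rhoF_hM` (`Subtype.ext` for the first). -/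
theorem xr_M (p : Pts ι) (i j : ι) (hij : i ≠ j) (t : F) :
    xr p (permSL : alternatingGroup ι →* Matrix.SpecialLinearGroup ι F) (rho p) i j t =
      Matrix.SpecialLinearGroup.transvection hij t := by
  rw [xr, if_neg hij, phiR_M p i j hij]
  exact Subtype.ext (rhoF_xM i j hij t)

theorem hr_M (p : Pts ι) (i j : ι) (hij : i ≠ j) (s : Fˣ) :
    ((hr p (permSL : alternatingGroup ι →* Matrix.SpecialLinearGroup ι F) (rho p) i j s :
      Matrix.SpecialLinearGroup ι F) : Matrix ι ι F) =
      Matrix.diagonal (fun k => if k = i then (s : F) else if k = j then ((s⁻¹ : Fˣ) : F) else 1) := by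
  rw [hr, phiR_M p i j hij]
  exact rhoF_hM i j hij s

end M

end Cfsg.Agent.Lib.helper17.SLN
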