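import Cfsg.Agent.Lib.helper17.SLN.Defs
import Cfsg.Agent.Lib.helper15.SLNM8
import Cfsg.Agent.Lib.Helper28.SLNM9
import Cfsg.Agent.Lib.Lead.SLn

/-!
Project SLN (designer helper17; S2290), rows M10 (`tor_M`) and M11 (`com_M`), by helper28.
-/

set_option autoImplicit false

namespace Cfsg.Agent.Lib.helper17.SLN

open Cfsg.Agent.Lib.helper17.SLP
open Cfsg.Agent.Lib.helper7.St

universe u v w v'

section M

open Matrix

variable {F : Type u} [Field F] {ι : Type w} [Fintype ι] [DecidableEq ι]

/-- two elements of `SL` with diagonal matrices commute -/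
theorem slnm10_diag_comm (d d' : Matrix.SpecialLinearGroup ι F) (D D' : ι → F)
    (hd : d.1 = Matrix.diagonal D) (hd' : d'.1 = Matrix.diagonal D') : Commute d d' := by
  apply Subtype.ext
  show d.1 * d'.1 = d'.1 * d.1
  rw [hd, hd', Matrix.diagonal_mul_diagonal, Matrix.diagonal_mul_diagonal]
  congr 1
  funext k
  exact mul_comm _ _

/-- M10 [M]  deps M8 M9.  Diagonal matrices commute (`Subtype.ext`, `hr_M`, `Matrix.diagonal_mul_diagonal`, `mul_comm`); `diag_transvection` with `D` from `hr_M`: `D i = s`, `D j = 1` for `hr i k s`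
(`t' := s * t`), `D i = 1`, `D j = s` for `hr j k s` (`t' := s⁻¹ * t`); `g x = x' g ⇒ g x g⁻¹ = x'`. -/
theorem tor_M (p : Pts ι) (i j k : ι) (hij : i ≠ j) (hik : i ≠ k) (hjk : j ≠ k) (s s' : Fˣ) (t : F) :
    Commute (hr p (permSL : alternatingGroup ι →* Matrix.SpecialLinearGroup ι F) (rho p) i j s)
        (hr p permSL (rho p) i k s') ∧
      Commute (hr p (permSL : alternatingGroup ι →* Matrix.SpecialLinearGroup ι F) (rho p) i j s)
        (hr p permSL (rho p) j k s') ∧
      hr p (permSL : alternatingGroup ι →* Matrix.SpecialLinearGroup ι F) (rho p) i k s * xr p permSL (rho p) i j t *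
        (hr p permSL (rho p) i k s)⁻¹ = xr p permSL (rho p) i j ((s : F) * t) ∧
      hr p (permSL : alternatingGroup ι →* Matrix.SpecialLinearGroup ι F) (rho p) j k s * xr p permSL (rho p) i j t *
        (hr p permSL (rho p) j k s)⁻¹ = xr p permSL (rho p) i j (((s⁻¹ : Fˣ) : F) * t) := by
  refine ⟨slnm10_diag_comm _ _ _ _ (hr_M p i j hij s) (hr_M p i k hik s'),
    slnm10_diag_comm _ _ _ _ (hr_M p i j hij s) (hr_M p j k hjk s'), ?_, ?_⟩
  · rw [xr_M p i j hij, xr_M p i j hij, mul_inv_eq_iff_eq_mul]
    refine diag_transvection _ _ (hr_M p i k hik s) hij t ((s : F) * t) ?_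
    simp only [if_pos, if_neg hij.symm, if_neg hjk, mul_one]
  · rw [xr_M p i j hij, xr_M p i j hij, mul_inv_eq_iff_eq_mul]
    refine diag_transvection _ _ (hr_M p j k hjk s) hij t (((s⁻¹ : Fˣ) : F) * t) ?_
    simp only [if_neg hij, if_neg hik, one_mul]
    simp only [if_true]
    rw [mul_comm, ← mul_assoc]
    simp

/-- M11 [M]  dep M9.  `xr_M`; part 1 = `Cfsg.Agent.Lib.Lead.transvection_eq_commutator` (`commutatorElement_def`, `cm`); parts 2 3: `Subtype.ext`, `(1 + single i j s)(1 + single i l t)` both orders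
(`Matrix.single_mul_single_of_ne`; see `transvection_comm_aux` in `Lead/SLn.lean`). -/
theorem com_M (p : Pts ι) (i j l : ι) (hij : i ≠ j) (hil : i ≠ l) (hjl : j ≠ l) (s t : F) :
    cm (xr p (permSL : alternatingGroup ι →* Matrix.SpecialLinearGroup ι F) (rho p) i j s)
        (xr p permSL (rho p) j l t) = xr p permSL (rho p) i l (s * t) ∧
      Commute (xr p (permSL : alternatingGroup ι →* Matrix.SpecialLinearGroup ι F) (rho p) i j s)
        (xr p permSL (rho p) i l t) ∧
      Commute (xr p (permSL : alternatingGroup ι →* Matrix.SpecialLinearGroup ι F) (rho p) i j s)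
        (xr p permSL (rho p) l j t) := by
  refine ⟨?_, ?_, ?_⟩
  · rw [xr_M p i j hij, xr_M p j l hjl, xr_M p i l hil,
      Cfsg.Agent.Lib.Lead.transvection_eq_commutator hil hij hjl s t, commutatorElement_def]
    rfl
  · rw [xr_M p i j hij, xr_M p i l hil]
    apply Subtype.ext
    show (1 + Matrix.single i j s) * (1 + Matrix.single i l t) =
      (1 + Matrix.single i l t) * (1 + Matrix.single i j s)
    simp only [mul_add, add_mul, mul_one, one_mul,
      Matrix.single_mul_single_of_ne _ _ _ _ hij.symm, Matrix.single_mul_single_of_ne _ _ _ _ hil.symm]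
    abel
  · rw [xr_M p i j hij, xr_M p l j hjl.symm]
    apply Subtype.ext
    show (1 + Matrix.single i j s) * (1 + Matrix.single l j t) =
      (1 + Matrix.single l j t) * (1 + Matrix.single i j s)
    simp only [mul_add, add_mul, mul_one, one_mul,
      Matrix.single_mul_single_of_ne _ _ _ _ hjl, Matrix.single_mul_single_of_ne _ _ _ _ hij.symm]
    abel

end M

end Cfsg.Agent.Lib.helper17.SLN
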