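import Mathlib
import Cfsg.Agent.Lib.helper17.SLP.Defs
import Cfsg.Agent.Lib.Helper28.SLPFIN1core
import Cfsg.Agent.Lib.Helper28.SLPXQ
import Cfsg.Agent.Lib.Helper28.SLPM34h28
import Cfsg.Agent.Lib.Helper26.SLPX1core
import Cfsg.Agent.Lib.helper2.SLPXR
import Cfsg.Agent.Lib.helper2.SLPM1
import Cfsg.Agent.Lib.Helper20.SLPC1core
import Cfsg.Agent.Lib.Helper20.SLPN1
import Cfsg.Agent.Lib.Helper20.SLPF4
import Cfsg.Agent.Lib.Helper27.SLPK2
import Cfsg.Agent.Lib.helper17.SLPBN1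
import Cfsg.Agent.Lib.helper7.SLPP1

/-! # SLP row FIN1 (helper28): `SL₂(F)`, `F` of odd order: 3 generators, at most 9 relations.
Rows X1 and C1 enter through their landed cores (`slpx1_core`, `slpc1_core`) and the landed rows XQ XR K2 BN1;
rows M3 M4 through the spares `slpm3_h28_relK1_M`, `slpm3_h28_relK2_M`, `slpm4_h28_closure_M`. -/

set_option autoImplicit false

namespace Cfsg.Agent.Lib.helper17.SLP

open Polynomial

universe u v

/-- FIN1 [M-L]  deps X1 C1 N1 P1 P2 M3 M4 F4 + `helper15.card_SL2`. -/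
theorem sl_odd {F : Type u} [Field F] [Fintype F] (h2 : (2 : F) ≠ 0) :
    ∃ rels : Finset (FreeGroup (Fin 3)), rels.card ≤ 9 ∧
      Nonempty (PresentedGroup (↑rels : Set (FreeGroup (Fin 3))) ≃* Matrix.SpecialLinearGroup (Fin 2) F) := by
  obtain ⟨ζ, hζ⟩ := IsCyclic.exists_generator (α := Fˣ)
  have hp : (ringChar F).Prime := CharP.char_is_prime F (ringChar F)
  have hfact : Fact (ringChar F).Prime := ⟨hp⟩
  have hp2 : ringChar F ≠ 2 := by
    intro h
    apply h2
    have := CharP.cast_eq_zero F (ringChar F)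
    rw [h] at this
    exact_mod_cast this
  exact slpfin1_core h2 ζ hζ
    (slpx1_core (ringChar F) hp2 ζ (fun hq => ascheme_Q (ringChar F) hq ζ hζ)
      (fun hq => ascheme_R (ringChar F) hp2 hq ζ hζ))
    (fun G _ u h w N hN0 hgen x hadd hconj hx1 hN hwh hw2 hK1 hK2 =>
      slpc1_core ζ u h w N hgen x hconj hx1 (fun hn hn' hgen' =>
        bn_card x h w N hN0 hadd hn hn' hN hwh hw2
          (k_all ζ hζ x h w hadd hconj hwh (by rw [hx1]; exact hK1) hK2) hgen'))
    (fun G _ h w n hwh hw2 => n_sl h w n hwh hw2)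
    (fun L a b c hgen hrel hcard => pres_of_card L a b c hgen hrel hcard)
    (slpm4_h28_closure_M ζ hζ) (zeta_pow_half h2 ζ hζ) (wM_hM ζ) wM_sq hM_mul
    slpm3_h28_relK1_M (slpm3_h28_relK2_M ζ)

end Cfsg.Agent.Lib.helper17.SLP
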