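import Mathlib
import Cfsg.Agent.Lib.Helper19.SO8.Defs
import Cfsg.Agent.Lib.Helper28.SO8U4

set_option autoImplicit false
set_option linter.unusedVariables false

/-!
# Project SO8, row U8M (`oreal_u8m`) (helper28), verbatim from `Helper19/SO8/Skel.lean.txt`.
-/

namespace Cfsg.Agent.Lib.Helper19.SO8

open Polynomial Cfsg.Agent.Lib.Helper13.OTS

/-- the coordinate function of `T` -/
def so8u8m_fun {F : Type*} [Field F] (c : F) (v : (Fin 2 ⊕ Fin 2) ⊕ Fin 2 → F) :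
    (Fin 2 ⊕ Fin 2) ⊕ Fin 2 → F :=
  Sum.elim
    (Sum.elim
      ![v (Sum.inl (Sum.inl 0)) + v (Sum.inl (Sum.inl 1)) + c * v (Sum.inl (Sum.inr 1)) + v (Sum.inr 0) + v (Sum.inr 1),
        v (Sum.inl (Sum.inl 1)) + c * v (Sum.inl (Sum.inr 1)) + v (Sum.inr 0) + v (Sum.inr 1)]
      ![v (Sum.inl (Sum.inr 0)), v (Sum.inl (Sum.inr 0)) + v (Sum.inl (Sum.inr 1))])
    ![v (Sum.inr 0) + v (Sum.inr 1), v (Sum.inl (Sum.inr 1)) + v (Sum.inr 1)]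

/-- the coordinate function of `T ^ 2` -/
def so8u8m_fun2 {F : Type*} [Field F] (c : F) (v : (Fin 2 ⊕ Fin 2) ⊕ Fin 2 → F) :
    (Fin 2 ⊕ Fin 2) ⊕ Fin 2 → F :=
  Sum.elim
    (Sum.elim
      ![v (Sum.inl (Sum.inl 0)) + c * v (Sum.inl (Sum.inr 0)) + (1 + c) * v (Sum.inl (Sum.inr 1)) + v (Sum.inr 0),
        v (Sum.inl (Sum.inl 1)) + c * v (Sum.inl (Sum.inr 0)) + v (Sum.inl (Sum.inr 1)) + v (Sum.inr 1)]
      ![v (Sum.inl (Sum.inr 0)), v (Sum.inl (Sum.inr 1))])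
    ![v (Sum.inl (Sum.inr 1)) + v (Sum.inr 0), v (Sum.inl (Sum.inr 0)) + v (Sum.inr 1)]

/-- the coordinate function of `T ^ 4` -/
def so8u8m_fun4 {F : Type*} [Field F] (v : (Fin 2 ⊕ Fin 2) ⊕ Fin 2 → F) :
    (Fin 2 ⊕ Fin 2) ⊕ Fin 2 → F :=
  Sum.elim
    (Sum.elim
      ![v (Sum.inl (Sum.inl 0)) + v (Sum.inl (Sum.inr 1)), v (Sum.inl (Sum.inl 1)) + v (Sum.inl (Sum.inr 0))]
      ![v (Sum.inl (Sum.inr 0)), v (Sum.inl (Sum.inr 1))])
    ![v (Sum.inr 0), v (Sum.inr 1)]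

/-- the map `T` -/
def so8u8m_map {F : Type*} [Field F] (c : F) : Module.End F ((Fin 2 ⊕ Fin 2) ⊕ Fin 2 → F) where
  toFun v := so8u8m_fun c v
  map_add' u v := by
    funext i
    rcases i with (i | i) | i <;> fin_cases i <;> simp [so8u8m_fun] <;> ring
  map_smul' a v := by
    funext i
    rcases i with (i | i) | i <;> fin_cases i <;> simp [so8u8m_fun] <;> ring

theorem so8u8m_map_apply {F : Type*} [Field F] (c : F) (v : (Fin 2 ⊕ Fin 2) ⊕ Fin 2 → F) :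
    so8u8m_map c v = so8u8m_fun c v := rfl

theorem so8u8m_two {F : Type*} [Field F] [CharP F 2] (c : F) (v : (Fin 2 ⊕ Fin 2) ⊕ Fin 2 → F) :
    so8u8m_fun c (so8u8m_fun c v) = so8u8m_fun2 c v := by
  have h2 : (2 : F) = 0 := CharTwo.two_eq_zero
  funext i
  rcases i with (i | i) | i <;> fin_cases i <;>
    simp only [so8u8m_fun, so8u8m_fun2, Sum.elim_inl, Sum.elim_inr, Matrix.cons_val_zero,
      Matrix.cons_val_one, Fin.zero_eta, Fin.mk_one] <;> grind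

theorem so8u8m_four {F : Type*} [Field F] [CharP F 2] (c : F) (v : (Fin 2 ⊕ Fin 2) ⊕ Fin 2 → F) :
    so8u8m_fun2 c (so8u8m_fun2 c v) = so8u8m_fun4 v := by
  have h2 : (2 : F) = 0 := CharTwo.two_eq_zero
  funext i
  rcases i with (i | i) | i <;> fin_cases i <;>
    simp only [so8u8m_fun2, so8u8m_fun4, Sum.elim_inl, Sum.elim_inr, Matrix.cons_val_zero,
      Matrix.cons_val_one, Fin.zero_eta, Fin.mk_one] <;> grind

theorem so8u8m_eight {F : Type*} [Field F] [CharP F 2] (v : (Fin 2 ⊕ Fin 2) ⊕ Fin 2 → F) :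
    so8u8m_fun4 (so8u8m_fun4 v) = v := by
  have h2 : (2 : F) = 0 := CharTwo.two_eq_zero
  funext i
  rcases i with (i | i) | i <;> fin_cases i <;>
    simp only [so8u8m_fun4, Sum.elim_inl, Sum.elim_inr, Matrix.cons_val_zero,
      Matrix.cons_val_one, Fin.zero_eta, Fin.mk_one] <;> grind

theorem so8u8m_pow4 {F : Type*} [Field F] [CharP F 2] (c : F) (v : (Fin 2 ⊕ Fin 2) ⊕ Fin 2 → F) :
    ((so8u8m_map c) ^ 4) v = so8u8m_fun4 v := by
  have : (so8u8m_map c) ^ 4 = so8u8m_map c * (so8u8m_map c * (so8u8m_map c * so8u8m_map c)) := by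
    rw [pow_succ', pow_succ', pow_succ', pow_one]
  rw [this]
  simp only [Module.End.mul_apply, so8u8m_map_apply]
  rw [so8u8m_two, so8u8m_two, so8u8m_four]

/-- U8M [M-L]: on `quadFormMinus 2 F 1 c`, coordinates `(x₁,x₂,y₁,y₂,z₁,z₂)`, `T`: `x₁' = x₁+x₂+c y₂+z₁+z₂`, `x₂' = x₂+c y₂+z₁+z₂`, `y₁' = y₁`, `y₂' = y₁+y₂`, `z₁' = z₁+z₂`, `z₂' = y₂+z₂`
preserves `x₁y₁+x₂y₂+z₁²+z₁z₂+c z₂²` (char 2, every `c`).  `T = 1 + N`, `N` nilpotent with `N^5 ≠ 0` (`N^4 e_{y₁} = e_{x₂}`), so `T^4 = 1 + N^4 ≠ 1`, `T^8 = 1`. -/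
theorem oreal_u8m {F : Type*} [Field F] [Fintype F] [CharP F 2] (c : F)
    (hc : ∀ z₁ z₂ : F, z₁ ^ 2 + 1 * z₁ * z₂ + c * z₂ ^ 2 = 0 → z₁ = 0 ∧ z₂ = 0) :
    OReal F 3 (-1) 8 := by
  have h2 : (2 : F) = 0 := CharTwo.two_eq_zero
  have hmain := so8u4_of_end (Cfsg.Agent.Lib.Helper16.qfMinus 2 F 1 c) 3 (-1) (otsstdp_minus 2 1 c hc)
    (so8u8m_map c) ?_ 2 ?_ ?_
  · simpa using hmain
  · intro v
    rw [Cfsg.Agent.Lib.Helper16.qfMinus_coe]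
    unfold Cfsg.quadFormMinus
    rw [Fin.sum_univ_two, Fin.sum_univ_two, so8u8m_map_apply]
    simp only [so8u8m_fun, Sum.elim_inl, Sum.elim_inr, Matrix.cons_val_zero, Matrix.cons_val_one]
    grind
  · apply LinearMap.ext
    intro v
    have h8 : (2 : ℕ) ^ (2 + 1) = 4 * 2 := by norm_num
    rw [h8, pow_mul, sq, Module.End.mul_apply, so8u8m_pow4, so8u8m_pow4, so8u8m_eight]
    rfl
  · intro h
    have h4 : (2 : ℕ) ^ 2 = 4 := by norm_num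
    rw [h4] at h
    have h1 := congrArg (fun f : Module.End F ((Fin 2 ⊕ Fin 2) ⊕ Fin 2 → F) =>
      f (fun i => if i = Sum.inl (Sum.inr 1) then 1 else 0) (Sum.inl (Sum.inl 0))) h
    simp only [so8u8m_pow4, Module.End.one_apply, so8u8m_fun4] at h1
    simp at h1

end Cfsg.Agent.Lib.Helper19.SO8
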