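import Mathlib
import Cfsg.Agent.Lib.helper17.SLP.Defs
import Cfsg.Agent.Lib.helper3.SP4.Defs
import Cfsg.Agent.Lib.helper6.SLPM4
import Cfsg.Agent.Lib.Helper28.SP4R3

/-!
# Project SP4, spares (helper28) for rows D4 (`rd_weylT`), D6 (`rd_rank1`), D7 (`rd_braid_gen`), D8 (`TT_finite`)
under own names (exact Skel statements).
-/

set_option autoImplicit false

namespace Cfsg.Agent.Lib.helper3.SP4

open Cfsg.Agent.Lib.helper17.SLP
open Polynomial

universe u v

section D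

variable {F : Type u} [Field F] [Fintype F] {G : Type v} [Group G]

omit [Fintype F] in
/-- elements of the root group of an additive map are values of the map. -/
theorem sp4d_h28_rg_exists (X : F → G) (hX : ∀ s t, X (s + t) = X s * X t) (g : G) (hg : g ∈ RG X) :
    ∃ t, g = X t := by
  have h0 : X 0 = 1 := by
    have := hX 0 0
    rw [add_zero] at this
    exact (mul_eq_left.mp this.symm)
  have hneg : ∀ t, X (-t) = (X t)⁻¹ := by
    intro t
    have := hX (-t) t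
    rw [neg_add_cancel, h0] at this
    exact eq_inv_of_mul_eq_one_left this.symm
  unfold RG at hg
  induction hg using Subgroup.closure_induction with
  | mem g hg => obtain ⟨t, rfl⟩ := hg; exact ⟨t, rfl⟩
  | one => exact ⟨0, h0.symm⟩
  | mul a b _ _ ha hb =>
    obtain ⟨s, rfl⟩ := ha
    obtain ⟨t, rfl⟩ := hb
    exact ⟨s + t, (hX s t).symm⟩
  | inv a _ ha =>
    obtain ⟨s, rfl⟩ := ha
    exact ⟨-s, (hneg s).symm⟩

omit [Field F] [Fintype F] in
theorem sp4d_h28_mem_rg (X : F → G) (t : F) : X t ∈ RG X := Subgroup.subset_closure ⟨t, rfl⟩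

omit [Fintype F] in
theorem sp4d_h28_rha_mem (φa φb : Matrix.SpecialLinearGroup (Fin 2) F →* G) (s : Fˣ) :
    rh φa s ∈ TT φa φb := Subgroup.subset_closure (Or.inl ⟨s, rfl⟩)

omit [Fintype F] in
theorem sp4d_h28_rhb_mem (φa φb : Matrix.SpecialLinearGroup (Fin 2) F →* G) (r : Fˣ) :
    rh φb r ∈ TT φa φb := Subgroup.subset_closure (Or.inr ⟨r, rfl⟩)

/-- spare for D6 (`rd_rank1`), exact Skel statement. -/
theorem sp4d6_h28_rd_rank1 (φa φb : Matrix.SpecialLinearGroup (Fin 2) F →* G) :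
    (∀ g ∈ RG (rx φa), g = 1 ∨ ∃ a ∈ RG (rx φa), ∃ τ ∈ TT φa φb, ∃ a' ∈ RG (rx φa),
        rn φa * g * (rn φa)⁻¹ = a * τ * rn φa * a') ∧
      ∀ g ∈ RG (rx φb), g = 1 ∨ ∃ b ∈ RG (rx φb), ∃ τ ∈ TT φa φb, ∃ b' ∈ RG (rx φb),
        rn φb * g * (rn φb)⁻¹ = b * τ * rn φb * b' := by
  constructor
  · intro g hg
    obtain ⟨t, rfl⟩ := sp4d_h28_rg_exists (rx φa) (r_basic φa).1 g hg
    rcases r_rank1 φa t with h | ⟨s, s', r, h⟩
    · exact Or.inl h
    · exact Or.inr ⟨rx φa s, sp4d_h28_mem_rg _ _, rh φa r, sp4d_h28_rha_mem φa φb r, rx φa s',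
        sp4d_h28_mem_rg _ _, h⟩
  · intro g hg
    obtain ⟨t, rfl⟩ := sp4d_h28_rg_exists (rx φb) (r_basic φb).1 g hg
    rcases r_rank1 φb t with h | ⟨s, s', r, h⟩
    · exact Or.inl h
    · exact Or.inr ⟨rx φb s, sp4d_h28_mem_rg _ _, rh φb r, sp4d_h28_rhb_mem φa φb r, rx φb s',
        sp4d_h28_mem_rg _ _, h⟩

/-- spare for D7 (`rd_braid_gen`), exact Skel statement. -/
theorem sp4d7_h28_rd_braid_gen (ζ : Fˣ) (hζ : ∀ y : Fˣ, y ∈ Subgroup.zpowers ζ)
    (φa φb : Matrix.SpecialLinearGroup (Fin 2) F →* G) (H : Hyp ζ φa φb)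
    (hgen : Subgroup.closure (Set.range φa ∪ Set.range φb) = ⊤) :
    (∃ τ ∈ TT φa φb, rn φb * rn φa * rn φb * rn φa = τ * (rn φa * rn φb * rn φa * rn φb)) ∧
      Subgroup.closure (((TT φa φb : Subgroup G) : Set G) ∪ (RG (rx φa) : Set G) ∪ (RG (rx φb) : Set G) ∪
        {rn φa, rn φb}) = ⊤ := by
  constructor
  · exact ⟨1, one_mem _, by rw [one_mul]; exact H.N6.symm⟩
  · set S := Subgroup.closure (((TT φa φb : Subgroup G) : Set G) ∪ (RG (rx φa) : Set G) ∪
      (RG (rx φb) : Set G) ∪ {rn φa, rn φb}) with hS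
    have hTT : ∀ g ∈ TT φa φb, g ∈ S := fun g hg =>
      Subgroup.subset_closure (Or.inl (Or.inl (Or.inl hg)))
    have hXa : ∀ g ∈ RG (rx φa), g ∈ S := fun g hg =>
      Subgroup.subset_closure (Or.inl (Or.inl (Or.inr hg)))
    have hXb : ∀ g ∈ RG (rx φb), g ∈ S := fun g hg =>
      Subgroup.subset_closure (Or.inl (Or.inr hg))
    have hwa : rn φa ∈ S := Subgroup.subset_closure (Or.inr (Or.inl rfl))
    have hwb : rn φb ∈ S := Subgroup.subset_closure (Or.inr (Or.inr rfl))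
    have hcl := closure_M (F := F) ζ hζ
    have hrange : ∀ (φ : Matrix.SpecialLinearGroup (Fin 2) F →* G), rx φ 1 ∈ S → rh φ ζ ∈ S →
        rn φ ∈ S → ∀ m, φ m ∈ S := by
      intro φ h1 h2 h3 m
      have hm : m ∈ Subgroup.closure {xM (1 : F), hM ζ, wM} := by rw [hcl]; trivial
      induction hm using Subgroup.closure_induction with
      | mem x hx =>
        rcases hx with rfl | rfl | rfl
        · exact h1
        · exact h2
        · exact h3
      | one => rw [map_one]; exact one_mem _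
      | mul x y _ _ hx hy => rw [map_mul]; exact mul_mem hx hy
      | inv x _ hx => rw [map_inv]; exact inv_mem hx
    have hA := hrange φa (hXa _ (sp4d_h28_mem_rg _ _)) (hTT _ (sp4d_h28_rha_mem φa φb ζ)) hwa
    have hB := hrange φb (hXb _ (sp4d_h28_mem_rg _ _)) (hTT _ (sp4d_h28_rhb_mem φa φb ζ)) hwb
    rw [eq_top_iff, ← hgen, Subgroup.closure_le]
    rintro g (⟨m, rfl⟩ | ⟨m, rfl⟩)
    · exact hA m
    · exact hB m

omit [Field F] [Fintype F] in
/-- conjugation maps a closure into a subgroup as soon as it does so on the generators. -/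
theorem sp4d_h28_conj_closure (S : Set G) (K : Subgroup G) (g : G)
    (h : ∀ s ∈ S, g * s * g⁻¹ ∈ K) : ∀ τ ∈ Subgroup.closure S, g * τ * g⁻¹ ∈ K := by
  intro τ hτ
  induction hτ using Subgroup.closure_induction with
  | mem x hx => exact h x hx
  | one => simp
  | mul x y _ _ hx hy =>
    have : g * (x * y) * g⁻¹ = (g * x * g⁻¹) * (g * y * g⁻¹) := by group
    rw [this]; exact mul_mem hx hy
  | inv x _ hx =>
    have : g * x⁻¹ * g⁻¹ = (g * x * g⁻¹)⁻¹ := by group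
    rw [this]; exact inv_mem hx

/-- spare for D4 (`rd_weylT`), exact Skel statement. -/
theorem sp4d4_h28_rd_weylT (φa φb : Matrix.SpecialLinearGroup (Fin 2) F →* G) (R : Tor4 φa φb) :
    (∀ τ ∈ TT φa φb, rn φa * τ * (rn φa)⁻¹ ∈ TT φa φb) ∧ (∀ τ ∈ TT φa φb, rn φb * τ * (rn φb)⁻¹ ∈ TT φa φb) ∧
      rn φa ^ 2 ∈ TT φa φb ∧ rn φb ^ 2 ∈ TT φa φb := by
  refine ⟨?_, ?_, ?_, ?_⟩
  · apply sp4d_h28_conj_closure
    rintro g (⟨s, rfl⟩ | ⟨r, rfl⟩)
    · rw [(r_basic φa).2.2.2.2.2.2.2.2.1 s]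
      exact inv_mem (sp4d_h28_rha_mem φa φb s)
    · rw [R.wa_hb r]
      exact mul_mem (sp4d_h28_rhb_mem φa φb r) (sp4d_h28_rha_mem φa φb r)
  · apply sp4d_h28_conj_closure
    rintro g (⟨s, rfl⟩ | ⟨r, rfl⟩)
    · rw [R.wb_ha s]
      exact mul_mem (sp4d_h28_rha_mem φa φb s) (sp4d_h28_rhb_mem φa φb (s ^ 2))
    · rw [(r_basic φb).2.2.2.2.2.2.2.2.1 r]
      exact inv_mem (sp4d_h28_rhb_mem φa φb r)
  · rw [(r_basic φa).2.2.2.2.2.2.2.2.2]
    exact sp4d_h28_rha_mem φa φb (-1)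
  · rw [(r_basic φb).2.2.2.2.2.2.2.2.2]
    exact sp4d_h28_rhb_mem φa φb (-1)

/-- spare for D8 (`TT_finite`), exact Skel statement. -/
theorem sp4d8_h28_TT_finite (φa φb : Matrix.SpecialLinearGroup (Fin 2) F →* G) (R : Tor4 φa φb) :
    Finite (TT φa φb) ∧ ∀ τ ∈ TT φa φb, ∃ s r : Fˣ, τ = rh φa s * rh φb r := by
  obtain ⟨-, -, -, hmulA, honeA, hinvA, -, -, -, -⟩ := r_basic φa
  obtain ⟨-, -, -, hmulB, honeB, hinvB, -, -, -, -⟩ := r_basic φb
  have hform : ∀ τ ∈ TT φa φb, ∃ s r : Fˣ, τ = rh φa s * rh φb r := by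
    intro τ hτ
    unfold TT at hτ
    induction hτ using Subgroup.closure_induction with
    | mem x hx =>
      rcases hx with ⟨s, rfl⟩ | ⟨r, rfl⟩
      · exact ⟨s, 1, by rw [honeB, mul_one]⟩
      · exact ⟨1, r, by rw [honeA, one_mul]⟩
    | one => exact ⟨1, 1, by rw [honeA, honeB, mul_one]⟩
    | mul x y _ _ hx hy =>
      obtain ⟨s, r, rfl⟩ := hx
      obtain ⟨s', r', rfl⟩ := hy
      refine ⟨s * s', r * r', ?_⟩
      rw [hmulA, hmulB]
      have hc : rh φb r * rh φa s' = rh φa s' * rh φb r := ((R.comm s' r).eq).symm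
      calc rh φa s * rh φb r * (rh φa s' * rh φb r')
          = rh φa s * (rh φb r * rh φa s') * rh φb r' := by group
        _ = rh φa s * rh φa s' * (rh φb r * rh φb r') := by rw [hc]; group
    | inv x _ hx =>
      obtain ⟨s, r, rfl⟩ := hx
      refine ⟨s⁻¹, r⁻¹, ?_⟩
      rw [hinvA, hinvB, mul_inv_rev]
      exact (((R.comm s r).inv_left).inv_right).eq.symm
  refine ⟨?_, hform⟩
  have hsub : ((TT φa φb : Subgroup G) : Set G) ⊆
      Set.range (fun p : Fˣ × Fˣ => rh φa p.1 * rh φb p.2) := by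
    intro τ hτ
    obtain ⟨s, r, rfl⟩ := hform τ hτ
    exact ⟨(s, r), rfl⟩
  exact (Set.Finite.subset (Set.finite_range _) hsub).to_subtype

end D

end Cfsg.Agent.Lib.helper3.SP4
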