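import Mathlib
import Cfsg.Agent.Lib.Helper19.SPD.Defs
import Cfsg.Agent.Lib.Helper28.SPDORTHINV

/-!
# SPD row PRIMND (helper28): a primary component of an invariant nondegenerate subspace is nondegenerate
-/

set_option autoImplicit false
set_option linter.unusedVariables false
set_option linter.unusedSectionVars false

namespace Cfsg.Agent.Lib.Helper19.SPD

open Polynomial

variable {F : Type*} [Field F] {d : ℕ}

/-- polynomials in `y` preserve an invariant subspace -/
theorem spdprimnd_inv_aeval (y : (Fin d ⊕ Fin d → F) →ₗ[F] (Fin d ⊕ Fin d → F))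
    (W : Submodule F (Fin d ⊕ Fin d → F)) (hW : Inv y W) (P : F[X]) :
    ∀ v ∈ W, aeval y P v ∈ W := by
  induction P using Polynomial.induction_on with
  | C a =>
    intro v hv
    rw [aeval_C]
    simpa [Algebra.algebraMap_eq_smul_one] using W.smul_mem a hv
  | add p q hp hq =>
    intro v hv
    rw [map_add, LinearMap.add_apply]
    exact W.add_mem (hp v hv) (hq v hv)
  | monomial n a ih =>
    intro v hv
    have h : C a * X ^ (n + 1) = (C a * X ^ n) * X := by rw [pow_succ, mul_assoc]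
    rw [h, map_mul, aeval_X, Module.End.mul_apply]
    exact ih _ (hW v hv)

/-- the adjoint of `y` is `y ^ (r - 1)` -/
theorem spdprimnd_adj_one (r : ℕ) (hr : 0 < r) (y : (Fin d ⊕ Fin d → F) →ₗ[F] (Fin d ⊕ Fin d → F))
    (hiso : Isom y) (hy : y ^ r = 1) (u w : Fin d ⊕ Fin d → F) :
    Cfsg.sympForm d F u (y w) = Cfsg.sympForm d F ((y ^ (r - 1)) u) w := by
  rw [← hiso ((y ^ (r - 1)) u) w, spdorthinv_cancel r hr y hy u]

/-- the adjoint of `P (y)` is `P (y ^ (r - 1))` -/
theorem spdprimnd_adj (r : ℕ) (hr : 0 < r) (y : (Fin d ⊕ Fin d → F) →ₗ[F] (Fin d ⊕ Fin d → F))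
    (hiso : Isom y) (hy : y ^ r = 1) (P : F[X]) :
    ∀ u w : Fin d ⊕ Fin d → F,
      Cfsg.sympForm d F u (aeval y P w) = Cfsg.sympForm d F (aeval (y ^ (r - 1)) P u) w := by
  induction P using Polynomial.induction_on with
  | C a =>
    intro u w
    rw [aeval_C, aeval_C]
    simp only [Algebra.algebraMap_eq_smul_one, LinearMap.smul_apply, Module.End.one_apply]
    rw [← Cfsg.Agent.Lib.helper6.SB.sB_apply, ← Cfsg.Agent.Lib.helper6.SB.sB_apply, map_smul,
      map_smul, LinearMap.smul_apply]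
  | add p q hp hq =>
    intro u w
    rw [map_add, map_add, LinearMap.add_apply, LinearMap.add_apply]
    rw [← Cfsg.Agent.Lib.helper6.SB.sB_apply, ← Cfsg.Agent.Lib.helper6.SB.sB_apply, map_add,
      map_add, LinearMap.add_apply, Cfsg.Agent.Lib.helper6.SB.sB_apply,
      Cfsg.Agent.Lib.helper6.SB.sB_apply, Cfsg.Agent.Lib.helper6.SB.sB_apply,
      Cfsg.Agent.Lib.helper6.SB.sB_apply, hp u w, hq u w]
  | monomial n a ih =>
    intro u w
    have h1 : C a * X ^ (n + 1) = (C a * X ^ n) * X := by rw [pow_succ, mul_assoc]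
    have h2 : C a * X ^ (n + 1) = X * (C a * X ^ n) := by rw [pow_succ]; ring
    have e1 : aeval y (C a * X ^ (n + 1)) w = aeval y (C a * X ^ n) (y w) := by
      rw [h1, map_mul, aeval_X, Module.End.mul_apply]
    have e2 : aeval (y ^ (r - 1)) (C a * X ^ (n + 1)) u =
        (y ^ (r - 1)) (aeval (y ^ (r - 1)) (C a * X ^ n) u) := by
      rw [h2, map_mul, aeval_X, Module.End.mul_apply]
    rw [e1, e2, ih u (y w), spdprimnd_adj_one r hr y hiso hy]

/-- PRIMND -/
theorem prim_nd (r : ℕ) (hr : 0 < r) (y : (Fin d ⊕ Fin d → F) →ₗ[F] (Fin d ⊕ Fin d → F))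
    (hiso : Isom y) (hy : y ^ r = 1)
    (hsd : ∀ (g : F[X]) (v : Fin d ⊕ Fin d → F), aeval y g v = 0 → aeval (y ^ (r - 1)) g v = 0)
    (W : Submodule F (Fin d ⊕ Fin d → F)) (hW : Inv y W) (hnd : ND W)
    (g h : F[X]) (hgh : IsCoprime g h) (hkill : ∀ v ∈ W, aeval y (g * h) v = 0) :
    ND (W ⊓ LinearMap.ker (aeval y g)) := by
  intro u hu hrad
  have huW : u ∈ W := hu.1
  have hug : aeval y g u = 0 := LinearMap.mem_ker.mp hu.2
  apply hnd u huW
  intro w hw
  obtain ⟨a, b, hab⟩ := hgh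
  have hw_eq : w = aeval y (a * g) w + aeval y (b * h) w := by
    rw [← LinearMap.add_apply, ← map_add, hab, map_one, Module.End.one_apply]
  -- first summand
  have t1 : Cfsg.sympForm d F u (aeval y (a * g) w) = 0 := by
    rw [spdprimnd_adj r hr y hiso hy (a * g) u w, map_mul, Module.End.mul_apply, hsd g u hug,
      map_zero]
    rw [← Cfsg.Agent.Lib.helper6.SB.sB_apply, map_zero, LinearMap.zero_apply]
  -- second summand
  have t2 : Cfsg.sympForm d F u (aeval y (b * h) w) = 0 := by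
    apply hrad
    refine ⟨spdprimnd_inv_aeval y W hW (b * h) w hw, ?_⟩
    show aeval y (b * h) w ∈ LinearMap.ker (aeval y g)
    rw [LinearMap.mem_ker, ← Module.End.mul_apply, ← map_mul]
    have : g * (b * h) = b * (g * h) := by ring
    rw [this, map_mul, Module.End.mul_apply, hkill w hw, map_zero]
  rw [hw_eq, ← Cfsg.Agent.Lib.helper6.SB.sB_apply, map_add, Cfsg.Agent.Lib.helper6.SB.sB_apply,
    Cfsg.Agent.Lib.helper6.SB.sB_apply, t1, t2, add_zero]

end Cfsg.Agent.Lib.Helper19.SPD
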