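import Mathlib
import Cfsg.Agent.Lib.helper15.SQM.Defs

set_option autoImplicit false
set_option linter.unusedVariables false
set_option linter.unusedSectionVars false

/-!
# Shared block SQM, row C4 (helper28): `sqm_fix3` verbatim.
-/

namespace Cfsg.Agent.Lib.helper15.SQM

open Matrix Module

variable {ι : Type} [Fintype ι] [DecidableEq ι] {F : Type*} [Field F]

/-- a family paired with a dual family (non-zero diagonal) is linearly independent -/
theorem sqmc4_indep {κ : Type*} [Fintype κ] [DecidableEq κ] (Q : QuadraticForm F (ι → F))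
    (w t : κ → (ι → F)) (c : κ → F) (hc : ∀ j, c j ≠ 0)
    (hp : ∀ i j, QuadraticMap.polar (⇑Q) (w i) (t j) = if i = j then c j else 0) :
    LinearIndependent F w := by
  rw [Fintype.linearIndependent_iff]
  intro g hg j
  have h1 : QuadraticMap.polarBilin Q (∑ i, g i • w i) (t j) = g j * c j := by
    rw [map_sum, LinearMap.sum_apply]
    rw [Finset.sum_eq_single j]
    · rw [map_smul, LinearMap.smul_apply, QuadraticMap.polarBilin_apply_apply, hp, if_pos rfl,
        smul_eq_mul]
    · intro b _ hb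
      rw [map_smul, LinearMap.smul_apply, QuadraticMap.polarBilin_apply_apply, hp, if_neg hb,
        smul_zero]
    · intro h
      exact absurd (Finset.mem_univ j) h
  rw [hg, map_zero, LinearMap.zero_apply] at h1
  rcases mul_eq_zero.1 h1.symm with h | h
  · exact h
  · exact absurd h (hc j)

/-- a span of pairwise orthogonal singular vectors is totally singular -/
theorem sqmc4_span_ts {κ : Type*} (Q : QuadraticForm F (ι → F)) (w : κ → (ι → F))
    (hq : ∀ i, Q (w i) = 0) (hp : ∀ i j, QuadraticMap.polar (⇑Q) (w i) (w j) = 0) :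
    ∀ a ∈ Submodule.span F (Set.range w), Q a = 0 := by
  have h1 : ∀ a ∈ Submodule.span F (Set.range w), ∀ j, QuadraticMap.polarBilin Q a (w j) = 0 := by
    intro a ha j
    induction ha using Submodule.span_induction with
    | mem y hy =>
      obtain ⟨i, rfl⟩ := hy
      rw [QuadraticMap.polarBilin_apply_apply]
      exact hp i j
    | zero => simp
    | add y z _ _ hy hz => rw [map_add, LinearMap.add_apply, hy, hz, add_zero]
    | smul r y _ hy => rw [map_smul, LinearMap.smul_apply, hy, smul_zero]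
  have h2 : ∀ a ∈ Submodule.span F (Set.range w), ∀ b ∈ Submodule.span F (Set.range w),
      QuadraticMap.polarBilin Q a b = 0 := by
    intro a ha b hb
    induction hb using Submodule.span_induction with
    | mem y hy =>
      obtain ⟨i, rfl⟩ := hy
      exact h1 a ha i
    | zero => simp
    | add y z _ _ hy hz => rw [map_add, hy, hz, add_zero]
    | smul r y _ hy => rw [map_smul, hy, smul_zero]
  intro a ha
  induction ha using Submodule.span_induction with
  | mem y hy =>
    obtain ⟨i, rfl⟩ := hy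
    exact hq i
  | zero => simp
  | add y z hy' hz' hy hz =>
    have h3 := h2 y hy' z hz'
    rw [QuadraticMap.polarBilin_apply_apply, QuadraticMap.polar] at h3
    have : Q (y + z) = (Q (y + z) - Q y - Q z) + Q y + Q z := by ring
    rw [this, h3, hy, hz]
    simp
  | smul r y _ hy => rw [QuadraticMap.map_smul, hy, smul_zero]

/-- sums of two squares in a finite field of odd characteristic -/
theorem sqmc4_two_sq [Fintype F] (h2 : (2 : F) ≠ 0) (c : F) : ∃ a b : F, a ^ 2 + b ^ 2 = c := by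
  have hchar : ringChar F ≠ 2 := by
    intro h
    have h3 : ((ringChar F : ℕ) : F) = 0 := ringChar.Nat.cast_ringChar
    rw [h] at h3
    exact h2 (by exact_mod_cast h3)
  have hodd := FiniteField.odd_card_of_char_ne_two hchar
  obtain ⟨a, b, hab⟩ := FiniteField.exists_root_sum_quadratic
    (f := (Polynomial.X ^ 2 : Polynomial F)) (g := Polynomial.X ^ 2 - Polynomial.C c)
    (Polynomial.degree_X_pow 2) (Polynomial.degree_X_pow_sub_C (by decide) _) hodd
  refine ⟨a, b, ?_⟩
  simp only [Polynomial.eval_pow, Polynomial.eval_X, Polynomial.eval_sub, Polynomial.eval_C] at hab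
  linear_combination hab

theorem sqmc4_xx (X : Matrix ι ι F) (hX2 : X * X = -1) (u : ι → F) : X *ᵥ (X *ᵥ u) = -u := by
  rw [Matrix.mulVec_mulVec, hX2, Matrix.neg_mulVec, Matrix.one_mulVec]

theorem sqmc4_polar_xx (Q : QuadraticForm F (ι → F)) (X : Matrix ι ι F)
    (hQ : ∀ u, Q (X *ᵥ u) = Q u) (u v : ι → F) :
    QuadraticMap.polar (⇑Q) (X *ᵥ u) (X *ᵥ v) = QuadraticMap.polar (⇑Q) u v := by
  unfold QuadraticMap.polar
  rw [← Matrix.mulVec_add, hQ, hQ, hQ]

theorem sqmc4_polar_x_left (Q : QuadraticForm F (ι → F)) (X : Matrix ι ι F)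
    (hQ : ∀ u, Q (X *ᵥ u) = Q u) (hX2 : X * X = -1) (u v : ι → F) :
    QuadraticMap.polar (⇑Q) (X *ᵥ u) v = - QuadraticMap.polar (⇑Q) u (X *ᵥ v) := by
  have h := sqmc4_polar_xx Q X hQ (X *ᵥ u) v
  rw [sqmc4_xx X hX2] at h
  rw [← h, QuadraticMap.polar_neg_left]

theorem sqmc4_polar_self_x (h2 : (2 : F) ≠ 0) (Q : QuadraticForm F (ι → F)) (X : Matrix ι ι F)
    (hQ : ∀ u, Q (X *ᵥ u) = Q u) (hX2 : X * X = -1) (v : ι → F) :
    QuadraticMap.polar (⇑Q) v (X *ᵥ v) = 0 := by
  have h1 := sqmc4_polar_x_left Q X hQ hX2 v v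
  rw [QuadraticMap.polar_comm] at h1
  have h3 : (2 : F) * QuadraticMap.polar (⇑Q) v (X *ᵥ v) = 0 := by linear_combination h1
  rcases mul_eq_zero.1 h3 with h | h
  · exact absurd h h2
  · exact h

/-- the vector `α v + β X v` of the plane `⟨v, X v⟩` -/
def sqmc4_pl (X : Matrix ι ι F) (v : ι → F) (α β : F) : ι → F := α • v + β • X *ᵥ v

theorem sqmc4_pl_x (X : Matrix ι ι F) (hX2 : X * X = -1) (v : ι → F) (α β : F) :
    X *ᵥ sqmc4_pl X v α β = sqmc4_pl X v (-β) α := by
  unfold sqmc4_pl
  rw [Matrix.mulVec_add, Matrix.mulVec_smul, Matrix.mulVec_smul, sqmc4_xx X hX2, smul_neg, neg_smul,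
    add_comm]

theorem sqmc4_pl_orth (Q : QuadraticForm F (ι → F)) (X : Matrix ι ι F)
    (hQ : ∀ u, Q (X *ᵥ u) = Q u) (v v' : ι → F) (α β γ δ : F)
    (h1 : QuadraticMap.polar (⇑Q) v v' = 0) (h2' : QuadraticMap.polar (⇑Q) v (X *ᵥ v') = 0)
    (h3 : QuadraticMap.polar (⇑Q) v' (X *ᵥ v) = 0) :
    QuadraticMap.polar (⇑Q) (sqmc4_pl X v α β) (sqmc4_pl X v' γ δ) = 0 := by
  unfold sqmc4_pl
  rw [QuadraticMap.polar_add_left, QuadraticMap.polar_add_right, QuadraticMap.polar_add_right]
  simp only [QuadraticMap.polar_smul_left, QuadraticMap.polar_smul_right, smul_eq_mul]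
  rw [h1, h2', sqmc4_polar_xx Q X hQ, h1, QuadraticMap.polar_comm (⇑Q) (X *ᵥ v) v', h3]
  ring

theorem sqmc4_pl_same (h2 : (2 : F) ≠ 0) (Q : QuadraticForm F (ι → F)) (X : Matrix ι ι F)
    (hQ : ∀ u, Q (X *ᵥ u) = Q u) (hX2 : X * X = -1) (v : ι → F) (α β γ δ : F) :
    QuadraticMap.polar (⇑Q) (sqmc4_pl X v α β) (sqmc4_pl X v γ δ) = (α * γ + β * δ) * (2 * Q v) := by
  unfold sqmc4_pl
  rw [QuadraticMap.polar_add_left, QuadraticMap.polar_add_right, QuadraticMap.polar_add_right]
  simp only [QuadraticMap.polar_smul_left, QuadraticMap.polar_smul_right, smul_eq_mul]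
  rw [sqmc4_polar_xx Q X hQ, QuadraticMap.polar_comm (⇑Q) (X *ᵥ v) v,
    sqmc4_polar_self_x h2 Q X hQ hX2, QuadraticMap.polar_self, two_nsmul]
  ring

theorem sqmc4_pl_Q (h2 : (2 : F) ≠ 0) (Q : QuadraticForm F (ι → F)) (X : Matrix ι ι F)
    (hQ : ∀ u, Q (X *ᵥ u) = Q u) (hX2 : X * X = -1) (v : ι → F) (α β : F) :
    Q (sqmc4_pl X v α β) = (α ^ 2 + β ^ 2) * Q v := by
  have h := sqmc4_pl_same h2 Q X hQ hX2 v α β α β
  rw [QuadraticMap.polar_self, two_nsmul] at h
  have h3 : (2 : F) * (Q (sqmc4_pl X v α β) - (α ^ 2 + β ^ 2) * Q v) = 0 := by linear_combination h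
  rcases mul_eq_zero.1 h3 with h' | h'
  · exact absurd h' h2
  · exact sub_eq_zero.1 h'

/-- C4 [M]: in case 3 (finite field) every even `2k ≤ d`... i.e. `2 * k ≤ d` gives an invariant totally singular subspace of dimension `2k`.
(every element of a finite field is a sum of two squares: `a² + b² = - Q (v (2j+1)) / Q (v (2j))`; `u_j = a • v (2j) + b • x (v (2j)) + v (2j+1)` is singular, `⟨u_j, x u_j⟩` invariant totally singular
(`B(u, xu) = 0`, `Q(xu) = Q(u)`), the `u_j, x u_j` (`j < k`) mutually orthogonal and independent.) -/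
theorem sqm_fix3 [Fintype F] (h2 : (2 : F) ≠ 0) (Q : QuadraticForm F (ι → F))
    (x : Matrix.GeneralLinearGroup ι F) (hx : x ∈ Cfsg.isometryGroup F ⇑Q)
    (hx2 : (x : Matrix ι ι F) * (x : Matrix ι ι F) = -1)
    (d : ℕ) (v : Fin d → (ι → F)) (hfr : Frame3 Q (x : Matrix ι ι F) d v) (k : ℕ) (hk : 2 * k ≤ d) :
    ∃ W : Submodule F (ι → F), finrank F ↥W = 2 * k ∧ (∀ w ∈ W, Q w = 0) ∧
      W.map (Matrix.toLin' (x : Matrix ι ι F)) ≤ W := by
  classical
  have hQ : ∀ u, Q ((x : Matrix ι ι F) *ᵥ u) = Q u := fun u => hx u u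
  generalize (x : Matrix ι ι F) = X at hx2 hfr hQ ⊢
  -- indices
  let i0 : Fin k → Fin d := fun j => ⟨2 * j.1, by have := j.2; omega⟩
  let i1 : Fin k → Fin d := fun j => ⟨2 * j.1 + 1, by have := j.2; omega⟩
  have h01 : ∀ j j', i0 j ≠ i1 j' := by
    intro j j' h
    have h' := congrArg Fin.val h
    simp only [i0, i1] at h'
    omega
  have h00 : ∀ j j', i0 j = i0 j' → j = j' := by
    intro j j' h
    have h' := congrArg Fin.val h
    simp only [i0] at h'
    exact Fin.ext (by omega)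
  have h11 : ∀ j j', i1 j = i1 j' → j = j' := by
    intro j j' h
    have h' := congrArg Fin.val h
    simp only [i1] at h'
    exact Fin.ext (by omega)
  -- the coefficients
  have hab : ∀ j : Fin k, ∃ a b : F, a ^ 2 + b ^ 2 = - Q (v (i1 j)) / Q (v (i0 j)) :=
    fun j => sqmc4_two_sq h2 _
  choose a b hab using hab
  have hab' : ∀ j, (a j ^ 2 + b j ^ 2) * Q (v (i0 j)) + Q (v (i1 j)) = 0 := by
    intro j
    rw [hab j]
    have h0 := hfr.qv (i0 j)
    field_simp
    ring
  -- the general vector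
  let U : Fin k → F → F → F → F → (ι → F) := fun j α β γ δ =>
    sqmc4_pl X (v (i0 j)) α β + sqmc4_pl X (v (i1 j)) γ δ
  have horth : ∀ i i' : Fin d, i ≠ i' → ∀ α β γ δ : F,
      QuadraticMap.polar (⇑Q) (sqmc4_pl X (v i) α β) (sqmc4_pl X (v i') γ δ) = 0 := by
    intro i i' hii α β γ δ
    exact sqmc4_pl_orth Q X hQ _ _ _ _ _ _ (hfr.vv i i' hii) (hfr.vx i i' hii)
      (hfr.vx i' i (Ne.symm hii))
  have hsame : ∀ (i : Fin d) (α β γ δ : F),
      QuadraticMap.polar (⇑Q) (sqmc4_pl X (v i) α β) (sqmc4_pl X (v i) γ δ)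
        = (α * γ + β * δ) * (2 * Q (v i)) :=
    fun i α β γ δ => sqmc4_pl_same h2 Q X hQ hx2 _ _ _ _ _
  have hUU : ∀ (j j' : Fin k) (α β γ δ α' β' γ' δ' : F),
      QuadraticMap.polar (⇑Q) (U j α β γ δ) (U j' α' β' γ' δ') =
        if j = j' then (α * α' + β * β') * (2 * Q (v (i0 j))) + (γ * γ' + δ * δ') * (2 * Q (v (i1 j)))
        else 0 := by
    intro j j' α β γ δ α' β' γ' δ'
    simp only [U]
    rw [QuadraticMap.polar_add_left, QuadraticMap.polar_add_right, QuadraticMap.polar_add_right]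
    by_cases hjj : j = j'
    · subst hjj
      rw [if_pos rfl, hsame, hsame, horth _ _ (h01 j j), horth _ _ (h01 j j).symm]
      ring
    · rw [if_neg hjj, horth _ _ (fun h => hjj (h00 _ _ h)), horth _ _ (h01 j j'),
        horth _ _ (h01 j' j).symm, horth _ _ (fun h => hjj (h11 _ _ h))]
      ring
  have hUQ : ∀ (j : Fin k) (α β γ δ : F),
      Q (U j α β γ δ) = (α ^ 2 + β ^ 2) * Q (v (i0 j)) + (γ ^ 2 + δ ^ 2) * Q (v (i1 j)) := by
    intro j α β γ δ
    simp only [U]
    have h3 : ∀ p p' : ι → F, Q (p + p') = Q p + Q p' + QuadraticMap.polar (⇑Q) p p' := by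
      intro p p'
      unfold QuadraticMap.polar
      ring
    rw [h3, sqmc4_pl_Q h2 Q X hQ hx2, sqmc4_pl_Q h2 Q X hQ hx2, horth _ _ (h01 j j)]
    ring
  have hUx : ∀ (j : Fin k) (α β γ δ : F), X *ᵥ U j α β γ δ = U j (-β) α (-δ) γ := by
    intro j α β γ δ
    simp only [U]
    rw [Matrix.mulVec_add, sqmc4_pl_x X hx2, sqmc4_pl_x X hx2]
  -- the family
  let w : Fin k ⊕ Fin k → (ι → F) :=
    Sum.elim (fun j => U j (a j) (b j) 1 0) (fun j => U j (-(b j)) (a j) 0 1)
  let t : Fin k ⊕ Fin k → (ι → F) := Sum.elim (fun j => U j 0 0 1 0) (fun j => U j 0 0 0 1)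
  have hqw : ∀ i, Q (w i) = 0 := by
    rintro (j | j)
    · simp only [w, Sum.elim_inl]
      rw [hUQ]
      linear_combination hab' j
    · simp only [w, Sum.elim_inr]
      rw [hUQ]
      linear_combination hab' j
  have hpw : ∀ i i', QuadraticMap.polar (⇑Q) (w i) (w i') = 0 := by
    rintro (j | j) (j' | j')
    · simp only [w, Sum.elim_inl]
      rw [hUU]
      split_ifs with hjj
      · subst hjj
        linear_combination 2 * hab' j
      · rfl
    · simp only [w, Sum.elim_inl, Sum.elim_inr]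
      rw [hUU]
      split_ifs with hjj
      · subst hjj
        ring
      · rfl
    · simp only [w, Sum.elim_inl, Sum.elim_inr]
      rw [hUU]
      split_ifs with hjj
      · subst hjj
        ring
      · rfl
    · simp only [w, Sum.elim_inr]
      rw [hUU]
      split_ifs with hjj
      · subst hjj
        linear_combination 2 * hab' j
      · rfl
  have hli : LinearIndependent F w := by
    apply sqmc4_indep Q w t (Sum.elim (fun j => 2 * Q (v (i1 j))) (fun j => 2 * Q (v (i1 j))))
    · rintro (j | j)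
      · exact mul_ne_zero h2 (hfr.qv _)
      · exact mul_ne_zero h2 (hfr.qv _)
    · rintro (j | j) (j' | j')
      · simp only [w, t, Sum.elim_inl]
        rw [hUU]
        by_cases hjj : j = j'
        · subst hjj
          rw [if_pos rfl, if_pos rfl]
          ring
        · rw [if_neg hjj, if_neg (fun h => hjj (Sum.inl.inj h))]
      · simp only [w, t, Sum.elim_inl, Sum.elim_inr]
        rw [hUU]
        have hne : (Sum.inl j : Fin k ⊕ Fin k) ≠ Sum.inr j' := by simp
        rw [if_neg hne]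
        split_ifs with hjj
        · ring
        · rfl
      · simp only [w, t, Sum.elim_inl, Sum.elim_inr]
        rw [hUU]
        have hne : (Sum.inr j : Fin k ⊕ Fin k) ≠ Sum.inl j' := by simp
        rw [if_neg hne]
        split_ifs with hjj
        · ring
        · rfl
      · simp only [w, t, Sum.elim_inr]
        rw [hUU]
        by_cases hjj : j = j'
        · subst hjj
          rw [if_pos rfl, if_pos rfl]
          ring
        · rw [if_neg hjj, if_neg (fun h => hjj (Sum.inr.inj h))]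
  have hxw : ∀ j, X *ᵥ w (Sum.inl j) = w (Sum.inr j) := by
    intro j
    simp only [w, Sum.elim_inl, Sum.elim_inr]
    rw [hUx, neg_zero]
  refine ⟨Submodule.span F (Set.range w), ?_, sqmc4_span_ts Q w hqw hpw, ?_⟩
  · rw [finrank_span_eq_card hli]
    simp [two_mul]
  · rw [Submodule.map_span_le]
    rintro _ ⟨i, rfl⟩
    rw [Matrix.toLin'_apply]
    rcases i with j | j
    · rw [hxw j]
      exact Submodule.subset_span ⟨_, rfl⟩
    · rw [← hxw j, sqmc4_xx X hx2]
      exact Submodule.neg_mem _ (Submodule.subset_span ⟨_, rfl⟩)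

end Cfsg.Agent.Lib.helper15.SQM
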