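import Mathlib
import Cfsg.Agent.Lib.helper15.SQM.Defs
import Cfsg.Agent.Lib.helper15.SQMA
import Cfsg.Agent.Lib.Helper16.SpSemi1
import Cfsg.Agent.Lib.Helper28.SQMC4

set_option autoImplicit false
set_option linter.unusedVariables false
set_option linter.unusedSectionVars false

/-!
# Shared block SQM, row E3 (helper28): `sqm_ts_even` verbatim.
-/

namespace Cfsg.Agent.Lib.helper15.SQM

open Matrix Module

variable {ι : Type} [Fintype ι] [DecidableEq ι] {F : Type*} [Field F]

/-- E3 [M-L]: in case 3 a totally singular subspace of half the dimension has EVEN dimension (so: plus type forces `d` even; with C4: type `(-1)^d`).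
(`T` t.s., `2 dim T = card ι`: `T^⊥ = T`.  `β(u,w) = B(u, x w)` is alternating on `T` with radical `T ⊓ (xT)^⊥ = T ⊓ x T^⊥ = T ⊓ xT`, which is `x`-invariant, so of even dimension (C3);
a non-degenerate alternating form lives in even dimension (`T / rad`): `dim T - dim rad` even.) -/
theorem sqm_ts_even (h2 : (2 : F) ≠ 0) (Q : QuadraticForm F (ι → F))
    (hnd : (QuadraticMap.polarBilin Q).Nondegenerate) (x : Matrix.GeneralLinearGroup ι F)
    (hx : x ∈ Cfsg.isometryGroup F ⇑Q) (hx2 : (x : Matrix ι ι F) * (x : Matrix ι ι F) = -1)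
    (hns : ¬ IsSquare (-1 : F)) (T : Submodule F (ι → F)) (hT : ∀ w ∈ T, Q w = 0)
    (hdim : 2 * finrank F ↥T = Fintype.card ι) : Even (finrank F ↥T) := by
  classical
  have hQ : ∀ u, Q ((x : Matrix ι ι F) *ᵥ u) = Q u := fun u => hx u u
  generalize (x : Matrix ι ι F) = X at hx2 hQ
  set B : LinearMap.BilinForm F (ι → F) := QuadraticMap.polarBilin Q with hB
  have hBap : ∀ u w, B u w = QuadraticMap.polar (⇑Q) u w := fun u w => rfl
  have hTT : ∀ u ∈ T, ∀ w ∈ T, B u w = 0 := by
    intro u hu w hw
    rw [hBap]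
    unfold QuadraticMap.polar
    rw [hT _ (T.add_mem hu hw), hT u hu, hT w hw]
    ring
  -- `T = T^⊥`
  have hperp : LinearMap.BilinForm.orthogonal B T = T := by
    symm
    apply Submodule.eq_of_le_of_finrank_eq
    · intro u hu
      rw [LinearMap.BilinForm.mem_orthogonal_iff]
      intro w hw
      exact hTT w hw u hu
    · rw [LinearMap.BilinForm.finrank_orthogonal hnd, Module.finrank_fintype_fun_eq_card, ← hdim]
      omega
  have hmemT : ∀ u, (∀ w ∈ T, B w u = 0) → u ∈ T := by
    intro u hu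
    rw [← hperp]
    exact (LinearMap.BilinForm.mem_orthogonal_iff).2 hu
  -- the alternating form on `T`
  let β : LinearMap.BilinForm F T :=
    LinearMap.BilinForm.restrict (LinearMap.BilinForm.compRight B (Matrix.toLin' X)) T
  have hβ : ∀ u w : T, β u w = B (u : ι → F) (X *ᵥ (w : ι → F)) := fun u w => rfl
  have hβalt : β.IsAlt := by
    intro u
    rw [hβ, hBap]
    exact sqmc4_polar_self_x h2 Q X hQ hx2 u
  -- its kernel
  let K : Submodule F T := LinearMap.ker β
  have hKmem : ∀ u : T, u ∈ K ↔ ∀ w : T, B (u : ι → F) (X *ᵥ (w : ι → F)) = 0 := by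
    intro u
    constructor
    · intro hu w
      have := LinearMap.congr_fun (LinearMap.mem_ker.1 hu) w
      rw [hβ] at this
      exact this
    · intro hu
      rw [LinearMap.mem_ker]
      ext w
      rw [hβ]
      exact hu w
  have hKinv : (K.map T.subtype).map (Matrix.toLin' X) ≤ K.map T.subtype := by
    rintro _ ⟨_, ⟨u, hu, rfl⟩, rfl⟩
    have hu' := (hKmem u).1 hu
    have hXuT : X *ᵥ (u : ι → F) ∈ T := by
      apply hmemT
      intro w hw
      rw [hBap, QuadraticMap.polar_comm, sqmc4_polar_x_left Q X hQ hx2, ← hBap, hu' ⟨w, hw⟩, neg_zero]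
    refine ⟨⟨X *ᵥ (u : ι → F), hXuT⟩, ?_, ?_⟩
    · rw [SetLike.mem_coe, hKmem]
      intro w
      rw [hBap]
      change QuadraticMap.polar (⇑Q) (X *ᵥ (u : ι → F)) (X *ᵥ (w : ι → F)) = 0
      rw [sqmc4_polar_xx Q X hQ, ← hBap]
      exact hTT u u.2 w w.2
    · simp [Matrix.toLin'_apply]
  have hKeven : Even (finrank F K) := by
    have := sqm_inv_even X hx2 hns (K.map T.subtype) hKinv
    rwa [Submodule.finrank_map_subtype_eq] at this
  -- a complement of the kernel
  obtain ⟨C, hC⟩ := Submodule.exists_isCompl K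
  have hdimKC : finrank F K + finrank F C = finrank F T := Submodule.finrank_add_eq_of_isCompl hC
  have hCalt : (LinearMap.BilinForm.restrict β C).IsAlt := fun c => hβalt (c : T)
  have hsep : ∀ c : C, (∀ c' : C, β (c : T) (c' : T) = 0) → c = 0 := by
    intro c hc
    have hcK : (c : T) ∈ K := by
      rw [LinearMap.mem_ker]
      ext t
      have ht : t ∈ K ⊔ C := by
        rw [hC.sup_eq_top]
        exact Submodule.mem_top
      obtain ⟨k, hk, c', hc', rfl⟩ := Submodule.mem_sup.1 ht
      rw [map_add]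
      have h1 : β (c : T) k = 0 := by
        have h3 : β k (c : T) = 0 := by
          rw [LinearMap.mem_ker.1 hk]
          rfl
        rw [← LinearMap.IsAlt.neg hβalt, h3, neg_zero]
      have h4 : β (c : T) c' = 0 := hc ⟨c', hc'⟩
      rw [h1, h4, add_zero]
      rfl
    have : (c : T) ∈ K ⊓ C := ⟨hcK, c.2⟩
    rw [hC.inf_eq_bot] at this
    exact Subtype.ext ((Submodule.mem_bot F).1 this)
  have hCnd : (LinearMap.BilinForm.restrict β C).Nondegenerate := by
    refine ⟨fun c hc => hsep c hc, fun c hc => hsep c (fun c' => ?_)⟩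
    have := hc c'
    change β (c' : T) (c : T) = 0 at this
    rw [← LinearMap.IsAlt.neg hβalt, this, neg_zero]
  obtain ⟨m, hm⟩ := Cfsg.Agent.Lib.Helper16.SpSemi.alt_even (finrank F C) (V := C) rfl
    (LinearMap.BilinForm.restrict β C) hCalt hCnd
  rw [← hdimKC, hm]
  exact hKeven.add (even_two_mul m)

end Cfsg.Agent.Lib.helper15.SQM
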