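import Cfsg.Agent.S5631
import Cfsg.Agent.Lib.Helper28.SubF

set_option autoImplicit false

namespace Cfsg.Agent.Lib.Helper28.Sf

open Matrix

variable {n : ℕ} {F : Type*} [Field F]

/-- `g` acts as the transvection `x ↦ x + (r ⬝ᵥ x) • v`. -/
def IsTv (v r : Fin n → F) (g : Matrix.GeneralLinearGroup (Fin n) F) : Prop :=
  ∀ x, (g : Matrix (Fin n) (Fin n) F) *ᵥ x = x + (r ⬝ᵥ x) • v

/-- the subgroup `H` contains the transvection with centre `v` and functional `r`. -/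
def InP (H : Subgroup (Matrix.GeneralLinearGroup (Fin n) F)) (v r : Fin n → F) : Prop :=
  ∃ g ∈ H, IsTv v r g

theorem IsTv.unique {v r : Fin n → F} {g g' : Matrix.GeneralLinearGroup (Fin n) F}
    (h : IsTv v r g) (h' : IsTv v r g') : g = g' :=
  Cfsg.Agent.S5631.gl_ext _ _ (fun x => by rw [h x, h' x])

theorem IsTv.congr {v r v' r' : Fin n → F} {g : Matrix.GeneralLinearGroup (Fin n) F}
    (h : IsTv v r g) (hv : v = v') (hr : r = r') : IsTv v' r' g := by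
  subst hv; subst hr; exact h

theorem isTv_one_left (r : Fin n → F) : IsTv (0 : Fin n → F) r 1 := by
  intro x
  simp

theorem isTv_one_right (v : Fin n → F) : IsTv v (0 : Fin n → F) 1 := by
  intro x
  simp

theorem IsTv.mul_center {v r s : Fin n → F} {g g' : Matrix.GeneralLinearGroup (Fin n) F}
    (h : IsTv v r g) (h' : IsTv v s g') (hrv : r ⬝ᵥ v = 0) : IsTv v (r + s) (g * g') := by
  intro x
  rw [Cfsg.Agent.S5643.mul_mv, h' x, h _, dotProduct_add, dotProduct_smul, hrv, add_dotProduct]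
  simp only [smul_eq_mul, mul_zero, add_zero]
  rw [add_smul]
  abel

theorem IsTv.mul_axis {v w r : Fin n → F} {g g' : Matrix.GeneralLinearGroup (Fin n) F}
    (h : IsTv v r g) (h' : IsTv w r g') (hrw : r ⬝ᵥ w = 0) : IsTv (v + w) r (g * g') := by
  intro x
  rw [Cfsg.Agent.S5643.mul_mv, h' x, h _, dotProduct_add, dotProduct_smul, hrw]
  simp only [smul_eq_mul, mul_zero, add_zero]
  rw [smul_add]
  abel

theorem IsTv.inv {v r : Fin n → F} {g : Matrix.GeneralLinearGroup (Fin n) F}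
    (h : IsTv v r g) (hrv : r ⬝ᵥ v = 0) : IsTv (-v) r g⁻¹ := by
  intro x
  have h1 : (g : Matrix (Fin n) (Fin n) F) *ᵥ (x + (r ⬝ᵥ x) • (-v)) = x := by
    rw [h _, dotProduct_add, dotProduct_smul, dotProduct_neg, hrv]
    simp only [smul_eq_mul, neg_zero, mul_zero, add_zero, smul_neg]
    abel
  calc ((g⁻¹ : Matrix.GeneralLinearGroup (Fin n) F) : Matrix (Fin n) (Fin n) F) *ᵥ x
      = ((g⁻¹ : Matrix.GeneralLinearGroup (Fin n) F) : Matrix (Fin n) (Fin n) F) *ᵥ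
          ((g : Matrix (Fin n) (Fin n) F) *ᵥ (x + (r ⬝ᵥ x) • (-v))) := by rw [h1]
    _ = x + (r ⬝ᵥ x) • (-v) := Cfsg.Agent.S5643.inv_mv g _

theorem IsTv.smul_iff {v r : Fin n → F} {c : F} {g : Matrix.GeneralLinearGroup (Fin n) F} :
    IsTv (c • v) r g ↔ IsTv v (c • r) g := by
  constructor
  · intro h x
    rw [h x, smul_dotProduct, smul_smul, smul_eq_mul, mul_comm]
  · intro h x
    rw [h x, smul_dotProduct, smul_smul, smul_eq_mul, mul_comm]

theorem IsTv.conj {v r : Fin n → F} {t : Matrix.GeneralLinearGroup (Fin n) F}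
    (h : IsTv v r t) (g : Matrix.GeneralLinearGroup (Fin n) F) :
    IsTv ((g : Matrix (Fin n) (Fin n) F) *ᵥ v)
      (r ᵥ* ((g⁻¹ : Matrix.GeneralLinearGroup (Fin n) F) : Matrix (Fin n) (Fin n) F))
      (g * t * g⁻¹) := by
  apply Cfsg.Agent.S5631.conj_isT
  intro x
  rw [Matrix.vecMul_vecMul, ← Units.val_mul, inv_mul_cancel, Units.val_one, Matrix.vecMul_one]
  exact h x

/-- the commutator rule -/
theorem IsTv.comm {v r w s : Fin n → F} {g g' : Matrix.GeneralLinearGroup (Fin n) F}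
    (h : IsTv v r g) (h' : IsTv w s g') (hrv : r ⬝ᵥ v = 0) (hsw : s ⬝ᵥ w = 0)
    (hsv : s ⬝ᵥ v = 0) : IsTv ((r ⬝ᵥ w) • v) s (g * g' * g⁻¹ * g'⁻¹) := by
  have hi := h.inv hrv
  have hi' := h'.inv hsw
  intro x
  rw [Cfsg.Agent.S5643.mul_mv, Cfsg.Agent.S5643.mul_mv, Cfsg.Agent.S5643.mul_mv, hi' x, hi _,
    h' _, h _]
  simp only [dotProduct_add, dotProduct_smul, dotProduct_neg, hrv, hsw, hsv, smul_eq_mul,
    neg_zero, mul_zero, add_zero, smul_neg, smul_add, mul_neg, neg_neg]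
  module

variable {H : Subgroup (Matrix.GeneralLinearGroup (Fin n) F)}

theorem InP.zero_left (r : Fin n → F) : InP H (0 : Fin n → F) r :=
  ⟨1, H.one_mem, isTv_one_left r⟩

theorem InP.zero_right (v : Fin n → F) : InP H v (0 : Fin n → F) :=
  ⟨1, H.one_mem, isTv_one_right v⟩

theorem InP.add_right {v r s : Fin n → F} (h : InP H v r) (h' : InP H v s) (hrv : r ⬝ᵥ v = 0) :
    InP H v (r + s) := by
  obtain ⟨g, hg, hg'⟩ := h
  obtain ⟨k, hk, hk'⟩ := h'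
  exact ⟨g * k, H.mul_mem hg hk, hg'.mul_center hk' hrv⟩

theorem InP.add_left {v w r : Fin n → F} (h : InP H v r) (h' : InP H w r) (hrw : r ⬝ᵥ w = 0) :
    InP H (v + w) r := by
  obtain ⟨g, hg, hg'⟩ := h
  obtain ⟨k, hk, hk'⟩ := h'
  exact ⟨g * k, H.mul_mem hg hk, hg'.mul_axis hk' hrw⟩

theorem InP.neg_left {v r : Fin n → F} (h : InP H v r) (hrv : r ⬝ᵥ v = 0) : InP H (-v) r := by
  obtain ⟨g, hg, hg'⟩ := h
  exact ⟨g⁻¹, H.inv_mem hg, hg'.inv hrv⟩

theorem InP.smul_iff {v r : Fin n → F} {c : F} : InP H (c • v) r ↔ InP H v (c • r) := by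
  constructor
  · rintro ⟨g, hg, hg'⟩
    exact ⟨g, hg, IsTv.smul_iff.mp hg'⟩
  · rintro ⟨g, hg, hg'⟩
    exact ⟨g, hg, IsTv.smul_iff.mpr hg'⟩

theorem InP.conj {v r : Fin n → F} (h : InP H v r) {g : Matrix.GeneralLinearGroup (Fin n) F}
    (hg : g ∈ H) :
    InP H ((g : Matrix (Fin n) (Fin n) F) *ᵥ v)
      (r ᵥ* ((g⁻¹ : Matrix.GeneralLinearGroup (Fin n) F) : Matrix (Fin n) (Fin n) F)) := by
  obtain ⟨t, ht, ht'⟩ := h
  exact ⟨g * t * g⁻¹, H.mul_mem (H.mul_mem hg ht) (H.inv_mem hg), ht'.conj g⟩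

theorem InP.comm {v r w s : Fin n → F} (h : InP H v r) (h' : InP H w s) (hrv : r ⬝ᵥ v = 0)
    (hsw : s ⬝ᵥ w = 0) (hsv : s ⬝ᵥ v = 0) : InP H ((r ⬝ᵥ w) • v) s := by
  obtain ⟨g, hg, hg'⟩ := h
  obtain ⟨k, hk, hk'⟩ := h'
  exact ⟨g * k * g⁻¹ * k⁻¹,
    H.mul_mem (H.mul_mem (H.mul_mem hg hk) (H.inv_mem hg)) (H.inv_mem hk),
    hg'.comm hk' hrv hsw hsv⟩

theorem InP.congr {v r v' r' : Fin n → F} (h : InP H v r) (hv : v = v') (hr : r = r') :
    InP H v' r' := by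
  subst hv; subst hr; exact h

theorem InP.mono {H' : Subgroup (Matrix.GeneralLinearGroup (Fin n) F)} {v r : Fin n → F}
    (h : InP H v r) (hle : H ≤ H') : InP H' v r := by
  obtain ⟨g, hg, hg'⟩ := h
  exact ⟨g, hle hg, hg'⟩

end Cfsg.Agent.Lib.Helper28.Sf
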