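import Cfsg.Agent.Lib.Helper28.SfA

set_option autoImplicit false

namespace Cfsg.Agent.Lib.Helper28.Sf

open Matrix

variable {n : ℕ} {F : Type*} [Field F] {F₀ : Subfield F}

/-- a vector with all coordinates in the subfield -/
def Rat (F₀ : Subfield F) (v : Fin n → F) : Prop := ∀ i, v i ∈ F₀

theorem Rat.zero : Rat F₀ (0 : Fin n → F) := fun _ => F₀.zero_mem

theorem Rat.add {x y : Fin n → F} (hx : Rat F₀ x) (hy : Rat F₀ y) : Rat F₀ (x + y) :=
  fun i => F₀.add_mem (hx i) (hy i)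

theorem Rat.neg {x : Fin n → F} (hx : Rat F₀ x) : Rat F₀ (-x) := fun i => F₀.neg_mem (hx i)

theorem Rat.sub {x y : Fin n → F} (hx : Rat F₀ x) (hy : Rat F₀ y) : Rat F₀ (x - y) :=
  fun i => F₀.sub_mem (hx i) (hy i)

theorem Rat.smul {a : F} (ha : a ∈ F₀) {x : Fin n → F} (hx : Rat F₀ x) : Rat F₀ (a • x) :=
  fun i => F₀.mul_mem ha (hx i)

theorem Rat.single (i : Fin n) {a : F} (ha : a ∈ F₀) : Rat F₀ (Pi.single i a : Fin n → F) := by
  intro k
  by_cases hk : k = i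
  · subst hk
    rw [Pi.single_eq_same]
    exact ha
  · rw [Pi.single_eq_of_ne hk]
    exact F₀.zero_mem

theorem Rat.dot {x y : Fin n → F} (hx : Rat F₀ x) (hy : Rat F₀ y) : x ⬝ᵥ y ∈ F₀ := by
  unfold dotProduct
  exact F₀.sum_mem (fun i _ => F₀.mul_mem (hx i) (hy i))

theorem single_dot (i : Fin n) (a : F) (x : Fin n → F) :
    (Pi.single i a : Fin n → F) ⬝ᵥ x = a * x i := by
  rw [single_dotProduct]

theorem dot_single (i : Fin n) (a : F) (x : Fin n → F) :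
    x ⬝ᵥ (Pi.single i a : Fin n → F) = x i * a := by
  rw [dotProduct_single]

theorem V0_one_iff (v : Fin n → F) :
    v ∈ Cfsg.Agent.Lib.Helper28.SubF.V0 F₀ (1 : Matrix.GeneralLinearGroup (Fin n) F) ↔
      Rat F₀ v := by
  unfold Cfsg.Agent.Lib.Helper28.SubF.V0 Rat
  simp

/-- a matrix preserving rational vectors lies in the subfield group -/
theorem mem_sub_one_of_rat {g : Matrix.GeneralLinearGroup (Fin n) F} {c : F} (hc : c ≠ 0)
    (h : ∀ x, Rat F₀ x → Rat F₀ (c⁻¹ • ((g : Matrix (Fin n) (Fin n) F) *ᵥ x))) :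
    g ∈ Cfsg.Geo.subfieldSubgroup F₀ (1 : Matrix.GeneralLinearGroup (Fin n) F) := by
  apply Cfsg.Agent.Lib.Helper28.SubF.mem_sub_of_maps hc
  intro v hv
  rw [V0_one_iff] at hv ⊢
  exact h v hv

theorem rat_of_mem_sub_one {g : Matrix.GeneralLinearGroup (Fin n) F}
    (hg : g ∈ Cfsg.Geo.subfieldSubgroup F₀ (1 : Matrix.GeneralLinearGroup (Fin n) F)) :
    ∃ c : F, c ≠ 0 ∧ ∀ x, Rat F₀ x → Rat F₀ (c⁻¹ • ((g : Matrix (Fin n) (Fin n) F) *ᵥ x)) := by
  obtain ⟨c, hc, h⟩ := Cfsg.Agent.Lib.Helper28.SubF.maps_of_mem_sub hg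
  refine ⟨c, hc, fun x hx => ?_⟩
  rw [← V0_one_iff] at hx ⊢
  exact h x hx

theorem IsTv.rat {v r : Fin n → F} {g : Matrix.GeneralLinearGroup (Fin n) F} (h : IsTv v r g)
    (hv : Rat F₀ v) (hr : Rat F₀ r) {x : Fin n → F} (hx : Rat F₀ x) :
    Rat F₀ ((g : Matrix (Fin n) (Fin n) F) *ᵥ x) := by
  rw [h x]
  exact hx.add (Rat.smul (hr.dot hx) hv)

/-- the ambient hypotheses: `H` lies between the subfield group (for `P = 1`) and `SL`. -/
structure Ctx (F₀ : Subfield F) (H : Subgroup (Matrix.GeneralLinearGroup (Fin n) F)) : Prop where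
  le_SL : H ≤ Cfsg.Geo.specialLinear (Fin n) F
  sub_le : Cfsg.Geo.subfieldSubgroup F₀ (1 : Matrix.GeneralLinearGroup (Fin n) F) ⊓
    Cfsg.Geo.specialLinear (Fin n) F ≤ H

variable {H : Subgroup (Matrix.GeneralLinearGroup (Fin n) F)}

/-- `g` is an element of `H` which, together with its inverse, preserves rational vectors. -/
def Good (F₀ : Subfield F) (H : Subgroup (Matrix.GeneralLinearGroup (Fin n) F))
    (g : Matrix.GeneralLinearGroup (Fin n) F) : Prop :=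
  g ∈ H ∧ (∀ x, Rat F₀ x → Rat F₀ ((g : Matrix (Fin n) (Fin n) F) *ᵥ x)) ∧
    ∀ x, Rat F₀ x → Rat F₀
      (((g⁻¹ : Matrix.GeneralLinearGroup (Fin n) F) : Matrix (Fin n) (Fin n) F) *ᵥ x)

theorem Good.one : Good F₀ H 1 := by
  refine ⟨H.one_mem, fun x hx => ?_, fun x hx => ?_⟩
  · simpa using hx
  · simpa using hx

theorem Good.mul {g k : Matrix.GeneralLinearGroup (Fin n) F} (hg : Good F₀ H g)
    (hk : Good F₀ H k) : Good F₀ H (g * k) := by
  refine ⟨H.mul_mem hg.1 hk.1, fun x hx => ?_, fun x hx => ?_⟩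
  · rw [Cfsg.Agent.S5643.mul_mv]
    exact hg.2.1 _ (hk.2.1 _ hx)
  · rw [_root_.mul_inv_rev, Cfsg.Agent.S5643.mul_mv]
    exact hk.2.2 _ (hg.2.2 _ hx)

theorem Good.inv {g : Matrix.GeneralLinearGroup (Fin n) F} (hg : Good F₀ H g) :
    Good F₀ H g⁻¹ := by
  refine ⟨H.inv_mem hg.1, hg.2.2, fun x hx => ?_⟩
  rw [inv_inv]
  exact hg.2.1 x hx

theorem Good.mem_sub {g : Matrix.GeneralLinearGroup (Fin n) F} (hg : Good F₀ H g) :
    g ∈ Cfsg.Geo.subfieldSubgroup F₀ (1 : Matrix.GeneralLinearGroup (Fin n) F) := by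
  apply mem_sub_one_of_rat (c := 1) one_ne_zero
  intro x hx
  rw [inv_one, one_smul]
  exact hg.2.1 x hx

/-- rational transvections are good elements of `H`. -/
theorem Ctx.rat_tv (C : Ctx F₀ H) {v r : Fin n → F} (hv : Rat F₀ v) (hr : Rat F₀ r)
    (hrv : r ⬝ᵥ v = 0) : ∃ g, Good F₀ H g ∧ IsTv v r g := by
  obtain ⟨g, hS, hg⟩ := Cfsg.Agent.S5632.transv v r hrv
  have hT : IsTv v r g := hg
  have hTi : IsTv (-v) r g⁻¹ := hT.inv hrv
  have hsub : g ∈ Cfsg.Geo.subfieldSubgroup F₀ (1 : Matrix.GeneralLinearGroup (Fin n) F) := by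
    apply mem_sub_one_of_rat (c := 1) one_ne_zero
    intro x hx
    rw [inv_one, one_smul]
    exact hT.rat hv hr hx
  refine ⟨g, ⟨C.sub_le ⟨hsub, hS⟩, fun x hx => hT.rat hv hr hx, fun x hx => ?_⟩, hT⟩
  exact hTi.rat hv.neg hr hx

theorem Ctx.rat_inP (C : Ctx F₀ H) {v r : Fin n → F} (hv : Rat F₀ v) (hr : Rat F₀ r)
    (hrv : r ⬝ᵥ v = 0) : InP H v r := by
  obtain ⟨g, hg, hT⟩ := C.rat_tv hv hr hrv
  exact ⟨g, hg.1, hT⟩

/-- the parameters `a` with `x_{ij}(a) ∈ H` -/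
def AA (H : Subgroup (Matrix.GeneralLinearGroup (Fin n) F)) (i j : Fin n) : Set F :=
  {a | InP H (Pi.single i a : Fin n → F) (Pi.single j 1)}

theorem sd_ne {i j : Fin n} (hij : i ≠ j) (a b : F) :
    (Pi.single i a : Fin n → F) ⬝ᵥ (Pi.single j b : Fin n → F) = 0 := by
  rw [single_dotProduct, Pi.single_eq_of_ne hij, mul_zero]

theorem sd_eq (i : Fin n) (a b : F) :
    (Pi.single i a : Fin n → F) ⬝ᵥ (Pi.single i b : Fin n → F) = a * b := by
  rw [single_dotProduct, Pi.single_eq_same]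

theorem Ctx.AA_F0 (C : Ctx F₀ H) {i j : Fin n} (hij : i ≠ j) {a : F} (ha : a ∈ F₀) :
    a ∈ AA H i j :=
  C.rat_inP (Rat.single i ha) (Rat.single j F₀.one_mem) (sd_ne hij.symm _ _)

theorem AA_add {i j : Fin n} (hij : i ≠ j) {a b : F} (ha : a ∈ AA H i j) (hb : b ∈ AA H i j) :
    a + b ∈ AA H i j := by
  have := InP.add_left ha hb (sd_ne hij.symm _ _)
  refine this.congr ?_ rfl
  rw [← Pi.single_add]

theorem AA_mul {i j k : Fin n} (hij : i ≠ j) (hjk : j ≠ k) (hik : i ≠ k) {a b : F}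
    (ha : a ∈ AA H i j) (hb : b ∈ AA H j k) : a * b ∈ AA H i k := by
  have := InP.comm ha hb (sd_ne hij.symm _ _) (sd_ne hjk.symm _ _) (sd_ne hik.symm _ _)
  refine this.congr ?_ rfl
  rw [sd_eq, one_mul, ← Pi.single_smul, smul_eq_mul, mul_comm]

theorem Ctx.AA_col (C : Ctx F₀ H) {i j k : Fin n} (hij : i ≠ j) (hjk : j ≠ k) (hik : i ≠ k) :
    AA H i j ⊆ AA H i k := by
  intro a ha
  have := AA_mul hij hjk hik ha (C.AA_F0 hjk F₀.one_mem)
  rwa [mul_one] at this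

theorem Ctx.AA_row (C : Ctx F₀ H) {i j k : Fin n} (hij : i ≠ j) (hkj : k ≠ j) (hki : k ≠ i) :
    AA H i j ⊆ AA H k j := by
  intro a ha
  have := AA_mul hki hij hkj (C.AA_F0 hki F₀.one_mem) ha
  rwa [one_mul] at this

theorem exists_third (hn : 3 ≤ n) (i j : Fin n) : ∃ k : Fin n, k ≠ i ∧ k ≠ j := by
  by_contra hcon
  push Not at hcon
  have h1 : ∀ k : Fin n, k = i ∨ k = j := fun k => by
    by_cases hk : k = i
    · exact Or.inl hk
    · exact Or.inr (hcon k hk)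
  have h2 : (Finset.univ : Finset (Fin n)) ⊆ {i, j} := by
    intro k _
    rcases h1 k with h | h <;> simp [h]
  have h3 := Finset.card_le_card h2
  rw [Finset.card_univ, Fintype.card_fin] at h3
  have h4 : ({i, j} : Finset (Fin n)).card ≤ 2 := Finset.card_le_two
  omega

theorem Ctx.AA_swap (C : Ctx F₀ H) (hn : 3 ≤ n) {i j : Fin n} (hij : i ≠ j) :
    AA H i j ⊆ AA H j i := by
  obtain ⟨m, hm1, hm2⟩ := exists_third hn i j
  exact ((C.AA_col hij (Ne.symm hm2) (Ne.symm hm1)).trans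
    (C.AA_row (Ne.symm hm1) (Ne.symm hm2) (Ne.symm hij))).trans
    (C.AA_col (Ne.symm hm2) hm1 (Ne.symm hij))

theorem Ctx.AA_sub (C : Ctx F₀ H) (hn : 3 ≤ n) {i j k l : Fin n} (hij : i ≠ j) (hkl : k ≠ l) :
    AA H i j ⊆ AA H k l := by
  by_cases hki : k = i
  · subst hki
    by_cases hlj : l = j
    · subst hlj; exact subset_rfl
    · exact C.AA_col hij (Ne.symm hlj) hkl
  · by_cases hlj : l = j
    · subst hlj
      exact C.AA_row hij hkl hki
    · by_cases hkj : k = j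
      · by_cases hli : l = i
        · rw [hkj, hli]
          exact C.AA_swap hn hij
        · rw [hkj] at hkl hki ⊢
          exact (C.AA_col hij hkl (Ne.symm hli)).trans (C.AA_row (Ne.symm hli) hkl hki)
      · exact (C.AA_row hij hkj hki).trans (C.AA_col hkj (Ne.symm hlj) hkl)

theorem Ctx.AA_eq (C : Ctx F₀ H) (hn : 3 ≤ n) {i j k l : Fin n} (hij : i ≠ j) (hkl : k ≠ l) :
    AA H i j = AA H k l :=
  Set.Subset.antisymm (C.AA_sub hn hij hkl) (C.AA_sub hn hkl hij)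

theorem Ctx.AA_mul' (C : Ctx F₀ H) (hn : 3 ≤ n) {i j : Fin n} (hij : i ≠ j) {a b : F}
    (ha : a ∈ AA H i j) (hb : b ∈ AA H i j) : a * b ∈ AA H i j := by
  obtain ⟨k, hk1, hk2⟩ := exists_third hn i j
  have h1 : a ∈ AA H i k := C.AA_sub hn hij (Ne.symm hk1) ha
  have h2 : b ∈ AA H k j := C.AA_sub hn hij hk2 hb
  exact AA_mul (Ne.symm hk1) hk2 hij h1 h2

/-- the parameter set as a subalgebra over the subfield -/
def Ctx.alg (C : Ctx F₀ H) (hn : 3 ≤ n) {i j : Fin n} (hij : i ≠ j) : Subalgebra F₀ F where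
  carrier := AA H i j
  mul_mem' := fun ha hb => C.AA_mul' hn hij ha hb
  add_mem' := fun ha hb => AA_add hij ha hb
  algebraMap_mem' := fun a => C.AA_F0 hij a.2

theorem Ctx.mem_alg (C : Ctx F₀ H) (hn : 3 ≤ n) {i j : Fin n} (hij : i ≠ j) (a : F) :
    a ∈ C.alg hn hij ↔ a ∈ AA H i j := Iff.rfl

theorem finrank_eq [Fintype F] {r : ℕ} (hcard : Fintype.card F = Nat.card F₀ ^ r) :
    Module.finrank F₀ F = r := by
  have h1 : Nat.card F = Nat.card F₀ ^ Module.finrank F₀ F := Module.natCard_eq_pow_finrank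
  rw [Nat.card_eq_fintype_card, hcard] at h1
  have h2 : 2 ≤ Nat.card F₀ := by
    have : Nontrivial F₀ := inferInstance
    exact Finite.one_lt_card
  exact (Nat.pow_right_injective h2 h1).symm

/-- dichotomy: the parameter set is the subfield or everything -/
theorem Ctx.AA_cases [Fintype F] (C : Ctx F₀ H) (hn : 3 ≤ n) {r : ℕ} (hr : r.Prime)
    (hcard : Fintype.card F = Nat.card F₀ ^ r) {i j : Fin n} (hij : i ≠ j) :
    (∀ a, a ∈ AA H i j → a ∈ F₀) ∨ (∀ a : F, a ∈ AA H i j) := by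
  have hfr : (Module.finrank F₀ F).Prime := by rw [finrank_eq hcard]; exact hr
  have := Subalgebra.isSimpleOrder_of_finrank_prime F₀ F hfr
  rcases eq_bot_or_eq_top (C.alg hn hij) with h | h
  · left
    intro a ha
    have h1 : a ∈ C.alg hn hij := ha
    rw [h, Algebra.mem_bot] at h1
    obtain ⟨b, rfl⟩ := h1
    exact b.2
  · right
    intro a
    have h1 : a ∈ C.alg hn hij := by rw [h]; exact Algebra.mem_top
    exact h1

end Cfsg.Agent.Lib.Helper28.Sf
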