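import Cfsg.Agent.Lib.Helper28.SfB

set_option autoImplicit false

namespace Cfsg.Agent.Lib.Helper28.Sf

open Matrix

variable {n : ℕ} {F : Type*} [Field F] {F₀ : Subfield F}
  {H : Subgroup (Matrix.GeneralLinearGroup (Fin n) F)}

theorem exists_ne (hn : 2 ≤ n) (i : Fin n) : ∃ j : Fin n, j ≠ i := by
  by_contra hcon
  push Not at hcon
  have h2 : (Finset.univ : Finset (Fin n)) ⊆ {i} := by
    intro k _
    simp [hcon k]
  have h3 := Finset.card_le_card h2
  rw [Finset.card_univ, Fintype.card_fin, Finset.card_singleton] at h3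
  omega

theorem IsTv.apply {v r : Fin n → F} {g : Matrix.GeneralLinearGroup (Fin n) F} (h : IsTv v r g)
    (x : Fin n → F) : (g : Matrix (Fin n) (Fin n) F) *ᵥ x = x + (r ⬝ᵥ x) • v := h x

/-- action of the inverse of a transvection on functionals -/
theorem IsTv.vecMul_inv {v r : Fin n → F} {g : Matrix.GeneralLinearGroup (Fin n) F}
    (h : IsTv v r g) (hrv : r ⬝ᵥ v = 0) (φ : Fin n → F) :
    φ ᵥ* ((g⁻¹ : Matrix.GeneralLinearGroup (Fin n) F) : Matrix (Fin n) (Fin n) F) =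
      φ - (φ ⬝ᵥ v) • r := by
  apply dotProduct_eq
  intro x
  rw [← dotProduct_mulVec, (h.inv hrv) x, dotProduct_add, dotProduct_smul, dotProduct_neg,
    sub_dotProduct, smul_dotProduct]
  simp only [smul_eq_mul]
  ring

/-- case A of transitivity on rational vectors -/
theorem Ctx.exists_good_map_aux (C : Ctx F₀ H) {i j : Fin n} (hji : j ≠ i) {u : Fin n → F}
    (hu : Rat F₀ u) (huj : u j ≠ 0) :
    ∃ g, Good F₀ H g ∧ (g : Matrix (Fin n) (Fin n) F) *ᵥ u = Pi.single i 1 := by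
  obtain ⟨t₁, ht₁, hT₁⟩ := C.rat_tv (v := Pi.single i (1 - u i)) (r := Pi.single j (u j)⁻¹)
    (Rat.single i (F₀.sub_mem F₀.one_mem (hu i))) (Rat.single j (F₀.inv_mem (hu j)))
    (sd_ne hji _ _)
  set u' : Fin n → F := u + Pi.single i (1 - u i) with hu'
  have h1 : (t₁ : Matrix (Fin n) (Fin n) F) *ᵥ u = u' := by
    rw [hT₁ u, single_dotProduct, inv_mul_cancel₀ huj, one_smul]
  have hu'i : u' i = 1 := by
    rw [hu', Pi.add_apply, Pi.single_eq_same]
    ring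
  have hu'r : Rat F₀ u' := hu.add (Rat.single i (F₀.sub_mem F₀.one_mem (hu i)))
  obtain ⟨t₂, ht₂, hT₂⟩ := C.rat_tv (v := Pi.single i 1 - u') (r := Pi.single i 1)
    ((Rat.single i F₀.one_mem).sub hu'r) (Rat.single i F₀.one_mem)
    (by rw [dotProduct_sub, sd_eq, single_dotProduct, hu'i]; ring)
  refine ⟨t₂ * t₁, ht₂.mul ht₁, ?_⟩
  rw [Cfsg.Agent.S5643.mul_mv, h1, hT₂ u', single_dotProduct, hu'i, one_mul, one_smul]
  abel

/-- transitivity on non-zero rational vectors -/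
theorem Ctx.exists_good_map (C : Ctx F₀ H) (hn : 2 ≤ n) (i : Fin n) {u : Fin n → F}
    (hu : Rat F₀ u) (hu0 : u ≠ 0) :
    ∃ g, Good F₀ H g ∧ (g : Matrix (Fin n) (Fin n) F) *ᵥ u = Pi.single i 1 := by
  by_cases hex : ∃ j, j ≠ i ∧ u j ≠ 0
  · obtain ⟨j, hji, huj⟩ := hex
    exact C.exists_good_map_aux hji hu huj
  · push Not at hex
    have hui : u i ≠ 0 := by
      intro h0
      apply hu0
      funext k
      by_cases hk : k = i
      · rw [hk, h0]; rfl
      · exact hex k hk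
    obtain ⟨j, hji⟩ := exists_ne hn i
    obtain ⟨t₀, ht₀, hT₀⟩ := C.rat_tv (v := Pi.single j 1) (r := Pi.single i 1)
      (Rat.single j F₀.one_mem) (Rat.single i F₀.one_mem) (sd_ne hji.symm _ _)
    have hr : Rat F₀ ((t₀ : Matrix (Fin n) (Fin n) F) *ᵥ u) := ht₀.2.1 u hu
    have hj : ((t₀ : Matrix (Fin n) (Fin n) F) *ᵥ u) j ≠ 0 := by
      rw [hT₀ u, single_dotProduct, one_mul, Pi.add_apply, Pi.smul_apply, Pi.single_eq_same,
        hex j hji, zero_add, smul_eq_mul, mul_one]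
      exact hui
    obtain ⟨g, hg, hgu⟩ := C.exists_good_map_aux hji hr hj
    refine ⟨g * t₀, hg.mul ht₀, ?_⟩
    rw [Cfsg.Agent.S5643.mul_mv, hgu]

/-- case A of transitivity on rational functionals -/
theorem Ctx.exists_good_dual_aux (C : Ctx F₀ H) {k j : Fin n} (hjk : j ≠ k) {φ : Fin n → F}
    (hφ : Rat F₀ φ) (hφj : φ j ≠ 0) :
    ∃ g, Good F₀ H g ∧
      φ ᵥ* ((g⁻¹ : Matrix.GeneralLinearGroup (Fin n) F) : Matrix (Fin n) (Fin n) F) =
        Pi.single k 1 := by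
  have hrv₁ : (Pi.single k (φ k - 1) : Fin n → F) ⬝ᵥ (Pi.single j (φ j)⁻¹ : Fin n → F) = 0 :=
    sd_ne hjk.symm _ _
  obtain ⟨t₁, ht₁, hT₁⟩ := C.rat_tv (v := Pi.single j (φ j)⁻¹) (r := Pi.single k (φ k - 1))
    (Rat.single j (F₀.inv_mem (hφ j))) (Rat.single k (F₀.sub_mem (hφ k) F₀.one_mem)) hrv₁
  set φ' : Fin n → F := φ - Pi.single k (φ k - 1) with hφ'
  have h1 : φ ᵥ* ((t₁⁻¹ : Matrix.GeneralLinearGroup (Fin n) F) : Matrix (Fin n) (Fin n) F) = φ' := by
    rw [hT₁.vecMul_inv hrv₁, dotProduct_single, mul_inv_cancel₀ hφj, one_smul]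
  have hφ'k : φ' k = 1 := by
    rw [hφ', Pi.sub_apply, Pi.single_eq_same]
    ring
  have hφ'r : Rat F₀ φ' := hφ.sub (Rat.single k (F₀.sub_mem (hφ k) F₀.one_mem))
  have hrv₂ : (φ' - Pi.single k 1) ⬝ᵥ (Pi.single k 1 : Fin n → F) = 0 := by
    rw [sub_dotProduct, sd_eq, dotProduct_single, hφ'k]; ring
  obtain ⟨t₂, ht₂, hT₂⟩ := C.rat_tv (v := Pi.single k 1) (r := φ' - Pi.single k 1)
    (Rat.single k F₀.one_mem) (hφ'r.sub (Rat.single k F₀.one_mem)) hrv₂
  refine ⟨t₂ * t₁, ht₂.mul ht₁, ?_⟩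
  rw [_root_.mul_inv_rev, Units.val_mul, ← Matrix.vecMul_vecMul, h1, hT₂.vecMul_inv hrv₂,
    dotProduct_single, hφ'k, one_mul, one_smul]
  abel

/-- transitivity on non-zero rational functionals -/
theorem Ctx.exists_good_dual (C : Ctx F₀ H) (hn : 2 ≤ n) (k : Fin n) {φ : Fin n → F}
    (hφ : Rat F₀ φ) (hφ0 : φ ≠ 0) :
    ∃ g, Good F₀ H g ∧
      φ ᵥ* ((g⁻¹ : Matrix.GeneralLinearGroup (Fin n) F) : Matrix (Fin n) (Fin n) F) =
        Pi.single k 1 := by
  by_cases hex : ∃ j, j ≠ k ∧ φ j ≠ 0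
  · obtain ⟨j, hjk, hφj⟩ := hex
    exact C.exists_good_dual_aux hjk hφ hφj
  · push Not at hex
    have hφk : φ k ≠ 0 := by
      intro h0
      apply hφ0
      funext m
      by_cases hm : m = k
      · rw [hm, h0]; rfl
      · exact hex m hm
    obtain ⟨j, hjk⟩ := exists_ne hn k
    have hrv₀ : (-(Pi.single j 1 : Fin n → F)) ⬝ᵥ (Pi.single k 1 : Fin n → F) = 0 := by
      rw [neg_dotProduct, sd_ne hjk, neg_zero]
    obtain ⟨t₀, ht₀, hT₀⟩ := C.rat_tv (v := Pi.single k 1) (r := -(Pi.single j 1 : Fin n → F))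
      (Rat.single k F₀.one_mem) (Rat.single j F₀.one_mem).neg hrv₀
    set φ' : Fin n → F :=
      φ ᵥ* ((t₀⁻¹ : Matrix.GeneralLinearGroup (Fin n) F) : Matrix (Fin n) (Fin n) F) with hφ'
    have h1 : φ' = φ + (φ k) • (Pi.single j 1 : Fin n → F) := by
      rw [hφ', hT₀.vecMul_inv hrv₀, dotProduct_single, mul_one, smul_neg, sub_neg_eq_add]
    have hr : Rat F₀ φ' := by
      rw [h1]
      exact hφ.add (Rat.smul (hφ k) (Rat.single j F₀.one_mem))
    have hj : φ' j ≠ 0 := by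
      rw [h1, Pi.add_apply, Pi.smul_apply, Pi.single_eq_same, hex j hjk, zero_add, smul_eq_mul,
        mul_one]
      exact hφk
    obtain ⟨g, hg, hgu⟩ := C.exists_good_dual_aux (k := k) hjk hr hj
    refine ⟨g * t₀, hg.mul ht₀, ?_⟩
    rw [_root_.mul_inv_rev, Units.val_mul, ← Matrix.vecMul_vecMul]
    exact hgu

/-- (T): a transvection of `H` with a coordinate centre has a rational functional -/
theorem Ctx.T_center (C : Ctx F₀ H) (hn : 3 ≤ n)
    (hA : ∀ i j : Fin n, i ≠ j → ∀ a, a ∈ AA H i j → a ∈ F₀) {i : Fin n} {θ : Fin n → F}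
    (h : InP H (Pi.single i 1 : Fin n → F) θ) (hθ : θ i = 0) : Rat F₀ θ := by
  intro j
  by_cases hji : j = i
  · rw [hji, hθ]; exact F₀.zero_mem
  · obtain ⟨k, hki, hkj⟩ := exists_third hn i j
    have h1 := InP.comm h (C.rat_inP (Rat.single j F₀.one_mem) (Rat.single k F₀.one_mem)
      (sd_ne hkj _ _)) (by rw [dotProduct_single, hθ, zero_mul]) (sd_ne hkj _ _) (sd_ne hki _ _)
    apply hA i k (Ne.symm hki)
    refine h1.congr ?_ rfl
    rw [dotProduct_single, mul_one, ← Pi.single_smul, smul_eq_mul, mul_one]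

/-- (T*): a transvection of `H` with a coordinate functional has a rational centre -/
theorem Ctx.T_axis (C : Ctx F₀ H) (hn : 3 ≤ n)
    (hA : ∀ i j : Fin n, i ≠ j → ∀ a, a ∈ AA H i j → a ∈ F₀) {k : Fin n} {z : Fin n → F}
    (h : InP H z (Pi.single k 1 : Fin n → F)) (hz : z k = 0) : Rat F₀ z := by
  intro i
  by_cases hik : i = k
  · rw [hik, hz]; exact F₀.zero_mem
  · obtain ⟨j, hji, hjk⟩ := exists_third hn i k
    have h1 := InP.comm (C.rat_inP (Rat.single j F₀.one_mem) (Rat.single i F₀.one_mem)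
      (sd_ne (Ne.symm hji) _ _)) h (sd_ne (Ne.symm hji) _ _)
      (by rw [single_dotProduct, hz, mul_zero]) (sd_ne (Ne.symm hjk) _ _)
    apply hA j k hjk
    refine h1.congr ?_ rfl
    rw [single_dotProduct, one_mul, ← Pi.single_smul, smul_eq_mul, mul_one]

end Cfsg.Agent.Lib.Helper28.Sf
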