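import Cfsg.Agent.Lib.Helper28.SfC

set_option autoImplicit false

namespace Cfsg.Agent.Lib.Helper28.Sf

open Matrix

variable {n : ℕ} {F : Type*} [Field F] {F₀ : Subfield F}
  {H : Subgroup (Matrix.GeneralLinearGroup (Fin n) F)}

theorem row_ne_zero (h : Matrix.GeneralLinearGroup (Fin n) F) {r : Fin n → F} (hr : r ≠ 0) :
    r ᵥ* ((h⁻¹ : Matrix.GeneralLinearGroup (Fin n) F) : Matrix (Fin n) (Fin n) F) ≠ 0 := by
  intro h0
  apply hr
  have := congrArg (fun z => z ᵥ* (h : Matrix (Fin n) (Fin n) F)) h0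
  simp only [Matrix.vecMul_vecMul, Matrix.zero_vecMul] at this
  rwa [← Units.val_mul, inv_mul_cancel, Units.val_one, Matrix.vecMul_one] at this

theorem col_ne_zero (h : Matrix.GeneralLinearGroup (Fin n) F) {v : Fin n → F} (hv : v ≠ 0) :
    (h : Matrix (Fin n) (Fin n) F) *ᵥ v ≠ 0 := fun h0 =>
  hv (Cfsg.Agent.Lib.Helper28.SubF.gl_inj h h0)

theorem single_ne_zero' (i : Fin n) : (Pi.single i (1 : F) : Fin n → F) ≠ 0 := by
  intro h
  have := congrFun h i
  rw [Pi.single_eq_same] at this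
  exact one_ne_zero this

/-- (D0) -/
theorem Ctx.D0 (C : Ctx F₀ H) (hn : 3 ≤ n)
    (hA : ∀ i j : Fin n, i ≠ j → ∀ a, a ∈ AA H i j → a ∈ F₀)
    {h : Matrix.GeneralLinearGroup (Fin n) F} (hh : h ∈ H) {i k : Fin n} (hik : i ≠ k)
    (hw : ((h : Matrix (Fin n) (Fin n) F) *ᵥ (Pi.single i 1 : Fin n → F)) k = 0) :
    ∃ (c : F) (u : Fin n → F), Rat F₀ u ∧
      (h : Matrix (Fin n) (Fin n) F) *ᵥ (Pi.single i 1 : Fin n → F) = c • u := by
  set w : Fin n → F := (h : Matrix (Fin n) (Fin n) F) *ᵥ (Pi.single i 1 : Fin n → F) with hw'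
  set ψ : Fin n → F := (Pi.single k 1 : Fin n → F) ᵥ*
    ((h⁻¹ : Matrix.GeneralLinearGroup (Fin n) F) : Matrix (Fin n) (Fin n) F) with hψ
  have hP : InP H w ψ :=
    (C.rat_inP (Rat.single i F₀.one_mem) (Rat.single k F₀.one_mem) (sd_ne hik.symm _ _)).conj hh
  have hψw : ψ ⬝ᵥ w = 0 := by
    rw [hψ, hw', ← dotProduct_mulVec, Cfsg.Agent.S5643.inv_mv]
    exact sd_ne hik.symm _ _
  have hψ0 : ψ ≠ 0 := row_ne_zero h (single_ne_zero' k)
  have key : ∀ j, j ≠ k → Rat F₀ ((ψ j) • w) := by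
    intro j hjk
    have h1 := InP.comm hP (C.rat_inP (Rat.single j F₀.one_mem) (Rat.single k F₀.one_mem)
      (sd_ne (Ne.symm hjk) _ _)) hψw (sd_ne (Ne.symm hjk) _ _)
      (by rw [single_dotProduct, hw, mul_zero])
    apply C.T_axis hn hA (k := k)
    · refine h1.congr ?_ rfl
      rw [dotProduct_single, mul_one]
    · rw [Pi.smul_apply, hw, smul_zero]
  by_cases hex : ∃ j, j ≠ k ∧ ψ j ≠ 0
  · obtain ⟨j, hjk, hj⟩ := hex
    refine ⟨(ψ j)⁻¹, (ψ j) • w, key j hjk, ?_⟩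
    rw [smul_smul, inv_mul_cancel₀ hj, one_smul]
  · push Not at hex
    have hψk : ψ k ≠ 0 := by
      intro h0
      apply hψ0
      funext m
      by_cases hm : m = k
      · rw [hm, h0]; rfl
      · exact hex m hm
    have hψeq : ψ = (ψ k) • (Pi.single k 1 : Fin n → F) := by
      funext m
      by_cases hm : m = k
      · rw [hm, Pi.smul_apply, Pi.single_eq_same, smul_eq_mul, mul_one]
      · rw [hex m hm, Pi.smul_apply, Pi.single_eq_of_ne hm, smul_zero]
    have h2 : InP H ((ψ k) • w) (Pi.single k 1 : Fin n → F) := by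
      rw [InP.smul_iff, ← hψeq]
      exact hP
    refine ⟨(ψ k)⁻¹, (ψ k) • w, C.T_axis hn hA h2 ?_, ?_⟩
    · rw [Pi.smul_apply, hw, smul_zero]
    · rw [smul_smul, inv_mul_cancel₀ hψk, one_smul]

/-- (D): if a non-zero rational functional kills `h e_i` then `h e_i` is proportional to a
rational vector -/
theorem Ctx.D (C : Ctx F₀ H) (hn : 3 ≤ n)
    (hA : ∀ i j : Fin n, i ≠ j → ∀ a, a ∈ AA H i j → a ∈ F₀)
    {h : Matrix.GeneralLinearGroup (Fin n) F} (hh : h ∈ H) (i : Fin n) {φ : Fin n → F}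
    (hφ : Rat F₀ φ) (hφ0 : φ ≠ 0)
    (hw : φ ⬝ᵥ ((h : Matrix (Fin n) (Fin n) F) *ᵥ (Pi.single i 1 : Fin n → F)) = 0) :
    ∃ (c : F) (u : Fin n → F), Rat F₀ u ∧
      (h : Matrix (Fin n) (Fin n) F) *ᵥ (Pi.single i 1 : Fin n → F) = c • u := by
  obtain ⟨k, hki⟩ := exists_ne (by omega) i
  obtain ⟨g, hg, hgφ⟩ := C.exists_good_dual (by omega) k hφ hφ0
  have hφ' : φ = (Pi.single k 1 : Fin n → F) ᵥ* (g : Matrix (Fin n) (Fin n) F) := by
    rw [← hgφ, Matrix.vecMul_vecMul, ← Units.val_mul, inv_mul_cancel, Units.val_one,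
      Matrix.vecMul_one]
  have h1 : (((g * h : Matrix.GeneralLinearGroup (Fin n) F) : Matrix (Fin n) (Fin n) F) *ᵥ
      (Pi.single i 1 : Fin n → F)) k = 0 := by
    rw [Cfsg.Agent.S5643.mul_mv, ← hw, hφ', ← dotProduct_mulVec, single_dotProduct, one_mul]
  obtain ⟨c, u, hu, hcu⟩ := C.D0 hn hA (H.mul_mem hg.1 hh) (Ne.symm hki) h1
  refine ⟨c, ((g⁻¹ : Matrix.GeneralLinearGroup (Fin n) F) : Matrix (Fin n) (Fin n) F) *ᵥ u,
    hg.2.2 u hu, ?_⟩
  rw [← Matrix.mulVec_smul, ← hcu, Cfsg.Agent.S5643.mul_mv, Cfsg.Agent.S5643.inv_mv]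

theorem mulVec_eq_sum (M : Matrix (Fin n) (Fin n) F) (x : Fin n → F) (a : Fin n) :
    (M *ᵥ x) a = ∑ m, (M *ᵥ (Pi.single m 1 : Fin n → F)) a * x m := by
  simp only [Matrix.mulVec_single_one, Matrix.col_apply]
  rfl

/-- (GP0) -/
theorem Ctx.GP0 (C : Ctx F₀ H) (hn : 3 ≤ n)
    (hA : ∀ i j : Fin n, i ≠ j → ∀ a, a ∈ AA H i j → a ∈ F₀)
    {h : Matrix.GeneralLinearGroup (Fin n) F} (hh : h ∈ H) {i : Fin n} {c : F}
    (hc : (h : Matrix (Fin n) (Fin n) F) *ᵥ (Pi.single i 1 : Fin n → F) =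
      c • (Pi.single i 1 : Fin n → F)) :
    h ∈ Cfsg.Geo.subfieldSubgroup F₀ (1 : Matrix.GeneralLinearGroup (Fin n) F) := by
  by_contra hnot
  have hc0 : c ≠ 0 := by
    intro h0
    rw [h0, zero_smul] at hc
    exact col_ne_zero h (single_ne_zero' i) hc
  -- some column is not rational after scaling
  obtain ⟨m, hm⟩ : ∃ m, ¬ Rat F₀ (c⁻¹ • ((h : Matrix (Fin n) (Fin n) F) *ᵥ
      (Pi.single m 1 : Fin n → F))) := by
    by_contra hall
    push Not at hall
    apply hnot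
    apply mem_sub_one_of_rat hc0
    intro x hx a
    rw [Pi.smul_apply, mulVec_eq_sum, smul_eq_mul, Finset.mul_sum]
    apply F₀.sum_mem
    intro m _
    rw [← mul_assoc]
    exact F₀.mul_mem (hall m a) (hx m)
  have hmi : m ≠ i := by
    intro hmi
    apply hm
    rw [hmi, hc, smul_smul, inv_mul_cancel₀ hc0, one_smul]
    exact Rat.single i F₀.one_mem
  -- a rational vector whose image is not proportional to a rational vector
  obtain ⟨v₂, hv₂r, hv₂s, hv₂m, hbad⟩ : ∃ v₂ : Fin n → F, Rat F₀ v₂ ∧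
      (∀ l, l ≠ i → l ≠ m → v₂ l = 0) ∧ v₂ m = 1 ∧
      ∀ (μ : F) (u : Fin n → F), Rat F₀ u → (h : Matrix (Fin n) (Fin n) F) *ᵥ v₂ ≠ μ • u := by
    by_cases hcase : ∃ (μ : F) (u : Fin n → F), Rat F₀ u ∧
        (h : Matrix (Fin n) (Fin n) F) *ᵥ (Pi.single m 1 : Fin n → F) = μ • u
    · obtain ⟨μ, u, hu, hμu⟩ := hcase
      refine ⟨Pi.single i 1 + Pi.single m 1, (Rat.single i F₀.one_mem).add
        (Rat.single m F₀.one_mem), ?_, ?_, ?_⟩
      · intro l hli hlm
        rw [Pi.add_apply, Pi.single_eq_of_ne hli, Pi.single_eq_of_ne hlm, add_zero]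
      · rw [Pi.add_apply, Pi.single_eq_of_ne hmi, Pi.single_eq_same, zero_add]
      · intro μ' u' hu' heq
        rw [Matrix.mulVec_add, hc, hμu] at heq
        have hμ0 : μ ≠ 0 := by
          intro h0
          rw [h0, zero_smul] at hμu
          exact col_ne_zero h (single_ne_zero' m) hμu
        -- a coordinate `b ≠ i` with `u b ≠ 0`
        obtain ⟨b, hbi, hub⟩ : ∃ b, b ≠ i ∧ u b ≠ 0 := by
          by_contra hcon
          push Not at hcon
          obtain ⟨a, hu_eq⟩ : ∃ a : F, u = a • (Pi.single i 1 : Fin n → F) := by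
            refine ⟨u i, ?_⟩
            funext l
            by_cases hl : l = i
            · rw [hl, Pi.smul_apply, Pi.single_eq_same, smul_eq_mul, mul_one]
            · rw [hcon l hl, Pi.smul_apply, Pi.single_eq_of_ne hl, smul_zero]
          have h3 : (h : Matrix (Fin n) (Fin n) F) *ᵥ
              ((Pi.single m 1 : Fin n → F) - (μ * a * c⁻¹) • (Pi.single i 1 : Fin n → F)) = 0 := by
            rw [Matrix.mulVec_sub, Matrix.mulVec_smul, hc, hμu, hu_eq, smul_smul, smul_smul]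
            have : μ * a * c⁻¹ * c = μ * a := by field_simp
            rw [this, sub_self]
          have h4 := congrFun (Cfsg.Agent.Lib.Helper28.SubF.gl_inj h h3) m
          rw [Pi.sub_apply, Pi.smul_apply, Pi.single_eq_same, Pi.single_eq_of_ne hmi,
            smul_zero, sub_zero] at h4
          exact one_ne_zero h4
        have eb := congrFun heq b
        have ei := congrFun heq i
        simp only [Pi.add_apply, Pi.smul_apply, Pi.single_eq_of_ne hbi, Pi.single_eq_same,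
          smul_eq_mul, mul_zero, zero_add, mul_one] at eb ei
        have hu'b : u' b ≠ 0 := by
          intro h0
          rw [h0, mul_zero] at eb
          exact (mul_ne_zero hμ0 hub) eb
        have hμ' : μ' = μ * u b / u' b := by
          field_simp
          exact eb.symm
        set ρ : F := u b / u' b * u' i - u i with hρ
        have hρm : ρ ∈ F₀ :=
          F₀.sub_mem (F₀.mul_mem (F₀.div_mem (hu b) (hu' b)) (hu' i)) (hu i)
        have hcρ : c = μ * ρ := by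
          have h9 : c = μ' * u' i - μ * u i := by linear_combination ei
          rw [h9, hμ', hρ]
          ring
        have hρ0 : ρ ≠ 0 := by
          intro h0
          rw [h0, mul_zero] at hcρ
          exact hc0 hcρ
        apply hm
        rw [hμu, smul_smul]
        have : c⁻¹ * μ = ρ⁻¹ := by
          rw [hcρ]
          field_simp
        rw [this]
        exact Rat.smul (F₀.inv_mem hρm) hu
    · push Not at hcase
      refine ⟨Pi.single m 1, Rat.single m F₀.one_mem, ?_, Pi.single_eq_same _ _, ?_⟩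
      · intro l _ hlm
        exact Pi.single_eq_of_ne hlm _
      · intro μ u hu
        exact hcase μ u hu
  have hv₂0 : v₂ ≠ 0 := by
    intro h0
    rw [h0] at hv₂m
    exact zero_ne_one hv₂m
  obtain ⟨g₁, hg₁, hg₁v⟩ := C.exists_good_map (by omega) i hv₂r hv₂0
  set w₂ : Fin n → F := (h : Matrix (Fin n) (Fin n) F) *ᵥ v₂ with hw₂
  have hg₁i : ((g₁⁻¹ : Matrix.GeneralLinearGroup (Fin n) F) : Matrix (Fin n) (Fin n) F) *ᵥ
      (Pi.single i 1 : Fin n → F) = v₂ := by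
    rw [← hg₁v, Cfsg.Agent.S5643.inv_mv]
  have hgen : ∀ φ : Fin n → F, Rat F₀ φ → φ ≠ 0 → φ ⬝ᵥ w₂ ≠ 0 := by
    intro φ hφ hφ0 h0
    have h5 : φ ⬝ᵥ (((h * g₁⁻¹ : Matrix.GeneralLinearGroup (Fin n) F) :
        Matrix (Fin n) (Fin n) F) *ᵥ (Pi.single i 1 : Fin n → F)) = 0 := by
      rw [Cfsg.Agent.S5643.mul_mv, hg₁i]
      exact h0
    obtain ⟨μ, u, hu, hμu⟩ := C.D hn hA (H.mul_mem hh (H.inv_mem hg₁.1)) i hφ hφ0 h5
    rw [Cfsg.Agent.S5643.mul_mv, hg₁i] at hμu
    exact hbad μ u hu hμu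
  obtain ⟨l, hli, hlm⟩ := exists_third hn i m
  set ψ : Fin n → F := (Pi.single l 1 : Fin n → F) ᵥ*
    ((h⁻¹ : Matrix.GeneralLinearGroup (Fin n) F) : Matrix (Fin n) (Fin n) F) with hψ
  have hlv : (Pi.single l 1 : Fin n → F) ⬝ᵥ v₂ = 0 := by
    rw [single_dotProduct, hv₂s l hli hlm, mul_zero]
  have hP : InP H w₂ ψ := (C.rat_inP hv₂r (Rat.single l F₀.one_mem) hlv).conj hh
  have hinv : ((h⁻¹ : Matrix.GeneralLinearGroup (Fin n) F) : Matrix (Fin n) (Fin n) F) *ᵥ
      (Pi.single i 1 : Fin n → F) = c⁻¹ • (Pi.single i 1 : Fin n → F) := by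
    have h6 : (Pi.single i 1 : Fin n → F) = c⁻¹ • ((h : Matrix (Fin n) (Fin n) F) *ᵥ
        (Pi.single i 1 : Fin n → F)) := by
      rw [hc, smul_smul, inv_mul_cancel₀ hc0, one_smul]
    conv_lhs => rw [h6]
    rw [Matrix.mulVec_smul, Cfsg.Agent.S5643.inv_mv]
  have hψi : ψ ⬝ᵥ (Pi.single i 1 : Fin n → F) = 0 := by
    rw [hψ, ← dotProduct_mulVec, hinv, dotProduct_smul, sd_ne hli, smul_zero]
  have hψw : ψ ⬝ᵥ w₂ = 0 := by
    rw [hψ, hw₂, ← dotProduct_mulVec, Cfsg.Agent.S5643.inv_mv]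
    exact hlv
  have hψ0 : ψ ≠ 0 := row_ne_zero h (single_ne_zero' l)
  have key : ∀ a, a ≠ i → Rat F₀ ((w₂ a) • ψ) := by
    intro a hai
    have h1 := InP.comm (C.rat_inP (Rat.single i F₀.one_mem) (Rat.single a F₀.one_mem)
      (sd_ne hai _ _)) hP (sd_ne hai _ _) hψw hψi
    rw [single_dotProduct, one_mul, InP.smul_iff] at h1
    apply C.T_center hn hA h1
    rw [Pi.smul_apply, smul_eq_mul]
    have : ψ i = 0 := by
      rw [← hψi, dotProduct_single, mul_one]
    rw [this, mul_zero]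
  obtain ⟨j, hj⟩ : ∃ j, ψ j ≠ 0 := by
    by_contra hcon
    push Not at hcon
    exact hψ0 (funext hcon)
  have hwl : w₂ l ≠ 0 := by
    have := hgen (Pi.single l 1) (Rat.single l F₀.one_mem) (single_ne_zero' l)
    rwa [single_dotProduct, one_mul] at this
  have h7 : w₂ m * ψ j ∈ F₀ := key m hmi j
  have h8 : w₂ l * ψ j ∈ F₀ := key l hli j
  set ρ : F := (w₂ m * ψ j) / (w₂ l * ψ j) with hρ
  have hρm : ρ ∈ F₀ := F₀.div_mem h7 h8
  have hρe : ρ * w₂ l = w₂ m := by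
    rw [hρ]
    field_simp
  apply hgen ((Pi.single m 1 : Fin n → F) - ρ • (Pi.single l 1 : Fin n → F))
    ((Rat.single m F₀.one_mem).sub (Rat.smul hρm (Rat.single l F₀.one_mem)))
  · intro h0
    have := congrFun h0 m
    rw [Pi.sub_apply, Pi.smul_apply, Pi.single_eq_same, Pi.single_eq_of_ne (Ne.symm hlm),
      smul_zero, sub_zero] at this
    exact one_ne_zero this
  · rw [sub_dotProduct, smul_dotProduct, single_dotProduct, single_dotProduct, one_mul, one_mul,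
      smul_eq_mul, hρe, sub_self]

/-- (GP): an element of `H` outside the subfield group maps coordinate vectors to vectors in
general position -/
theorem Ctx.GP (C : Ctx F₀ H) (hn : 3 ≤ n)
    (hA : ∀ i j : Fin n, i ≠ j → ∀ a, a ∈ AA H i j → a ∈ F₀)
    {h : Matrix.GeneralLinearGroup (Fin n) F} (hh : h ∈ H)
    (hnot : h ∉ Cfsg.Geo.subfieldSubgroup F₀ (1 : Matrix.GeneralLinearGroup (Fin n) F))
    (i : Fin n) {φ : Fin n → F} (hφ : Rat F₀ φ) (hφ0 : φ ≠ 0) :
    φ ⬝ᵥ ((h : Matrix (Fin n) (Fin n) F) *ᵥ (Pi.single i 1 : Fin n → F)) ≠ 0 := by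
  intro h0
  obtain ⟨c, u, hu, hcu⟩ := C.D hn hA hh i hφ hφ0 h0
  have hu0 : u ≠ 0 := by
    intro hu0
    rw [hu0, smul_zero] at hcu
    exact col_ne_zero h (single_ne_zero' i) hcu
  obtain ⟨g, hg, hgu⟩ := C.exists_good_map (by omega) i hu hu0
  have h1 : ((g * h : Matrix.GeneralLinearGroup (Fin n) F) : Matrix (Fin n) (Fin n) F) *ᵥ
      (Pi.single i 1 : Fin n → F) = c • (Pi.single i 1 : Fin n → F) := by
    rw [Cfsg.Agent.S5643.mul_mv, hcu, Matrix.mulVec_smul, hgu]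
  have h2 := C.GP0 hn hA (H.mul_mem hg.1 hh) h1
  apply hnot
  have h3 : h = g⁻¹ * (g * h) := by group
  rw [h3]
  exact Subgroup.mul_mem _ (Subgroup.inv_mem _ hg.mem_sub) h2

end Cfsg.Agent.Lib.Helper28.Sf
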