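import Cfsg.Agent.Lib.Helper28.SfD
import Cfsg.Agent.Lib.Helper28.SfE

set_option autoImplicit false

namespace Cfsg.Agent.Lib.Helper28.Sf

open Matrix

variable {n : ℕ} {F : Type*} [Field F] {F₀ : Subfield F}
  {H : Subgroup (Matrix.GeneralLinearGroup (Fin n) F)}

theorem IsTv.neg_iff {v r : Fin n → F} {g : Matrix.GeneralLinearGroup (Fin n) F} :
    IsTv (-v) r g ↔ IsTv v (-r) g := by
  have := IsTv.smul_iff (v := v) (r := r) (c := -1) (g := g)
  simpa using this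

theorem IsTv.det {v r : Fin n → F} {g : Matrix.GeneralLinearGroup (Fin n) F} (h : IsTv v r g) :
    (g : Matrix (Fin n) (Fin n) F).det = 1 + r ⬝ᵥ v := by
  have h1 : (g : Matrix (Fin n) (Fin n) F) = 1 + Matrix.vecMulVec v r := by
    rw [Matrix.ext_iff_mulVec]
    intro x
    rw [h x, Matrix.add_mulVec, Matrix.one_mulVec, Matrix.vecMulVec_mulVec]
    congr 1
    ext k
    simp [mul_comm]
  rw [h1, Matrix.vecMulVec_eq Unit, Matrix.det_one_add_replicateCol_mul_replicateRow]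

/-- the group of rational transvections with centre `e_i` -/
def Tx (F₀ : Subfield F) (i : Fin n) : Subgroup (Matrix.GeneralLinearGroup (Fin n) F) where
  carrier := {g | ∃ θ : Fin n → F, Rat F₀ θ ∧ θ i = 0 ∧ IsTv (Pi.single i 1) θ g}
  one_mem' := ⟨0, Rat.zero, rfl, isTv_one_right _⟩
  mul_mem' := by
    rintro a b ⟨θ, hθ, hθi, ha⟩ ⟨θ', hθ', hθ'i, hb⟩
    refine ⟨θ + θ', hθ.add hθ', by rw [Pi.add_apply, hθi, hθ'i, add_zero], ?_⟩
    exact ha.mul_center hb (by rw [dotProduct_single, hθi, zero_mul])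
  inv_mem' := by
    rintro a ⟨θ, hθ, hθi, ha⟩
    refine ⟨-θ, hθ.neg, by rw [Pi.neg_apply, hθi, neg_zero], ?_⟩
    rw [← IsTv.neg_iff]
    exact ha.inv (by rw [dotProduct_single, hθi, zero_mul])

theorem mem_Tx {i : Fin n} {g : Matrix.GeneralLinearGroup (Fin n) F} :
    g ∈ Tx F₀ i ↔ ∃ θ : Fin n → F, Rat F₀ θ ∧ θ i = 0 ∧ IsTv (Pi.single i 1) θ g := Iff.rfl

theorem Ctx.Tx_le (C : Ctx F₀ H) (i : Fin n) : Tx F₀ i ≤ H := by
  rintro g ⟨θ, hθ, hθi, hg⟩
  obtain ⟨g', hg', hT⟩ := C.rat_tv (Rat.single i F₀.one_mem) hθ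
    (by rw [dotProduct_single, hθi, zero_mul])
  rw [hg.unique hT]
  exact hg'.1

theorem Tx_fix {i : Fin n} {g : Matrix.GeneralLinearGroup (Fin n) F} (hg : g ∈ Tx F₀ i) :
    (g : Matrix (Fin n) (Fin n) F) *ᵥ (Pi.single i 1 : Fin n → F) = Pi.single i 1 := by
  obtain ⟨θ, _, hθi, hg⟩ := hg
  rw [hg _, dotProduct_single, hθi, zero_mul, zero_smul, add_zero]

theorem Tx_comm {i : Fin n} {a b : Matrix.GeneralLinearGroup (Fin n) F} (ha : a ∈ Tx F₀ i)
    (hb : b ∈ Tx F₀ i) : a * b = b * a := by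
  obtain ⟨θ, _, hθi, ha⟩ := ha
  obtain ⟨θ', _, hθ'i, hb⟩ := hb
  have h1 := ha.mul_center hb (by rw [dotProduct_single, hθi, zero_mul])
  have h2 := hb.mul_center ha (by rw [dotProduct_single, hθ'i, zero_mul])
  rw [add_comm] at h2
  exact h1.unique h2

theorem IsTv.pow {v r : Fin n → F} {g : Matrix.GeneralLinearGroup (Fin n) F} (h : IsTv v r g)
    (hrv : r ⬝ᵥ v = 0) (k : ℕ) : IsTv v (k • r) (g ^ k) := by
  induction k with
  | zero =>
    rw [pow_zero, zero_smul]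
    exact isTv_one_right v
  | succ k ih =>
    rw [pow_succ, succ_nsmul]
    exact ih.mul_center h (by rw [smul_dotProduct, hrv, smul_zero])

theorem Tx_pgroup (p : ℕ) [Fact p.Prime] [CharP F p] (i : Fin n) : IsPGroup p (Tx F₀ i) := by
  rintro ⟨g, θ, hθ, hθi, hg⟩
  refine ⟨1, ?_⟩
  apply Subtype.ext
  rw [pow_one]
  show g ^ p = 1
  have h1 := hg.pow (by rw [dotProduct_single, hθi, zero_mul]) p
  have h2 : (p • θ : Fin n → F) = 0 := by
    funext k
    rw [Pi.smul_apply, nsmul_eq_mul, CharP.cast_eq_zero F p, zero_mul]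
    rfl
  rw [h2] at h1
  exact h1.unique (isTv_one_right _)

/-- a basic element of `Tx` -/
theorem Ctx.exists_tx (C : Ctx F₀ H) {i j : Fin n} (hji : j ≠ i) :
    ∃ t, t ∈ Tx F₀ i ∧ IsTv (Pi.single i 1 : Fin n → F) (Pi.single j 1) t := by
  obtain ⟨t, _, hT⟩ := C.rat_tv (v := Pi.single i 1) (r := Pi.single j 1)
    (Rat.single i F₀.one_mem) (Rat.single j F₀.one_mem) (sd_ne hji _ _)
  exact ⟨t, ⟨Pi.single j 1, Rat.single j F₀.one_mem, Pi.single_eq_of_ne hji.symm _, hT⟩, hT⟩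

theorem IsTv.functional_unique {v r r' : Fin n → F} {g : Matrix.GeneralLinearGroup (Fin n) F}
    (h : IsTv v r g) (h' : IsTv v r' g) (hv : v ≠ 0) : r = r' := by
  apply dotProduct_eq
  intro x
  have := (h x).symm.trans (h' x)
  have h2 : (r ⬝ᵥ x) • v = (r' ⬝ᵥ x) • v := add_left_cancel this
  obtain ⟨k, hk⟩ : ∃ k, v k ≠ 0 := by
    by_contra hcon
    push Not at hcon
    exact hv (funext hcon)
  have h3 := congrFun h2 k
  simp only [Pi.smul_apply, smul_eq_mul] at h3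
  exact mul_right_cancel₀ hk h3

theorem Ctx.Tx_not_cyclic (C : Ctx F₀ H) (hn : 3 ≤ n) (i : Fin n) : ¬ IsCyclic (Tx F₀ i) := by
  intro hcyc
  obtain ⟨⟨g, hgT⟩, hgen⟩ := hcyc.exists_generator
  obtain ⟨j, hji⟩ := exists_ne (by omega) i
  obtain ⟨k, hki, hkj⟩ := exists_third hn i j
  obtain ⟨θ, hθ, hθi, hg⟩ := hgT
  have hrv : θ ⬝ᵥ (Pi.single i 1 : Fin n → F) = 0 := by rw [dotProduct_single, hθi, zero_mul]
  have key : ∀ l, l ≠ i → ∃ m : ℤ, (Pi.single l 1 : Fin n → F) = (m : F) • θ := by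
    intro l hli
    obtain ⟨t, ht, hT⟩ := C.exists_tx (F₀ := F₀) (H := H) hli
    obtain ⟨m, hm⟩ := Subgroup.mem_zpowers_iff.mp (hgen ⟨t, ht⟩)
    have hm' : g ^ m = t := congrArg Subtype.val hm
    refine ⟨m, ?_⟩
    have h1 : IsTv (Pi.single i 1 : Fin n → F) ((m : F) • θ) (g ^ m) := by
      rcases Int.eq_nat_or_neg m with ⟨k, rfl | rfl⟩
      · rw [zpow_natCast, Int.cast_natCast, Nat.cast_smul_eq_nsmul]
        exact hg.pow hrv k
      · rw [_root_.zpow_neg, zpow_natCast, Int.cast_neg, Int.cast_natCast, neg_smul,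
          Nat.cast_smul_eq_nsmul, ← IsTv.neg_iff]
        exact (hg.pow hrv k).inv (by rw [smul_dotProduct, hrv, smul_zero])
    rw [hm'] at h1
    exact hT.functional_unique h1 (single_ne_zero' i)
  obtain ⟨m₁, h1⟩ := key j hji
  obtain ⟨m₂, h2⟩ := key k hki
  have a1 := congrFun h1 j
  have a2 := congrFun h1 k
  have b2 := congrFun h2 k
  simp only [Pi.smul_apply, smul_eq_mul, Pi.single_eq_same, Pi.single_eq_of_ne hkj] at a1 a2 b2
  have hm₁ : (m₁ : F) ≠ 0 := by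
    intro h0
    rw [h0, zero_mul] at a1
    exact one_ne_zero a1
  have hθk : θ k = 0 := by
    rcases mul_eq_zero.mp a2.symm with h | h
    · exact absurd h hm₁
    · exact h
  rw [hθk, mul_zero] at b2
  exact one_ne_zero b2

/-- the group of maps moving every vector inside `x + span {e, w}` -/
def SPi (e w : Fin n → F) : Subgroup (Matrix.GeneralLinearGroup (Fin n) F) where
  carrier := {g | (∀ x, ∃ α β : F, (g : Matrix (Fin n) (Fin n) F) *ᵥ x = x + α • e + β • w) ∧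
    ∀ x, ∃ α β : F, ((g⁻¹ : Matrix.GeneralLinearGroup (Fin n) F) :
      Matrix (Fin n) (Fin n) F) *ᵥ x = x + α • e + β • w}
  one_mem' := by
    refine ⟨fun x => ⟨0, 0, by simp⟩, fun x => ⟨0, 0, by simp⟩⟩
  mul_mem' := by
    rintro a b ⟨ha, ha'⟩ ⟨hb, hb'⟩
    refine ⟨fun x => ?_, fun x => ?_⟩
    · obtain ⟨α, β, h1⟩ := hb x
      obtain ⟨α', β', h2⟩ := ha ((b : Matrix (Fin n) (Fin n) F) *ᵥ x)
      refine ⟨α + α', β + β', ?_⟩
      rw [Cfsg.Agent.S5643.mul_mv, h2, h1]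
      module
    · obtain ⟨α, β, h1⟩ := ha' x
      obtain ⟨α', β', h2⟩ := hb' (((a⁻¹ : Matrix.GeneralLinearGroup (Fin n) F) :
        Matrix (Fin n) (Fin n) F) *ᵥ x)
      refine ⟨α + α', β + β', ?_⟩
      rw [_root_.mul_inv_rev, Cfsg.Agent.S5643.mul_mv, h2, h1]
      module
  inv_mem' := by
    rintro a ⟨ha, ha'⟩
    refine ⟨ha', ?_⟩
    rw [inv_inv]
    exact ha

theorem exists_two (hn : 4 ≤ n) (i j : Fin n) :
    ∃ a b : Fin n, a ≠ i ∧ a ≠ j ∧ b ≠ i ∧ b ≠ j ∧ a ≠ b := by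
  obtain ⟨a, hai, haj⟩ := exists_third (by omega) i j
  by_contra hcon
  push Not at hcon
  have h1 : ∀ k : Fin n, k = i ∨ k = j ∨ k = a := fun k => by
    by_cases hki : k = i
    · exact Or.inl hki
    · by_cases hkj : k = j
      · exact Or.inr (Or.inl hkj)
      · exact Or.inr (Or.inr ((hcon a k hai haj hki hkj).symm))
  have h2 : (Finset.univ : Finset (Fin n)) ⊆ {i, j, a} := by
    intro k _
    rcases h1 k with h | h | h <;> simp [h]
  have h3 := Finset.card_le_card h2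
  rw [Finset.card_univ, Fintype.card_fin] at h3
  have h4 : ({i, j, a} : Finset (Fin n)).card ≤ 3 := Finset.card_le_three
  omega

end Cfsg.Agent.Lib.Helper28.Sf
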