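import Cfsg.Agent.Lib.Helper28.SfF
import Cfsg.Agent.Lib.Helper28.Transport

set_option autoImplicit false

namespace Cfsg.Agent.Lib.Helper28.Sf

open Matrix

variable {n : ℕ} {F : Type*} [Field F] {F₀ : Subfield F}
  {H : Subgroup (Matrix.GeneralLinearGroup (Fin n) F)}

theorem sum_single_mul (x : Fin n → F) (a : Fin n) :
    ∑ m, (Pi.single m (1 : F) : Fin n → F) a * x m = x a := by
  simp [Pi.single_apply]

/-- (P2): an element of `K` fixing the line of `e_i` is a rational transvection with centre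
`e_i`. -/
theorem Ctx.P2 (C : Ctx F₀ H) (hn : 4 ≤ n)
    (hA : ∀ i j : Fin n, i ≠ j → ∀ a, a ∈ AA H i j → a ∈ F₀) (i : Fin n) {w : Fin n → F}
    (hGPw : ∀ φ : Fin n → F, Rat F₀ φ → φ ≠ 0 → φ ⬝ᵥ w ≠ 0)
    {k : Matrix.GeneralLinearGroup (Fin n) F} (hkH : k ∈ H)
    (hkS : k ∈ SPi (Pi.single i 1 : Fin n → F) w) {τ : F}
    (hkτ : (k : Matrix (Fin n) (Fin n) F) *ᵥ (Pi.single i 1 : Fin n → F) =
      τ • (Pi.single i 1 : Fin n → F)) : k ∈ Tx F₀ i := by
  have hn3 : 3 ≤ n := by omega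
  have hkM : k ∈ Cfsg.Geo.subfieldSubgroup F₀ (1 : Matrix.GeneralLinearGroup (Fin n) F) := by
    by_contra hkn
    obtain ⟨j, hji⟩ := exists_ne (by omega) i
    have := C.GP hn3 hA hkH hkn i (Rat.single j F₀.one_mem) (single_ne_zero' j)
    apply this
    rw [hkτ, dotProduct_smul, sd_ne hji, smul_zero]
  obtain ⟨c, hc0, hrat⟩ := rat_of_mem_sub_one hkM
  have hcol : ∀ j, j ≠ i → ∃ α : F, (k : Matrix (Fin n) (Fin n) F) *ᵥ
      (Pi.single j 1 : Fin n → F) = Pi.single j 1 + α • (Pi.single i 1 : Fin n → F) := by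
    intro j hji
    obtain ⟨α, β, hαβ⟩ := hkS.1 (Pi.single j 1)
    have hβ : β = 0 := by
      by_contra hβ0
      obtain ⟨a, b, hai, haj, hbi, hbj, hab⟩ := exists_two hn i j
      have hr := hrat _ (Rat.single j (F₀.one_mem))
      have ha := hr a
      have hb := hr b
      rw [hαβ] at ha hb
      simp only [Pi.smul_apply, Pi.add_apply, Pi.single_eq_of_ne haj, Pi.single_eq_of_ne hai,
        Pi.single_eq_of_ne hbj, Pi.single_eq_of_ne hbi, smul_eq_mul, mul_zero, zero_add] at ha hb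
      have hwb : w b ≠ 0 := by
        have := hGPw (Pi.single b 1) (Rat.single b F₀.one_mem) (single_ne_zero' b)
        rwa [single_dotProduct, one_mul] at this
      set ρ : F := (c⁻¹ * (β * w a)) / (c⁻¹ * (β * w b)) with hρ
      have hρm : ρ ∈ F₀ := F₀.div_mem ha hb
      have hρe : ρ * w b = w a := by
        rw [hρ]
        field_simp
      apply hGPw ((Pi.single a 1 : Fin n → F) - ρ • (Pi.single b 1 : Fin n → F))
        ((Rat.single a F₀.one_mem).sub (Rat.smul hρm (Rat.single b F₀.one_mem)))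
      · intro h0
        have := congrFun h0 a
        rw [Pi.sub_apply, Pi.smul_apply, Pi.single_eq_same, Pi.single_eq_of_ne hab,
          smul_zero, sub_zero] at this
        exact one_ne_zero this
      · rw [sub_dotProduct, smul_dotProduct, single_dotProduct, single_dotProduct, one_mul,
          one_mul, smul_eq_mul, hρe, sub_self]
    refine ⟨α, ?_⟩
    rw [hαβ, hβ, zero_smul, add_zero]
  have hrow : ∀ a, a ≠ i → ∀ j, ((k : Matrix (Fin n) (Fin n) F) *ᵥ
      (Pi.single j 1 : Fin n → F)) a = (Pi.single j 1 : Fin n → F) a := by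
    intro a hai j
    by_cases hji : j = i
    · rw [hji, hkτ, Pi.smul_apply, Pi.single_eq_of_ne hai, smul_zero]
    · obtain ⟨α, hα⟩ := hcol j hji
      rw [hα, Pi.add_apply, Pi.smul_apply, Pi.single_eq_of_ne hai, smul_zero, add_zero]
  set θ : Fin n → F := fun j => ((k : Matrix (Fin n) (Fin n) F) *ᵥ
    (Pi.single j 1 : Fin n → F)) i - (Pi.single j 1 : Fin n → F) i with hθdef
  have hTv : IsTv (Pi.single i 1 : Fin n → F) θ k := by
    intro x
    funext a
    rw [mulVec_eq_sum]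
    by_cases hai : a = i
    · rw [hai, Pi.add_apply, Pi.smul_apply, Pi.single_eq_same, smul_eq_mul, mul_one]
      have : θ ⬝ᵥ x = ∑ m, ((k : Matrix (Fin n) (Fin n) F) *ᵥ
          (Pi.single m 1 : Fin n → F)) i * x m - x i := by
        unfold dotProduct
        simp only [hθdef, sub_mul]
        rw [Finset.sum_sub_distrib, sum_single_mul]
      rw [this]
      ring
    · simp_rw [hrow a hai]
      rw [sum_single_mul, Pi.add_apply, Pi.smul_apply, Pi.single_eq_of_ne hai, smul_zero,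
        add_zero]
  have hdet : (k : Matrix (Fin n) (Fin n) F).det = 1 :=
    (Cfsg.Agent.Lib.Helper28.Transport.mem_SL_iff k).mp (C.le_SL hkH)
  have hθi : θ i = 0 := by
    have h1 := hTv.det
    rw [hdet, dotProduct_single, mul_one] at h1
    linear_combination -h1
  have hP : InP H (Pi.single i 1 : Fin n → F) θ := ⟨k, hkH, hTv⟩
  exact ⟨θ, C.T_center hn3 hA hP hθi, hθi, hTv⟩

/-- Step 2: under the hypothesis `A = F₀`, the group `H` is contained in the subfield group. -/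
theorem Ctx.step2 [Fintype F] (p : ℕ) [Fact p.Prime] [CharP F p] (C : Ctx F₀ H) (hn : 4 ≤ n)
    (hA : ∀ i j : Fin n, i ≠ j → ∀ a, a ∈ AA H i j → a ∈ F₀)
    {h : Matrix.GeneralLinearGroup (Fin n) F} (hh : h ∈ H) :
    h ∈ Cfsg.Geo.subfieldSubgroup F₀ (1 : Matrix.GeneralLinearGroup (Fin n) F) := by
  classical
  by_contra hnot
  have hn3 : 3 ≤ n := by omega
  obtain ⟨i⟩ : Nonempty (Fin n) := ⟨⟨0, by omega⟩⟩
  set w : Fin n → F := (h : Matrix (Fin n) (Fin n) F) *ᵥ (Pi.single i 1 : Fin n → F) with hw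
  have hGPw : ∀ φ : Fin n → F, Rat F₀ φ → φ ≠ 0 → φ ⬝ᵥ w ≠ 0 :=
    fun φ hφ hφ0 => C.GP hn3 hA hh hnot i hφ hφ0
  set T := Tx F₀ i with hTdef
  set Ty := T.map (MulAut.conj h).toMonoidHom with hTydef
  set K := T ⊔ Ty with hKdef
  have hTH : T ≤ H := C.Tx_le i
  have hTyH : Ty ≤ H := by
    rintro _ ⟨t, ht, rfl⟩
    exact H.mul_mem (H.mul_mem hh (hTH ht)) (H.inv_mem hh)
  have hKH : K ≤ H := sup_le hTH hTyH
  have hTS : T ≤ SPi (Pi.single i 1 : Fin n → F) w := by
    rintro g ⟨θ, hθ, hθi, hg⟩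
    have hrv : θ ⬝ᵥ (Pi.single i 1 : Fin n → F) = 0 := by rw [dotProduct_single, hθi, zero_mul]
    refine ⟨fun x => ⟨θ ⬝ᵥ x, 0, ?_⟩, fun x => ⟨-(θ ⬝ᵥ x), 0, ?_⟩⟩
    · rw [hg x, zero_smul, add_zero]
    · rw [(hg.inv hrv) x, zero_smul, add_zero, smul_neg, neg_smul]
  have hTyS : Ty ≤ SPi (Pi.single i 1 : Fin n → F) w := by
    rintro _ ⟨t, ⟨θ, hθ, hθi, hg⟩, rfl⟩
    have hrv : θ ⬝ᵥ (Pi.single i 1 : Fin n → F) = 0 := by rw [dotProduct_single, hθi, zero_mul]
    have h1 : IsTv w (θ ᵥ* ((h⁻¹ : Matrix.GeneralLinearGroup (Fin n) F) :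
        Matrix (Fin n) (Fin n) F)) (h * t * h⁻¹) := hg.conj h
    have hrv' : (θ ᵥ* ((h⁻¹ : Matrix.GeneralLinearGroup (Fin n) F) :
        Matrix (Fin n) (Fin n) F)) ⬝ᵥ w = 0 := by
      rw [hw, ← dotProduct_mulVec, Cfsg.Agent.S5643.inv_mv, hrv]
    refine ⟨fun x => ⟨0, (θ ᵥ* ((h⁻¹ : Matrix.GeneralLinearGroup (Fin n) F) :
        Matrix (Fin n) (Fin n) F)) ⬝ᵥ x, ?_⟩, fun x => ⟨0, -((θ ᵥ*
        ((h⁻¹ : Matrix.GeneralLinearGroup (Fin n) F) : Matrix (Fin n) (Fin n) F)) ⬝ᵥ x), ?_⟩⟩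
    · show ((h * t * h⁻¹ : Matrix.GeneralLinearGroup (Fin n) F) :
        Matrix (Fin n) (Fin n) F) *ᵥ x = _
      rw [h1 x, zero_smul, add_zero]
    · show (((h * t * h⁻¹)⁻¹ : Matrix.GeneralLinearGroup (Fin n) F) :
        Matrix (Fin n) (Fin n) F) *ᵥ x = _
      rw [(h1.inv hrv') x, zero_smul, add_zero, smul_neg, ← neg_smul]
  have hKS : K ≤ SPi (Pi.single i 1 : Fin n → F) w := sup_le hTS hTyS
  have P2 : ∀ k ∈ K, ∀ τ : F, (k : Matrix (Fin n) (Fin n) F) *ᵥ (Pi.single i 1 : Fin n → F) =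
      τ • (Pi.single i 1 : Fin n → F) → k ∈ T :=
    fun k hk τ hkτ => C.P2 hn hA i hGPw (hKH hk) (hKS hk) hkτ
  -- (P4): the normalizer of `T` in `K` is `T`
  have P4 : ∀ g ∈ K, (∀ t ∈ T, g * t * g⁻¹ ∈ T) → g ∈ T := by
    intro g hgK hnorm
    set y : Fin n → F := ((g⁻¹ : Matrix.GeneralLinearGroup (Fin n) F) :
      Matrix (Fin n) (Fin n) F) *ᵥ (Pi.single i 1 : Fin n → F) with hy
    have hyj : ∀ j, j ≠ i → y j = 0 := by
      intro j hji
      obtain ⟨t, ht, hT⟩ := C.exists_tx (F₀ := F₀) (H := H) hji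
      have h1 := Tx_fix (hnorm t ht)
      rw [Cfsg.Agent.S5643.mul_mv, Cfsg.Agent.S5643.mul_mv] at h1
      have h2 : (t : Matrix (Fin n) (Fin n) F) *ᵥ y = y := by
        have := congrArg (fun z => ((g⁻¹ : Matrix.GeneralLinearGroup (Fin n) F) :
          Matrix (Fin n) (Fin n) F) *ᵥ z) h1
        simp only [Cfsg.Agent.S5643.inv_mv] at this
        exact this
      rw [hT y, single_dotProduct, one_mul] at h2
      have h3 : (y j) • (Pi.single i 1 : Fin n → F) = 0 := by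
        have := h2
        rwa [add_eq_left] at this
      have h4 := congrFun h3 i
      rwa [Pi.smul_apply, Pi.single_eq_same, smul_eq_mul, mul_one] at h4
    have hyeq : y = (y i) • (Pi.single i 1 : Fin n → F) := by
      funext l
      by_cases hl : l = i
      · rw [hl, Pi.smul_apply, Pi.single_eq_same, smul_eq_mul, mul_one]
      · rw [hyj l hl, Pi.smul_apply, Pi.single_eq_of_ne hl, smul_zero]
    have := P2 g⁻¹ (K.inv_mem hgK) (y i) hyeq
    have h5 := T.inv_mem this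
    rwa [inv_inv] at h5
  -- (F): centralizers of non-identity elements of `T` lie in `T`
  have PF : ∀ g ∈ K, ∀ a ∈ T, a ≠ 1 → g * a = a * g → g ∈ T := by
    intro g hgK a haT ha1 hcomm
    obtain ⟨θ, hθ, hθi, ha⟩ := haT
    have hθ0 : θ ≠ 0 := by
      intro h0
      apply ha1
      rw [h0] at ha
      exact ha.unique (isTv_one_right _)
    obtain ⟨α, β, hαβ⟩ := (hKS hgK).1 (Pi.single i 1)
    have h1 : (a : Matrix (Fin n) (Fin n) F) *ᵥ ((g : Matrix (Fin n) (Fin n) F) *ᵥ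
        (Pi.single i 1 : Fin n → F)) = (g : Matrix (Fin n) (Fin n) F) *ᵥ
        (Pi.single i 1 : Fin n → F) := by
      rw [← Cfsg.Agent.S5643.mul_mv, ← hcomm, Cfsg.Agent.S5643.mul_mv, ha _, dotProduct_single,
        hθi, zero_mul, zero_smul, add_zero]
    rw [ha _, add_eq_left] at h1
    have h2 := congrFun h1 i
    rw [Pi.smul_apply, Pi.single_eq_same, smul_eq_mul, mul_one, Pi.zero_apply] at h2
    rw [hαβ, dotProduct_add, dotProduct_add, dotProduct_smul, dotProduct_smul, dotProduct_single,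
      hθi, zero_mul, smul_zero, add_zero, zero_add, smul_eq_mul] at h2
    have hβ : β = 0 := by
      rcases mul_eq_zero.mp h2 with h | h
      · exact h
      · exact absurd h (hGPw θ hθ hθ0)
    apply P2 g hgK (1 + α)
    rw [hαβ, hβ, zero_smul, add_zero, add_smul, one_smul]
  -- apply the Frobenius argument inside `K`
  have hTK : T ≤ K := le_sup_left
  have hTyK : Ty ≤ K := le_sup_right
  have hfin : Finite K := inferInstance
  have hall := frob_ab (G := K) p (T.subgroupOf K) ((Tx_pgroup p i).comap_subtype)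
    (fun a ha b hb => Subtype.ext (Tx_comm ha hb))
    (fun hcyc => C.Tx_not_cyclic hn3 i
      ((Subgroup.subgroupOfEquivOfLe hTK).isCyclic.mp hcyc))
    (fun g hg => P4 g.1 g.2 (fun t ht => by
      have := hg ⟨t, hTK ht⟩ ht
      exact this))
    (fun g a ha ha1 hcomm => PF g.1 g.2 a.1 ha (fun h1 => ha1 (Subtype.ext h1))
      (congrArg Subtype.val hcomm))
  -- a conjugate transvection lies in `K`, hence in `T`: contradiction
  obtain ⟨j, hji⟩ := exists_ne (by omega) i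
  obtain ⟨t, ht, hT⟩ := C.exists_tx (F₀ := F₀) (H := H) hji
  have hyK : h * t * h⁻¹ ∈ K := hTyK ⟨t, ht, rfl⟩
  have hyT : h * t * h⁻¹ ∈ T := hall ⟨_, hyK⟩
  have h1 := Tx_fix hyT
  rw [Cfsg.Agent.S5643.mul_mv, Cfsg.Agent.S5643.mul_mv] at h1
  have h2 := congrArg (fun z => ((h⁻¹ : Matrix.GeneralLinearGroup (Fin n) F) :
    Matrix (Fin n) (Fin n) F) *ᵥ z) h1
  simp only [Cfsg.Agent.S5643.inv_mv] at h2
  rw [hT _, add_eq_left] at h2
  have h3 := congrFun h2 i
  rw [Pi.smul_apply, Pi.single_eq_same, smul_eq_mul, mul_one, Pi.zero_apply] at h3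
  have hinvnot : h⁻¹ ∉ Cfsg.Geo.subfieldSubgroup F₀ (1 : Matrix.GeneralLinearGroup (Fin n) F) :=
    fun hmem => hnot (by simpa using Subgroup.inv_mem _ hmem)
  exact C.GP hn3 hA (H.inv_mem hh) hinvnot i (Rat.single j F₀.one_mem) (single_ne_zero' j) h3

end Cfsg.Agent.Lib.Helper28.Sf
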