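import Cfsg.Agent.Lib.Helper28.SympAbs
import Cfsg.Agent.Lib.Helper28.OsH
import Cfsg.Agent.Lib.Helper28.DecGen

set_option autoImplicit false

open Cfsg

/-! Subfield subgroups of symplectic groups: basic rational geometry. -/

namespace Cfsg.Agent.Lib.Helper28.Ss

open Matrix Cfsg.Agent.Lib.Helper28.Sf Cfsg.Agent.Lib.Helper28.SympAbs
  Cfsg.Agent.Lib.Helper28.Os

variable {n : ℕ} {F : Type*} [Field F] {F₀ : Subfield F} {f : (Fin n → F) → (Fin n → F) → F}

theorem f_add_left (hf : Cfsg.Geo.IsSymplecticForm f) (x y v : Fin n → F) :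
    f (x + y) v = f x v + f y v := hf.bilinear.add_left x y v

theorem f_add_right (hf : Cfsg.Geo.IsSymplecticForm f) (v x y : Fin n → F) :
    f v (x + y) = f v x + f v y := hf.bilinear.add_right v x y

theorem f_smul_left (hf : Cfsg.Geo.IsSymplecticForm f) (c : F) (x v : Fin n → F) :
    f (c • x) v = c * f x v := hf.bilinear.smul_left c x v

theorem f_smul_right (hf : Cfsg.Geo.IsSymplecticForm f) (c : F) (v x : Fin n → F) :
    f v (c • x) = c * f v x := hf.bilinear.smul_right c v x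

theorem f_swap_zero (hf : Cfsg.Geo.IsSymplecticForm f) {x y : Fin n → F} (h : f x y = 0) :
    f y x = 0 := by rw [hf.skew, h, neg_zero]

theorem f_swap_one (hf : Cfsg.Geo.IsSymplecticForm f) {x y : Fin n → F} (h : f x y = 1) :
    f y x = -1 := by rw [hf.skew, h]

/-- a symplectic form taking values in `F₀` on rational vectors -/
structure SB (F₀ : Subfield F) (f : (Fin n → F) → (Fin n → F) → F) : Prop where
  hf : Cfsg.Geo.IsSymplecticForm f
  rat : ∀ x y : Fin n → F, Rat F₀ x → Rat F₀ y → f x y ∈ F₀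

theorem SB.rho_rat (C : SB F₀ f) {u : Fin n → F} (hu : Rat F₀ u) : Rat F₀ (rho f u) :=
  fun i => C.rat _ _ (Rat.single i F₀.one_mem) hu

/-- for rational `a`, `f(x, a)` commutes with coordinatewise functionals -/
theorem SB.f_ratl_left (C : SB F₀ f) (ψ : F →ₗ[F₀] F₀) {a : Fin n → F} (ha : Rat F₀ a)
    (x : Fin n → F) : f (ratl ψ x) a = ((ψ (f x a) : F₀) : F) := by
  rw [f_eq_dot C.hf, dot_ratl ψ (C.rho_rat ha), ← f_eq_dot C.hf]

theorem SB.f_ratl (C : SB F₀ f) (ψ : F →ₗ[F₀] F₀) {a : Fin n → F} (ha : Rat F₀ a)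
    (x : Fin n → F) : f a (ratl ψ x) = ((ψ (f a x) : F₀) : F) := by
  rw [C.hf.skew, C.f_ratl_left ψ ha, C.hf.skew a x, map_neg]
  simp

/-- every linear functional is of the form `f(·, y)` -/
theorem riesz (hf : Cfsg.Geo.IsSymplecticForm f) (φ : (Fin n → F) →ₗ[F] F) :
    ∃ y : Fin n → F, ∀ x, f x y = φ x := by
  obtain ⟨y, hy⟩ := rho_surj hf (fun i => φ (Pi.single i 1))
  refine ⟨y, fun x => ?_⟩
  rw [hy]
  have hx : x = ∑ i, x i • (Pi.single i (1 : F) : Fin n → F) := by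
    ext j
    simp [Finset.sum_apply, Pi.single_apply]
  conv_rhs => rw [hx]
  rw [map_sum]
  unfold dotProduct
  apply Finset.sum_congr rfl
  intro i _
  rw [map_smul, smul_eq_mul, mul_comm]

theorem dperp (hf : Cfsg.Geo.IsSymplecticForm f) (S : Submodule F (Fin n → F)) (z : Fin n → F)
    (hz : z ∉ S) : ∃ y : Fin n → F, (∀ s ∈ S, f s y = 0) ∧ f z y ≠ 0 := by
  obtain ⟨φ, hφz, hφS⟩ := Submodule.exists_le_ker_of_notMem hz
  obtain ⟨y, hy⟩ := riesz hf φ
  refine ⟨y, fun s hs => ?_, ?_⟩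
  · rw [hy]
    exact hφS hs
  · rw [hy]
    exact hφz

/-- a rational vector with prescribed pairing -/
theorem SB.ex_rat_dual (C : SB F₀ f) {k : ℕ} (a : Fin k → (Fin n → F))
    (ha : ∀ j, Rat F₀ (a j)) {w : Fin n → F} (hw : Rat F₀ w)
    (hwa : w ∉ Submodule.span F (Set.range a)) :
    ∃ y, Rat F₀ y ∧ (∀ j, f (a j) y = 0) ∧ f w y = 1 := by
  have hf := C.hf
  obtain ⟨φ, hφ⟩ := exists_retr F₀
  obtain ⟨y', hy'S, hy'w⟩ := dperp hf _ w hwa
  obtain ⟨y'', hy''⟩ : ∃ y'' : Fin n → F, y'' = (f w y')⁻¹ • y' := ⟨_, rfl⟩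
  refine ⟨ratl φ y'', ratl_rat _ _, fun j => ?_, ?_⟩
  · rw [C.f_ratl φ (ha j), hy'', f_smul_right hf, hy'S _ (Submodule.subset_span ⟨j, rfl⟩),
      mul_zero, map_zero]
    rfl
  · rw [C.f_ratl φ hw, hy'', f_smul_right hf, inv_mul_cancel₀ hy'w]
    have := hφ 1
    simp only [Subfield.coe_one] at this
    rw [this]
    rfl

/-- a rational vector orthogonal to, and independent of, `k` given rational vectors, when
`2k + 1 ≤ n`. -/
theorem SB.ex_rs (C : SB F₀ f) {k : ℕ} (a : Fin k → (Fin n → F))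
    (ha : ∀ j, Rat F₀ (a j)) (hk : 2 * k + 1 ≤ n) :
    ∃ x, Rat F₀ x ∧ (∀ j, f (a j) x = 0) ∧ x ∉ Submodule.span F (Set.range a) := by
  classical
  have hf := C.hf
  obtain ⟨a₀, ha₀⟩ : ∃ a₀ : Fin k → (Fin n → F₀), a₀ = fun j i => ⟨a j i, ha j i⟩ := ⟨_, rfl⟩
  have ha₀i : ∀ j, incl F₀ n (a₀ j) = a j := fun j => by rw [ha₀]; rfl
  let L : (Fin n → F₀) →ₗ[F₀] (Fin k → F₀) :=
    { toFun := fun x j => ⟨f (a j) (incl F₀ n x), C.rat _ _ (ha j) (incl_rat x)⟩
      map_add' := by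
        intro x y
        funext j
        apply Subtype.ext
        simp only [map_add, Pi.add_apply, Subfield.coe_add]
        exact f_add_right hf _ _ _
      map_smul' := by
        intro c x
        funext j
        apply Subtype.ext
        simp only [RingHom.id_apply, Pi.smul_apply, smul_eq_mul, Subfield.coe_mul]
        rw [incl_smul, f_smul_right hf] }
  obtain ⟨R₀, hR₀⟩ : ∃ R₀, R₀ = LinearMap.ker L := ⟨_, rfl⟩
  obtain ⟨S₀, hS₀⟩ : ∃ S₀, S₀ = Submodule.span F₀ (Set.range a₀) := ⟨_, rfl⟩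
  have hR₀d : n ≤ Module.finrank F₀ R₀ + k := by
    have h1 := LinearMap.finrank_range_add_finrank_ker L
    rw [Module.finrank_fin_fun, ← hR₀] at h1
    have h2 : Module.finrank F₀ (LinearMap.range L) ≤ k := by
      have := Submodule.finrank_le (LinearMap.range L)
      rwa [Module.finrank_fin_fun] at this
    omega
  have hS₀d : Module.finrank F₀ S₀ ≤ k := by
    rw [hS₀]
    have := finrank_range_le_card (R := F₀) a₀
    rwa [Fintype.card_fin] at this
  -- a vector of `R₀` outside `S₀`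
  have hex : ∃ y₀ : Fin n → F₀, y₀ ∈ R₀ ∧ y₀ ∉ S₀ := by
    by_contra hcon
    push Not at hcon
    have hle : R₀ ≤ S₀ := fun y hy => hcon y hy
    have := Submodule.finrank_mono hle
    omega
  obtain ⟨y₀, hy₀R, hy₀S⟩ := hex
  refine ⟨incl F₀ n y₀, incl_rat _, ?_, ?_⟩
  · intro j
    rw [hR₀, LinearMap.mem_ker] at hy₀R
    have := congrArg (fun v : Fin k → F₀ => ((v j : F₀) : F)) hy₀R
    simpa [L] using this
  · intro hmem
    apply hy₀S
    obtain ⟨φ, hφ⟩ := exists_retr F₀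
    obtain ⟨c, hc⟩ := (Submodule.mem_span_range_iff_exists_fun F).mp hmem
    have h5 : incl F₀ n y₀ = ∑ j, ((φ (c j) : F₀) : F) • a j := by
      have h6 := ratl_of_rat hφ (incl_rat y₀)
      rw [← h6, ← hc, ratl_sum]
      apply Finset.sum_congr rfl
      intro j _
      rw [ratl_smul_of_rat φ (ha j)]
    have h7 : y₀ = ∑ j, φ (c j) • a₀ j := by
      apply incl_injective
      rw [h5, map_sum]
      apply Finset.sum_congr rfl
      intro j _
      rw [incl_smul, ha₀i]
    rw [hS₀, h7]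
    apply Submodule.sum_mem
    intro j _
    exact Submodule.smul_mem _ _ (Submodule.subset_span ⟨j, rfl⟩)

/-- a vector pairing rationally with all rational vectors is rational -/
theorem SB.rat_of_pair (C : SB F₀ f) {y : Fin n → F}
    (h : ∀ x, Rat F₀ x → f x y ∈ F₀) : Rat F₀ y := by
  have hf := C.hf
  obtain ⟨φ, hφ⟩ := exists_retr F₀
  have h1 : ∀ x, Rat F₀ x → f x (y - ratl φ y) = 0 := by
    intro x hx
    rw [f_sub_right hf, C.f_ratl φ hx]
    have := hφ ⟨f x y, h x hx⟩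
    simp only at this
    rw [this]
    ring
  have h2 : y - ratl φ y = 0 := by
    by_contra hne
    obtain ⟨z, hz⟩ := (hf.nondegenerate _ hne).1
    apply hz
    rw [f_eq_dot hf]
    have : rho f (y - ratl φ y) = 0 := by
      funext i
      exact h1 _ (Rat.single i F₀.one_mem)
    rw [this, zero_dotProduct]
  have h3 : y = ratl φ y := sub_eq_zero.mp h2
  rw [h3]
  exact ratl_rat _ _

/-- a vector orthogonal to all rational vectors vanishes -/
theorem SB.eq_zero_of_perp_rat (C : SB F₀ f) {y : Fin n → F}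
    (h : ∀ x, Rat F₀ x → f x y = 0) : y = 0 := by
  have hf := C.hf
  by_contra hne
  obtain ⟨z, hz⟩ := (hf.nondegenerate _ hne).1
  apply hz
  rw [f_eq_dot hf]
  have : rho f y = 0 := by
    funext i
    exact h _ (Rat.single i F₀.one_mem)
  rw [this, zero_dotProduct]

/-- a rational partner -/
theorem SB.ex_partner0 (C : SB F₀ f) {u : Fin n → F} (hu : Rat F₀ u) (hu0 : u ≠ 0) :
    ∃ u', Rat F₀ u' ∧ f u u' = 1 := by
  obtain ⟨u', hu', -, huu'⟩ := C.ex_rat_dual (![] : Fin 0 → (Fin n → F))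
    (fun j => Fin.elim0 j) hu (by
      intro hm
      have : Set.range (![] : Fin 0 → (Fin n → F)) = ∅ := Set.range_eq_empty _
      rw [this, Submodule.span_empty, Submodule.mem_bot] at hm
      exact hu0 hm)
  exact ⟨u', hu', huu'⟩

/-- the projection of a vector to the orthogonal complement of a hyperbolic pair -/
def prj (f : (Fin n → F) → (Fin n → F) → F) (u u' x : Fin n → F) : Fin n → F :=
  x - f x u' • u + f x u • u'

theorem prj_perp (hf : Cfsg.Geo.IsSymplecticForm f) {u u' : Fin n → F} (huu' : f u u' = 1)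
    (x : Fin n → F) : f (prj f u u' x) u = 0 ∧ f (prj f u u' x) u' = 0 := by
  have h1 : f u' u = -1 := f_swap_one hf huu'
  unfold prj
  constructor
  · rw [f_add_left hf, f_sub_left hf, f_smul_left hf, f_smul_left hf, hf.alternating, h1]
    ring
  · rw [f_add_left hf, f_sub_left hf, f_smul_left hf, f_smul_left hf, hf.alternating, huu']
    ring

theorem prj_rat (C : SB F₀ f) {u u' x : Fin n → F} (hu : Rat F₀ u) (hu' : Rat F₀ u')
    (hx : Rat F₀ x) : Rat F₀ (prj f u u' x) :=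
  (hx.sub (Rat.smul (C.rat _ _ hx hu') hu)).add (Rat.smul (C.rat _ _ hx hu) hu')

theorem prj_decomp (u u' x : Fin n → F) :
    x = prj f u u' x + f x u' • u - f x u • u' := by
  unfold prj
  abel

/-- a vector orthogonal to all rational vectors of `u^⊥` is a multiple of `u` -/
theorem SB.perp_perp (C : SB F₀ f) {u : Fin n → F} (hu : Rat F₀ u)
    (hu0 : u ≠ 0) {y : Fin n → F} (h : ∀ v, Rat F₀ v → f v u = 0 → f v y = 0) :
    ∃ c : F, y = c • u := by
  have hf := C.hf
  obtain ⟨u', hu', huu'⟩ := C.ex_partner0 hu hu0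
  have hu'u : f u' u = -1 := f_swap_one hf huu'
  refine ⟨-(f u' y), ?_⟩
  have h0 : y - (-(f u' y)) • u = 0 := by
    apply C.eq_zero_of_perp_rat
    intro x hx
    obtain ⟨hp1, hp2⟩ := prj_perp hf huu' x
    have h1 := h _ (prj_rat C hu hu' hx) hp1
    conv_lhs => rw [prj_decomp (f := f) u u' x]
    rw [f_sub_left hf, f_add_left hf, f_smul_left hf, f_smul_left hf, f_sub_right hf,
      f_sub_right hf, f_sub_right hf, f_smul_right hf, f_smul_right hf, f_smul_right hf, h1, hp1,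
      hf.alternating, hu'u]
    have h2 : f u y = 0 := h u hu (hf.alternating u)
    rw [h2]
    ring
  exact sub_eq_zero.mp h0

/-- a rational multiple of a non-zero rational vector has a rational coefficient -/
theorem coef_rat {u : Fin n → F} (hu : Rat F₀ u) (hu0 : u ≠ 0) {c : F}
    (h : Rat F₀ (c • u)) : c ∈ F₀ := by
  obtain ⟨i, hi⟩ : ∃ i, u i ≠ 0 := by
    by_contra hcon
    push Not at hcon
    exact hu0 (funext hcon)
  have h1 := h i
  rw [Pi.smul_apply, smul_eq_mul] at h1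
  have h3 : c = c * u i * (u i)⁻¹ := by field_simp
  rw [h3]
  exact F₀.mul_mem h1 (F₀.inv_mem (hu i))

/-- unipotent elements of class two in the subfield group map rational vectors to rational
vectors -/
theorem unip_rat [Finite F] {t : Matrix.GeneralLinearGroup (Fin n) F}
    (htt : ∀ x, (t : Matrix (Fin n) (Fin n) F) *ᵥ ((t : Matrix (Fin n) (Fin n) F) *ᵥ x) =
      (2 : F) • ((t : Matrix (Fin n) (Fin n) F) *ᵥ x) - x)
    (hm : t ∈ Cfsg.Geo.subfieldSubgroup F₀ (1 : Matrix.GeneralLinearGroup (Fin n) F)) :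
    RatM F₀ (t : Matrix (Fin n) (Fin n) F) := by
  obtain ⟨c₀, hc₀, hrat⟩ := rat_of_mem_sub_one hm
  by_cases hex : ∃ x, Rat F₀ x ∧ (t : Matrix (Fin n) (Fin n) F) *ᵥ x ≠ x
  swap
  · push Not at hex
    intro x hx
    rw [hex x hx]
    exact hx
  obtain ⟨x, hx, hne⟩ := hex
  obtain ⟨d, hd⟩ : ∃ d : F, d = c₀⁻¹ := ⟨_, rfl⟩
  have hd0 : d ≠ 0 := by rw [hd]; exact inv_ne_zero hc₀
  obtain ⟨y, hy⟩ : ∃ y : Fin n → F, y = (t : Matrix (Fin n) (Fin n) F) *ᵥ x - x := ⟨_, rfl⟩
  have hy0 : y ≠ 0 := by rw [hy]; exact sub_ne_zero.mpr hne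
  have hty : (t : Matrix (Fin n) (Fin n) F) *ᵥ y = y := by
    rw [hy, Matrix.mulVec_sub, htt]
    module
  have htx : (t : Matrix (Fin n) (Fin n) F) *ᵥ x = x + y := by rw [hy]; abel
  have hli : ∀ μ ν : F, μ • x + ν • y = 0 → μ = 0 ∧ ν = 0 := by
    intro μ ν h
    have h1 := congrArg (fun z => (t : Matrix (Fin n) (Fin n) F) *ᵥ z - z) h
    simp only [Matrix.mulVec_add, Matrix.mulVec_smul, hty, htx, Matrix.mulVec_zero, sub_zero] at h1
    have h2 : μ • y = 0 := by
      rw [← h1]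
      module
    have hμ : μ = 0 := by
      rcases smul_eq_zero.mp h2 with h | h
      · exact h
      · exact absurd h hy0
    rw [hμ, zero_smul, zero_add] at h
    rcases smul_eq_zero.mp h with h | h
    · exact ⟨hμ, h⟩
    · exact absurd h hy0
  obtain ⟨v₁, hv₁⟩ : ∃ v₁ : Fin n → F, v₁ = d • ((t : Matrix (Fin n) (Fin n) F) *ᵥ x) := ⟨_, rfl⟩
  have hv₁r : Rat F₀ v₁ := by rw [hv₁, hd]; exact hrat x hx
  have hv₂r : Rat F₀ (d • ((t : Matrix (Fin n) (Fin n) F) *ᵥ v₁)) := by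
    rw [hd]; exact hrat v₁ hv₁r
  have hv₂ : d • ((t : Matrix (Fin n) (Fin n) F) *ᵥ v₁) = (2 * d) • v₁ + (-(d * d)) • x := by
    rw [hv₁, Matrix.mulVec_smul, htt]
    module
  rw [hv₂] at hv₂r
  have hli2 : ∀ α β : F, α • v₁ + β • x = 0 → α = 0 ∧ β = 0 := by
    intro α β h
    rw [hv₁, htx] at h
    have h1 : (α * d + β) • x + (α * d) • y = 0 := by
      rw [← h]
      module
    obtain ⟨e1, e2⟩ := hli _ _ h1
    have hα : α = 0 := by
      rcases mul_eq_zero.mp e2 with h | h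
      · exact h
      · exact absurd h hd0
    rw [hα, zero_mul, zero_add] at e1
    exact ⟨hα, e1⟩
  obtain ⟨h2d, hdd⟩ := coeff_rat2 hv₁r hx hli2 hv₂r
  have hdF : d ∈ F₀ := by
    by_cases h2 : (2 : F) = 0
    · apply sq_mem_char2 h2
      have := F₀.neg_mem hdd
      rwa [neg_neg] at this
    · have h3 : d = 2⁻¹ * (2 * d) := by field_simp
      rw [h3]
      exact F₀.mul_mem (F₀.inv_mem (by
        have : (2 : F) = 1 + 1 := by norm_num
        rw [this]
        exact F₀.add_mem F₀.one_mem F₀.one_mem)) h2d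
  intro x' hx'
  have h5 := hrat x' hx'
  have h6 : (t : Matrix (Fin n) (Fin n) F) *ᵥ x' =
      d⁻¹ • (c₀⁻¹ • ((t : Matrix (Fin n) (Fin n) F) *ᵥ x')) := by
    rw [← hd, smul_smul, inv_mul_cancel₀ hd0, one_smul]
  rw [h6]
  exact Rat.smul (F₀.inv_mem hdF) h5

end Cfsg.Agent.Lib.Helper28.Ss
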