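import Cfsg.Agent.Lib.Helper28.SsGen

set_option autoImplicit false

open Cfsg

/-! Siegel (Heisenberg) elements of symplectic groups. -/

namespace Cfsg.Agent.Lib.Helper28.Ss

open Matrix Cfsg.Agent.Lib.Helper28.Sf Cfsg.Agent.Lib.Helper28.SympAbs
  Cfsg.Agent.Lib.Helper28.Os Cfsg.Agent.Lib.Helper28.DecGen

variable {n : ℕ} {F : Type*} [Field F] {F₀ : Subfield F} {f : (Fin n → F) → (Fin n → F) → F}

local notation "GLn" => Matrix.GeneralLinearGroup (Fin n) F

/-- the Siegel map with centre `u`, direction `y` and parameter `c` -/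
def Em (f : (Fin n → F) → (Fin n → F) → F) (u y : Fin n → F) (c : F) (x : Fin n → F) :
    Fin n → F := x + f x u • y + f x y • u + (c * f x u) • u

def IsE (f : (Fin n → F) → (Fin n → F) → F) (t : GLn) (u y : Fin n → F) (c : F) : Prop :=
  ∀ x, (t : Matrix (Fin n) (Fin n) F) *ᵥ x = Em f u y c x

/-- short root elements `T_{u,v}(c) : x ↦ x + c f(x,u) v + c f(x,v) u` -/
def IsT (f : (Fin n → F) → (Fin n → F) → F) (t : GLn) (u v : Fin n → F) (c : F) : Prop :=
  IsE f t u (c • v) 0

/-- isometries -/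
def Iso (f : (Fin n → F) → (Fin n → F) → F) (k : GLn) : Prop :=
  ∀ x y, f ((k : Matrix (Fin n) (Fin n) F) *ᵥ x) ((k : Matrix (Fin n) (Fin n) F) *ᵥ y) = f x y

theorem Iso.mul {k l : GLn} (hk : Iso f k) (hl : Iso f l) : Iso f (k * l) := by
  intro x y
  rw [mul_mulVec, mul_mulVec, hk, hl]

theorem Iso.inv {k : GLn} (hk : Iso f k) : Iso f k⁻¹ := by
  intro x y
  have := hk (((k⁻¹ : GLn) : Matrix (Fin n) (Fin n) F) *ᵥ x)
    (((k⁻¹ : GLn) : Matrix (Fin n) (Fin n) F) *ᵥ y)
  rw [gl_cancel', gl_cancel'] at this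
  exact this.symm

theorem Iso.one : Iso f (1 : GLn) := by
  intro x y
  rw [Units.val_one, Matrix.one_mulVec, Matrix.one_mulVec]

theorem IsE.unique {t t' : GLn} {u y : Fin n → F} {c : F} (h : IsE f t u y c)
    (h' : IsE f t' u y c) : t = t' := by
  apply glx
  intro x
  rw [h x, h' x]

theorem IsE.congr {t : GLn} {u y y' : Fin n → F} {c c' : F} (h : IsE f t u y c) (e : y = y')
    (e' : c = c') : IsE f t u y' c' := by
  subst e
  subst e'
  exact h

theorem IsE.one (hf : Cfsg.Geo.IsSymplecticForm f) (u : Fin n → F) : IsE f (1 : GLn) u 0 0 := by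
  intro x
  rw [Units.val_one, Matrix.one_mulVec]
  unfold Em
  rw [f_zero_right hf]
  module

theorem IsE.mul (hf : Cfsg.Geo.IsSymplecticForm f) {t t' : GLn} {u y y' : Fin n → F} {c c' : F}
    (hyu : f y u = 0) (hy'u : f y' u = 0)
    (h : IsE f t u y c) (h' : IsE f t' u y' c') :
    IsE f (t * t') u (y + y') (c + c' + f y' y) := by
  intro x
  have huy : f u y = 0 := f_swap_zero hf hyu
  have huu : f u u = 0 := hf.alternating u
  rw [mul_mulVec, h' x, h]
  unfold Em
  simp only [f_add_left hf, f_smul_left hf, f_add_right hf, huu, hyu, hy'u, huy,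
    mul_zero, add_zero]
  module

theorem IsE.inv (hf : Cfsg.Geo.IsSymplecticForm f) {t : GLn} {u y : Fin n → F} {c : F}
    (hyu : f y u = 0) (h : IsE f t u y c) : IsE f t⁻¹ u (-y) (-c) := by
  intro x
  have huy : f u y = 0 := f_swap_zero hf hyu
  have huu : f u u = 0 := hf.alternating u
  have hyy : f y y = 0 := hf.alternating y
  have e : x = (t : Matrix (Fin n) (Fin n) F) *ᵥ Em f u (-y) (-c) x := by
    rw [h]
    unfold Em
    simp only [f_add_left hf, f_smul_left hf, f_neg_right hf, f_neg_left hf, huu, hyu,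
      huy, hyy, mul_zero, add_zero, neg_zero]
    module
  conv_lhs => rw [e]
  rw [gl_cancel]

theorem IsE.conj {t k : GLn} {u y : Fin n → F} {c : F} (hk : Iso f k) (h : IsE f t u y c) :
    IsE f (k * t * k⁻¹) ((k : Matrix (Fin n) (Fin n) F) *ᵥ u)
      ((k : Matrix (Fin n) (Fin n) F) *ᵥ y) c := by
  intro x
  have e1 : ∀ z, f (((k⁻¹ : GLn) : Matrix (Fin n) (Fin n) F) *ᵥ x) z =
      f x ((k : Matrix (Fin n) (Fin n) F) *ᵥ z) := by
    intro z
    have := hk (((k⁻¹ : GLn) : Matrix (Fin n) (Fin n) F) *ᵥ x) z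
    rw [gl_cancel'] at this
    exact this.symm
  rw [mul_mulVec, mul_mulVec, h]
  unfold Em
  rw [e1, e1, Matrix.mulVec_add, Matrix.mulVec_add, Matrix.mulVec_add, gl_cancel',
    Matrix.mulVec_smul, Matrix.mulVec_smul, Matrix.mulVec_smul]

/-- changing the direction by a multiple of the centre -/
theorem IsE.shift (hf : Cfsg.Geo.IsSymplecticForm f) {t : GLn} {u y : Fin n → F} {c : F}
    (h : IsE f t u y c) (a : F) : IsE f t u (y + a • u) (c - 2 * a) := by
  intro x
  rw [h x]
  unfold Em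
  rw [f_add_right hf, f_smul_right hf]
  module

theorem IsE.smul_center (hf : Cfsg.Geo.IsSymplecticForm f) {t : GLn} {u y : Fin n → F} {c a : F}
    (h : IsE f t (a • u) y c) : IsE f t u (a • y) (a * a * c) := by
  intro x
  rw [h x]
  unfold Em
  rw [f_smul_right hf, f_smul_right hf]
  module

/-- the commutator of an isometry fixing `u` with a Siegel element of centre `u` -/
theorem IsE.commutator (hf : Cfsg.Geo.IsSymplecticForm f) {t k : GLn} {u y : Fin n → F} {c : F}
    (hyu : f y u = 0) (hk : Iso f k) (hku : (k : Matrix (Fin n) (Fin n) F) *ᵥ u = u)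
    (h : IsE f t u y c) :
    IsE f (k * t * k⁻¹ * t⁻¹) u ((k : Matrix (Fin n) (Fin n) F) *ᵥ y - y)
      (f ((k : Matrix (Fin n) (Fin n) F) *ᵥ y) y) := by
  have h1 := h.conj hk
  rw [hku] at h1
  have h2 := h.inv hf hyu
  have hkyu : f ((k : Matrix (Fin n) (Fin n) F) *ᵥ y) u = 0 := by
    have := hk y u
    rw [hku] at this
    rw [this, hyu]
  have h3 := h1.mul hf hkyu (by rw [f_neg_left hf, hyu, neg_zero]) h2
  refine h3.congr (by rw [sub_eq_add_neg]) ?_
  rw [f_neg_left hf, hf.skew y]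
  ring

/-- Siegel elements are unipotent of class two -/
theorem IsE.sq (hf : Cfsg.Geo.IsSymplecticForm f) {t : GLn} {u y : Fin n → F} {c : F}
    (hyu : f y u = 0) (h : IsE f t u y c) (x : Fin n → F) :
    (t : Matrix (Fin n) (Fin n) F) *ᵥ ((t : Matrix (Fin n) (Fin n) F) *ᵥ x) =
      (2 : F) • ((t : Matrix (Fin n) (Fin n) F) *ᵥ x) - x := by
  have huy : f u y = 0 := f_swap_zero hf hyu
  have huu : f u u = 0 := hf.alternating u
  have hyy : f y y = 0 := hf.alternating y
  rw [h x, h]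
  unfold Em
  simp only [f_add_left hf, f_smul_left hf, huu, hyu, huy, hyy, mul_zero, add_zero]
  module

/-- Siegel elements with rational data are rational -/
theorem IsE.rat (C : SB F₀ f) {t : GLn} {u y : Fin n → F} {c : F} (hu : Rat F₀ u)
    (hy : Rat F₀ y) (hc : c ∈ F₀) (h : IsE f t u y c) :
    RatM F₀ (t : Matrix (Fin n) (Fin n) F) := by
  intro x hx
  rw [h x]
  unfold Em
  exact ((hx.add (Rat.smul (C.rat _ _ hx hu) hy)).add (Rat.smul (C.rat _ _ hx hy) hu)).add
    (Rat.smul (F₀.mul_mem hc (C.rat _ _ hx hu)) hu)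

theorem ratM_mem_sub {t : GLn} (h : RatM F₀ (t : Matrix (Fin n) (Fin n) F)) :
    t ∈ Cfsg.Geo.subfieldSubgroup F₀ (1 : GLn) := by
  apply mem_sub_one_of_rat (c := 1) one_ne_zero
  intro x hx
  rw [inv_one, one_smul]
  exact h x hx

/-- Siegel elements are isometries -/
theorem IsE.iso (hf : Cfsg.Geo.IsSymplecticForm f) {t : GLn} {u y : Fin n → F} {c : F}
    (hyu : f y u = 0) (h : IsE f t u y c) : Iso f t := by
  intro x z
  have huy : f u y = 0 := f_swap_zero hf hyu
  have huu : f u u = 0 := hf.alternating u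
  have hyy : f y y = 0 := hf.alternating y
  rw [h x, h z]
  unfold Em
  simp only [f_add_left hf, f_smul_left hf, f_add_right hf, f_smul_right hf, huu, hyu, huy, hyy,
    mul_zero, add_zero]
  rw [hf.skew u z, hf.skew y z]
  ring

/-- existence of Siegel elements -/
theorem ex_E (hf : Cfsg.Geo.IsSymplecticForm f) {u y : Fin n → F} (hyu : f y u = 0) (c : F) :
    ∃ t : GLn, IsE f t u y c := by
  have huy : f u y = 0 := f_swap_zero hf hyu
  have huu : f u u = 0 := hf.alternating u
  have hyy : f y y = 0 := hf.alternating y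
  obtain ⟨g₁, -, hg₁⟩ := stv hf (u + y) 1
  obtain ⟨g₂, -, hg₂⟩ := stv hf u (c - 1)
  obtain ⟨g₃, -, hg₃⟩ := stv hf y (-1)
  refine ⟨g₁ * g₂ * g₃, ?_⟩
  intro x
  rw [mul_mulVec, mul_mulVec, hg₃, hg₂, hg₁]
  unfold Em
  simp only [f_add_left hf, f_smul_left hf, f_add_right hf, huu, hyu, huy, hyy,
    mul_zero, add_zero]
  module

/-- transvections -/
theorem ex_tv (hf : Cfsg.Geo.IsSymplecticForm f) (u : Fin n → F) (c : F) :
    ∃ t : GLn, IsE f t u 0 c := ex_E hf (f_zero_left hf u) c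

theorem isE_tv (hf : Cfsg.Geo.IsSymplecticForm f) {t : GLn} {u : Fin n → F} {c : F} :
    IsE f t u 0 c ↔ ∀ x, (t : Matrix (Fin n) (Fin n) F) *ᵥ x = x + (c * f x u) • u := by
  constructor
  · intro h x
    rw [h x]
    unfold Em
    rw [f_zero_right hf]
    module
  · intro h x
    rw [h x]
    unfold Em
    rw [f_zero_right hf]
    module

theorem IsT.swap (hf : Cfsg.Geo.IsSymplecticForm f) {t : GLn} {u v : Fin n → F} {c : F}
    (h : IsT f t u v c) : IsT f t v u c := by
  intro x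
  rw [h x]
  unfold Em
  rw [f_smul_right hf, f_smul_right hf]
  module

theorem IsT.mul (hf : Cfsg.Geo.IsSymplecticForm f) {t t' : GLn} {u v : Fin n → F} {c c' : F}
    (hvu : f v u = 0) (h : IsT f t u v c) (h' : IsT f t' u v c') : IsT f (t * t') u v (c + c') := by
  have := IsE.mul hf (by rw [f_smul_left hf, hvu, mul_zero])
    (by rw [f_smul_left hf, hvu, mul_zero]) h h'
  refine this.congr (by rw [add_smul]) ?_
  rw [f_smul_left hf, f_smul_right hf, hf.alternating]
  ring

theorem IsT.inv (hf : Cfsg.Geo.IsSymplecticForm f) {t : GLn} {u v : Fin n → F} {c : F}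
    (hvu : f v u = 0) (h : IsT f t u v c) : IsT f t⁻¹ u v (-c) := by
  have := IsE.inv hf (by rw [f_smul_left hf, hvu, mul_zero]) h
  exact this.congr (by rw [neg_smul]) neg_zero

theorem IsT.unique {t t' : GLn} {u v : Fin n → F} {c : F} (h : IsT f t u v c)
    (h' : IsT f t' u v c) : t = t' := IsE.unique h h'

theorem ex_T (hf : Cfsg.Geo.IsSymplecticForm f) {u v : Fin n → F} (hvu : f v u = 0) (c : F) :
    ∃ t : GLn, IsT f t u v c := ex_E hf (by rw [f_smul_left hf, hvu, mul_zero]) 0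

theorem IsT.iso (hf : Cfsg.Geo.IsSymplecticForm f) {t : GLn} {u v : Fin n → F} {c : F}
    (hvu : f v u = 0) (h : IsT f t u v c) : Iso f t :=
  IsE.iso hf (by rw [f_smul_left hf, hvu, mul_zero]) h

theorem IsT.apply (hf : Cfsg.Geo.IsSymplecticForm f) {t : GLn} {u v : Fin n → F} {c : F}
    (h : IsT f t u v c) (x : Fin n → F) :
    (t : Matrix (Fin n) (Fin n) F) *ᵥ x = x + (c * f x u) • v + (c * f x v) • u := by
  rw [h x]
  unfold Em
  rw [f_smul_right hf]
  module

theorem IsT.conj (hf : Cfsg.Geo.IsSymplecticForm f) {t k : GLn} {u v : Fin n → F} {c : F}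
    (hk : Iso f k) (h : IsT f t u v c) :
    IsT f (k * t * k⁻¹) ((k : Matrix (Fin n) (Fin n) F) *ᵥ u)
      ((k : Matrix (Fin n) (Fin n) F) *ᵥ v) c := by
  have := IsE.conj hk h
  rwa [Matrix.mulVec_smul] at this

/-- the commutator relation for two `T`-elements -/
theorem comm_TT (hf : Cfsg.Geo.IsSymplecticForm f) {k t T : GLn} {a b b' c : Fin n → F}
    {lam mu : F} (hab : f a b = 0) (hac : f a c = 0) (hbc : f b c = 0)
    (hab' : f a b' = 0) (hbb' : f b b' = 1) (hb'c : f b' c = 0)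
    (ht : IsT f t a b lam) (hk : IsT f k b' c mu) (hT : IsT f T a c (lam * mu)) :
    k * t = T * t * k := by
  apply glx
  intro x
  have hba := f_swap_zero hf hab
  have hca := f_swap_zero hf hac
  have hcb := f_swap_zero hf hbc
  have hb'a := f_swap_zero hf hab'
  have hcb' := f_swap_zero hf hb'c
  have hb'b : f b' b = -1 := f_swap_one hf hbb'
  rw [mul_mulVec, mul_mulVec, mul_mulVec, ht.apply hf x, hk.apply hf, hk.apply hf x, ht.apply hf,
    hT.apply hf]
  simp only [f_add_left hf, f_smul_left hf, hab, hac, hbc, hab', hbb', hb'c,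
    hba, hca, hcb, hb'a, hcb', hb'b, hf.alternating, mul_zero, add_zero, zero_mul, mul_one]
  module

end Cfsg.Agent.Lib.Helper28.Ss
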