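import Cfsg.Agent.Lib.Helper28.SsB

set_option autoImplicit false

open Cfsg

/-! Parameter sets of short root subgroups and their dichotomy. -/

namespace Cfsg.Agent.Lib.Helper28.Ss

open Matrix Cfsg.Agent.Lib.Helper28.Sf Cfsg.Agent.Lib.Helper28.SympAbs
  Cfsg.Agent.Lib.Helper28.Os Cfsg.Agent.Lib.Helper28.DecGen

variable {n : ℕ} {F : Type*} [Field F] {F₀ : Subfield F} {f : (Fin n → F) → (Fin n → F) → F}
  {G H : Subgroup (Matrix.GeneralLinearGroup (Fin n) F)}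

local notation "GLn" => Matrix.GeneralLinearGroup (Fin n) F

/-- the ambient hypotheses -/
structure SC (F₀ : Subfield F) (f : (Fin n → F) → (Fin n → F) → F)
    (G H : Subgroup (Matrix.GeneralLinearGroup (Fin n) F)) : Prop where
  sb : SB F₀ f
  hG : ∀ g : Matrix.GeneralLinearGroup (Fin n) F, g ∈ G ↔ Iso f g
  le : H ≤ G
  sub : Cfsg.Geo.subfieldSubgroup F₀ (1 : Matrix.GeneralLinearGroup (Fin n) F) ⊓ G ≤ H
  hn : 14 ≤ n

theorem SC.hf (C : SC F₀ f G H) : Cfsg.Geo.IsSymplecticForm f := C.sb.hf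

theorem SC.iso (C : SC F₀ f G H) {h : GLn} (hh : h ∈ H) : Iso f h := (C.hG h).1 (C.le hh)

/-- a rational isometry lies in `H` -/
theorem SC.rat_mem (C : SC F₀ f G H) {t : GLn} (hti : Iso f t)
    (h : RatM F₀ (t : Matrix (Fin n) (Fin n) F)) : t ∈ H :=
  C.sub ⟨ratM_mem_sub h, (C.hG t).2 hti⟩

/-- rational Siegel elements lie in `H` -/
theorem SC.rat_E_mem (C : SC F₀ f G H) {t : GLn} {u y : Fin n → F} {c : F} (hu : Rat F₀ u)
    (hy : Rat F₀ y) (hc : c ∈ F₀) (hyu : f y u = 0) (ht : IsE f t u y c) : t ∈ H :=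
  C.rat_mem (ht.iso C.hf hyu) (ht.rat C.sb hu hy hc)

theorem SC.rat_T_mem (C : SC F₀ f G H) {t : GLn} {u v : Fin n → F} {c : F} (hu : Rat F₀ u)
    (hv : Rat F₀ v) (hc : c ∈ F₀) (hvu : f v u = 0) (ht : IsT f t u v c) : t ∈ H :=
  C.rat_E_mem hu (Rat.smul hc hv) F₀.zero_mem (by rw [f_smul_left C.hf, hvu, mul_zero]) ht

/-- parameter sets of the short root subgroups `T_{u,v}` -/
def AA (f : (Fin n → F) → (Fin n → F) → F) (H : Subgroup GLn) (u v : Fin n → F) :
    Set F := {c | ∃ t ∈ H, IsT f t u v c}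

theorem SC.AA_F0 (C : SC F₀ f G H) {u v : Fin n → F} (hu : Rat F₀ u) (hv : Rat F₀ v)
    (hvu : f v u = 0) {c : F} (hc : c ∈ F₀) : c ∈ AA f H u v := by
  obtain ⟨t, ht⟩ := ex_T C.hf hvu c
  exact ⟨t, C.rat_T_mem hu hv hc hvu ht, ht⟩

theorem SC.AA_add (C : SC F₀ f G H) {u v : Fin n → F} (hvu : f v u = 0) {c c' : F}
    (hc : c ∈ AA f H u v) (hc' : c' ∈ AA f H u v) : c + c' ∈ AA f H u v := by
  obtain ⟨t, ht, hts⟩ := hc
  obtain ⟨t', ht', hts'⟩ := hc'
  exact ⟨t * t', H.mul_mem ht ht', hts.mul C.hf hvu hts'⟩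

theorem SC.AA_neg (C : SC F₀ f G H) {u v : Fin n → F} (hvu : f v u = 0) {c : F}
    (hc : c ∈ AA f H u v) : -c ∈ AA f H u v := by
  obtain ⟨t, ht, hts⟩ := hc
  exact ⟨t⁻¹, H.inv_mem ht, hts.inv C.hf hvu⟩

theorem SC.AA_swap (C : SC F₀ f G H) {u v : Fin n → F} {c : F} (hc : c ∈ AA f H u v) :
    c ∈ AA f H v u := by
  obtain ⟨t, ht, hts⟩ := hc
  exact ⟨t, ht, hts.swap C.hf⟩

/-- the basic commutator relation: `AA a b * AA b' c ⊆ AA a c` -/
theorem SC.AA_mul (C : SC F₀ f G H) {a b b' c : Fin n → F}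
    (hab : f a b = 0) (hac : f a c = 0) (hbc : f b c = 0) (hab' : f a b' = 0) (hbb' : f b b' = 1)
    (hb'c : f b' c = 0) {lam mu : F}
    (hl : lam ∈ AA f H a b) (hm : mu ∈ AA f H b' c) : lam * mu ∈ AA f H a c := by
  obtain ⟨t, ht, hts⟩ := hl
  obtain ⟨k, hk, hks⟩ := hm
  obtain ⟨T, hT⟩ := ex_T C.hf (f_swap_zero C.hf hac) (lam * mu)
  have e := comm_TT C.hf hab hac hbc hab' hbb' hb'c hts hks hT
  have e2 : T = k * t * k⁻¹ * t⁻¹ := by
    rw [e]
    group
  refine ⟨T, ?_, hT⟩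
  rw [e2]
  exact H.mul_mem (H.mul_mem (H.mul_mem hk ht) (H.inv_mem hk)) (H.inv_mem ht)

/-- one step: a rational totally isotropic triple `a, b, c` with `b` independent of `a, c` -/
theorem SC.AA_step (C : SC F₀ f G H) {a b c : Fin n → F} (ha : Rat F₀ a)
    (hb : Rat F₀ b) (hc : Rat F₀ c) (hab : f a b = 0) (hac : f a c = 0) (hbc : f b c = 0)
    (hind : b ∉ Submodule.span F (Set.range ![a, c])) {lam : F} (hl : lam ∈ AA f H a b) :
    lam ∈ AA f H a c := by
  have hf := C.hf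
  have hfam : ∀ j, Rat F₀ (![a, c] j) := by
    intro j
    fin_cases j
    · exact ha
    · exact hc
  obtain ⟨b', hb', hb'p, hbb'⟩ := C.sb.ex_rat_dual ![a, c] hfam hb hind
  have hab' : f a b' = 0 := hb'p 0
  have hcb' : f c b' = 0 := hb'p 1
  have hb'c : f b' c = 0 := f_swap_zero hf hcb'
  have h1 : (1 : F) ∈ AA f H b' c := C.AA_F0 hb' hc hcb' F₀.one_mem
  have := C.AA_mul hab hac hbc hab' hbb' hb'c hl h1
  rwa [mul_one] at this

/-- an independent rational totally isotropic pair -/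
structure TP (F₀ : Subfield F) (f : (Fin n → F) → (Fin n → F) → F) (u v : Fin n → F) : Prop where
  ru : Rat F₀ u
  rv : Rat F₀ v
  uv : f u v = 0
  u0 : u ≠ 0
  ind : v ∉ Submodule.span F {u}

theorem TP.v0 {u v : Fin n → F} (h : TP F₀ f u v) : v ≠ 0 := by
  rintro rfl
  exact h.ind (Submodule.zero_mem _)

theorem TP.symm (hf : Cfsg.Geo.IsSymplecticForm f) {u v : Fin n → F} (h : TP F₀ f u v) :
    TP F₀ f v u where
  ru := h.rv
  rv := h.ru
  uv := f_swap_zero hf h.uv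
  u0 := h.v0
  ind := by
    intro hm
    obtain ⟨a, ha⟩ := Submodule.mem_span_singleton.mp hm
    apply h.ind
    have ha0 : a ≠ 0 := by
      rintro rfl
      rw [zero_smul] at ha
      exact h.u0 ha.symm
    rw [Submodule.mem_span_singleton]
    refine ⟨a⁻¹, ?_⟩
    rw [← ha, smul_smul, inv_mul_cancel₀ ha0, one_smul]

/-- all parameter sets of independent rational totally isotropic pairs are contained in each
other -/
theorem SC.AA_sub (C : SC F₀ f G H) {u v u₂ v₂ : Fin n → F}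
    (h1 : TP F₀ f u v) (h2 : TP F₀ f u₂ v₂) {lam : F} (hl : lam ∈ AA f H u v) :
    lam ∈ AA f H u₂ v₂ := by
  have hf := C.hf
  have hn := C.hn
  have hfam4 : ∀ j, Rat F₀ (![u, v, u₂, v₂] j) := by
    intro j
    fin_cases j
    · exact h1.ru
    · exact h1.rv
    · exact h2.ru
    · exact h2.rv
  obtain ⟨w, hw, hwp, hwn⟩ := C.sb.ex_rs ![u, v, u₂, v₂] hfam4 (by omega)
  have hfam5 : ∀ j, Rat F₀ (![u, v, u₂, v₂, w] j) := by
    intro j
    fin_cases j
    · exact h1.ru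
    · exact h1.rv
    · exact h2.ru
    · exact h2.rv
    · exact hw
  obtain ⟨x, hx, hxp, hxn⟩ := C.sb.ex_rs ![u, v, u₂, v₂, w] hfam5 (by omega)
  have huw : f u w = 0 := hwp 0
  have hvw : f v w = 0 := hwp 1
  have hu₂w : f u₂ w = 0 := hwp 2
  have hv₂w : f v₂ w = 0 := hwp 3
  have hux : f u x = 0 := hxp 0
  have hu₂x : f u₂ x = 0 := hxp 2
  have hwx : f w x = 0 := hxp 4
  have hwu : f w u = 0 := f_swap_zero hf huw
  have hwu₂ : f w u₂ = 0 := f_swap_zero hf hu₂w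
  have hwv₂ : f w v₂ = 0 := f_swap_zero hf hv₂w
  have hxu₂ : f x u₂ = 0 := f_swap_zero hf hu₂x
  have m4 : ∀ j, ![u, v, u₂, v₂] j ∈ Submodule.span F (Set.range ![u, v, u₂, v₂]) :=
    fun j => Submodule.subset_span ⟨j, rfl⟩
  have m5 : ∀ j, ![u, v, u₂, v₂, w] j ∈ Submodule.span F (Set.range ![u, v, u₂, v₂, w]) :=
    fun j => Submodule.subset_span ⟨j, rfl⟩
  -- step 1
  have s1 : lam ∈ AA f H u w := by
    apply C.AA_step h1.ru h1.rv hw h1.uv huw hvw _ hl
    rw [mem_span_pair']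
    rintro ⟨α, β, hαβ⟩
    by_cases hβ : β = 0
    · apply h1.ind
      rw [Submodule.mem_span_singleton]
      refine ⟨α, ?_⟩
      rw [← hαβ, hβ, zero_smul, add_zero]
    · apply hwn
      have : w = β⁻¹ • (v - α • u) := by
        rw [← hαβ, add_sub_cancel_left, smul_smul, inv_mul_cancel₀ hβ, one_smul]
      rw [this]
      exact Submodule.smul_mem _ _ (Submodule.sub_mem _ (m4 1) (Submodule.smul_mem _ _ (m4 0)))
  have s1' : lam ∈ AA f H w u := C.AA_swap s1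
  -- step 2
  have s2 : lam ∈ AA f H w x := by
    apply C.AA_step hw h1.ru hx hwu hwx hux _ s1'
    rw [mem_span_pair']
    rintro ⟨α, β, hαβ⟩
    by_cases hβ : β = 0
    · rw [hβ, zero_smul, add_zero] at hαβ
      have hα : α ≠ 0 := by
        rintro rfl
        rw [zero_smul] at hαβ
        exact h1.u0 hαβ.symm
      apply hwn
      have : w = α⁻¹ • u := by
        rw [← hαβ, smul_smul, inv_mul_cancel₀ hα, one_smul]
      rw [this]
      exact Submodule.smul_mem _ _ (m4 0)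
    · apply hxn
      have : x = β⁻¹ • (u - α • w) := by
        rw [← hαβ, add_sub_cancel_left, smul_smul, inv_mul_cancel₀ hβ, one_smul]
      rw [this]
      exact Submodule.smul_mem _ _ (Submodule.sub_mem _ (m5 0) (Submodule.smul_mem _ _ (m5 4)))
  -- step 3
  have s3 : lam ∈ AA f H w u₂ := by
    apply C.AA_step hw hx h2.ru hwx hwu₂ hxu₂ _ s2
    rw [mem_span_pair']
    rintro ⟨α, β, hαβ⟩
    apply hxn
    rw [← hαβ]
    exact Submodule.add_mem _ (Submodule.smul_mem _ _ (m5 4)) (Submodule.smul_mem _ _ (m5 2))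
  have s3' : lam ∈ AA f H u₂ w := C.AA_swap s3
  -- step 4
  apply C.AA_step h2.ru hw h2.rv hu₂w h2.uv hwv₂ _ s3'
  rw [mem_span_pair']
  rintro ⟨α, β, hαβ⟩
  apply hwn
  rw [← hαβ]
  exact Submodule.add_mem _ (Submodule.smul_mem _ _ (m4 2)) (Submodule.smul_mem _ _ (m4 3))

/-- a rational non-zero vector exists -/
theorem SC.ex_r0 (C : SC F₀ f G H) : ∃ u : Fin n → F, Rat F₀ u ∧ u ≠ 0 := by
  have hn := C.hn
  obtain ⟨u, hu, -, hun⟩ := C.sb.ex_rs (![] : Fin 0 → (Fin n → F))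
    (fun j => Fin.elim0 j) (by omega)
  refine ⟨u, hu, ?_⟩
  rintro rfl
  exact hun (Submodule.zero_mem _)

/-- extend a rational vector to a pair -/
theorem SC.ex_TP_of (C : SC F₀ f G H) {u : Fin n → F} (hu : Rat F₀ u) (hu0 : u ≠ 0) :
    ∃ v, TP F₀ f u v := by
  have hn := C.hn
  obtain ⟨v, hv, hvp, hvn⟩ := C.sb.ex_rs ![u] (fun j => by fin_cases j; exact hu) (by omega)
  refine ⟨v, hu, hv, hvp 0, hu0, ?_⟩
  intro hm
  apply hvn
  rw [mem_span_single']
  exact Submodule.mem_span_singleton.mp hm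

theorem SC.ex_TP (C : SC F₀ f G H) : ∃ u v, TP F₀ f u v := by
  obtain ⟨u, hu, hu0⟩ := C.ex_r0
  obtain ⟨v, hv⟩ := C.ex_TP_of hu hu0
  exact ⟨u, v, hv⟩

/-- the parameter set is closed under multiplication -/
theorem SC.AA_mul_self (C : SC F₀ f G H) {u v : Fin n → F} (h : TP F₀ f u v)
    {lam mu : F} (hl : lam ∈ AA f H u v) (hm : mu ∈ AA f H u v) : lam * mu ∈ AA f H u v := by
  have hf := C.hf
  have hn := C.hn
  have hfam : ∀ j, Rat F₀ (![u, v] j) := by
    intro j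
    fin_cases j
    · exact h.ru
    · exact h.rv
  obtain ⟨w, hw, hwp, hwn⟩ := C.sb.ex_rs ![u, v] hfam (by omega)
  have huw : f u w = 0 := hwp 0
  have hvw : f v w = 0 := hwp 1
  have hfam2 : ∀ j, Rat F₀ (![u, w] j) := by
    intro j
    fin_cases j
    · exact h.ru
    · exact hw
  have hind : v ∉ Submodule.span F (Set.range ![u, w]) := by
    rw [mem_span_pair']
    rintro ⟨α, β, hαβ⟩
    by_cases hβ : β = 0
    · apply h.ind
      rw [Submodule.mem_span_singleton]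
      refine ⟨α, ?_⟩
      rw [← hαβ, hβ, zero_smul, add_zero]
    · apply hwn
      rw [mem_span_pair']
      refine ⟨-(β⁻¹ * α), β⁻¹, ?_⟩
      rw [← hαβ, smul_add, smul_smul, smul_smul, inv_mul_cancel₀ hβ, one_smul, neg_smul]
      abel
  obtain ⟨v', hv', hv'p, hvv'⟩ := C.sb.ex_rat_dual ![u, w] hfam2 h.rv hind
  have huv' : f u v' = 0 := hv'p 0
  have hwv' : f w v' = 0 := hv'p 1
  have hv'w : f v' w = 0 := f_swap_zero hf hwv'
  have hw0 : w ≠ 0 := by
    rintro rfl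
    exact hwn (Submodule.zero_mem _)
  have hv'0 : v' ≠ 0 := by
    rintro rfl
    rw [f_zero_right hf] at hvv'
    exact zero_ne_one hvv'
  have tp1 : TP F₀ f v' w := by
    refine ⟨hv', hw, hv'w, hv'0, ?_⟩
    intro hm'
    obtain ⟨a, ha⟩ := Submodule.mem_span_singleton.mp hm'
    have h5 : f v w = a := by
      rw [← ha, f_smul_right hf, hvv', mul_one]
    rw [hvw] at h5
    rw [← h5, zero_smul] at ha
    exact hw0 ha.symm
  have tp2 : TP F₀ f u w := by
    refine ⟨h.ru, hw, huw, h.u0, ?_⟩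
    intro hm'
    obtain ⟨a, ha⟩ := Submodule.mem_span_singleton.mp hm'
    apply hwn
    rw [mem_span_pair']
    exact ⟨a, 0, by rw [zero_smul, add_zero, ha]⟩
  have hm' : mu ∈ AA f H v' w := C.AA_sub h tp1 hm
  have h5 := C.AA_mul h.uv huw hvw huv' hvv' hv'w hl hm'
  exact C.AA_sub tp2 h h5

/-- dichotomy for the parameter sets -/
theorem SC.AA_cases [Fintype F] (C : SC F₀ f G H) {r : ℕ} (hr : r.Prime)
    (hcard : Fintype.card F = Nat.card F₀ ^ r) :
    (∀ u v, TP F₀ f u v → ∀ a, a ∈ AA f H u v → a ∈ F₀) ∨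
      (∀ u v, TP F₀ f u v → ∀ a : F, a ∈ AA f H u v) := by
  obtain ⟨u₀, v₀, h0⟩ := C.ex_TP
  have hvu := f_swap_zero C.hf h0.uv
  rcases subring_cases hr hcard (AA f H u₀ v₀)
    (fun a ha => C.AA_F0 h0.ru h0.rv hvu ha)
    (fun a b ha hb => C.AA_add hvu ha hb)
    (fun a b ha hb => C.AA_mul_self h0 ha hb) with h | h
  · left
    intro u v huv a ha
    exact h a (C.AA_sub huv h0 ha)
  · right
    intro u v huv a
    exact C.AA_sub h0 huv (h a)

end Cfsg.Agent.Lib.Helper28.Ss
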