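import Cfsg.Agent.Lib.Helper28.SsD

set_option autoImplicit false

open Cfsg

/-! Case II, part 1: Siegel elements of `H` with rational centre are rational. -/

namespace Cfsg.Agent.Lib.Helper28.Ss

open Matrix Cfsg.Agent.Lib.Helper28.Sf Cfsg.Agent.Lib.Helper28.SympAbs
  Cfsg.Agent.Lib.Helper28.Os Cfsg.Agent.Lib.Helper28.DecGen

variable {n : ℕ} {F : Type*} [Field F] {F₀ : Subfield F} {f : (Fin n → F) → (Fin n → F) → F}
  {G H : Subgroup (Matrix.GeneralLinearGroup (Fin n) F)}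

local notation "GLn" => Matrix.GeneralLinearGroup (Fin n) F

/-- a `T`-element fixes the vectors orthogonal to its two centres -/
theorem IsT.fix (hf : Cfsg.Geo.IsSymplecticForm f) {t : GLn} {z w x : Fin n → F} {c : F}
    (h : IsT f t z w c) (hxz : f x z = 0) (hxw : f x w = 0) :
    (t : Matrix (Fin n) (Fin n) F) *ᵥ x = x := by
  rw [h.apply hf, hxz, hxw]
  module

/-- (TC): under `A = F₀`, Siegel elements of `H` with rational centre have rational direction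
modulo the centre. -/
theorem SC.TC (C : SC F₀ f G H)
    (hA : ∀ u v, TP F₀ f u v → ∀ a, a ∈ AA f H u v → a ∈ F₀)
    {u y : Fin n → F} {c : F} (hu : Rat F₀ u) (hu0 : u ≠ 0) (hyu : f y u = 0)
    {t : GLn} (ht : t ∈ H) (hts : IsE f t u y c) : ∃ β : F, Rat F₀ (y - β • u) := by
  have hf := C.hf
  have hn := C.hn
  obtain ⟨u', hu', huu'⟩ := C.sb.ex_partner0 hu hu0
  have hu'u : f u' u = -1 := f_swap_one hf huu'
  have huu : f u u = 0 := hf.alternating u
  refine ⟨f y u', ?_⟩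
  obtain ⟨y', hy'⟩ : ∃ y' : Fin n → F, y' = y - f y u' • u := ⟨_, rfl⟩
  rw [← hy']
  have hts' : IsE f t u y' (c - 2 * -(f y u')) := by
    have := hts.shift hf (-(f y u'))
    refine this.congr ?_ rfl
    rw [hy', neg_smul, sub_eq_add_neg]
  have hy'u : f y' u = 0 := by
    rw [hy', f_sub_left hf, f_smul_left hf, hyu, huu]
    ring
  have hy'u' : f y' u' = 0 := by
    rw [hy', f_sub_left hf, f_smul_left hf, huu']
    ring
  -- the key claim for rational vectors orthogonal to `u, u'`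
  have key : ∀ z : Fin n → F, Rat F₀ z → f z u = 0 → f z u' = 0 → f z y' ∈ F₀ := by
    intro z hz hzu hzu'
    by_cases hz0 : z = 0
    · rw [hz0, f_zero_left hf]
      exact F₀.zero_mem
    have huz : f u z = 0 := f_swap_zero hf hzu
    have hfam3 : ∀ j, Rat F₀ (![u, u', z] j) := by
      intro j
      fin_cases j
      · exact hu
      · exact hu'
      · exact hz
    obtain ⟨w, hw, hwp, hwn⟩ := C.sb.ex_rs ![u, u', z] hfam3 (by omega)
    obtain ⟨z₂, hz₂, hz₂p, hwz₂⟩ := C.sb.ex_rat_dual ![u, u', z] hfam3 hw hwn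
    have hfam5 : ∀ j, Rat F₀ (![u, u', z, w, z₂] j) := by
      intro j
      fin_cases j
      · exact hu
      · exact hu'
      · exact hz
      · exact hw
      · exact hz₂
    obtain ⟨w₂, hw₂, hw₂p, hw₂n⟩ := C.sb.ex_rs ![u, u', z, w, z₂] hfam5 (by omega)
    have huw : f u w = 0 := hwp 0
    have hzw : f z w = 0 := hwp 2
    have huz₂ : f u z₂ = 0 := hz₂p 0
    have hzz₂ : f z z₂ = 0 := hz₂p 2
    have huw₂ : f u w₂ = 0 := hw₂p 0
    have hzw₂ : f z w₂ = 0 := hw₂p 2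
    have hww₂ : f w w₂ = 0 := hw₂p 3
    have hz₂w₂ : f z₂ w₂ = 0 := hw₂p 4
    -- first commutator
    obtain ⟨g₁, hg₁s⟩ := ex_T hf (f_swap_zero hf hzw) (1 : F)
    have hg₁ : g₁ ∈ H := C.rat_T_mem hz hw F₀.one_mem (f_swap_zero hf hzw) hg₁s
    have hg₁u : (g₁ : Matrix (Fin n) (Fin n) F) *ᵥ u = u := hg₁s.fix hf huz huw
    have hc₁ := hts'.commutator hf hy'u (C.iso hg₁) hg₁u
    have hc₁H : g₁ * t * g₁⁻¹ * t⁻¹ ∈ H :=
      H.mul_mem (H.mul_mem (H.mul_mem hg₁ ht) (H.inv_mem hg₁)) (H.inv_mem ht)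
    obtain ⟨y₁, hy₁⟩ : ∃ y₁ : Fin n → F, y₁ = f y' z • w + f y' w • z := ⟨_, rfl⟩
    have e1 : (g₁ : Matrix (Fin n) (Fin n) F) *ᵥ y' - y' = y₁ := by
      rw [hg₁s.apply hf, hy₁]
      module
    rw [e1] at hc₁
    have hy₁u : f y₁ u = 0 := by
      rw [hy₁, f_add_left hf, f_smul_left hf, f_smul_left hf, f_swap_zero hf huw, hzu]
      ring
    -- second commutator
    obtain ⟨g₂, hg₂s⟩ := ex_T hf (f_swap_zero hf hz₂w₂) (1 : F)
    have hg₂ : g₂ ∈ H := C.rat_T_mem hz₂ hw₂ F₀.one_mem (f_swap_zero hf hz₂w₂) hg₂s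
    have hg₂u : (g₂ : Matrix (Fin n) (Fin n) F) *ᵥ u = u := hg₂s.fix hf huz₂ huw₂
    have hc₂ := hc₁.commutator hf hy₁u (C.iso hg₂) hg₂u
    have hc₂H : g₂ * (g₁ * t * g₁⁻¹ * t⁻¹) * g₂⁻¹ * (g₁ * t * g₁⁻¹ * t⁻¹)⁻¹ ∈ H :=
      H.mul_mem (H.mul_mem (H.mul_mem hg₂ hc₁H) (H.inv_mem hg₂)) (H.inv_mem hc₁H)
    have a1 : f y₁ z₂ = f y' z := by
      rw [hy₁, f_add_left hf, f_smul_left hf, f_smul_left hf, hwz₂, hzz₂]
      ring
    have a2 : f y₁ w₂ = 0 := by
      rw [hy₁, f_add_left hf, f_smul_left hf, f_smul_left hf, hww₂, hzw₂]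
      ring
    have e2 : (g₂ : Matrix (Fin n) (Fin n) F) *ᵥ y₁ - y₁ = f y' z • w₂ := by
      rw [hg₂s.apply hf, a1, a2]
      module
    have e3 : f ((g₂ : Matrix (Fin n) (Fin n) F) *ᵥ y₁) y₁ = 0 := by
      have : (g₂ : Matrix (Fin n) (Fin n) F) *ᵥ y₁ = y₁ + f y' z • w₂ := by
        rw [← e2]
        abel
      rw [this, f_add_left hf, f_smul_left hf, hf.alternating, hf.skew w₂ y₁, a2]
      ring
    rw [e2, e3] at hc₂
    have hmem : f y' z ∈ AA f H u w₂ := ⟨_, hc₂H, hc₂⟩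
    have h5 := hA u w₂ ⟨hu, hw₂, huw₂, hu0, by
      intro hm
      obtain ⟨a, ha⟩ := Submodule.mem_span_singleton.mp hm
      apply hw₂n
      rw [← ha]
      exact Submodule.smul_mem _ _ (Submodule.subset_span ⟨0, rfl⟩)⟩ _ hmem
    rw [hf.skew]
    exact F₀.neg_mem h5
  apply C.sb.rat_of_pair
  intro x hx
  obtain ⟨hp1, hp2⟩ := prj_perp hf huu' x
  have h1 := key _ (prj_rat C.sb hu hu' hx) hp1 hp2
  have e : f x y' = f (prj f u u' x) y' := by
    conv_lhs => rw [prj_decomp (f := f) u u' x]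
    rw [f_sub_left hf, f_add_left hf, f_smul_left hf, f_smul_left hf, hf.skew u y', hy'u,
      hf.skew u' y', hy'u']
    ring
  rw [e]
  exact h1

/-- (LL): under `A = F₀`, transvections of `H` with rational centre have rational parameter -/
theorem SC.LL (C : SC F₀ f G H)
    (hA : ∀ u v, TP F₀ f u v → ∀ a, a ∈ AA f H u v → a ∈ F₀)
    {u : Fin n → F} {c : F} (hu : Rat F₀ u) (hu0 : u ≠ 0)
    {t : GLn} (ht : t ∈ H) (hts : IsE f t u 0 c) : c ∈ F₀ := by
  have hf := C.hf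
  have hn := C.hn
  obtain ⟨u', hu', huu'⟩ := C.sb.ex_partner0 hu hu0
  have hu'u : f u' u = -1 := f_swap_one hf huu'
  have hfam : ∀ j, Rat F₀ (![u, u'] j) := by
    intro j
    fin_cases j
    · exact hu
    · exact hu'
  obtain ⟨w, hw, hwp, hwn⟩ := C.sb.ex_rs ![u, u'] hfam (by omega)
  have huw : f u w = 0 := hwp 0
  have hu'w : f u' w = 0 := hwp 1
  have hwu : f w u = 0 := f_swap_zero hf huw
  have hwu' : f w u' = 0 := f_swap_zero hf hu'w
  have hw0 : w ≠ 0 := by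
    rintro rfl
    exact hwn (Submodule.zero_mem _)
  obtain ⟨s, hss⟩ := ex_T hf hwu' (1 : F)
  have hsH : s ∈ H := C.rat_T_mem hu' hw F₀.one_mem hwu' hss
  have htv := (isE_tv hf).1 hts
  have htu' : (t : Matrix (Fin n) (Fin n) F) *ᵥ u' = u' - c • u := by
    rw [htv, hu'u]
    module
  have htw : (t : Matrix (Fin n) (Fin n) F) *ᵥ w = w := by
    rw [htv, hwu]
    module
  have h1 := (hss.conj hf (C.iso ht)).swap hf
  rw [htu', htw] at h1
  have h2 := (hss.inv hf hwu').swap hf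
  have h3 := IsE.mul hf (by
    rw [f_smul_left hf, f_sub_left hf, f_smul_left hf, hu'w, huw]
    ring) (by rw [f_smul_left hf, hu'w, mul_zero]) h1 h2
  have h4 : IsE f (t * s * t⁻¹ * s⁻¹) w ((-c) • u) (-c) := by
    refine h3.congr (by module) ?_
    rw [f_smul_left hf, f_smul_right hf, f_sub_right hf, f_smul_right hf, hf.alternating, hu'u]
    ring
  have hgH : t * s * t⁻¹ * s⁻¹ ∈ H :=
    H.mul_mem (H.mul_mem (H.mul_mem ht hsH) (H.inv_mem ht)) (H.inv_mem hsH)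
  obtain ⟨β, hβ⟩ := C.TC hA hw hw0 (by rw [f_smul_left hf, huw, mul_zero]) hgH h4
  have hli : ∀ α β' : F, α • u + β' • w = 0 → α = 0 ∧ β' = 0 := by
    intro α β' h
    by_cases hβ' : β' = 0
    · rw [hβ', zero_smul, add_zero] at h
      rcases smul_eq_zero.mp h with h' | h'
      · exact ⟨h', hβ'⟩
      · exact absurd h' hu0
    · exfalso
      apply hwn
      rw [mem_span_pair']
      refine ⟨-(β'⁻¹ * α), 0, ?_⟩
      have e : β' • w = -(α • u) := by
        rw [eq_neg_iff_add_eq_zero, add_comm]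
        exact h
      have e2 : w = β'⁻¹ • (β' • w) := by rw [smul_smul, inv_mul_cancel₀ hβ', one_smul]
      rw [e2, e, zero_smul, add_zero, smul_neg, smul_smul, neg_smul]
  have h5 : Rat F₀ ((-c) • u + (-β) • w) := by
    have : (-c) • u + (-β) • w = (-c) • u - β • w := by module
    rw [this]
    exact hβ
  obtain ⟨h6, -⟩ := coeff_rat2 hu hw hli h5
  have := F₀.neg_mem h6
  rwa [neg_neg] at this

/-- (RE): under `A = F₀`, Siegel elements of `H` with rational centre are rational -/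
theorem SC.RE (C : SC F₀ f G H)
    (hA : ∀ u v, TP F₀ f u v → ∀ a, a ∈ AA f H u v → a ∈ F₀)
    {u y : Fin n → F} {c : F} (hu : Rat F₀ u) (hu0 : u ≠ 0) (hyu : f y u = 0)
    {t : GLn} (ht : t ∈ H) (hts : IsE f t u y c) :
    RatM F₀ (t : Matrix (Fin n) (Fin n) F) := by
  have hf := C.hf
  obtain ⟨β, hβ⟩ := C.TC hA hu hu0 hyu ht hts
  obtain ⟨y₀, hy₀⟩ : ∃ y₀ : Fin n → F, y₀ = y - β • u := ⟨_, rfl⟩
  rw [← hy₀] at hβ
  have hts' : IsE f t u y₀ (c - 2 * -β) := by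
    have := hts.shift hf (-β)
    refine this.congr ?_ rfl
    rw [hy₀, neg_smul, sub_eq_add_neg]
  have hy₀u : f y₀ u = 0 := by
    rw [hy₀, f_sub_left hf, f_smul_left hf, hyu, hf.alternating]
    ring
  obtain ⟨t₀, ht₀s⟩ := ex_E hf hy₀u (0 : F)
  have ht₀H : t₀ ∈ H := C.rat_E_mem hu hβ F₀.zero_mem hy₀u ht₀s
  have h1 := IsE.mul hf (by rw [f_neg_left hf, hy₀u, neg_zero]) hy₀u (ht₀s.inv hf hy₀u) hts'
  have h2 : IsE f (t₀⁻¹ * t) u 0 (c - 2 * -β) := by
    refine h1.congr (by abel) ?_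
    rw [f_neg_right hf, hf.alternating]
    ring
  have h3 := C.LL hA hu hu0 (H.mul_mem (H.inv_mem ht₀H) ht) h2
  exact hts'.rat C.sb hu hβ h3

end Cfsg.Agent.Lib.Helper28.Ss
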