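import Cfsg.Agent.Lib.Helper28.SsF

set_option autoImplicit false

open Cfsg

/-! Case II, part 3: elements of `H` outside the subfield group are in general position. -/

namespace Cfsg.Agent.Lib.Helper28.Ss

open Matrix Cfsg.Agent.Lib.Helper28.Sf Cfsg.Agent.Lib.Helper28.SympAbs
  Cfsg.Agent.Lib.Helper28.Os Cfsg.Agent.Lib.Helper28.DecGen

variable {n : ℕ} {F : Type*} [Field F] {F₀ : Subfield F} {f : (Fin n → F) → (Fin n → F) → F}
  {G H : Subgroup (Matrix.GeneralLinearGroup (Fin n) F)}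

local notation "GLn" => Matrix.GeneralLinearGroup (Fin n) F

/-- rational transvections lie in `H` and in the subfield group -/
theorem SC.rat_tv (C : SC F₀ f G H) {a : Fin n → F} (ha : Rat F₀ a) {d : F} (hd : d ∈ F₀) :
    ∃ m ∈ H, m ∈ Cfsg.Geo.subfieldSubgroup F₀ (1 : GLn) ∧
      ∀ x, (m : Matrix (Fin n) (Fin n) F) *ᵥ x = x + (d * f x a) • a := by
  have hf := C.hf
  obtain ⟨m, hms⟩ := ex_tv hf a d
  refine ⟨m, C.rat_E_mem ha Rat.zero hd (f_zero_left hf a) hms,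
    ratM_mem_sub (hms.rat C.sb ha Rat.zero hd), (isE_tv hf).1 hms⟩

/-- transitivity, non-orthogonal case -/
theorem SC.trans1 (C : SC F₀ f G H) {u w : Fin n → F} (hu : Rat F₀ u) (hw : Rat F₀ w)
    (hwu : f w u ≠ 0) :
    ∃ m ∈ H, m ∈ Cfsg.Geo.subfieldSubgroup F₀ (1 : GLn) ∧
      (m : Matrix (Fin n) (Fin n) F) *ᵥ w = u := by
  have hf := C.hf
  obtain ⟨m, hmH, hms, hm⟩ := C.rat_tv (hu.sub hw) (F₀.inv_mem (C.sb.rat _ _ hw hu))
  refine ⟨m, hmH, hms, ?_⟩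
  rw [hm, f_sub_right hf, hf.alternating, sub_zero, inv_mul_cancel₀ hwu, one_smul]
  abel

/-- transitivity of `H ∩ sub` on non-zero rational vectors -/
theorem SC.trans (C : SC F₀ f G H) {u w : Fin n → F} (hu : Rat F₀ u) (hw : Rat F₀ w)
    (hu0 : u ≠ 0) (hw0 : w ≠ 0) :
    ∃ m ∈ H, m ∈ Cfsg.Geo.subfieldSubgroup F₀ (1 : GLn) ∧
      (m : Matrix (Fin n) (Fin n) F) *ᵥ w = u := by
  have hf := C.hf
  by_cases h1 : f w u = 0
  swap
  · exact C.trans1 hu hw h1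
  obtain ⟨z₁, hz₁, huz₁⟩ := C.sb.ex_partner0 hu hu0
  obtain ⟨z₂, hz₂, hwz₂⟩ := C.sb.ex_partner0 hw hw0
  obtain ⟨z, hz, hwz, hzu⟩ : ∃ z, Rat F₀ z ∧ f w z ≠ 0 ∧ f z u ≠ 0 := by
    by_cases h2 : f w z₁ = 0
    · by_cases h3 : f u z₂ = 0
      · refine ⟨z₁ + z₂, hz₁.add hz₂, ?_, ?_⟩
        · rw [f_add_right hf, h2, hwz₂, zero_add]
          exact one_ne_zero
        · rw [f_add_left hf, f_swap_one hf huz₁, f_swap_zero hf h3, add_zero]
          exact neg_ne_zero.mpr one_ne_zero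
      · refine ⟨z₂, hz₂, by rw [hwz₂]; exact one_ne_zero, ?_⟩
        rw [hf.skew]
        exact neg_ne_zero.mpr h3
    · refine ⟨z₁, hz₁, h2, ?_⟩
      rw [f_swap_one hf huz₁]
      exact neg_ne_zero.mpr one_ne_zero
  obtain ⟨m₁, hm₁, hm₁s, hm₁w⟩ := C.trans1 hz hw hwz
  obtain ⟨m₂, hm₂, hm₂s, hm₂z⟩ := C.trans1 hu hz hzu
  refine ⟨m₂ * m₁, H.mul_mem hm₂ hm₁, Subgroup.mul_mem _ hm₂s hm₁s, ?_⟩
  rw [mul_mulVec, hm₁w, hm₂z]

/-- (E1): an element of `H` mapping a rational point to a rational point lies in the subfield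
group -/
theorem SC.mem_sub_of_map (C : SC F₀ f G H)
    (hA : ∀ u v, TP F₀ f u v → ∀ a, a ∈ AA f H u v → a ∈ F₀)
    {h : GLn} (hh : h ∈ H) {u : Fin n → F} (hu : Rat F₀ u) (hu0 : u ≠ 0)
    {c : F} {w₀ : Fin n → F} (hw₀ : Rat F₀ w₀)
    (e : (h : Matrix (Fin n) (Fin n) F) *ᵥ u = c • w₀) :
    h ∈ Cfsg.Geo.subfieldSubgroup F₀ (1 : GLn) := by
  have hne : (h : Matrix (Fin n) (Fin n) F) *ᵥ u ≠ 0 := by
    intro h0
    exact hu0 (Cfsg.Agent.Lib.Helper28.SubF.gl_inj h h0)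
  have hw₀0 : w₀ ≠ 0 := by
    rintro rfl
    rw [smul_zero] at e
    exact hne e
  obtain ⟨m, hm, hms, hmw⟩ := C.trans hu hw₀ hu0 hw₀0
  have h1 : ((m * h : GLn) : Matrix (Fin n) (Fin n) F) *ᵥ u = c • u := by
    rw [mul_mulVec, e, Matrix.mulVec_smul, hmw]
  have h2 := C.GP0 hA (H.mul_mem hm hh) hu hu0 h1
  have h3 : h = m⁻¹ * (m * h) := by group
  rw [h3]
  exact Subgroup.mul_mem _ (Subgroup.inv_mem _ hms) h2

/-- (NR): under `A = F₀`, if the image of a rational point under `h ∈ H` is orthogonal to a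
rational point then `h` lies in the subfield group -/
theorem SC.NR [Finite F] (C : SC F₀ f G H)
    (hA : ∀ u v, TP F₀ f u v → ∀ a, a ∈ AA f H u v → a ∈ F₀)
    {h : GLn} (hh : h ∈ H) {u x : Fin n → F} (hu : Rat F₀ u) (hu0 : u ≠ 0)
    (hx : Rat F₀ x) (hx0 : x ≠ 0)
    (hxw : f x ((h : Matrix (Fin n) (Fin n) F) *ᵥ u) = 0) :
    h ∈ Cfsg.Geo.subfieldSubgroup F₀ (1 : GLn) := by
  have hf := C.hf
  obtain ⟨w, hw⟩ : ∃ w, w = (h : Matrix (Fin n) (Fin n) F) *ᵥ u := ⟨_, rfl⟩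
  rw [← hw] at hxw
  have hw0 : w ≠ 0 := by
    rw [hw]
    intro h0
    exact hu0 (Cfsg.Agent.Lib.Helper28.SubF.gl_inj h h0)
  obtain ⟨τ, hτs⟩ := ex_tv hf u (1 : F)
  have hτH : τ ∈ H := C.rat_E_mem hu Rat.zero F₀.one_mem (f_zero_left hf u) hτs
  have hts := hτs.conj (C.iso hh)
  rw [← hw, Matrix.mulVec_zero] at hts
  obtain ⟨t, ht⟩ : ∃ t, t = h * τ * h⁻¹ := ⟨_, rfl⟩
  rw [← ht] at hts
  have htH : t ∈ H := by
    rw [ht]
    exact H.mul_mem (H.mul_mem hh hτH) (H.inv_mem hh)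
  have htv := (isE_tv hf).1 hts
  have htx : (t : Matrix (Fin n) (Fin n) F) *ᵥ x = (1 : F) • x := by
    rw [htv, hxw]
    module
  have htsub := C.GP0 hA htH hx hx0 htx
  have hr := unip_rat (hts.sq hf (f_zero_left hf w)) htsub
  obtain ⟨x', hx', hx'w⟩ := C.sb.ex_r_pair hw0
  have h1 := (hr x' hx').sub hx'
  have e1 : (t : Matrix (Fin n) (Fin n) F) *ᵥ x' - x' = f x' w • w := by
    rw [htv]
    module
  rw [e1] at h1
  have e2 : (h : Matrix (Fin n) (Fin n) F) *ᵥ u = (f x' w)⁻¹ • (f x' w • w) := by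
    rw [smul_smul, inv_mul_cancel₀ hx'w, one_smul, hw]
  exact C.mem_sub_of_map hA hh hu hu0 h1 e2

end Cfsg.Agent.Lib.Helper28.Ss
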