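import Cfsg.Agent.Lib.Helper28.SsA

set_option autoImplicit false

open Cfsg

/-! The isometry group of an abstract symplectic form is generated by transvections. -/

namespace Cfsg.Agent.Lib.Helper28.Ss

open Matrix Cfsg.Agent.Lib.Helper28.SympAbs

variable {n : ℕ} {F : Type*} [Field F] {f : (Fin n → F) → (Fin n → F) → F}

/-- the orthogonal complement of a subspace -/
def perp (hf : Cfsg.Geo.IsSymplecticForm f) (U : Submodule F (Fin n → F)) :
    Submodule F (Fin n → F) where
  carrier := {x | ∀ z ∈ U, f z x = 0}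
  add_mem' := by
    intro a b ha hb z hz
    rw [f_add_right hf, ha z hz, hb z hz, add_zero]
  zero_mem' := by
    intro z _
    exact f_zero_right hf z
  smul_mem' := by
    intro c a ha z hz
    rw [f_smul_right hf, ha z hz, mul_zero]

theorem mem_perp (hf : Cfsg.Geo.IsSymplecticForm f) (U : Submodule F (Fin n → F))
    (x : Fin n → F) : x ∈ perp hf U ↔ ∀ z ∈ U, f z x = 0 := Iff.rfl

theorem proj_mem (hf : Cfsg.Geo.IsSymplecticForm f) (U : Submodule F (Fin n → F))
    (x t b : Fin n → F) (hx : x ∈ perp hf U) (ht : t ∈ perp hf U) (hb : b ∈ perp hf U)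
    (hxt : f x t = 1) :
    b - f b t • x + f b x • t ∈ perp hf (U ⊔ Submodule.span F {x, t}) := by
  have htx : f t x = -1 := f_swap_one hf hxt
  intro z hz
  obtain ⟨a, ha, w, hw, rfl⟩ := Submodule.mem_sup.mp hz
  obtain ⟨c, d, rfl⟩ := Submodule.mem_span_pair.mp hw
  have h1 : f a (b - f b t • x + f b x • t) = 0 := by
    have : b - f b t • x + f b x • t ∈ perp hf U :=
      (perp hf U).add_mem ((perp hf U).sub_mem hb ((perp hf U).smul_mem _ hx))
        ((perp hf U).smul_mem _ ht)
    exact this a ha
  rw [f_add_left hf, h1, zero_add]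
  simp only [f_add_left hf, f_add_right hf, f_sub_right hf, f_smul_left hf, f_smul_right hf,
    hf.alternating, hxt, htx]
  rw [hf.skew b x, hf.skew b t]
  ring

theorem gen_main (hf : Cfsg.Geo.IsSymplecticForm f) : ∀ (k : ℕ) (U : Submodule F (Fin n → F)),
    n - Module.finrank F U = k →
    (∀ v : Fin n → F, ∃ a ∈ U, ∃ b ∈ perp hf U, v = a + b) →
    (∀ x ∈ perp hf U, x ≠ 0 → ∃ t ∈ perp hf U, f x t ≠ 0) →
    ∀ g : Matrix.GeneralLinearGroup (Fin n) F,
      (∀ x y, f ((g : Matrix (Fin n) (Fin n) F) *ᵥ x) ((g : Matrix (Fin n) (Fin n) F) *ᵥ y) =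
        f x y) →
      (∀ z ∈ U, (g : Matrix (Fin n) (Fin n) F) *ᵥ z = z) → g ∈ TT f := by
  intro k
  induction k using Nat.strong_induction_on with
  | _ k ih =>
  intro U hk hdec hnd g hgmem hg
  by_cases hall : ∀ x ∈ perp hf U, x = 0
  · have hfix : ∀ v, (g : Matrix (Fin n) (Fin n) F) *ᵥ v = v := by
      intro v
      obtain ⟨a, ha, b, hb, rfl⟩ := hdec v
      rw [hall b hb, add_zero]
      exact hg a ha
    have : g = 1 := by
      apply Cfsg.Agent.Lib.Helper28.DecGen.glx
      intro x
      rw [hfix, Units.val_one, Matrix.one_mulVec]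
    rw [this]
    exact Subgroup.one_mem _
  · push Not at hall
    obtain ⟨x, hxW, hx0⟩ := hall
    obtain ⟨t0, ht0W, hxt0⟩ := hnd x hxW hx0
    obtain ⟨t, ht⟩ : ∃ t : Fin n → F, t = (f x t0)⁻¹ • t0 := ⟨_, rfl⟩
    have htW : t ∈ perp hf U := by rw [ht]; exact (perp hf U).smul_mem _ ht0W
    have hxt : f x t = 1 := by
      rw [ht, f_smul_right hf, inv_mul_cancel₀ hxt0]
    have hgW : ∀ y ∈ perp hf U, (g : Matrix (Fin n) (Fin n) F) *ᵥ y ∈ perp hf U := by
      intro y hy z hz
      rw [← hg z hz, hgmem]
      exact hy z hz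
    obtain ⟨h, hh, hhx, hht, hhfix⟩ := trans_pair hf (perp hf U) hnd
      ((g : Matrix (Fin n) (Fin n) F) *ᵥ x)
      ((g : Matrix (Fin n) (Fin n) F) *ᵥ t) x t
      (hgW x hxW) (hgW t htW) hxW htW (by rw [hgmem, hxt]) hxt
    have hhU : ∀ z ∈ U, (h : Matrix (Fin n) (Fin n) F) *ᵥ z = z := by
      intro z hz
      apply hhfix
      intro w hw
      exact hw z hz
    obtain ⟨U', hU'⟩ : ∃ U', U' = U ⊔ Submodule.span F {x, t} := ⟨_, rfl⟩
    have hxU' : x ∈ U' := by
      rw [hU']; exact Submodule.mem_sup_right (Submodule.subset_span (by simp))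
    have htU' : t ∈ U' := by
      rw [hU']; exact Submodule.mem_sup_right (Submodule.subset_span (by simp))
    have hxU : x ∉ U := by
      intro hxU
      have := htW x hxU
      rw [hxt] at this
      exact one_ne_zero this
    have hlt : U < U' := by
      refine lt_of_le_of_ne (by rw [hU']; exact le_sup_left) ?_
      intro heq
      apply hxU
      rw [heq]
      exact hxU'
    have hfr : Module.finrank F U < Module.finrank F U' := Submodule.finrank_lt_finrank_of_lt hlt
    have hfr' : Module.finrank F U' ≤ n := by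
      have := Submodule.finrank_le U'
      rwa [Module.finrank_fin_fun] at this
    have hperp_le : perp hf U' ≤ perp hf U := by
      intro y hy z hz
      exact hy z (by rw [hU']; exact Submodule.mem_sup_left hz)
    have hgh : (h * g) ∈ TT f := by
      apply ih (n - Module.finrank F U') (by omega) U' rfl
      · intro v
        obtain ⟨a, ha, b, hb, rfl⟩ := hdec v
        refine ⟨a + (f b t • x - f b x • t), ?_, b - f b t • x + f b x • t, ?_, by abel⟩
        · exact U'.add_mem (by rw [hU']; exact Submodule.mem_sup_left ha)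
            (U'.sub_mem (U'.smul_mem _ hxU') (U'.smul_mem _ htU'))
        · rw [hU']
          exact proj_mem hf U x t b hxW htW hb hxt
      · intro y hy hy0
        obtain ⟨s, hs, hys⟩ := hnd y (hperp_le hy) hy0
        refine ⟨s - f s t • x + f s x • t, ?_, ?_⟩
        · rw [hU']
          exact proj_mem hf U x t s hxW htW hs hxt
        have h1 : f y x = 0 := by
          rw [hf.skew, hy x hxU', neg_zero]
        have h2 : f y t = 0 := by
          rw [hf.skew, hy t htU', neg_zero]
        simp only [f_add_right hf, f_sub_right hf, f_smul_right hf, h1, h2, mul_zero,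
          sub_zero, add_zero]
        exact hys
      · intro a b
        rw [mul_mulVec, mul_mulVec, TT_apply hf h hh, hgmem]
      · intro z hz
        rw [hU'] at hz
        obtain ⟨a, ha, w, hw, rfl⟩ := Submodule.mem_sup.mp hz
        obtain ⟨c, d, rfl⟩ := Submodule.mem_span_pair.mp hw
        rw [mul_mulVec]
        simp only [Matrix.mulVec_add, Matrix.mulVec_smul]
        rw [hg a ha, hhU a ha, hhx, hht]
    have : g = h⁻¹ * (h * g) := by group
    rw [this]
    exact Subgroup.mul_mem _ (Subgroup.inv_mem _ hh) hgh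

/-- every isometry of a symplectic form is a product of transvections -/
theorem iso_mem_TT (hf : Cfsg.Geo.IsSymplecticForm f) (g : Matrix.GeneralLinearGroup (Fin n) F)
    (hg : ∀ x y, f ((g : Matrix (Fin n) (Fin n) F) *ᵥ x) ((g : Matrix (Fin n) (Fin n) F) *ᵥ y) =
      f x y) : g ∈ TT f := by
  apply gen_main hf (n - Module.finrank F (⊥ : Submodule F (Fin n → F))) ⊥ rfl
  · intro v
    refine ⟨0, Submodule.zero_mem _, v, ?_, by simp⟩
    intro z hz
    rw [(Submodule.mem_bot F).mp hz]
    exact f_zero_left hf v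
  · intro x _ hx0
    obtain ⟨t, ht⟩ := (hf.nondegenerate x hx0).2
    refine ⟨t, ?_, ht⟩
    intro z hz
    rw [(Submodule.mem_bot F).mp hz]
    exact f_zero_left hf t
  · exact hg
  · intro z hz
    rw [(Submodule.mem_bot F).mp hz]
    exact Matrix.mulVec_zero _

end Cfsg.Agent.Lib.Helper28.Ss
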