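import Cfsg.Agent.Lib.Helper28.SsG

set_option autoImplicit false

open Cfsg

/-! Case II, endgame in characteristic two. -/

namespace Cfsg.Agent.Lib.Helper28.Ss

open Matrix Cfsg.Agent.Lib.Helper28.Sf Cfsg.Agent.Lib.Helper28.SympAbs
  Cfsg.Agent.Lib.Helper28.Os Cfsg.Agent.Lib.Helper28.DecGen

variable {n : ℕ} {F : Type*} [Field F] {F₀ : Subfield F} {f : (Fin n → F) → (Fin n → F) → F}
  {G H : Subgroup (Matrix.GeneralLinearGroup (Fin n) F)}

local notation "GLn" => Matrix.GeneralLinearGroup (Fin n) F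

/-- the image of `t - 1` -/
def Dr (t : GLn) : Submodule F (Fin n → F) where
  carrier := {y | ∃ x, y = (t : Matrix (Fin n) (Fin n) F) *ᵥ x - x}
  add_mem' := by
    rintro _ _ ⟨x, rfl⟩ ⟨x', rfl⟩
    exact ⟨x + x', by rw [Matrix.mulVec_add]; abel⟩
  zero_mem' := ⟨0, by rw [Matrix.mulVec_zero, sub_zero]⟩
  smul_mem' := by
    rintro c _ ⟨x, rfl⟩
    exact ⟨c • x, by rw [Matrix.mulVec_smul, smul_sub]⟩

theorem ratCl_Dr {t : GLn} (hr : RatM F₀ (t : Matrix (Fin n) (Fin n) F)) : RatCl F₀ (Dr t) := by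
  rintro ψ _ ⟨x, rfl⟩
  exact ⟨ratl ψ x, by rw [ratl_sub, hr.mulVec_ratl]⟩

/-- Step D in characteristic two -/
theorem SC.stepD2 [Finite F] (C : SC F₀ f G H) (h2 : (2 : F) = 0)
    (hA : ∀ u v, TP F₀ f u v → ∀ a, a ∈ AA f H u v → a ∈ F₀) :
    H ≤ Cfsg.Geo.subfieldSubgroup F₀ (1 : GLn) := by
  have hf := C.hf
  have hn := C.hn
  intro h hh
  have hhiso := C.iso hh
  obtain ⟨u, v₁, tp⟩ := C.ex_TP
  obtain ⟨v₂, hv₂, hv₂p, hv₂n⟩ := C.sb.ex_rs ![u, v₁]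
    (fun j => by fin_cases j; exact tp.ru; exact tp.rv) (by omega)
  have huv₂ : f u v₂ = 0 := hv₂p 0
  have hne : (h : Matrix (Fin n) (Fin n) F) *ᵥ u ≠ 0 := by
    intro h0
    exact tp.u0 (Cfsg.Agent.Lib.Helper28.SubF.gl_inj h h0)
  have key : ∀ v : Fin n → F, Rat F₀ v → f u v = 0 → v ∉ Submodule.span F {u} →
      ∃ L : Submodule F (Fin n → F), RatCl F₀ L ∧ (h : Matrix (Fin n) (Fin n) F) *ᵥ u ∈ L ∧
        ∀ y ∈ L, ∃ α β : F, y = α • ((h : Matrix (Fin n) (Fin n) F) *ᵥ u) +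
          β • ((h : Matrix (Fin n) (Fin n) F) *ᵥ v) := by
    intro v hv huv hvn
    have hvu : f v u = 0 := f_swap_zero hf huv
    obtain ⟨t, hts⟩ := ex_T hf hvu (1 : F)
    have htH : t ∈ H := C.rat_T_mem tp.ru hv F₀.one_mem hvu hts
    have hts' := hts.conj hf hhiso
    obtain ⟨t', ht'⟩ : ∃ t', t' = h * t * h⁻¹ := ⟨_, rfl⟩
    rw [← ht'] at hts'
    have ht'H : t' ∈ H := by
      rw [ht']
      exact H.mul_mem (H.mul_mem hh htH) (H.inv_mem hh)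
    obtain ⟨a, ha⟩ : ∃ a, a = (h : Matrix (Fin n) (Fin n) F) *ᵥ u := ⟨_, rfl⟩
    obtain ⟨b, hb⟩ : ∃ b, b = (h : Matrix (Fin n) (Fin n) F) *ᵥ v := ⟨_, rfl⟩
    rw [← ha, ← hb] at hts' ⊢
    have hba : f b a = 0 := by rw [ha, hb, hhiso, hvu]
    have hab : f a b = 0 := f_swap_zero hf hba
    have hbn : b ∉ Submodule.span F {a} := by
      intro hm
      obtain ⟨c, hc⟩ := Submodule.mem_span_singleton.mp hm
      apply hvn
      rw [Submodule.mem_span_singleton]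
      refine ⟨c, ?_⟩
      apply sub_eq_zero.mp
      apply Cfsg.Agent.Lib.Helper28.SubF.gl_inj h
      rw [Matrix.mulVec_sub, Matrix.mulVec_smul, ← ha, ← hb, hc, sub_self]
    have h0 : f u ((t' : Matrix (Fin n) (Fin n) F) *ᵥ u) = 0 := by
      rw [hts'.apply hf, f_add_right hf, f_add_right hf, f_smul_right hf, f_smul_right hf,
        hf.alternating]
      linear_combination (f u a * f u b) * h2
    have ht'sub := C.NR hA ht'H tp.ru tp.u0 tp.ru tp.u0 h0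
    have hr := unip_rat (IsE.sq hf (by rw [f_smul_left hf, hba, mul_zero]) hts') ht'sub
    refine ⟨Dr t', ratCl_Dr hr, ?_, ?_⟩
    · obtain ⟨y, hyS, hyb⟩ := dperp hf (Submodule.span F {a}) b hbn
      have hay : f a y = 0 := hyS a (Submodule.subset_span rfl)
      refine ⟨-(f b y)⁻¹ • y, ?_⟩
      rw [hts'.apply hf, f_smul_left hf, f_smul_left hf, hf.skew y a, hay, hf.skew y b]
      have e : -(f b y)⁻¹ * -(f b y) = 1 := by field_simp
      rw [mul_comm (-(f b y)⁻¹) (-(f b y))] at e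
      have e' : 1 * (-(f b y)⁻¹ * -(f b y)) = 1 := by rw [mul_comm (-(f b y)⁻¹), e, mul_one]
      rw [e']
      simp
    · rintro _ ⟨x, rfl⟩
      refine ⟨f x b, f x a, ?_⟩
      rw [hts'.apply hf]
      module
  have hv₂n' : v₂ ∉ Submodule.span F {u} := by
    intro hm
    obtain ⟨a, ha⟩ := Submodule.mem_span_singleton.mp hm
    apply hv₂n
    rw [mem_span_pair']
    exact ⟨a, 0, by rw [zero_smul, add_zero, ha]⟩
  obtain ⟨L₁, k1, hw1, hL1⟩ := key v₁ tp.rv tp.uv tp.ind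
  obtain ⟨L₂, k2, hw2, hL2⟩ := key v₂ hv₂ huv₂ hv₂n'
  obtain ⟨c, hc0, hc⟩ := (k1.inf k2).line (w := (h : Matrix (Fin n) (Fin n) F) *ᵥ u)
    ⟨hw1, hw2⟩ hne (by
      rintro y ⟨hy1, hy2⟩
      obtain ⟨a₁, b₁, e1⟩ := hL1 y hy1
      obtain ⟨a₂, b₂, e2⟩ := hL2 y hy2
      have e3 : (a₁ - a₂) • u + b₁ • v₁ - b₂ • v₂ = 0 := by
        apply Cfsg.Agent.Lib.Helper28.SubF.gl_inj h
        rw [Matrix.mulVec_sub, Matrix.mulVec_add, Matrix.mulVec_smul, Matrix.mulVec_smul,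
          Matrix.mulVec_smul]
        have e4 := e1.symm.trans e2
        rw [sub_smul]
        linear_combination (exp := 1) e4
      have hb₂ : b₂ = 0 := by
        by_contra hb
        apply hv₂n
        rw [mem_span_pair']
        refine ⟨b₂⁻¹ * (a₁ - a₂), b₂⁻¹ * b₁, ?_⟩
        have e5 : b₂ • v₂ = (a₁ - a₂) • u + b₁ • v₁ := (sub_eq_zero.mp e3).symm
        have e6 : v₂ = b₂⁻¹ • (b₂ • v₂) := by rw [smul_smul, inv_mul_cancel₀ hb, one_smul]
        rw [e6, e5, smul_add, smul_smul, smul_smul]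
      refine ⟨a₂, ?_⟩
      rw [e2, hb₂, zero_smul, add_zero])
  have e7 : (h : Matrix (Fin n) (Fin n) F) *ᵥ u =
      c⁻¹ • (c • ((h : Matrix (Fin n) (Fin n) F) *ᵥ u)) := by
    rw [smul_smul, inv_mul_cancel₀ hc0, one_smul]
  exact C.mem_sub_of_map hA hh tp.ru tp.u0 hc e7

end Cfsg.Agent.Lib.Helper28.Ss
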