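import Cfsg.Agent.Lib.Helper28.SsH
import Cfsg.Agent.Lib.Helper28.OsL

set_option autoImplicit false

open Cfsg

/-! Case II, odd characteristic: the `SL₂`-section on a hyperbolic plane. -/

namespace Cfsg.Agent.Lib.Helper28.Ss

open Matrix Cfsg.Agent.Lib.Helper28.Sf Cfsg.Agent.Lib.Helper28.SympAbs
  Cfsg.Agent.Lib.Helper28.Os Cfsg.Agent.Lib.Helper28.DecGen

variable {n : ℕ} {F : Type*} [Field F] {F₀ : Subfield F} {f : (Fin n → F) → (Fin n → F) → F}
  {G H : Subgroup (Matrix.GeneralLinearGroup (Fin n) F)}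

local notation "GLn" => Matrix.GeneralLinearGroup (Fin n) F

/-- `k` fixes `⟨u, w⟩^⊥` pointwise -/
def PerpFix (f : (Fin n → F) → (Fin n → F) → F) (u w : Fin n → F) (k : GLn) : Prop :=
  ∀ x, f x u = 0 → f x w = 0 → (k : Matrix (Fin n) (Fin n) F) *ᵥ x = x

/-- the image in `SL₂` of the part of `H` acting on the plane `⟨u, w⟩` -/
def KP (f : (Fin n → F) → (Fin n → F) → F) (H : Subgroup GLn) (u w : Fin n → F) :
    Subgroup (Matrix.SpecialLinearGroup (Fin 2) F) where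
  carrier := {A | ∃ k ∈ H, Acts u w k A.1 ∧ PerpFix f u w k}
  one_mem' := by
    refine ⟨1, H.one_mem, ⟨?_, ?_⟩, fun x _ _ => ?_⟩
    · simp
    · simp
    · simp
  mul_mem' := by
    rintro A B ⟨k, hk, ⟨hku, hkw⟩, hkp⟩ ⟨l, hl, ⟨hlu, hlw⟩, hlp⟩
    refine ⟨k * l, H.mul_mem hk hl, ⟨?_, ?_⟩, ?_⟩
    · rw [mul_mulVec, hlu, Matrix.mulVec_add, Matrix.mulVec_smul, Matrix.mulVec_smul,
        hku, hkw, Matrix.SpecialLinearGroup.coe_mul]
      simp only [Matrix.mul_apply, Fin.sum_univ_two]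
      module
    · rw [mul_mulVec, hlw, Matrix.mulVec_add, Matrix.mulVec_smul, Matrix.mulVec_smul,
        hku, hkw, Matrix.SpecialLinearGroup.coe_mul]
      simp only [Matrix.mul_apply, Fin.sum_univ_two]
      module
    · intro x hxu hxw
      rw [mul_mulVec, hlp x hxu hxw, hkp x hxu hxw]
  inv_mem' := by
    rintro A ⟨k, hk, ⟨hku, hkw⟩, hkp⟩
    have hdet := A.2
    rw [Matrix.det_fin_two] at hdet
    have hiu : ((k⁻¹ : GLn) : Matrix (Fin n) (Fin n) F) *ᵥ u = A.1 1 1 • u - A.1 1 0 • w := by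
      have h1 : (k : Matrix (Fin n) (Fin n) F) *ᵥ (A.1 1 1 • u - A.1 1 0 • w) = u := by
        rw [Matrix.mulVec_sub, Matrix.mulVec_smul, Matrix.mulVec_smul, hku, hkw]
        have e : A.1 1 1 • (A.1 0 0 • u + A.1 1 0 • w) - A.1 1 0 • (A.1 0 1 • u + A.1 1 1 • w) =
            (A.1 0 0 * A.1 1 1 - A.1 0 1 * A.1 1 0) • u := by module
        rw [e, hdet, one_smul]
      rw [← h1, gl_cancel, h1]
    have hiw : ((k⁻¹ : GLn) : Matrix (Fin n) (Fin n) F) *ᵥ w =
        -(A.1 0 1) • u + A.1 0 0 • w := by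
      have h1 : (k : Matrix (Fin n) (Fin n) F) *ᵥ (-(A.1 0 1) • u + A.1 0 0 • w) = w := by
        rw [Matrix.mulVec_add, Matrix.mulVec_smul, Matrix.mulVec_smul, hku, hkw]
        have e : -(A.1 0 1) • (A.1 0 0 • u + A.1 1 0 • w) + A.1 0 0 • (A.1 0 1 • u + A.1 1 1 • w) =
            (A.1 0 0 * A.1 1 1 - A.1 0 1 * A.1 1 0) • w := by module
        rw [e, hdet, one_smul]
      rw [← h1, gl_cancel, h1]
    refine ⟨k⁻¹, H.inv_mem hk, ⟨?_, ?_⟩, ?_⟩
    · rw [hiu, Matrix.SpecialLinearGroup.coe_inv, Matrix.adjugate_fin_two]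
      simp
      module
    · rw [hiw, Matrix.SpecialLinearGroup.coe_inv, Matrix.adjugate_fin_two]
      simp
    · intro x hxu hxw
      conv_lhs => rw [← hkp x hxu hxw]
      exact gl_cancel k x

/-- transvections with centre `w` give lower unitriangular elements -/
theorem KP_L (hf : Cfsg.Geo.IsSymplecticForm f) {u w : Fin n → F} (huw : f u w = 1) {t : GLn}
    (ht : t ∈ H) {d : F} (hts : IsE f t w 0 d) : Lbar d ∈ KP f H u w := by
  have htv := (isE_tv hf).1 hts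
  refine ⟨t, ht, ⟨?_, ?_⟩, ?_⟩
  · rw [htv, huw]
    simp [Lbar]
  · rw [htv, hf.alternating]
    simp [Lbar]
  · intro x _ hxw
    rw [htv, hxw]
    module

/-- transvections with centre `u` give upper unitriangular elements -/
theorem KP_U (hf : Cfsg.Geo.IsSymplecticForm f) {u w : Fin n → F} (huw : f u w = 1) {t : GLn}
    (ht : t ∈ H) {d : F} (hts : IsE f t u 0 d) : Ubar (-d) ∈ KP f H u w := by
  have htv := (isE_tv hf).1 hts
  have hwu : f w u = -1 := f_swap_one hf huw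
  refine ⟨t, ht, ⟨?_, ?_⟩, ?_⟩
  · rw [htv, hf.alternating]
    simp [Ubar]
  · rw [htv, hwu]
    simp [Ubar]
    abel
  · intro x hxu _
    rw [htv, hxu]
    module

/-- (P2'): elements of `KP` fixing the point `⟨u⟩` act trivially on it -/
theorem SC.P2 (C : SC F₀ f G H)
    (hA : ∀ u v, TP F₀ f u v → ∀ a, a ∈ AA f H u v → a ∈ F₀)
    {u w : Fin n → F} (hu : Rat F₀ u) (hu0 : u ≠ 0) (huw : f u w = 1)
    (hns : ∀ x, Rat F₀ x → f x w = 0 → x = 0)
    {A : Matrix.SpecialLinearGroup (Fin 2) F} (hAK : A ∈ KP f H u w) (h10 : A.1 1 0 = 0) :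
    A.1 0 0 = 1 := by
  have hf := C.hf
  have hn := C.hn
  obtain ⟨k, hk, ⟨hku, -⟩, hkp⟩ := hAK
  rw [h10, zero_smul, add_zero] at hku
  obtain ⟨a, ha⟩ : ∃ a, a = A.1 0 0 := ⟨_, rfl⟩
  rw [← ha] at hku ⊢
  have hksub := C.GP0 hA hk hu hu0 hku
  obtain ⟨c₀, hc₀, hrat⟩ := rat_of_mem_sub_one hksub
  have key : ∀ x : Fin n → F, Rat F₀ x → f x u = 0 → x ∉ Submodule.span F {u} →
      (a - 1) * f x w ∈ F₀ := by
    intro x hx hxu hxn
    obtain ⟨hp1, hp2⟩ := prj_perp hf huw x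
    have e1 : (k : Matrix (Fin n) (Fin n) F) *ᵥ x = x + ((a - 1) * f x w) • u := by
      conv_lhs => rw [prj_decomp (f := f) u w x]
      rw [Matrix.mulVec_sub, Matrix.mulVec_add, Matrix.mulVec_smul, Matrix.mulVec_smul,
        hkp _ hp1 hp2, hku, hxu]
      unfold prj
      rw [hxu]
      module
    have h1 := hrat x hx
    rw [e1] at h1
    have e2 : c₀⁻¹ • (x + ((a - 1) * f x w) • u) = c₀⁻¹ • x + (c₀⁻¹ * ((a - 1) * f x w)) • u := by
      module
    rw [e2] at h1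
    have hli : ∀ α β : F, α • x + β • u = 0 → α = 0 ∧ β = 0 := by
      intro α β h
      by_cases hα : α = 0
      · rw [hα, zero_smul, zero_add] at h
        rcases smul_eq_zero.mp h with h' | h'
        · exact ⟨hα, h'⟩
        · exact absurd h' hu0
      · exfalso
        apply hxn
        rw [Submodule.mem_span_singleton]
        refine ⟨-(α⁻¹ * β), ?_⟩
        have e : α • x = -(β • u) := eq_neg_of_add_eq_zero_left h
        have e3 : x = α⁻¹ • (α • x) := by rw [smul_smul, inv_mul_cancel₀ hα, one_smul]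
        rw [e3, e, smul_neg, smul_smul, neg_smul]
    obtain ⟨h2, h3⟩ := coeff_rat2 hx hu hli h1
    have e4 : (a - 1) * f x w = (c₀⁻¹)⁻¹ * (c₀⁻¹ * ((a - 1) * f x w)) := by
      field_simp
    rw [e4]
    exact F₀.mul_mem (F₀.inv_mem h2) h3
  obtain ⟨x₁, hx₁, hx₁p, hx₁n⟩ := C.sb.ex_rs ![u] (fun j => by fin_cases j; exact hu) (by omega)
  have hx₁u : f x₁ u = 0 := f_swap_zero hf (hx₁p 0)
  have hx₁n' : x₁ ∉ Submodule.span F {u} := by
    intro hm
    apply hx₁n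
    rw [mem_span_single']
    exact Submodule.mem_span_singleton.mp hm
  have hx₂n : x₁ + u ∉ Submodule.span F {u} := by
    intro hm
    apply hx₁n'
    have : x₁ = (x₁ + u) - u := by abel
    rw [this]
    exact Submodule.sub_mem _ hm (Submodule.subset_span rfl)
  have k1 := key x₁ hx₁ hx₁u hx₁n'
  have k2 := key (x₁ + u) (hx₁.add hu) (by rw [f_add_left hf, hx₁u, hf.alternating, add_zero]) hx₂n
  rw [f_add_left hf, huw] at k2
  have h5 : a - 1 ∈ F₀ := by
    have e : a - 1 = (a - 1) * (f x₁ w + 1) - (a - 1) * f x₁ w := by ring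
    rw [e]
    exact F₀.sub_mem k2 k1
  by_contra hne
  have hne' : a - 1 ≠ 0 := sub_ne_zero.mpr hne
  have h6 : f x₁ w ∈ F₀ := by
    have e : f x₁ w = (a - 1)⁻¹ * ((a - 1) * f x₁ w) := by field_simp
    rw [e]
    exact F₀.mul_mem (F₀.inv_mem h5) k1
  have h7 : x₁ - f x₁ w • u = 0 := by
    apply hns _ (hx₁.sub (Rat.smul h6 hu))
    rw [f_sub_left hf, f_smul_left hf, huw]
    ring
  apply hx₁n'
  rw [Submodule.mem_span_singleton]
  exact ⟨f x₁ w, (sub_eq_zero.mp h7).symm⟩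

end Cfsg.Agent.Lib.Helper28.Ss
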