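import Cfsg.Agent.Lib.Helper28.OsK
import Cfsg.Agent.Lib.Helper28.OsD
import Cfsg.Agent.S5060
import Cfsg.Agent.S0801

set_option autoImplicit false

open Cfsg

/-! A subgroup of `SL₂(F)` (odd characteristic) containing `U(F₀)` and `L(κ F₀)` contains `-1`. -/

namespace Cfsg.Agent.Lib.Helper28.Ss

open Matrix Cfsg.Agent.Lib.Helper28.Os

variable {F : Type*} [Field F]

/-- the central involution of `SL₂` -/
def Nbar : Matrix.SpecialLinearGroup (Fin 2) F :=
  ⟨!![-1, 0; 0, -1], by simp [Matrix.det_fin_two]⟩

/-- the Weyl element -/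
def Jbar : Matrix.SpecialLinearGroup (Fin 2) F :=
  ⟨!![0, 1; -1, 0], by simp [Matrix.det_fin_two]⟩

theorem word_neg_one :
    (Ubar (1 : F) * Lbar (-1) * Ubar 1) * (Ubar (1 : F) * Lbar (-1) * Ubar 1) = Nbar := by
  apply Subtype.ext
  simp only [Matrix.SpecialLinearGroup.coe_mul]
  ext i j
  fin_cases i <;> fin_cases j <;>
    simp [Ubar, Lbar, Nbar, Matrix.mul_apply, Fin.sum_univ_two]

theorem conj_L_one : (Jbar : Matrix.SpecialLinearGroup (Fin 2) F)⁻¹ * Lbar 1 * Jbar = Ubar (-1) := by
  apply Subtype.ext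
  simp only [Matrix.SpecialLinearGroup.coe_mul, Matrix.SpecialLinearGroup.coe_inv,
    Matrix.adjugate_fin_two]
  ext i j
  fin_cases i <;> fin_cases j <;>
    simp [Ubar, Lbar, Jbar, Matrix.mul_apply, Fin.sum_univ_two]

theorem conj_U (a : F) :
    (Jbar : Matrix.SpecialLinearGroup (Fin 2) F)⁻¹ * Ubar a * Jbar = Lbar (-a) := by
  apply Subtype.ext
  simp only [Matrix.SpecialLinearGroup.coe_mul, Matrix.SpecialLinearGroup.coe_inv,
    Matrix.adjugate_fin_two]
  ext i j
  fin_cases i <;> fin_cases j <;>
    simp [Ubar, Lbar, Jbar, Matrix.mul_apply, Fin.sum_univ_two]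

theorem conj_N : (Jbar : Matrix.SpecialLinearGroup (Fin 2) F)⁻¹ * Nbar * Jbar = Nbar := by
  apply Subtype.ext
  simp only [Matrix.SpecialLinearGroup.coe_mul, Matrix.SpecialLinearGroup.coe_inv,
    Matrix.adjugate_fin_two]
  ext i j
  fin_cases i <;> fin_cases j <;>
    simp [Nbar, Jbar, Matrix.mul_apply, Fin.sum_univ_two]

/-- the only involution of `SL₂` in odd characteristic is `-1` -/
theorem involution_eq (h2 : (2 : F) ≠ 0) {A : Matrix.SpecialLinearGroup (Fin 2) F}
    (hA : A * A = 1) (hA1 : A ≠ 1) : A = Nbar := by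
  have hdet := A.2
  rw [Matrix.det_fin_two] at hdet
  have h00 : A.1 0 0 * A.1 0 0 + A.1 0 1 * A.1 1 0 = 1 := by
    have := congrArg (fun B : Matrix.SpecialLinearGroup (Fin 2) F => B.1 0 0) hA
    simpa [Matrix.mul_apply, Fin.sum_univ_two] using this
  have h01 : A.1 0 0 * A.1 0 1 + A.1 0 1 * A.1 1 1 = 0 := by
    have := congrArg (fun B : Matrix.SpecialLinearGroup (Fin 2) F => B.1 0 1) hA
    simpa [Matrix.mul_apply, Fin.sum_univ_two] using this
  have h10 : A.1 1 0 * A.1 0 0 + A.1 1 1 * A.1 1 0 = 0 := by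
    have := congrArg (fun B : Matrix.SpecialLinearGroup (Fin 2) F => B.1 1 0) hA
    simpa [Matrix.mul_apply, Fin.sum_univ_two] using this
  have h11 : A.1 1 0 * A.1 0 1 + A.1 1 1 * A.1 1 1 = 1 := by
    have := congrArg (fun B : Matrix.SpecialLinearGroup (Fin 2) F => B.1 1 1) hA
    simpa [Matrix.mul_apply, Fin.sum_univ_two] using this
  have htr : A.1 0 0 + A.1 1 1 ≠ 0 := by
    intro h
    have e : A.1 1 1 = -A.1 0 0 := by linear_combination h
    rw [e] at hdet
    apply h2
    linear_combination -h00 - hdet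
  have hb : A.1 0 1 = 0 := by
    have : A.1 0 1 * (A.1 0 0 + A.1 1 1) = 0 := by linear_combination h01
    rcases mul_eq_zero.mp this with h | h
    · exact h
    · exact absurd h htr
  have hc : A.1 1 0 = 0 := by
    have : A.1 1 0 * (A.1 0 0 + A.1 1 1) = 0 := by linear_combination h10
    rcases mul_eq_zero.mp this with h | h
    · exact h
    · exact absurd h htr
  rw [hb, hc] at hdet h00 h11
  have ha : A.1 0 0 = 1 ∨ A.1 0 0 = -1 := by
    have : (A.1 0 0 - 1) * (A.1 0 0 + 1) = 0 := by linear_combination h00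
    rcases mul_eq_zero.mp this with h | h
    · left; linear_combination h
    · right; linear_combination h
  rcases ha with ha | ha
  · exfalso
    apply hA1
    have hd : A.1 1 1 = 1 := by
      rw [ha] at hdet
      linear_combination hdet
    apply Subtype.ext
    ext i j
    fin_cases i <;> fin_cases j <;> simp [ha, hb, hc, hd]
  · have hd : A.1 1 1 = -1 := by
      rw [ha] at hdet
      linear_combination -hdet
    apply Subtype.ext
    ext i j
    fin_cases i <;> fin_cases j <;> simp [Nbar, ha, hb, hc, hd]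

/-- a field with three elements consists of `0, 1, -1` -/
theorem mem_three {F₀ : Subfield F} (h3 : Nat.card F₀ = 3) {a : F} (ha : a ∈ F₀) :
    a = 0 ∨ a = 1 ∨ a = -1 := by
  have : Finite F₀ := Nat.finite_of_card_ne_zero (by rw [h3]; norm_num)
  have : Fintype F₀ := Fintype.ofFinite _
  have h := FiniteField.pow_card (⟨a, ha⟩ : F₀)
  rw [← Nat.card_eq_fintype_card, h3] at h
  have h' : a ^ 3 = a := by
    have := congrArg Subtype.val h
    simpa using this
  have e : a * ((a - 1) * (a + 1)) = 0 := by linear_combination h'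
  rcases mul_eq_zero.mp e with h1 | h1
  · left; exact h1
  · rcases mul_eq_zero.mp h1 with h2 | h2
    · right; left; linear_combination h2
    · right; right; linear_combination h2

theorem neg_one_mem [Fintype F] (h2 : (2 : F) ≠ 0) (F₀ : Subfield F) {r : ℕ} (hr : r.Prime)
    (hcard : Fintype.card F = Nat.card F₀ ^ r)
    (K : Subgroup (Matrix.SpecialLinearGroup (Fin 2) F)) (κ : F) (hκ : κ ≠ 0)
    (hU : ∀ c ∈ F₀, Ubar c ∈ K) (hL : ∀ c ∈ F₀, Lbar (c * κ) ∈ K) : Nbar ∈ K := by
  classical
  by_cases h3 : Nat.card F₀ = 3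
  swap
  · -- the generation theorem over `F₀(κ)`
    have hk2 : ringChar F₀ ≠ 2 := by
      intro h
      have h4 : ((ringChar F₀ : ℕ) : F₀) = 0 := ringChar.Nat.cast_ringChar
      rw [h] at h4
      apply h2
      have h5 : (2 : F₀) = 0 := by exact_mod_cast h4
      have h6 : ((2 : F₀) : F) = ((0 : F₀) : F) := congrArg _ h5
      push_cast at h6
      exact h6
    have hα : IsAlgebraic F₀ κ := Algebra.IsAlgebraic.isAlgebraic κ
    have key := Cfsg.Agent.S5060.result (k := F₀) (K := F) hk2 h3 κ hα hκ
    have hN : (Nbar : Matrix.SpecialLinearGroup (Fin 2) F) ∈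
        ({g : Matrix.SpecialLinearGroup (Fin 2) F | ∀ i j : Fin 2,
          (g : Matrix (Fin 2) (Fin 2) F) i j ∈ IntermediateField.adjoin F₀ ({κ} : Set F)}) := by
      intro i j
      fin_cases i <;> fin_cases j <;> simp [Nbar]
    rw [← key] at hN
    revert hN
    suffices hle : Subgroup.closure
        ({g : Matrix.SpecialLinearGroup (Fin 2) F | ∃ c : F₀,
          (g : Matrix (Fin 2) (Fin 2) F) = !![1, algebraMap F₀ F c; 0, 1]} ∪
        {g : Matrix.SpecialLinearGroup (Fin 2) F | ∃ c : F₀,
          (g : Matrix (Fin 2) (Fin 2) F) = !![1, 0; algebraMap F₀ F c * κ, 1]}) ≤ K from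
      fun hN => hle hN
    rw [Subgroup.closure_le]
    rintro g (⟨c, hc⟩ | ⟨c, hc⟩)
    · have : g = Ubar (c : F) := Subtype.ext hc
      rw [this]
      exact hU _ c.2
    · have : g = Lbar ((c : F) * κ) := Subtype.ext hc
      rw [this]
      exact hL _ c.2
  · by_cases hκF : κ ∈ F₀
    · have h1 : Lbar (-1 : F) ∈ K := by
        have := hL (-κ⁻¹) (F₀.neg_mem (F₀.inv_mem hκF))
        have e : -κ⁻¹ * κ = -1 := by field_simp
        rwa [e] at this
      have hU1 := hU 1 F₀.one_mem
      rw [← word_neg_one]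
      exact K.mul_mem (K.mul_mem (K.mul_mem hU1 h1) hU1) (K.mul_mem (K.mul_mem hU1 h1) hU1)
    · -- `κ` generates `F`
      have hgen : Subfield.closure ({κ} : Set F) = ⊤ := by
        have hle : ∀ a ∈ F₀, a ∈ (Subfield.closure ({κ} : Set F) : Set F) := by
          intro a ha
          rcases mem_three h3 ha with rfl | rfl | rfl
          · exact Subfield.zero_mem _
          · exact Subfield.one_mem _
          · exact Subfield.neg_mem _ (Subfield.one_mem _)
        rcases subring_cases hr hcard (Subfield.closure ({κ} : Set F) : Set F) hle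
          (fun a b ha hb => Subfield.add_mem _ ha hb)
          (fun a b ha hb => Subfield.mul_mem _ ha hb) with h | h
        · exact absurd (h κ (Subfield.subset_closure rfl)) hκF
        · rw [eq_top_iff]
          intro a _
          exact h a
      obtain ⟨φ, hφ⟩ : ∃ φ : Matrix.SpecialLinearGroup (Fin 2) F →*
          Matrix.SpecialLinearGroup (Fin 2) F, φ = (MulAut.conj (Jbar⁻¹ :
            Matrix.SpecialLinearGroup (Fin 2) F)).toMonoidHom := ⟨_, rfl⟩
      have hφa : ∀ g, φ g = Jbar⁻¹ * g * Jbar := by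
        intro g
        rw [hφ]
        simp [MulAut.conj_apply]
      have hle : Subgroup.closure {g : Matrix.SpecialLinearGroup (Fin 2) F |
          (g : Matrix (Fin 2) (Fin 2) F) = !![1, 0; 1, 1] ∨
            (g : Matrix (Fin 2) (Fin 2) F) = !![1, κ; 0, 1]} ≤ K.comap φ := by
        rw [Subgroup.closure_le]
        rintro g (hg | hg)
        · have : g = Lbar 1 := Subtype.ext hg
          show φ g ∈ K
          rw [this, hφa, conj_L_one]
          exact hU _ (F₀.neg_mem F₀.one_mem)
        · have : g = Ubar κ := Subtype.ext hg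
          show φ g ∈ K
          rw [this, hφa, conj_U]
          have := hL (-1) (F₀.neg_mem F₀.one_mem)
          rwa [neg_one_mul] at this
      have hNc : Nbar ∈ Subgroup.closure {g : Matrix.SpecialLinearGroup (Fin 2) F |
          (g : Matrix (Fin 2) (Fin 2) F) = !![1, 0; 1, 1] ∨
            (g : Matrix (Fin 2) (Fin 2) F) = !![1, κ; 0, 1]} := by
        rcases Cfsg.Agent.S0801.result h2 κ hκ hgen with ⟨htop, -⟩ | ⟨-, -, h120⟩
        · rw [htop]
          exact Subgroup.mem_top _
        · have : Finite (Matrix.SpecialLinearGroup (Fin 2) F) :=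
            Finite.of_injective (fun A => A.1) Subtype.val_injective
          have : Fact (Nat.Prime 2) := ⟨Nat.prime_two⟩
          obtain ⟨x, hx⟩ := exists_prime_orderOf_dvd_card' (G := Subgroup.closure
            {g : Matrix.SpecialLinearGroup (Fin 2) F |
              (g : Matrix (Fin 2) (Fin 2) F) = !![1, 0; 1, 1] ∨
                (g : Matrix (Fin 2) (Fin 2) F) = !![1, κ; 0, 1]}) 2 (by rw [h120]; norm_num)
          have hx2 : x ^ 2 = 1 := by
            have := pow_orderOf_eq_one x
            rwa [hx] at this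
          have hx1 : x ≠ 1 := by
            intro h
            rw [h, orderOf_one] at hx
            norm_num at hx
          have e1 : (x : Matrix.SpecialLinearGroup (Fin 2) F) * x = 1 := by
            have := congrArg Subtype.val hx2
            rwa [pow_two] at this
          have e2 : (x : Matrix.SpecialLinearGroup (Fin 2) F) ≠ 1 := by
            intro h
            exact hx1 (Subtype.ext h)
          rw [← involution_eq h2 e1 e2]
          exact x.2
      have := hle hNc
      have h5 : φ Nbar ∈ K := this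
      rwa [hφa, conj_N] at h5

end Cfsg.Agent.Lib.Helper28.Ss
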