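import Cfsg.Agent.Lib.Helper28.SsI
import Cfsg.Agent.Lib.Helper28.SsJ

set_option autoImplicit false

open Cfsg

/-! Step D in odd characteristic, and the assembled step D. -/

namespace Cfsg.Agent.Lib.Helper28.Ss

open Matrix Cfsg.Agent.Lib.Helper28.Sf Cfsg.Agent.Lib.Helper28.SympAbs
  Cfsg.Agent.Lib.Helper28.Os Cfsg.Agent.Lib.Helper28.DecGen

variable {n : ℕ} {F : Type*} [Field F] {F₀ : Subfield F} {f : (Fin n → F) → (Fin n → F) → F}
  {G H : Subgroup (Matrix.GeneralLinearGroup (Fin n) F)}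

local notation "GLn" => Matrix.GeneralLinearGroup (Fin n) F

/-- Step D in odd characteristic -/
theorem SC.stepDodd [Fintype F] (C : SC F₀ f G H) (h2 : (2 : F) ≠ 0) {r : ℕ} (hr : r.Prime)
    (hcard : Fintype.card F = Nat.card F₀ ^ r)
    (hA : ∀ u v, TP F₀ f u v → ∀ a, a ∈ AA f H u v → a ∈ F₀) :
    H ≤ Cfsg.Geo.subfieldSubgroup F₀ (1 : GLn) := by
  have hf := C.hf
  intro h hh
  by_contra hns
  have NRh : ∀ u x : Fin n → F, Rat F₀ u → u ≠ 0 → Rat F₀ x → x ≠ 0 →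
      f x ((h : Matrix (Fin n) (Fin n) F) *ᵥ u) ≠ 0 := by
    intro u x hu hu0 hx hx0 h0
    exact hns (C.NR hA hh hu hu0 hx hx0 h0)
  obtain ⟨u, hu, hu0⟩ := C.ex_r0
  obtain ⟨w₀, hw₀⟩ : ∃ w₀, w₀ = (h : Matrix (Fin n) (Fin n) F) *ᵥ u := ⟨_, rfl⟩
  obtain ⟨s, hsd⟩ : ∃ s, s = f u w₀ := ⟨_, rfl⟩
  have hs : s ≠ 0 := by
    rw [hsd, hw₀]
    exact NRh u u hu hu0 hu hu0
  obtain ⟨w, hwd⟩ : ∃ w, w = s⁻¹ • w₀ := ⟨_, rfl⟩
  have huw : f u w = 1 := by
    rw [hwd, f_smul_right hf, ← hsd, inv_mul_cancel₀ hs]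
  have e0 : w₀ = s • w := by
    rw [hwd, smul_smul, mul_inv_cancel₀ hs, one_smul]
  have hns' : ∀ x, Rat F₀ x → f x w = 0 → x = 0 := by
    intro x hx hxw
    by_contra hx0
    apply NRh u x hu hu0 hx hx0
    rw [← hw₀, e0, f_smul_right hf, hxw, mul_zero]
  have hU : ∀ c ∈ F₀, Ubar c ∈ KP f H u w := by
    intro c hc
    obtain ⟨τ, hτs⟩ := ex_tv hf u (-c)
    have hτH : τ ∈ H := C.rat_E_mem hu Rat.zero (F₀.neg_mem hc) (f_zero_left hf u) hτs
    have := KP_U hf huw hτH hτs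
    rwa [neg_neg] at this
  have hL : ∀ c ∈ F₀, Lbar (c * (s * s)) ∈ KP f H u w := by
    intro c hc
    obtain ⟨τ, hτs⟩ := ex_tv hf u c
    have hτH : τ ∈ H := C.rat_E_mem hu Rat.zero hc (f_zero_left hf u) hτs
    have hts := hτs.conj (C.iso hh)
    rw [← hw₀, Matrix.mulVec_zero, e0] at hts
    have hts2 := hts.smul_center hf
    rw [smul_zero] at hts2
    have htH : h * τ * h⁻¹ ∈ H := H.mul_mem (H.mul_mem hh hτH) (H.inv_mem hh)
    have := KP_L hf huw htH hts2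
    rwa [show s * s * c = c * (s * s) by ring] at this
  have hN := neg_one_mem h2 F₀ hr hcard (KP f H u w) (s * s) (mul_ne_zero hs hs) hU hL
  have h10 : (Nbar : Matrix.SpecialLinearGroup (Fin 2) F).1 1 0 = 0 := by simp [Nbar]
  have h00 : (Nbar : Matrix.SpecialLinearGroup (Fin 2) F).1 0 0 = -1 := by simp [Nbar]
  have := C.P2 hA hu hu0 huw hns' hN h10
  rw [h00] at this
  apply h2
  linear_combination -this

/-- Step D -/
theorem SC.stepD [Fintype F] (C : SC F₀ f G H) {r : ℕ} (hr : r.Prime)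
    (hcard : Fintype.card F = Nat.card F₀ ^ r)
    (hA : ∀ u v, TP F₀ f u v → ∀ a, a ∈ AA f H u v → a ∈ F₀) :
    H ≤ Cfsg.Geo.subfieldSubgroup F₀ (1 : GLn) := by
  by_cases h2 : (2 : F) = 0
  · exact C.stepD2 h2 hA
  · exact C.stepDodd h2 hr hcard hA

end Cfsg.Agent.Lib.Helper28.Ss
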