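import Cfsg.Agent.Lib.Helper28.SsK
import Cfsg.Agent.Lib.Helper28.OsO

set_option autoImplicit false

open Cfsg

/-! The abstract maximality theorem for subfield subgroups of symplectic groups. -/

namespace Cfsg.Agent.Lib.Helper28.Ss

open Matrix Cfsg.Agent.Lib.Helper28.Sf Cfsg.Agent.Lib.Helper28.SympAbs
  Cfsg.Agent.Lib.Helper28.Os Cfsg.Agent.Lib.Helper28.DecGen

variable {n : ℕ} {F : Type*} [Field F] {F₀ : Subfield F} {f : (Fin n → F) → (Fin n → F) → F}
  {G H : Subgroup (Matrix.GeneralLinearGroup (Fin n) F)}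

local notation "GLn" => Matrix.GeneralLinearGroup (Fin n) F

theorem ss_main [Fintype F] {r : ℕ} (hr : r.Prime) (hcard : Fintype.card F = Nat.card F₀ ^ r)
    (sb : SB F₀ f) (hG : ∀ g : GLn, g ∈ G ↔ Iso f g) (hn : 14 ≤ n) :
    Cfsg.Geo.IsMaximalIn G (Cfsg.Geo.subfieldSubgroup F₀ (1 : GLn) ⊓ G) := by
  have hf := sb.hf
  constructor
  · apply lt_of_le_of_ne inf_le_right
    intro heq
    have C : SC F₀ f G G := ⟨sb, hG, le_refl _, inf_le_right, hn⟩
    obtain ⟨u, hu, hu0⟩ := C.ex_r0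
    obtain ⟨c, hc⟩ := exists_not_mem_F0 hr hcard
    obtain ⟨t, hts⟩ := ex_tv hf u c
    have htG : t ∈ G := (hG t).2 (hts.iso hf (f_zero_left hf u))
    have hts' : t ∈ Cfsg.Geo.subfieldSubgroup F₀ (1 : GLn) := by
      rw [← heq] at htG
      exact htG.1
    have hr' := unip_rat (hts.sq hf (f_zero_left hf u)) hts'
    obtain ⟨x, hx, hxu⟩ := sb.ex_r_pair hu0
    have htv := (isE_tv hf).1 hts
    have h1 := (hr' x hx).sub hx
    have e : (t : Matrix (Fin n) (Fin n) F) *ᵥ x - x = (c * f x u) • u := by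
      rw [htv]
      module
    rw [e] at h1
    obtain ⟨j, hj⟩ : ∃ j, u j ≠ 0 := by
      by_contra hcon
      push Not at hcon
      exact hu0 (funext hcon)
    apply hc
    have h2 := h1 j
    rw [Pi.smul_apply, smul_eq_mul] at h2
    have h3 : c = c * f x u * u j * ((u j)⁻¹ * (f x u)⁻¹) := by field_simp
    rw [h3]
    exact F₀.mul_mem h2 (F₀.mul_mem (F₀.inv_mem (hu j)) (F₀.inv_mem (sb.rat x u hx hu)))
  · intro M hM1 hM2
    have C : SC F₀ f G M := ⟨sb, hG, hM2, hM1, hn⟩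
    rcases C.AA_cases hr hcard with hA | hA
    · left
      apply le_antisymm _ hM1
      exact le_inf (C.stepD hr hcard hA) hM2
    · right
      exact C.stepC hA

end Cfsg.Agent.Lib.Helper28.Ss
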