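import Cfsg.Agent.Lib.Helper28.SsL
import Cfsg.Agent.Lib.Helper28.OsR
import Cfsg.Agent.Lib.Helper28.SfH
import Cfsg.Agent.Lib.helper6.Symp

set_option autoImplicit false

open Cfsg

/-! Transport of the symplectic subfield maximality theorem to a general rational structure. -/

namespace Cfsg.Agent.Lib.Helper28.Ss

open Matrix Cfsg.Agent.Lib.Helper28.Sf Cfsg.Agent.Lib.Helper28.SympAbs
  Cfsg.Agent.Lib.Helper28.Os Cfsg.Agent.Lib.Helper28.DecGen Cfsg.Agent.Lib.Lead
  Cfsg.Agent.Lib.Helper28.OTrans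

section conj

variable {n : ℕ} {F : Type*} [Field F] {F₀ : Subfield F} {f : (Fin n → F) → (Fin n → F) → F}

local notation "GLn" => Matrix.GeneralLinearGroup (Fin n) F

/-- the transported and rescaled form -/
theorem symp_conj (hf : Cfsg.Geo.IsSymplecticForm f) (P : GLn) {ζ : F} (hζ : ζ ≠ 0) :
    Cfsg.Geo.IsSymplecticForm (fun x y => ζ * f ((P : Matrix (Fin n) (Fin n) F) *ᵥ x)
      ((P : Matrix (Fin n) (Fin n) F) *ᵥ y)) where
  bilinear :=
    { add_left := by
        intro x y v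
        simp only [Matrix.mulVec_add]
        rw [hf.bilinear.add_left, mul_add]
      smul_left := by
        intro c x v
        simp only [Matrix.mulVec_smul]
        rw [hf.bilinear.smul_left]
        ring
      add_right := by
        intro v x y
        simp only [Matrix.mulVec_add]
        rw [hf.bilinear.add_right, mul_add]
      smul_right := by
        intro c v x
        simp only [Matrix.mulVec_smul]
        rw [hf.bilinear.smul_right]
        ring }
  skew := by
    intro v w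
    show ζ * f _ _ = -(ζ * f _ _)
    rw [hf.skew]
    ring
  alternating := by
    intro v
    show ζ * f _ _ = 0
    rw [hf.alternating, mul_zero]
  nondegenerate := by
    intro v hv
    have hPv : (P : Matrix (Fin n) (Fin n) F) *ᵥ v ≠ 0 := fun h0 =>
      hv (Cfsg.Agent.Lib.Helper28.SubF.gl_inj P h0)
    obtain ⟨⟨x, hx⟩, ⟨y, hy⟩⟩ := hf.nondegenerate _ hPv
    refine ⟨⟨((P⁻¹ : GLn) : Matrix (Fin n) (Fin n) F) *ᵥ x, ?_⟩,
      ⟨((P⁻¹ : GLn) : Matrix (Fin n) (Fin n) F) *ᵥ y, ?_⟩⟩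
    · simp only [gl_cancel']
      exact mul_ne_zero hζ hx
    · simp only [gl_cancel']
      exact mul_ne_zero hζ hy

/-- the subfield subgroups of the symplectic groups in dimension at least `14` are maximal -/
theorem ss_form [Fintype F] (hf : Cfsg.Geo.IsSymplecticForm f) {r : ℕ} (hr : r.Prime)
    (hcard : Fintype.card F = Nat.card F₀ ^ r) (hn : 14 ≤ n) (P : GLn) (ζ : F) (hζ : ζ ≠ 0)
    (hP : Cfsg.Geo.IsFormRationalStructure f F₀ ζ P) (G : Subgroup GLn)
    (hG : ∀ g : GLn, g ∈ G ↔ Iso f g) :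
    Cfsg.Geo.IsMaximalIn G (Cfsg.Geo.subfieldSubgroup F₀ P ⊓ G) := by
  have sb : SB F₀ (fun x y => ζ * f ((P : Matrix (Fin n) (Fin n) F) *ᵥ x)
      ((P : Matrix (Fin n) (Fin n) F) *ᵥ y)) :=
    { hf := symp_conj hf P hζ
      rat := fun x y hx hy => hP x y hx hy }
  obtain ⟨G', hG'⟩ : ∃ G' : Subgroup GLn, G' = G.comap (MulAut.conj P).toMonoidHom := ⟨_, rfl⟩
  have hmem : ∀ g : GLn, g ∈ G' ↔ Iso (fun x y => ζ * f ((P : Matrix (Fin n) (Fin n) F) *ᵥ x)
      ((P : Matrix (Fin n) (Fin n) F) *ᵥ y)) g := by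
    intro g
    rw [hG', Subgroup.mem_comap, hG]
    have e1 : ∀ x, (((MulAut.conj P).toMonoidHom g : GLn) : Matrix (Fin n) (Fin n) F) *ᵥ
        ((P : Matrix (Fin n) (Fin n) F) *ᵥ x) =
        (P : Matrix (Fin n) (Fin n) F) *ᵥ ((g : Matrix (Fin n) (Fin n) F) *ᵥ x) := by
      intro x
      show ((P * g * P⁻¹ : GLn) : Matrix (Fin n) (Fin n) F) *ᵥ _ = _
      rw [Units.val_mul, Units.val_mul, ← Matrix.mulVec_mulVec, ← Matrix.mulVec_mulVec, gl_cancel]
    constructor
    · intro h1 x y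
      show ζ * f _ _ = ζ * f _ _
      rw [← e1, ← e1, h1]
    · intro h1 x y
      have hx : x = (P : Matrix (Fin n) (Fin n) F) *ᵥ
          (((P⁻¹ : GLn) : Matrix (Fin n) (Fin n) F) *ᵥ x) := (gl_cancel' P x).symm
      have hy : y = (P : Matrix (Fin n) (Fin n) F) *ᵥ
          (((P⁻¹ : GLn) : Matrix (Fin n) (Fin n) F) *ᵥ y) := (gl_cancel' P y).symm
      rw [hx, hy, e1, e1]
      exact mul_left_cancel₀ hζ (h1 _ _)
  have main := ss_main hr hcard sb hmem hn
  have h1 := isMaximalIn_map (MulAut.conj P) main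
  have hsurj : Function.Surjective (MulAut.conj P).toMonoidHom := (MulAut.conj P).surjective
  have e3 : G'.map (MulAut.conj P).toMonoidHom = G := by
    rw [hG', Subgroup.map_comap_eq_self_of_surjective hsurj]
  rw [Subgroup.map_inf _ _ _ (MulAut.conj P).injective, ← sub_eq_map, e3] at h1
  exact h1

end conj

section reindex

variable {ι κ : Type} [Fintype ι] [DecidableEq ι] [Fintype κ] [DecidableEq κ]
  {F : Type*} [Field F]

theorem comp_symm_comp (e : ι ≃ κ) (x : ι → F) : (x ∘ e.symm) ∘ e = x := by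
  funext i
  simp

theorem comp_comp_symm (e : ι ≃ κ) (x : κ → F) : (x ∘ e) ∘ e.symm = x := by
  funext i
  simp

/-- reindexing a symplectic form -/
theorem symp_reindex (e : ι ≃ κ) {f : (ι → F) → (ι → F) → F}
    (hf : Cfsg.Geo.IsSymplecticForm f) :
    Cfsg.Geo.IsSymplecticForm (fun x y : κ → F => f (x ∘ e) (y ∘ e)) where
  bilinear :=
    { add_left := fun x y v => hf.bilinear.add_left _ _ _
      smul_left := fun c x v => hf.bilinear.smul_left _ _ _
      add_right := fun v x y => hf.bilinear.add_right _ _ _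
      smul_right := fun c v x => hf.bilinear.smul_right _ _ _ }
  skew := fun v w => hf.skew _ _
  alternating := fun v => hf.alternating _
  nondegenerate := by
    intro v hv
    have hv' : v ∘ e ≠ 0 := by
      intro h0
      apply hv
      funext i
      have := congrFun h0 (e.symm i)
      simpa using this
    obtain ⟨⟨x, hx⟩, ⟨y, hy⟩⟩ := hf.nondegenerate _ hv'
    refine ⟨⟨x ∘ e.symm, ?_⟩, ⟨y ∘ e.symm, ?_⟩⟩
    · show f _ _ ≠ 0
      rw [comp_symm_comp]
      exact hx
    · show f _ _ ≠ 0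
      rw [comp_symm_comp]
      exact hy

theorem map_preserving_reindex (e : ι ≃ κ) (f : (ι → F) → (ι → F) → F) :
    (Cfsg.preserving (Cfsg.glToMat ι F) f).map (RI.glReindex (F := F) e).toMonoidHom =
      Cfsg.preserving (Cfsg.glToMat κ F) (fun x y : κ → F => f (x ∘ e) (y ∘ e)) := by
  ext h
  rw [Subgroup.mem_map_equiv]
  have hh : ((h : Matrix.GeneralLinearGroup κ F) : Matrix κ κ F) =
      Matrix.reindex e e (((RI.glReindex (F := F) e).symm h : Matrix.GeneralLinearGroup ι F) :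
        Matrix ι ι F) := by
    rw [← RI.glReindex_coe, MulEquiv.apply_symm_apply]
  constructor
  · intro H x y
    show f (((h : Matrix κ κ F) *ᵥ x) ∘ e) (((h : Matrix κ κ F) *ᵥ y) ∘ e) = f (x ∘ e) (y ∘ e)
    rw [hh, RI.reindex_mulVec, RI.reindex_mulVec, comp_symm_comp, comp_symm_comp]
    exact H (x ∘ e) (y ∘ e)
  · intro H x y
    have h1 : f (((h : Matrix κ κ F) *ᵥ (x ∘ e.symm)) ∘ e) (((h : Matrix κ κ F) *ᵥ (y ∘ e.symm)) ∘ e) =
        f ((x ∘ e.symm) ∘ e) ((y ∘ e.symm) ∘ e) := H (x ∘ e.symm) (y ∘ e.symm)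
    rw [hh, RI.reindex_mulVec, RI.reindex_mulVec, comp_symm_comp, comp_symm_comp,
      comp_symm_comp, comp_symm_comp] at h1
    exact h1

end reindex

section symp

variable {F : Type*} [Field F]

theorem sympForm_isSymp (m : ℕ) : Cfsg.Geo.IsSymplecticForm (Cfsg.sympForm m F) where
  bilinear :=
    { add_left := fun x y v => Cfsg.Agent.Lib.helper6.sympForm_add_left m x y v
      smul_left := fun c x v => Cfsg.Agent.Lib.helper6.sympForm_smul_left m c x v
      add_right := fun v x y => Cfsg.Agent.Lib.helper6.sympForm_add_right m v x y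
      smul_right := fun c v x => Cfsg.Agent.Lib.helper6.sympForm_smul_right m c v x }
  skew := fun v w => Cfsg.Agent.Lib.helper6.sympForm_swap m v w
  alternating := fun v => Cfsg.Agent.Lib.helper6.sympForm_self m v
  nondegenerate := by
    intro v hv
    obtain ⟨x, hx⟩ := Cfsg.Agent.Lib.helper6.sympForm_nondeg m v hv
    refine ⟨⟨x, ?_⟩, ⟨x, hx⟩⟩
    rw [Cfsg.Agent.Lib.helper6.sympForm_swap]
    exact neg_ne_zero.mpr hx

/-- the statement for the standard symplectic group -/
theorem ss_sp [Fintype F] (m : ℕ) (hm : 7 ≤ m) (F₀ : Subfield F) (r : ℕ) (hr : r.Prime)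
    (hcard : Fintype.card F = Nat.card F₀ ^ r)
    (P : Matrix.GeneralLinearGroup (Fin m ⊕ Fin m) F) (ζ : F) (hζ : ζ ≠ 0)
    (hP : Cfsg.Geo.IsFormRationalStructure (Cfsg.sympForm m F) F₀ ζ P) :
    Cfsg.Geo.IsMaximalIn (Cfsg.spGL m F) (Cfsg.Geo.subfieldSubgroup F₀ P ⊓ Cfsg.spGL m F) := by
  have hcardι : Fintype.card (Fin m ⊕ Fin m) = 2 * m := by
    simp only [Fintype.card_sum, Fintype.card_fin]
    ring
  obtain ⟨e, he⟩ : ∃ e : (Fin m ⊕ Fin m) ≃ Fin (Fintype.card (Fin m ⊕ Fin m)),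
    e = Fintype.equivFin _ := ⟨_, rfl⟩
  apply isMaximalIn_of_map (RI.glReindex (F := F) e)
  unfold Cfsg.spGL
  rw [Subgroup.map_inf _ _ (RI.glReindex (F := F) e).toMonoidHom (RI.glReindex (F := F) e).injective,
    map_preserving_reindex, map_sub_reindex]
  have hP' : Cfsg.Geo.IsFormRationalStructure
      (fun x y : Fin (Fintype.card (Fin m ⊕ Fin m)) → F => Cfsg.sympForm m F (x ∘ e) (y ∘ e))
        F₀ ζ (RI.glReindex (F := F) e P) := by
    intro u v hu hv
    have h1 := hP (u ∘ e) (v ∘ e) (fun i => hu (e i)) (fun i => hv (e i))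
    show ζ * Cfsg.sympForm m F ((((RI.glReindex (F := F) e P : Matrix.GeneralLinearGroup _ F) :
      Matrix _ _ F) *ᵥ u) ∘ e) ((((RI.glReindex (F := F) e P : Matrix.GeneralLinearGroup _ F) :
      Matrix _ _ F) *ᵥ v) ∘ e) ∈ F₀
    rw [RI.glReindex_coe, RI.reindex_mulVec, RI.reindex_mulVec, comp_symm_comp, comp_symm_comp]
    exact h1
  exact ss_form (symp_reindex e (sympForm_isSymp m)) hr hcard (by rw [hcardι]; omega)
    (RI.glReindex (F := F) e P) ζ hζ hP' _ (fun g => Iff.rfl)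

end symp

end Cfsg.Agent.Lib.Helper28.Ss
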