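import Cfsg.Agent.Lib.Helper28.UoC
import Cfsg.Agent.Lib.Helper28.SsA

set_option autoImplicit false

open Cfsg

/-! Unitary subfield subgroups over a subfield stable under the involution: rational geometry. -/

namespace Cfsg.Agent.Lib.Helper28.Su

open Matrix Cfsg.Agent.Lib.Helper28.Sf Cfsg.Agent.Lib.Helper28.UForm
  Cfsg.Agent.Lib.Helper28.Os Cfsg.Agent.Lib.Helper28.DecGen

variable {n : ℕ} {F : Type*} [Field F] {σ : F ≃+* F} {f : (Fin n → F) → (Fin n → F) → F}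
  {F₀ : Subfield F}

/-- a unitary form taking values in the `σ`-stable subfield `F₀` on rational vectors, with `σ`
non-trivial on `F₀` -/
structure VB (σ : F ≃+* F) (f : (Fin n → F) → (Fin n → F) → F) (F₀ : Subfield F) : Prop where
  hf : Cfsg.Geo.IsUnitaryForm σ f
  rat : ∀ x y : Fin n → F, Rat F₀ x → Rat F₀ y → f x y ∈ F₀
  stab : ∀ x ∈ F₀, σ x ∈ F₀
  tr1 : ∃ a ∈ F₀, a + σ a = 1
  theta : ∃ θ ∈ F₀, θ ≠ 0 ∧ θ + σ θ = 0
  nrm : ∀ c ∈ F₀, σ c = c → ∃ x ∈ F₀, x * σ x = c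

theorem f_swap_one (hf : Cfsg.Geo.IsUnitaryForm σ f) {x y : Fin n → F} (h : f x y = 1) :
    f y x = 1 := by rw [hf.herm, h, map_one]

theorem VB.rho_rat (C : VB σ f F₀) {u : Fin n → F} (hu : Rat F₀ u) : Rat F₀ (rho f u) :=
  fun i => C.rat _ _ (Rat.single i F₀.one_mem) hu

/-- for rational `a`, `f(x, a)` commutes with coordinatewise functionals -/
theorem VB.f_ratl_left (C : VB σ f F₀) (ψ : F →ₗ[F₀] F₀) {a : Fin n → F} (ha : Rat F₀ a)
    (x : Fin n → F) : f (ratl ψ x) a = ((ψ (f x a) : F₀) : F) := by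
  rw [f_eq_dot C.hf, dot_ratl ψ (C.rho_rat ha), ← f_eq_dot C.hf]

/-- trace surjectivity inside `F₀` -/
theorem VB.ex_tr (C : VB σ f F₀) {b : F} (hb : b ∈ F₀) (hbs : σ b = b) :
    ∃ c ∈ F₀, c + σ c = b := by
  obtain ⟨a, ha, hat⟩ := C.tr1
  refine ⟨b * a, F₀.mul_mem hb ha, ?_⟩
  rw [map_mul, hbs]
  linear_combination b * hat

/-- a vector `y` with prescribed orthogonality on the left -/
theorem dperp_left (hf : Cfsg.Geo.IsUnitaryForm σ f) (S : Submodule F (Fin n → F))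
    (z : Fin n → F) (hz : z ∉ S) : ∃ y : Fin n → F, (∀ s ∈ S, f y s = 0) ∧ f y z ≠ 0 := by
  obtain ⟨φ, hφz, hφS⟩ := Submodule.exists_le_ker_of_notMem hz
  obtain ⟨y, hy⟩ := riesz hf φ
  refine ⟨y, fun s hs => ?_, ?_⟩
  · apply f_swap_zero hf
    rw [hy]
    exact hφS hs
  · apply f_swap_ne hf
    rw [hy]
    exact hφz

/-- a rational vector with prescribed pairing -/
theorem VB.ex_rat_dual (C : VB σ f F₀) {k : ℕ} (a : Fin k → (Fin n → F))
    (ha : ∀ j, Rat F₀ (a j)) {w : Fin n → F} (hw : Rat F₀ w)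
    (hwa : w ∉ Submodule.span F (Set.range a)) :
    ∃ y, Rat F₀ y ∧ (∀ j, f (a j) y = 0) ∧ f w y = 1 := by
  have hf := C.hf
  obtain ⟨φ, hφ⟩ := exists_retr F₀
  obtain ⟨y', hy'S, hy'w⟩ := dperp_left hf _ w hwa
  obtain ⟨y'', hy''⟩ : ∃ y'' : Fin n → F, y'' = (f y' w)⁻¹ • y' := ⟨_, rfl⟩
  refine ⟨ratl φ y'', ratl_rat _ _, fun j => ?_, ?_⟩
  · apply f_swap_zero hf
    rw [C.f_ratl_left φ (ha j), hy'', hf.smul_left, hy'S _ (Submodule.subset_span ⟨j, rfl⟩),
      mul_zero, map_zero]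
    rfl
  · apply f_swap_one hf
    rw [C.f_ratl_left φ hw, hy'', hf.smul_left, inv_mul_cancel₀ hy'w]
    have := hφ 1
    simp only [Subfield.coe_one] at this
    rw [this]
    rfl

/-- two rational vectors have a non-trivial rational isotropic combination -/
theorem VB.cw2 (C : VB σ f F₀) {b₁ b₂ : Fin n → F} (h1 : Rat F₀ b₁) (h2 : Rat F₀ b₂) :
    ∃ x₁ x₂ : F, x₁ ∈ F₀ ∧ x₂ ∈ F₀ ∧ ¬ (x₁ = 0 ∧ x₂ = 0) ∧
      f (x₁ • b₁ + x₂ • b₂) (x₁ • b₁ + x₂ • b₂) = 0 := by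
  have hf := C.hf
  by_cases hA : f b₁ b₁ = 0
  · refine ⟨1, 0, F₀.one_mem, F₀.zero_mem, fun h => one_ne_zero h.1, ?_⟩
    rw [one_smul, zero_smul, add_zero]
    exact hA
  obtain ⟨A, hAd⟩ : ∃ A, A = f b₁ b₁ := ⟨_, rfl⟩
  obtain ⟨B, hBd⟩ : ∃ B, B = f b₂ b₁ := ⟨_, rfl⟩
  have hAF : A ∈ F₀ := by rw [hAd]; exact C.rat _ _ h1 h1
  have hBF : B ∈ F₀ := by rw [hBd]; exact C.rat _ _ h2 h1
  have hAs : σ A = A := by rw [hAd]; exact f_self_fixed hf b₁
  rw [← hAd] at hA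
  obtain ⟨b₂', hb₂'⟩ : ∃ b₂' : Fin n → F, b₂' = b₂ - (B / A) • b₁ := ⟨_, rfl⟩
  have hb₂'r : Rat F₀ b₂' := by
    rw [hb₂']
    exact h2.sub (Rat.smul (F₀.div_mem hBF hAF) h1)
  have h21 : f b₂' b₁ = 0 := by
    rw [hb₂', f_sub_left hf, hf.smul_left, ← hAd, ← hBd]
    field_simp
    ring
  have h12 : f b₁ b₂' = 0 := f_swap_zero hf h21
  obtain ⟨Cc, hCd⟩ : ∃ Cc, Cc = f b₂' b₂' := ⟨_, rfl⟩
  have hCF : Cc ∈ F₀ := by rw [hCd]; exact C.rat _ _ hb₂'r hb₂'r
  have hCs : σ Cc = Cc := by rw [hCd]; exact f_self_fixed hf b₂'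
  obtain ⟨x, hxF, hx⟩ := C.nrm (-Cc / A) (F₀.div_mem (F₀.neg_mem hCF) hAF) (by
    rw [map_div₀, map_neg, hCs, hAs])
  refine ⟨x - B / A, 1, F₀.sub_mem hxF (F₀.div_mem hBF hAF), F₀.one_mem,
    fun h => one_ne_zero h.2, ?_⟩
  have e : (x - B / A) • b₁ + (1 : F) • b₂ = x • b₁ + b₂' := by
    rw [hb₂']
    module
  rw [e, hf.add_left, f_add_right hf, f_add_right hf, hf.smul_left, hf.smul_left,
    f_smul_right hf, f_smul_right hf, h12, h21, ← hAd, ← hCd]
  have : x * (σ x * A) = -Cc := by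
    rw [← mul_assoc, hx]
    field_simp
  rw [this]
  ring

/-- (RX): a rational isotropic vector orthogonal to, and independent of, `k` given rational
vectors, when `2k + 2 ≤ n`. -/
theorem VB.ex_rs (C : VB σ f F₀) {k : ℕ} (a : Fin k → (Fin n → F))
    (ha : ∀ j, Rat F₀ (a j)) (hk : 2 * k + 2 ≤ n) :
    ∃ x, Rat F₀ x ∧ f x x = 0 ∧ (∀ j, f (a j) x = 0) ∧
      x ∉ Submodule.span F (Set.range a) := by
  classical
  have hf := C.hf
  obtain ⟨a₀, ha₀⟩ : ∃ a₀ : Fin k → (Fin n → F₀), a₀ = fun j i => ⟨a j i, ha j i⟩ := ⟨_, rfl⟩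
  have ha₀i : ∀ j, incl F₀ n (a₀ j) = a j := fun j => by rw [ha₀]; rfl
  let L : (Fin n → F₀) →ₗ[F₀] (Fin k → F₀) :=
    { toFun := fun x j => ⟨f (incl F₀ n x) (a j), C.rat _ _ (incl_rat x) (ha j)⟩
      map_add' := by
        intro x y
        funext j
        apply Subtype.ext
        simp only [map_add, Pi.add_apply, Subfield.coe_add]
        exact hf.add_left _ _ _
      map_smul' := by
        intro c x
        funext j
        apply Subtype.ext
        simp only [RingHom.id_apply, Pi.smul_apply, smul_eq_mul, Subfield.coe_mul]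
        rw [incl_smul, hf.smul_left] }
  obtain ⟨R₀, hR₀⟩ : ∃ R₀, R₀ = LinearMap.ker L := ⟨_, rfl⟩
  obtain ⟨S₀, hS₀⟩ : ∃ S₀, S₀ = Submodule.span F₀ (Set.range a₀) := ⟨_, rfl⟩
  have hR₀d : n ≤ Module.finrank F₀ R₀ + k := by
    have h1 := LinearMap.finrank_range_add_finrank_ker L
    rw [Module.finrank_fin_fun, ← hR₀] at h1
    have h2 : Module.finrank F₀ (LinearMap.range L) ≤ k := by
      have := Submodule.finrank_le (LinearMap.range L)
      rwa [Module.finrank_fin_fun] at this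
    omega
  have hS₀d : Module.finrank F₀ S₀ ≤ k := by
    rw [hS₀]
    have := finrank_range_le_card (R := F₀) a₀
    rwa [Fintype.card_fin] at this
  obtain ⟨C', hC'⟩ := Submodule.exists_isCompl (R₀ ⊓ S₀)
  obtain ⟨D, hD⟩ : ∃ D, D = C' ⊓ R₀ := ⟨_, rfl⟩
  have hDS : D ⊓ S₀ = ⊥ := by
    rw [hD, inf_assoc]
    rw [inf_comm]
    exact hC'.inf_eq_bot
  have hDd : 2 ≤ Module.finrank F₀ D := by
    have h1 := Submodule.finrank_sup_add_finrank_inf_eq C' R₀
    have h2 := Submodule.finrank_sup_add_finrank_inf_eq (R₀ ⊓ S₀) C'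
    rw [hC'.sup_eq_top, hC'.inf_eq_bot, finrank_top, finrank_bot, Module.finrank_fin_fun] at h2
    have h3 : Module.finrank F₀ ↥(R₀ ⊓ S₀) ≤ Module.finrank F₀ S₀ :=
      Submodule.finrank_mono inf_le_right
    have h4 : Module.finrank F₀ ↥(C' ⊔ R₀) ≤ n := by
      have := Submodule.finrank_le (C' ⊔ R₀)
      rwa [Module.finrank_fin_fun] at this
    rw [← hD] at h1
    omega
  obtain ⟨b, hb⟩ := exists_linearIndependent_of_le_finrank hDd
  have hbr : ∀ i, Rat F₀ (incl F₀ n (b i : Fin n → F₀)) := fun i => incl_rat _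
  obtain ⟨x₁, x₂, h1, h2, hne, hQ⟩ := C.cw2 (hbr 0) (hbr 1)
  obtain ⟨y₀, hy₀⟩ : ∃ y₀ : D, y₀ = (⟨x₁, h1⟩ : F₀) • b 0 + (⟨x₂, h2⟩ : F₀) • b 1 := ⟨_, rfl⟩
  have hy₀i : incl F₀ n (y₀ : Fin n → F₀) = x₁ • incl F₀ n (b 0 : Fin n → F₀) +
      x₂ • incl F₀ n (b 1 : Fin n → F₀) := by
    rw [hy₀]
    simp only [Submodule.coe_add, Submodule.coe_smul, map_add, incl_smul]
  have hy₀0 : y₀ ≠ 0 := by
    intro h0
    have h5 := Fintype.linearIndependent_iff.mp hb
      (fun i : Fin 2 => if i = 0 then (⟨x₁, h1⟩ : F₀) else ⟨x₂, h2⟩)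
      (by
        rw [Fin.sum_univ_two]
        rw [hy₀] at h0
        simpa using h0)
    apply hne
    refine ⟨?_, ?_⟩
    · have := congrArg (fun a : F₀ => (a : F)) (h5 0)
      simpa using this
    · have := congrArg (fun a : F₀ => (a : F)) (h5 1)
      simpa using this
  refine ⟨incl F₀ n (y₀ : Fin n → F₀), incl_rat _, ?_, ?_, ?_⟩
  · rw [hy₀i]
    exact hQ
  · intro j
    have hle : D ≤ R₀ := by
      rw [hD]
      exact inf_le_right
    have hmem : (y₀ : Fin n → F₀) ∈ R₀ := hle y₀.2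
    rw [hR₀, LinearMap.mem_ker] at hmem
    have := congrArg (fun v : Fin k → F₀ => ((v j : F₀) : F)) hmem
    apply f_swap_zero hf
    simpa [L] using this
  · intro hmem
    apply hy₀0
    obtain ⟨φ, hφ⟩ := exists_retr F₀
    obtain ⟨c, hc⟩ := (Submodule.mem_span_range_iff_exists_fun F).mp hmem
    have h5 : incl F₀ n (y₀ : Fin n → F₀) = ∑ j, ((φ (c j) : F₀) : F) • a j := by
      have h6 := ratl_of_rat hφ (incl_rat (y₀ : Fin n → F₀))
      rw [← h6, ← hc, ratl_sum]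
      apply Finset.sum_congr rfl
      intro j _
      rw [ratl_smul_of_rat φ (ha j)]
    have h7 : (y₀ : Fin n → F₀) = ∑ j, φ (c j) • a₀ j := by
      apply incl_injective
      rw [h5, map_sum]
      apply Finset.sum_congr rfl
      intro j _
      rw [incl_smul, ha₀i]
    have h8 : (y₀ : Fin n → F₀) ∈ D ⊓ S₀ := by
      refine ⟨y₀.2, ?_⟩
      rw [hS₀, h7]
      apply Submodule.sum_mem
      intro j _
      exact Submodule.smul_mem _ _ (Submodule.subset_span ⟨j, rfl⟩)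
    rw [hDS, Submodule.mem_bot] at h8
    exact Subtype.ext h8

/-- a vector pairing rationally with all rational vectors is rational -/
theorem VB.rat_of_pair (C : VB σ f F₀) {y : Fin n → F}
    (h : ∀ x, Rat F₀ x → f y x ∈ F₀) : Rat F₀ y := by
  have hf := C.hf
  obtain ⟨φ, hφ⟩ := exists_retr F₀
  have h1 : ∀ x, Rat F₀ x → f (y - ratl φ y) x = 0 := by
    intro x hx
    rw [f_sub_left hf, C.f_ratl_left φ hx]
    have := hφ ⟨f y x, h x hx⟩
    simp only at this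
    rw [this]
    ring
  have h2 : y - ratl φ y = 0 := by
    by_contra hne
    obtain ⟨z, hz⟩ := (hf.nondegenerate _ hne).1
    apply hz
    rw [f_eq_dot hf]
    have : rho f (y - ratl φ y) = 0 := by
      funext i
      apply f_swap_zero hf
      exact h1 _ (Rat.single i F₀.one_mem)
    rw [this, zero_dotProduct]
  have h3 : y = ratl φ y := sub_eq_zero.mp h2
  rw [h3]
  exact ratl_rat _ _

/-- a vector pairing rationally (on the right) with all rational vectors is rational -/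
theorem VB.rat_of_pair' (C : VB σ f F₀) {y : Fin n → F}
    (h : ∀ x, Rat F₀ x → f x y ∈ F₀) : Rat F₀ y := by
  apply C.rat_of_pair
  intro x hx
  rw [C.hf.herm]
  exact C.stab _ (h x hx)

/-- a vector orthogonal to all rational vectors vanishes -/
theorem VB.eq_zero_of_perp_rat (C : VB σ f F₀) {y : Fin n → F}
    (h : ∀ x, Rat F₀ x → f x y = 0) : y = 0 := by
  have hf := C.hf
  by_contra hne
  obtain ⟨z, hz⟩ := (hf.nondegenerate _ hne).1
  apply hz
  rw [f_eq_dot hf]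
  have : rho f y = 0 := by
    funext i
    exact h _ (Rat.single i F₀.one_mem)
  rw [this, zero_dotProduct]

/-- a rational isotropic partner -/
theorem VB.ex_partner (C : VB σ f F₀) {k : ℕ} (a : Fin k → (Fin n → F))
    (ha : ∀ j, Rat F₀ (a j)) {w : Fin n → F} (hw : Rat F₀ w) (hws : f w w = 0)
    (hwp : ∀ j, f (a j) w = 0) (hwa : w ∉ Submodule.span F (Set.range a)) :
    ∃ w', Rat F₀ w' ∧ f w' w' = 0 ∧ (∀ j, f (a j) w' = 0) ∧ f w w' = 1 := by
  have hf := C.hf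
  obtain ⟨y, hy, hya, hwy⟩ := C.ex_rat_dual a ha hw hwa
  have hyw : f y w = 1 := f_swap_one hf hwy
  obtain ⟨c, hcF, hc⟩ := C.ex_tr (F₀.neg_mem (C.rat y y hy hy)) (by
    rw [map_neg, f_self_fixed hf])
  refine ⟨y + c • w, hy.add (Rat.smul hcF hw), ?_, fun j => ?_, ?_⟩
  · rw [hf.add_left, f_add_right hf, f_add_right hf, hf.smul_left, hf.smul_left,
      f_smul_right hf, f_smul_right hf, hws, hwy, hyw]
    linear_combination hc
  · rw [f_add_right hf, f_smul_right hf, hya j, hwp j]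
    ring
  · rw [f_add_right hf, f_smul_right hf, hws, hwy]
    ring

/-- a rational isotropic partner of a rational isotropic vector -/
theorem VB.ex_partner0 (C : VB σ f F₀) {u : Fin n → F} (hu : Rat F₀ u) (huu : f u u = 0)
    (hu0 : u ≠ 0) : ∃ u', Rat F₀ u' ∧ f u' u' = 0 ∧ f u u' = 1 := by
  obtain ⟨u', hu', hu'u', -, huu'⟩ := C.ex_partner (![] : Fin 0 → (Fin n → F))
    (fun j => Fin.elim0 j) hu huu (fun j => Fin.elim0 j) (by
      intro hm
      have : Set.range (![] : Fin 0 → (Fin n → F)) = ∅ := Set.range_eq_empty _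
      rw [this, Submodule.span_empty, Submodule.mem_bot] at hm
      exact hu0 hm)
  exact ⟨u', hu', hu'u', huu'⟩

/-- the projection of a vector to the orthogonal complement of a hyperbolic pair -/
def prj (f : (Fin n → F) → (Fin n → F) → F) (u u' x : Fin n → F) : Fin n → F :=
  x - f x u' • u - f x u • u'

theorem prj_perp (hf : Cfsg.Geo.IsUnitaryForm σ f) {u u' : Fin n → F} (huu : f u u = 0)
    (hu'u' : f u' u' = 0) (huu' : f u u' = 1)
    (x : Fin n → F) : f (prj f u u' x) u = 0 ∧ f (prj f u u' x) u' = 0 := by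
  have h1 : f u' u = 1 := f_swap_one hf huu'
  unfold prj
  constructor
  · rw [f_sub_left hf, f_sub_left hf, hf.smul_left, hf.smul_left, huu, h1]
    ring
  · rw [f_sub_left hf, f_sub_left hf, hf.smul_left, hf.smul_left, hu'u', huu']
    ring

theorem prj_rat (C : VB σ f F₀) {u u' x : Fin n → F} (hu : Rat F₀ u) (hu' : Rat F₀ u')
    (hx : Rat F₀ x) : Rat F₀ (prj f u u' x) :=
  (hx.sub (Rat.smul (C.rat _ _ hx hu') hu)).sub (Rat.smul (C.rat _ _ hx hu) hu')

theorem prj_decomp (u u' x : Fin n → F) :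
    x = prj f u u' x + f x u' • u + f x u • u' := by
  unfold prj
  abel

/-- a rational vector orthogonal to a rational family is a sum of three rational isotropic
vectors orthogonal to the family -/
theorem VB.rat_sum_rs (C : VB σ f F₀) {k : ℕ} (a : Fin k → (Fin n → F))
    (ha : ∀ j, Rat F₀ (a j)) (hk : 2 * k + 4 ≤ n) {x : Fin n → F} (hx : Rat F₀ x)
    (hxa : ∀ j, f (a j) x = 0) :
    ∃ x₁ x₂ x₃ : Fin n → F, Rat F₀ x₁ ∧ Rat F₀ x₂ ∧ Rat F₀ x₃ ∧ f x₁ x₁ = 0 ∧ f x₂ x₂ = 0 ∧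
      f x₃ x₃ = 0 ∧ (∀ j, f (a j) x₁ = 0) ∧ (∀ j, f (a j) x₂ = 0) ∧ (∀ j, f (a j) x₃ = 0) ∧
      x = x₁ + x₂ + x₃ := by
  have hf := C.hf
  have hfam : ∀ j, Rat F₀ ((Fin.cons x a : Fin (k + 1) → (Fin n → F)) j) := by
    intro j
    refine Fin.cases ?_ (fun i => ?_) j
    · simpa using hx
    · simpa using ha i
  obtain ⟨w, hw, hww, hwp, hwn⟩ := C.ex_rs (Fin.cons x a : Fin (k + 1) → (Fin n → F)) hfam
    (by omega)
  obtain ⟨w', hw', hw'w', hw'p, hww'⟩ := C.ex_partner (Fin.cons x a : Fin (k + 1) → (Fin n → F))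
    hfam hw hww hwp hwn
  have hxw : f x w = 0 := by simpa using hwp 0
  have hxw' : f x w' = 0 := by simpa using hw'p 0
  have haw : ∀ j, f (a j) w = 0 := fun j => by simpa using hwp j.succ
  have haw' : ∀ j, f (a j) w' = 0 := fun j => by simpa using hw'p j.succ
  have hwx := f_swap_zero hf hxw
  have hw'x := f_swap_zero hf hxw'
  have hw'w : f w' w = 1 := f_swap_one hf hww'
  obtain ⟨α, hαF, hα⟩ := C.ex_tr (F₀.neg_mem (C.rat x x hx hx)) (by
    rw [map_neg, f_self_fixed hf])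
  refine ⟨x + α • w + w', (-α) • w, -w', (hx.add (Rat.smul hαF hw)).add hw',
    Rat.smul (F₀.neg_mem hαF) hw, hw'.neg, ?_, ?_, ?_, ?_, ?_, ?_, ?_⟩
  · simp only [hf.add_left, f_add_right hf, hf.smul_left, f_smul_right hf, hxw, hxw', hwx, hw'x,
      hww, hw'w', hww', hw'w, mul_zero, add_zero, zero_add, mul_one]
    linear_combination hα
  · rw [hf.smul_left, f_smul_right hf, hww]
    ring
  · rw [f_neg_left hf, f_neg_right hf, hw'w']
    ring
  · intro j
    rw [f_add_right hf, f_add_right hf, f_smul_right hf, hxa j, haw j, haw' j]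
    ring
  · intro j
    rw [f_smul_right hf, haw j, mul_zero]
  · intro j
    rw [f_neg_right hf, haw' j, neg_zero]
  · module

/-- every non-zero vector pairs non-trivially with some rational isotropic vector -/
theorem VB.ex_rs_pair (C : VB σ f F₀) (hn : 4 ≤ n) {a : Fin n → F} (ha : a ≠ 0) :
    ∃ w, Rat F₀ w ∧ f w w = 0 ∧ f w a ≠ 0 := by
  have hf := C.hf
  by_contra hcon
  push Not at hcon
  apply ha
  apply C.eq_zero_of_perp_rat
  intro x hx
  obtain ⟨x₁, x₂, x₃, h1, h2, h3, q1, q2, q3, -, -, -, e⟩ :=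
    C.rat_sum_rs (![] : Fin 0 → (Fin n → F)) (fun j => Fin.elim0 j) (by omega) hx
      (fun j => Fin.elim0 j)
  rw [e, hf.add_left, hf.add_left, hcon x₁ h1 q1, hcon x₂ h2 q2, hcon x₃ h3 q3]
  ring

end Cfsg.Agent.Lib.Helper28.Su
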