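import Cfsg.Agent.Lib.Helper28.UoC

set_option autoImplicit false

open Cfsg

namespace Cfsg.Agent.Lib.Helper28.Uo

open Matrix Cfsg.Agent.Lib.Helper28.Sf Cfsg.Agent.Lib.Helper28.UForm
  Cfsg.Agent.Lib.Helper28.UPair Cfsg.Agent.Lib.Helper28.DecGen

variable {n : ℕ} {F : Type*} [Field F] {σ : F ≃+* F} {f : (Fin n → F) → (Fin n → F) → F}
  {F₀ : Subfield F} {G H : Subgroup (Matrix.GeneralLinearGroup (Fin n) F)}

local notation "GLn" => Matrix.GeneralLinearGroup (Fin n) F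

theorem UC.ex_T (C : UC σ f F₀ G H) {u v : Fin n → F} (huu : f u u = 0) (hvv : f v v = 0)
    (hvu : f v u = 0) (c : F) : ∃ t ∈ G, IsT f σ t u v c := by
  obtain ⟨g, hgS, hgiso, hg⟩ := sr_ex C.hf u v huu hvv hvu c
  exact ⟨g, (C.hG g).2 ⟨hgiso, hgS⟩, hg⟩

theorem UC.ex_E (C : UC σ f F₀ G H) {u y : Fin n → F} {c : F} (huu : f u u = 0)
    (hyu : f y u = 0) (hc : c + σ c = - f y y) : ∃ t ∈ G, IsE f t u y c := by
  obtain ⟨g, hgS, hg, hgiso⟩ := Cfsg.Agent.Lib.Helper28.UMax.siegel C.hf u y huu hyu c hc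
  exact ⟨g, (C.hG g).2 ⟨hgiso, hgS⟩, hg⟩

/-- rational `T`-elements lie in `H` -/
theorem UC.rat_T_mem (C : UC σ f F₀ G H) {t : GLn} {u v : Fin n → F} {c : F} (hu : Rat F₀ u)
    (hv : Rat F₀ v) (hc : c ∈ F₀) (huu : f u u = 0) (hvv : f v v = 0) (hvu : f v u = 0)
    (ht : IsT f σ t u v c) : t ∈ H := by
  obtain ⟨t', ht'G, ht'⟩ := C.ex_T huu hvv hvu c
  have e : t = t' := ht.unique ht'
  rw [e]
  apply C.rat_mem ht'G
  intro x hx
  rw [ht' x]
  unfold srAct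
  have hc' : σ c = c := (C.ub.fix c).1 hc
  rw [hc']
  exact (hx.add (Rat.smul (F₀.mul_mem hc (C.ub.rat x u hx hu)) hv)).sub
    (Rat.smul (F₀.mul_mem hc (C.ub.rat x v hx hv)) hu)

/-- rational Siegel elements lie in `H` -/
theorem UC.rat_E_mem (C : UC σ f F₀ G H) {t : GLn} {u y : Fin n → F} {c : F} (hu : Rat F₀ u)
    (hy : Rat F₀ y) (hc : c ∈ F₀) (huu : f u u = 0) (hyu : f y u = 0) (hcc : c + σ c = - f y y)
    (ht : IsE f t u y c) : t ∈ H := by
  obtain ⟨t', ht'G, ht'⟩ := C.ex_E huu hyu hcc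
  have e : t = t' := ht.unique ht'
  rw [e]
  apply C.rat_mem ht'G
  intro x hx
  rw [ht' x]
  unfold Em
  exact ((hx.add (Rat.smul (C.ub.rat x u hx hu) hy)).sub (Rat.smul (C.ub.rat x y hx hy) hu)).add
    (Rat.smul (F₀.mul_mem hc (C.ub.rat x u hx hu)) hu)

/-- the rational Siegel element with rational direction `y`: parameter `-f(y,y)/2` -/
theorem UC.ex_rat_E (C : UC σ f F₀ G H) {u y : Fin n → F} (hu : Rat F₀ u) (hy : Rat F₀ y)
    (huu : f u u = 0) (hyu : f y u = 0) :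
    ∃ t ∈ H, IsE f t u y (-(f y y) / 2) ∧ (-(f y y) / 2) + σ (-(f y y) / 2) = - f y y := by
  have h2 := C.ub.two
  have hc : -(f y y) / 2 ∈ F₀ := F₀.div_mem (F₀.neg_mem (C.ub.rat y y hy hy)) C.ub.two_mem
  have hcc : (-(f y y) / 2) + σ (-(f y y) / 2) = - f y y := by
    rw [(C.ub.fix _).1 hc]
    field_simp
    ring
  obtain ⟨t, _, ht⟩ := C.ex_E huu hyu hcc
  exact ⟨t, C.rat_E_mem hu hy hc huu hyu hcc ht, ht, hcc⟩

/-- parameter sets of the root subgroups `T_{u,v}` -/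
def AA (f : (Fin n → F) → (Fin n → F) → F) (σ : F ≃+* F) (H : Subgroup GLn) (u v : Fin n → F) :
    Set F := {c | ∃ t ∈ H, IsT f σ t u v c}

theorem UC.AA_F0 (C : UC σ f F₀ G H) {u v : Fin n → F} (hu : Rat F₀ u) (hv : Rat F₀ v)
    (huu : f u u = 0) (hvv : f v v = 0) (hvu : f v u = 0) {c : F} (hc : c ∈ F₀) :
    c ∈ AA f σ H u v := by
  obtain ⟨t, _, ht⟩ := C.ex_T huu hvv hvu c
  exact ⟨t, C.rat_T_mem hu hv hc huu hvv hvu ht, ht⟩

theorem UC.AA_add (C : UC σ f F₀ G H) {u v : Fin n → F} (huu : f u u = 0) (hvv : f v v = 0)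
    (hvu : f v u = 0) {c c' : F} (hc : c ∈ AA f σ H u v) (hc' : c' ∈ AA f σ H u v) :
    c + c' ∈ AA f σ H u v := by
  obtain ⟨t, ht, hts⟩ := hc
  obtain ⟨t', ht', hts'⟩ := hc'
  exact ⟨t * t', H.mul_mem ht ht', hts.mul C.hf huu hvv hvu hts'⟩

theorem UC.AA_neg (C : UC σ f F₀ G H) {u v : Fin n → F} (huu : f u u = 0) (hvv : f v v = 0)
    (hvu : f v u = 0) {c : F} (hc : c ∈ AA f σ H u v) : -c ∈ AA f σ H u v := by
  obtain ⟨t, ht, hts⟩ := hc
  exact ⟨t⁻¹, H.inv_mem ht, hts.inv C.hf huu hvv hvu⟩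

theorem UC.AA_swap (C : UC σ f F₀ G H) {u v : Fin n → F} {c : F} (hc : c ∈ AA f σ H u v) :
    -σ c ∈ AA f σ H v u := by
  obtain ⟨t, ht, hts⟩ := hc
  exact ⟨t, ht, hts.swap C.hf⟩

/-- the basic commutator relation: `AA a b * AA b' c ⊆ AA a c` -/
theorem UC.AA_mul (C : UC σ f F₀ G H) {a b b' c : Fin n → F} (haa : f a a = 0)
    (hab : f a b = 0) (hac : f a c = 0) (hbc : f b c = 0) (hab' : f a b' = 0) (hbb' : f b b' = 1)
    (hcc : f c c = 0) (hb'c : f b' c = 0) {lam mu : F}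
    (hl : lam ∈ AA f σ H a b) (hm : mu ∈ AA f σ H b' c) : lam * mu ∈ AA f σ H a c := by
  obtain ⟨t, ht, hts⟩ := hl
  obtain ⟨k, hk, hks⟩ := hm
  obtain ⟨T, _, hT⟩ := C.ex_T haa hcc (f_swap_zero C.hf hac) (lam * mu)
  have e := comm_TT C.hf haa hab hac hbc hab' hbb' hcc hb'c hts hks hT
  have e2 : T = k * t * k⁻¹ * t⁻¹ := by
    rw [e]
    group
  refine ⟨T, ?_, hT⟩
  rw [e2]
  exact H.mul_mem (H.mul_mem (H.mul_mem hk ht) (H.inv_mem hk)) (H.inv_mem ht)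

/-- one step: a rational totally singular triple `a, b, c` with `b` independent of `a, c` -/
theorem UC.AA_step (C : UC σ f F₀ G H) {a b c : Fin n → F} (ha : Rat F₀ a)
    (hb : Rat F₀ b) (hc : Rat F₀ c) (haa : f a a = 0) (hbb : f b b = 0) (hcc : f c c = 0)
    (hab : f a b = 0) (hac : f a c = 0) (hbc : f b c = 0)
    (hind : b ∉ Submodule.span F (Set.range ![a, c])) {lam : F} (hl : lam ∈ AA f σ H a b) :
    lam ∈ AA f σ H a c := by
  have hf := C.hf
  have hfam : ∀ j, Rat F₀ (![a, c] j) := by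
    intro j
    fin_cases j
    · exact ha
    · exact hc
  have hperp : ∀ j, f (![a, c] j) b = 0 := by
    intro j
    fin_cases j
    · exact hab
    · exact f_swap_zero hf hbc
  obtain ⟨b', hb', hb'b', hb'p, hb'p', hbb', -⟩ := C.ub.ex_partner ![a, c] hfam hb hbb hperp hind
  have hab' : f a b' = 0 := hb'p 0
  have hb'c : f b' c = 0 := hb'p' 1
  have h1 : (1 : F) ∈ AA f σ H b' c :=
    C.AA_F0 hb' hc hb'b' hcc (f_swap_zero hf hb'c) F₀.one_mem
  have := C.AA_mul haa hab hac hbc hab' hbb' hcc hb'c hl h1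
  rwa [mul_one] at this

/-- an independent rational totally singular pair -/
structure TP (F₀ : Subfield F) (f : (Fin n → F) → (Fin n → F) → F) (u v : Fin n → F) : Prop where
  ru : Rat F₀ u
  rv : Rat F₀ v
  uu : f u u = 0
  vv : f v v = 0
  uv : f u v = 0
  u0 : u ≠ 0
  ind : v ∉ Submodule.span F {u}

theorem TP.v0 {u v : Fin n → F} (h : TP F₀ f u v) : v ≠ 0 := by
  rintro rfl
  exact h.ind (Submodule.zero_mem _)

theorem TP.symm (hf : Cfsg.Geo.IsUnitaryForm σ f) {u v : Fin n → F} (h : TP F₀ f u v) :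
    TP F₀ f v u where
  ru := h.rv
  rv := h.ru
  uu := h.vv
  vv := h.uu
  uv := f_swap_zero hf h.uv
  u0 := h.v0
  ind := by
    intro hm
    obtain ⟨a, ha⟩ := Submodule.mem_span_singleton.mp hm
    apply h.ind
    have ha0 : a ≠ 0 := by
      rintro rfl
      rw [zero_smul] at ha
      exact h.u0 ha.symm
    rw [Submodule.mem_span_singleton]
    refine ⟨a⁻¹, ?_⟩
    rw [← ha, smul_smul, inv_mul_cancel₀ ha0, one_smul]

open Cfsg.Agent.Lib.Helper28.Os in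
/-- all parameter sets of independent rational totally singular pairs are contained in each
other -/
theorem UC.AA_sub [Finite F] (C : UC σ f F₀ G H) {u v u₂ v₂ : Fin n → F}
    (h1 : TP F₀ f u v) (h2 : TP F₀ f u₂ v₂) {lam : F} (hl : lam ∈ AA f σ H u v) :
    lam ∈ AA f σ H u₂ v₂ := by
  have hf := C.hf
  have hn := C.hn
  have hfam4 : ∀ j, Rat F₀ (![u, v, u₂, v₂] j) := by
    intro j
    fin_cases j
    · exact h1.ru
    · exact h1.rv
    · exact h2.ru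
    · exact h2.rv
  obtain ⟨w, hw, hww, hwp, hwp', hwn⟩ := C.ub.ex_rs ![u, v, u₂, v₂] hfam4 (by omega)
  have hfam5 : ∀ j, Rat F₀ (![u, v, u₂, v₂, w] j) := by
    intro j
    fin_cases j
    · exact h1.ru
    · exact h1.rv
    · exact h2.ru
    · exact h2.rv
    · exact hw
  obtain ⟨x, hx, hxx, hxp, hxp', hxn⟩ := C.ub.ex_rs ![u, v, u₂, v₂, w] hfam5 (by omega)
  have huw : f u w = 0 := hwp 0
  have hvw : f v w = 0 := hwp 1
  have hu₂w : f u₂ w = 0 := hwp 2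
  have hv₂w : f v₂ w = 0 := hwp 3
  have hux : f u x = 0 := hxp 0
  have hu₂x : f u₂ x = 0 := hxp 2
  have hwx : f w x = 0 := hxp 4
  have hwu : f w u = 0 := hwp' 0
  have hwu₂ : f w u₂ = 0 := hwp' 2
  have hwv₂ : f w v₂ = 0 := hwp' 3
  have hxu₂ : f x u₂ = 0 := hxp' 2
  -- membership helpers
  have m4 : ∀ j, ![u, v, u₂, v₂] j ∈ Submodule.span F (Set.range ![u, v, u₂, v₂]) :=
    fun j => Submodule.subset_span ⟨j, rfl⟩
  have m5 : ∀ j, ![u, v, u₂, v₂, w] j ∈ Submodule.span F (Set.range ![u, v, u₂, v₂, w]) :=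
    fun j => Submodule.subset_span ⟨j, rfl⟩
  -- step 1
  have s1 : lam ∈ AA f σ H u w := by
    apply C.AA_step h1.ru h1.rv hw h1.uu h1.vv hww h1.uv huw hvw _ hl
    rw [mem_span_pair']
    rintro ⟨α, β, hαβ⟩
    by_cases hβ : β = 0
    · apply h1.ind
      rw [Submodule.mem_span_singleton]
      refine ⟨α, ?_⟩
      rw [← hαβ, hβ, zero_smul, add_zero]
    · apply hwn
      have : w = β⁻¹ • (v - α • u) := by
        rw [← hαβ, add_sub_cancel_left, smul_smul, inv_mul_cancel₀ hβ, one_smul]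
      rw [this]
      exact Submodule.smul_mem _ _ (Submodule.sub_mem _ (m4 1) (Submodule.smul_mem _ _ (m4 0)))
  have s1' : -σ lam ∈ AA f σ H w u := C.AA_swap s1
  -- step 2
  have s2 : -σ lam ∈ AA f σ H w x := by
    apply C.AA_step hw h1.ru hx hww h1.uu hxx hwu hwx hux _ s1'
    rw [mem_span_pair']
    rintro ⟨α, β, hαβ⟩
    by_cases hβ : β = 0
    · rw [hβ, zero_smul, add_zero] at hαβ
      have hα : α ≠ 0 := by
        rintro rfl
        rw [zero_smul] at hαβ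
        exact h1.u0 hαβ.symm
      apply hwn
      have : w = α⁻¹ • u := by
        rw [← hαβ, smul_smul, inv_mul_cancel₀ hα, one_smul]
      rw [this]
      exact Submodule.smul_mem _ _ (m4 0)
    · apply hxn
      have : x = β⁻¹ • (u - α • w) := by
        rw [← hαβ, add_sub_cancel_left, smul_smul, inv_mul_cancel₀ hβ, one_smul]
      rw [this]
      exact Submodule.smul_mem _ _ (Submodule.sub_mem _ (m5 0) (Submodule.smul_mem _ _ (m5 4)))
  -- step 3
  have s3 : -σ lam ∈ AA f σ H w u₂ := by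
    apply C.AA_step hw hx h2.ru hww hxx h2.uu hwx hwu₂ hxu₂ _ s2
    rw [mem_span_pair']
    rintro ⟨α, β, hαβ⟩
    apply hxn
    rw [← hαβ]
    exact Submodule.add_mem _ (Submodule.smul_mem _ _ (m5 4)) (Submodule.smul_mem _ _ (m5 2))
  have s3' : lam ∈ AA f σ H u₂ w := by
    have := C.AA_swap s3
    rwa [map_neg, neg_neg, hf.involutive] at this
  -- step 4
  apply C.AA_step h2.ru hw h2.rv h2.uu hww h2.vv hu₂w h2.uv hwv₂ _ s3'
  rw [mem_span_pair']
  rintro ⟨α, β, hαβ⟩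
  apply hwn
  rw [← hαβ]
  exact Submodule.add_mem _ (Submodule.smul_mem _ _ (m4 2)) (Submodule.smul_mem _ _ (m4 3))

open Cfsg.Agent.Lib.Helper28.Os in
/-- a rational singular non-zero vector exists -/
theorem UC.ex_rs0 [Finite F] (C : UC σ f F₀ G H) :
    ∃ u : Fin n → F, Rat F₀ u ∧ f u u = 0 ∧ u ≠ 0 := by
  have hn := C.hn
  obtain ⟨u, hu, huu, -, -, hun⟩ := C.ub.ex_rs (![] : Fin 0 → (Fin n → F))
    (fun j => Fin.elim0 j) (by omega)
  refine ⟨u, hu, huu, ?_⟩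
  rintro rfl
  exact hun (Submodule.zero_mem _)

open Cfsg.Agent.Lib.Helper28.Os in
/-- extend a rational singular vector to a pair -/
theorem UC.ex_TP_of [Finite F] (C : UC σ f F₀ G H) {u : Fin n → F} (hu : Rat F₀ u)
    (huu : f u u = 0) (hu0 : u ≠ 0) : ∃ v, TP F₀ f u v := by
  have hn := C.hn
  obtain ⟨v, hv, hvv, hvp, -, hvn⟩ := C.ub.ex_rs ![u] (fun j => by fin_cases j; exact hu)
    (by omega)
  refine ⟨v, hu, hv, huu, hvv, hvp 0, hu0, ?_⟩
  intro hm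
  apply hvn
  rw [mem_span_single']
  exact Submodule.mem_span_singleton.mp hm

theorem UC.ex_TP [Finite F] (C : UC σ f F₀ G H) : ∃ u v, TP F₀ f u v := by
  obtain ⟨u, hu, huu, hu0⟩ := C.ex_rs0
  obtain ⟨v, hv⟩ := C.ex_TP_of hu huu hu0
  exact ⟨u, v, hv⟩

open Cfsg.Agent.Lib.Helper28.Os in
/-- the parameter sets are closed under multiplication by `F₀` -/
theorem UC.AA_smul [Finite F] (C : UC σ f F₀ G H) {u v : Fin n → F} (h : TP F₀ f u v)
    {lam mu : F} (hl : lam ∈ AA f σ H u v) (hm : mu ∈ F₀) : lam * mu ∈ AA f σ H u v := by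
  have hf := C.hf
  have hn := C.hn
  have hfam : ∀ j, Rat F₀ (![u, v] j) := by
    intro j
    fin_cases j
    · exact h.ru
    · exact h.rv
  obtain ⟨w, hw, hww, hwp, hwp', hwn⟩ := C.ub.ex_rs ![u, v] hfam (by omega)
  have huw : f u w = 0 := hwp 0
  have hvw : f v w = 0 := hwp 1
  have hfam2 : ∀ j, Rat F₀ (![u, w] j) := by
    intro j
    fin_cases j
    · exact h.ru
    · exact hw
  have hperp : ∀ j, f (![u, w] j) v = 0 := by
    intro j
    fin_cases j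
    · exact h.uv
    · exact hwp' 1
  have hind : v ∉ Submodule.span F (Set.range ![u, w]) := by
    rw [mem_span_pair']
    rintro ⟨α, β, hαβ⟩
    by_cases hβ : β = 0
    · apply h.ind
      rw [Submodule.mem_span_singleton]
      refine ⟨α, ?_⟩
      rw [← hαβ, hβ, zero_smul, add_zero]
    · apply hwn
      rw [mem_span_pair']
      refine ⟨-(β⁻¹ * α), β⁻¹, ?_⟩
      rw [← hαβ, smul_add, smul_smul, smul_smul, inv_mul_cancel₀ hβ, one_smul, neg_smul]
      abel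
  obtain ⟨v', hv', hv'v', hv'p, hv'p', hvv', -⟩ := C.ub.ex_partner ![u, w] hfam2 h.rv h.vv hperp hind
  have huv' : f u v' = 0 := hv'p 0
  have hv'w : f v' w = 0 := hv'p' 1
  have tp2 : TP F₀ f u w := by
    refine ⟨h.ru, hw, h.uu, hww, huw, h.u0, ?_⟩
    intro hm'
    obtain ⟨a, ha⟩ := Submodule.mem_span_singleton.mp hm'
    apply hwn
    rw [mem_span_pair']
    exact ⟨a, 0, by rw [zero_smul, add_zero, ha]⟩
  have hm' : mu ∈ AA f σ H v' w := C.AA_F0 hv' hw hv'v' hww (f_swap_zero hf hv'w) hm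
  have h5 := C.AA_mul h.uu h.uv huw hvw huv' hvv' hww hv'w hl hm'
  exact C.AA_sub tp2 h h5

/-- dichotomy for the parameter sets -/
theorem UC.AA_cases [Finite F] (C : UC σ f F₀ G H) :
    (∀ u v, TP F₀ f u v → ∀ a, a ∈ AA f σ H u v → a ∈ F₀) ∨
      (∀ u v, TP F₀ f u v → ∀ a : F, a ∈ AA f σ H u v) := by
  obtain ⟨u₀, v₀, h0⟩ := C.ex_TP
  have hvu := f_swap_zero C.hf h0.uv
  by_cases hc : ∀ a, a ∈ AA f σ H u₀ v₀ → a ∈ F₀
  · left
    intro u v huv a ha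
    exact hc a (C.AA_sub huv h0 ha)
  · right
    push Not at hc
    obtain ⟨a₀, ha₀, ha₀n⟩ := hc
    obtain ⟨θ, hθ0, hθs⟩ := C.ub.ex_theta
    obtain ⟨a₁, a₂, ha₁, ha₂, ea⟩ := C.ub.sdec hθ0 hθs a₀
    have ha₂0 : a₂ ≠ 0 := by
      rintro rfl
      apply ha₀n
      rw [ea, zero_mul, add_zero]
      exact ha₁
    intro u v huv a
    apply C.AA_sub h0 huv
    obtain ⟨x₁, x₂, hx₁, hx₂, ex⟩ := C.ub.sdec hθ0 hθs a
    have e : a = (x₁ - x₂ * a₁ / a₂) + a₀ * (x₂ / a₂) := by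
      rw [ex, ea]
      field_simp
      ring
    rw [e]
    apply C.AA_add h0.uu h0.vv hvu
    · exact C.AA_F0 h0.ru h0.rv h0.uu h0.vv hvu
        (F₀.sub_mem hx₁ (F₀.div_mem (F₀.mul_mem hx₂ ha₁) ha₂))
    · exact C.AA_smul h0 ha₀ (F₀.div_mem hx₂ ha₂)

end Cfsg.Agent.Lib.Helper28.Uo
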