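import Cfsg.Agent.Lib.Helper28.SuA
import Cfsg.Agent.Lib.Helper28.UoD

set_option autoImplicit false

open Cfsg

/-! Unitary subfield subgroups (stable subfield): ambient hypotheses and parameter sets. -/

namespace Cfsg.Agent.Lib.Helper28.Su

open Matrix Cfsg.Agent.Lib.Helper28.Sf Cfsg.Agent.Lib.Helper28.UForm
  Cfsg.Agent.Lib.Helper28.UPair Cfsg.Agent.Lib.Helper28.DecGen Cfsg.Agent.Lib.Helper28.Uo
  Cfsg.Agent.Lib.Helper28.Os

variable {n : ℕ} {F : Type*} [Field F] {σ : F ≃+* F} {f : (Fin n → F) → (Fin n → F) → F}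
  {F₀ : Subfield F} {G H : Subgroup (Matrix.GeneralLinearGroup (Fin n) F)}

local notation "GLn" => Matrix.GeneralLinearGroup (Fin n) F

/-- two-sided version of `VB.ex_rs` -/
theorem VB.ex_rs' (C : VB σ f F₀) {k : ℕ} (a : Fin k → (Fin n → F))
    (ha : ∀ j, Rat F₀ (a j)) (hk : 2 * k + 2 ≤ n) :
    ∃ x, Rat F₀ x ∧ f x x = 0 ∧ (∀ j, f (a j) x = 0) ∧ (∀ j, f x (a j) = 0) ∧
      x ∉ Submodule.span F (Set.range a) := by
  obtain ⟨x, hx, hxx, hxp, hxn⟩ := C.ex_rs a ha hk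
  exact ⟨x, hx, hxx, hxp, fun j => f_swap_zero C.hf (hxp j), hxn⟩

/-- two-sided version of `VB.ex_partner` -/
theorem VB.ex_partner' (C : VB σ f F₀) {k : ℕ} (a : Fin k → (Fin n → F))
    (ha : ∀ j, Rat F₀ (a j)) {w : Fin n → F} (hw : Rat F₀ w) (hws : f w w = 0)
    (hwp : ∀ j, f (a j) w = 0) (hwa : w ∉ Submodule.span F (Set.range a)) :
    ∃ w', Rat F₀ w' ∧ f w' w' = 0 ∧ (∀ j, f (a j) w' = 0) ∧ (∀ j, f w' (a j) = 0) ∧
      f w w' = 1 ∧ f w' w = 1 := by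
  obtain ⟨w', hw', hw'w', hw'p, hww'⟩ := C.ex_partner a ha hw hws hwp hwa
  exact ⟨w', hw', hw'w', hw'p, fun j => f_swap_zero C.hf (hw'p j), hww', f_swap_one C.hf hww'⟩

/-- the ambient hypotheses -/
structure VC (σ : F ≃+* F) (f : (Fin n → F) → (Fin n → F) → F) (F₀ : Subfield F)
    (G H : Subgroup (Matrix.GeneralLinearGroup (Fin n) F)) : Prop where
  vb : VB σ f F₀
  hG : ∀ g : Matrix.GeneralLinearGroup (Fin n) F, g ∈ G ↔
    (∀ x y, f ((g : Matrix (Fin n) (Fin n) F) *ᵥ x) ((g : Matrix (Fin n) (Fin n) F) *ᵥ y) = f x y) ∧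
      g ∈ Cfsg.Geo.specialLinear (Fin n) F
  le : H ≤ G
  sub : Cfsg.Geo.subfieldSubgroup F₀ (1 : Matrix.GeneralLinearGroup (Fin n) F) ⊓ G ≤ H
  hn : 13 ≤ n

theorem VC.hf (C : VC σ f F₀ G H) : Cfsg.Geo.IsUnitaryForm σ f := C.vb.hf

theorem VC.iso (C : VC σ f F₀ G H) {h : GLn} (hh : h ∈ H) (x y : Fin n → F) :
    f ((h : Matrix (Fin n) (Fin n) F) *ᵥ x) ((h : Matrix (Fin n) (Fin n) F) *ᵥ y) = f x y :=
  ((C.hG h).1 (C.le hh)).1 x y

theorem ratM_mem_sub {t : GLn} (h : RatM F₀ (t : Matrix (Fin n) (Fin n) F)) :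
    t ∈ Cfsg.Geo.subfieldSubgroup F₀ (1 : GLn) := by
  apply mem_sub_one_of_rat (c := 1) one_ne_zero
  intro x hx
  rw [inv_one, one_smul]
  exact h x hx

/-- a rational element of `G` lies in `H` -/
theorem VC.rat_mem (C : VC σ f F₀ G H) {t : GLn} (htG : t ∈ G)
    (h : RatM F₀ (t : Matrix (Fin n) (Fin n) F)) : t ∈ H :=
  C.sub ⟨ratM_mem_sub h, htG⟩

theorem VC.ex_T (C : VC σ f F₀ G H) {u v : Fin n → F} (huu : f u u = 0) (hvv : f v v = 0)
    (hvu : f v u = 0) (c : F) : ∃ t ∈ G, IsT f σ t u v c := by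
  obtain ⟨g, hgS, hgiso, hg⟩ := sr_ex C.hf u v huu hvv hvu c
  exact ⟨g, (C.hG g).2 ⟨hgiso, hgS⟩, hg⟩

theorem VC.ex_E (C : VC σ f F₀ G H) {u y : Fin n → F} {c : F} (huu : f u u = 0)
    (hyu : f y u = 0) (hc : c + σ c = - f y y) : ∃ t ∈ G, IsE f t u y c := by
  obtain ⟨g, hgS, hg, hgiso⟩ := Cfsg.Agent.Lib.Helper28.UMax.siegel C.hf u y huu hyu c hc
  exact ⟨g, (C.hG g).2 ⟨hgiso, hgS⟩, hg⟩

/-- Siegel elements lie in `G` -/
theorem VC.E_mem_G (C : VC σ f F₀ G H) {t : GLn} {u y : Fin n → F} {c : F} (huu : f u u = 0)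
    (hyu : f y u = 0) (hc : c + σ c = - f y y) (ht : IsE f t u y c) : t ∈ G := by
  obtain ⟨t', ht'G, ht'⟩ := C.ex_E huu hyu hc
  rw [ht.unique ht']
  exact ht'G

theorem VC.T_mem_G (C : VC σ f F₀ G H) {t : GLn} {u v : Fin n → F} {c : F} (huu : f u u = 0)
    (hvv : f v v = 0) (hvu : f v u = 0) (ht : IsT f σ t u v c) : t ∈ G := by
  obtain ⟨t', ht'G, ht'⟩ := C.ex_T huu hvv hvu c
  rw [ht.unique ht']
  exact ht'G

/-- Siegel elements with rational data are rational -/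
theorem _root_.Cfsg.Agent.Lib.Helper28.Uo.IsE.ratV (C : VB σ f F₀) {t : GLn} {u y : Fin n → F}
    {c : F} (hu : Rat F₀ u) (hy : Rat F₀ y) (hc : c ∈ F₀) (h : IsE f t u y c) :
    RatM F₀ (t : Matrix (Fin n) (Fin n) F) := by
  intro x hx
  rw [h x]
  unfold Em
  exact ((hx.add (Rat.smul (C.rat _ _ hx hu) hy)).sub (Rat.smul (C.rat _ _ hx hy) hu)).add
    (Rat.smul (F₀.mul_mem hc (C.rat _ _ hx hu)) hu)

/-- rational `T`-elements lie in `H` -/
theorem VC.rat_T_mem (C : VC σ f F₀ G H) {t : GLn} {u v : Fin n → F} {c : F} (hu : Rat F₀ u)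
    (hv : Rat F₀ v) (hc : c ∈ F₀) (huu : f u u = 0) (hvv : f v v = 0) (hvu : f v u = 0)
    (ht : IsT f σ t u v c) : t ∈ H := by
  apply C.rat_mem (C.T_mem_G huu hvv hvu ht)
  intro x hx
  rw [ht x]
  unfold srAct
  exact (hx.add (Rat.smul (F₀.mul_mem hc (C.vb.rat x u hx hu)) hv)).sub
    (Rat.smul (F₀.mul_mem (C.vb.stab c hc) (C.vb.rat x v hx hv)) hu)

/-- rational Siegel elements lie in `H` -/
theorem VC.rat_E_mem (C : VC σ f F₀ G H) {t : GLn} {u y : Fin n → F} {c : F} (hu : Rat F₀ u)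
    (hy : Rat F₀ y) (hc : c ∈ F₀) (huu : f u u = 0) (hyu : f y u = 0) (hcc : c + σ c = - f y y)
    (ht : IsE f t u y c) : t ∈ H :=
  C.rat_mem (C.E_mem_G huu hyu hcc ht) (ht.ratV C.vb hu hy hc)

/-- a rational Siegel element with rational direction `y` -/
theorem VC.ex_rat_E (C : VC σ f F₀ G H) {u y : Fin n → F} (hu : Rat F₀ u) (hy : Rat F₀ y)
    (huu : f u u = 0) (hyu : f y u = 0) :
    ∃ c ∈ F₀, c + σ c = - f y y ∧ ∃ t ∈ H, IsE f t u y c := by
  obtain ⟨c, hcF, hc⟩ := C.vb.ex_tr (F₀.neg_mem (C.vb.rat y y hy hy)) (by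
    rw [map_neg, f_self_fixed C.hf])
  obtain ⟨t, _, ht⟩ := C.ex_E huu hyu hc
  exact ⟨c, hcF, hc, t, C.rat_E_mem hu hy hcF huu hyu hc ht, ht⟩

theorem VC.AA_F0 (C : VC σ f F₀ G H) {u v : Fin n → F} (hu : Rat F₀ u) (hv : Rat F₀ v)
    (huu : f u u = 0) (hvv : f v v = 0) (hvu : f v u = 0) {c : F} (hc : c ∈ F₀) :
    c ∈ AA f σ H u v := by
  obtain ⟨t, _, ht⟩ := C.ex_T huu hvv hvu c
  exact ⟨t, C.rat_T_mem hu hv hc huu hvv hvu ht, ht⟩

theorem VC.AA_add (C : VC σ f F₀ G H) {u v : Fin n → F} (huu : f u u = 0) (hvv : f v v = 0)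
    (hvu : f v u = 0) {c c' : F} (hc : c ∈ AA f σ H u v) (hc' : c' ∈ AA f σ H u v) :
    c + c' ∈ AA f σ H u v := by
  obtain ⟨t, ht, hts⟩ := hc
  obtain ⟨t', ht', hts'⟩ := hc'
  exact ⟨t * t', H.mul_mem ht ht', hts.mul C.hf huu hvv hvu hts'⟩

theorem VC.AA_swap (C : VC σ f F₀ G H) {u v : Fin n → F} {c : F} (hc : c ∈ AA f σ H u v) :
    -σ c ∈ AA f σ H v u := by
  obtain ⟨t, ht, hts⟩ := hc
  exact ⟨t, ht, hts.swap C.hf⟩

/-- the basic commutator relation: `AA a b * AA b' c ⊆ AA a c` -/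
theorem VC.AA_mul (C : VC σ f F₀ G H) {a b b' c : Fin n → F} (haa : f a a = 0)
    (hab : f a b = 0) (hac : f a c = 0) (hbc : f b c = 0) (hab' : f a b' = 0) (hbb' : f b b' = 1)
    (hcc : f c c = 0) (hb'c : f b' c = 0) {lam mu : F}
    (hl : lam ∈ AA f σ H a b) (hm : mu ∈ AA f σ H b' c) : lam * mu ∈ AA f σ H a c := by
  obtain ⟨t, ht, hts⟩ := hl
  obtain ⟨k, hk, hks⟩ := hm
  obtain ⟨T, _, hT⟩ := C.ex_T haa hcc (f_swap_zero C.hf hac) (lam * mu)
  have e := comm_TT C.hf haa hab hac hbc hab' hbb' hcc hb'c hts hks hT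
  have e2 : T = k * t * k⁻¹ * t⁻¹ := by
    rw [e]
    group
  refine ⟨T, ?_, hT⟩
  rw [e2]
  exact H.mul_mem (H.mul_mem (H.mul_mem hk ht) (H.inv_mem hk)) (H.inv_mem ht)

/-- one step: a rational totally isotropic triple `a, b, c` with `b` independent of `a, c` -/
theorem VC.AA_step (C : VC σ f F₀ G H) {a b c : Fin n → F} (ha : Rat F₀ a)
    (hb : Rat F₀ b) (hc : Rat F₀ c) (haa : f a a = 0) (hbb : f b b = 0) (hcc : f c c = 0)
    (hab : f a b = 0) (hac : f a c = 0) (hbc : f b c = 0)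
    (hind : b ∉ Submodule.span F (Set.range ![a, c])) {lam : F} (hl : lam ∈ AA f σ H a b) :
    lam ∈ AA f σ H a c := by
  have hf := C.hf
  have hfam : ∀ j, Rat F₀ (![a, c] j) := by
    intro j
    fin_cases j
    · exact ha
    · exact hc
  have hperp : ∀ j, f (![a, c] j) b = 0 := by
    intro j
    fin_cases j
    · exact hab
    · exact f_swap_zero hf hbc
  obtain ⟨b', hb', hb'b', hb'p, hb'p', hbb', -⟩ := C.vb.ex_partner' ![a, c] hfam hb hbb hperp hind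
  have hab' : f a b' = 0 := hb'p 0
  have hb'c : f b' c = 0 := hb'p' 1
  have h1 : (1 : F) ∈ AA f σ H b' c :=
    C.AA_F0 hb' hc hb'b' hcc (f_swap_zero hf hb'c) F₀.one_mem
  have := C.AA_mul haa hab hac hbc hab' hbb' hcc hb'c hl h1
  rwa [mul_one] at this

/-- all parameter sets of independent rational totally isotropic pairs are contained in each
other -/
theorem VC.AA_sub (C : VC σ f F₀ G H) {u v u₂ v₂ : Fin n → F}
    (h1 : TP F₀ f u v) (h2 : TP F₀ f u₂ v₂) {lam : F} (hl : lam ∈ AA f σ H u v) :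
    lam ∈ AA f σ H u₂ v₂ := by
  have hf := C.hf
  have hn := C.hn
  have hfam4 : ∀ j, Rat F₀ (![u, v, u₂, v₂] j) := by
    intro j
    fin_cases j
    · exact h1.ru
    · exact h1.rv
    · exact h2.ru
    · exact h2.rv
  obtain ⟨w, hw, hww, hwp, hwp', hwn⟩ := C.vb.ex_rs' ![u, v, u₂, v₂] hfam4 (by omega)
  have hfam5 : ∀ j, Rat F₀ (![u, v, u₂, v₂, w] j) := by
    intro j
    fin_cases j
    · exact h1.ru
    · exact h1.rv
    · exact h2.ru
    · exact h2.rv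
    · exact hw
  obtain ⟨x, hx, hxx, hxp, hxp', hxn⟩ := C.vb.ex_rs' ![u, v, u₂, v₂, w] hfam5 (by omega)
  have huw : f u w = 0 := hwp 0
  have hvw : f v w = 0 := hwp 1
  have hu₂w : f u₂ w = 0 := hwp 2
  have hv₂w : f v₂ w = 0 := hwp 3
  have hux : f u x = 0 := hxp 0
  have hu₂x : f u₂ x = 0 := hxp 2
  have hwx : f w x = 0 := hxp 4
  have hwu : f w u = 0 := hwp' 0
  have hwu₂ : f w u₂ = 0 := hwp' 2
  have hwv₂ : f w v₂ = 0 := hwp' 3
  have hxu₂ : f x u₂ = 0 := hxp' 2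
  -- membership helpers
  have m4 : ∀ j, ![u, v, u₂, v₂] j ∈ Submodule.span F (Set.range ![u, v, u₂, v₂]) :=
    fun j => Submodule.subset_span ⟨j, rfl⟩
  have m5 : ∀ j, ![u, v, u₂, v₂, w] j ∈ Submodule.span F (Set.range ![u, v, u₂, v₂, w]) :=
    fun j => Submodule.subset_span ⟨j, rfl⟩
  -- step 1
  have s1 : lam ∈ AA f σ H u w := by
    apply C.AA_step h1.ru h1.rv hw h1.uu h1.vv hww h1.uv huw hvw _ hl
    rw [mem_span_pair']
    rintro ⟨α, β, hαβ⟩
    by_cases hβ : β = 0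
    · apply h1.ind
      rw [Submodule.mem_span_singleton]
      refine ⟨α, ?_⟩
      rw [← hαβ, hβ, zero_smul, add_zero]
    · apply hwn
      have : w = β⁻¹ • (v - α • u) := by
        rw [← hαβ, add_sub_cancel_left, smul_smul, inv_mul_cancel₀ hβ, one_smul]
      rw [this]
      exact Submodule.smul_mem _ _ (Submodule.sub_mem _ (m4 1) (Submodule.smul_mem _ _ (m4 0)))
  have s1' : -σ lam ∈ AA f σ H w u := C.AA_swap s1
  -- step 2
  have s2 : -σ lam ∈ AA f σ H w x := by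
    apply C.AA_step hw h1.ru hx hww h1.uu hxx hwu hwx hux _ s1'
    rw [mem_span_pair']
    rintro ⟨α, β, hαβ⟩
    by_cases hβ : β = 0
    · rw [hβ, zero_smul, add_zero] at hαβ
      have hα : α ≠ 0 := by
        rintro rfl
        rw [zero_smul] at hαβ
        exact h1.u0 hαβ.symm
      apply hwn
      have : w = α⁻¹ • u := by
        rw [← hαβ, smul_smul, inv_mul_cancel₀ hα, one_smul]
      rw [this]
      exact Submodule.smul_mem _ _ (m4 0)
    · apply hxn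
      have : x = β⁻¹ • (u - α • w) := by
        rw [← hαβ, add_sub_cancel_left, smul_smul, inv_mul_cancel₀ hβ, one_smul]
      rw [this]
      exact Submodule.smul_mem _ _ (Submodule.sub_mem _ (m5 0) (Submodule.smul_mem _ _ (m5 4)))
  -- step 3
  have s3 : -σ lam ∈ AA f σ H w u₂ := by
    apply C.AA_step hw hx h2.ru hww hxx h2.uu hwx hwu₂ hxu₂ _ s2
    rw [mem_span_pair']
    rintro ⟨α, β, hαβ⟩
    apply hxn
    rw [← hαβ]
    exact Submodule.add_mem _ (Submodule.smul_mem _ _ (m5 4)) (Submodule.smul_mem _ _ (m5 2))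
  have s3' : lam ∈ AA f σ H u₂ w := by
    have := C.AA_swap s3
    rwa [map_neg, neg_neg, hf.involutive] at this
  -- step 4
  apply C.AA_step h2.ru hw h2.rv h2.uu hww h2.vv hu₂w h2.uv hwv₂ _ s3'
  rw [mem_span_pair']
  rintro ⟨α, β, hαβ⟩
  apply hwn
  rw [← hαβ]
  exact Submodule.add_mem _ (Submodule.smul_mem _ _ (m4 2)) (Submodule.smul_mem _ _ (m4 3))

/-- a rational isotropic non-zero vector exists -/
theorem VC.ex_rs0 (C : VC σ f F₀ G H) :
    ∃ u : Fin n → F, Rat F₀ u ∧ f u u = 0 ∧ u ≠ 0 := by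
  have hn := C.hn
  obtain ⟨u, hu, huu, -, hun⟩ := C.vb.ex_rs (![] : Fin 0 → (Fin n → F))
    (fun j => Fin.elim0 j) (by omega)
  refine ⟨u, hu, huu, ?_⟩
  rintro rfl
  exact hun (Submodule.zero_mem _)

/-- extend a rational isotropic vector to a pair -/
theorem VC.ex_TP_of (C : VC σ f F₀ G H) {u : Fin n → F} (hu : Rat F₀ u)
    (huu : f u u = 0) (hu0 : u ≠ 0) : ∃ v, TP F₀ f u v := by
  have hn := C.hn
  obtain ⟨v, hv, hvv, hvp, hvn⟩ := C.vb.ex_rs ![u] (fun j => by fin_cases j; exact hu)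
    (by omega)
  refine ⟨v, hu, hv, huu, hvv, hvp 0, hu0, ?_⟩
  intro hm
  apply hvn
  rw [mem_span_single']
  exact Submodule.mem_span_singleton.mp hm

theorem VC.ex_TP (C : VC σ f F₀ G H) : ∃ u v, TP F₀ f u v := by
  obtain ⟨u, hu, huu, hu0⟩ := C.ex_rs0
  obtain ⟨v, hv⟩ := C.ex_TP_of hu huu hu0
  exact ⟨u, v, hv⟩

/-- the parameter set is closed under multiplication -/
theorem VC.AA_mul_self (C : VC σ f F₀ G H) {u v : Fin n → F} (h : TP F₀ f u v)
    {lam mu : F} (hl : lam ∈ AA f σ H u v) (hm : mu ∈ AA f σ H u v) :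
    lam * mu ∈ AA f σ H u v := by
  have hf := C.hf
  have hn := C.hn
  have hfam : ∀ j, Rat F₀ (![u, v] j) := by
    intro j
    fin_cases j
    · exact h.ru
    · exact h.rv
  obtain ⟨w, hw, hww, hwp, hwp', hwn⟩ := C.vb.ex_rs' ![u, v] hfam (by omega)
  have huw : f u w = 0 := hwp 0
  have hvw : f v w = 0 := hwp 1
  have hfam2 : ∀ j, Rat F₀ (![u, w] j) := by
    intro j
    fin_cases j
    · exact h.ru
    · exact hw
  have hperp : ∀ j, f (![u, w] j) v = 0 := by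
    intro j
    fin_cases j
    · exact h.uv
    · exact hwp' 1
  have hind : v ∉ Submodule.span F (Set.range ![u, w]) := by
    rw [mem_span_pair']
    rintro ⟨α, β, hαβ⟩
    by_cases hβ : β = 0
    · apply h.ind
      rw [Submodule.mem_span_singleton]
      refine ⟨α, ?_⟩
      rw [← hαβ, hβ, zero_smul, add_zero]
    · apply hwn
      rw [mem_span_pair']
      refine ⟨-(β⁻¹ * α), β⁻¹, ?_⟩
      rw [← hαβ, smul_add, smul_smul, smul_smul, inv_mul_cancel₀ hβ, one_smul, neg_smul]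
      abel
  obtain ⟨v', hv', hv'v', hv'p, hv'p', hvv', hv'v⟩ :=
    C.vb.ex_partner' ![u, w] hfam2 h.rv h.vv hperp hind
  have huv' : f u v' = 0 := hv'p 0
  have hv'w : f v' w = 0 := hv'p' 1
  have hw0 : w ≠ 0 := by
    rintro rfl
    exact hwn (Submodule.zero_mem _)
  have hv'0 : v' ≠ 0 := by
    rintro rfl
    rw [f_zero_right hf] at hvv'
    exact zero_ne_one hvv'
  have tp1 : TP F₀ f v' w := by
    refine ⟨hv', hw, hv'v', hww, hv'w, hv'0, ?_⟩
    intro hm'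
    obtain ⟨a, ha⟩ := Submodule.mem_span_singleton.mp hm'
    have h5 : f v w = σ a := by
      rw [← ha, f_smul_right hf, hvv', mul_one]
    rw [hvw] at h5
    have ha0 : a = 0 := by
      have := congrArg σ h5
      rw [hf.involutive, map_zero] at this
      exact this.symm
    rw [ha0, zero_smul] at ha
    exact hw0 ha.symm
  have tp2 : TP F₀ f u w := by
    refine ⟨h.ru, hw, h.uu, hww, huw, h.u0, ?_⟩
    intro hm'
    obtain ⟨a, ha⟩ := Submodule.mem_span_singleton.mp hm'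
    apply hwn
    rw [mem_span_pair']
    exact ⟨a, 0, by rw [zero_smul, add_zero, ha]⟩
  have hm' : mu ∈ AA f σ H v' w := C.AA_sub h tp1 hm
  have h5 := C.AA_mul h.uu h.uv huw hvw huv' hvv' hww hv'w hl hm'
  exact C.AA_sub tp2 h h5

/-- dichotomy for the parameter sets -/
theorem VC.AA_cases [Fintype F] (C : VC σ f F₀ G H) {r : ℕ} (hr : r.Prime)
    (hcard : Fintype.card F = Nat.card F₀ ^ r) :
    (∀ u v, TP F₀ f u v → ∀ a, a ∈ AA f σ H u v → a ∈ F₀) ∨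
      (∀ u v, TP F₀ f u v → ∀ a : F, a ∈ AA f σ H u v) := by
  obtain ⟨u₀, v₀, h0⟩ := C.ex_TP
  have hvu := f_swap_zero C.hf h0.uv
  rcases subring_cases hr hcard (AA f σ H u₀ v₀)
    (fun a ha => C.AA_F0 h0.ru h0.rv h0.uu h0.vv hvu ha)
    (fun a b ha hb => C.AA_add h0.uu h0.vv hvu ha hb)
    (fun a b ha hb => C.AA_mul_self h0 ha hb) with h | h
  · left
    intro u v huv a ha
    exact h a (C.AA_sub huv h0 ha)
  · right
    intro u v huv a
    exact C.AA_sub h0 huv (h a)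

end Cfsg.Agent.Lib.Helper28.Su
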