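import Cfsg.Agent.Lib.Helper28.SuB
import Cfsg.Agent.Lib.Helper28.UoE

set_option autoImplicit false

open Cfsg

/-! Unitary subfield subgroups (stable subfield): step C. -/

namespace Cfsg.Agent.Lib.Helper28.Su

open Matrix Cfsg.Agent.Lib.Helper28.Sf Cfsg.Agent.Lib.Helper28.UForm
  Cfsg.Agent.Lib.Helper28.UPair Cfsg.Agent.Lib.Helper28.DecGen Cfsg.Agent.Lib.Helper28.Uo
  Cfsg.Agent.Lib.Helper28.Os

variable {n : ℕ} {F : Type*} [Field F] {σ : F ≃+* F} {f : (Fin n → F) → (Fin n → F) → F}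
  {F₀ : Subfield F} {G H : Subgroup (Matrix.GeneralLinearGroup (Fin n) F)}

local notation "GLn" => Matrix.GeneralLinearGroup (Fin n) F

/-- (I.1) when the parameter sets are everything, `H` contains all unitary transvections with
rational singular centre -/
theorem VC.tv_mem (C : VC σ f F₀ G H)
    (hA : ∀ u v, TP F₀ f u v → ∀ a : F, a ∈ AA f σ H u v) {u : Fin n → F} (hu : Rat F₀ u)
    (huu : f u u = 0) (hu0 : u ≠ 0) {k : F} (hk : σ k = -k) {t : GLn} (ht : IsE f t u 0 k) :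
    t ∈ H := by
  have hf := C.hf
  have hn := C.hn
  obtain ⟨v, tp⟩ := C.ex_TP_of hu huu hu0
  have hvu := f_swap_zero hf tp.uv
  -- a rational singular partner `p` of `v` orthogonal to `u`
  have hind : v ∉ Submodule.span F (Set.range ![u]) := by
    rw [mem_span_single']
    rintro ⟨α, hα⟩
    exact tp.ind (Submodule.mem_span_singleton.mpr ⟨α, hα⟩)
  obtain ⟨p, hp, hpp, hpa, hpa', hvp, hpv⟩ := C.vb.ex_partner' ![u]
    (fun j => by fin_cases j; exact hu) tp.rv tp.vv (fun j => by fin_cases j; exact tp.uv) hind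
  have hup : f u p = 0 := hpa 0
  have hpu : f p u = 0 := hpa' 0
  have hp0 : p ≠ 0 := by
    rintro rfl
    rw [f_zero_left hf] at hpv
    exact zero_ne_one hpv
  have tp2 : TP F₀ f p u := by
    refine ⟨hp, hu, hpp, huu, hpu, hp0, ?_⟩
    intro hm
    obtain ⟨a, ha⟩ := Submodule.mem_span_singleton.mp hm
    have h1 : f v u = σ a := by
      rw [← ha, f_smul_right hf, hvp, mul_one]
    rw [hvu] at h1
    have ha0 : a = 0 := by
      have := congrArg σ h1
      rw [hf.involutive, map_zero] at this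
      exact this.symm
    rw [ha0, zero_smul] at ha
    exact hu0 ha.symm
  obtain ⟨μ, hμ⟩ := skew_surj hf (-k) (by rw [map_neg, hk])
  obtain ⟨S, hS, hSs⟩ := hA p u tp2 μ
  obtain ⟨Cc, hCc, hCs⟩ := C.AA_F0 (H := H) hu tp.rv huu tp.vv hvu F₀.one_mem
  have hT : ∀ x, (t : Matrix (Fin n) (Fin n) F) *ᵥ x =
      x + f x ((μ * σ (f p v) - σ μ * f p v) • u) • u := by
    intro x
    rw [ht x]
    unfold Em
    rw [hpv, map_one, mul_one, mul_one, f_smul_right hf, f_zero_right hf, hμ, map_neg, hk]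
    module
  have e := comm2 hf Cc S t u v p μ huu tp.uv hup hCs hSs hT
  have e2 : t = S⁻¹ * Cc * S * Cc⁻¹ := by
    have : S * t * Cc = Cc * S := e.symm
    calc t = S⁻¹ * (S * t * Cc) * Cc⁻¹ := by group
      _ = S⁻¹ * Cc * S * Cc⁻¹ := by rw [this]; group
  rw [e2]
  exact H.mul_mem (H.mul_mem (H.mul_mem (H.inv_mem hS) hCc) hS) (H.inv_mem hCc)

/-- (C1) when the parameter sets are everything, `H` meets every coset of the centre of the
unipotent radical of every rational singular point -/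
theorem VC.C1 (C : VC σ f F₀ G H)
    (hA : ∀ u v, TP F₀ f u v → ∀ a : F, a ∈ AA f σ H u v) {u : Fin n → F} (hu : Rat F₀ u)
    (huu : f u u = 0) (hu0 : u ≠ 0) {y : Fin n → F} (hyu : f y u = 0) : InQ f σ H u y := by
  have hf := C.hf
  have hn := C.hn
  -- rational singular directions
  have key1 : ∀ p : Fin n → F, Rat F₀ p → f p p = 0 → f u p = 0 → ∀ c : F,
      InQ f σ H u (c • p) := by
    intro p hp hpp hup c
    by_cases hpu : p ∈ Submodule.span F {u}
    · obtain ⟨a, rfl⟩ := Submodule.mem_span_singleton.mp hpu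
      rw [smul_smul]
      exact InQ.center hf huu _
    · obtain ⟨t, ht, hts⟩ := hA u p ⟨hu, hp, huu, hpp, hup, hu0, hpu⟩ c
      refine ⟨0, t, ht, isE_of_isT hf hts, ?_⟩
      rw [hf.smul_left, f_smul_right hf, hpp, map_zero]
      ring
  -- rational directions
  have key2 : ∀ p : Fin n → F, Rat F₀ p → f u p = 0 → ∀ c : F, InQ f σ H u (c • p) := by
    intro p hp hup c
    obtain ⟨p₁, p₂, p₃, hp₁, hp₂, hp₃, hQ₁, hQ₂, hQ₃, h1, h2, h3, hsum⟩ := C.vb.rat_sum_rs ![u]
      (fun j => by fin_cases j; exact hu) (by omega) hp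
      (fun j => by fin_cases j; exact hup)
    have e1 : f u p₁ = 0 := h1 0
    have e2 : f u p₂ = 0 := h2 0
    have e3 : f u p₃ = 0 := h3 0
    rw [hsum, smul_add, smul_add]
    refine InQ.add hf huu ?_ (by rw [hf.smul_left, f_swap_zero hf e3, mul_zero])
      (InQ.add hf huu (by rw [hf.smul_left, f_swap_zero hf e1, mul_zero])
        (by rw [hf.smul_left, f_swap_zero hf e2, mul_zero]) (key1 p₁ hp₁ hQ₁ e1 c)
        (key1 p₂ hp₂ hQ₂ e2 c)) (key1 p₃ hp₃ hQ₃ e3 c)
    rw [hf.add_left, hf.smul_left, hf.smul_left, f_swap_zero hf e1, f_swap_zero hf e2]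
    ring
  -- a rational partner of `u`
  obtain ⟨u', hu', -, -, -, huu', hu'u⟩ := C.vb.ex_partner' (![] : Fin 0 → (Fin n → F))
    (fun j => Fin.elim0 j) hu huu (fun j => Fin.elim0 j) (by
      intro hm
      have : Set.range (![] : Fin 0 → (Fin n → F)) = ∅ := Set.range_eq_empty _
      rw [this, Submodule.span_empty, Submodule.mem_bot] at hm
      exact hu0 hm)
  obtain ⟨P, hP⟩ : ∃ P : Fin n → (Fin n → F), P = fun i =>
    (Pi.single i 1 : Fin n → F) - f (Pi.single i 1) u' • u - f (Pi.single i 1) u • u' := ⟨_, rfl⟩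
  have hPr : ∀ i, Rat F₀ (P i) := fun i => by
    rw [hP]
    exact ((Rat.single i F₀.one_mem).sub
      (Rat.smul (C.vb.rat _ _ (Rat.single i F₀.one_mem) hu') hu)).sub
      (Rat.smul (C.vb.rat _ _ (Rat.single i F₀.one_mem) hu) hu')
  have hPu : ∀ i, f (P i) u = 0 := by
    intro i
    rw [hP]
    simp only [f_sub_left hf, hf.smul_left, huu, hu'u]
    ring
  have hy : y = ∑ i, y i • P i + f y u' • u := by
    have hx : y = ∑ i, y i • (Pi.single i (1 : F) : Fin n → F) := by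
      ext j
      simp [Finset.sum_apply, Pi.single_apply]
    have e1 : f y u' = ∑ i, y i * f (Pi.single i 1) u' := by
      conv_lhs => rw [hx]
      rw [f_sum_left hf]
      apply Finset.sum_congr rfl
      intro i _
      rw [hf.smul_left]
    have e2 : (0 : F) = ∑ i, y i * f (Pi.single i 1) u := by
      rw [← hyu]
      conv_lhs => rw [hx]
      rw [f_sum_left hf]
      apply Finset.sum_congr rfl
      intro i _
      rw [hf.smul_left]
    simp only [hP, smul_sub, Finset.sum_sub_distrib, smul_smul, ← Finset.sum_smul]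
    rw [← hx, ← e1, ← e2, zero_smul]
    abel
  rw [hy]
  apply InQ.add hf huu
  · rw [f_sum_left hf]
    apply Finset.sum_eq_zero
    intro i _
    rw [hf.smul_left, hPu i, mul_zero]
  · rw [hf.smul_left, huu, mul_zero]
  · apply InQ.sum hf huu
    · intro i _
      rw [hf.smul_left, hPu i, mul_zero]
    · intro i _
      exact key2 (P i) (hPr i) (f_swap_zero hf (hPu i)) (y i)
  · exact InQ.center hf huu _

/-- (C1') when the parameter sets are everything, `H` contains the full unipotent radical of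
every rational singular point -/
theorem VC.C1' (C : VC σ f F₀ G H)
    (hA : ∀ u v, TP F₀ f u v → ∀ a : F, a ∈ AA f σ H u v) {u : Fin n → F} (hu : Rat F₀ u)
    (huu : f u u = 0) (hu0 : u ≠ 0) {y : Fin n → F} (hyu : f y u = 0) {c : F}
    (hc : c + σ c = - f y y) {t : GLn} (ht : IsE f t u y c) : t ∈ H := by
  have hf := C.hf
  obtain ⟨c', t', ht', hts', hc'⟩ := C.C1 hA hu huu hu0 hyu
  have hk : (c - c') + σ (c - c') = - f (0 : Fin n → F) 0 := by
    rw [map_sub, f_zero_left hf]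
    linear_combination hc - hc'
  obtain ⟨τ, _, hτ⟩ := C.ex_E huu (f_zero_left hf u) hk
  have hτH : τ ∈ H := C.tv_mem hA hu huu hu0 (by
    rw [f_zero_left hf, neg_zero] at hk
    linear_combination hk) hτ
  have h1 := hts'.mul hf huu hyu (f_zero_left hf u) hτ
  have e : t = t' * τ := by
    apply ht.unique
    refine h1.congr (add_zero y) ?_
    rw [f_zero_left hf]
    ring
  rw [e]
  exact H.mul_mem ht' hτH

/-- every non-zero vector pairs non-trivially with some rational isotropic vector -/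
theorem VC.ex_rs_pair (C : VC σ f F₀ G H) {a : Fin n → F} (ha : a ≠ 0) :
    ∃ w, Rat F₀ w ∧ f w w = 0 ∧ f a w ≠ 0 := by
  have hn := C.hn
  obtain ⟨w, hw, hww, hwa⟩ := C.vb.ex_rs_pair (by omega) ha
  exact ⟨w, hw, hww, f_swap_ne C.hf hwa⟩

/-- (C2) every isotropic point is `H`-conjugate to a rational one -/
theorem VC.C2 (C : VC σ f F₀ G H)
    (hA : ∀ u v, TP F₀ f u v → ∀ a : F, a ∈ AA f σ H u v) {a : Fin n → F} (ha0 : a ≠ 0)
    (haa : f a a = 0) :
    ∃ g ∈ H, ∃ u₀ : Fin n → F, Rat F₀ u₀ ∧ f u₀ u₀ = 0 ∧ u₀ ≠ 0 ∧ ∃ κ : F, κ ≠ 0 ∧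
      (g : Matrix (Fin n) (Fin n) F) *ᵥ a = κ • u₀ := by
  have hf := C.hf
  obtain ⟨w, hw, hww, hwa⟩ := C.ex_rs_pair ha0
  have hw0 : w ≠ 0 := by
    rintro rfl
    exact hwa (f_zero_right hf a)
  obtain ⟨u₀, hu₀, hu₀u₀, -, -, hwu₀, hu₀w⟩ := C.vb.ex_partner' (![] : Fin 0 → (Fin n → F))
    (fun j => Fin.elim0 j) hw hww (fun j => Fin.elim0 j) (by
      intro hm
      have : Set.range (![] : Fin 0 → (Fin n → F)) = ∅ := Set.range_eq_empty _
      rw [this, Submodule.span_empty, Submodule.mem_bot] at hm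
      exact hw0 hm)
  have hu₀0 : u₀ ≠ 0 := by
    rintro rfl
    rw [f_zero_right hf] at hwu₀
    exact zero_ne_one hwu₀
  obtain ⟨κ, hκ⟩ : ∃ κ : F, κ = f a w := ⟨_, rfl⟩
  have hκ0 : κ ≠ 0 := by rw [hκ]; exact hwa
  have hσκ0 : σ κ ≠ 0 := by
    intro h
    apply hκ0
    have := congrArg σ h
    rwa [hf.involutive, map_zero] at this
  obtain ⟨y, hy⟩ : ∃ y : Fin n → F, y = κ⁻¹ • (κ • u₀ - a) := ⟨_, rfl⟩
  have hyw : f y w = 0 := by
    rw [hy, hf.smul_left, f_sub_left hf, hf.smul_left, hu₀w, ← hκ]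
    ring
  obtain ⟨c, hc⟩ : ∃ c : F, c = f a u₀ / κ := ⟨_, rfl⟩
  have hu₀a : f u₀ a = σ (f a u₀) := hf.herm u₀ a
  have hcc : c + σ c = - f y y := by
    rw [hy, hf.smul_left, f_smul_right hf, f_sub_left hf, f_sub_right hf, f_sub_right hf,
      hf.smul_left, hf.smul_left, f_smul_right hf, f_smul_right hf, hu₀u₀, haa, hu₀a, hc,
      map_div₀, map_inv₀]
    field_simp
    ring
  obtain ⟨g, _, hgs⟩ := C.ex_E hww hyw hcc
  have hg : g ∈ H := C.C1' hA hw hww hw0 hyw hcc hgs
  refine ⟨g, hg, u₀, hu₀, hu₀u₀, hu₀0, κ, hκ0, ?_⟩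
  rw [hgs a]
  unfold Em
  have e1 : f a y = f a u₀ := by
    rw [hy, f_smul_right hf, f_sub_right hf, f_smul_right hf, haa, map_inv₀]
    field_simp
    ring
  rw [e1, ← hκ, hy, hc]
  have e3 : κ • κ⁻¹ • (κ • u₀ - a) = κ • u₀ - a := by
    rw [smul_smul, mul_inv_cancel₀ hκ0, one_smul]
  have e4 : f a u₀ / κ * κ = f a u₀ := by
    field_simp
  rw [e3, e4]
  module

/-- Step C: if the parameter sets are everything then `H = G` -/
theorem VC.stepC [Finite F] (C : VC σ f F₀ G H)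
    (hA : ∀ u v, TP F₀ f u v → ∀ a : F, a ∈ AA f σ H u v) : H = G := by
  have hf := C.hf
  have hn := C.hn
  apply le_antisymm C.le
  intro g' hg'
  have hgen := Cfsg.Agent.Lib.Helper28.UGen.gen hf (Or.inr (by omega)) g' ((C.hG g').1 hg').1
    ((C.hG g').1 hg').2
  refine (Subgroup.closure_le H).2 ?_ hgen
  rintro t ⟨y, c, hyy, hc, ht⟩
  by_cases hy0 : y = 0
  · have : t = 1 := by
      apply glx
      intro x
      rw [ht x, Units.val_one, Matrix.one_mulVec, hy0, smul_zero, add_zero]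
    rw [this]
    exact H.one_mem
  obtain ⟨g, hg, u₀, hu₀, hu₀u₀, hu₀0, κ, hκ, hgy⟩ := C.C2 hA hy0 hyy
  have htE : IsE f t y 0 (σ c) := by
    intro x
    rw [ht x]
    unfold Em
    rw [f_smul_right hf, f_zero_right hf]
    module
  have h1 := htE.conj hf (C.iso hg)
  rw [hgy, Matrix.mulVec_zero] at h1
  have h2 : IsE f (g * t * g⁻¹) u₀ 0 (σ c * κ * σ κ) := by
    intro x
    rw [h1 x]
    unfold Em
    rw [f_smul_right hf, f_zero_right hf]
    module
  have h3 : g * t * g⁻¹ ∈ H := C.tv_mem hA hu₀ hu₀u₀ hu₀0 (by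
    rw [map_mul, map_mul, hf.involutive, hf.involutive, hc]
    ring) h2
  have e2 : t = g⁻¹ * (g * t * g⁻¹) * g := by group
  rw [e2]
  exact H.mul_mem (H.mul_mem (H.inv_mem hg) h3) hg

end Cfsg.Agent.Lib.Helper28.Su
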