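import Cfsg.Agent.Lib.Helper28.SuC

set_option autoImplicit false

open Cfsg

/-! Unitary subfield subgroups (stable subfield), case II part 1: Siegel elements of `H` with
rational centre are rational. -/

namespace Cfsg.Agent.Lib.Helper28.Su

open Matrix Cfsg.Agent.Lib.Helper28.Sf Cfsg.Agent.Lib.Helper28.UForm
  Cfsg.Agent.Lib.Helper28.UPair Cfsg.Agent.Lib.Helper28.DecGen Cfsg.Agent.Lib.Helper28.Uo
  Cfsg.Agent.Lib.Helper28.Os

variable {n : ℕ} {F : Type*} [Field F] {σ : F ≃+* F} {f : (Fin n → F) → (Fin n → F) → F}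
  {F₀ : Subfield F} {G H : Subgroup (Matrix.GeneralLinearGroup (Fin n) F)}

local notation "GLn" => Matrix.GeneralLinearGroup (Fin n) F

/-- changing the direction by a multiple of the centre -/
theorem _root_.Cfsg.Agent.Lib.Helper28.Uo.IsE.shift (hf : Cfsg.Geo.IsUnitaryForm σ f) {t : GLn}
    {u y : Fin n → F} {c : F} (h : IsE f t u y c) (a : F) :
    IsE f t u (y + a • u) (c + σ a - a) := by
  intro x
  rw [h x]
  unfold Em
  rw [f_add_right hf, f_smul_right hf]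
  module

theorem _root_.Cfsg.Agent.Lib.Helper28.Uo.IsE.smul_center (hf : Cfsg.Geo.IsUnitaryForm σ f)
    {t : GLn} {u y : Fin n → F} {c a : F} (h : IsE f t (a • u) y c) :
    IsE f t u (σ a • y) (a * σ a * c) := by
  intro x
  rw [h x]
  unfold Em
  rw [f_smul_right hf, f_smul_right hf, hf.involutive]
  module

/-- the commutator of an isometry fixing `u` with a Siegel element of centre `u` -/
theorem _root_.Cfsg.Agent.Lib.Helper28.Uo.IsE.commutator (hf : Cfsg.Geo.IsUnitaryForm σ f)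
    {t k : GLn} {u y : Fin n → F} {c : F} (huu : f u u = 0) (hyu : f y u = 0)
    (hc : c + σ c = - f y y)
    (hk : ∀ x y, f ((k : Matrix (Fin n) (Fin n) F) *ᵥ x) ((k : Matrix (Fin n) (Fin n) F) *ᵥ y) =
      f x y) (hku : (k : Matrix (Fin n) (Fin n) F) *ᵥ u = u)
    (h : IsE f t u y c) :
    IsE f (k * t * k⁻¹ * t⁻¹) u ((k : Matrix (Fin n) (Fin n) F) *ᵥ y - y)
      (f y ((k : Matrix (Fin n) (Fin n) F) *ᵥ y - y)) ∧
    f y ((k : Matrix (Fin n) (Fin n) F) *ᵥ y - y) +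
      σ (f y ((k : Matrix (Fin n) (Fin n) F) *ᵥ y - y)) =
      - f ((k : Matrix (Fin n) (Fin n) F) *ᵥ y - y) ((k : Matrix (Fin n) (Fin n) F) *ᵥ y - y) := by
  have h1 := h.conj hf hk
  rw [hku] at h1
  have h2 := h.inv hf huu hyu hc
  have hkyu : f ((k : Matrix (Fin n) (Fin n) F) *ᵥ y) u = 0 := by
    have := hk y u
    rw [hku] at this
    rw [this, hyu]
  have h3 := h1.mul hf huu hkyu (by rw [f_neg_left hf, hyu, neg_zero]) h2
  have e1 : f ((k : Matrix (Fin n) (Fin n) F) *ᵥ y) y =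
      σ (f y ((k : Matrix (Fin n) (Fin n) F) *ᵥ y)) := hf.herm _ _
  constructor
  · refine h3.congr (by rw [sub_eq_add_neg]) ?_
    rw [f_neg_left hf, f_sub_right hf]
    linear_combination hc
  · rw [f_sub_right hf, f_sub_left hf, f_sub_right hf, f_sub_right hf, map_sub, hk y y, e1,
      f_self_fixed hf]
    ring

/-- Siegel elements with isotropic direction are unipotent of class two -/
theorem _root_.Cfsg.Agent.Lib.Helper28.Uo.IsE.sq (hf : Cfsg.Geo.IsUnitaryForm σ f) {t : GLn}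
    {u y : Fin n → F} {c : F} (huu : f u u = 0) (hyu : f y u = 0) (hyy : f y y = 0)
    (h : IsE f t u y c) (x : Fin n → F) :
    (t : Matrix (Fin n) (Fin n) F) *ᵥ ((t : Matrix (Fin n) (Fin n) F) *ᵥ x) =
      (2 : F) • ((t : Matrix (Fin n) (Fin n) F) *ᵥ x) - x := by
  have huy : f u y = 0 := f_swap_zero hf hyu
  rw [h x, h]
  unfold Em
  simp only [hf.add_left, f_sub_left hf, hf.smul_left, huu, hyu, huy, hyy, mul_zero, add_zero,
    sub_zero]
  module

theorem isE_tv (hf : Cfsg.Geo.IsUnitaryForm σ f) {t : GLn} {u : Fin n → F} {c : F} :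
    IsE f t u 0 c ↔ ∀ x, (t : Matrix (Fin n) (Fin n) F) *ᵥ x = x + (c * f x u) • u := by
  constructor
  · intro h x
    rw [h x]
    unfold Em
    rw [f_zero_right hf]
    module
  · intro h x
    rw [h x]
    unfold Em
    rw [f_zero_right hf]
    module

theorem _root_.Cfsg.Agent.Lib.Helper28.Uo.IsT.apply {t : GLn} {u v : Fin n → F} {c : F}
    (h : IsT f σ t u v c) (x : Fin n → F) :
    (t : Matrix (Fin n) (Fin n) F) *ᵥ x = x + (c * f x u) • v - (σ c * f x v) • u := h x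

/-- a `T`-element fixes the vectors orthogonal to its two centres -/
theorem _root_.Cfsg.Agent.Lib.Helper28.Uo.IsT.fix {t : GLn} {z w x : Fin n → F} {c : F}
    (h : IsT f σ t z w c) (hxz : f x z = 0) (hxw : f x w = 0) :
    (t : Matrix (Fin n) (Fin n) F) *ᵥ x = x := by
  rw [h.apply, hxz, hxw]
  module

/-- (TC): under `A = F₀`, Siegel elements of `H` with rational centre have rational direction
modulo the centre. -/
theorem VC.TC (C : VC σ f F₀ G H)
    (hA : ∀ u v, TP F₀ f u v → ∀ a, a ∈ AA f σ H u v → a ∈ F₀)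
    {u y : Fin n → F} {c : F} (hu : Rat F₀ u) (huu : f u u = 0) (hu0 : u ≠ 0)
    (hyu : f y u = 0) (hc : c + σ c = - f y y)
    {t : GLn} (ht : t ∈ H) (hts : IsE f t u y c) : ∃ β : F, Rat F₀ (y - β • u) := by
  have hf := C.hf
  have hn := C.hn
  obtain ⟨u', hu', hu'u', huu'⟩ := C.vb.ex_partner0 hu huu hu0
  have hu'u : f u' u = 1 := f_swap_one hf huu'
  have huy : f u y = 0 := f_swap_zero hf hyu
  refine ⟨f y u', ?_⟩
  obtain ⟨y', hy'⟩ : ∃ y' : Fin n → F, y' = y - f y u' • u := ⟨_, rfl⟩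
  rw [← hy']
  obtain ⟨c', hc'd⟩ : ∃ c' : F, c' = c + σ (-(f y u')) - -(f y u') := ⟨_, rfl⟩
  have hts' : IsE f t u y' c' := by
    have := hts.shift hf (-(f y u'))
    refine this.congr ?_ hc'd.symm
    rw [hy', neg_smul, sub_eq_add_neg]
  have hy'u : f y' u = 0 := by
    rw [hy', f_sub_left hf, hf.smul_left, hyu, huu]
    ring
  have hy'u' : f y' u' = 0 := by
    rw [hy', f_sub_left hf, hf.smul_left, huu']
    ring
  have huy' : f u y' = 0 := f_swap_zero hf hy'u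
  have hu'y' : f u' y' = 0 := f_swap_zero hf hy'u'
  have hy'y' : f y' y' = f y y := by
    rw [hy', f_sub_left hf, f_sub_right hf, f_sub_right hf, hf.smul_left, hf.smul_left,
      f_smul_right hf, f_smul_right hf, huu, hyu, huy]
    ring
  have hc' : c' + σ c' = - f y' y' := by
    rw [hy'y', hc'd, map_sub, map_add, map_neg, map_neg, hf.involutive]
    linear_combination hc
  -- the key claim for rational isotropic vectors orthogonal to `u, u'`
  have key : ∀ z : Fin n → F, Rat F₀ z → f z z = 0 → f z u = 0 → f z u' = 0 →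
      f y' z ∈ F₀ := by
    intro z hz hzz hzu hzu'
    by_cases hz0 : z = 0
    · rw [hz0, f_zero_right hf]
      exact F₀.zero_mem
    have huz : f u z = 0 := f_swap_zero hf hzu
    have hfam3 : ∀ j, Rat F₀ (![u, u', z] j) := by
      intro j
      fin_cases j
      · exact hu
      · exact hu'
      · exact hz
    obtain ⟨w, hw, hww, hwp, hwp', hwn⟩ := C.vb.ex_rs' ![u, u', z] hfam3 (by omega)
    obtain ⟨z₂, hz₂, hz₂z₂, hz₂p, hz₂p', hwz₂, hz₂w⟩ :=
      C.vb.ex_partner' ![u, u', z] hfam3 hw hww hwp hwn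
    have hfam5 : ∀ j, Rat F₀ (![u, u', z, w, z₂] j) := by
      intro j
      fin_cases j
      · exact hu
      · exact hu'
      · exact hz
      · exact hw
      · exact hz₂
    obtain ⟨w₂, hw₂, hw₂w₂, hw₂p, hw₂p', hw₂n⟩ :=
      C.vb.ex_rs' ![u, u', z, w, z₂] hfam5 (by omega)
    have huw : f u w = 0 := hwp 0
    have hzw : f z w = 0 := hwp 2
    have hwz : f w z = 0 := hwp' 2
    have huz₂ : f u z₂ = 0 := hz₂p 0
    have hzz₂ : f z z₂ = 0 := hz₂p 2
    have huw₂ : f u w₂ = 0 := hw₂p 0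
    have hzw₂ : f z w₂ = 0 := hw₂p 2
    have hww₂ : f w w₂ = 0 := hw₂p 3
    have hz₂w₂ : f z₂ w₂ = 0 := hw₂p 4
    have hw₂z₂ : f w₂ z₂ = 0 := hw₂p' 4
    -- first commutator
    obtain ⟨g₁, _, hg₁s⟩ := C.ex_T hzz hww hwz (1 : F)
    have hg₁ : g₁ ∈ H := C.rat_T_mem hz hw F₀.one_mem hzz hww hwz hg₁s
    have hg₁u : (g₁ : Matrix (Fin n) (Fin n) F) *ᵥ u = u := hg₁s.fix huz huw
    obtain ⟨hc₁, hc₁c⟩ := hts'.commutator hf huu hy'u hc' (C.iso hg₁) hg₁u
    have hc₁H : g₁ * t * g₁⁻¹ * t⁻¹ ∈ H :=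
      H.mul_mem (H.mul_mem (H.mul_mem hg₁ ht) (H.inv_mem hg₁)) (H.inv_mem ht)
    obtain ⟨y₁, hy₁⟩ : ∃ y₁ : Fin n → F, y₁ = f y' z • w - f y' w • z := ⟨_, rfl⟩
    have e1 : (g₁ : Matrix (Fin n) (Fin n) F) *ᵥ y' - y' = y₁ := by
      rw [hg₁s.apply, hy₁, map_one]
      module
    rw [e1] at hc₁ hc₁c
    have hy₁u : f y₁ u = 0 := by
      have hwu : f w u = 0 := hwp' 0
      rw [hy₁, f_sub_left hf, hf.smul_left, hf.smul_left, hwu, hzu]
      ring
    -- second commutator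
    obtain ⟨g₂, _, hg₂s⟩ := C.ex_T hz₂z₂ hw₂w₂ hw₂z₂ (1 : F)
    have hg₂ : g₂ ∈ H := C.rat_T_mem hz₂ hw₂ F₀.one_mem hz₂z₂ hw₂w₂ hw₂z₂ hg₂s
    have hg₂u : (g₂ : Matrix (Fin n) (Fin n) F) *ᵥ u = u := hg₂s.fix huz₂ huw₂
    obtain ⟨hc₂, -⟩ := hc₁.commutator hf huu hy₁u hc₁c (C.iso hg₂) hg₂u
    have hc₂H : g₂ * (g₁ * t * g₁⁻¹ * t⁻¹) * g₂⁻¹ * (g₁ * t * g₁⁻¹ * t⁻¹)⁻¹ ∈ H :=
      H.mul_mem (H.mul_mem (H.mul_mem hg₂ hc₁H) (H.inv_mem hg₂)) (H.inv_mem hc₁H)
    have a1 : f y₁ z₂ = f y' z := by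
      rw [hy₁, f_sub_left hf, hf.smul_left, hf.smul_left, hwz₂, hzz₂]
      ring
    have a2 : f y₁ w₂ = 0 := by
      rw [hy₁, f_sub_left hf, hf.smul_left, hf.smul_left, hww₂, hzw₂]
      ring
    have e2 : (g₂ : Matrix (Fin n) (Fin n) F) *ᵥ y₁ - y₁ = f y' z • w₂ := by
      rw [hg₂s.apply, a1, a2, map_one]
      module
    have e3 : f y₁ (f y' z • w₂) = 0 := by
      rw [f_smul_right hf, a2, mul_zero]
    rw [e2, e3] at hc₂
    have hmem : f y' z ∈ AA f σ H u w₂ := ⟨_, hc₂H, isT_of_isE hf hc₂⟩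
    exact hA u w₂ ⟨hu, hw₂, huu, hw₂w₂, huw₂, hu0, by
      intro hm
      obtain ⟨a, ha⟩ := Submodule.mem_span_singleton.mp hm
      apply hw₂n
      rw [← ha]
      exact Submodule.smul_mem _ _ (Submodule.subset_span ⟨0, rfl⟩)⟩ _ hmem
  -- all rational vectors orthogonal to `u, u'`
  have key2 : ∀ z : Fin n → F, Rat F₀ z → f u z = 0 → f u' z = 0 → f y' z ∈ F₀ := by
    intro z hz huz hu'z
    obtain ⟨z₁, z₂, z₃, h1, h2, h3, q1, q2, q3, p1, p2, p3, e⟩ := C.vb.rat_sum_rs ![u, u']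
      (fun j => by fin_cases j; exact hu; exact hu') (by omega) hz
      (fun j => by fin_cases j; exact huz; exact hu'z)
    rw [e, f_add_right hf, f_add_right hf]
    exact F₀.add_mem (F₀.add_mem
      (key z₁ h1 q1 (f_swap_zero hf (p1 0)) (f_swap_zero hf (p1 1)))
      (key z₂ h2 q2 (f_swap_zero hf (p2 0)) (f_swap_zero hf (p2 1))))
      (key z₃ h3 q3 (f_swap_zero hf (p3 0)) (f_swap_zero hf (p3 1)))
  apply C.vb.rat_of_pair
  intro x hx
  obtain ⟨hp1, hp2⟩ := prj_perp hf huu hu'u' huu' x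
  have h1 := key2 _ (prj_rat C.vb hu hu' hx) (f_swap_zero hf hp1) (f_swap_zero hf hp2)
  have e : f y' x = f y' (prj f u u' x) := by
    conv_lhs => rw [prj_decomp (f := f) u u' x]
    rw [f_add_right hf, f_add_right hf, f_smul_right hf, f_smul_right hf, hy'u, hy'u']
    ring
  rw [e]
  exact h1

/-- (LL): under `A = F₀`, transvections of `H` with rational centre have rational parameter -/
theorem VC.LL (C : VC σ f F₀ G H)
    (hA : ∀ u v, TP F₀ f u v → ∀ a, a ∈ AA f σ H u v → a ∈ F₀)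
    {u : Fin n → F} {c : F} (hu : Rat F₀ u) (huu : f u u = 0) (hu0 : u ≠ 0)
    (hc : c + σ c = 0)
    {t : GLn} (ht : t ∈ H) (hts : IsE f t u 0 c) : c ∈ F₀ := by
  have hf := C.hf
  have hn := C.hn
  obtain ⟨u', hu', hu'u', huu'⟩ := C.vb.ex_partner0 hu huu hu0
  have hu'u : f u' u = 1 := f_swap_one hf huu'
  have hfam : ∀ j, Rat F₀ (![u, u'] j) := by
    intro j
    fin_cases j
    · exact hu
    · exact hu'
  obtain ⟨w, hw, hww, hwp, hwp', hwn⟩ := C.vb.ex_rs' ![u, u'] hfam (by omega)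
  have huw : f u w = 0 := hwp 0
  have hu'w : f u' w = 0 := hwp 1
  have hwu : f w u = 0 := hwp' 0
  have hwu' : f w u' = 0 := hwp' 1
  have hw0 : w ≠ 0 := by
    rintro rfl
    exact hwn (Submodule.zero_mem _)
  obtain ⟨s, _, hss⟩ := C.ex_T hu'u' hww hwu' (1 : F)
  have hsH : s ∈ H := C.rat_T_mem hu' hw F₀.one_mem hu'u' hww hwu' hss
  have htv := (isE_tv hf).1 hts
  have htu' : (t : Matrix (Fin n) (Fin n) F) *ᵥ u' = u' + c • u := by
    rw [htv, hu'u]
    module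
  have htw : (t : Matrix (Fin n) (Fin n) F) *ᵥ w = w := by
    rw [htv, hwu]
    module
  have hσc : σ c = -c := by linear_combination hc
  have h1 := isE_of_isT hf ((hss.conj hf (C.iso ht)).swap hf)
  rw [htu', htw] at h1
  have h2 := isE_of_isT hf ((hss.inv hf hu'u' hww hwu').swap hf)
  have h3 := IsE.mul hf hww (by
    rw [hf.smul_left, hf.add_left, hf.smul_left, hu'w, huw]
    ring) (by rw [hf.smul_left, hu'w, mul_zero]) h1 h2
  have h4 : IsE f (t * s * t⁻¹ * s⁻¹) w ((-c) • u) (-c) := by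
    refine h3.congr ?_ ?_
    · simp only [map_one, map_neg, neg_neg]
      module
    · simp only [map_one, map_neg, neg_neg]
      rw [hf.smul_left, f_smul_right hf, f_add_right hf, f_smul_right hf, hu'u', hu'u, map_neg,
        map_one, hσc]
      ring
  have hgH : t * s * t⁻¹ * s⁻¹ ∈ H :=
    H.mul_mem (H.mul_mem (H.mul_mem ht hsH) (H.inv_mem ht)) (H.inv_mem hsH)
  obtain ⟨β, hβ⟩ := C.TC hA hw hww hw0 (by rw [hf.smul_left, huw, mul_zero]) (by
    rw [hf.smul_left, f_smul_right hf, huu, map_neg, hσc]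
    ring) hgH h4
  have hli : ∀ α β' : F, α • u + β' • w = 0 → α = 0 ∧ β' = 0 := by
    intro α β' h
    by_cases hβ' : β' = 0
    · rw [hβ', zero_smul, add_zero] at h
      rcases smul_eq_zero.mp h with h' | h'
      · exact ⟨h', hβ'⟩
      · exact absurd h' hu0
    · exfalso
      apply hwn
      rw [mem_span_pair']
      refine ⟨-(β'⁻¹ * α), 0, ?_⟩
      have e : β' • w = -(α • u) := by
        rw [eq_neg_iff_add_eq_zero, add_comm]
        exact h
      have e2 : w = β'⁻¹ • (β' • w) := by rw [smul_smul, inv_mul_cancel₀ hβ', one_smul]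
      rw [e2, e, zero_smul, add_zero, smul_neg, smul_smul, neg_smul]
  have h5 : Rat F₀ ((-c) • u + (-β) • w) := by
    have : (-c) • u + (-β) • w = (-c) • u - β • w := by module
    rw [this]
    exact hβ
  obtain ⟨h6, -⟩ := coeff_rat2 hu hw hli h5
  have := F₀.neg_mem h6
  rwa [neg_neg] at this

/-- (RE): under `A = F₀`, Siegel elements of `H` with rational centre are rational -/
theorem VC.RE (C : VC σ f F₀ G H)
    (hA : ∀ u v, TP F₀ f u v → ∀ a, a ∈ AA f σ H u v → a ∈ F₀)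
    {u y : Fin n → F} {c : F} (hu : Rat F₀ u) (huu : f u u = 0) (hu0 : u ≠ 0)
    (hyu : f y u = 0) (hc : c + σ c = - f y y)
    {t : GLn} (ht : t ∈ H) (hts : IsE f t u y c) :
    RatM F₀ (t : Matrix (Fin n) (Fin n) F) := by
  have hf := C.hf
  have huy : f u y = 0 := f_swap_zero hf hyu
  obtain ⟨β, hβ⟩ := C.TC hA hu huu hu0 hyu hc ht hts
  obtain ⟨y₀, hy₀⟩ : ∃ y₀ : Fin n → F, y₀ = y - β • u := ⟨_, rfl⟩
  rw [← hy₀] at hβ
  obtain ⟨c', hc'd⟩ : ∃ c' : F, c' = c + σ (-β) - -β := ⟨_, rfl⟩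
  have hts' : IsE f t u y₀ c' := by
    have := hts.shift hf (-β)
    refine this.congr ?_ hc'd.symm
    rw [hy₀, neg_smul, sub_eq_add_neg]
  have hy₀u : f y₀ u = 0 := by
    rw [hy₀, f_sub_left hf, hf.smul_left, hyu, huu]
    ring
  have hy₀y₀ : f y₀ y₀ = f y y := by
    rw [hy₀, f_sub_left hf, f_sub_right hf, f_sub_right hf, hf.smul_left, hf.smul_left,
      f_smul_right hf, f_smul_right hf, huu, hyu, huy]
    ring
  have hc' : c' + σ c' = - f y₀ y₀ := by
    rw [hy₀y₀, hc'd, map_sub, map_add, map_neg, map_neg, hf.involutive]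
    linear_combination hc
  obtain ⟨c₀, hc₀F, hc₀, t₀, ht₀H, ht₀s⟩ := C.ex_rat_E hu hβ huu hy₀u
  have h1 := IsE.mul hf huu (by rw [f_neg_left hf, hy₀u, neg_zero]) hy₀u
    (ht₀s.inv hf huu hy₀u hc₀) hts'
  have h2 : IsE f (t₀⁻¹ * t) u 0 (σ c₀ + c' + f y₀ y₀) := by
    refine h1.congr (by abel) ?_
    rw [f_neg_right hf]
    ring
  have h3 := C.LL hA hu huu hu0 (by
    rw [map_add, map_add, hf.involutive, f_self_fixed hf]
    linear_combination hc₀ + hc' + 2 * (0 : F)) (H.mul_mem (H.inv_mem ht₀H) ht) h2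
  have hc'F : c' ∈ F₀ := by
    have e : c' = (σ c₀ + c' + f y₀ y₀) - σ c₀ - f y₀ y₀ := by ring
    rw [e]
    exact F₀.sub_mem (F₀.sub_mem h3 (C.vb.stab _ hc₀F)) (C.vb.rat _ _ hβ hβ)
  exact hts'.ratV C.vb hu hβ hc'F

end Cfsg.Agent.Lib.Helper28.Su
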