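import Cfsg.Agent.Lib.Helper28.SuD

set_option autoImplicit false

open Cfsg

/-! Unitary subfield subgroups (stable subfield), case II part 2: stabilisers of rational
isotropic points. -/

namespace Cfsg.Agent.Lib.Helper28.Su

open Matrix Cfsg.Agent.Lib.Helper28.Sf Cfsg.Agent.Lib.Helper28.UForm
  Cfsg.Agent.Lib.Helper28.UPair Cfsg.Agent.Lib.Helper28.DecGen Cfsg.Agent.Lib.Helper28.Uo
  Cfsg.Agent.Lib.Helper28.Os

variable {n : ℕ} {F : Type*} [Field F] {σ : F ≃+* F} {f : (Fin n → F) → (Fin n → F) → F}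
  {F₀ : Subfield F} {G H : Subgroup (Matrix.GeneralLinearGroup (Fin n) F)}

local notation "GLn" => Matrix.GeneralLinearGroup (Fin n) F

theorem mul_mulVec (A B : Matrix.GeneralLinearGroup (Fin n) F) (x : Fin n → F) :
    ((A * B : GLn) : Matrix (Fin n) (Fin n) F) *ᵥ x =
      (A : Matrix (Fin n) (Fin n) F) *ᵥ ((B : Matrix (Fin n) (Fin n) F) *ᵥ x) := by
  rw [Units.val_mul, ← Matrix.mulVec_mulVec]

theorem sig_ne_zero (hf : Cfsg.Geo.IsUnitaryForm σ f) {a : F} (ha : a ≠ 0) : σ a ≠ 0 := by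
  intro h
  apply ha
  have := congrArg σ h
  rwa [hf.involutive, map_zero] at this

/-- (GP0): under `A = F₀`, an element of `H` fixing a rational isotropic point lies in the
subfield group. -/
theorem VC.GP0 (C : VC σ f F₀ G H)
    (hA : ∀ u v, TP F₀ f u v → ∀ a, a ∈ AA f σ H u v → a ∈ F₀)
    {k : GLn} (hk : k ∈ H) {u : Fin n → F} (hu : Rat F₀ u) (huu : f u u = 0) (hu0 : u ≠ 0)
    {lam : F} (hku : (k : Matrix (Fin n) (Fin n) F) *ᵥ u = lam • u) :
    k ∈ Cfsg.Geo.subfieldSubgroup F₀ (1 : GLn) := by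
  have hf := C.hf
  have hn := C.hn
  have hkiso := C.iso hk
  have hlam : lam ≠ 0 := by
    rintro rfl
    rw [zero_smul] at hku
    exact hu0 (Cfsg.Agent.Lib.Helper28.SubF.gl_inj k hku)
  have hslam : σ lam ≠ 0 := sig_ne_zero hf hlam
  -- step 1
  have step1 : ∀ v : Fin n → F, Rat F₀ v → f v u = 0 →
      ∃ β : F, Rat F₀ (σ lam • ((k : Matrix (Fin n) (Fin n) F) *ᵥ v) - β • u) := by
    intro v hv hvu
    obtain ⟨c₀, hc₀F, hc₀, tv, htvH, htvs⟩ := C.ex_rat_E hu hv huu hvu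
    have h1 := htvs.conj hf hkiso
    rw [hku] at h1
    have h2 := h1.smul_center hf
    have h3' : f ((k : Matrix (Fin n) (Fin n) F) *ᵥ v) u = 0 := by
      have e := hkiso v u
      rw [hku, f_smul_right hf, hvu] at e
      rcases mul_eq_zero.mp e with h | h
      · exact absurd h hslam
      · exact h
    have h3 : f (σ lam • ((k : Matrix (Fin n) (Fin n) F) *ᵥ v)) u = 0 := by
      rw [hf.smul_left, h3', mul_zero]
    refine C.TC hA hu huu hu0 h3 ?_ (H.mul_mem (H.mul_mem hk htvH) (H.inv_mem hk)) h2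
    rw [hf.smul_left, f_smul_right hf, hf.involutive, hkiso, map_mul, map_mul, hf.involutive]
    linear_combination (lam * σ lam) * hc₀
  obtain ⟨u', hu', hu'u', huu'⟩ := C.vb.ex_partner0 hu huu hu0
  have hu'u : f u' u = 1 := f_swap_one hf huu'
  obtain ⟨x, hx⟩ : ∃ x : Fin n → F, x = σ lam • ((k : Matrix (Fin n) (Fin n) F) *ᵥ u') :=
    ⟨_, rfl⟩
  have hux : f u x = 1 := by
    have e := hkiso u u'
    rw [hku, hf.smul_left, huu'] at e
    rw [hx, f_smul_right hf, hf.involutive]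
    exact e
  have hxu : f x u = 1 := f_swap_one hf hux
  have hxx : f x x = 0 := by
    rw [hx, hf.smul_left, f_smul_right hf, hkiso, hu'u']
    ring
  obtain ⟨γ, hγ⟩ : ∃ γ : F, γ = f x u' := ⟨_, rfl⟩
  have hu'x : f u' x = σ γ := by rw [hγ]; exact hf.herm u' x
  obtain ⟨z, hz⟩ : ∃ z : Fin n → F, z = x - u' - γ • u := ⟨_, rfl⟩
  have hzu : f z u = 0 := by
    rw [hz, f_sub_left hf, f_sub_left hf, hf.smul_left, hu'u, huu, hxu]
    ring
  have hzu' : f z u' = 0 := by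
    rw [hz, f_sub_left hf, f_sub_left hf, hf.smul_left, hu'u', huu', ← hγ]
    ring
  have huz : f u z = 0 := f_swap_zero hf hzu
  have hu'z : f u' z = 0 := f_swap_zero hf hzu'
  have hzz : f z z = -(γ + σ γ) := by
    rw [hz]
    simp only [f_sub_left hf, f_sub_right hf, hf.smul_left, f_smul_right hf, hxx, hu'u', huu,
      hux, hxu, huu', hu'u, hu'x, ← hγ]
    ring
  obtain ⟨s, hsG, hss⟩ := C.ex_E (c := γ) huu hzu (by rw [hzz]; ring)
  have hsiso := ((C.hG s).1 hsG).1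
  have hsu' : (s : Matrix (Fin n) (Fin n) F) *ᵥ u' = x := by
    rw [hss u']
    unfold Em
    rw [hu'u, hu'z, hz]
    module
  have hsu : (s : Matrix (Fin n) (Fin n) F) *ᵥ u = u := by
    rw [hss u]
    unfold Em
    rw [huu, huz]
    module
  have hsiu : ((s⁻¹ : GLn) : Matrix (Fin n) (Fin n) F) *ᵥ u = u := by
    conv_lhs => rw [← hsu]
    exact gl_cancel s u
  obtain ⟨k', hk'⟩ : ∃ k' : GLn, k' = s⁻¹ * k := ⟨_, rfl⟩
  have hk'G : k' ∈ G := by
    rw [hk']
    exact G.mul_mem (G.inv_mem hsG) (C.le hk)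
  have hk'iso := ((C.hG k').1 hk'G).1
  have hk'u : (k' : Matrix (Fin n) (Fin n) F) *ᵥ u = lam • u := by
    rw [hk', mul_mulVec, hku, Matrix.mulVec_smul, hsiu]
  have hk'u' : σ lam • ((k' : Matrix (Fin n) (Fin n) F) *ᵥ u') = u' := by
    rw [hk', mul_mulVec, ← Matrix.mulVec_smul, ← hx, ← hsu', gl_cancel]
  have hsi := hss.inv hf huu hzu (by rw [hzz]; ring)
  -- step 3
  have step3 : ∀ v : Fin n → F, Rat F₀ v → f v u = 0 → f v u' = 0 →
      Rat F₀ (σ lam • ((k' : Matrix (Fin n) (Fin n) F) *ᵥ v)) := by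
    intro v hv hvu hvu'
    obtain ⟨β, hβ⟩ := step1 v hv hvu
    obtain ⟨v₀, hv₀⟩ : ∃ v₀ : Fin n → F,
        v₀ = σ lam • ((k : Matrix (Fin n) (Fin n) F) *ᵥ v) - β • u := ⟨_, rfl⟩
    rw [← hv₀] at hβ
    have e1 : σ lam • ((k : Matrix (Fin n) (Fin n) F) *ᵥ v) = v₀ + β • u := by rw [hv₀]; abel
    have hv₀u : f v₀ u = 0 := by
      have e := hkiso v u
      rw [hku, f_smul_right hf, hvu] at e
      rw [hv₀, f_sub_left hf, hf.smul_left, hf.smul_left, huu]
      rcases mul_eq_zero.mp e with h | h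
      · exact absurd h hslam
      · rw [h]; ring
    have e2 : σ lam • ((k' : Matrix (Fin n) (Fin n) F) *ᵥ v) = v₀ + (β + f v₀ z) • u := by
      rw [hk', mul_mulVec, ← Matrix.mulVec_smul, e1, Matrix.mulVec_add,
        Matrix.mulVec_smul, hsiu, hsi v₀]
      unfold Em
      rw [hv₀u, f_neg_right hf]
      module
    have e3 : f (σ lam • ((k' : Matrix (Fin n) (Fin n) F) *ᵥ v)) u' = 0 := by
      conv_lhs => rw [← hk'u']
      rw [hf.smul_left, f_smul_right hf, hk'iso, hvu']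
      ring
    rw [e2, hf.add_left, hf.smul_left, huu', mul_one] at e3
    have e4 : β + f v₀ z = -(f v₀ u') := by linear_combination e3
    rw [e2, e4]
    exact hβ.add (Rat.smul (F₀.neg_mem (C.vb.rat _ _ hβ hu')) hu)
  -- step 4
  have hfam : ∀ j, Rat F₀ (![u, u'] j) := fun j => by fin_cases j; exact hu; exact hu'
  obtain ⟨v, hv, hvv, hvp, hvp', hvn⟩ := C.vb.ex_rs' ![u, u'] hfam (by omega)
  obtain ⟨v', hv', hv'v', hv'p, hv'p', hvv', hv'v⟩ :=
    C.vb.ex_partner' ![u, u'] hfam hv hvv hvp hvn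
  have step4 : lam * σ lam ∈ F₀ := by
    have h1 := C.vb.rat _ _ (step3 v hv (hvp' 0) (hvp' 1)) (step3 v' hv' (hv'p' 0) (hv'p' 1))
    rw [hf.smul_left, f_smul_right hf, hk'iso, hvv', hf.involutive] at h1
    have e : lam * σ lam = σ lam * (lam * 1) := by ring
    rw [e]
    exact h1
  -- step 5
  have step5 : ∀ y : Fin n → F, Rat F₀ y →
      Rat F₀ (σ lam • ((k' : Matrix (Fin n) (Fin n) F) *ᵥ y)) := by
    intro y hy
    obtain ⟨hp1, hp2⟩ := prj_perp hf huu hu'u' huu' y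
    have h1 := step3 _ (prj_rat C.vb hu hu' hy) hp1 hp2
    have e : σ lam • ((k' : Matrix (Fin n) (Fin n) F) *ᵥ y) =
        σ lam • ((k' : Matrix (Fin n) (Fin n) F) *ᵥ (prj f u u' y)) +
          (f y u' * (lam * σ lam)) • u + f y u • u' := by
      conv_lhs => rw [prj_decomp (f := f) u u' y]
      rw [Matrix.mulVec_add, Matrix.mulVec_add, Matrix.mulVec_smul, Matrix.mulVec_smul, hk'u]
      have e3 : f y u • u' = f y u • (σ lam • ((k' : Matrix (Fin n) (Fin n) F) *ᵥ u')) := by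
        rw [hk'u']
      rw [e3]
      module
    rw [e]
    exact (h1.add (Rat.smul (F₀.mul_mem (C.vb.rat _ _ hy hu') step4) hu)).add
      (Rat.smul (C.vb.rat _ _ hy hu) hu')
  have hk'sub : k' ∈ Cfsg.Geo.subfieldSubgroup F₀ (1 : GLn) := by
    apply mem_sub_one_of_rat (c := (σ lam)⁻¹) (inv_ne_zero hslam)
    intro y hy
    rw [inv_inv]
    exact step5 y hy
  have hk'H : k' ∈ H := C.sub ⟨hk'sub, hk'G⟩
  -- step 6
  have hs_eq : s = k * k'⁻¹ := by rw [hk']; group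
  have hsH : s ∈ H := by
    rw [hs_eq]
    exact H.mul_mem hk (H.inv_mem hk'H)
  have hssub := ratM_mem_sub (C.RE hA hu huu hu0 hzu (by rw [hzz]; ring) hsH hss)
  have : k = s * k' := by rw [hk']; group
  rw [this]
  exact Subgroup.mul_mem _ hssub hk'sub

end Cfsg.Agent.Lib.Helper28.Su
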