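import Cfsg.Agent.Lib.Helper28.SuE

set_option autoImplicit false

open Cfsg

/-! Unitary subfield subgroups (stable subfield), case II part 3: transitivity and the criterion
(NR). -/

namespace Cfsg.Agent.Lib.Helper28.Su

open Matrix Cfsg.Agent.Lib.Helper28.Sf Cfsg.Agent.Lib.Helper28.UForm
  Cfsg.Agent.Lib.Helper28.UPair Cfsg.Agent.Lib.Helper28.DecGen Cfsg.Agent.Lib.Helper28.Uo
  Cfsg.Agent.Lib.Helper28.Os

variable {n : ℕ} {F : Type*} [Field F] {σ : F ≃+* F} {f : (Fin n → F) → (Fin n → F) → F}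
  {F₀ : Subfield F} {G H : Subgroup (Matrix.GeneralLinearGroup (Fin n) F)}

local notation "GLn" => Matrix.GeneralLinearGroup (Fin n) F

/-- rational transvections lie in `H` and in the subfield group -/
theorem VC.rat_tv (C : VC σ f F₀ G H) {a : Fin n → F} (ha : Rat F₀ a) (haa : f a a = 0) {d : F}
    (hd : d ∈ F₀) (hds : d + σ d = 0) :
    ∃ m ∈ H, m ∈ Cfsg.Geo.subfieldSubgroup F₀ (1 : GLn) ∧ IsE f m a 0 d ∧
      ∀ x, (m : Matrix (Fin n) (Fin n) F) *ᵥ x = x + (d * f x a) • a := by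
  have hf := C.hf
  have hcc : d + σ d = - f (0 : Fin n → F) 0 := by rw [f_zero_left hf, neg_zero, hds]
  obtain ⟨m, _, hms⟩ := C.ex_E haa (f_zero_left hf a) hcc
  refine ⟨m, C.rat_E_mem ha Rat.zero hd haa (f_zero_left hf a) hcc hms,
    ratM_mem_sub (hms.ratV C.vb ha Rat.zero hd), hms, (isE_tv hf).1 hms⟩

/-- transitivity, non-orthogonal case -/
theorem VC.trans1 (C : VC σ f F₀ G H) {u w : Fin n → F} (hu : Rat F₀ u) (hw : Rat F₀ w)
    (huu : f u u = 0) (hww : f w w = 0) (hwu : f w u ≠ 0) :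
    ∃ m ∈ H, m ∈ Cfsg.Geo.subfieldSubgroup F₀ (1 : GLn) ∧ ∃ κ : F, κ ≠ 0 ∧
      (m : Matrix (Fin n) (Fin n) F) *ᵥ w = κ • u := by
  have hf := C.hf
  obtain ⟨θ, hθF, hθ0, hθ⟩ := C.vb.theta
  have hσθ : σ θ = -θ := by linear_combination hθ
  obtain ⟨φ, hφ⟩ : ∃ φ : F, φ = f w u := ⟨_, rfl⟩
  rw [← hφ] at hwu
  have hφF : φ ∈ F₀ := by rw [hφ]; exact C.vb.rat _ _ hw hu
  have huw : f u w = σ φ := by rw [hφ]; exact hf.herm u w
  obtain ⟨lam, hlam⟩ : ∃ lam : F, lam = θ / φ := ⟨_, rfl⟩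
  have hlamF : lam ∈ F₀ := by rw [hlam]; exact F₀.div_mem hθF hφF
  have hσφ : σ φ ≠ 0 := sig_ne_zero hf hwu
  obtain ⟨a, ha⟩ : ∃ a : Fin n → F, a = u - lam • w := ⟨_, rfl⟩
  have har : Rat F₀ a := by rw [ha]; exact hu.sub (Rat.smul hlamF hw)
  have haa : f a a = 0 := by
    rw [ha, f_sub_left hf, f_sub_right hf, f_sub_right hf, hf.smul_left, hf.smul_left,
      f_smul_right hf, f_smul_right hf, huu, hww, huw, ← hφ, hlam, map_div₀, hσθ]
    field_simp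
    ring
  have hθi : θ⁻¹ + σ θ⁻¹ = 0 := by
    rw [map_inv₀, hσθ]
    field_simp
    ring
  obtain ⟨m, hmH, hms, -, hm⟩ := C.rat_tv har haa (F₀.inv_mem hθF) hθi
  refine ⟨m, hmH, hms, θ⁻¹ * φ, mul_ne_zero (inv_ne_zero hθ0) hwu, ?_⟩
  have hwa : f w a = φ := by
    rw [ha, f_sub_right hf, f_smul_right hf, hww, ← hφ]
    ring
  rw [hm, hwa, ha, hlam]
  have e : (θ⁻¹ * φ) • (u - (θ / φ) • w) = (θ⁻¹ * φ) • u - (θ⁻¹ * φ * (θ / φ)) • w := by
    module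
  have e2 : θ⁻¹ * φ * (θ / φ) = 1 := by field_simp
  rw [e, e2]
  module

/-- transitivity of `H ∩ sub` on rational isotropic points -/
theorem VC.trans (C : VC σ f F₀ G H) {u w : Fin n → F} (hu : Rat F₀ u) (hw : Rat F₀ w)
    (huu : f u u = 0) (hww : f w w = 0) (hu0 : u ≠ 0) (hw0 : w ≠ 0) :
    ∃ m ∈ H, m ∈ Cfsg.Geo.subfieldSubgroup F₀ (1 : GLn) ∧ ∃ κ : F, κ ≠ 0 ∧
      (m : Matrix (Fin n) (Fin n) F) *ᵥ w = κ • u := by
  have hf := C.hf
  by_cases h1 : f w u = 0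
  swap
  · exact C.trans1 hu hw huu hww h1
  obtain ⟨z₁, hz₁, hz₁z₁, huz₁⟩ := C.vb.ex_partner0 hu huu hu0
  obtain ⟨z₂, hz₂, hz₂z₂, hwz₂⟩ := C.vb.ex_partner0 hw hww hw0
  obtain ⟨z, hz, hzz, hwz, hzu⟩ : ∃ z, Rat F₀ z ∧ f z z = 0 ∧ f w z ≠ 0 ∧ f z u ≠ 0 := by
    by_cases h2 : f w z₁ = 0
    · by_cases h3 : f u z₂ = 0
      · obtain ⟨θ, hθF, hθ0, hθ⟩ := C.vb.theta
        have hσθ : σ θ = -θ := by linear_combination hθ
        by_cases h4 : f z₂ z₁ = 0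
        · refine ⟨z₁ + z₂, hz₁.add hz₂, ?_, ?_, ?_⟩
          · rw [hf.add_left, f_add_right hf, f_add_right hf, hz₁z₁, hz₂z₂, h4,
              f_swap_zero hf h4]
            ring
          · rw [f_add_right hf, h2, hwz₂]
            simp
          · apply f_swap_ne hf
            rw [f_add_right hf, huz₁, h3]
            simp
        · obtain ⟨μ, hμ⟩ : ∃ μ : F, μ = θ / f z₂ z₁ := ⟨_, rfl⟩
          have hμF : μ ∈ F₀ := by
            rw [hμ]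
            exact F₀.div_mem hθF (C.vb.rat _ _ hz₂ hz₁)
          have hμ0 : μ ≠ 0 := by
            rw [hμ]
            exact div_ne_zero hθ0 h4
          have h5 : f z₁ z₂ = σ (f z₂ z₁) := hf.herm _ _
          have h6 : σ (f z₂ z₁) ≠ 0 := sig_ne_zero hf h4
          refine ⟨z₁ + μ • z₂, hz₁.add (Rat.smul hμF hz₂), ?_, ?_, ?_⟩
          · rw [hf.add_left, f_add_right hf, f_add_right hf, hf.smul_left, hf.smul_left,
              f_smul_right hf, f_smul_right hf, hz₁z₁, hz₂z₂, h5, hμ, map_div₀, hσθ]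
            field_simp
            ring
          · rw [f_add_right hf, f_smul_right hf, h2, hwz₂]
            simpa using sig_ne_zero hf hμ0
          · apply f_swap_ne hf
            rw [f_add_right hf, f_smul_right hf, huz₁, h3]
            simp
      · exact ⟨z₂, hz₂, hz₂z₂, by rw [hwz₂]; exact one_ne_zero, f_swap_ne hf h3⟩
    · exact ⟨z₁, hz₁, hz₁z₁, h2, by rw [f_swap_one hf huz₁]; exact one_ne_zero⟩
  obtain ⟨m₁, hm₁H, hm₁s, κ₁, hκ₁, hm₁⟩ := C.trans1 hz hw hzz hww hwz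
  obtain ⟨m₂, hm₂H, hm₂s, κ₂, hκ₂, hm₂⟩ := C.trans1 hu hz huu hzz hzu
  refine ⟨m₂ * m₁, H.mul_mem hm₂H hm₁H, Subgroup.mul_mem _ hm₂s hm₁s, κ₁ * κ₂,
    mul_ne_zero hκ₁ hκ₂, ?_⟩
  rw [mul_mulVec, hm₁, Matrix.mulVec_smul, hm₂, smul_smul]

/-- (E1): an element of `H` mapping a rational isotropic point to a rational point lies in the
subfield group -/
theorem VC.mem_sub_of_map (C : VC σ f F₀ G H)
    (hA : ∀ u v, TP F₀ f u v → ∀ a, a ∈ AA f σ H u v → a ∈ F₀)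
    {h : GLn} (hh : h ∈ H) {u : Fin n → F} (hu : Rat F₀ u) (huu : f u u = 0) (hu0 : u ≠ 0)
    {c : F} {w₀ : Fin n → F} (hw₀ : Rat F₀ w₀)
    (e : (h : Matrix (Fin n) (Fin n) F) *ᵥ u = c • w₀) :
    h ∈ Cfsg.Geo.subfieldSubgroup F₀ (1 : GLn) := by
  have hf := C.hf
  have hne : (h : Matrix (Fin n) (Fin n) F) *ᵥ u ≠ 0 := by
    intro h0
    exact hu0 (Cfsg.Agent.Lib.Helper28.SubF.gl_inj h h0)
  have hw₀0 : w₀ ≠ 0 := by
    rintro rfl
    rw [smul_zero] at e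
    exact hne e
  have hc0 : c ≠ 0 := by
    rintro rfl
    rw [zero_smul] at e
    exact hne e
  have hw₀w₀ : f w₀ w₀ = 0 := by
    have h1 := C.iso hh u u
    rw [e, hf.smul_left, f_smul_right hf, huu] at h1
    rcases mul_eq_zero.mp h1 with h | h
    · exact absurd h hc0
    · rcases mul_eq_zero.mp h with h' | h'
      · exact absurd h' (sig_ne_zero hf hc0)
      · exact h'
  obtain ⟨m, hm, hms, κ, hκ, hmw⟩ := C.trans hu hw₀ huu hw₀w₀ hu0 hw₀0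
  have h1 : ((m * h : GLn) : Matrix (Fin n) (Fin n) F) *ᵥ u = (c * κ) • u := by
    rw [mul_mulVec, e, Matrix.mulVec_smul, hmw, smul_smul]
  have h2 := C.GP0 hA (H.mul_mem hm hh) hu huu hu0 h1
  have h3 : h = m⁻¹ * (m * h) := by group
  rw [h3]
  exact Subgroup.mul_mem _ (Subgroup.inv_mem _ hms) h2

/-- (NR): under `A = F₀`, if the image of a rational isotropic point under `h ∈ H` is
orthogonal to a rational isotropic point then `h` lies in the subfield group -/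
theorem VC.NR [Finite F] (C : VC σ f F₀ G H)
    (hA : ∀ u v, TP F₀ f u v → ∀ a, a ∈ AA f σ H u v → a ∈ F₀)
    {h : GLn} (hh : h ∈ H) {u x : Fin n → F} (hu : Rat F₀ u) (huu : f u u = 0) (hu0 : u ≠ 0)
    (hx : Rat F₀ x) (hxx : f x x = 0) (hx0 : x ≠ 0)
    (hxw : f x ((h : Matrix (Fin n) (Fin n) F) *ᵥ u) = 0) :
    h ∈ Cfsg.Geo.subfieldSubgroup F₀ (1 : GLn) := by
  have hf := C.hf
  have hn := C.hn
  obtain ⟨w, hw⟩ : ∃ w, w = (h : Matrix (Fin n) (Fin n) F) *ᵥ u := ⟨_, rfl⟩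
  rw [← hw] at hxw
  have hw0 : w ≠ 0 := by
    rw [hw]
    intro h0
    exact hu0 (Cfsg.Agent.Lib.Helper28.SubF.gl_inj h h0)
  have hww : f w w = 0 := by rw [hw, C.iso hh, huu]
  obtain ⟨θ, hθF, hθ0, hθ⟩ := C.vb.theta
  obtain ⟨τ, hτH, -, hτs, -⟩ := C.rat_tv hu huu hθF hθ
  have hts := hτs.conj hf (C.iso hh)
  rw [← hw, Matrix.mulVec_zero] at hts
  obtain ⟨t, ht⟩ : ∃ t, t = h * τ * h⁻¹ := ⟨_, rfl⟩
  rw [← ht] at hts
  have htH : t ∈ H := by
    rw [ht]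
    exact H.mul_mem (H.mul_mem hh hτH) (H.inv_mem hh)
  have htv := (isE_tv hf).1 hts
  have htx : (t : Matrix (Fin n) (Fin n) F) *ᵥ x = (1 : F) • x := by
    rw [htv, hxw]
    module
  have htsub := C.GP0 hA htH hx hxx hx0 htx
  have hr := Cfsg.Agent.Lib.Helper28.Ss.unip_rat
    (hts.sq hf hww (f_zero_left hf w) (f_zero_left hf 0)) htsub
  obtain ⟨x', hx', -, hx'w⟩ := C.vb.ex_rs_pair (by omega) hw0
  have h1 := (hr x' hx').sub hx'
  have e1 : (t : Matrix (Fin n) (Fin n) F) *ᵥ x' - x' = (θ * f x' w) • w := by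
    rw [htv]
    module
  rw [e1] at h1
  have e2 : (h : Matrix (Fin n) (Fin n) F) *ᵥ u = (θ * f x' w)⁻¹ • ((θ * f x' w) • w) := by
    rw [smul_smul, inv_mul_cancel₀ (mul_ne_zero hθ0 hx'w), one_smul, hw]
  exact C.mem_sub_of_map hA hh hu huu hu0 h1 e2

end Cfsg.Agent.Lib.Helper28.Su
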