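import Cfsg.Agent.Lib.Helper28.SuF
import Cfsg.Agent.Lib.Helper28.OsK

set_option autoImplicit false

open Cfsg

/-! Unitary subfield subgroups (stable subfield), case II part 4: the `SL₂`-section on a
degenerate three-space `⟨u₁, u₂, w⟩`. -/

namespace Cfsg.Agent.Lib.Helper28.Su

open Matrix Cfsg.Agent.Lib.Helper28.Sf Cfsg.Agent.Lib.Helper28.UForm
  Cfsg.Agent.Lib.Helper28.UPair Cfsg.Agent.Lib.Helper28.DecGen Cfsg.Agent.Lib.Helper28.Uo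
  Cfsg.Agent.Lib.Helper28.Os

variable {n : ℕ} {F : Type*} [Field F] {σ : F ≃+* F} {f : (Fin n → F) → (Fin n → F) → F}
  {F₀ : Subfield F} {G H : Subgroup (Matrix.GeneralLinearGroup (Fin n) F)}

local notation "GLn" => Matrix.GeneralLinearGroup (Fin n) F

/-- three independent rational vectors: rational coefficients -/
theorem coeff_rat3 {a b c : Fin n → F} (ha : Rat F₀ a) (hb : Rat F₀ b) (hc : Rat F₀ c)
    (hli : ∀ α β γ : F, α • a + β • b + γ • c = 0 → α = 0 ∧ β = 0 ∧ γ = 0) {α β γ : F}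
    (h : Rat F₀ (α • a + β • b + γ • c)) : α ∈ F₀ ∧ β ∈ F₀ ∧ γ ∈ F₀ := by
  obtain ⟨φ, hφ⟩ := exists_retr F₀
  have h1 := ratl_of_rat hφ h
  rw [ratl_add, ratl_add, ratl_smul_of_rat φ ha, ratl_smul_of_rat φ hb,
    ratl_smul_of_rat φ hc] at h1
  have h2 : (((φ α : F₀) : F) - α) • a + (((φ β : F₀) : F) - β) • b +
      (((φ γ : F₀) : F) - γ) • c = 0 := by
    rw [sub_smul, sub_smul, sub_smul]
    linear_combination (exp := 1) h1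
  obtain ⟨e1, e2, e3⟩ := hli _ _ _ h2
  refine ⟨?_, ?_, ?_⟩
  · rw [← sub_eq_zero.mp e1]
    exact (φ α).2
  · rw [← sub_eq_zero.mp e2]
    exact (φ β).2
  · rw [← sub_eq_zero.mp e3]
    exact (φ γ).2

/-- `k` fixes `⟨u₁, u₂, w⟩^⊥` pointwise -/
def PerpFix3 (f : (Fin n → F) → (Fin n → F) → F) (u₁ u₂ w : Fin n → F) (k : GLn) : Prop :=
  ∀ x, f x u₁ = 0 → f x u₂ = 0 → f x w = 0 → (k : Matrix (Fin n) (Fin n) F) *ᵥ x = x

/-- the image in `SL₂` of the part of `H` acting on `⟨u₁, u₂, w⟩` modulo its radical `⟨x₀⟩` -/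
def KQ (f : (Fin n → F) → (Fin n → F) → F) (H : Subgroup GLn) (u₁ u₂ w x₀ : Fin n → F)
    (hx : f x₀ u₁ = 0 ∧ f x₀ u₂ = 0 ∧ f x₀ w = 0) :
    Subgroup (Matrix.SpecialLinearGroup (Fin 2) F) where
  carrier := {A | ∃ k ∈ H, PerpFix3 f u₁ u₂ w k ∧
    (∃ ξ : F, (k : Matrix (Fin n) (Fin n) F) *ᵥ u₁ = A.1 0 0 • u₁ + A.1 1 0 • w + ξ • x₀) ∧
    (∃ ξ : F, (k : Matrix (Fin n) (Fin n) F) *ᵥ w = A.1 0 1 • u₁ + A.1 1 1 • w + ξ • x₀)}
  one_mem' := by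
    refine ⟨1, H.one_mem, fun x _ _ _ => ?_, ⟨0, ?_⟩, ⟨0, ?_⟩⟩
    · simp
    · simp
    · simp
  mul_mem' := by
    rintro A B ⟨k, hk, hkp, ⟨ξ₁, hku⟩, ⟨ξ₂, hkw⟩⟩ ⟨l, hl, hlp, ⟨η₁, hlu⟩, ⟨η₂, hlw⟩⟩
    have hkx : (k : Matrix (Fin n) (Fin n) F) *ᵥ x₀ = x₀ := hkp x₀ hx.1 hx.2.1 hx.2.2
    refine ⟨k * l, H.mul_mem hk hl, ?_, ⟨B.1 0 0 * ξ₁ + B.1 1 0 * ξ₂ + η₁, ?_⟩,
      ⟨B.1 0 1 * ξ₁ + B.1 1 1 * ξ₂ + η₂, ?_⟩⟩
    · intro x h1 h2 h3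
      rw [mul_mulVec, hlp x h1 h2 h3, hkp x h1 h2 h3]
    · rw [mul_mulVec, hlu, Matrix.mulVec_add, Matrix.mulVec_add, Matrix.mulVec_smul,
        Matrix.mulVec_smul, Matrix.mulVec_smul, hku, hkw, hkx,
        Matrix.SpecialLinearGroup.coe_mul]
      simp only [Matrix.mul_apply, Fin.sum_univ_two]
      module
    · rw [mul_mulVec, hlw, Matrix.mulVec_add, Matrix.mulVec_add, Matrix.mulVec_smul,
        Matrix.mulVec_smul, Matrix.mulVec_smul, hku, hkw, hkx,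
        Matrix.SpecialLinearGroup.coe_mul]
      simp only [Matrix.mul_apply, Fin.sum_univ_two]
      module
  inv_mem' := by
    rintro A ⟨k, hk, hkp, ⟨ξ₁, hku⟩, ⟨ξ₂, hkw⟩⟩
    have hkx : (k : Matrix (Fin n) (Fin n) F) *ᵥ x₀ = x₀ := hkp x₀ hx.1 hx.2.1 hx.2.2
    have hdet := A.2
    rw [Matrix.det_fin_two] at hdet
    have hiu : ((k⁻¹ : GLn) : Matrix (Fin n) (Fin n) F) *ᵥ u₁ =
        A.1 1 1 • u₁ + (-(A.1 1 0)) • w + (-(A.1 1 1 * ξ₁) + A.1 1 0 * ξ₂) • x₀ := by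
      have h1 : (k : Matrix (Fin n) (Fin n) F) *ᵥ
          (A.1 1 1 • u₁ + (-(A.1 1 0)) • w + (-(A.1 1 1 * ξ₁) + A.1 1 0 * ξ₂) • x₀) = u₁ := by
        rw [Matrix.mulVec_add, Matrix.mulVec_add, Matrix.mulVec_smul, Matrix.mulVec_smul,
          Matrix.mulVec_smul, hku, hkw, hkx]
        have e : A.1 1 1 • (A.1 0 0 • u₁ + A.1 1 0 • w + ξ₁ • x₀) +
            (-(A.1 1 0)) • (A.1 0 1 • u₁ + A.1 1 1 • w + ξ₂ • x₀) +
            (-(A.1 1 1 * ξ₁) + A.1 1 0 * ξ₂) • x₀ =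
            (A.1 0 0 * A.1 1 1 - A.1 0 1 * A.1 1 0) • u₁ := by module
        rw [e, hdet, one_smul]
      rw [← h1, gl_cancel, h1]
    have hiw : ((k⁻¹ : GLn) : Matrix (Fin n) (Fin n) F) *ᵥ w =
        (-(A.1 0 1)) • u₁ + A.1 0 0 • w + (A.1 0 1 * ξ₁ - A.1 0 0 * ξ₂) • x₀ := by
      have h1 : (k : Matrix (Fin n) (Fin n) F) *ᵥ
          ((-(A.1 0 1)) • u₁ + A.1 0 0 • w + (A.1 0 1 * ξ₁ - A.1 0 0 * ξ₂) • x₀) = w := by
        rw [Matrix.mulVec_add, Matrix.mulVec_add, Matrix.mulVec_smul, Matrix.mulVec_smul,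
          Matrix.mulVec_smul, hku, hkw, hkx]
        have e : (-(A.1 0 1)) • (A.1 0 0 • u₁ + A.1 1 0 • w + ξ₁ • x₀) +
            A.1 0 0 • (A.1 0 1 • u₁ + A.1 1 1 • w + ξ₂ • x₀) +
            (A.1 0 1 * ξ₁ - A.1 0 0 * ξ₂) • x₀ =
            (A.1 0 0 * A.1 1 1 - A.1 0 1 * A.1 1 0) • w := by module
        rw [e, hdet, one_smul]
      rw [← h1, gl_cancel, h1]
    refine ⟨k⁻¹, H.inv_mem hk, ?_, ⟨-(A.1 1 1 * ξ₁) + A.1 1 0 * ξ₂, ?_⟩,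
      ⟨A.1 0 1 * ξ₁ - A.1 0 0 * ξ₂, ?_⟩⟩
    · intro x h1 h2 h3
      conv_lhs => rw [← hkp x h1 h2 h3]
      exact gl_cancel k x
    · rw [hiu, Matrix.SpecialLinearGroup.coe_inv, Matrix.adjugate_fin_two]
      simp
    · rw [hiw, Matrix.SpecialLinearGroup.coe_inv, Matrix.adjugate_fin_two]
      simp

/-- transvections with centre `u₁` give upper unitriangular elements -/
theorem KQ_U1 (hf : Cfsg.Geo.IsUnitaryForm σ f) {u₁ u₂ w x₀ : Fin n → F}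
    (hx : f x₀ u₁ = 0 ∧ f x₀ u₂ = 0 ∧ f x₀ w = 0) (h11 : f u₁ u₁ = 0) {t : GLn}
    (ht : t ∈ H) {d : F} (hts : IsE f t u₁ 0 d) : Ubar (d * f w u₁) ∈ KQ f H u₁ u₂ w x₀ hx := by
  have htv := (isE_tv hf).1 hts
  refine ⟨t, ht, ?_, ⟨0, ?_⟩, ⟨0, ?_⟩⟩
  · intro x hxu _ _
    rw [htv, hxu]
    module
  · rw [htv, h11]
    simp [Ubar]
  · rw [htv]
    simp [Ubar]
    module

/-- transvections with centre `u₂` give upper unitriangular elements -/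
theorem KQ_U2 (hf : Cfsg.Geo.IsUnitaryForm σ f) {u₁ u₂ w x₀ : Fin n → F}
    (hx : f x₀ u₁ = 0 ∧ f x₀ u₂ = 0 ∧ f x₀ w = 0) (h12 : f u₁ u₂ = 0)
    (hx₀ : x₀ = f u₂ w • u₁ - f u₁ w • u₂) (h1w : f u₁ w ≠ 0) {t : GLn}
    (ht : t ∈ H) {d : F} (hts : IsE f t u₂ 0 d) :
    Ubar (d * f w u₂ * f u₂ w / f u₁ w) ∈ KQ f H u₁ u₂ w x₀ hx := by
  have htv := (isE_tv hf).1 hts
  have e2 : u₂ = (f u₂ w / f u₁ w) • u₁ - (f u₁ w)⁻¹ • x₀ := by
    rw [hx₀, smul_sub, smul_smul, smul_smul, inv_mul_cancel₀ h1w, one_smul]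
    have : (f u₁ w)⁻¹ * f u₂ w = f u₂ w / f u₁ w := by field_simp
    rw [this]
    abel
  refine ⟨t, ht, ?_, ⟨0, ?_⟩, ⟨-(d * f w u₂ / f u₁ w), ?_⟩⟩
  · intro x _ hxu _
    rw [htv, hxu]
    module
  · rw [htv, h12]
    simp [Ubar]
  · rw [htv]
    have key : ∀ (a b c : F), b ≠ 0 → ∀ (y : Fin n → F), y = a • u₁ - b • u₂ →
        c • u₂ = (c * a / b) • u₁ + (-(c / b)) • y := by
      intro a b c hb y hy
      rw [hy, smul_sub, smul_smul, smul_smul]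
      have e1 : -(c / b) * a = -(c * a / b) := by field_simp
      have e3 : -(c / b) * b = -c := by field_simp
      rw [e1, e3]
      module
    have h2 := key (f u₂ w) (f u₁ w) (d * f w u₂) h1w x₀ hx₀
    simp only [Ubar, Matrix.of_apply, Matrix.cons_val', Matrix.cons_val_zero,
      Matrix.cons_val_one, Matrix.cons_val_fin_one]
    rw [h2]
    module

/-- transvections with centre `w` give lower unitriangular elements -/
theorem KQ_L (hf : Cfsg.Geo.IsUnitaryForm σ f) {u₁ u₂ w x₀ : Fin n → F}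
    (hx : f x₀ u₁ = 0 ∧ f x₀ u₂ = 0 ∧ f x₀ w = 0) (hww : f w w = 0) {t : GLn}
    (ht : t ∈ H) {d : F} (hts : IsE f t w 0 d) : Lbar (d * f u₁ w) ∈ KQ f H u₁ u₂ w x₀ hx := by
  have htv := (isE_tv hf).1 hts
  refine ⟨t, ht, ?_, ⟨0, ?_⟩, ⟨0, ?_⟩⟩
  · intro x _ _ hxw
    rw [htv, hxw]
    module
  · rw [htv]
    simp [Lbar]
  · rw [htv, hww]
    simp [Lbar]

/-- (P2) under `A = F₀` and the non-orthogonality hypothesis, upper triangular elements of the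
section are unitriangular -/
theorem VC.P2 [Finite F] (C : VC σ f F₀ G H)
    (hA : ∀ u v, TP F₀ f u v → ∀ a, a ∈ AA f σ H u v → a ∈ F₀)
    {u₁ u₂ w x₀ : Fin n → F} (tp : TP F₀ f u₁ u₂)
    (hx : f x₀ u₁ = 0 ∧ f x₀ u₂ = 0 ∧ f x₀ w = 0)
    (hx₀ : x₀ = f u₂ w • u₁ - f u₁ w • u₂) (h1w : f u₁ w ≠ 0)
    (hns : ∀ x, Rat F₀ x → f x x = 0 → f x w = 0 → x = 0)
    {A : Matrix.SpecialLinearGroup (Fin 2) F} (hAK : A ∈ KQ f H u₁ u₂ w x₀ hx)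
    (h10 : A.1 1 0 = 0) : A.1 0 0 = 1 := by
  have hf := C.hf
  have hn := C.hn
  obtain ⟨k, hk, hkp, ⟨ξ, hku⟩, -⟩ := hAK
  rw [h10, zero_smul, add_zero] at hku
  have h21 : f u₂ u₁ = 0 := f_swap_zero hf tp.uv
  have hu₂x : f u₂ x₀ = 0 := f_swap_zero hf hx.2.1
  have hksub : k ∈ Cfsg.Geo.subfieldSubgroup F₀ (1 : GLn) := by
    apply C.NR hA hk tp.ru tp.uu tp.u0 tp.rv tp.vv tp.v0
    rw [hku, f_add_right hf, f_smul_right hf, f_smul_right hf, h21, hu₂x]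
    ring
  obtain ⟨c₀, hc₀, hrat⟩ := rat_of_mem_sub_one hksub
  have hr2 : ∀ j, Rat F₀ ((![u₁, u₂] : Fin 2 → (Fin n → F)) j) := by
    intro j
    fin_cases j
    · exact tp.ru
    · exact tp.rv
  obtain ⟨v₁, hv₁, hv₁v₁, hv₁p, hv₁p', hv₁n⟩ := C.vb.ex_rs' ![u₁, u₂] hr2 (by omega)
  obtain ⟨v₁', hv₁', -, hv₁'p, -, h11', -⟩ :=
    C.vb.ex_partner' ![u₁, u₂] hr2 hv₁ hv₁v₁ hv₁p hv₁n
  have hr3 : ∀ j, Rat F₀ ((![u₁, u₂, v₁] : Fin 3 → (Fin n → F)) j) := by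
    intro j
    fin_cases j
    · exact tp.ru
    · exact tp.rv
    · exact hv₁
  obtain ⟨v₂, hv₂, hv₂v₂, hv₂p, hv₂p', hv₂n⟩ := C.vb.ex_rs' ![u₁, u₂, v₁] hr3 (by omega)
  have hv₁0 : v₁ ≠ 0 := by
    rintro rfl
    exact hv₁n (Submodule.zero_mem _)
  have a1 : f v₁ u₁ = 0 := by simpa using hv₁p' 0
  have a2 : f v₁ u₂ = 0 := by simpa using hv₁p' 1
  have a3 : f u₁ v₁' = 0 := by simpa using hv₁'p 0
  have a4 : f u₂ v₁' = 0 := by simpa using hv₁'p 1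
  have b1 : f v₂ u₁ = 0 := by simpa using hv₂p' 0
  have b2 : f v₂ u₂ = 0 := by simpa using hv₂p' 1
  have b3 : f v₂ v₁ = 0 := by simpa using hv₂p' 2
  have b4 : f v₁ v₂ = 0 := by simpa using hv₂p 2
  have hform : ∀ v : Fin n → F, f v u₁ = 0 → f v u₂ = 0 →
      (k : Matrix (Fin n) (Fin n) F) *ᵥ v =
        v + (f v w / f u₁ w) • ((k : Matrix (Fin n) (Fin n) F) *ᵥ u₁ - u₁) := by
    intro v h1 h2
    have h3 := hkp (v - (f v w / f u₁ w) • u₁)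
      (by rw [f_sub_left hf, hf.smul_left, h1, tp.uu]; ring)
      (by rw [f_sub_left hf, hf.smul_left, h2, tp.uv]; ring)
      (by rw [f_sub_left hf, hf.smul_left]; field_simp; ring)
    rw [Matrix.mulVec_sub, Matrix.mulVec_smul] at h3
    rw [smul_sub]
    linear_combination (exp := 1) h3
  have hd_perp : ∀ z, f u₁ z = 0 → f u₂ z = 0 →
      f ((k : Matrix (Fin n) (Fin n) F) *ᵥ u₁ - u₁) z = 0 := by
    intro z h1 h2
    rw [hku, hx₀, f_sub_left hf, hf.add_left, hf.smul_left, hf.smul_left, f_sub_left hf,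
      hf.smul_left, hf.smul_left, h1, h2]
    ring
  have hc₀F : c₀ ∈ F₀ := by
    have h1 := C.vb.rat _ _ (hrat v₁ hv₁) hv₁'
    rw [hf.smul_left, hform v₁ a1 a2, hf.add_left, hf.smul_left, hd_perp v₁' a3 a4, h11',
      mul_zero, add_zero, mul_one] at h1
    have := F₀.inv_mem h1
    rwa [inv_inv] at this
  have hkr : ∀ x, Rat F₀ x → Rat F₀ ((k : Matrix (Fin n) (Fin n) F) *ᵥ x) := by
    intro x hx'
    have := Rat.smul hc₀F (hrat x hx')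
    rwa [smul_smul, mul_inv_cancel₀ hc₀, one_smul] at this
  have hd0 : (k : Matrix (Fin n) (Fin n) F) *ᵥ u₁ - u₁ = 0 := by
    by_contra hd
    have hμ₁ : f v₁ w ≠ 0 := fun h => hv₁0 (hns v₁ hv₁ hv₁v₁ h)
    have hr₁ : Rat F₀ ((f v₁ w / f u₁ w) • ((k : Matrix (Fin n) (Fin n) F) *ᵥ u₁ - u₁)) := by
      have := (hkr v₁ hv₁).sub hv₁
      rwa [hform v₁ a1 a2, add_sub_cancel_left] at this
    have hr₂ : Rat F₀ ((f v₂ w / f u₁ w) • ((k : Matrix (Fin n) (Fin n) F) *ᵥ u₁ - u₁)) := by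
      have := (hkr v₂ hv₂).sub hv₂
      rwa [hform v₂ b1 b2, add_sub_cancel_left] at this
    have e : (f v₂ w / f u₁ w) • ((k : Matrix (Fin n) (Fin n) F) *ᵥ u₁ - u₁) =
        (f v₂ w / f v₁ w) •
          ((f v₁ w / f u₁ w) • ((k : Matrix (Fin n) (Fin n) F) *ᵥ u₁ - u₁)) := by
      rw [smul_smul]
      congr 1
      field_simp
    rw [e] at hr₂
    have hc := coef_rat hr₁ (smul_ne_zero (div_ne_zero hμ₁ h1w) hd) hr₂
    have hv0 := hns (v₂ - (f v₂ w / f v₁ w) • v₁) (hv₂.sub (Rat.smul hc hv₁))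
      (by
        rw [f_sub_left hf, f_sub_right hf, f_sub_right hf, hf.smul_left, hf.smul_left,
          f_smul_right hf, f_smul_right hf, hv₂v₂, hv₁v₁, b3, b4]
        ring)
      (by
        rw [f_sub_left hf, hf.smul_left]
        field_simp
        ring)
    apply hv₂n
    rw [sub_eq_zero.mp hv0]
    exact Submodule.smul_mem _ _ (Submodule.subset_span ⟨2, rfl⟩)
  have h5 : f ((k : Matrix (Fin n) (Fin n) F) *ᵥ u₁) w = f u₁ w := by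
    rw [sub_eq_zero.mp hd0]
  rw [hku, hf.add_left, hf.smul_left, hf.smul_left, hx.2.2, mul_zero, add_zero] at h5
  have h6 : (A.1 0 0 - 1) * f u₁ w = 0 := by linear_combination h5
  rcases mul_eq_zero.mp h6 with h | h
  · linear_combination h
  · exact absurd h h1w

end Cfsg.Agent.Lib.Helper28.Su
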