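import Cfsg.Agent.Lib.Helper28.SuG

set_option autoImplicit false

open Cfsg

/-! Unitary subfield subgroups (stable subfield), case II part 5: `A = F₀` forces `H` into the
subfield group. -/

namespace Cfsg.Agent.Lib.Helper28.Su

open Matrix Cfsg.Agent.Lib.Helper28.Sf Cfsg.Agent.Lib.Helper28.UForm
  Cfsg.Agent.Lib.Helper28.UPair Cfsg.Agent.Lib.Helper28.DecGen Cfsg.Agent.Lib.Helper28.Uo
  Cfsg.Agent.Lib.Helper28.Os

variable {n : ℕ} {F : Type*} [Field F] {σ : F ≃+* F} {f : (Fin n → F) → (Fin n → F) → F}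
  {F₀ : Subfield F} {G H : Subgroup (Matrix.GeneralLinearGroup (Fin n) F)}

local notation "GLn" => Matrix.GeneralLinearGroup (Fin n) F

/-- an element of `F₀` moved by `σ` -/
theorem VB.ex_moved (C : VB σ f F₀) : ∃ ε ∈ F₀, σ ε ≠ ε := by
  obtain ⟨θ, hθF, hθ0, hθ⟩ := C.theta
  by_cases h : σ θ = θ
  · obtain ⟨a, haF, ha⟩ := C.tr1
    refine ⟨a, haF, fun h2 => ?_⟩
    rw [h] at hθ
    rw [h2] at ha
    have h3 : (2 : F) * θ = 0 := by linear_combination hθ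
    rcases mul_eq_zero.mp h3 with h4 | h4
    · have : (1 : F) = 0 := by linear_combination -ha + a * h4
      exact one_ne_zero this
    · exact hθ0 h4
  · exact ⟨θ, hθF, h⟩

/-- the key claim: the parameter `ν(u₂)` is rational -/
theorem VC.claimD [Finite F] (C : VC σ f F₀ G H)
    (hA : ∀ u v, TP F₀ f u v → ∀ a, a ∈ AA f σ H u v → a ∈ F₀)
    {u₁ u₂ w : Fin n → F} (tp : TP F₀ f u₁ u₂) (hww : f w w = 0)
    {θ : F} (hθF : θ ∈ F₀) (hθ : θ + σ θ = 0) (hw1 : θ * f w u₁ = 1)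
    (hns : ∀ x, Rat F₀ x → f x x = 0 → f x w = 0 → x = 0)
    {t : GLn} (ht : t ∈ H) {d : F} (hd : d ≠ 0) (hts : IsE f t w 0 d) :
    θ * f w u₂ * f u₂ w / f u₁ w ∈ F₀ := by
  have hf := C.hf
  by_contra hν
  obtain ⟨p, hp⟩ := CharP.exists F
  haveI := hp
  haveI : Fact p.Prime := ⟨CharP.char_is_prime F p⟩
  have h1w : f u₁ w ≠ 0 := by
    intro h
    have : f w u₁ = 0 := f_swap_zero hf h
    rw [this, mul_zero] at hw1
    exact zero_ne_one hw1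
  obtain ⟨x₀, hx₀⟩ : ∃ x₀, x₀ = f u₂ w • u₁ - f u₁ w • u₂ := ⟨_, rfl⟩
  have hx : f x₀ u₁ = 0 ∧ f x₀ u₂ = 0 ∧ f x₀ w = 0 := by
    refine ⟨?_, ?_, ?_⟩
    · rw [hx₀, f_sub_left hf, hf.smul_left, hf.smul_left, tp.uu, f_swap_zero hf tp.uv]
      ring
    · rw [hx₀, f_sub_left hf, hf.smul_left, hf.smul_left, tp.uv, tp.vv]
      ring
    · rw [hx₀, f_sub_left hf, hf.smul_left, hf.smul_left]
      ring
  obtain ⟨τ₁, hτ₁H, -, hτ₁s, -⟩ := C.rat_tv tp.ru tp.uu hθF hθ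
  obtain ⟨τ₂, hτ₂H, -, hτ₂s, -⟩ := C.rat_tv tp.rv tp.vv hθF hθ
  have hU1 := KQ_U1 (u₂ := u₂) hf hx tp.uu hτ₁H hτ₁s
  rw [hw1] at hU1
  have hU2 := KQ_U2 hf hx tp.uv hx₀ h1w hτ₂H hτ₂s
  have hL := KQ_L (u₂ := u₂) hf hx hww ht hts
  let W : AddSubgroup F :=
    { carrier := {c | Ubar c ∈ KQ f H u₁ u₂ w x₀ hx}
      zero_mem' := by
        rw [Set.mem_setOf_eq, Ubar_zero]
        exact Subgroup.one_mem _
      add_mem' := by
        intro a b ha hb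
        rw [Set.mem_setOf_eq, ← Ubar_mul]
        exact Subgroup.mul_mem _ ha hb
      neg_mem' := by
        intro a ha
        rw [Set.mem_setOf_eq, ← Ubar_inv]
        exact Subgroup.inv_mem _ ha }
  have key := sl2_frob p F₀ (KQ f H u₁ u₂ w x₀ hx) W (fun c hc => hc) ?_
    ⟨1, hU1, _, hU2, one_ne_zero, ?_⟩ _ hL
  · have e : (Lbar (d * f u₁ w)).1 1 0 = d * f u₁ w := by simp [Lbar]
    rw [e] at key
    exact mul_ne_zero hd h1w key
  · intro A hAK h10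
    have h00 := C.P2 hA tp hx hx₀ h1w hns hAK h10
    refine ⟨A.1 0 1, ?_, eq_Ubar h00 h10⟩
    show Ubar (A.1 0 1) ∈ KQ f H u₁ u₂ w x₀ hx
    rw [← eq_Ubar h00 h10]
    exact hAK
  · intro a ha h
    apply hν
    rw [h, mul_one]
    exact ha

/-- case II: if all parameter sets are `F₀` then `H` lies in the subfield group -/
theorem VC.stepD [Finite F] (C : VC σ f F₀ G H)
    (hA : ∀ u v, TP F₀ f u v → ∀ a, a ∈ AA f σ H u v → a ∈ F₀) :
    H ≤ Cfsg.Geo.subfieldSubgroup F₀ (1 : GLn) := by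
  have hf := C.hf
  intro h hh
  by_contra hns0
  have NRh : ∀ u x : Fin n → F, Rat F₀ u → f u u = 0 → u ≠ 0 → Rat F₀ x → f x x = 0 → x ≠ 0 →
      f x ((h : Matrix (Fin n) (Fin n) F) *ᵥ u) ≠ 0 := by
    intro u x hu huu hu0 hx hxx hx0 h0
    exact hns0 (C.NR hA hh hu huu hu0 hx hxx hx0 h0)
  obtain ⟨u₁, hu₁, hu₁u₁, hu₁0⟩ := C.ex_rs0
  obtain ⟨u₂, tp⟩ := C.ex_TP_of hu₁ hu₁u₁ hu₁0
  obtain ⟨θ, hθF, hθ0, hθ⟩ := C.vb.theta
  have hσθ : σ θ = -θ := by linear_combination hθ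
  obtain ⟨w₀, hw₀⟩ : ∃ w₀, w₀ = (h : Matrix (Fin n) (Fin n) F) *ᵥ u₁ := ⟨_, rfl⟩
  have hw₀u : f w₀ u₁ ≠ 0 := by
    have := NRh u₁ u₁ hu₁ hu₁u₁ hu₁0 hu₁ hu₁u₁ hu₁0
    rw [hw₀]
    exact f_swap_ne hf this
  have hw₀w₀ : f w₀ w₀ = 0 := by rw [hw₀, C.iso hh, hu₁u₁]
  obtain ⟨s, hs⟩ : ∃ s : F, s = θ * f w₀ u₁ := ⟨_, rfl⟩
  have hs0 : s ≠ 0 := by
    rw [hs]
    exact mul_ne_zero hθ0 hw₀u
  obtain ⟨w, hw⟩ : ∃ w, w = s⁻¹ • w₀ := ⟨_, rfl⟩
  have hww : f w w = 0 := by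
    rw [hw, hf.smul_left, f_smul_right hf, hw₀w₀]
    ring
  have hw1 : θ * f w u₁ = 1 := by
    rw [hw, hf.smul_left]
    have : θ * (s⁻¹ * f w₀ u₁) = s⁻¹ * (θ * f w₀ u₁) := by ring
    rw [this, ← hs, inv_mul_cancel₀ hs0]
  have hns : ∀ x, Rat F₀ x → f x x = 0 → f x w = 0 → x = 0 := by
    intro x hx hxx hxw
    by_contra hx0
    apply NRh u₁ x hu₁ hu₁u₁ hu₁0 hx hxx hx0
    rw [← hw₀]
    rw [hw, f_smul_right hf] at hxw
    rcases mul_eq_zero.mp hxw with h' | h'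
    · exact absurd h' (sig_ne_zero hf (inv_ne_zero hs0))
    · exact h'
  obtain ⟨τ₁, hτ₁H, -, hτ₁s, -⟩ := C.rat_tv hu₁ hu₁u₁ hθF hθ
  have hts := hτ₁s.conj hf (C.iso hh)
  rw [← hw₀, Matrix.mulVec_zero] at hts
  have hw₀' : w₀ = s • w := by rw [hw, smul_smul, mul_inv_cancel₀ hs0, one_smul]
  rw [hw₀'] at hts
  have hts' := hts.smul_center hf
  rw [smul_zero] at hts'
  have htH : h * τ₁ * h⁻¹ ∈ H := H.mul_mem (H.mul_mem hh hτ₁H) (H.inv_mem hh)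
  have hd : s * σ s * θ ≠ 0 := mul_ne_zero (mul_ne_zero hs0 (sig_ne_zero hf hs0)) hθ0
  have claim : ∀ u₂', TP F₀ f u₁ u₂' → θ * f w u₂' * f u₂' w / f u₁ w ∈ F₀ := fun u₂' tp' =>
    C.claimD hA tp' hww hθF hθ hw1 hns htH hd hts'
  have h1w : f u₁ w ≠ 0 := by
    intro h'
    have : f w u₁ = 0 := f_swap_zero hf h'
    rw [this, mul_zero] at hw1
    exact zero_ne_one hw1
  -- the norm form of the parameter
  obtain ⟨γ, hγ⟩ : ∃ γ : F, γ = f u₂ w / f u₁ w := ⟨_, rfl⟩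
  have hu₂w : f u₂ w = γ * f u₁ w := by
    rw [hγ]
    field_simp
  have hwu₁ : f w u₁ = σ (f u₁ w) := hf.herm w u₁
  have hwu₂ : f w u₂ = σ γ * σ (f u₁ w) := by
    rw [hf.herm w u₂, hu₂w, map_mul]
  have hN : ∀ lam ∈ F₀, (γ + lam) * σ (γ + lam) ∈ F₀ := by
    intro lam hlam
    have tp' : TP F₀ f u₁ (u₂ + lam • u₁) := by
      refine ⟨tp.ru, tp.rv.add (Rat.smul hlam tp.ru), tp.uu, ?_, ?_, tp.u0, ?_⟩
      · rw [hf.add_left, f_add_right hf, f_add_right hf, hf.smul_left, hf.smul_left,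
          f_smul_right hf, f_smul_right hf, tp.uu, tp.vv, tp.uv, f_swap_zero hf tp.uv]
        ring
      · rw [f_add_right hf, f_smul_right hf, tp.uu, tp.uv]
        ring
      · intro hmem
        apply tp.ind
        have := Submodule.sub_mem _ hmem
          (Submodule.smul_mem _ lam (Submodule.mem_span_singleton_self u₁))
        rwa [add_sub_cancel_right] at this
    have h1 := claim _ tp'
    have e : θ * f w (u₂ + lam • u₁) * f (u₂ + lam • u₁) w / f u₁ w =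
        (γ + lam) * σ (γ + lam) := by
      rw [f_add_right hf, f_smul_right hf, hf.add_left, hf.smul_left, hwu₂, hu₂w, hwu₁,
        map_add]
      have h2 : θ * σ (f u₁ w) = 1 := by rw [← hwu₁, hw1]
      field_simp
      linear_combination (γ + lam) * (σ γ + σ lam) * h2
    rwa [e] at h1
  obtain ⟨ε, hεF, hε⟩ := C.vb.ex_moved
  have hσε : σ ε ∈ F₀ := C.vb.stab ε hεF
  have h0 := hN 0 F₀.zero_mem
  have h1 := hN 1 F₀.one_mem
  have h2 := hN ε hεF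
  rw [add_zero] at h0
  rw [map_add, map_one] at h1
  rw [map_add] at h2
  have ha : γ + σ γ ∈ F₀ := by
    have e : γ + σ γ = (γ + 1) * (σ γ + 1) - γ * σ γ - 1 := by ring
    rw [e]
    exact F₀.sub_mem (F₀.sub_mem h1 h0) F₀.one_mem
  have hb : ε * σ γ + σ ε * γ ∈ F₀ := by
    have e : ε * σ γ + σ ε * γ = (γ + ε) * (σ γ + σ ε) - γ * σ γ - ε * σ ε := by ring
    rw [e]
    exact F₀.sub_mem (F₀.sub_mem h2 h0) (F₀.mul_mem hεF hσε)
  have hγF : γ ∈ F₀ := by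
    have hne : σ ε - ε ≠ 0 := sub_ne_zero.mpr hε
    have e : γ = ((ε * σ γ + σ ε * γ) - ε * (γ + σ γ)) / (σ ε - ε) := by
      field_simp
      ring
    rw [e]
    exact F₀.div_mem (F₀.sub_mem hb (F₀.mul_mem hεF ha)) (F₀.sub_mem hσε hεF)
  have hx0 := hns (u₂ - γ • u₁) (tp.rv.sub (Rat.smul hγF tp.ru))
    (by
      rw [f_sub_left hf, f_sub_right hf, f_sub_right hf, hf.smul_left, hf.smul_left,
        f_smul_right hf, f_smul_right hf, tp.uu, tp.vv, tp.uv, f_swap_zero hf tp.uv]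
      ring)
    (by
      rw [f_sub_left hf, hf.smul_left, hu₂w]
      ring)
  apply tp.ind
  rw [sub_eq_zero.mp hx0]
  exact Submodule.smul_mem _ _ (Submodule.mem_span_singleton_self u₁)

end Cfsg.Agent.Lib.Helper28.Su
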