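import Cfsg.Agent.Lib.Helper28.UoG
import Cfsg.Agent.Lib.Helper28.SfH

set_option autoImplicit false

open Cfsg

namespace Cfsg.Agent.Lib.Helper28.Uo

open Matrix Cfsg.Agent.Lib.Helper28.Sf Cfsg.Agent.Lib.Helper28.UForm
  Cfsg.Agent.Lib.Helper28.UPair Cfsg.Agent.Lib.Helper28.DecGen

variable {n : ℕ} {F : Type*} [Field F] {σ : F ≃+* F} {f : (Fin n → F) → (Fin n → F) → F}
  {F₀ : Subfield F}

local notation "GLn" => Matrix.GeneralLinearGroup (Fin n) F

open Cfsg.Agent.Lib.Helper28.Os in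
/-- the orthogonal subfield subgroup is maximal in the special unitary group: standard
rational structure -/
theorem uo_main_one [Finite F] (B : UB σ f F₀) (hn : 13 ≤ n) (G : Subgroup GLn)
    (hG : ∀ g : GLn, g ∈ G ↔
      (∀ x y, f ((g : Matrix (Fin n) (Fin n) F) *ᵥ x) ((g : Matrix (Fin n) (Fin n) F) *ᵥ y) =
        f x y) ∧ g ∈ Cfsg.Geo.specialLinear (Fin n) F) :
    Cfsg.Geo.IsMaximalIn G (Cfsg.Geo.subfieldSubgroup F₀ (1 : GLn) ⊓ G) := by
  have hf := B.hf
  constructor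
  · refine lt_of_le_of_ne inf_le_right ?_
    intro heq
    have C : UC σ f F₀ G G := ⟨B, hG, le_refl _, inf_le_right, hn⟩
    obtain ⟨u, hu, huu, hu0⟩ := C.ex_rs0
    obtain ⟨u', hu', -, -, -, huu', hu'u⟩ := B.ex_partner (![] : Fin 0 → (Fin n → F))
      (fun j => Fin.elim0 j) hu huu (fun j => Fin.elim0 j) (by
        intro hm
        have : Set.range (![] : Fin 0 → (Fin n → F)) = ∅ := Set.range_eq_empty _
        rw [this, Submodule.span_empty, Submodule.mem_bot] at hm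
        exact hu0 hm)
    obtain ⟨θ, hθ0, hθs⟩ := B.ex_theta
    obtain ⟨t, htG, hts⟩ := C.ex_E (u := u) (y := 0) (c := θ) huu (f_zero_left hf u) (by
      rw [hθs, f_zero_left hf]
      ring)
    have htS : t ∈ Cfsg.Geo.subfieldSubgroup F₀ (1 : GLn) := by
      rw [← heq] at htG
      exact htG.1
    obtain ⟨c, hc0, hc⟩ := rat_of_mem_sub_one htS
    have htu : (t : Matrix (Fin n) (Fin n) F) *ᵥ u = u := by
      rw [hts u]
      unfold Em
      rw [huu, f_zero_right hf]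
      module
    have hcF : c⁻¹ ∈ F₀ := by
      have := hc u hu
      rw [htu] at this
      exact coef_rat hu hu0 this
    have hcF' : c ∈ F₀ := by
      have := F₀.inv_mem hcF
      rwa [inv_inv] at this
    have h1 : Rat F₀ ((t : Matrix (Fin n) (Fin n) F) *ᵥ u') := by
      have := Rat.smul hcF' (hc u' hu')
      rwa [smul_smul, mul_inv_cancel₀ hc0, one_smul] at this
    have h2 : (t : Matrix (Fin n) (Fin n) F) *ᵥ u' = u' + θ • u := by
      rw [hts u']
      unfold Em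
      rw [hu'u, f_zero_right hf]
      module
    rw [h2] at h1
    have h3 : Rat F₀ (θ • u) := by
      have := h1.sub hu'
      rwa [add_sub_cancel_left] at this
    exact B.theta_not_mem hθ0 hθs (coef_rat hu hu0 h3)
  · intro M hHM hMG
    have C : UC σ f F₀ G M := ⟨B, hG, hMG, hHM, hn⟩
    rcases C.AA_cases with hA | hA
    · left
      apply le_antisymm _ hHM
      intro g hg
      exact ⟨C.stepD hA hg, hMG hg⟩
    · right
      exact C.stepC hA

/-- the transported form -/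
theorem unitary_conj (hf : Cfsg.Geo.IsUnitaryForm σ f) (P : GLn) :
    Cfsg.Geo.IsUnitaryForm σ (fun x y => f ((P : Matrix (Fin n) (Fin n) F) *ᵥ x)
      ((P : Matrix (Fin n) (Fin n) F) *ᵥ y)) where
  ne_refl := hf.ne_refl
  involutive := hf.involutive
  add_left := by
    intro x y v
    simp only [Matrix.mulVec_add]
    exact hf.add_left _ _ _
  smul_left := by
    intro c x v
    simp only [Matrix.mulVec_smul]
    exact hf.smul_left _ _ _
  herm := fun v w => hf.herm _ _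
  nondegenerate := by
    intro v hv
    have hPv : (P : Matrix (Fin n) (Fin n) F) *ᵥ v ≠ 0 := fun h0 =>
      hv (Cfsg.Agent.Lib.Helper28.SubF.gl_inj P h0)
    obtain ⟨⟨x, hx⟩, ⟨y, hy⟩⟩ := hf.nondegenerate _ hPv
    refine ⟨⟨((P⁻¹ : GLn) : Matrix (Fin n) (Fin n) F) *ᵥ x, ?_⟩,
      ⟨((P⁻¹ : GLn) : Matrix (Fin n) (Fin n) F) *ᵥ y, ?_⟩⟩
    · simp only [gl_cancel']
      exact hx
    · simp only [gl_cancel']
      exact hy

/-- the orthogonal subfield subgroups are maximal in the special unitary group -/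
theorem uo_main [Finite F] (hf : Cfsg.Geo.IsUnitaryForm σ f) (hfix : ∀ x, x ∈ F₀ ↔ σ x = x)
    (h2 : (2 : F) ≠ 0) (hn : 13 ≤ n) (P : GLn)
    (hP : Cfsg.Geo.IsFormRationalStructure f F₀ 1 P) (G : Subgroup GLn)
    (hG : ∀ g : GLn, g ∈ G ↔
      (∀ x y, f ((g : Matrix (Fin n) (Fin n) F) *ᵥ x) ((g : Matrix (Fin n) (Fin n) F) *ᵥ y) =
        f x y) ∧ g ∈ Cfsg.Geo.specialLinear (Fin n) F) :
    Cfsg.Geo.IsMaximalIn G (Cfsg.Geo.subfieldSubgroup F₀ P ⊓ G) := by
  have B : UB σ (fun x y => f ((P : Matrix (Fin n) (Fin n) F) *ᵥ x)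
      ((P : Matrix (Fin n) (Fin n) F) *ᵥ y)) F₀ :=
    { hf := unitary_conj hf P
      fix := hfix
      two := h2
      rat := by
        intro x y hx hy
        have := hP x y hx hy
        rwa [one_mul] at this }
  obtain ⟨G', hG'⟩ : ∃ G' : Subgroup GLn, G' = G.comap (MulAut.conj P).toMonoidHom := ⟨_, rfl⟩
  have hmem : ∀ g : GLn, g ∈ G' ↔
      (∀ x y, f ((P : Matrix (Fin n) (Fin n) F) *ᵥ ((g : Matrix (Fin n) (Fin n) F) *ᵥ x))
        ((P : Matrix (Fin n) (Fin n) F) *ᵥ ((g : Matrix (Fin n) (Fin n) F) *ᵥ y)) =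
        f ((P : Matrix (Fin n) (Fin n) F) *ᵥ x) ((P : Matrix (Fin n) (Fin n) F) *ᵥ y)) ∧
      g ∈ Cfsg.Geo.specialLinear (Fin n) F := by
    intro g
    rw [hG', Subgroup.mem_comap, hG]
    have e1 : ∀ x, (((MulAut.conj P).toMonoidHom g : GLn) : Matrix (Fin n) (Fin n) F) *ᵥ
        ((P : Matrix (Fin n) (Fin n) F) *ᵥ x) =
        (P : Matrix (Fin n) (Fin n) F) *ᵥ ((g : Matrix (Fin n) (Fin n) F) *ᵥ x) := by
      intro x
      show ((P * g * P⁻¹ : GLn) : Matrix (Fin n) (Fin n) F) *ᵥ _ = _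
      rw [Units.val_mul, Units.val_mul, ← Matrix.mulVec_mulVec, ← Matrix.mulVec_mulVec, gl_cancel]
    have e2 : (MulAut.conj P).toMonoidHom g ∈ Cfsg.Geo.specialLinear (Fin n) F ↔
        g ∈ Cfsg.Geo.specialLinear (Fin n) F := by
      rw [Cfsg.Agent.Lib.Helper28.Transport.mem_SL_iff,
        Cfsg.Agent.Lib.Helper28.Transport.mem_SL_iff]
      have := Cfsg.Agent.Lib.Helper28.Transport.conj_det P g
      show ((MulAut.conj P g : GLn) : Matrix (Fin n) (Fin n) F).det = 1 ↔ _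
      rw [this]
    rw [e2]
    constructor
    · rintro ⟨h1, h2⟩
      refine ⟨fun x y => ?_, h2⟩
      rw [← e1, ← e1, h1]
    · rintro ⟨h1, h2⟩
      refine ⟨fun x y => ?_, h2⟩
      have hx : x = (P : Matrix (Fin n) (Fin n) F) *ᵥ
          (((P⁻¹ : GLn) : Matrix (Fin n) (Fin n) F) *ᵥ x) := (gl_cancel' P x).symm
      have hy : y = (P : Matrix (Fin n) (Fin n) F) *ᵥ
          (((P⁻¹ : GLn) : Matrix (Fin n) (Fin n) F) *ᵥ y) := (gl_cancel' P y).symm
      rw [hx, hy, e1, e1, h1]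
  have main := uo_main_one B hn G' hmem
  have h1 := isMaximalIn_map (MulAut.conj P) main
  have hsurj : Function.Surjective (MulAut.conj P).toMonoidHom := (MulAut.conj P).surjective
  have e3 : G'.map (MulAut.conj P).toMonoidHom = G := by
    rw [hG', Subgroup.map_comap_eq_self_of_surjective hsurj]
  rw [Subgroup.map_inf _ _ _ (MulAut.conj P).injective, ← sub_eq_map, e3] at h1
  exact h1

end Cfsg.Agent.Lib.Helper28.Uo
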