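import Cfsg.Agent.Lib.Helper28.SuH
import Cfsg.Agent.Lib.Helper28.OsO
import Cfsg.Agent.Lib.Helper28.UoH

set_option autoImplicit false

open Cfsg

/-! Unitary subfield subgroups (stable subfield): the main theorem. -/

namespace Cfsg.Agent.Lib.Helper28.Su

open Matrix Cfsg.Agent.Lib.Helper28.Sf Cfsg.Agent.Lib.Helper28.UForm
  Cfsg.Agent.Lib.Helper28.UPair Cfsg.Agent.Lib.Helper28.DecGen Cfsg.Agent.Lib.Helper28.Uo
  Cfsg.Agent.Lib.Helper28.Os

variable {n : ℕ} {F : Type*} [Field F] {σ : F ≃+* F} {f : (Fin n → F) → (Fin n → F) → F}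
  {F₀ : Subfield F}

local notation "GLn" => Matrix.GeneralLinearGroup (Fin n) F

/-- the unitary subfield subgroup over a `σ`-stable subfield of odd prime index is maximal in
the special unitary group: standard rational structure -/
theorem su_main_one [Fintype F] (B : VB σ f F₀) (hn : 13 ≤ n) {r : ℕ} (hr : r.Prime)
    (hcard : Fintype.card F = Nat.card F₀ ^ r) (G : Subgroup GLn)
    (hG : ∀ g : GLn, g ∈ G ↔
      (∀ x y, f ((g : Matrix (Fin n) (Fin n) F) *ᵥ x) ((g : Matrix (Fin n) (Fin n) F) *ᵥ y) =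
        f x y) ∧ g ∈ Cfsg.Geo.specialLinear (Fin n) F) :
    Cfsg.Geo.IsMaximalIn G (Cfsg.Geo.subfieldSubgroup F₀ (1 : GLn) ⊓ G) := by
  have hf := B.hf
  constructor
  · refine lt_of_le_of_ne inf_le_right ?_
    intro heq
    have C : VC σ f F₀ G G := ⟨B, hG, le_refl _, inf_le_right, hn⟩
    obtain ⟨u, v, tp⟩ := C.ex_TP
    have hr1 : ∀ j, Rat F₀ ((![u] : Fin 1 → (Fin n → F)) j) := by
      intro j
      fin_cases j
      exact tp.ru
    have hrange : Set.range (![u] : Fin 1 → (Fin n → F)) = {u} := by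
      ext z
      simp [eq_comm]
    obtain ⟨v', hv', -, -, hv'p, -, hv'v⟩ := B.ex_partner' ![u] hr1 tp.rv tp.vv
      (by
        intro j
        fin_cases j
        exact tp.uv)
      (by
        rw [hrange]
        exact tp.ind)
    have hv'u : f v' u = 0 := by simpa using hv'p 0
    obtain ⟨c, hc⟩ := exists_not_mem_F0 hr hcard (F₀ := F₀)
    obtain ⟨t, htG, hts⟩ := C.ex_T tp.uu tp.vv (f_swap_zero hf tp.uv) c
    have htS : t ∈ Cfsg.Geo.subfieldSubgroup F₀ (1 : GLn) := by
      rw [← heq] at htG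
      exact htG.1
    obtain ⟨c₀, hc0, hc₀⟩ := rat_of_mem_sub_one htS
    have htu : (t : Matrix (Fin n) (Fin n) F) *ᵥ u = u := hts.fix tp.uu tp.uv
    have hcF : c₀⁻¹ ∈ F₀ := by
      have := hc₀ u tp.ru
      rw [htu] at this
      exact coef_rat tp.ru tp.u0 this
    have hcF' : c₀ ∈ F₀ := by
      have := F₀.inv_mem hcF
      rwa [inv_inv] at this
    have h1 : Rat F₀ ((t : Matrix (Fin n) (Fin n) F) *ᵥ v') := by
      have := Rat.smul hcF' (hc₀ v' hv')
      rwa [smul_smul, mul_inv_cancel₀ hc0, one_smul] at this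
    have h2 : (t : Matrix (Fin n) (Fin n) F) *ᵥ v' = v' - σ c • u := by
      rw [hts.apply, hv'u, hv'v]
      module
    rw [h2] at h1
    have h3 : Rat F₀ (σ c • u) := by
      have := hv'.sub h1
      rwa [sub_sub_cancel] at this
    have h4 := B.stab _ (coef_rat tp.ru tp.u0 h3)
    rw [hf.involutive] at h4
    exact hc h4
  · intro M hHM hMG
    have C : VC σ f F₀ G M := ⟨B, hG, hMG, hHM, hn⟩
    rcases C.AA_cases hr hcard with hA | hA
    · left
      apply le_antisymm _ hHM
      intro g hg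
      exact ⟨C.stepD hA hg, hMG hg⟩
    · right
      exact C.stepC hA

end Cfsg.Agent.Lib.Helper28.Su
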