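import Cfsg.Agent.Lib.Helper28.SuI
import Cfsg.Agent.S0755

set_option autoImplicit false

open Cfsg

/-! Unitary subfield subgroups (stable subfield): the hypotheses from the field data, and
transport to a general rational structure. -/

namespace Cfsg.Agent.Lib.Helper28.Su

open Matrix Cfsg.Agent.Lib.Helper28.Sf Cfsg.Agent.Lib.Helper28.UForm
  Cfsg.Agent.Lib.Helper28.UPair Cfsg.Agent.Lib.Helper28.DecGen Cfsg.Agent.Lib.Helper28.Uo
  Cfsg.Agent.Lib.Helper28.Os

variable {n : ℕ} {F : Type*} [Field F] {σ : F ≃+* F} {f : (Fin n → F) → (Fin n → F) → F}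
  {F₀ : Subfield F}

local notation "GLn" => Matrix.GeneralLinearGroup (Fin n) F

/-- an involution of `F` acts non-trivially on a subfield of odd degree -/
theorem sigma_moves [Fintype F] (hne : σ ≠ RingEquiv.refl F) (hinv : ∀ a : F, σ (σ a) = a)
    {r : ℕ} (hro : Odd r) (hcard : Fintype.card F = Nat.card F₀ ^ r) :
    ∃ b ∈ F₀, σ b ≠ b := by
  by_contra hcon
  push Not at hcon
  let τ : F ≃ₐ[F₀] F := AlgEquiv.ofRingEquiv (f := σ) (fun x => hcon x x.2)
  have hτ : ∀ x, τ x = σ x := fun x => rfl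
  have h1 : τ ^ 2 = 1 := by
    ext x
    rw [pow_two, AlgEquiv.mul_apply, hτ, hτ, hinv, AlgEquiv.one_apply]
  have h2 : τ ≠ 1 := by
    intro h
    apply hne
    ext x
    rw [← hτ, h, AlgEquiv.one_apply]
    rfl
  have h3 : orderOf τ = 2 := orderOf_eq_prime h1 h2
  have h4 : orderOf τ ∣ Nat.card (F ≃ₐ[F₀] F) := orderOf_dvd_natCard τ
  rw [h3, IsGalois.card_aut_eq_finrank, finrank_eq hcard] at h4
  rw [Nat.odd_iff] at hro
  omega

/-- the hypotheses on `F₀` from the field data -/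
theorem mk_VB [Fintype F] (hf : Cfsg.Geo.IsUnitaryForm σ f)
    (hrat : ∀ x y : Fin n → F, Rat F₀ x → Rat F₀ y → f x y ∈ F₀)
    (hstab : ∀ x ∈ F₀, σ x ∈ F₀) {r : ℕ} (hro : Odd r)
    (hcard : Fintype.card F = Nat.card F₀ ^ r) : VB σ f F₀ := by
  obtain ⟨b, hbF, hb⟩ := sigma_moves hf.ne_refl hf.involutive hro hcard (F₀ := F₀)
  have hσb : σ b ∈ F₀ := hstab b hbF
  refine ⟨hf, hrat, hstab, ?_, ?_, ?_⟩
  · by_cases h2 : (2 : F) = 0
    · have hne : b + σ b ≠ 0 := by
        intro h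
        apply hb
        linear_combination h - b * h2
      refine ⟨b / (b + σ b), F₀.div_mem hbF (F₀.add_mem hbF hσb), ?_⟩
      rw [map_div₀, map_add, hf.involutive, add_comm (σ b) b, ← add_div, div_self hne]
    · refine ⟨1 / 2, F₀.div_mem F₀.one_mem (F₀.add_mem F₀.one_mem F₀.one_mem |> fun h => by
        have e : (1 : F) + 1 = 2 := by norm_num
        rwa [e] at h), ?_⟩
      rw [map_div₀, map_one, map_ofNat]
      field_simp
      norm_num
  · refine ⟨b - σ b, F₀.sub_mem hbF hσb, ?_, ?_⟩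
    · intro h
      exact hb (sub_eq_zero.mp h).symm
    · rw [map_sub, hf.involutive]
      ring
  · intro c hc hcs
    let σ₀ : F₀ →+* F₀ := (σ.toRingHom.comp F₀.subtype).codRestrict F₀ (fun x => hstab x x.2)
    have hσ₀ : ∀ x : F₀, ((σ₀ x : F₀) : F) = σ (x : F) := fun x => rfl
    have hne : σ₀ ≠ RingHom.id F₀ := by
      intro h
      apply hb
      have := congrArg (fun φ : F₀ →+* F₀ => ((φ ⟨b, hbF⟩ : F₀) : F)) h
      simpa [hσ₀] using this
    obtain ⟨a, ha⟩ := Cfsg.Agent.S0755.norm_surj σ₀ hne (fun a => by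
      apply Subtype.ext
      rw [hσ₀, hσ₀, hf.involutive]) ⟨c, hc⟩ (by
      apply Subtype.ext
      rw [hσ₀]
      exact hcs)
    refine ⟨(a : F), a.2, ?_⟩
    have := congrArg (fun z : F₀ => (z : F)) ha
    simp only [Subfield.coe_mul, hσ₀] at this
    rw [mul_comm]
    exact this

/-- the unitary subfield subgroups over a stable subfield of odd prime degree are maximal in the
special unitary group -/
theorem su_main [Fintype F] (hf : Cfsg.Geo.IsUnitaryForm σ f) (hstab : ∀ x ∈ F₀, σ x ∈ F₀)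
    (hn : 13 ≤ n) {r : ℕ} (hr : r.Prime) (hro : Odd r)
    (hcard : Fintype.card F = Nat.card F₀ ^ r) (P : GLn)
    (hP : Cfsg.Geo.IsFormRationalStructure f F₀ 1 P) (G : Subgroup GLn)
    (hG : ∀ g : GLn, g ∈ G ↔
      (∀ x y, f ((g : Matrix (Fin n) (Fin n) F) *ᵥ x) ((g : Matrix (Fin n) (Fin n) F) *ᵥ y) =
        f x y) ∧ g ∈ Cfsg.Geo.specialLinear (Fin n) F) :
    Cfsg.Geo.IsMaximalIn G (Cfsg.Geo.subfieldSubgroup F₀ P ⊓ G) := by
  have B : VB σ (fun x y => f ((P : Matrix (Fin n) (Fin n) F) *ᵥ x)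
      ((P : Matrix (Fin n) (Fin n) F) *ᵥ y)) F₀ :=
    mk_VB (unitary_conj hf P) (by
      intro x y hx hy
      have := hP x y hx hy
      rwa [one_mul] at this) hstab hro hcard
  obtain ⟨G', hG'⟩ : ∃ G' : Subgroup GLn, G' = G.comap (MulAut.conj P).toMonoidHom := ⟨_, rfl⟩
  have hmem : ∀ g : GLn, g ∈ G' ↔
      (∀ x y, f ((P : Matrix (Fin n) (Fin n) F) *ᵥ ((g : Matrix (Fin n) (Fin n) F) *ᵥ x))
        ((P : Matrix (Fin n) (Fin n) F) *ᵥ ((g : Matrix (Fin n) (Fin n) F) *ᵥ y)) =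
        f ((P : Matrix (Fin n) (Fin n) F) *ᵥ x) ((P : Matrix (Fin n) (Fin n) F) *ᵥ y)) ∧
      g ∈ Cfsg.Geo.specialLinear (Fin n) F := by
    intro g
    rw [hG', Subgroup.mem_comap, hG]
    have e1 : ∀ x, (((MulAut.conj P).toMonoidHom g : GLn) : Matrix (Fin n) (Fin n) F) *ᵥ
        ((P : Matrix (Fin n) (Fin n) F) *ᵥ x) =
        (P : Matrix (Fin n) (Fin n) F) *ᵥ ((g : Matrix (Fin n) (Fin n) F) *ᵥ x) := by
      intro x
      show ((P * g * P⁻¹ : GLn) : Matrix (Fin n) (Fin n) F) *ᵥ _ = _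
      rw [Units.val_mul, Units.val_mul, ← Matrix.mulVec_mulVec, ← Matrix.mulVec_mulVec, gl_cancel]
    have e2 : (MulAut.conj P).toMonoidHom g ∈ Cfsg.Geo.specialLinear (Fin n) F ↔
        g ∈ Cfsg.Geo.specialLinear (Fin n) F := by
      rw [Cfsg.Agent.Lib.Helper28.Transport.mem_SL_iff,
        Cfsg.Agent.Lib.Helper28.Transport.mem_SL_iff]
      have := Cfsg.Agent.Lib.Helper28.Transport.conj_det P g
      show ((MulAut.conj P g : GLn) : Matrix (Fin n) (Fin n) F).det = 1 ↔ _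
      rw [this]
    rw [e2]
    constructor
    · rintro ⟨h1, h2⟩
      refine ⟨fun x y => ?_, h2⟩
      rw [← e1, ← e1, h1]
    · rintro ⟨h1, h2⟩
      refine ⟨fun x y => ?_, h2⟩
      have hx : x = (P : Matrix (Fin n) (Fin n) F) *ᵥ
          (((P⁻¹ : GLn) : Matrix (Fin n) (Fin n) F) *ᵥ x) := (gl_cancel' P x).symm
      have hy : y = (P : Matrix (Fin n) (Fin n) F) *ᵥ
          (((P⁻¹ : GLn) : Matrix (Fin n) (Fin n) F) *ᵥ y) := (gl_cancel' P y).symm
      rw [hx, hy, e1, e1, h1]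
  have main := su_main_one B hn hr hcard G' hmem
  have h1 := isMaximalIn_map (MulAut.conj P) main
  have hsurj : Function.Surjective (MulAut.conj P).toMonoidHom := (MulAut.conj P).surjective
  have e3 : G'.map (MulAut.conj P).toMonoidHom = G := by
    rw [hG', Subgroup.map_comap_eq_self_of_surjective hsurj]
  rw [Subgroup.map_inf _ _ _ (MulAut.conj P).injective, ← sub_eq_map, e3] at h1
  exact h1

end Cfsg.Agent.Lib.Helper28.Su
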