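import Mathlib

set_option autoImplicit false

namespace Cfsg.Agent.Lib.Helper28.SylCent

/-- If a Sylow `p`-subgroup `T` of `C = C_G(z)` has centre contained in `{1, z}`, then `T` is a
Sylow `p`-subgroup of `G`. -/
theorem sylow_of_center_small_aux {G : Type*} [Group G] [Finite G] {p : ℕ} [Fact p.Prime] (z : G)
    (hz1 : z ≠ 1) (C : Subgroup G) (hC : ∀ g : G, g ∈ C ↔ z * g = g * z)
    (T : Sylow p C)
    (hzT : ∃ t ∈ T, (t : G) = z)
    (hZ : ∀ y : C, y ∈ T → (∀ w ∈ T, w * y = y * w) → y = 1 ∨ (y : G) = z) :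
    ¬ p ∣ ((T : Subgroup C).map C.subtype).index := by
  classical
  set P : Subgroup G := (T : Subgroup C).map C.subtype with hP
  have hPp : IsPGroup p P := T.isPGroup'.map _
  have hPC : P ≤ C := by
    rintro _ ⟨t, -, rfl⟩
    exact t.2
  have memP : ∀ {g : G}, g ∈ P ↔ ∃ t ∈ T, (t : G) = g := by
    intro g
    constructor
    · rintro ⟨t, ht, rfl⟩
      exact ⟨t, ht, rfl⟩
    · rintro ⟨t, ht, rfl⟩
      exact ⟨t, ht, rfl⟩
  obtain ⟨S, hPS⟩ := hPp.exists_le_sylow
  have key : P = S := by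
    by_contra hne
    have hlt : P.subgroupOf S < ⊤ := by
      rw [lt_top_iff_ne_top]
      intro h
      rw [Subgroup.subgroupOf_eq_top] at h
      exact hne (le_antisymm hPS h)
    haveI hnil : Group.IsNilpotent S := S.isPGroup'.isNilpotent
    have hnc := normalizerCondition_of_isNilpotent (G := S) _ hlt
    obtain ⟨x, hxN, hxP⟩ := SetLike.exists_of_lt hnc
    rw [Subgroup.mem_normalizer_iff] at hxN
    have hconj : ∀ y ∈ P, (x : G) * y * (x : G)⁻¹ ∈ P := by
      intro y hy
      have := (hxN ⟨y, hPS hy⟩).mp (by rw [Subgroup.mem_subgroupOf]; exact hy)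
      rw [Subgroup.mem_subgroupOf] at this
      simpa using this
    have hconj' : ∀ y ∈ P, (x : G)⁻¹ * y * (x : G) ∈ P := by
      intro y hy
      have hyS : (x : G)⁻¹ * y * (x : G) ∈ (S : Subgroup G) :=
        S.1.mul_mem (S.1.mul_mem (S.1.inv_mem x.2) (hPS hy)) x.2
      have := (hxN ⟨_, hyS⟩).mpr (by
        rw [Subgroup.mem_subgroupOf]
        have e : (((x * ⟨_, hyS⟩ * x⁻¹ : S)) : G) = y := by
          simp [mul_assoc]
        rw [e]; exact hy)
      rw [Subgroup.mem_subgroupOf] at this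
      exact this
    have hzP : z ∈ P := memP.mpr hzT
    obtain ⟨t, htT, hteq⟩ := memP.mp (hconj z hzP)
    have htc : ∀ w ∈ T, w * t = t * w := by
      intro w hw
      apply Subtype.ext
      rw [Subgroup.coe_mul, Subgroup.coe_mul, hteq]
      have hwP : (w : G) ∈ P := memP.mpr ⟨w, hw, rfl⟩
      have h1 := hconj' _ hwP
      have h3 : z * ((x : G)⁻¹ * w * x) = ((x : G)⁻¹ * w * x) * z := (hC _).mp (hPC h1)
      calc (w : G) * ((x : G) * z * (x : G)⁻¹)
          = (x : G) * (((x : G)⁻¹ * w * x) * z) * (x : G)⁻¹ := by group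
        _ = (x : G) * (z * ((x : G)⁻¹ * w * x)) * (x : G)⁻¹ := by rw [h3]
        _ = (x : G) * z * (x : G)⁻¹ * w := by group
    have hxz : (x : G) * z * (x : G)⁻¹ = z := by
      rcases hZ t htT htc with h | h
      · exfalso
        apply hz1
        have : (x : G) * z * (x : G)⁻¹ = 1 := by rw [← hteq, h]; rfl
        calc z = (x : G)⁻¹ * ((x : G) * z * (x : G)⁻¹) * x := by group
          _ = 1 := by rw [this]; group
      · rw [← hteq, h]
    have hxC : (x : G) ∈ C := by
      rw [hC]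
      calc z * (x : G) = ((x : G) * z * (x : G)⁻¹) * x := by rw [hxz]
        _ = x * z := by group
    have hQp : IsPGroup p ((S : Subgroup G).subgroupOf C) := S.isPGroup'.comap_subtype
    have hTQ : (T : Subgroup C) ≤ (S : Subgroup G).subgroupOf C := by
      intro t ht
      rw [Subgroup.mem_subgroupOf]
      exact hPS (memP.mpr ⟨t, ht, rfl⟩)
    have hQT := T.is_maximal' hQp hTQ
    have hxT : (⟨(x : G), hxC⟩ : C) ∈ (T : Subgroup C) := by
      rw [← hQT, Subgroup.mem_subgroupOf]
      exact x.2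
    apply hxP
    rw [Subgroup.mem_subgroupOf]
    exact memP.mpr ⟨_, hxT, rfl⟩
  rw [key]
  exact S.not_dvd_index

theorem sylow_of_center_small {G : Type*} [Group G] [Finite G] {p : ℕ} [Fact p.Prime] (z : G)
    (hz1 : z ≠ 1)
    (T : Sylow p (Subgroup.centralizer ({z} : Set G)))
    (hzT : ∃ t ∈ T, (t : G) = z)
    (hZ : ∀ y : Subgroup.centralizer ({z} : Set G), y ∈ T → (∀ w ∈ T, w * y = y * w) →
      y = 1 ∨ (y : G) = z) :
    ¬ p ∣ ((T : Subgroup (Subgroup.centralizer ({z} : Set G))).map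
      (Subgroup.subtype (Subgroup.centralizer ({z} : Set G)))).index :=
  sylow_of_center_small_aux z hz1 _ (fun g => by
    rw [Subgroup.mem_centralizer_iff]
    constructor
    · intro h; exact h z (Set.mem_singleton z)
    · intro h y hy
      rw [Set.mem_singleton_iff] at hy
      subst hy; exact h) T hzT hZ

end Cfsg.Agent.Lib.Helper28.SylCent
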