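import Mathlib
import Cfsg.Agent.Lib.Helper16.TwoFam1

set_option autoImplicit false

namespace Cfsg.Agent.Lib.Helper28.SylO

open Module Cfsg.Agent.Lib.Helper16

variable {F V : Type*} [Field F] [AddCommGroup V] [Module F V]

/-- the field has only the two elements `0`, `1` -/
def F2 (F : Type*) [Field F] : Prop := ∀ a : F, a = 0 ∨ a = 1

theorem F2.two (h : F2 F) : (1 : F) + 1 = 0 := by
  rcases h (1 + 1) with h1 | h1
  · exact h1
  · exfalso
    have : (1 : F) = 0 := by linear_combination h1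
    exact one_ne_zero this

theorem F2.eq_one (h : F2 F) {a : F} (ha : a ≠ 0) : a = 1 := (h a).resolve_left ha

theorem F2.add_self (h : F2 F) (a : F) : a + a = 0 := by
  linear_combination a * h.two

theorem F2.neg (h : F2 F) (a : F) : -a = a := by
  linear_combination -a * h.two

theorem F2.vadd_self (h : F2 F) (x : V) : x + x = 0 := by
  have : x + x = ((1 : F) + 1) • x := by rw [add_smul, one_smul]
  rw [this, h.two, zero_smul]

theorem F2.vneg (h : F2 F) (x : V) : -x = x := by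
  have := h.vadd_self x
  exact neg_eq_of_add_eq_zero_left this

theorem F2.vsub (h : F2 F) (x y : V) : x - y = x + y := by
  rw [sub_eq_add_neg, h.vneg]

local notation "pol" => QuadraticMap.polar

theorem Q_add (Q : QuadraticForm F V) (x y : V) : Q (x + y) = Q x + Q y + pol (⇑Q) x y := by
  unfold QuadraticMap.polar; ring

theorem pol_self (h : F2 F) (Q : QuadraticForm F V) (x : V) : pol (⇑Q) x x = 0 := by
  rw [QuadraticMap.polar_self, two_smul, h.add_self]

/-- `x` is orthogonal to all of `U` -/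
def Perp (Q : QuadraticForm F V) (U : Submodule F V) (x : V) : Prop :=
  ∀ u ∈ U, pol (⇑Q) u x = 0

/-- the subspace `U` is nondegenerate for the polar form -/
def ND (Q : QuadraticForm F V) (U : Submodule F V) : Prop :=
  ∀ x ∈ U, Perp Q U x → x = 0

/-- transvection -/
noncomputable def tv (Q : QuadraticForm F V) (v : V) : V →ₗ[F] V :=
  LinearMap.id + (QuadraticMap.polarBilin Q v).smulRight v

theorem tv_apply (Q : QuadraticForm F V) (v x : V) : tv Q v x = x + pol (⇑Q) v x • v := by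
  simp [tv]

/-- Siegel-type element for a totally singular line -/
noncomputable def sg (Q : QuadraticForm F V) (p p' : V) : V →ₗ[F] V :=
  LinearMap.id + (QuadraticMap.polarBilin Q p).smulRight p' +
    (QuadraticMap.polarBilin Q p').smulRight p

theorem sg_apply (Q : QuadraticForm F V) (p p' x : V) :
    sg Q p p' x = x + pol (⇑Q) p x • p' + pol (⇑Q) p' x • p := by
  simp [sg]

theorem tv_iso (h : F2 F) (Q : QuadraticForm F V) (v : V) (hv : Q v = 1) (x : V) :
    Q (tv Q v x) = Q x := by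
  rw [tv_apply, Q_add, QuadraticMap.map_smul, QuadraticMap.polar_smul_right, hv,
    QuadraticMap.polar_comm (⇑Q) x v, smul_eq_mul, smul_eq_mul]
  linear_combination (pol (⇑Q) v x * pol (⇑Q) v x) * h.two

theorem tv_invol (h : F2 F) (Q : QuadraticForm F V) (v : V) :
    tv Q v ∘ₗ tv Q v = LinearMap.id := by
  apply LinearMap.ext
  intro x
  rw [LinearMap.comp_apply, tv_apply, tv_apply, QuadraticMap.polar_add_right,
    QuadraticMap.polar_smul_right, pol_self h, smul_zero, add_zero, LinearMap.id_apply,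
    add_assoc, h.vadd_self, add_zero]

theorem sg_iso (h : F2 F) (Q : QuadraticForm F V) (p p' : V) (hp : Q p = 0) (hp' : Q p' = 0)
    (hpp : pol (⇑Q) p p' = 0) (x : V) : Q (sg Q p p' x) = Q x := by
  rw [sg_apply, add_assoc, Q_add, Q_add, QuadraticMap.map_smul, QuadraticMap.map_smul, hp, hp',
    QuadraticMap.polar_add_right, QuadraticMap.polar_smul_right, QuadraticMap.polar_smul_right,
    QuadraticMap.polar_smul_left, QuadraticMap.polar_smul_right,
    QuadraticMap.polar_comm (⇑Q) p' p, hpp,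
    QuadraticMap.polar_comm (⇑Q) x p, QuadraticMap.polar_comm (⇑Q) x p']
  simp only [smul_eq_mul]
  linear_combination (pol (⇑Q) p x * pol (⇑Q) p' x) * h.two

theorem sg_invol (h : F2 F) (Q : QuadraticForm F V) (p p' : V)
    (hpp : pol (⇑Q) p p' = 0) : sg Q p p' ∘ₗ sg Q p p' = LinearMap.id := by
  apply LinearMap.ext
  intro x
  have hpp' : pol (⇑Q) p' p = 0 := by rw [QuadraticMap.polar_comm]; exact hpp
  rw [LinearMap.comp_apply, sg_apply, sg_apply]
  simp only [QuadraticMap.polar_add_right, QuadraticMap.polar_smul_right, pol_self h, hpp, hpp',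
    smul_zero, add_zero, LinearMap.id_apply]
  have e : x + pol (⇑Q) p x • p' + pol (⇑Q) p' x • p + pol (⇑Q) p x • p' + pol (⇑Q) p' x • p
      = x + (pol (⇑Q) p x • p' + pol (⇑Q) p x • p') + (pol (⇑Q) p' x • p + pol (⇑Q) p' x • p) := by
    abel
  rw [e, h.vadd_self, h.vadd_self, add_zero, add_zero]

theorem exists_pol_ne (Q : QuadraticForm F V) {U : Submodule F V} (hU : ND Q U) {p : V}
    (hp : p ∈ U) (hp0 : p ≠ 0) : ∃ y ∈ U, pol (⇑Q) p y ≠ 0 := by
  by_contra hcon
  push Not at hcon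
  apply hp0
  apply hU p hp
  intro u hu
  rw [QuadraticMap.polar_comm]
  exact hcon u hu

theorem exists_nonsing (h : F2 F) (Q : QuadraticForm F V) {U : Submodule F V} (hU : ND Q U)
    (hne : U ≠ ⊥) : ∃ v ∈ U, Q v = 1 := by
  by_contra hcon
  push Not at hcon
  have hts : ∀ u ∈ U, Q u = 0 := by
    intro u hu
    by_contra h1
    exact hcon u hu (h.eq_one h1)
  apply hne
  rw [eq_bot_iff]
  intro x hx
  rw [Submodule.mem_bot]
  apply hU x hx
  intro u hu
  have h1 := Q_add Q u x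
  rw [hts _ (U.add_mem hu hx), hts u hu, hts x hx] at h1
  linear_combination -h1

theorem exists_partner (h : F2 F) (Q : QuadraticForm F V) {U : Submodule F V} (hU : ND Q U)
    {p : V} (hp : p ∈ U) (hp0 : p ≠ 0) (hQp : Q p = 0) :
    ∃ q ∈ U, Q q = 0 ∧ pol (⇑Q) p q = 1 := by
  obtain ⟨y, hy, hpy⟩ := exists_pol_ne Q hU hp hp0
  have hpy1 := h.eq_one hpy
  by_cases hQy : Q y = 0
  · exact ⟨y, hy, hQy, hpy1⟩
  · refine ⟨y + p, U.add_mem hy hp, ?_, ?_⟩
    · rw [Q_add, h.eq_one hQy, hQp, QuadraticMap.polar_comm, hpy1]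
      linear_combination h.two
    · rw [QuadraticMap.polar_add_right, pol_self h, hpy1, add_zero]

theorem tv_ne_id (Q : QuadraticForm F V) {U : Submodule F V} (hU : ND Q U) {v : V}
    (hv : v ∈ U) (hv0 : v ≠ 0) : tv Q v ≠ LinearMap.id := by
  obtain ⟨y, _, hy⟩ := exists_pol_ne Q hU hv hv0
  intro hcon
  have h1 := LinearMap.congr_fun hcon y
  rw [tv_apply, LinearMap.id_apply, add_eq_left, smul_eq_zero] at h1
  rcases h1 with h1 | h1
  · exact hy h1
  · exact hv0 h1

theorem sg_ne_id (h : F2 F) (Q : QuadraticForm F V) {U : Submodule F V} (hU : ND Q U) {p p' : V}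
    (hp : p ∈ U) (hp0 : p ≠ 0) (hp'0 : p' ≠ 0) (hne : p ≠ p') : sg Q p p' ≠ LinearMap.id := by
  obtain ⟨y, _, hy⟩ := exists_pol_ne Q hU hp hp0
  have hy1 := h.eq_one hy
  intro hcon
  have h1 := LinearMap.congr_fun hcon y
  rw [sg_apply, LinearMap.id_apply, add_assoc, add_eq_left, hy1, one_smul] at h1
  rcases h (pol (⇑Q) p' y) with h2 | h2
  · rw [h2, zero_smul, add_zero] at h1
    exact hp'0 h1
  · rw [h2, one_smul] at h1
    apply hne
    have h3 : p = -p' := eq_neg_of_add_eq_zero_right h1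
    rw [h3, h.vneg]

theorem exists_min_finrank [FiniteDimensional F V] (s : Set (Submodule F V)) (hs : s.Nonempty) :
    ∃ X ∈ s, ∀ Y ∈ s, finrank F X ≤ finrank F Y := by
  classical
  have hex : ∃ k, ∃ X ∈ s, finrank F X = k := by
    obtain ⟨X, hX⟩ := hs
    exact ⟨_, X, hX, rfl⟩
  obtain ⟨X, hX, hk⟩ := Nat.find_spec hex
  refine ⟨X, hX, fun Y hY => ?_⟩
  rw [hk]
  exact Nat.find_min' hex ⟨Y, hY, rfl⟩

theorem common_point [FiniteDimensional F V] (S : Set (Submodule F V)) (hc : IsChain (· ≤ ·) S)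
    (hex : ∃ Y ∈ S, Y ≠ ⊥) : ∃ p : V, p ≠ 0 ∧ (∃ Y ∈ S, p ∈ Y) ∧ ∀ Y ∈ S, Y ≠ ⊥ → p ∈ Y := by
  obtain ⟨X, ⟨hXS, hX0⟩, hmin⟩ := exists_min_finrank {Y | Y ∈ S ∧ Y ≠ ⊥} hex
  obtain ⟨p, hpX, hp0⟩ := Submodule.exists_mem_ne_zero_of_ne_bot hX0
  refine ⟨p, hp0, ⟨X, hXS, hpX⟩, ?_⟩
  intro Y hY hY0
  rcases hc.total hXS hY with h1 | h1
  · exact h1 hpX
  · have h2 := hmin Y ⟨hY, hY0⟩
    have h3 := Submodule.eq_of_le_of_finrank_le h1 h2
    rw [h3]
    exact hpX

/-- the conclusion of the common-stabiliser theorem -/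
def Good (Q : QuadraticForm F V) (U : Submodule F V) (A : Set (Submodule F V))
    (g : V →ₗ[F] V) : Prop :=
  g ∘ₗ g = LinearMap.id ∧ g ≠ LinearMap.id ∧ (∀ x, Q (g x) = Q x) ∧
    (∀ x, Perp Q U x → g x = x) ∧ ∀ Y ∈ A, ∀ y ∈ Y, g y ∈ Y

theorem finrank_sup_span_le [FiniteDimensional F V] (W : Submodule F V) (v : V) :
    finrank F ↥(W ⊔ Submodule.span F {v}) ≤ finrank F W + 1 := by
  have h1 := Submodule.finrank_add_le_finrank_add_finrank W (Submodule.span F {v})
  have h3 : finrank F (Submodule.span F ({v} : Set V)) ≤ 1 := by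
    have h4 := finrank_span_finset_le_card (R := F) ({v} : Finset V)
    rw [Finset.coe_singleton, Finset.card_singleton] at h4
    exact h4
  omega

/-- the hypotheses on the two chains -/
def Hyp (Q : QuadraticForm F V) (U : Submodule F V) (A : Set (Submodule F V)) : Prop :=
  ∀ Y ∈ A, Y ≤ U ∧ TS Q Y ∧ 2 * finrank F Y + 2 ≤ finrank F U

theorem reduce [FiniteDimensional F V] (h : F2 F) (Q : QuadraticForm F V) (U : Submodule F V)
    (hU : ND Q U) (S S' : Set (Submodule F V)) (hc : IsChain (· ≤ ·) S)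
    (hc' : IsChain (· ≤ ·) S') (hmem : Hyp Q U (S ∪ S'))
    (hex : ∃ Y ∈ S ∪ S', Y ≠ ⊥) (p q : V) (hp : p ∈ U) (hq : q ∈ U) (hQp : Q p = 0)
    (hQq : Q q = 0) (hpq : pol (⇑Q) p q = 1)
    (hcov : ∀ Y ∈ S ∪ S', Y ≠ ⊥ → p ∈ Y ∨ q ∈ Y)
    (IH : ∀ U' : Submodule F V, finrank F U' < finrank F U → U' ≠ ⊥ → ND Q U' →
      ∀ T T' : Set (Submodule F V), IsChain (· ≤ ·) T → IsChain (· ≤ ·) T' →
        Hyp Q U' (T ∪ T') → ∃ g, Good Q U' (T ∪ T') g) :
    ∃ g, Good Q U (S ∪ S') g := by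
  have hqp : pol (⇑Q) q p = 1 := by rw [QuadraticMap.polar_comm]; exact hpq
  have hpp := pol_self h Q p
  have hqq := pol_self h Q q
  obtain ⟨K, hK⟩ : ∃ K : Submodule F V, K = LinearMap.ker (QuadraticMap.polarBilin Q p) ⊓
      LinearMap.ker (QuadraticMap.polarBilin Q q) := ⟨_, rfl⟩
  have memK : ∀ x, x ∈ K ↔ pol (⇑Q) p x = 0 ∧ pol (⇑Q) q x = 0 := by
    intro x
    rw [hK, Submodule.mem_inf, LinearMap.mem_ker, LinearMap.mem_ker,
      QuadraticMap.polarBilin_apply_apply, QuadraticMap.polarBilin_apply_apply]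
  obtain ⟨U₁, hU₁⟩ : ∃ U₁ : Submodule F V, U₁ = U ⊓ K := ⟨_, rfl⟩
  -- decomposition of U
  have hdec : ∀ u ∈ U, u + pol (⇑Q) q u • p + pol (⇑Q) p u • q ∈ U₁ := by
    intro u hu
    rw [hU₁, Submodule.mem_inf, memK]
    refine ⟨U.add_mem (U.add_mem hu (U.smul_mem _ hp)) (U.smul_mem _ hq), ?_, ?_⟩
    · simp only [QuadraticMap.polar_add_right, QuadraticMap.polar_smul_right, hpp, hpq,
        smul_eq_mul, mul_zero, mul_one, add_zero]
      exact h.add_self _
    · simp only [QuadraticMap.polar_add_right, QuadraticMap.polar_smul_right, hqq, hqp,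
        smul_eq_mul, mul_zero, mul_one, add_zero]
      exact h.add_self _
  have hUle : U ≤ (U₁ ⊔ Submodule.span F {p}) ⊔ Submodule.span F {q} := by
    intro u hu
    have e : u = (u + pol (⇑Q) q u • p + pol (⇑Q) p u • q) + pol (⇑Q) q u • p
        + pol (⇑Q) p u • q := by
      have e1 : (u + pol (⇑Q) q u • p + pol (⇑Q) p u • q) + pol (⇑Q) q u • p
        + pol (⇑Q) p u • q = u + (pol (⇑Q) q u • p + pol (⇑Q) q u • p)
          + (pol (⇑Q) p u • q + pol (⇑Q) p u • q) := by abel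
      rw [e1, h.vadd_self, h.vadd_self, add_zero, add_zero]
    rw [e]
    exact Submodule.add_mem _ (Submodule.mem_sup_left (Submodule.add_mem _
      (Submodule.mem_sup_left (hdec u hu))
      (Submodule.mem_sup_right (Submodule.smul_mem _ _ (Submodule.mem_span_singleton_self p)))))
      (Submodule.mem_sup_right (Submodule.smul_mem _ _ (Submodule.mem_span_singleton_self q)))
  have hfr : finrank F U ≤ finrank F U₁ + 2 := by
    have h1 := Submodule.finrank_mono hUle
    have h2 := finrank_sup_span_le (U₁ ⊔ Submodule.span F {p}) q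
    have h3 := finrank_sup_span_le U₁ p
    omega
  have hU₁le : U₁ ≤ U := by rw [hU₁]; exact inf_le_left
  have hU₁lt : finrank F U₁ < finrank F U := by
    apply Submodule.finrank_lt_finrank_of_lt
    apply lt_of_le_of_ne hU₁le
    intro hcon
    have h1 : p ∈ U₁ := by rw [hcon]; exact hp
    rw [hU₁, Submodule.mem_inf, memK] at h1
    rw [h1.2.2] at hqp
    exact zero_ne_one hqp
  obtain ⟨Y₀, hY₀, hY₀0⟩ := hex
  have hY₀r : 1 ≤ finrank F Y₀ := by
    rw [Nat.succ_le_iff, finrank_pos_iff]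
    exact Submodule.nontrivial_iff_ne_bot.mpr hY₀0
  have hU4 := (hmem Y₀ hY₀).2.2
  have hU₁0 : U₁ ≠ ⊥ := by
    intro hcon
    rw [hcon, finrank_bot] at hfr
    omega
  have hU₁nd : ND Q U₁ := by
    intro x hx hperp
    have hxU := hU₁le hx
    have hxK : pol (⇑Q) p x = 0 ∧ pol (⇑Q) q x = 0 := by
      rw [hU₁, Submodule.mem_inf, memK] at hx
      exact hx.2
    apply hU x hxU
    intro u hu
    have h1 := hperp _ (hdec u hu)
    simp only [QuadraticMap.polar_add_left, QuadraticMap.polar_smul_left, hxK.1, hxK.2,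
      smul_zero, add_zero] at h1
    exact h1
  -- the new chains
  have hmono : ∀ X Y : Submodule F V, X ≤ Y → X ⊓ K ≤ Y ⊓ K :=
    fun X Y hXY => inf_le_inf_right K hXY
  have hcT : IsChain (· ≤ ·) ((fun Y => Y ⊓ K) '' S) := hc.image_of_map_rel _ _ _ hmono
  have hcT' : IsChain (· ≤ ·) ((fun Y => Y ⊓ K) '' S') := hc'.image_of_map_rel _ _ _ hmono
  have himg : ∀ Y, Y ∈ ((fun Y => Y ⊓ K) '' S) ∪ ((fun Y => Y ⊓ K) '' S') ↔
      ∃ Z ∈ S ∪ S', Y = Z ⊓ K := by
    intro Y
    constructor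
    · rintro (⟨Z, hZ, rfl⟩ | ⟨Z, hZ, rfl⟩)
      · exact ⟨Z, Or.inl hZ, rfl⟩
      · exact ⟨Z, Or.inr hZ, rfl⟩
    · rintro ⟨Z, hZ | hZ, rfl⟩
      · exact Or.inl ⟨Z, hZ, rfl⟩
      · exact Or.inr ⟨Z, hZ, rfl⟩
  have hhyp : Hyp Q U₁ (((fun Y => Y ⊓ K) '' S) ∪ ((fun Y => Y ⊓ K) '' S')) := by
    intro Y hY
    rw [himg] at hY
    obtain ⟨Z, hZ, rfl⟩ := hY
    obtain ⟨hZU, hZts, hZr⟩ := hmem Z hZ
    refine ⟨?_, hZts.mono inf_le_left, ?_⟩
    · rw [hU₁]
      exact inf_le_inf_right K hZU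
    · by_cases hZ0 : Z = ⊥
      · rw [hZ0, bot_inf_eq, finrank_bot]
        omega
      · have hlt : finrank F ↥(Z ⊓ K) < finrank F Z := by
          apply Submodule.finrank_lt_finrank_of_lt
          apply lt_of_le_of_ne inf_le_left
          intro hcon
          rcases hcov Z hZ hZ0 with h1 | h1
          · rw [← hcon, Submodule.mem_inf, memK] at h1
            rw [h1.2.2] at hqp
            exact zero_ne_one hqp
          · rw [← hcon, Submodule.mem_inf, memK] at h1
            rw [h1.2.1] at hpq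
            exact zero_ne_one hpq
        omega
  obtain ⟨g, hg1, hg2, hg3, hg4, hg5⟩ := IH U₁ hU₁lt hU₁0 hU₁nd _ _ hcT hcT' hhyp
  have hgp : g p = p := by
    apply hg4
    intro u hu
    rw [hU₁, Submodule.mem_inf, memK] at hu
    rw [QuadraticMap.polar_comm]
    exact hu.2.1
  have hgq : g q = q := by
    apply hg4
    intro u hu
    rw [hU₁, Submodule.mem_inf, memK] at hu
    rw [QuadraticMap.polar_comm]
    exact hu.2.2
  refine ⟨g, hg1, hg2, hg3, ?_, ?_⟩
  · intro x hx
    apply hg4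
    intro u hu
    exact hx u (hU₁le hu)
  · intro Y hY y hy
    obtain ⟨hYU, hYts, _⟩ := hmem Y hY
    by_cases hY0 : Y = ⊥
    · rw [hY0, Submodule.mem_bot] at hy
      rw [hy, map_zero]
      exact Submodule.zero_mem _
    have hYK : ∀ z ∈ Y ⊓ K, g z ∈ Y := by
      intro z hz
      have h1 := hg5 (Y ⊓ K) ((himg _).mpr ⟨Y, hY, rfl⟩) z hz
      exact h1.1
    rcases hcov Y hY hY0 with hr | hr
    · -- p ∈ Y
      have hz : y + pol (⇑Q) q y • p ∈ Y ⊓ K := by
        rw [Submodule.mem_inf, memK]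
        refine ⟨Y.add_mem hy (Y.smul_mem _ hr), ?_, ?_⟩
        · rw [QuadraticMap.polar_add_right, QuadraticMap.polar_smul_right, hpp, smul_zero,
            add_zero]
          exact hYts.polar_eq_zero hr hy
        · rw [QuadraticMap.polar_add_right, QuadraticMap.polar_smul_right, hqp, smul_eq_mul,
            mul_one]
          exact h.add_self _
      have h1 := hYK _ hz
      rw [map_add, map_smul, hgp] at h1
      have e : g y = (g y + pol (⇑Q) q y • p) + pol (⇑Q) q y • p := by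
        rw [add_assoc, h.vadd_self, add_zero]
      rw [e]
      exact Y.add_mem h1 (Y.smul_mem _ hr)
    · -- q ∈ Y
      have hz : y + pol (⇑Q) p y • q ∈ Y ⊓ K := by
        rw [Submodule.mem_inf, memK]
        refine ⟨Y.add_mem hy (Y.smul_mem _ hr), ?_, ?_⟩
        · rw [QuadraticMap.polar_add_right, QuadraticMap.polar_smul_right, hpq, smul_eq_mul,
            mul_one]
          exact h.add_self _
        · rw [QuadraticMap.polar_add_right, QuadraticMap.polar_smul_right, hqq, smul_zero,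
            add_zero]
          exact hYts.polar_eq_zero hr hy
      have h1 := hYK _ hz
      rw [map_add, map_smul, hgq] at h1
      have e : g y = (g y + pol (⇑Q) p y • q) + pol (⇑Q) p y • q := by
        rw [add_assoc, h.vadd_self, add_zero]
      rw [e]
      exact Y.add_mem h1 (Y.smul_mem _ hr)

theorem caseB [FiniteDimensional F V] (h : F2 F) (Q : QuadraticForm F V) (U : Submodule F V)
    (hU : ND Q U) (S S' : Set (Submodule F V)) (hc : IsChain (· ≤ ·) S)
    (hc' : IsChain (· ≤ ·) S') (hmem : Hyp Q U (S ∪ S'))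
    (p : V) (hp0 : p ≠ 0) (hpm : ∃ Y ∈ S ∪ S', p ∈ Y)
    (hcov : ∀ Y ∈ S ∪ S', Y ≠ ⊥ → p ∈ Y)
    (IH : ∀ U' : Submodule F V, finrank F U' < finrank F U → U' ≠ ⊥ → ND Q U' →
      ∀ T T' : Set (Submodule F V), IsChain (· ≤ ·) T → IsChain (· ≤ ·) T' →
        Hyp Q U' (T ∪ T') → ∃ g, Good Q U' (T ∪ T') g) :
    ∃ g, Good Q U (S ∪ S') g := by
  obtain ⟨Y₀, hY₀, hpY₀⟩ := hpm
  obtain ⟨hY₀U, hY₀ts, _⟩ := hmem Y₀ hY₀
  have hpU : p ∈ U := hY₀U hpY₀
  have hQp : Q p = 0 := hY₀ts p hpY₀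
  obtain ⟨q, hqU, hQq, hpq⟩ := exists_partner h Q hU hpU hp0 hQp
  have hY₀0 : Y₀ ≠ ⊥ := by
    intro hcon
    rw [hcon, Submodule.mem_bot] at hpY₀
    exact hp0 hpY₀
  exact reduce h Q U hU S S' hc hc' hmem ⟨Y₀, hY₀, hY₀0⟩ p q hpU hqU hQp hQq hpq
    (fun Y hY hY0 => Or.inl (hcov Y hY hY0)) IH

theorem T_main [FiniteDimensional F V] (h : F2 F) (Q : QuadraticForm F V) :
    ∀ (d : ℕ) (U : Submodule F V), finrank F U = d → U ≠ ⊥ → ND Q U →
      ∀ S S' : Set (Submodule F V), IsChain (· ≤ ·) S → IsChain (· ≤ ·) S' →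
        Hyp Q U (S ∪ S') → ∃ g, Good Q U (S ∪ S') g := by
  intro d
  induction d using Nat.strong_induction_on with
  | _ d ih =>
  intro U hd hne hU S S' hc hc' hmem
  have IH : ∀ U' : Submodule F V, finrank F U' < finrank F U → U' ≠ ⊥ → ND Q U' →
      ∀ T T' : Set (Submodule F V), IsChain (· ≤ ·) T → IsChain (· ≤ ·) T' →
        Hyp Q U' (T ∪ T') → ∃ g, Good Q U' (T ∪ T') g := by
    intro U' hlt
    exact ih _ (hd ▸ hlt) U' rfl
  by_cases h1 : ∃ Y ∈ S, Y ≠ ⊥
  · obtain ⟨p, hp0, ⟨Yp, hYp, hpYp⟩, hpc⟩ := common_point S hc h1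
    by_cases h2 : ∃ Y ∈ S', Y ≠ ⊥
    · obtain ⟨p', hp'0, ⟨Yp', hYp', hp'Yp'⟩, hp'c⟩ := common_point S' hc' h2
      by_cases hpp : p = p'
      · refine caseB h Q U hU S S' hc hc' hmem p hp0 ⟨Yp, Or.inl hYp, hpYp⟩ ?_ IH
        rintro Y (hY | hY) hY0
        · exact hpc Y hY hY0
        · rw [hpp]
          exact hp'c Y hY hY0
      · obtain ⟨hYpU, hYpts, _⟩ := hmem Yp (Or.inl hYp)
        obtain ⟨hYp'U, hYp'ts, _⟩ := hmem Yp' (Or.inr hYp')
        have hpU : p ∈ U := hYpU hpYp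
        have hp'U : p' ∈ U := hYp'U hp'Yp'
        have hQp : Q p = 0 := hYpts p hpYp
        have hQp' : Q p' = 0 := hYp'ts p' hp'Yp'
        by_cases hB : pol (⇑Q) p p' = 0
        · -- Siegel element
          have hB' : pol (⇑Q) p' p = 0 := by rw [QuadraticMap.polar_comm]; exact hB
          refine ⟨sg Q p p', sg_invol h Q p p' hB, sg_ne_id h Q hU hpU hp0 hp'0 hpp,
            sg_iso h Q p p' hQp hQp' hB, ?_, ?_⟩
          · intro x hx
            rw [sg_apply, hx p hpU, hx p' hp'U, zero_smul, zero_smul, add_zero, add_zero]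
          · rintro Y (hY | hY) y hy
            · by_cases hY0 : Y = ⊥
              · rw [hY0, Submodule.mem_bot] at hy
                rw [hy, map_zero]
                exact Submodule.zero_mem _
              · have hpY := hpc Y hY hY0
                have hYts := (hmem Y (Or.inl hY)).2.1
                rw [sg_apply, hYts.polar_eq_zero hpY hy, zero_smul, add_zero]
                exact Y.add_mem hy (Y.smul_mem _ hpY)
            · by_cases hY0 : Y = ⊥
              · rw [hY0, Submodule.mem_bot] at hy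
                rw [hy, map_zero]
                exact Submodule.zero_mem _
              · have hpY := hp'c Y hY hY0
                have hYts := (hmem Y (Or.inr hY)).2.1
                rw [sg_apply, hYts.polar_eq_zero hpY hy, zero_smul, add_zero]
                exact Y.add_mem hy (Y.smul_mem _ hpY)
        · have hB1 := h.eq_one hB
          have hYp0 : Yp ≠ ⊥ := by
            intro hcon
            rw [hcon, Submodule.mem_bot] at hpYp
            exact hp0 hpYp
          refine reduce h Q U hU S S' hc hc' hmem ⟨Yp, Or.inl hYp, hYp0⟩ p p' hpU hp'U hQp hQp'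
            hB1 ?_ IH
          rintro Y (hY | hY) hY0
          · exact Or.inl (hpc Y hY hY0)
          · exact Or.inr (hp'c Y hY hY0)
    · refine caseB h Q U hU S S' hc hc' hmem p hp0 ⟨Yp, Or.inl hYp, hpYp⟩ ?_ IH
      rintro Y (hY | hY) hY0
      · exact hpc Y hY hY0
      · exact absurd ⟨Y, hY, hY0⟩ h2
  · by_cases h2 : ∃ Y ∈ S', Y ≠ ⊥
    · obtain ⟨p', hp'0, ⟨Yp', hYp', hp'Yp'⟩, hp'c⟩ := common_point S' hc' h2
      refine caseB h Q U hU S S' hc hc' hmem p' hp'0 ⟨Yp', Or.inr hYp', hp'Yp'⟩ ?_ IH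
      rintro Y (hY | hY) hY0
      · exact absurd ⟨Y, hY, hY0⟩ h1
      · exact hp'c Y hY hY0
    · -- all members trivial: a transvection
      obtain ⟨v, hvU, hQv⟩ := exists_nonsing h Q hU hne
      have hv0 : v ≠ 0 := by
        intro hcon
        rw [hcon, map_zero] at hQv
        exact zero_ne_one hQv
      refine ⟨tv Q v, tv_invol h Q v, tv_ne_id Q hU hvU hv0, tv_iso h Q v hQv, ?_, ?_⟩
      · intro x hx
        rw [tv_apply, hx v hvU, zero_smul, add_zero]
      · intro Y hY y hy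
        have hY0 : Y = ⊥ := by
          by_contra hcon
          rcases hY with hY | hY
          · exact h1 ⟨Y, hY, hcon⟩
          · exact h2 ⟨Y, hY, hcon⟩
        rw [hY0, Submodule.mem_bot] at hy
        rw [hy, map_zero]
        exact Submodule.zero_mem _

end Cfsg.Agent.Lib.Helper28.SylO
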