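import Mathlib
import Cfsg.Agent.Lib.Helper28.SylOA

set_option autoImplicit false

namespace Cfsg.Agent.Lib.Helper28.SylO

open Module Cfsg.Agent.Lib.Helper16

variable {F V : Type*} [Field F] [AddCommGroup V] [Module F V]

local notation "pol" => QuadraticMap.polar

/-- a flag of totally singular subspaces `S 0 < S 1 < ... < S k`, `dim S j = j` -/
structure Flag (Q : QuadraticForm F V) (k : ℕ) (S : ℕ → Submodule F V) : Prop where
  mono : ∀ j, j < k → S j ≤ S (j + 1)
  rank : ∀ j, j ≤ k → finrank F (S j) = j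
  ts : TS Q (S k)

/-- `g` stabilises every member of the flag -/
def Stab (g : V →ₗ[F] V) (k : ℕ) (S : ℕ → Submodule F V) : Prop :=
  ∀ j, j ≤ k → ∀ x ∈ S j, g x ∈ S j

theorem Flag.le {Q : QuadraticForm F V} {k : ℕ} {S : ℕ → Submodule F V} (hS : Flag Q k S) :
    ∀ i j, i ≤ j → j ≤ k → S i ≤ S j := by
  intro i j hij
  induction j, hij using Nat.le_induction with
  | base => intro _; exact le_rfl
  | succ j hij ih =>
    intro hj
    exact le_trans (ih (by omega)) (hS.mono j (by omega))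

theorem Flag.ts_mem {Q : QuadraticForm F V} {k : ℕ} {S : ℕ → Submodule F V} (hS : Flag Q k S)
    (j : ℕ) (hj : j ≤ k) : TS Q (S j) :=
  hS.ts.mono (hS.le j k hj le_rfl)

variable [FiniteDimensional F V]

theorem map_eq_of_le {g : V →ₗ[F] V} (hinj : Function.Injective g) (X : Submodule F V)
    (hX : ∀ x ∈ X, g x ∈ X) : X.map g = X := by
  apply Submodule.eq_of_le_of_finrank_le
  · rintro _ ⟨x, hx, rfl⟩
    exact hX x hx
  · rw [← (Submodule.equivMapOfInjective g hinj X).finrank_eq]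

theorem uni (h : F2 F) (g : V →ₗ[F] V) (hinj : Function.Injective g) (X Y : Submodule F V)
    (hXY : X ≤ Y) (hr : finrank F X + 1 = finrank F Y) (hX : ∀ x ∈ X, g x ∈ X)
    (hY : ∀ y ∈ Y, g y ∈ Y) : ∀ y ∈ Y, g y + y ∈ X := by
  have hmap := map_eq_of_le hinj X hX
  have hlt : X < Y := by
    apply lt_of_le_of_ne hXY
    intro hcon
    rw [hcon] at hr
    omega
  obtain ⟨w, hwY, hwX⟩ := SetLike.exists_of_lt hlt
  have hsup := codim_one_sup hXY hr hwY hwX
  have hw : g w + w ∈ X := by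
    have h1 := hY w hwY
    rw [← hsup] at h1
    obtain ⟨x₀, hx₀, z, hz, h2⟩ := Submodule.mem_sup.mp h1
    obtain ⟨c, rfl⟩ := Submodule.mem_span_singleton.mp hz
    rcases h c with hc | hc
    · exfalso
      rw [hc, zero_smul, add_zero] at h2
      have h3 : g w ∈ X.map g := by rw [hmap, ← h2]; exact hx₀
      obtain ⟨x₁, hx₁, h4⟩ := h3
      rw [hinj h4] at hx₁
      exact hwX hx₁
    · rw [hc, one_smul] at h2
      rw [← h2, add_assoc, h.vadd_self, add_zero]
      exact hx₀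
  intro y hy
  rw [← hsup] at hy
  obtain ⟨x, hx, z, hz, rfl⟩ := Submodule.mem_sup.mp hy
  obtain ⟨c, rfl⟩ := Submodule.mem_span_singleton.mp hz
  have e : g (x + c • w) + (x + c • w) = (g x + x) + c • (g w + w) := by
    rw [map_add, map_smul, smul_add]
    abel
  rw [e]
  exact X.add_mem (X.add_mem (hX x hx) hx) (X.smul_mem _ hw)

/-- `g - 1` kills the flag step by step -/
theorem flag_nil (h : F2 F) {Q : QuadraticForm F V} {k : ℕ} {S : ℕ → Submodule F V}
    (hS : Flag Q k S) (g : V →ₗ[F] V) (hinj : Function.Injective g) (hg : Stab g k S) :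
    ∀ j, j ≤ k → ∀ x ∈ S j, ((g + LinearMap.id : Module.End F V) ^ j) x = 0 := by
  intro j
  induction j with
  | zero =>
    intro _ x hx
    have h0 : S 0 = ⊥ := Submodule.finrank_eq_zero.mp (hS.rank 0 (Nat.zero_le _))
    rw [h0, Submodule.mem_bot] at hx
    rw [hx, map_zero]
  | succ j ih =>
    intro hj x hx
    have h1 : g x + x ∈ S j := by
      refine uni h g hinj (S j) (S (j + 1)) (hS.mono j (by omega)) ?_ (hg j (by omega))
        (hg (j + 1) hj) x hx
      rw [hS.rank j (by omega), hS.rank (j + 1) hj]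
    have h2 := ih (by omega) _ h1
    rw [pow_succ, Module.End.mul_apply]
    exact h2

theorem pol_iso {Q : QuadraticForm F V} {g : V →ₗ[F] V} (hg : ∀ x, Q (g x) = Q x) (x y : V) :
    pol (⇑Q) (g x) (g y) = pol (⇑Q) x y := by
  unfold QuadraticMap.polar
  rw [← map_add, hg, hg, hg]

theorem adj_step (Q : QuadraticForm F V) (g g' : V →ₗ[F] V)
    (hgg' : ∀ x, g (g' x) = x) (hg : ∀ x, Q (g x) = Q x) (x y : V) :
    pol (⇑Q) ((g + LinearMap.id : Module.End F V) x) y =
      pol (⇑Q) x ((g' + LinearMap.id : Module.End F V) y) := by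
  rw [LinearMap.add_apply, LinearMap.add_apply, LinearMap.id_apply, LinearMap.id_apply,
    QuadraticMap.polar_add_left, QuadraticMap.polar_add_right]
  congr 1
  have h1 := pol_iso hg x (g' y)
  rw [hgg'] at h1
  exact h1

theorem adj_pow (Q : QuadraticForm F V) (g g' : V →ₗ[F] V)
    (hgg' : ∀ x, g (g' x) = x) (hg : ∀ x, Q (g x) = Q x) (j : ℕ) : ∀ x y : V,
    pol (⇑Q) (((g + LinearMap.id : Module.End F V) ^ j) x) y =
      pol (⇑Q) x (((g' + LinearMap.id : Module.End F V) ^ j) y) := by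
  induction j with
  | zero => intro x y; simp
  | succ j ih =>
    intro x y
    rw [pow_succ', Module.End.mul_apply, adj_step Q g g' hgg' hg, ih, ← Module.End.mul_apply,
      ← pow_succ]

/-- exactly two maximal totally singular subspaces contain `X` -/
def Two (Q : QuadraticForm F V) (k : ℕ) (X : Submodule F V) : Prop :=
  ∃ M₁ M₂ : Submodule F V, M₁ ≠ M₂ ∧ (finrank F M₁ = k + 1 ∧ TS Q M₁ ∧ X ≤ M₁) ∧
    (finrank F M₂ = k + 1 ∧ TS Q M₂ ∧ X ≤ M₂) ∧
    ∀ M : Submodule F V, (finrank F M = k + 1 ∧ TS Q M ∧ X ≤ M) → M = M₁ ∨ M = M₂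

theorem mem_orth_iff (Q : QuadraticForm F V) (X : Submodule F V) (z : V) :
    z ∈ LinearMap.BilinForm.orthogonal (QuadraticMap.polarBilin Q) X ↔ Perp Q X z := by
  rw [LinearMap.BilinForm.mem_orthogonal_iff]
  rfl

theorem sq_perp (h : F2 F) {Q : QuadraticForm F V}
    (hQ : (QuadraticMap.polarBilin Q).Nondegenerate) {k : ℕ}
    (hdim : finrank F V = 2 * (k + 1)) (X : Submodule F V) (hX : finrank F X = k)
    (htwo : Two Q k X) (g : V →ₗ[F] V) (hinj : Function.Injective g)
    (hg : ∀ x, Q (g x) = Q x) (hgX : ∀ x ∈ X, g x ∈ X) :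
    ∀ z, Perp Q X z → g (g z) + z ∈ X := by
  obtain ⟨M₁, M₂, hne, hM₁, hM₂, huniq⟩ := htwo
  have hmapX := map_eq_of_le hinj X hgX
  have hσ : ∀ M : Submodule F V, (finrank F M = k + 1 ∧ TS Q M ∧ X ≤ M) →
      (finrank F ↥(M.map g) = k + 1 ∧ TS Q (M.map g) ∧ X ≤ M.map g) := by
    rintro M ⟨h1, h2, h3⟩
    refine ⟨?_, ?_, ?_⟩
    · rw [← (Submodule.equivMapOfInjective g hinj M).finrank_eq, h1]
    · rintro _ ⟨x, hx, rfl⟩
      rw [hg]
      exact h2 x hx
    · rw [← hmapX]
      exact Submodule.map_mono h3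
  have hσinj := Submodule.map_injective_of_injective (f := g) hinj
  have hsq : (M₁.map g).map g = M₁ ∧ (M₂.map g).map g = M₂ := by
    rcases huniq _ (hσ M₁ hM₁) with h1 | h1
    · rcases huniq _ (hσ M₂ hM₂) with h2 | h2
      · exfalso
        apply hne
        apply hσinj
        rw [h1, h2]
      · constructor <;> simp only [h1, h2]
    · rcases huniq _ (hσ M₂ hM₂) with h2 | h2
      · constructor <;> simp only [h1, h2]
      · exfalso
        apply hne
        apply hσinj
        rw [h1, h2]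
  have hgg : ∀ M : Submodule F V, (finrank F M = k + 1 ∧ TS Q M ∧ X ≤ M) →
      (M.map g).map g = M → ∀ y ∈ M, g (g y) + y ∈ X := by
    rintro M ⟨h1, _, h3⟩ h4 y hy
    have h5 := uni h (g ∘ₗ g) (hinj.comp hinj) X M h3 (by rw [hX, h1])
      (fun x hx => hgX _ (hgX x hx))
      (fun y hy => by
        rw [← h4]
        exact ⟨g y, ⟨y, hy, rfl⟩, rfl⟩) y hy
    exact h5
  -- the orthogonal complement of `X` is `M₁ ⊔ M₂`
  have hle : M₁ ⊔ M₂ ≤ LinearMap.BilinForm.orthogonal (QuadraticMap.polarBilin Q) X := by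
    apply sup_le
    · intro y hy
      rw [mem_orth_iff]
      intro u hu
      exact hM₁.2.1.polar_eq_zero (hM₁.2.2 hu) hy
    · intro y hy
      rw [mem_orth_iff]
      intro u hu
      exact hM₂.2.1.polar_eq_zero (hM₂.2.2 hu) hy
  have hinf : finrank F ↥(M₁ ⊓ M₂) < finrank F M₁ := by
    apply Submodule.finrank_lt_finrank_of_lt
    apply lt_of_le_of_ne inf_le_left
    intro hcon
    apply hne
    have h1 : M₁ ≤ M₂ := by rw [← hcon]; exact inf_le_right
    exact Submodule.eq_of_le_of_finrank_le h1 (by rw [hM₁.1, hM₂.1])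
  have heq : M₁ ⊔ M₂ = LinearMap.BilinForm.orthogonal (QuadraticMap.polarBilin Q) X := by
    apply Submodule.eq_of_le_of_finrank_le hle
    rw [LinearMap.BilinForm.finrank_orthogonal hQ, hdim, hX]
    have h1 := Submodule.finrank_sup_add_finrank_inf_eq M₁ M₂
    rw [hM₁.1, hM₂.1] at h1
    rw [hM₁.1] at hinf
    omega
  intro z hz
  rw [← mem_orth_iff, ← heq] at hz
  obtain ⟨y₁, hy₁, y₂, hy₂, rfl⟩ := Submodule.mem_sup.mp hz
  have e : g (g (y₁ + y₂)) + (y₁ + y₂) = (g (g y₁) + y₁) + (g (g y₂) + y₂) := by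
    rw [map_add, map_add]
    abel
  rw [e]
  exact X.add_mem (hgg M₁ hM₁ hsq.1 y₁ hy₁) (hgg M₂ hM₂ hsq.2 y₂ hy₂)

theorem end_add_self (h : F2 F) (a : Module.End F V) : a + a = 0 := by
  apply LinearMap.ext
  intro x
  rw [LinearMap.add_apply, h.vadd_self, LinearMap.zero_apply]

theorem frob (h : F2 F) (a : Module.End F V) (e : ℕ) : (a + 1) ^ 2 ^ e = a ^ 2 ^ e + 1 := by
  induction e with
  | zero => simp
  | succ e ih =>
    rw [pow_succ, pow_mul, ih, pow_two, pow_mul, pow_two]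
    have e1 : (a ^ 2 ^ e + 1) * (a ^ 2 ^ e + 1)
        = a ^ 2 ^ e * a ^ 2 ^ e + (a ^ 2 ^ e + a ^ 2 ^ e) + 1 := by
      rw [mul_add, add_mul, mul_one, one_mul]
      abel
    rw [e1, end_add_self h, add_zero]

/-- every isometry stabilising the flag has 2-power order -/
theorem flag_two_power (h : F2 F) {Q : QuadraticForm F V}
    (hQ : (QuadraticMap.polarBilin Q).Nondegenerate) {k : ℕ}
    (hdim : finrank F V = 2 * (k + 1)) {S : ℕ → Submodule F V} (hS : Flag Q k S)
    (htwo : Two Q k (S k)) (g g' : V →ₗ[F] V) (hgg' : ∀ x, g (g' x) = x)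
    (hg'g : ∀ x, g' (g x) = x) (hg : ∀ x, Q (g x) = Q x) (hg' : ∀ x, Q (g' x) = Q x)
    (hst : Stab g k S) (hst' : Stab g' k S) :
    ∃ e : ℕ, (g : Module.End F V) ^ 2 ^ e = 1 := by
  have hinj : Function.Injective g := Function.LeftInverse.injective hg'g
  have hinj' : Function.Injective g' := Function.LeftInverse.injective hgg'
  obtain ⟨N, hN⟩ : ∃ N : Module.End F V, N = g + LinearMap.id := ⟨_, rfl⟩
  obtain ⟨N', hN'⟩ : ∃ N' : Module.End F V, N' = g' + LinearMap.id := ⟨_, rfl⟩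
  have h1 : ∀ x ∈ S k, (N ^ k) x = 0 := by
    rw [hN]
    exact flag_nil h hS g hinj hst k le_rfl
  have h1' : ∀ x ∈ S k, (N' ^ k) x = 0 := by
    rw [hN']
    exact flag_nil h hS g' hinj' hst' k le_rfl
  have h2 : ∀ x, Perp Q (S k) ((N ^ k) x) := by
    intro x u hu
    rw [QuadraticMap.polar_comm, hN, adj_pow Q g g' hgg' hg, ← hN', h1' u hu,
      QuadraticMap.polar_zero_right]
  have h3 : ∀ z, Perp Q (S k) z → (N * N) z ∈ S k := by
    intro z hz
    have h4 := sq_perp h hQ hdim (S k) (hS.rank k le_rfl) htwo g hinj hg (hst k le_rfl) z hz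
    have e : (N * N) z = g (g z) + z := by
      rw [hN, Module.End.mul_apply, LinearMap.add_apply, LinearMap.add_apply, LinearMap.id_apply,
        LinearMap.id_apply, map_add]
      have : g (g z) + g z + (g z + z) = g (g z) + (g z + g z) + z := by abel
      rw [this, h.vadd_self, add_zero]
    rw [e]
    exact h4
  have h5 : N ^ (k + 2 + k) = 0 := by
    apply LinearMap.ext
    intro x
    rw [pow_add, pow_add, pow_two, Module.End.mul_apply, Module.End.mul_apply,
      LinearMap.zero_apply]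
    exact h1 _ (h3 _ (h2 x))
  have hgN : (g : Module.End F V) = N + 1 := by
    rw [hN]
    show g = g + 1 + 1
    rw [add_assoc, end_add_self h, add_zero]
  refine ⟨k + 2 + k, ?_⟩
  rw [hgN, frob h]
  have h6 : k + 2 + k ≤ 2 ^ (k + 2 + k) := Nat.lt_two_pow_self.le
  obtain ⟨r, hr⟩ := Nat.exists_eq_add_of_le h6
  rw [hr, pow_add, h5, zero_mul, zero_add]

end Cfsg.Agent.Lib.Helper28.SylO
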