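import Mathlib
import Cfsg.Agent.Lib.Helper28.SylOB

set_option autoImplicit false

namespace Cfsg.Agent.Lib.Helper28.SylO

open Module Cfsg.Agent.Lib.Helper16

variable {F V : Type*} [Field F] [AddCommGroup V] [Module F V]

local notation "pol" => QuadraticMap.polar

/-- a `2`-group acting linearly on a nonzero finite space over the field of two elements
fixes a nonzero vector -/
theorem rep_fix [Finite F] (h : F2 F) {P : Type*} [Group P] (hP : IsPGroup 2 P)
    {W : Type*} [AddCommGroup W] [Module F W] [FiniteDimensional F W] [Nontrivial W]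
    (ρ : Representation F P W) : ∃ w : W, w ≠ 0 ∧ ∀ g, ρ g w = w := by
  haveI : Finite W := Module.finite_of_finite F
  letI : MulAction P W := MulAction.compHom W ρ
  have hcard : 2 ∣ Nat.card W := by
    obtain ⟨x, hx⟩ := exists_ne (0 : W)
    have h1 : addOrderOf x = 2 := by
      apply addOrderOf_eq_prime
      · rw [two_smul]
        exact h.vadd_self x
      · exact hx
    rw [← h1]
    exact addOrderOf_dvd_natCard x
  have h0 : (0 : W) ∈ MulAction.fixedPoints P W := fun g => map_zero (ρ g)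
  obtain ⟨b, hb, hne⟩ := hP.exists_fixed_point_of_prime_dvd_card_of_fixed_point W hcard h0
  exact ⟨b, hne.symm, fun g => hb g⟩

variable [FiniteDimensional F V]

/-- invariance of a subspace -/
def Inv {P : Type*} [Group P] (ρ : Representation F P V) (X : Submodule F V) : Prop :=
  ∀ g, ∀ x ∈ X, ρ g x ∈ X

theorem fix [Finite F] (h : F2 F) {P : Type*} [Group P] (hP : IsPGroup 2 P)
    (ρ : Representation F P V) (X Z : Submodule F V) (hXZ : X < Z) (hX : Inv ρ X)
    (hZ : Inv ρ Z) : ∃ w ∈ Z, w ∉ X ∧ ∀ g, ρ g w + w ∈ X := by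
  obtain ⟨ρZ, hρZ⟩ : ∃ ρZ : Representation F P ↥Z,
      ρZ = ρ.subrepresentation Z (fun g z hz => hZ g z hz) := ⟨_, rfl⟩
  obtain ⟨X', hX'⟩ : ∃ X' : Submodule F ↥Z, X' = X.comap Z.subtype := ⟨_, rfl⟩
  have memX' : ∀ z : ↥Z, z ∈ X' ↔ (z : V) ∈ X := by
    intro z
    rw [hX', Submodule.mem_comap, Submodule.subtype_apply]
  have hle : ∀ g, X' ≤ X'.comap (ρZ g) := by
    intro g z hz
    rw [Submodule.mem_comap, memX', hρZ]
    exact hX g _ ((memX' z).mp hz)
  obtain ⟨ρq, hρq⟩ : ∃ ρq : Representation F P (↥Z ⧸ X'), ρq = ρZ.quotient X' hle := ⟨_, rfl⟩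
  haveI : Nontrivial (↥Z ⧸ X') := by
    rw [Submodule.Quotient.nontrivial_iff]
    intro hcon
    obtain ⟨w, hwZ, hwX⟩ := SetLike.exists_of_lt hXZ
    apply hwX
    have h1 : (⟨w, hwZ⟩ : ↥Z) ∈ X' := by rw [hcon]; exact Submodule.mem_top
    exact (memX' _).mp h1
  obtain ⟨wq, hwq0, hwq⟩ := rep_fix h hP ρq
  obtain ⟨⟨w, hwZ⟩, rfl⟩ := Submodule.Quotient.mk_surjective X' wq
  refine ⟨w, hwZ, ?_, ?_⟩
  · intro hcon
    apply hwq0
    rw [Submodule.Quotient.mk_eq_zero, memX']
    exact hcon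
  · intro g
    have h1 := hwq g
    rw [hρq, Representation.quotient_apply, Submodule.mapQ_apply, Submodule.Quotient.eq, memX',
      hρZ] at h1
    have h2 : ρ g w - w ∈ X := h1
    rw [h.vsub] at h2
    exact h2

theorem inv_orth {P : Type*} [Group P] {Q : QuadraticForm F V} (ρ : Representation F P V)
    (hiso : ∀ g x, Q (ρ g x) = Q x) (X : Submodule F V) (hX : Inv ρ X) :
    Inv ρ (LinearMap.BilinForm.orthogonal (QuadraticMap.polarBilin Q) X) := by
  intro g z hz
  rw [mem_orth_iff] at hz ⊢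
  intro u hu
  have h1 : ρ g (ρ g⁻¹ u) = u := by
    rw [← Module.End.mul_apply, ← map_mul, mul_inv_cancel, map_one, Module.End.one_apply]
  rw [← h1, pol_iso (hiso g)]
  exact hz _ (hX g⁻¹ u hu)

theorem step [Finite F] (h : F2 F) {P : Type*} [Group P] (hP : IsPGroup 2 P)
    {Q : QuadraticForm F V} (hQ : (QuadraticMap.polarBilin Q).Nondegenerate)
    (ρ : Representation F P V) (hiso : ∀ g x, Q (ρ g x) = Q x) {m : ℕ}
    (hdim : finrank F V = 2 * m) (X : Submodule F V) (hXts : TS Q X) (hXinv : Inv ρ X)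
    (hXr : finrank F X + 2 ≤ m) :
    ∃ u, Q u = 0 ∧ Perp Q X u ∧ u ∉ X ∧ ∀ g, ρ g u + u ∈ X := by
  obtain ⟨Z, hZ⟩ : ∃ Z : Submodule F V,
      Z = LinearMap.BilinForm.orthogonal (QuadraticMap.polarBilin Q) X := ⟨_, rfl⟩
  have hZinv : Inv ρ Z := by rw [hZ]; exact inv_orth ρ hiso X hXinv
  have hXZ : X < Z := by
    apply lt_of_le_of_ne
    · rw [hZ]; exact hXts.le_orthogonal
    · intro hcon
      have h1 : finrank F Z = 2 * m - finrank F X := by
        rw [hZ, LinearMap.BilinForm.finrank_orthogonal hQ, hdim]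
      rw [← hcon] at h1
      omega
  obtain ⟨v, hvZ, hvX, hv⟩ := fix h hP ρ X Z hXZ hXinv hZinv
  have hvperp : Perp Q X v := by
    rw [hZ, mem_orth_iff] at hvZ
    exact hvZ
  by_cases hQv : Q v = 0
  · exact ⟨v, hQv, hvperp, hvX, hv⟩
  have hQv1 := h.eq_one hQv
  obtain ⟨X₁, hX₁⟩ : ∃ X₁ : Submodule F V, X₁ = X ⊔ Submodule.span F {v} := ⟨_, rfl⟩
  have memX₁ : ∀ a, a ∈ X₁ ↔ ∃ x ∈ X, ∃ c : F, a = x + c • v := by
    intro a
    rw [hX₁, Submodule.mem_sup]
    constructor
    · rintro ⟨x, hx, z, hz, rfl⟩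
      obtain ⟨c, rfl⟩ := Submodule.mem_span_singleton.mp hz
      exact ⟨x, hx, c, rfl⟩
    · rintro ⟨x, hx, c, rfl⟩
      exact ⟨x, hx, c • v, Submodule.smul_mem _ _ (Submodule.mem_span_singleton_self v), rfl⟩
  have hXX₁ : X ≤ X₁ := by rw [hX₁]; exact le_sup_left
  have hvX₁ : v ∈ X₁ := by
    rw [hX₁]
    exact Submodule.mem_sup_right (Submodule.mem_span_singleton_self v)
  have hX₁inv : Inv ρ X₁ := by
    intro g a ha
    obtain ⟨x, hx, c, rfl⟩ := (memX₁ a).mp ha
    rw [memX₁]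
    refine ⟨ρ g x + c • (ρ g v + v), X.add_mem (hXinv g x hx) (X.smul_mem _ (hv g)), c, ?_⟩
    rw [map_add, map_smul, smul_add, add_assoc, add_assoc, h.vadd_self, add_zero]
  obtain ⟨Z₁, hZ₁⟩ : ∃ Z₁ : Submodule F V,
      Z₁ = LinearMap.BilinForm.orthogonal (QuadraticMap.polarBilin Q) X₁ := ⟨_, rfl⟩
  have hZ₁inv : Inv ρ Z₁ := by rw [hZ₁]; exact inv_orth ρ hiso X₁ hX₁inv
  have hX₁Z₁ : X₁ < Z₁ := by
    apply lt_of_le_of_ne
    · intro a ha
      rw [hZ₁, mem_orth_iff]
      intro b hb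
      obtain ⟨x, hx, c, rfl⟩ := (memX₁ a).mp ha
      obtain ⟨x', hx', c', rfl⟩ := (memX₁ b).mp hb
      have e1 : pol (⇑Q) v x = 0 := by
        rw [QuadraticMap.polar_comm]; exact hvperp x hx
      simp only [QuadraticMap.polar_add_left, QuadraticMap.polar_add_right,
        QuadraticMap.polar_smul_left, QuadraticMap.polar_smul_right, pol_self h,
        hXts.polar_eq_zero hx' hx, hvperp x' hx', e1, smul_zero, add_zero]
    · intro hcon
      have h1 : finrank F Z₁ = 2 * m - finrank F X₁ := by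
        rw [hZ₁, LinearMap.BilinForm.finrank_orthogonal hQ, hdim]
      rw [← hcon] at h1
      have h2 : finrank F X₁ ≤ finrank F X + 1 := by
        rw [hX₁]; exact finrank_sup_span_le X v
      omega
  obtain ⟨w, hwZ₁, hwX₁, hw⟩ := fix h hP ρ X₁ Z₁ hX₁Z₁ hX₁inv hZ₁inv
  have hwperp : Perp Q X₁ w := by
    rw [hZ₁, mem_orth_iff] at hwZ₁
    exact hwZ₁
  have hwv : pol (⇑Q) w v = 0 := by
    rw [QuadraticMap.polar_comm]; exact hwperp v hvX₁
  have hw' : ∀ g, ρ g w + w ∈ X := by
    intro g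
    obtain ⟨x, hx, c, hxc⟩ := (memX₁ _).mp (hw g)
    have e1 : ρ g w = w + (x + c • v) := by
      rw [← hxc, add_comm (ρ g w) w, ← add_assoc, h.vadd_self, zero_add]
    have h1 := hiso g w
    rw [e1, Q_add, Q_add, QuadraticMap.map_smul, hXts x hx, hQv1,
      QuadraticMap.polar_smul_right, hvperp x hx, QuadraticMap.polar_comm (⇑Q) w,
      hwperp _ ((memX₁ _).mpr ⟨x, hx, c, rfl⟩)] at h1
    have h2 : c * c = 0 := by
      simp only [smul_eq_mul, mul_zero, mul_one, add_zero, zero_add] at h1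
      linear_combination h1
    have hc : c = 0 := by
      rcases mul_eq_zero.mp h2 with h3 | h3 <;> exact h3
    rw [hxc, hc, zero_smul, add_zero]
    exact hx
  have hwperpX : Perp Q X w := fun u hu => hwperp u (hXX₁ hu)
  by_cases hQw : Q w = 0
  · exact ⟨w, hQw, hwperpX, fun hcon => hwX₁ (hXX₁ hcon), hw'⟩
  have hQw1 := h.eq_one hQw
  refine ⟨w + v, ?_, ?_, ?_, ?_⟩
  · rw [Q_add, hQw1, hQv1, hwv, add_zero]
    exact h.two
  · intro u hu
    rw [QuadraticMap.polar_add_right, hwperpX u hu, hvperp u hu, add_zero]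
  · intro hcon
    apply hwX₁
    rw [memX₁]
    refine ⟨w + v, hcon, 1, ?_⟩
    rw [one_smul, add_assoc, h.vadd_self, add_zero]
  · intro g
    have e : ρ g (w + v) + (w + v) = (ρ g w + w) + (ρ g v + v) := by
      rw [map_add]; abel
    rw [e]
    exact X.add_mem (hw' g) (hv g)

theorem extend [Finite F] (h : F2 F) {P : Type*} [Group P] (hP : IsPGroup 2 P)
    {Q : QuadraticForm F V} (hQ : (QuadraticMap.polarBilin Q).Nondegenerate)
    (ρ : Representation F P V) (hiso : ∀ g x, Q (ρ g x) = Q x) {m : ℕ}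
    (hdim : finrank F V = 2 * m) (X : Submodule F V) (hXts : TS Q X) (hXinv : Inv ρ X)
    (hXr : finrank F X + 2 ≤ m) :
    ∃ Y : Submodule F V, X ≤ Y ∧ TS Q Y ∧ Inv ρ Y ∧ finrank F Y = finrank F X + 1 := by
  obtain ⟨u, hQu, huperp, huX, hu⟩ := step h hP hQ ρ hiso hdim X hXts hXinv hXr
  refine ⟨X ⊔ Submodule.span F {u}, le_sup_left, ?_, ?_, ?_⟩
  · apply hXts.sup (TS.span_singleton hQu)
    intro x hx z hz
    obtain ⟨c, rfl⟩ := Submodule.mem_span_singleton.mp hz
    rw [QuadraticMap.polar_smul_right, huperp x hx, smul_zero]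
  · intro g a ha
    obtain ⟨x, hx, z, hz, rfl⟩ := Submodule.mem_sup.mp ha
    obtain ⟨c, rfl⟩ := Submodule.mem_span_singleton.mp hz
    have e : ρ g (x + c • u) = (ρ g x + c • (ρ g u + u)) + c • u := by
      rw [map_add, map_smul, smul_add, add_assoc, add_assoc, h.vadd_self, add_zero]
    rw [e]
    exact Submodule.add_mem _
      (Submodule.mem_sup_left (X.add_mem (hXinv g x hx) (X.smul_mem _ (hu g))))
      (Submodule.mem_sup_right (Submodule.smul_mem _ _ (Submodule.mem_span_singleton_self u)))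
  · have h1 := finrank_sup_span_le X u
    have h2 : finrank F X < finrank F ↥(X ⊔ Submodule.span F {u}) := by
      apply Submodule.finrank_lt_finrank_of_lt
      apply lt_of_le_of_ne le_sup_left
      intro hcon
      apply huX
      rw [hcon]
      exact Submodule.mem_sup_right (Submodule.mem_span_singleton_self u)
    omega

theorem exists_flag [Finite F] (h : F2 F) {P : Type*} [Group P] (hP : IsPGroup 2 P)
    {Q : QuadraticForm F V} (hQ : (QuadraticMap.polarBilin Q).Nondegenerate)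
    (ρ : Representation F P V) (hiso : ∀ g x, Q (ρ g x) = Q x) {m : ℕ}
    (hdim : finrank F V = 2 * m) :
    ∀ k, k + 1 ≤ m → ∃ S : ℕ → Submodule F V, Flag Q k S ∧ ∀ j, j ≤ k → Inv ρ (S j) := by
  intro k
  induction k with
  | zero =>
    intro _
    refine ⟨fun _ => ⊥, ⟨?_, ?_, ?_⟩, ?_⟩
    · intro j hj
      exact le_rfl
    · intro j hj
      have : j = 0 := by omega
      rw [this]
      exact finrank_bot F V
    · intro u hu
      rw [Submodule.mem_bot] at hu
      rw [hu, map_zero]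
    · intro j _ g x hx
      rw [Submodule.mem_bot] at hx
      rw [hx, map_zero]
      exact Submodule.zero_mem _
  | succ k ih =>
    intro hk
    obtain ⟨S, hS, hSinv⟩ := ih (by omega)
    obtain ⟨Y, hXY, hYts, hYinv, hYr⟩ := extend h hP hQ ρ hiso hdim (S k) hS.ts
      (hSinv k le_rfl) (by rw [hS.rank k le_rfl]; omega)
    rw [hS.rank k le_rfl] at hYr
    have hupd : ∀ j, j ≤ k → Function.update S (k + 1) Y j = S j := by
      intro j hj
      rw [Function.update_of_ne (by omega)]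
    refine ⟨Function.update S (k + 1) Y, ⟨?_, ?_, ?_⟩, ?_⟩
    · intro j hj
      rw [hupd j (by omega)]
      by_cases hjk : j = k
      · rw [hjk, Function.update_self]
        exact hXY
      · rw [hupd (j + 1) (by omega)]
        exact hS.mono j (by omega)
    · intro j hj
      by_cases hjk : j = k + 1
      · rw [hjk, Function.update_self]
        exact hYr
      · rw [hupd j (by omega)]
        exact hS.rank j (by omega)
    · rw [Function.update_self]
      exact hYts
    · intro j hj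
      by_cases hjk : j = k + 1
      · rw [hjk, Function.update_self]
        exact hYinv
      · rw [hupd j (by omega)]
        exact hSinv j (by omega)

/-- the members of a flag form a chain -/
theorem flag_chain {Q : QuadraticForm F V} {k : ℕ} {S : ℕ → Submodule F V} (hS : Flag Q k S) :
    IsChain (· ≤ ·) {Y | ∃ j, j ≤ k ∧ Y = S j} := by
  rintro _ ⟨i, hi, rfl⟩ _ ⟨j, hj, rfl⟩ _
  rcases le_total i j with hij | hij
  · exact Or.inl (hS.le i j hij hj)
  · exact Or.inr (hS.le j i hij hi)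

end Cfsg.Agent.Lib.Helper28.SylO
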