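import Mathlib
import Cfsg.Agent.Lib.Helper28.SylOC
import Cfsg.Agent.Lib.Helper16.SpinA

set_option autoImplicit false

open scoped Pointwise

namespace Cfsg.Agent.Lib.Helper28.SylO

open Module Matrix Cfsg.Agent.Lib.Helper16

variable {ι : Type} [Fintype ι] [DecidableEq ι] {F : Type*} [Field F]

local notation "pol" => QuadraticMap.polar

/-- the natural representation of the isometry group -/
noncomputable def rho (Q : (ι → F) → F) :
    ↥(Cfsg.isometryGroup F Q) →* Module.End F (ι → F) where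
  toFun g := Matrix.mulVecLin ((g : GL ι F) : Matrix ι ι F)
  map_one' := by
    apply LinearMap.ext
    intro v
    simp
  map_mul' g g' := by
    apply LinearMap.ext
    intro v
    simp [Matrix.mulVecLin_mul]

theorem rho_apply (Q : (ι → F) → F) (g : ↥(Cfsg.isometryGroup F Q)) (v : ι → F) :
    rho Q g v = ((g : GL ι F) : Matrix ι ι F) *ᵥ v := rfl

theorem rho_injective (Q : (ι → F) → F) : Function.Injective (rho Q) := by
  intro g g' hgg'
  apply iso_ext'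
  have h1 : ∀ v, ((g : GL ι F) : Matrix ι ι F) *ᵥ v = ((g' : GL ι F) : Matrix ι ι F) *ᵥ v := by
    intro v
    rw [← rho_apply, ← rho_apply, hgg']
  ext i j
  have h2 := congrFun (h1 (Pi.single j 1)) i
  simpa using h2

theorem rho_iso (Q : (ι → F) → F) (g : ↥(Cfsg.isometryGroup F Q)) (v : ι → F) :
    Q (rho Q g v) = Q v := iso_pres Q g v

theorem rho_inv_apply (Q : (ι → F) → F) (g : ↥(Cfsg.isometryGroup F Q)) (v : ι → F) :
    rho Q g (rho Q g⁻¹ v) = v := by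
  rw [← Module.End.mul_apply, ← map_mul, mul_inv_cancel, map_one, Module.End.one_apply]

theorem rho_inv_apply' (Q : (ι → F) → F) (g : ↥(Cfsg.isometryGroup F Q)) (v : ι → F) :
    rho Q g⁻¹ (rho Q g v) = v := by
  rw [← Module.End.mul_apply, ← map_mul, inv_mul_cancel, map_one, Module.End.one_apply]

/-- the stabiliser of a flag -/
noncomputable def stabG (Q : (ι → F) → F) (k : ℕ) (S : ℕ → Submodule F (ι → F)) :
    Subgroup ↥(Cfsg.isometryGroup F Q) where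
  carrier := {g | Stab (rho Q g) k S ∧ Stab (rho Q g⁻¹) k S}
  mul_mem' := by
    rintro a b ⟨ha, ha'⟩ ⟨hb, hb'⟩
    constructor
    · intro j hj y hy
      rw [map_mul, Module.End.mul_apply]
      exact ha j hj _ (hb j hj y hy)
    · intro j hj y hy
      rw [_root_.mul_inv_rev, map_mul, Module.End.mul_apply]
      exact hb' j hj _ (ha' j hj y hy)
  one_mem' := by
    constructor
    · intro j hj y hy
      rw [map_one, Module.End.one_apply]
      exact hy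
    · intro j hj y hy
      rw [inv_one, map_one, Module.End.one_apply]
      exact hy
  inv_mem' := by
    rintro a ⟨ha, ha'⟩
    refine ⟨ha', ?_⟩
    rw [inv_inv]
    exact ha

theorem mem_stabG (Q : (ι → F) → F) (k : ℕ) (S : ℕ → Submodule F (ι → F))
    (g : ↥(Cfsg.isometryGroup F Q)) :
    g ∈ stabG Q k S ↔ Stab (rho Q g) k S ∧ Stab (rho Q g⁻¹) k S := Iff.rfl

theorem f2_of_card [Fintype F] (hF : Fintype.card F = 2) : F2 F := by
  intro a
  have h1 := FiniteField.pow_card a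
  rw [hF] at h1
  have h2 : a * (a - 1) = 0 := by linear_combination h1
  rcases mul_eq_zero.mp h2 with h3 | h3
  · exact Or.inl h3
  · exact Or.inr (sub_eq_zero.mp h3)

theorem stabG_pgroup [Fintype F] (h : F2 F) (Q : QuadraticForm F (ι → F))
    (hQ : (QuadraticMap.polarBilin Q).Nondegenerate) {k : ℕ}
    (hdim : finrank F (ι → F) = 2 * (k + 1)) {S : ℕ → Submodule F (ι → F)} (hS : Flag Q k S)
    (htwo : Two Q k (S k)) : IsPGroup 2 ↥(stabG (⇑Q) k S) := by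
  rintro ⟨g, hg, hg'⟩
  obtain ⟨e, he⟩ := flag_two_power h hQ hdim hS htwo (rho (⇑Q) g) (rho (⇑Q) g⁻¹)
    (rho_inv_apply (⇑Q) g) (rho_inv_apply' (⇑Q) g) (rho_iso (⇑Q) g) (rho_iso (⇑Q) g⁻¹) hg hg'
  refine ⟨e, ?_⟩
  apply Subtype.ext
  rw [Subgroup.coe_pow, Subgroup.coe_one]
  apply rho_injective (⇑Q)
  rw [map_pow, map_one]
  exact he

theorem sylow_meet [Fintype F] (h : F2 F) (Q : QuadraticForm F (ι → F))
    (hQ : (QuadraticMap.polarBilin Q).Nondegenerate) {k : ℕ}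
    (hdim : finrank F (ι → F) = 2 * (k + 1))
    (htwo : ∀ X : Submodule F (ι → F), finrank F X = k → TS Q X → Two Q k X)
    (H : Sylow 2 ↥(Cfsg.isometryGroup F ⇑Q)) (x : ↥(Cfsg.isometryGroup F ⇑Q)) :
    (H : Subgroup ↥(Cfsg.isometryGroup F ⇑Q)) ⊓ MulAut.conj x • (H : Subgroup _) ≠ ⊥ := by
  obtain ⟨S, hS, hSinv⟩ := exists_flag h H.isPGroup' hQ
    ((rho ⇑Q).comp (H : Subgroup ↥(Cfsg.isometryGroup F ⇑Q)).subtype)
    (fun g v => rho_iso (⇑Q) _ v) hdim k le_rfl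
  have hle : (H : Subgroup ↥(Cfsg.isometryGroup F ⇑Q)) ≤ stabG (⇑Q) k S := by
    intro g hg
    rw [mem_stabG]
    constructor
    · intro j hj y hy
      exact hSinv j hj ⟨g, hg⟩ y hy
    · intro j hj y hy
      exact hSinv j hj ⟨g⁻¹, inv_mem hg⟩ y hy
  have hK : stabG (⇑Q) k S = (H : Subgroup ↥(Cfsg.isometryGroup F ⇑Q)) :=
    H.is_maximal' (stabG_pgroup h Q hQ hdim hS (htwo _ (hS.rank k le_rfl) hS.ts)) hle
  have hxinj : Function.Injective (rho (⇑Q) x) :=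
    Function.LeftInverse.injective (rho_inv_apply' (⇑Q) x)
  obtain ⟨S', hS'def⟩ : ∃ S' : ℕ → Submodule F (ι → F),
      S' = fun j => (S j).map (rho (⇑Q) x) := ⟨_, rfl⟩
  have hS'j : ∀ j, S' j = (S j).map (rho (⇑Q) x) := fun j => by rw [hS'def]
  have hS' : Flag Q k S' := by
    refine ⟨?_, ?_, ?_⟩
    · intro j hj
      rw [hS'j, hS'j]
      exact Submodule.map_mono (hS.mono j hj)
    · intro j hj
      rw [hS'j, ← (Submodule.equivMapOfInjective _ hxinj (S j)).finrank_eq]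
      exact hS.rank j hj
    · rw [hS'j]
      rintro _ ⟨y, hy, rfl⟩
      have h1 := rho_iso (⇑Q) x y
      exact h1.trans (hS.ts y hy)
  have hnd : ND Q ⊤ := by
    intro v _ hv
    apply hQ.2 v
    intro u
    rw [QuadraticMap.polarBilin_apply_apply]
    exact hv u Submodule.mem_top
  have htop : (⊤ : Submodule F (ι → F)) ≠ ⊥ := by
    intro hcon
    have h1 := finrank_top F (ι → F)
    rw [hcon, finrank_bot, hdim] at h1
    omega
  have hhyp : Hyp Q ⊤ ({Y | ∃ j, j ≤ k ∧ Y = S j} ∪ {Y | ∃ j, j ≤ k ∧ Y = S' j}) := by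
    rintro Y (⟨j, hj, rfl⟩ | ⟨j, hj, rfl⟩)
    · refine ⟨le_top, hS.ts_mem j hj, ?_⟩
      rw [finrank_top, hdim, hS.rank j hj]
      omega
    · refine ⟨le_top, hS'.ts_mem j hj, ?_⟩
      rw [finrank_top, hdim, hS'.rank j hj]
      omega
  obtain ⟨g₀, hg1, hg2, hg3, _, hg5⟩ := T_main h Q _ ⊤ rfl htop hnd _ _ (flag_chain hS)
    (flag_chain hS') hhyp
  obtain ⟨M₀, hM₀⟩ : ∃ M₀ : Matrix ι ι F, M₀ = LinearMap.toMatrix' g₀ := ⟨_, rfl⟩
  have hMM : M₀ * M₀ = 1 := by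
    rw [hM₀, ← LinearMap.toMatrix'_comp, hg1, LinearMap.toMatrix'_id]
  have hMv : ∀ v, M₀ *ᵥ v = g₀ v := fun v => by rw [hM₀, LinearMap.toMatrix'_mulVec]
  have hu : (⟨M₀, M₀, hMM, hMM⟩ : GL ι F) ∈ Cfsg.isometryGroup F ⇑Q := by
    rw [mem_iso_iff]
    intro v
    show Q (M₀ *ᵥ v) = Q v
    rw [hMv, hg3]
  obtain ⟨γ, hγ⟩ : ∃ γ : ↥(Cfsg.isometryGroup F ⇑Q), ∀ v, rho (⇑Q) γ v = g₀ v :=
    ⟨⟨⟨M₀, M₀, hMM, hMM⟩, hu⟩, fun v => hMv v⟩
  have hγ' : rho (⇑Q) γ = g₀ := LinearMap.ext hγ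
  have hγγ : γ * γ = 1 := by
    apply rho_injective (⇑Q)
    rw [map_mul, map_one, hγ']
    exact hg1
  have hγinv : γ⁻¹ = γ := inv_eq_of_mul_eq_one_left hγγ
  have hγ1 : γ ≠ 1 := by
    intro hcon
    apply hg2
    rw [← hγ', hcon, map_one]
    rfl
  have hγS : Stab (rho (⇑Q) γ) k S := by
    intro j hj y hy
    rw [hγ']
    exact hg5 (S j) (Or.inl ⟨j, hj, rfl⟩) y hy
  have hγH : γ ∈ (H : Subgroup ↥(Cfsg.isometryGroup F ⇑Q)) := by
    rw [← hK, mem_stabG, hγinv]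
    exact ⟨hγS, hγS⟩
  have hconjS : Stab (rho (⇑Q) (x⁻¹ * γ * x)) k S := by
    intro j hj y hy
    rw [map_mul, map_mul, Module.End.mul_apply, Module.End.mul_apply, hγ']
    have h1 : rho (⇑Q) x y ∈ S' j := by
      rw [hS'j]
      exact ⟨y, hy, rfl⟩
    have h2 := hg5 (S' j) (Or.inr ⟨j, hj, rfl⟩) _ h1
    rw [hS'j] at h2
    obtain ⟨y', hy', h3⟩ := h2
    rw [← h3, rho_inv_apply']
    exact hy'
  have hconjH : x⁻¹ * γ * x ∈ (H : Subgroup ↥(Cfsg.isometryGroup F ⇑Q)) := by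
    rw [← hK, mem_stabG]
    refine ⟨hconjS, ?_⟩
    have e : (x⁻¹ * γ * x)⁻¹ = x⁻¹ * γ * x := by
      rw [_root_.mul_inv_rev, _root_.mul_inv_rev, inv_inv, hγinv, mul_assoc]
    rw [e]
    exact hconjS
  intro hbot
  apply hγ1
  rw [← Subgroup.mem_bot, ← hbot, Subgroup.mem_inf]
  refine ⟨hγH, ?_⟩
  rw [Subgroup.mem_smul_pointwise_iff_exists]
  refine ⟨x⁻¹ * γ * x, hconjH, ?_⟩
  rw [MulAut.smul_def, MulAut.conj_apply]
  group

end Cfsg.Agent.Lib.Helper28.SylO
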