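import Mathlib
import Cfsg.Agent.Lib.helper3.T2E.Defs3
import Cfsg.Agent.Lib.helper8.ChevTwE6H16
import Cfsg.Agent.Lib.helper8.ChevFix4

/-!
# T2E row U5 (`family_equi`), CORE on the statements of U1 `IsRootLift.unique`, U2 `rootlift_conj`, D4 `XT_conj` (helper28)
-/

set_option autoImplicit false

namespace Cfsg.Agent.Lib.helper3.T2E

open Cfsg.Lie Cfsg.Lie.ChevalleyDatum Matrix
open Cfsg.Agent.Lib.helper8 Cfsg.Agent.Lib.Helper10.TEM Cfsg.Agent.Lib.helper7.Ce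
  Cfsg.Agent.Lib.helper15.St2

universe u

variable {K : Type u} [Field K] {q : ℕ} {f : K ≃+* K} {Γ : Type u} [Group Γ]
  {π : Γ →* ↥(twistedE6 K q)}

theorem t2eu5h28_pm_mem (γ : Γ) : pm π γ ∈ twistedE6 K q := (π γ).2

/-- the scalar of a conjugation of root groups is not zero -/
theorem t2eu5h28_kappa_ne (n : GG K) (r r' : ℕ) (hr : r < 72) (κ : K)
    (h : ∀ t, n * X r t * n⁻¹ = X r' (κ * t)) : κ ≠ 0 := by
  intro h0
  have hn : chevE6.nroots = 72 := by decide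
  have h1 := h 1
  rw [h0, zero_mul] at h1
  have h2 : (X r' (0 : K) : GG K) = 1 := h8xU_zero chevE6 hB r'
  rw [h2] at h1
  have h3 : X r (1 : K) = 1 := by
    have : X r (1 : K) = n⁻¹ * (n * X r 1 * n⁻¹) * n := by group
    rw [this, h1]; group
  have h4 : X r (1 : K) = X r 0 := by
    rw [h3]; exact (h8xU_zero chevE6 hB r).symm
  have h5 : (1 : K) = 0 := h8xU_inj_t chevE6 hB hA hW r (by rw [hn]; exact hr) 1 0 h4
  exact one_ne_zero h5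

/-- [U5] core -/
theorem t2eu5h28_core {L : ℕ → K → Γ}
    (hL : ∀ r < 72, IsRootLift q π r (L r))
    (hU1 : ∀ {r : ℕ}, r < 72 → ∀ {L L' : K → Γ}, IsRootLift q π r L → IsRootLift q π r L' →
      ∀ t, Adm q r t → L t = L' t)
    (hU2 : ∀ (r r' : ℕ), r < 72 → r' < 72 → ∀ (Lr : K → Γ), IsRootLift q π r Lr → ∀ (γ : Γ),
      pm π γ ∈ N1 K q → ∀ κ : K, κ ≠ 0 → (∀ t, pm π γ * X r t * (pm π γ)⁻¹ = X r' (κ * t)) →
        IsRootLift q π r' (fun t => γ * Lr (κ⁻¹ * t) * γ⁻¹))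
    (hD4 : ∀ (n : GG K), n ∈ twistedE6 K q → ∀ (r r' : ℕ), r < 72 → r' < 72 → ∀ κ : K,
      (∀ t, n * X r t * n⁻¹ = X r' (κ * t)) → ∀ t, Adm q r t →
        Adm q r' (κ * t) ∧ n * XT q r t * n⁻¹ = XT q r' (κ * t)) :
    ∀ γ : Γ, pm π γ ∈ chevE6.monomialSubgroup K → ∀ r < 72, ∀ r' < 72, ∀ κ : K,
      (∀ t, pm π γ * X r t * (pm π γ)⁻¹ = X r' (κ * t)) →
        ∀ t, Adm q r t → γ * L r t * γ⁻¹ = L r' (κ * t) := by
  intro γ hγ r hr r' hr' κ hact t ht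
  have hκ : κ ≠ 0 := t2eu5h28_kappa_ne (pm π γ) r r' hr κ hact
  have hN1 : pm π γ ∈ N1 K q := ⟨hγ, t2eu5h28_pm_mem γ⟩
  have hlift := hU2 r r' hr hr' (L r) (hL r hr) γ hN1 κ hκ hact
  have hadm : Adm q r' (κ * t) := (hD4 (pm π γ) (t2eu5h28_pm_mem γ) r r' hr hr' κ hact t ht).1
  have heq := hU1 hr' hlift (hL r' hr') (κ * t) hadm
  rw [← heq]
  show γ * L r t * γ⁻¹ = γ * L r (κ⁻¹ * (κ * t)) * γ⁻¹
  rw [← mul_assoc, inv_mul_cancel₀ hκ, one_mul]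

end Cfsg.Agent.Lib.helper3.T2E
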