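import Mathlib
import Cfsg.Agent.Lib.Helper28.T2EU5core
import Cfsg.Agent.Lib.helper15.T2EU1
import Cfsg.Agent.Lib.Helper5.T2EU2
import Cfsg.Agent.Lib.helper4.T2ED4

/-!
# T2E row U5 (`family_equi`) VERBATIM (helper28): core `t2eu5h28_core` + U1 `IsRootLift.unique`, U2 `rootlift_conj`, D4 `XT_conj`.
-/

set_option autoImplicit false

namespace Cfsg.Agent.Lib.helper3.T2E

open Cfsg.Lie Cfsg.Lie.ChevalleyDatum Matrix
open Cfsg.Agent.Lib.helper8 Cfsg.Agent.Lib.Helper10.TEM Cfsg.Agent.Lib.helper7.Ce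
  Cfsg.Agent.Lib.helper15.St2

universe u

variable {K : Type u} [Field K] {q : ℕ} {f : K ≃+* K} {Γ : Type u} [Group Γ]
  {π : Γ →* ↥(twistedE6 K q)}

-- ROW U5 [M]  U2 + U1 at `r'` (`κ ≠ 0` since `X r` is not trivial; `pm π γ ∈ G¹`).
theorem family_equi [Fintype K] (hq : IsPrimePow q) (hK : Fintype.card K = q ^ 2) (h2 : q ≠ 2)
    (hF : Frob q f) (hπ : IsCE π) {L : ℕ → K → Γ} (hL : ∀ r < 72, IsRootLift q π r (L r)) :
    ∀ γ : Γ, pm π γ ∈ chevE6.monomialSubgroup K → ∀ r < 72, ∀ r' < 72, ∀ κ : K,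
      (∀ t, pm π γ * X r t * (pm π γ)⁻¹ = X r' (κ * t)) →
        ∀ t, Adm q r t → γ * L r t * γ⁻¹ = L r' (κ * t) :=
  t2eu5h28_core hL (fun hr _ _ h h' => IsRootLift.unique hq hK h2 hF hπ hr h h')
    (fun r r' hr hr' Lr h γ hγ κ hκ hact => rootlift_conj hF hπ r r' hr hr' Lr h γ hγ κ hκ hact)
    (fun n hn r r' hr hr' κ h t ht => XT_conj hF n hn r r' hr hr' κ h t ht)

end Cfsg.Agent.Lib.helper3.T2E
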