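import Mathlib
import Cfsg.Agent.Lib.helper17.T3.DefsC

/-!
# T3C row W3 (`wl_s_up`): the long Weyl element on the short lifts (helper28)
-/

set_option autoImplicit false

namespace Cfsg.Agent.Lib.helper17.T3

open Cfsg.Agent.Lib.helper15.St2 Cfsg.Agent.Lib.helper7.Ce Matrix

variable {F K : Type*} [Field F] [Field K] [Algebra F K]

variable {C : Cub F K} {G Γ : Type*} [Group G] [Group Γ]

section W

variable {S : SysT C G} {σ : Γ →* G} {L : ShortLift S σ}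

theorem t3cw3h28_idx (k a b c : ZMod 6) (h : a + b = c) : k + a + b = k + c := by
  rw [add_assoc, h]

theorem t3cw3h28_idx0 (k a b : ZMod 6) (h : a + b = 0) : k + a + b = k := by
  rw [add_assoc, h, add_zero]

/-- the generic step: two fields of `S` (for a root and its opposite) give `MapsPair`, hence the equivariance of the short lift -/
theorem t3cw3h28_aux (L : ShortLift S σ) (e : Γ) (j j' j3 j3' : ZMod 6) (hj : j + 3 = j3) (hj' : j' + 3 = j3') (a b : K) (ha : a ≠ 0)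
    (hab : a⁻¹ = b) (h1 : ∀ t, cj (σ e) (S.xs j t) = S.xs j' (a * t)) (h2 : ∀ t, cj (σ e) (S.xs j3 t) = S.xs j3' (b * t)) (u : K) :
    cj e (L.X j u) = L.X j' (a * u) := by
  subst hj hj' hab
  exact L.eqv e j j' a ha ⟨h1, h2⟩ u

/-- [W3] [M] for `e` over the Weyl element of the long root `2k + 1` (`wl_s0 … wl_s5`). -/
theorem wl_s_up (e : Γ) (k : ZMod 6) {c : F} (hc : c ≠ 0) (he : σ e = S.xl k c * S.xl (k + 3) c⁻¹ * S.xl k c) (u : K) :
    cj e (L.X k u) = L.X (k + 4) (-(c⁻¹ • u)) ∧ cj e (L.X (k + 1) u) = L.X (k + 3) (c⁻¹ • u) ∧ cj e (L.X (k + 2) u) = L.X (k + 2) u ∧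
    cj e (L.X (k + 3) u) = L.X (k + 1) (-(c • u)) ∧ cj e (L.X (k + 4) u) = L.X k (c • u) ∧ cj e (L.X (k + 5) u) = L.X (k + 5) u := by
  have ha : algebraMap F K c ≠ 0 := by
    intro h0
    exact hc ((algebraMap F K).injective (by rw [h0, map_zero]))
  have hai : (algebraMap F K c)⁻¹ ≠ 0 := inv_ne_zero ha
  have f0 : ∀ t, cj (σ e) (S.xs k t) = S.xs (k + 4) (-(algebraMap F K c)⁻¹ * t) := by
    intro t
    rw [he, S.wl_s0 k c t hc, Algebra.smul_def, map_inv₀, neg_mul]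
  have f1 : ∀ t, cj (σ e) (S.xs (k + 1) t) = S.xs (k + 3) ((algebraMap F K c)⁻¹ * t) := by
    intro t
    rw [he, S.wl_s1 k c t hc, Algebra.smul_def, map_inv₀]
  have f2 : ∀ t, cj (σ e) (S.xs (k + 2) t) = S.xs (k + 2) (1 * t) := by
    intro t
    rw [he, S.wl_s2 k c t hc, one_mul]
  have f3 : ∀ t, cj (σ e) (S.xs (k + 3) t) = S.xs (k + 1) (-(algebraMap F K c) * t) := by
    intro t
    rw [he, S.wl_s3 k c t hc, Algebra.smul_def, neg_mul]
  have f4 : ∀ t, cj (σ e) (S.xs (k + 4) t) = S.xs k (algebraMap F K c * t) := by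
    intro t
    rw [he, S.wl_s4 k c t hc, Algebra.smul_def]
  have f5 : ∀ t, cj (σ e) (S.xs (k + 5) t) = S.xs (k + 5) (1 * t) := by
    intro t
    rw [he, S.wl_s5 k c t hc, one_mul]
  have g0 := t3cw3h28_aux L e k (k + 4) (k + 3) (k + 1) rfl (t3cw3h28_idx k 4 3 1 (by decide)) (-(algebraMap F K c)⁻¹) (-(algebraMap F K c))
    (neg_ne_zero.2 hai) (by rw [inv_neg, inv_inv]) f0 f3 u
  have g1 := t3cw3h28_aux L e (k + 1) (k + 3) (k + 4) k (t3cw3h28_idx k 1 3 4 (by decide)) (t3cw3h28_idx0 k 3 3 (by decide)) ((algebraMap F K c)⁻¹)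
    (algebraMap F K c) hai (inv_inv _) f1 f4 u
  have g2 := t3cw3h28_aux L e (k + 2) (k + 2) (k + 5) (k + 5) (t3cw3h28_idx k 2 3 5 (by decide)) (t3cw3h28_idx k 2 3 5 (by decide)) 1 1 one_ne_zero inv_one f2 f5 u
  have g3 := t3cw3h28_aux L e (k + 3) (k + 1) k (k + 4) (t3cw3h28_idx0 k 3 3 (by decide)) (t3cw3h28_idx k 1 3 4 (by decide)) (-(algebraMap F K c))
    (-(algebraMap F K c)⁻¹) (neg_ne_zero.2 ha) (by rw [inv_neg]) f3 f0 u
  have g4 := t3cw3h28_aux L e (k + 4) k (k + 1) (k + 3) (t3cw3h28_idx k 4 3 1 (by decide)) rfl (algebraMap F K c) ((algebraMap F K c)⁻¹) ha rfl f4 f1 u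
  have g5 := t3cw3h28_aux L e (k + 5) (k + 5) (k + 2) (k + 2) (t3cw3h28_idx k 5 3 2 (by decide)) (t3cw3h28_idx k 5 3 2 (by decide)) 1 1 one_ne_zero inv_one f5 f2 u
  refine ⟨?_, ?_, ?_, ?_, ?_, ?_⟩
  · rw [g0, Algebra.smul_def, map_inv₀, neg_mul]
  · rw [g1, Algebra.smul_def, map_inv₀]
  · rw [g2, one_mul]
  · rw [g3, Algebra.smul_def, neg_mul]
  · rw [g4, Algebra.smul_def]
  · rw [g5, one_mul]

end W

end Cfsg.Agent.Lib.helper17.T3
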