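import Mathlib
import Cfsg.Agent.Lib.helper17.T3.DefsC
import Cfsg.Agent.Lib.Helper28.T3CW3

/-!
# T3C row W1 (`ws_s_up`): the short Weyl element on the short lifts (helper28)
-/

set_option autoImplicit false

namespace Cfsg.Agent.Lib.helper17.T3

open Cfsg.Agent.Lib.helper15.St2 Cfsg.Agent.Lib.helper7.Ce Matrix

variable {F K : Type*} [Field F] [Field K] [Algebra F K]

variable {C : Cub F K} {G Γ : Type*} [Group G] [Group Γ]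

section W

variable {S : SysT C G} {σ : Γ →* G} {L : ShortLift S σ}

theorem t3cw1h28_nm_ne_zero (C : Cub F K) {t : K} (ht : t ≠ 0) : algebraMap F K (C.nm t) ≠ 0 := by
  rw [C.hnm]
  have h1 : C.θ t ≠ 0 := (map_ne_zero C.θ).2 ht
  have h2 : C.θ (C.θ t) ≠ 0 := (map_ne_zero C.θ).2 h1
  exact mul_ne_zero (mul_ne_zero ht h1) h2

/-- the six fields `ws_s0 … ws_s5` for an element `g = ws k t`, with the coefficients written as `a * u` -/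
theorem t3cw1h28_fields (S : SysT C G) (g : G) (k : ZMod 6) {t : K} (ht : t ≠ 0) (he : g = S.xs k t * S.xs (k + 3) t⁻¹ * S.xs k t) :
    (∀ u, cj g (S.xs k u) = S.xs (k + 3) (t⁻¹ ^ 2 * u)) ∧
    (∀ u, cj g (S.xs (k + 1) u) = S.xs (k + 2) ((algebraMap F K (C.nm t))⁻¹ * t ^ 2 * u)) ∧
    (∀ u, cj g (S.xs (k + 2) u) = S.xs (k + 1) (-(algebraMap F K (C.nm t) * t⁻¹ ^ 2) * u)) ∧
    (∀ u, cj g (S.xs (k + 3) u) = S.xs k (t ^ 2 * u)) ∧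
    (∀ u, cj g (S.xs (k + 4) u) = S.xs (k + 5) (algebraMap F K (C.nm t) * t⁻¹ ^ 2 * u)) ∧
    (∀ u, cj g (S.xs (k + 5) u) = S.xs (k + 4) (-((algebraMap F K (C.nm t))⁻¹ * t ^ 2) * u)) := by
  refine ⟨?_, ?_, ?_, ?_, ?_, ?_⟩
  · intro u
    rw [he, S.ws_s0 k t u ht]
  · intro u
    rw [he, S.ws_s1 k t u ht, Algebra.smul_def, map_inv₀, mul_assoc]
  · intro u
    rw [he, S.ws_s2 k t u ht, Algebra.smul_def, neg_mul, mul_assoc]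
  · intro u
    rw [he, S.ws_s3 k t u ht]
  · intro u
    rw [he, S.ws_s4 k t u ht, Algebra.smul_def, mul_assoc]
  · intro u
    rw [he, S.ws_s5 k t u ht, Algebra.smul_def, map_inv₀, neg_mul, mul_assoc]

/-- [W1] [M] for `e` over the Weyl element of the short root `2k`. -/
theorem ws_s_up (e : Γ) (k : ZMod 6) {t : K} (ht : t ≠ 0) (he : σ e = S.xs k t * S.xs (k + 3) t⁻¹ * S.xs k t) (u : K) :
    cj e (L.X k u) = L.X (k + 3) (t⁻¹ ^ 2 * u) ∧ cj e (L.X (k + 1) u) = L.X (k + 2) ((C.nm t)⁻¹ • (t ^ 2 * u)) ∧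
    cj e (L.X (k + 2) u) = L.X (k + 1) (-(C.nm t • (t⁻¹ ^ 2 * u))) ∧ cj e (L.X (k + 3) u) = L.X k (t ^ 2 * u) ∧
    cj e (L.X (k + 4) u) = L.X (k + 5) (C.nm t • (t⁻¹ ^ 2 * u)) ∧ cj e (L.X (k + 5) u) = L.X (k + 4) (-((C.nm t)⁻¹ • (t ^ 2 * u))) := by
  have hn : algebraMap F K (C.nm t) ≠ 0 := t3cw1h28_nm_ne_zero C ht
  have hni : (algebraMap F K (C.nm t))⁻¹ ≠ 0 := inv_ne_zero hn
  have ht2 : t ^ 2 ≠ 0 := pow_ne_zero 2 ht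
  have hti2 : t⁻¹ ^ 2 ≠ 0 := pow_ne_zero 2 (inv_ne_zero ht)
  obtain ⟨f0, f1, f2, f3, f4, f5⟩ := t3cw1h28_fields S (σ e) k ht he
  have i03 : (t⁻¹ ^ 2)⁻¹ = t ^ 2 := by rw [inv_pow, inv_inv]
  have i30 : (t ^ 2)⁻¹ = t⁻¹ ^ 2 := by rw [inv_pow]
  have i14 : ((algebraMap F K (C.nm t))⁻¹ * t ^ 2)⁻¹ = algebraMap F K (C.nm t) * t⁻¹ ^ 2 := by rw [mul_inv, inv_inv, inv_pow]
  have i41 : (algebraMap F K (C.nm t) * t⁻¹ ^ 2)⁻¹ = (algebraMap F K (C.nm t))⁻¹ * t ^ 2 := by rw [mul_inv, inv_pow, inv_inv]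
  have i25 : (-(algebraMap F K (C.nm t) * t⁻¹ ^ 2))⁻¹ = -((algebraMap F K (C.nm t))⁻¹ * t ^ 2) := by rw [inv_neg, i41]
  have i52 : (-((algebraMap F K (C.nm t))⁻¹ * t ^ 2))⁻¹ = -(algebraMap F K (C.nm t) * t⁻¹ ^ 2) := by rw [inv_neg, i14]
  have g0 := t3cw3h28_aux L e k (k + 3) (k + 3) k rfl (t3cw3h28_idx0 k 3 3 (by decide)) _ _ hti2 i03 f0 f3 u
  have g1 := t3cw3h28_aux L e (k + 1) (k + 2) (k + 4) (k + 5) (t3cw3h28_idx k 1 3 4 (by decide)) (t3cw3h28_idx k 2 3 5 (by decide)) _ _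
    (mul_ne_zero hni ht2) i14 f1 f4 u
  have g2 := t3cw3h28_aux L e (k + 2) (k + 1) (k + 5) (k + 4) (t3cw3h28_idx k 2 3 5 (by decide)) (t3cw3h28_idx k 1 3 4 (by decide)) _ _
    (neg_ne_zero.2 (mul_ne_zero hn hti2)) i25 f2 f5 u
  have g3 := t3cw3h28_aux L e (k + 3) k k (k + 3) (t3cw3h28_idx0 k 3 3 (by decide)) rfl _ _ ht2 i30 f3 f0 u
  have g4 := t3cw3h28_aux L e (k + 4) (k + 5) (k + 1) (k + 2) (t3cw3h28_idx k 4 3 1 (by decide)) (t3cw3h28_idx k 5 3 2 (by decide)) _ _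
    (mul_ne_zero hn hti2) i41 f4 f1 u
  have g5 := t3cw3h28_aux L e (k + 5) (k + 4) (k + 2) (k + 1) (t3cw3h28_idx k 5 3 2 (by decide)) (t3cw3h28_idx k 4 3 1 (by decide)) _ _
    (neg_ne_zero.2 (mul_ne_zero hni ht2)) i52 f5 f2 u
  refine ⟨g0, ?_, ?_, g3, ?_, ?_⟩
  · rw [g1, Algebra.smul_def, map_inv₀, mul_assoc]
  · rw [g2, Algebra.smul_def, neg_mul, mul_assoc]
  · rw [g4, Algebra.smul_def, mul_assoc]
  · rw [g5, Algebra.smul_def, map_inv₀, neg_mul, mul_assoc]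

end W

end Cfsg.Agent.Lib.helper17.T3
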