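import Mathlib
import Cfsg.Agent.Lib.helper17.T3.DefsC
import Cfsg.Agent.Lib.Helper28.T3CE2
import Cfsg.Agent.Lib.Helper28.T3CW1

/-!
# T3C row W2 (`ws_l_up`): the short Weyl element on the long lifts (helper28)
-/

set_option autoImplicit false

namespace Cfsg.Agent.Lib.helper17.T3

open Cfsg.Agent.Lib.helper15.St2 Cfsg.Agent.Lib.helper7.Ce Matrix

variable {F K : Type*} [Field F] [Field K] [Algebra F K]

variable {C : Cub F K} {G Γ : Type*} [Group G] [Group Γ]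

section W

variable {S : SysT C G} {σ : Γ →* G} {L : ShortLift S σ}

/-- two fields of `S` (for a root and its opposite) give `MapsPair` -/
theorem t3cw2h28_mp (S : SysT C G) (g : G) (j j' j3 j3' : ZMod 6) (hj : j + 3 = j3) (hj' : j' + 3 = j3') (a b : K)
    (hab : a⁻¹ = b) (h1 : ∀ t, cj g (S.xs j t) = S.xs j' (a * t)) (h2 : ∀ t, cj g (S.xs j3 t) = S.xs j3' (b * t)) :
    S.MapsPair g j j' a := by
  subst hj hj' hab
  exact ⟨h1, h2⟩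

/-- `LongLift.eqv_refl` with free indices -/
theorem t3cw2h28_refl (hC : C.Good) (M : LongLift S σ L) (e : Γ) (j j' j1 j1' : ZMod 6) (h1 : j + 1 = j1) (h1' : j' + 1 = j1') {a b : K} {c0 : F}
    (ha : a ≠ 0) (hb : b ≠ 0) (hk : S.MapsPair (σ e) j j1' a) (hk1 : S.MapsPair (σ e) j1 j' b) (hab : a * b = algebraMap F K c0) (c : F) :
    cj e (M.Y j c) = M.Y j' (-(c0 * c)) := by
  subst h1 h1'
  exact LongLift.eqv_refl hC M e j j' ha hb hk hk1 hab c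

/-- [W2] [M] the short Weyl element on the long lifts. -/
theorem ws_l_up (hC : C.Good) (M : LongLift S σ L) (e : Γ) (k : ZMod 6) {t : K} (ht : t ≠ 0) (he : σ e = S.xs k t * S.xs (k + 3) t⁻¹ * S.xs k t) (c : F) :
    cj e (M.Y k c) = M.Y (k + 2) (-((C.nm t)⁻¹ * c)) ∧ cj e (M.Y (k + 1) c) = M.Y (k + 1) c ∧ cj e (M.Y (k + 2) c) = M.Y k (C.nm t * c) ∧
    cj e (M.Y (k + 3) c) = M.Y (k + 5) (-(C.nm t * c)) ∧ cj e (M.Y (k + 4) c) = M.Y (k + 4) c ∧ cj e (M.Y (k + 5) c) = M.Y (k + 3) ((C.nm t)⁻¹ * c) := by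
  have hn : algebraMap F K (C.nm t) ≠ 0 := t3cw1h28_nm_ne_zero C ht
  have hni : (algebraMap F K (C.nm t))⁻¹ ≠ 0 := inv_ne_zero hn
  have ht2 : t ^ 2 ≠ 0 := pow_ne_zero 2 ht
  have hti2 : t⁻¹ ^ 2 ≠ 0 := pow_ne_zero 2 (inv_ne_zero ht)
  obtain ⟨f0, f1, f2, f3, f4, f5⟩ := t3cw1h28_fields S (σ e) k ht he
  have i03 : (t⁻¹ ^ 2)⁻¹ = t ^ 2 := by rw [inv_pow, inv_inv]
  have i30 : (t ^ 2)⁻¹ = t⁻¹ ^ 2 := by rw [inv_pow]
  have i14 : ((algebraMap F K (C.nm t))⁻¹ * t ^ 2)⁻¹ = algebraMap F K (C.nm t) * t⁻¹ ^ 2 := by rw [mul_inv, inv_inv, inv_pow]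
  have i41 : (algebraMap F K (C.nm t) * t⁻¹ ^ 2)⁻¹ = (algebraMap F K (C.nm t))⁻¹ * t ^ 2 := by rw [mul_inv, inv_pow, inv_inv]
  have i25 : (-(algebraMap F K (C.nm t) * t⁻¹ ^ 2))⁻¹ = -((algebraMap F K (C.nm t))⁻¹ * t ^ 2) := by rw [inv_neg, i41]
  have i52 : (-((algebraMap F K (C.nm t))⁻¹ * t ^ 2))⁻¹ = -(algebraMap F K (C.nm t) * t⁻¹ ^ 2) := by rw [inv_neg, i14]
  have P0 := t3cw2h28_mp S (σ e) k (k + 3) (k + 3) k rfl (t3cw3h28_idx0 k 3 3 (by decide)) _ _ i03 f0 f3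
  have P1 := t3cw2h28_mp S (σ e) (k + 1) (k + 2) (k + 4) (k + 5) (t3cw3h28_idx k 1 3 4 (by decide)) (t3cw3h28_idx k 2 3 5 (by decide)) _ _ i14 f1 f4
  have P2 := t3cw2h28_mp S (σ e) (k + 2) (k + 1) (k + 5) (k + 4) (t3cw3h28_idx k 2 3 5 (by decide)) (t3cw3h28_idx k 1 3 4 (by decide)) _ _ i25 f2 f5
  have P3 := t3cw2h28_mp S (σ e) (k + 3) k k (k + 3) (t3cw3h28_idx0 k 3 3 (by decide)) rfl _ _ i30 f3 f0
  have P4 := t3cw2h28_mp S (σ e) (k + 4) (k + 5) (k + 1) (k + 2) (t3cw3h28_idx k 4 3 1 (by decide)) (t3cw3h28_idx k 5 3 2 (by decide)) _ _ i41 f4 f1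
  have P5 := t3cw2h28_mp S (σ e) (k + 5) (k + 4) (k + 2) (k + 1) (t3cw3h28_idx k 5 3 2 (by decide)) (t3cw3h28_idx k 4 3 1 (by decide)) _ _ i52 f5 f2
  have n0 : t⁻¹ ^ 2 ≠ 0 := hti2
  have n1 : (algebraMap F K (C.nm t))⁻¹ * t ^ 2 ≠ 0 := mul_ne_zero hni ht2
  have n2 : -(algebraMap F K (C.nm t) * t⁻¹ ^ 2) ≠ 0 := neg_ne_zero.2 (mul_ne_zero hn hti2)
  have n3 : t ^ 2 ≠ 0 := ht2
  have n4 : algebraMap F K (C.nm t) * t⁻¹ ^ 2 ≠ 0 := mul_ne_zero hn hti2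
  have n5 : -((algebraMap F K (C.nm t))⁻¹ * t ^ 2) ≠ 0 := neg_ne_zero.2 (mul_ne_zero hni ht2)
  have e0 : t⁻¹ ^ 2 * ((algebraMap F K (C.nm t))⁻¹ * t ^ 2) = algebraMap F K (C.nm t)⁻¹ := by
    rw [map_inv₀]; field_simp
  have e1 : (algebraMap F K (C.nm t))⁻¹ * t ^ 2 * -(algebraMap F K (C.nm t) * t⁻¹ ^ 2) = algebraMap F K (-1) := by
    rw [map_neg, map_one]; field_simp
  have e2 : -(algebraMap F K (C.nm t) * t⁻¹ ^ 2) * t ^ 2 = algebraMap F K (-(C.nm t)) := by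
    rw [map_neg]; field_simp
  have e3 : t ^ 2 * (algebraMap F K (C.nm t) * t⁻¹ ^ 2) = algebraMap F K (C.nm t) := by
    field_simp
  have e4 : algebraMap F K (C.nm t) * t⁻¹ ^ 2 * -((algebraMap F K (C.nm t))⁻¹ * t ^ 2) = algebraMap F K (-1) := by
    rw [map_neg, map_one]; field_simp
  have e5 : -((algebraMap F K (C.nm t))⁻¹ * t ^ 2) * t⁻¹ ^ 2 = algebraMap F K (-(C.nm t)⁻¹) := by
    rw [map_neg, map_inv₀]; field_simp
  have g0 := t3cw2h28_refl hC M e k (k + 2) (k + 1) (k + 3) rfl (t3cw3h28_idx k 2 1 3 (by decide)) n0 n1 P0 P1 e0 c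
  have g1 := t3cw2h28_refl hC M e (k + 1) (k + 1) (k + 2) (k + 2) (t3cw3h28_idx k 1 1 2 (by decide)) (t3cw3h28_idx k 1 1 2 (by decide)) n1 n2 P1 P2 e1 c
  have g2 := t3cw2h28_refl hC M e (k + 2) k (k + 3) (k + 1) (t3cw3h28_idx k 2 1 3 (by decide)) rfl n2 n3 P2 P3 e2 c
  have g3 := t3cw2h28_refl hC M e (k + 3) (k + 5) (k + 4) k (t3cw3h28_idx k 3 1 4 (by decide)) (t3cw3h28_idx0 k 5 1 (by decide)) n3 n4 P3 P4 e3 c
  have g4 := t3cw2h28_refl hC M e (k + 4) (k + 4) (k + 5) (k + 5) (t3cw3h28_idx k 4 1 5 (by decide)) (t3cw3h28_idx k 4 1 5 (by decide)) n4 n5 P4 P5 e4 c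
  have g5 := t3cw2h28_refl hC M e (k + 5) (k + 3) k (k + 4) (t3cw3h28_idx0 k 5 1 (by decide)) (t3cw3h28_idx k 3 1 4 (by decide)) n5 n0 P5 P0 e5 c
  refine ⟨g0, ?_, ?_, g3, ?_, ?_⟩
  · rw [g1]; congr 1; ring
  · rw [g2]; congr 1; ring
  · rw [g4]; congr 1; ring
  · rw [g5]; congr 1; ring

end W

end Cfsg.Agent.Lib.helper17.T3
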