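import Mathlib
import Cfsg.Agent.Lib.helper17.T3.DefsC
import Cfsg.Agent.Lib.Helper28.T3CE2
import Cfsg.Agent.Lib.Helper28.T3CW2

/-!
# T3C row W4 (`wl_l_up`): the long Weyl element on the long lifts (helper28)
-/

set_option autoImplicit false

namespace Cfsg.Agent.Lib.helper17.T3

open Cfsg.Agent.Lib.helper15.St2 Cfsg.Agent.Lib.helper7.Ce Matrix

variable {F K : Type*} [Field F] [Field K] [Algebra F K]

variable {C : Cub F K} {G Γ : Type*} [Group G] [Group Γ]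

section W

variable {S : SysT C G} {σ : Γ →* G} {L : ShortLift S σ}

/-- the six fields `wl_s0 … wl_s5` for an element `g = wl k c`, with the coefficients written as `a * u` -/
theorem t3cw4h28_fields (S : SysT C G) (g : G) (k : ZMod 6) {c : F} (hc : c ≠ 0) (he : g = S.xl k c * S.xl (k + 3) c⁻¹ * S.xl k c) :
    (∀ t, cj g (S.xs k t) = S.xs (k + 4) (-(algebraMap F K c)⁻¹ * t)) ∧
    (∀ t, cj g (S.xs (k + 1) t) = S.xs (k + 3) ((algebraMap F K c)⁻¹ * t)) ∧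
    (∀ t, cj g (S.xs (k + 2) t) = S.xs (k + 2) (1 * t)) ∧
    (∀ t, cj g (S.xs (k + 3) t) = S.xs (k + 1) (-(algebraMap F K c) * t)) ∧
    (∀ t, cj g (S.xs (k + 4) t) = S.xs k (algebraMap F K c * t)) ∧
    (∀ t, cj g (S.xs (k + 5) t) = S.xs (k + 5) (1 * t)) := by
  refine ⟨?_, ?_, ?_, ?_, ?_, ?_⟩
  · intro t
    rw [he, S.wl_s0 k c t hc, Algebra.smul_def, map_inv₀, neg_mul]
  · intro t
    rw [he, S.wl_s1 k c t hc, Algebra.smul_def, map_inv₀]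
  · intro t
    rw [he, S.wl_s2 k c t hc, one_mul]
  · intro t
    rw [he, S.wl_s3 k c t hc, Algebra.smul_def, neg_mul]
  · intro t
    rw [he, S.wl_s4 k c t hc, Algebra.smul_def]
  · intro t
    rw [he, S.wl_s5 k c t hc, one_mul]

/-- [W4] [M] the long Weyl element on the long lifts. -/
theorem wl_l_up (hC : C.Good) (M : LongLift S σ L) (e : Γ) (k : ZMod 6) {c : F} (hc : c ≠ 0) (he : σ e = S.xl k c * S.xl (k + 3) c⁻¹ * S.xl k c) (d : F) :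
    cj e (M.Y k d) = M.Y (k + 3) (c⁻¹ ^ 2 * d) ∧ cj e (M.Y (k + 1) d) = M.Y (k + 2) (-(c⁻¹ * d)) ∧ cj e (M.Y (k + 2) d) = M.Y (k + 1) (c * d) ∧
    cj e (M.Y (k + 3) d) = M.Y k (c ^ 2 * d) ∧ cj e (M.Y (k + 4) d) = M.Y (k + 5) (-(c * d)) ∧ cj e (M.Y (k + 5) d) = M.Y (k + 4) (c⁻¹ * d) := by
  have ha : algebraMap F K c ≠ 0 := by
    intro h0
    exact hc ((algebraMap F K).injective (by rw [h0, map_zero]))
  have hai : (algebraMap F K c)⁻¹ ≠ 0 := inv_ne_zero ha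
  obtain ⟨f0, f1, f2, f3, f4, f5⟩ := t3cw4h28_fields S (σ e) k hc he
  have Q0 := t3cw2h28_mp S (σ e) k (k + 4) (k + 3) (k + 1) rfl (t3cw3h28_idx k 4 3 1 (by decide)) (-(algebraMap F K c)⁻¹) (-(algebraMap F K c))
    (by rw [inv_neg, inv_inv]) f0 f3
  have Q1 := t3cw2h28_mp S (σ e) (k + 1) (k + 3) (k + 4) k (t3cw3h28_idx k 1 3 4 (by decide)) (t3cw3h28_idx0 k 3 3 (by decide)) ((algebraMap F K c)⁻¹)
    (algebraMap F K c) (inv_inv _) f1 f4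
  have Q2 := t3cw2h28_mp S (σ e) (k + 2) (k + 2) (k + 5) (k + 5) (t3cw3h28_idx k 2 3 5 (by decide)) (t3cw3h28_idx k 2 3 5 (by decide)) 1 1 inv_one f2 f5
  have Q3 := t3cw2h28_mp S (σ e) (k + 3) (k + 1) k (k + 4) (t3cw3h28_idx0 k 3 3 (by decide)) (t3cw3h28_idx k 1 3 4 (by decide)) (-(algebraMap F K c))
    (-(algebraMap F K c)⁻¹) (by rw [inv_neg]) f3 f0
  have Q4 := t3cw2h28_mp S (σ e) (k + 4) k (k + 1) (k + 3) (t3cw3h28_idx k 4 3 1 (by decide)) rfl (algebraMap F K c) ((algebraMap F K c)⁻¹) rfl f4 f1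
  have Q5 := t3cw2h28_mp S (σ e) (k + 5) (k + 5) (k + 2) (k + 2) (t3cw3h28_idx k 5 3 2 (by decide)) (t3cw3h28_idx k 5 3 2 (by decide)) 1 1 inv_one f5 f2
  have n0 : -(algebraMap F K c)⁻¹ ≠ 0 := neg_ne_zero.2 hai
  have n3 : -(algebraMap F K c) ≠ 0 := neg_ne_zero.2 ha
  have n1 : (1 : K) ≠ 0 := one_ne_zero
  have e0 : -(algebraMap F K c)⁻¹ * (algebraMap F K c)⁻¹ = algebraMap F K (-(c⁻¹ ^ 2)) := by
    rw [map_neg, map_pow, map_inv₀]; ring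
  have e1 : (algebraMap F K c)⁻¹ * 1 = algebraMap F K c⁻¹ := by
    rw [map_inv₀, mul_one]
  have e2 : (1 : K) * -(algebraMap F K c) = algebraMap F K (-c) := by
    rw [map_neg, one_mul]
  have e3 : -(algebraMap F K c) * algebraMap F K c = algebraMap F K (-(c ^ 2)) := by
    rw [map_neg, map_pow]; ring
  have e4 : algebraMap F K c * 1 = algebraMap F K c := mul_one _
  have e5 : (1 : K) * -(algebraMap F K c)⁻¹ = algebraMap F K (-(c⁻¹)) := by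
    rw [map_neg, map_inv₀, one_mul]
  have g0 := t3cw2h28_refl hC M e k (k + 3) (k + 1) (k + 4) rfl (t3cw3h28_idx k 3 1 4 (by decide)) n0 hai Q0 Q1 e0 d
  have g1 := t3cw2h28_refl hC M e (k + 1) (k + 2) (k + 2) (k + 3) (t3cw3h28_idx k 1 1 2 (by decide)) (t3cw3h28_idx k 2 1 3 (by decide)) hai n1 Q1 Q2 e1 d
  have g2 := t3cw2h28_refl hC M e (k + 2) (k + 1) (k + 3) (k + 2) (t3cw3h28_idx k 2 1 3 (by decide)) (t3cw3h28_idx k 1 1 2 (by decide)) n1 n3 Q2 Q3 e2 d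
  have g3 := t3cw2h28_refl hC M e (k + 3) k (k + 4) (k + 1) (t3cw3h28_idx k 3 1 4 (by decide)) rfl n3 ha Q3 Q4 e3 d
  have g4 := t3cw2h28_refl hC M e (k + 4) (k + 5) (k + 5) k (t3cw3h28_idx k 4 1 5 (by decide)) (t3cw3h28_idx0 k 5 1 (by decide)) ha n1 Q4 Q5 e4 d
  have g5 := t3cw2h28_refl hC M e (k + 5) (k + 4) k (k + 5) (t3cw3h28_idx0 k 5 1 (by decide)) (t3cw3h28_idx k 4 1 5 (by decide)) n1 n0 Q5 Q0 e5 d
  refine ⟨?_, g1, ?_, ?_, g4, ?_⟩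
  · rw [g0]; congr 1; ring
  · rw [g2]; congr 1; ring
  · rw [g3]; congr 1; ring
  · rw [g5]; congr 1; ring

end W

end Cfsg.Agent.Lib.helper17.T3
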