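import Cfsg.Agent.Lib.Helper28.TOO.Defs2

/-!
# Project TOO, row GC6 (helper28): core of `pgrp` (C1 in the form `c1_img` and `x_W(c) ∈ K0` as hypotheses)
-/

set_option autoImplicit false
set_option linter.unusedVariables false
set_option linter.unusedSectionVars false

namespace Cfsg.Agent.Lib.Helper28.TOO

open Matrix
open scoped Kronecker
open Cfsg.Agent.Lib.helper7.TP Cfsg.Agent.Lib.Helper21.TS

variable {a b : ℕ} {F : Type*} [Field F]
variable {J1 : Matrix (Fin a) (Fin a) F} {J2 : Matrix (Fin b) (Fin b) F}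

theorem toogc6_core [Fintype F] (p : ℕ) [Fact p.Prime]
    (M : Subgroup (Matrix.GeneralLinearGroup (Fin a × Fin b) F)) (hMO : M ≤ OV J1 J2) (hS : StabPl (a := a) J2 M)
    (Q : Subgroup (Matrix.GeneralLinearGroup (Fin a × Fin b) F)) (hQM : Q ≤ M) (hQ : IsPGroup p Q)
    (w₁ w₂ : Fin b → F) (hw : IsTS J2 w₁ w₂) (c : F) (hc : c ≠ 0)
    (hC1 : ∀ h γ : Matrix.GeneralLinearGroup (Fin a × Fin b) F, h ∈ K0 a b F → h ∈ OV J1 J2 →
      (h : Matrix (Fin a × Fin b) (Fin a × Fin b) F) =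
        (γ : Matrix (Fin a × Fin b) (Fin a × Fin b) F) * (1 + c • NV (a := a) J2 w₁ w₂) *
          ((γ⁻¹ : Matrix.GeneralLinearGroup (Fin a × Fin b) F) : Matrix (Fin a × Fin b) (Fin a × Fin b) F) →
      Std J2 (img γ (Lpl (a := a) w₁ w₂)))
    (hxK0 : ∀ g : Matrix.GeneralLinearGroup (Fin a × Fin b) F,
      (g : Matrix (Fin a × Fin b) (Fin a × Fin b) F) = 1 + c • NV (a := a) J2 w₁ w₂ → g ∈ K0 a b F)
    (hx : InM Q (1 + c • NV (a := a) J2 w₁ w₂)) : Q ≤ K0 a b F := by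
  classical
  by_contra hcon
  have : Group.IsNilpotent Q := hQ.isNilpotent
  have hnc : NormalizerCondition Q := Group.normalizerCondition_of_isNilpotent
  set H : Subgroup Q := (K0 a b F).subgroupOf Q with hH
  have hHlt : H < ⊤ := by
    rw [lt_top_iff_ne_top]
    intro htop
    apply hcon
    intro y hy
    have : (⟨y, hy⟩ : Q) ∈ H := by rw [htop]; exact Subgroup.mem_top _
    exact Subgroup.mem_subgroupOf.mp this
  obtain ⟨hle, hnle⟩ := (hnc H hHlt)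
  obtain ⟨v', hv'N, hv'H⟩ := SetLike.not_le_iff_exists.mp hnle
  have hvK : (v' : Matrix.GeneralLinearGroup (Fin a × Fin b) F) ∉ K0 a b F := fun h =>
    hv'H (Subgroup.mem_subgroupOf.mpr h)
  obtain ⟨x, hxQ, hxval⟩ := hx
  have hxH : (⟨x, hxQ⟩ : Q) ∈ H := Subgroup.mem_subgroupOf.mpr (hxK0 x hxval)
  have htH := (Subgroup.mem_normalizer_iff.mp hv'N ⟨x, hxQ⟩).mp hxH
  have htK : (v' : Matrix.GeneralLinearGroup (Fin a × Fin b) F) * x *
      (v' : Matrix.GeneralLinearGroup (Fin a × Fin b) F)⁻¹ ∈ K0 a b F := Subgroup.mem_subgroupOf.mp htH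
  have htQ : (v' : Matrix.GeneralLinearGroup (Fin a × Fin b) F) * x *
      (v' : Matrix.GeneralLinearGroup (Fin a × Fin b) F)⁻¹ ∈ Q :=
    Q.mul_mem (Q.mul_mem v'.2 hxQ) (Q.inv_mem v'.2)
  have hstd := hC1 _ (v' : Matrix.GeneralLinearGroup (Fin a × Fin b) F) htK (hMO (hQM htQ)) (by
    rw [Units.val_mul, Units.val_mul, hxval])
  obtain ⟨w₁', w₂', hw', heq⟩ := hstd
  apply hvK
  apply hS _ (hQM v'.2) w₁ w₂ w₁' w₂' hw hw'
  intro u hu
  rw [← heq, mem_img]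
  exact ⟨u, hu, rfl⟩

end Cfsg.Agent.Lib.Helper28.TOO
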