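import Cfsg.Agent.Lib.Helper28.TOOGH6

/-!
# Project TOO, row GH4 (helper28): `alpha_scalar`
-/

set_option autoImplicit false
set_option linter.unusedVariables false
set_option linter.unusedSectionVars false

namespace Cfsg.Agent.Lib.Helper28.TOO

open Matrix
open scoped Kronecker
open Cfsg.Agent.Lib.helper7.TP Cfsg.Agent.Lib.Helper21.TS

variable {a b : ℕ} {F : Type*} [Field F]
variable {J1 : Matrix (Fin a) (Fin a) F} {J2 : Matrix (Fin b) (Fin b) F}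

/-- the row `i₀` of a pure tensor. -/
theorem toogh4_row_ten1 (y : Fin a → F) (z : Fin b → F) (i₀ : Fin a) :
    (fun j' => (ten y z) (i₀, j')) = y i₀ • z := by
  funext j
  simp [ten]

/-- `y ⊥ w₁, w₂` iff `y ⊥ span {w₁, w₂}`. -/
theorem toogh4_mem_perp_span {n : ℕ} (J : Matrix (Fin n) (Fin n) F) (w₁ w₂ y : Fin n → F) :
    y ∈ perp J (Submodule.span F {w₁, w₂}) ↔ bf J y w₁ = 0 ∧ bf J y w₂ = 0 := by
  constructor
  · intro h
    exact ⟨h w₁ (Submodule.subset_span (by simp)), h w₂ (Submodule.subset_span (by simp))⟩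
  · rintro ⟨h1, h2⟩ s hs
    obtain ⟨c₁, c₂, rfl⟩ := Submodule.mem_span_pair.mp hs
    rw [bf_add_right, bf_smul_right, bf_smul_right, h1, h2, mul_zero, mul_zero, add_zero]

/-- a vector of `W^⊥` outside `W` and a functional `f(ψ, ·)` vanishing on `W`, non-zero on it (`5 ≤ n`). -/
theorem toogh4_exists_psi {n : ℕ} {J : Matrix (Fin n) (Fin n) F} (hJ : Jᵀ = J) (hdet : J.det ≠ 0) (hn : 5 ≤ n)
    (w₁ w₂ : Fin n → F) :
    ∃ y₀ ψ : Fin n → F, bf J y₀ w₁ = 0 ∧ bf J y₀ w₂ = 0 ∧ bf J ψ w₁ = 0 ∧ bf J ψ w₂ = 0 ∧ bf J ψ y₀ ≠ 0 := by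
  classical
  have hWdim : Module.finrank F ↥(Submodule.span F ({w₁, w₂} : Set (Fin n → F))) ≤ 2 := by
    have h1 := finrank_span_le_card (R := F) ({w₁, w₂} : Set (Fin n → F))
    have h2 : ({w₁, w₂} : Set (Fin n → F)).toFinset.card ≤ 2 := by
      have : ({w₁, w₂} : Set (Fin n → F)).toFinset = {w₁, w₂} := by ext; simp
      rw [this]
      exact Finset.card_le_two
    omega
  have hperp := tooperp_finrank hJ hdet (Submodule.span F ({w₁, w₂} : Set (Fin n → F)))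
  rw [Fintype.card_fin] at hperp
  have hnot : ¬ perp J (Submodule.span F ({w₁, w₂} : Set (Fin n → F))) ≤
      Submodule.span F ({w₁, w₂} : Set (Fin n → F)) := by
    intro hle
    have := Submodule.finrank_mono hle
    omega
  obtain ⟨y₀, hy₀, hy₀W⟩ := SetLike.not_le_iff_exists.mp hnot
  have hy₀' := (toogh4_mem_perp_span J w₁ w₂ y₀).mp hy₀
  have hex : ∃ ψ ∈ perp J (Submodule.span F ({w₁, w₂} : Set (Fin n → F))), bf J ψ y₀ ≠ 0 := by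
    by_contra hcon
    push Not at hcon
    apply hy₀W
    rw [← tooperp_perp_perp hJ hdet (Submodule.span F ({w₁, w₂} : Set (Fin n → F)))]
    intro ψ hψ
    rw [bf_symm hJ]
    exact hcon ψ hψ
  obtain ⟨ψ, hψ, hψy⟩ := hex
  have hψ' := (toogh4_mem_perp_span J w₁ w₂ ψ).mp hψ
  exact ⟨y₀, ψ, hy₀'.1, hy₀'.2, hψ'.1, hψ'.2, hψy⟩

/-- `r ⊗ y ∈ L_W^⊥` when `y ⊥ W`. -/
theorem toogh4_ten_mem_perp (C : OCtx J1 J2) (w₁ w₂ : Fin b → F) (u : Fin a → F) (y : Fin b → F)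
    (h1 : bf J2 y w₁ = 0) (h2 : bf J2 y w₂ = 0) :
    ten u y ∈ perp (JV J1 J2) (Lpl (a := a) w₁ w₂) := by
  rintro _ ⟨u₁, u₂, rfl⟩
  simp only [bf_add_right, bf_JV_ten, h1, h2, mul_zero, add_zero]

/-- GH4 [M-L]. -/
theorem alpha_scalar (C : OCtx J1 J2) (ha : 1 ≤ a) (hb : 5 ≤ b) (w₁ w₂ : Fin b → F) (hw : IsTS J2 w₁ w₂)
    (m : Matrix.GeneralLinearGroup (Fin a × Fin b) F) (hK0 : m ∈ K0 a b F) (hO : m ∈ OV J1 J2)
    (hL : ∀ v ∈ Lpl (a := a) w₁ w₂, (m : Matrix (Fin a × Fin b) (Fin a × Fin b) F) *ᵥ v ∈ Lpl (a := a) w₁ w₂)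
    (hq : ∀ v ∈ perp (JV J1 J2) (Lpl (a := a) w₁ w₂),
      (m : Matrix (Fin a × Fin b) (Fin a × Fin b) F) *ᵥ v - v ∈ Lpl (a := a) w₁ w₂) :
    ∃ β' : Matrix (Fin b) (Fin b) F,
      (m : Matrix (Fin a × Fin b) (Fin a × Fin b) F) = (1 : Matrix (Fin a) (Fin a) F) ⊗ₖ β' ∧
      β'ᵀ * J2 * β' = J2 ∧
      (∃ p q r s : F, β' *ᵥ w₁ = p • w₁ + q • w₂ ∧ β' *ᵥ w₂ = r • w₁ + s • w₂) ∧
      (∀ y : Fin b → F, bf J2 w₁ y = 0 → bf J2 w₂ y = 0 → ∃ c₁ c₂ : F, β' *ᵥ y - y = c₁ • w₁ + c₂ • w₂) := by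
  classical
  obtain ⟨α, β, hαβ⟩ := (mem_K0 m).mp hK0
  obtain ⟨y₀, ψ, hy1, hy2, hψ1, hψ2, hψy⟩ := toogh4_exists_psi C.sym2 C.det2 hb w₁ w₂
  -- contraction with `f₂(ψ, ·)`
  have hdot : ∀ w : Fin b → F, (ψ ᵥ* J2) ⬝ᵥ w = bf J2 ψ w := by
    intro w
    rw [bf, Matrix.dotProduct_mulVec]
  have hctrL : ∀ v ∈ Lpl (a := a) w₁ w₂, ctr (ψ ᵥ* J2) v = 0 := by
    rintro _ ⟨u₁, u₂, rfl⟩
    rw [ctr_add, ctr_ten, ctr_ten, hdot, hdot, hψ1, hψ2, zero_smul, zero_smul, add_zero]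
  -- α is scalar
  have hα : ∀ u : Fin a → F,
      bf J2 ψ ((β : Matrix (Fin b) (Fin b) F) *ᵥ y₀) • ((α : Matrix (Fin a) (Fin a) F) *ᵥ u) = bf J2 ψ y₀ • u := by
    intro u
    have h1 := hq _ (toogh4_ten_mem_perp C w₁ w₂ u y₀ hy1 hy2)
    have h2 := hctrL _ h1
    rw [hαβ, kron_mulVec_ten] at h2
    have h3 : ctr (ψ ᵥ* J2) (ten ((α : Matrix (Fin a) (Fin a) F) *ᵥ u) ((β : Matrix (Fin b) (Fin b) F) *ᵥ y₀) -
        ten u y₀) = bf J2 ψ ((β : Matrix (Fin b) (Fin b) F) *ᵥ y₀) • ((α : Matrix (Fin a) (Fin a) F) *ᵥ u) -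
          bf J2 ψ y₀ • u := by
      rw [sub_eq_add_neg, ctr_add, ← neg_one_smul F (ten u y₀), ctr_smul, ctr_ten, ctr_ten, hdot, hdot]
      simp only [neg_smul, one_smul]
      abel
    rw [h3] at h2
    exact sub_eq_zero.mp h2
  set e := bf J2 ψ y₀ with he
  set e' := bf J2 ψ ((β : Matrix (Fin b) (Fin b) F) *ᵥ y₀) with he'
  have he'0 : e' ≠ 0 := by
    intro h0
    have h1 := hα (Pi.single ⟨0, ha⟩ 1)
    rw [h0, zero_smul] at h1
    have h2 := congrFun h1 ⟨0, ha⟩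
    simp only [Pi.zero_apply, Pi.smul_apply, Pi.single_eq_same, smul_eq_mul, mul_one] at h2
    exact hψy h2.symm
  have hαu : ∀ u : Fin a → F, (α : Matrix (Fin a) (Fin a) F) *ᵥ u = (e / e') • u := by
    intro u
    have h1 := hα u
    have h2 : (α : Matrix (Fin a) (Fin a) F) *ᵥ u = e'⁻¹ • (e' • ((α : Matrix (Fin a) (Fin a) F) *ᵥ u)) := by
      rw [smul_smul, inv_mul_cancel₀ he'0, one_smul]
    rw [h2, h1, smul_smul, div_eq_mul_inv, mul_comm]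
  have hαeq : (α : Matrix (Fin a) (Fin a) F) = (e / e') • (1 : Matrix (Fin a) (Fin a) F) := by
    rw [Matrix.ext_iff_mulVec]
    intro u
    rw [hαu, Matrix.smul_mulVec, Matrix.one_mulVec]
  set μ := e / e' with hμ
  have hm1 : (m : Matrix (Fin a × Fin b) (Fin a × Fin b) F) =
      (1 : Matrix (Fin a) (Fin a) F) ⊗ₖ (μ • (β : Matrix (Fin b) (Fin b) F)) := by
    rw [hαβ, hαeq, Matrix.smul_kronecker, Matrix.kronecker_smul]
  have hmten : ∀ (u : Fin a → F) (y : Fin b → F),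
      (m : Matrix (Fin a × Fin b) (Fin a × Fin b) F) *ᵥ ten u y = ten u ((μ • (β : Matrix (Fin b) (Fin b) F)) *ᵥ y) := by
    intro u y
    rw [hm1, kron_mulVec_ten, Matrix.one_mulVec]
  refine ⟨μ • (β : Matrix (Fin b) (Fin b) F), ?_, ?_, ?_, ?_⟩
  · rw [hαβ, hαeq, Matrix.smul_kronecker, Matrix.kronecker_smul]
  · -- isometry
    apply bf_ext
    intro y y'
    rw [← bf_mulVec_right, ← bf_mulVec_left]
    obtain ⟨u', hu'⟩ := bf_nondeg C.det1 (x := Pi.single ⟨0, ha⟩ (1 : F)) (by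
      intro h
      have := congrFun h ⟨0, ha⟩
      simp at this)
    have h1 := (mem_Iso_iff_bf _ m).mp hO (ten (Pi.single ⟨0, ha⟩ 1) y) (ten u' y')
    rw [hmten, hmten, bf_JV_ten, bf_JV_ten] at h1
    exact mul_left_cancel₀ hu' h1
  · -- stabilises W
    have h1 := hL _ ⟨Pi.single ⟨0, ha⟩ 1, 0, rfl⟩
    have h2 := hL _ ⟨0, Pi.single ⟨0, ha⟩ 1, rfl⟩
    rw [toogh6d_ten_zero, add_zero, hmten] at h1
    rw [toogh6d_ten_zero, zero_add, hmten] at h2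
    obtain ⟨x₁, x₂, hx⟩ := h1
    obtain ⟨x₁', x₂', hx'⟩ := h2
    refine ⟨x₁ ⟨0, ha⟩, x₂ ⟨0, ha⟩, x₁' ⟨0, ha⟩, x₂' ⟨0, ha⟩, ?_, ?_⟩
    · have h3 := congrArg (fun v : Fin a × Fin b → F => fun j' => v (⟨0, ha⟩, j')) hx
      simp only [toogh6_row_ten, toogh4_row_ten1, Pi.single_eq_same, one_smul] at h3
      exact h3
    · have h3 := congrArg (fun v : Fin a × Fin b → F => fun j' => v (⟨0, ha⟩, j')) hx'
      simp only [toogh6_row_ten, toogh4_row_ten1, Pi.single_eq_same, one_smul] at h3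
      exact h3
  · intro y hy1' hy2'
    have hy1'' : bf J2 y w₁ = 0 := by rw [bf_symm C.sym2]; exact hy1'
    have hy2'' : bf J2 y w₂ = 0 := by rw [bf_symm C.sym2]; exact hy2'
    have h1 := hq _ (toogh4_ten_mem_perp C w₁ w₂ (Pi.single ⟨0, ha⟩ 1) y hy1'' hy2'')
    rw [hmten] at h1
    obtain ⟨x₁, x₂, hx⟩ := h1
    refine ⟨x₁ ⟨0, ha⟩, x₂ ⟨0, ha⟩, ?_⟩
    have h3 := congrArg (fun v : Fin a × Fin b → F => fun j' => v (⟨0, ha⟩, j')) hx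
    simp only [toogh6_row_ten] at h3
    rw [← h3]
    funext j
    simp [ten]

end Cfsg.Agent.Lib.Helper28.TOO
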