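import Cfsg.Agent.Lib.Helper28.TOOGH5core
import Cfsg.Agent.Lib.helper6.TOOGH5a

/-!
# Project TOO, row GH5 (helper28): `beta_trivial` (verbatim), from the core + GH5a (helper6)
-/

set_option autoImplicit false
set_option linter.unusedVariables false
set_option linter.unusedSectionVars false

namespace Cfsg.Agent.Lib.Helper28.TOO

open Matrix
open scoped Kronecker
open Cfsg.Agent.Lib.helper7.TP Cfsg.Agent.Lib.Helper21.TS

variable {a b : ℕ} {F : Type*} [Field F]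
variable {J1 : Matrix (Fin a) (Fin a) F} {J2 : Matrix (Fin b) (Fin b) F}

/-- GH5 [M]. sub-case (i): `β' = 1` on `W` ⇒ `m = x_W(c)`. -/
theorem beta_trivial (C : OCtx J1 J2) (ha : 1 ≤ a) (w₁ w₂ : Fin b → F) (hw : IsTS J2 w₁ w₂)
    (S : Submodule F (Fin a × Fin b → F))
    (hsum : perp (JV J1 J2) (Lpl (a := a) w₁ w₂) ≤
      (perp (JV J1 J2) (Lpl (a := a) w₁ w₂) ⊓ perp (JV J1 J2) S) ⊔ Lpl (a := a) w₁ w₂)
    (β' : Matrix (Fin b) (Fin b) F) (hiso : β'ᵀ * J2 * β' = J2)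
    (h1 : β' *ᵥ w₁ = w₁) (h2 : β' *ᵥ w₂ = w₂)
    (hU : ∀ u ∈ perp (JV J1 J2) (Lpl (a := a) w₁ w₂) ⊓ perp (JV J1 J2) S,
      ((1 : Matrix (Fin a) (Fin a) F) ⊗ₖ β') *ᵥ u = u) :
    ∃ c : F, (1 : Matrix (Fin a) (Fin a) F) ⊗ₖ β' = 1 + c • NV (a := a) J2 w₁ w₂ :=
  toogh5_core C ha w₁ w₂ hw
    (fun β hβ h => iso_trivial_on_perp C.two C.sym2 C.det2 w₁ w₂ hw β hβ h) S hsum β' hiso h1 h2 hU

end Cfsg.Agent.Lib.Helper28.TOO
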