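import Cfsg.Agent.Lib.Helper28.TOOGH4

/-!
# Project TOO, row GH5 (helper28): core of `beta_trivial` (GH5a `iso_trivial_on_perp` as a hypothesis)
-/

set_option autoImplicit false
set_option linter.unusedVariables false
set_option linter.unusedSectionVars false

namespace Cfsg.Agent.Lib.Helper28.TOO

open Matrix
open scoped Kronecker
open Cfsg.Agent.Lib.helper7.TP Cfsg.Agent.Lib.Helper21.TS

variable {a b : ℕ} {F : Type*} [Field F]
variable {J1 : Matrix (Fin a) (Fin a) F} {J2 : Matrix (Fin b) (Fin b) F}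

theorem toogh5_core (C : OCtx J1 J2) (ha : 1 ≤ a) (w₁ w₂ : Fin b → F) (hw : IsTS J2 w₁ w₂)
    (h5a : ∀ β : Matrix (Fin b) (Fin b) F, βᵀ * J2 * β = J2 →
      (∀ y : Fin b → F, bf J2 w₁ y = 0 → bf J2 w₂ y = 0 → β *ᵥ y = y) → ∃ c : F, β = 1 + c • Nw J2 w₁ w₂)
    (S : Submodule F (Fin a × Fin b → F))
    (hsum : perp (JV J1 J2) (Lpl (a := a) w₁ w₂) ≤
      (perp (JV J1 J2) (Lpl (a := a) w₁ w₂) ⊓ perp (JV J1 J2) S) ⊔ Lpl (a := a) w₁ w₂)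
    (β' : Matrix (Fin b) (Fin b) F) (hiso : β'ᵀ * J2 * β' = J2)
    (h1 : β' *ᵥ w₁ = w₁) (h2 : β' *ᵥ w₂ = w₂)
    (hU : ∀ u ∈ perp (JV J1 J2) (Lpl (a := a) w₁ w₂) ⊓ perp (JV J1 J2) S,
      ((1 : Matrix (Fin a) (Fin a) F) ⊗ₖ β') *ᵥ u = u) :
    ∃ c : F, (1 : Matrix (Fin a) (Fin a) F) ⊗ₖ β' = 1 + c • NV (a := a) J2 w₁ w₂ := by
  classical
  have hfixperp : ∀ y : Fin b → F, bf J2 w₁ y = 0 → bf J2 w₂ y = 0 → β' *ᵥ y = y := by
    intro y hy1 hy2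
    have hy1' : bf J2 y w₁ = 0 := by rw [bf_symm C.sym2]; exact hy1
    have hy2' : bf J2 y w₂ = 0 := by rw [bf_symm C.sym2]; exact hy2
    have hmem := hsum (toogh4_ten_mem_perp C w₁ w₂ (Pi.single ⟨0, ha⟩ 1) y hy1' hy2')
    obtain ⟨u, hu, l, hl, hul⟩ := Submodule.mem_sup.mp hmem
    obtain ⟨x₁, x₂, rfl⟩ := hl
    have h3 : ((1 : Matrix (Fin a) (Fin a) F) ⊗ₖ β') *ᵥ (ten (Pi.single ⟨0, ha⟩ 1) y) =
        ten (Pi.single ⟨0, ha⟩ 1) y := by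
      rw [← hul, Matrix.mulVec_add, hU u hu, Matrix.mulVec_add, kron_mulVec_ten, kron_mulVec_ten,
        Matrix.one_mulVec, Matrix.one_mulVec, h1, h2]
    rw [kron_mulVec_ten, Matrix.one_mulVec] at h3
    have h4 := congrArg (fun v : Fin a × Fin b → F => fun j' => v (⟨0, ha⟩, j')) h3
    simp only [toogh4_row_ten1, Pi.single_eq_same, one_smul] at h4
    exact h4
  obtain ⟨c, hc⟩ := h5a β' hiso hfixperp
  refine ⟨c, ?_⟩
  rw [hc, NV, Matrix.kronecker_add, Matrix.kronecker_smul, Matrix.one_kronecker_one]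

end Cfsg.Agent.Lib.Helper28.TOO
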