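import Cfsg.Agent.Lib.Helper28.TOOPERP
import Cfsg.Agent.Lib.Helper1.TSNTAa

/-!
# Project TOO, row GH6c (helper28): `perp_ten_kprime`
-/

set_option autoImplicit false
set_option linter.unusedVariables false
set_option linter.unusedSectionVars false

namespace Cfsg.Agent.Lib.Helper28.TOO

open Matrix
open scoped Kronecker
open Cfsg.Agent.Lib.helper7.TP Cfsg.Agent.Lib.Helper21.TS

variable {a b : ℕ} {F : Type*} [Field F]
variable {J1 : Matrix (Fin a) (Fin a) F} {J2 : Matrix (Fin b) (Fin b) F}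

theorem toogh6c_ten_zero (w : Fin b → F) : ten (0 : Fin a → F) w = 0 := by
  funext p
  simp [ten]

/-- the contraction `f₁(r,·) ⊗ 1` commutes with `1 ⊗ β`. -/
theorem toogh6c_tsP_kron (J1 : Matrix (Fin a) (Fin a) F) (r : Fin a → F) (β : Matrix (Fin b) (Fin b) F)
    (u : Fin a × Fin b → F) :
    tsP J1 r (((1 : Matrix (Fin a) (Fin a) F) ⊗ₖ β) *ᵥ u) = β *ᵥ tsP J1 r u := by
  let L1 : (Fin a × Fin b → F) →ₗ[F] (Fin b → F) :=
    { toFun := fun u => tsP J1 r (((1 : Matrix (Fin a) (Fin a) F) ⊗ₖ β) *ᵥ u)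
      map_add' := fun u u' => by
        show tsP J1 r (((1 : Matrix (Fin a) (Fin a) F) ⊗ₖ β) *ᵥ (u + u')) = _
        rw [Matrix.mulVec_add, tsP_add]
      map_smul' := fun c u => by
        show tsP J1 r (((1 : Matrix (Fin a) (Fin a) F) ⊗ₖ β) *ᵥ (c • u)) = _
        rw [Matrix.mulVec_smul, tsP_smul]
        rfl }
  let L2 : (Fin a × Fin b → F) →ₗ[F] (Fin b → F) :=
    { toFun := fun u => β *ᵥ tsP J1 r u
      map_add' := fun u u' => by
        show β *ᵥ tsP J1 r (u + u') = _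
        rw [tsP_add, Matrix.mulVec_add]
      map_smul' := fun c u => by
        show β *ᵥ tsP J1 r (c • u) = _
        rw [tsP_smul, Matrix.mulVec_smul]
        rfl }
  have h : L1 = L2 := by
    apply Cfsg.Agent.Lib.helper7.TO.lin_ext_ten
    intro x y
    show tsP J1 r (((1 : Matrix (Fin a) (Fin a) F) ⊗ₖ β) *ᵥ ten x y) = β *ᵥ tsP J1 r (ten x y)
    rw [kron_mulVec_ten, Matrix.one_mulVec, tsP_ten, tsP_ten, Matrix.mulVec_smul]
  exact congrArg (fun L : (Fin a × Fin b → F) →ₗ[F] (Fin b → F) => L u) h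

/-- GH6c [M]. -/
theorem perp_ten_kprime (C : OCtx J1 J2) (w₁ w₂ : Fin b → F) (β' : Matrix (Fin b) (Fin b) F) (k' : Fin b → F)
    (hk' : ∀ y : Fin b → F, bf J2 w₁ y = 0 → bf J2 w₂ y = 0 → β' *ᵥ y = y → bf J2 k' y = 0)
    (u : Fin a × Fin b → F) (hu : u ∈ perp (JV J1 J2) (Lpl (a := a) w₁ w₂))
    (hfix : ((1 : Matrix (Fin a) (Fin a) F) ⊗ₖ β') *ᵥ u = u) (r : Fin a → F) :
    bf (JV J1 J2) u (ten r k') = 0 := by
  rw [bf_symm (tooperp_JV_symm C), tsnta_bf_left]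
  apply hk'
  · rw [← tsnta_bf_left, bf_symm (tooperp_JV_symm C)]
    apply hu
    exact ⟨r, 0, by rw [toogh6c_ten_zero, add_zero]⟩
  · rw [← tsnta_bf_left, bf_symm (tooperp_JV_symm C)]
    apply hu
    exact ⟨0, r, by rw [toogh6c_ten_zero, zero_add]⟩
  · rw [← toogh6c_tsP_kron, hfix]

end Cfsg.Agent.Lib.Helper28.TOO
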