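import Cfsg.Agent.Lib.Helper28.TOOGH6a

/-!
# Project TOO, row GH6d (helper28): `graph_singular`
-/

set_option autoImplicit false
set_option linter.unusedVariables false
set_option linter.unusedSectionVars false

namespace Cfsg.Agent.Lib.Helper28.TOO

open Matrix
open scoped Kronecker
open Cfsg.Agent.Lib.helper7.TP Cfsg.Agent.Lib.Helper21.TS

variable {a b : ℕ} {F : Type*} [Field F]
variable {J1 : Matrix (Fin a) (Fin a) F} {J2 : Matrix (Fin b) (Fin b) F}

theorem toogh6d_ten_zero (w : Fin b → F) : ten (0 : Fin a → F) w = 0 := by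
  funext p
  simp [ten]

/-- the linear combination `Σ r i • s i` of the chosen vectors. -/
theorem toogh6d_key (k i' k' : Fin b → F) (s : Fin a → (Fin a × Fin b → F)) (X1 X2 : Fin a → (Fin a → F))
    (hs : ∀ i, s i = ten (Pi.single i 1) k' + ten (X1 i) k + ten (X2 i) i') (r : Fin a → F) :
    ∑ i, r i • s i = ten r k' + ten ((Matrix.of fun j i => X1 i j) *ᵥ r) k +
      ten ((Matrix.of fun j i => X2 i j) *ᵥ r) i' := by
  classical
  funext p
  obtain ⟨i0, j0⟩ := p
  simp only [hs, ten, Finset.sum_apply, Pi.add_apply, Pi.smul_apply, smul_eq_mul, Matrix.mulVec,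
    dotProduct, Matrix.of_apply, Pi.single_apply]
  simp only [mul_add, Finset.sum_add_distrib]
  congr 1
  · congr 1
    · rw [Finset.sum_eq_single i0]
      · simp
      · intro i _ hi
        simp [Ne.symm hi]
      · intro h
        exact absurd (Finset.mem_univ i0) h
    · rw [Finset.sum_mul]
      apply Finset.sum_congr rfl
      intro i _
      ring
  · rw [Finset.sum_mul]
    apply Finset.sum_congr rfl
    intro i _
    ring

/-- GH6d [M-L]. the graph argument. -/
theorem graph_singular (C : OCtx J1 J2) (hodd : Odd a) (k i' k' : Fin b → F)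
    (hkk' : IsTS J2 k k') (hki' : IsTS J2 k i') (hik : bf J2 i' k' = 1)
    (S : Submodule F (Fin a × Fin b → F)) (hSts : S ≤ perp (JV J1 J2) S)
    (h1 : ∀ r : Fin a → F, ∃ s ∈ S, ∃ x₁ x₂ : Fin a → F, s = ten r k' + ten x₁ k + ten x₂ i') :
    ∃ s₀ ∈ S, ∃ r₀ x : Fin a → F, r₀ ≠ 0 ∧ s₀ = ten r₀ k' + ten x k := by
  classical
  choose s hsS X1 X2 hs using fun i : Fin a => h1 (Pi.single i 1)
  have hkey := toogh6d_key k i' k' s X1 X2 hs
  have hmem : ∀ r : Fin a → F, ∑ i, r i • s i ∈ S := fun r =>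
    Submodule.sum_mem _ fun i _ => Submodule.smul_mem _ _ (hsS i)
  -- values of the form on `k, i', k'`
  have e1 : bf J2 k' k' = 0 := hkk'.2.2.1
  have e2 : bf J2 k k' = 0 := hkk'.2.1
  have e2' : bf J2 k' k = 0 := by rw [bf_symm C.sym2]; exact e2
  have e3 : bf J2 k k = 0 := hkk'.1
  have e4 : bf J2 k i' = 0 := hki'.2.1
  have e4' : bf J2 i' k = 0 := by rw [bf_symm C.sym2]; exact e4
  have e5 : bf J2 i' i' = 0 := hki'.2.2.1
  have e6 : bf J2 k' i' = 1 := by rw [bf_symm C.sym2]; exact hik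
  have hskew : ∀ r r' : Fin a → F,
      bf J1 r ((Matrix.of fun j i => X2 i j) *ᵥ r') + bf J1 ((Matrix.of fun j i => X2 i j) *ᵥ r) r' = 0 := by
    intro r r'
    have h0 := hSts (hmem r) _ (hmem r')
    rw [hkey r, hkey r'] at h0
    simp only [bf_add_left, bf_add_right, bf_JV_ten, e1, e2, e2', e3, e4, e4', e5, e6, hik, mul_zero,
      mul_one, add_zero, zero_add] at h0
    linear_combination h0
  obtain ⟨r₀, hr₀, hΛ⟩ := skew_odd C hodd _ hskew
  refine ⟨∑ i, r₀ i • s i, hmem r₀, r₀, (Matrix.of fun j i => X1 i j) *ᵥ r₀, hr₀, ?_⟩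
  rw [hkey r₀, hΛ, toogh6d_ten_zero, add_zero]

end Cfsg.Agent.Lib.Helper28.TOO
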