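import Cfsg.Agent.Lib.Helper28.TOOGH6b
import Cfsg.Agent.Lib.Helper28.TOOGH6c
import Cfsg.Agent.Lib.Helper28.TOOGH6d

/-!
# Project TOO, row GH6 (helper28): `beta_nontrivial`
-/

set_option autoImplicit false
set_option linter.unusedVariables false
set_option linter.unusedSectionVars false

namespace Cfsg.Agent.Lib.Helper28.TOO

open Matrix
open scoped Kronecker
open Cfsg.Agent.Lib.helper7.TP Cfsg.Agent.Lib.Helper21.TS

variable {a b : ℕ} {F : Type*} [Field F]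
variable {J1 : Matrix (Fin a) (Fin a) F} {J2 : Matrix (Fin b) (Fin b) F}

/-- `L_W ≤ L_W^⊥` (local copy of GA5). -/
theorem toogh6_Lpl_le_perp (C : OCtx J1 J2) (w₁ w₂ : Fin b → F) (h : IsTS J2 w₁ w₂) :
    Lpl (a := a) w₁ w₂ ≤ perp (JV J1 J2) (Lpl (a := a) w₁ w₂) := by
  obtain ⟨h11, h12, h22, _⟩ := h
  have h21 : bf J2 w₂ w₁ = 0 := by rw [bf_symm C.sym2]; exact h12
  rintro _ ⟨u₁, u₂, rfl⟩ _ ⟨u₁', u₂', rfl⟩
  simp only [bf_add_left, bf_add_right, bf_JV_ten, h11, h12, h21, h22, mul_zero, add_zero]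

/-- the row `i₀` of `(1 ⊗ β) v`. -/
theorem toogh6_row (β : Matrix (Fin b) (Fin b) F) (v : Fin a × Fin b → F) (i₀ : Fin a) (j : Fin b) :
    (((1 : Matrix (Fin a) (Fin a) F) ⊗ₖ β) *ᵥ v) (i₀, j) = (β *ᵥ fun j' => v (i₀, j')) j := by
  classical
  simp only [Matrix.mulVec, dotProduct, Matrix.kroneckerMap_apply, Fintype.sum_prod_type, Matrix.one_apply]
  rw [Finset.sum_eq_single i₀]
  · simp
  · intro i _ hi
    simp [Ne.symm hi]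
  · intro h
    exact absurd (Finset.mem_univ i₀) h

/-- the row `i₀` of `y ⊗ z + y' ⊗ z'`. -/
theorem toogh6_row_ten (y y' : Fin a → F) (z z' : Fin b → F) (i₀ : Fin a) :
    (fun j' => (ten y z + ten y' z') (i₀, j')) = y i₀ • z + y' i₀ • z' := by
  funext j
  simp [ten]

/-- re-expression of an element of `L_W` in another basis of `W`. -/
theorem toogh6_rebase (w₁ w₂ k i' : Fin b → F) (c₁ c₂ d₁ d₂ : F) (h1 : w₁ = c₁ • k + c₂ • i')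
    (h2 : w₂ = d₁ • k + d₂ • i') (u₁ u₂ : Fin a → F) :
    ten u₁ w₁ + ten u₂ w₂ = ten (c₁ • u₁ + d₁ • u₂) k + ten (c₂ • u₁ + d₂ • u₂) i' := by
  rw [h1, h2]
  funext p
  simp only [ten, Pi.add_apply, Pi.smul_apply, smul_eq_mul]
  ring

/-- GH6 [M-L]. -/
theorem beta_nontrivial (C : OCtx J1 J2) (ha : 1 ≤ a) (hodd : Odd a) (w₁ w₂ : Fin b → F) (hw : IsTS J2 w₁ w₂)
    (S : Submodule F (Fin a × Fin b → F)) (hSts : S ≤ perp (JV J1 J2) S)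
    (β' : Matrix (Fin b) (Fin b) F) (hiso : β'ᵀ * J2 * β' = J2)
    (hW : ∃ p q r s : F, β' *ᵥ w₁ = p • w₁ + q • w₂ ∧ β' *ᵥ w₂ = r • w₁ + s • w₂)
    (hq : ∀ y : Fin b → F, bf J2 w₁ y = 0 → bf J2 w₂ y = 0 → ∃ c₁ c₂ : F, β' *ᵥ y - y = c₁ • w₁ + c₂ • w₂)
    (hne : β' *ᵥ w₁ ≠ w₁ ∨ β' *ᵥ w₂ ≠ w₂)
    (hU : ∀ u ∈ perp (JV J1 J2) (Lpl (a := a) w₁ w₂) ⊓ perp (JV J1 J2) S,
      ((1 : Matrix (Fin a) (Fin a) F) ⊗ₖ β') *ᵥ u = u) :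
    ∃ w₁'' w₂'' : Fin b → F, IsTS J2 w₁'' w₂'' ∧
      Module.finrank F ↥(S ⊓ Lpl (a := a) w₁ w₂) < Module.finrank F ↥(S ⊓ Lpl (a := a) w₁'' w₂'') := by
  classical
  obtain ⟨k, i', k', hkk', hki', hik, ⟨a1, a2, hkW⟩, ⟨b1, b2, hiW⟩, ⟨c₁, c₂, hw1⟩, ⟨d₁, d₂, hw2⟩, hk'E, hfixW⟩ :=
    exists_kprime C.two C.sym2 C.det2 w₁ w₂ hw β' hiso hW hq hne
  have hJVs := tooperp_JV_symm C
  -- `r ⊗ k' ∈ U^⊥ = L + S`
  have hLS : ∀ r : Fin a → F, ten r k' ∈ Lpl (a := a) w₁ w₂ ⊔ S := by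
    intro r
    have h1 : ten r k' ∈ perp (JV J1 J2) (perp (JV J1 J2) (Lpl (a := a) w₁ w₂) ⊓ perp (JV J1 J2) S) := by
      intro u hu
      rw [bf_symm hJVs]
      exact perp_ten_kprime C w₁ w₂ β' k' hk'E u hu.1 (hU u hu) r
    rw [← perp_sup, perp_perp C] at h1
    exact h1
  have h1 : ∀ r : Fin a → F, ∃ s ∈ S, ∃ x₁ x₂ : Fin a → F, s = ten r k' + ten x₁ k + ten x₂ i' := by
    intro r
    obtain ⟨l, hl, s, hs, hls⟩ := Submodule.mem_sup.mp (hLS r)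
    obtain ⟨u₁, u₂, rfl⟩ := hl
    refine ⟨s, hs, -(c₁ • u₁ + d₁ • u₂), -(c₂ • u₁ + d₂ • u₂), ?_⟩
    have h3 : s = ten r k' - (ten u₁ w₁ + ten u₂ w₂) := by rw [← hls]; abel
    rw [h3, toogh6_rebase w₁ w₂ k i' c₁ c₂ d₁ d₂ hw1 hw2]
    funext p
    simp only [ten, Pi.add_apply, Pi.sub_apply, Pi.neg_apply, Pi.smul_apply, smul_eq_mul]
    ring
  obtain ⟨s₀, hs₀S, r₀, x, hr₀, hs₀⟩ := graph_singular C hodd k i' k' hkk' hki' hik S hSts h1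
  refine ⟨k, k', hkk', ?_⟩
  have hik' : bf J2 i' k = 0 := by rw [bf_symm C.sym2]; exact hki'.2.1
  have hii : bf J2 i' i' = 0 := hki'.2.2.1
  apply Submodule.finrank_lt_finrank_of_lt
  rw [lt_iff_le_and_ne]
  constructor
  · -- `S ∩ L ≤ S ∩ L_{⟨k,k'⟩}`
    rintro v ⟨hvS, hvL⟩
    refine ⟨hvS, ?_⟩
    have hvU : v ∈ perp (JV J1 J2) (Lpl (a := a) w₁ w₂) ⊓ perp (JV J1 J2) S :=
      ⟨toogh6_Lpl_le_perp C w₁ w₂ hw hvL, hSts hvS⟩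
    have hfix := hU v hvU
    obtain ⟨u₁, u₂, rfl⟩ := hvL
    rw [toogh6_rebase w₁ w₂ k i' c₁ c₂ d₁ d₂ hw1 hw2] at hfix ⊢
    have hy2 : c₂ • u₁ + d₂ • u₂ = 0 := by
      funext i₀
      have h5 : β' *ᵥ ((c₁ • u₁ + d₁ • u₂) i₀ • k + (c₂ • u₁ + d₂ • u₂) i₀ • i') =
          (c₁ • u₁ + d₁ • u₂) i₀ • k + (c₂ • u₁ + d₂ • u₂) i₀ • i' := by
        rw [← toogh6_row_ten]
        funext j
        rw [← toogh6_row, hfix]
      exact hfixW _ _ h5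
    rw [hy2]
    exact ⟨c₁ • u₁ + d₁ • u₂, 0, by rw [toogh6d_ten_zero, toogh6d_ten_zero]⟩
  · intro heq
    have hs₀L : s₀ ∈ S ⊓ Lpl (a := a) w₁ w₂ := by
      rw [heq]
      exact ⟨hs₀S, x, r₀, by rw [hs₀, add_comm]⟩
    obtain ⟨u₁, u₂, hu⟩ := hs₀L.2
    rw [toogh6_rebase w₁ w₂ k i' c₁ c₂ d₁ d₂ hw1 hw2, hs₀] at hu
    apply hr₀
    funext i₀
    have h6 := congrArg (fun v : Fin a × Fin b → F => fun j' => v (i₀, j')) hu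
    simp only [toogh6_row_ten] at h6
    have h7 := congrArg (fun z : Fin b → F => bf J2 i' z) h6
    simp only [bf_add_right, bf_smul_right, hik, hik', hii, mul_one, mul_zero, add_zero] at h7
    exact h7

end Cfsg.Agent.Lib.Helper28.TOO
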