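import Cfsg.Agent.Lib.Helper28.TOO.Defs2

/-!
# Project TOO, row GH6a (helper28): `skew_odd`
-/

set_option autoImplicit false
set_option linter.unusedVariables false
set_option linter.unusedSectionVars false

namespace Cfsg.Agent.Lib.Helper28.TOO

open Matrix
open scoped Kronecker
open Cfsg.Agent.Lib.helper7.TP Cfsg.Agent.Lib.Helper21.TS

variable {a b : ℕ} {F : Type*} [Field F]
variable {J1 : Matrix (Fin a) (Fin a) F} {J2 : Matrix (Fin b) (Fin b) F}

/-- GH6a [S-M]. a skew-adjoint endomorphism of an odd-dimensional symmetric non-degenerate space is singular. -/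
theorem skew_odd (C : OCtx J1 J2) (hodd : Odd a) (Λ : Matrix (Fin a) (Fin a) F)
    (h : ∀ r r' : Fin a → F, bf J1 r (Λ *ᵥ r') + bf J1 (Λ *ᵥ r) r' = 0) :
    ∃ r : Fin a → F, r ≠ 0 ∧ Λ *ᵥ r = 0 := by
  classical
  -- the matrix `J1 * Λ` is skew-symmetric
  have hskew : (J1 * Λ)ᵀ = -(J1 * Λ) := by
    apply bf_ext
    intro x y
    rw [bf_transpose]
    have h1 : bf (J1 * Λ) y x = bf J1 y (Λ *ᵥ x) := by rw [bf_mulVec_right]
    have h2 : bf (-(J1 * Λ)) x y = - bf J1 x (Λ *ᵥ y) := by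
      rw [bf_mulVec_right]
      simp [bf, Matrix.neg_mulVec]
    rw [h1, h2]
    have h3 := h y x
    have h4 : bf J1 (Λ *ᵥ y) x = bf J1 x (Λ *ᵥ y) := bf_symm C.sym1 _ _
    rw [h4] at h3
    linear_combination h3
  have hdet : (J1 * Λ).det = 0 := by
    have h1 : (J1 * Λ).det = (-(J1 * Λ)).det := by
      conv_lhs => rw [← Matrix.det_transpose, hskew]
    rw [Matrix.det_neg, Fintype.card_fin, hodd.neg_one_pow] at h1
    have h2 : (2 : F) * (J1 * Λ).det = 0 := by linear_combination h1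
    rcases mul_eq_zero.mp h2 with h3 | h3
    · exact absurd h3 C.two
    · exact h3
  have hΛ : Λ.det = 0 := by
    rw [Matrix.det_mul] at hdet
    rcases mul_eq_zero.mp hdet with h3 | h3
    · exact absurd h3 C.det1
    · exact h3
  obtain ⟨r, hr, hr0⟩ := Matrix.exists_mulVec_eq_zero_iff.mpr hΛ
  exact ⟨r, hr, hr0⟩

end Cfsg.Agent.Lib.Helper28.TOO
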