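import Cfsg.Agent.Lib.Helper28.TOOPERP

/-!
# Project TOO, row GH6b (helper28): `exists_kprime`
-/

set_option autoImplicit false
set_option linter.unusedVariables false
set_option linter.unusedSectionVars false

namespace Cfsg.Agent.Lib.Helper28.TOO

open Matrix
open scoped Kronecker
open Cfsg.Agent.Lib.helper7.TP Cfsg.Agent.Lib.Helper21.TS

variable {F : Type*} [Field F]

/-- core: with `t ⊥ E`, `f(t,p₁) ≠ 0`. -/
theorem toogh6b_core {n : ℕ} {J : Matrix (Fin n) (Fin n) F} (h2 : (2 : F) ≠ 0) (hJ : Jᵀ = J)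
    (p₁ p₂ : Fin n → F) (hw : IsTS J p₁ p₂) (β : Matrix (Fin n) (Fin n) F)
    (t : Fin n → F)
    (ht : ∀ y : Fin n → F, bf J p₁ y = 0 → bf J p₂ y = 0 → β *ᵥ y = y → bf J t y = 0)
    (hc0 : bf J t p₁ ≠ 0) :
    ∃ k i' k' : Fin n → F, IsTS J k k' ∧ IsTS J k i' ∧ bf J i' k' = 1 ∧
      (∃ c₁ c₂ : F, k = c₁ • p₁ + c₂ • p₂) ∧ (∃ c₁ c₂ : F, i' = c₁ • p₁ + c₂ • p₂) ∧
      (∃ c₁ c₂ : F, p₁ = c₁ • k + c₂ • i') ∧ (∃ c₁ c₂ : F, p₂ = c₁ • k + c₂ • i') ∧
      (∀ y : Fin n → F, bf J p₁ y = 0 → bf J p₂ y = 0 → β *ᵥ y = y → bf J k' y = 0) ∧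
      (∀ c₁ c₂ : F, β *ᵥ (c₁ • k + c₂ • i') = c₁ • k + c₂ • i' → c₂ = 0) := by
  classical
  obtain ⟨h11, h12, h22, hind⟩ := hw
  have h21 : bf J p₂ p₁ = 0 := by rw [bf_symm hJ]; exact h12
  set c0 := bf J t p₁ with hc0def
  set d := bf J t p₂ with hddef
  have hp1t : bf J p₁ t = c0 := by rw [bf_symm hJ]
  have hp2t : bf J p₂ t = d := by rw [bf_symm hJ]
  -- the vectors
  let e : F := -(bf J t t) / (2 * c0)
  let k' : Fin n → F := t + e • p₁
  let i' : Fin n → F := c0⁻¹ • p₁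
  let k : Fin n → F := p₂ - (d / c0) • p₁
  have hk'k' : bf J k' k' = 0 := by
    simp only [k', bf_add_left, bf_add_right, bf_smul_left, bf_smul_right, h11, hp1t]
    simp only [e]
    rw [← hc0def]
    field_simp
    ring
  have hk'p1 : bf J k' p₁ = c0 := by
    simp only [k', bf_add_left, bf_smul_left, h11, mul_zero, add_zero]
    rfl
  have hk'p2 : bf J k' p₂ = d := by
    simp only [k', bf_add_left, bf_smul_left, h12, mul_zero, add_zero]
    rfl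
  have hik : bf J i' k' = 1 := by
    rw [bf_symm hJ]
    simp only [i', bf_smul_right, hk'p1]
    field_simp
  have hkk' : bf J k k' = 0 := by
    rw [bf_symm hJ]
    simp only [k, bf_sub_right, bf_smul_right, hk'p1, hk'p2]
    field_simp
    ring
  have hkk : bf J k k = 0 := by
    simp only [k, bf_sub_left, bf_sub_right, bf_smul_left, bf_smul_right, h11, h12, h21, h22]
    ring
  have hki : bf J k i' = 0 := by
    simp only [k, i', bf_sub_left, bf_smul_left, bf_smul_right, h11, h21]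
    ring
  have hik' : bf J i' k = 0 := by rw [bf_symm hJ]; exact hki
  have hii : bf J i' i' = 0 := by
    simp only [i', bf_smul_left, bf_smul_right, h11]
    ring
  have hp1 : p₁ = (0 : F) • k + c0 • i' := by
    simp only [i', zero_smul, zero_add, smul_smul]
    rw [mul_inv_cancel₀ hc0, one_smul]
  have hp2 : p₂ = (1 : F) • k + d • i' := by
    simp only [k, i', one_smul, smul_smul]
    rw [div_eq_mul_inv]
    abel
  refine ⟨k, i', k', ⟨hkk, hkk', hk'k', ?_⟩, ⟨hkk, hki, hii, ?_⟩, hik, ⟨-(d / c0), 1, ?_⟩,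
    ⟨c0⁻¹, 0, ?_⟩, ⟨0, c0, hp1⟩, ⟨1, d, hp2⟩, ?_, ?_⟩
  · -- k, k' independent
    intro c₁ c₂ h
    have h1 : bf J i' (c₁ • k + c₂ • k') = 0 := by rw [h, bf_zero_right]
    rw [bf_add_right, bf_smul_right, bf_smul_right, hik', hik, mul_zero, zero_add, mul_one] at h1
    subst h1
    rw [zero_smul, add_zero] at h
    have h3 : c₁ • k = (-(c₁ * (d / c0))) • p₁ + c₁ • p₂ := by
      simp only [k, smul_sub, smul_smul, neg_smul]
      abel
    rw [h3] at h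
    exact ⟨(hind _ _ h).2, rfl⟩
  · -- k, i' independent
    intro c₁ c₂ h
    have h3 : c₁ • k + c₂ • i' = (c₂ * c0⁻¹ - c₁ * (d / c0)) • p₁ + c₁ • p₂ := by
      simp only [k, i', smul_sub, smul_smul, sub_smul]
      abel
    rw [h3] at h
    obtain ⟨ha, hb⟩ := hind _ _ h
    subst hb
    rw [zero_mul, sub_zero] at ha
    rcases mul_eq_zero.mp ha with h4 | h4
    · exact ⟨rfl, h4⟩
    · exact absurd h4 (inv_ne_zero hc0)
  · simp only [k, neg_smul, one_smul]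
    abel
  · simp only [i', zero_smul, add_zero]
  · -- k' ⊥ E
    intro y hy1 hy2 hy
    simp only [k', bf_add_left, bf_smul_left, hy1, mul_zero, add_zero]
    exact ht y hy1 hy2 hy
  · -- fixed vectors
    intro c₁ c₂ hfix
    have hx1 : bf J p₁ (c₁ • k + c₂ • i') = 0 := by
      rw [hp1]
      simp only [bf_add_left, bf_add_right, bf_smul_left, bf_smul_right, hkk, hki, hik', hii]
      ring
    have hx2 : bf J p₂ (c₁ • k + c₂ • i') = 0 := by
      rw [hp2]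
      simp only [bf_add_left, bf_add_right, bf_smul_left, bf_smul_right, hkk, hki, hik', hii]
      ring
    have h5 : bf J k' (c₁ • k + c₂ • i') = 0 := by
      simp only [k', bf_add_left, bf_smul_left, hx1, mul_zero, add_zero]
      exact ht _ hx1 hx2 hfix
    have hk'k : bf J k' k = 0 := by rw [bf_symm hJ]; exact hkk'
    have hk'i : bf J k' i' = 1 := by rw [bf_symm hJ]; exact hik
    rw [bf_add_right, bf_smul_right, bf_smul_right, hk'k, hk'i, mul_zero, zero_add, mul_one] at h5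
    exact h5

/-- GH6b [M-L]. -/
theorem exists_kprime {n : ℕ} {J : Matrix (Fin n) (Fin n) F} (h2 : (2 : F) ≠ 0) (hJ : Jᵀ = J) (hdet : J.det ≠ 0)
    (w₁ w₂ : Fin n → F) (hw : IsTS J w₁ w₂) (β : Matrix (Fin n) (Fin n) F) (hiso : βᵀ * J * β = J)
    (hW : ∃ p q r s : F, β *ᵥ w₁ = p • w₁ + q • w₂ ∧ β *ᵥ w₂ = r • w₁ + s • w₂)
    (hq : ∀ y : Fin n → F, bf J w₁ y = 0 → bf J w₂ y = 0 → ∃ c₁ c₂ : F, β *ᵥ y - y = c₁ • w₁ + c₂ • w₂)
    (hne : β *ᵥ w₁ ≠ w₁ ∨ β *ᵥ w₂ ≠ w₂) :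
    ∃ k i' k' : Fin n → F, IsTS J k k' ∧ IsTS J k i' ∧ bf J i' k' = 1 ∧
      (∃ c₁ c₂ : F, k = c₁ • w₁ + c₂ • w₂) ∧ (∃ c₁ c₂ : F, i' = c₁ • w₁ + c₂ • w₂) ∧
      (∃ c₁ c₂ : F, w₁ = c₁ • k + c₂ • i') ∧ (∃ c₁ c₂ : F, w₂ = c₁ • k + c₂ • i') ∧
      (∀ y : Fin n → F, bf J w₁ y = 0 → bf J w₂ y = 0 → β *ᵥ y = y → bf J k' y = 0) ∧
      (∀ c₁ c₂ : F, β *ᵥ (c₁ • k + c₂ • i') = c₁ • k + c₂ • i' → c₂ = 0) := by
  classical
  have hw' := hw
  obtain ⟨h11, h12, h22, hind⟩ := hw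
  have h21 : bf J w₂ w₁ = 0 := by rw [bf_symm hJ]; exact h12
  -- the fixed space E
  let E : Submodule F (Fin n → F) :=
    { carrier := {y | bf J w₁ y = 0 ∧ bf J w₂ y = 0 ∧ β *ᵥ y = y}
      add_mem' := by
        rintro x y ⟨hx1, hx2, hx3⟩ ⟨hy1, hy2, hy3⟩
        refine ⟨?_, ?_, ?_⟩
        · rw [bf_add_right, hx1, hy1, add_zero]
        · rw [bf_add_right, hx2, hy2, add_zero]
        · rw [Matrix.mulVec_add, hx3, hy3]
      zero_mem' := ⟨bf_zero_right J _, bf_zero_right J _, Matrix.mulVec_zero _⟩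
      smul_mem' := by
        rintro c x ⟨hx1, hx2, hx3⟩
        refine ⟨?_, ?_, ?_⟩
        · rw [bf_smul_right, hx1, mul_zero]
        · rw [bf_smul_right, hx2, mul_zero]
        · rw [Matrix.mulVec_smul, hx3] }
  have hex : ∃ t ∈ perp J E, bf J t w₁ ≠ 0 ∨ bf J t w₂ ≠ 0 := by
    by_contra hcon
    push Not at hcon
    have h1 : w₁ ∈ perp J (perp J E) := fun t ht => by
      rw [bf_symm hJ]; exact (hcon t ht).1
    have h2' : w₂ ∈ perp J (perp J E) := fun t ht => by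
      rw [bf_symm hJ]; exact (hcon t ht).2
    rw [tooperp_perp_perp hJ hdet] at h1 h2'
    rcases hne with h | h
    · exact h h1.2.2
    · exact h h2'.2.2
  obtain ⟨t, ht, htW⟩ := hex
  rcases htW with hc | hc
  · exact toogh6b_core h2 hJ w₁ w₂ hw' β t (fun y hy1 hy2 hy => ht y ⟨hy1, hy2, hy⟩) hc
  · have hsw : IsTS J w₂ w₁ := ⟨h22, h21, h11, fun c₁ c₂ h => by
      have := hind c₂ c₁ (by rw [add_comm]; exact h)
      exact ⟨this.2, this.1⟩⟩
    obtain ⟨k, i', k', hA, hB, hC, ⟨a1, a2, hD⟩, ⟨b1, b2, hE⟩, hF1, hF2, hG, hH⟩ :=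
      toogh6b_core h2 hJ w₂ w₁ hsw β t (fun y hy2 hy1 hy => ht y ⟨hy1, hy2, hy⟩) hc
    exact ⟨k, i', k', hA, hB, hC, ⟨a2, a1, by rw [hD, add_comm]⟩, ⟨b2, b1, by rw [hE, add_comm]⟩, hF2, hF1,
      fun y hy1 hy2 hy => hG y hy2 hy1 hy, hH⟩

end Cfsg.Agent.Lib.Helper28.TOO
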