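import Cfsg.Agent.Lib.helper6.TOOGH1
import Cfsg.Agent.Lib.Helper28.TOOGH3
import Cfsg.Agent.Lib.Helper28.TOOGH4
import Cfsg.Agent.Lib.Helper28.TOOGH5
import Cfsg.Agent.Lib.Helper28.TOOGH6

/-!
# Project TOO, row GH7 (helper28): `hTI_of_max` (verbatim) - hTI at a maximal plane, assembly of GH1, GH3, GH4, GH5, GH6 + `StabPl`
-/

set_option autoImplicit false
set_option linter.unusedVariables false
set_option linter.unusedSectionVars false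

namespace Cfsg.Agent.Lib.Helper28.TOO

open Matrix
open scoped Kronecker
open Cfsg.Agent.Lib.helper7.TP Cfsg.Agent.Lib.Helper21.TS

variable {a b : ℕ} {F : Type*} [Field F]
variable {J1 : Matrix (Fin a) (Fin a) F} {J2 : Matrix (Fin b) (Fin b) F}

/-- GH7 [M-L]. hTI at a maximal plane (assembly of GH1-GH6 + `StabPl`). -/
theorem hTI_of_max (C : OCtx J1 J2) (ha : 1 ≤ a) (hodd : Odd a) (hb : 5 ≤ b)
    (M : Subgroup (Matrix.GeneralLinearGroup (Fin a × Fin b) F)) (hMO : M ≤ OV J1 J2) (hS : StabPl (a := a) J2 M)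
    (w₁ w₂ : Fin b → F) (hw : IsTS J2 w₁ w₂)
    (S : Submodule F (Fin a × Fin b → F)) (hSts : S ≤ perp (JV J1 J2) S) (hSdim : Module.finrank F ↥S = 2 * a)
    (hK : S ⊓ perp (JV J1 J2) (Lpl (a := a) w₁ w₂) ≤ Lpl (a := a) w₁ w₂)
    (hmax : ∀ w₁'' w₂'' : Fin b → F, IsTS J2 w₁'' w₂'' →
      Module.finrank F ↥(S ⊓ Lpl (a := a) w₁'' w₂'') ≤ Module.finrank F ↥(S ⊓ Lpl (a := a) w₁ w₂))
    (m : Matrix.GeneralLinearGroup (Fin a × Fin b) F)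
    (hm : m ∈ FixG M (perp (JV J1 J2) (Lpl (a := a) w₁ w₂) ⊓ perp (JV J1 J2) S))
    (c c' : F) (hc : c ≠ 0)
    (h : (m : Matrix (Fin a × Fin b) (Fin a × Fin b) F) * (1 + c • NV (a := a) J2 w₁ w₂) *
        ((m⁻¹ : Matrix.GeneralLinearGroup (Fin a × Fin b) F) : Matrix (Fin a × Fin b) (Fin a × Fin b) F) =
      1 + c' • NV (a := a) J2 w₁ w₂) :
    ∃ c'' : F, (m : Matrix (Fin a × Fin b) (Fin a × Fin b) F) = 1 + c'' • NV (a := a) J2 w₁ w₂ := by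
  classical
  obtain ⟨hmM, hmU⟩ := (mem_FixG _ _ _).mp hm
  have hmO : m ∈ OV J1 J2 := hMO hmM
  -- m stabilises L
  have hL := conj_stab C w₁ w₂ hw m c c' hc h
  -- m ∈ K0
  have hK0 : m ∈ K0 a b F := hS m hmM w₁ w₂ w₁ w₂ hw hw hL
  -- trivial on L^⊥ / L
  have hsum := sup_eq_perp C w₁ w₂ hw S hSts hSdim hK
  have hq : ∀ v ∈ perp (JV J1 J2) (Lpl (a := a) w₁ w₂),
      (m : Matrix (Fin a × Fin b) (Fin a × Fin b) F) *ᵥ v - v ∈ Lpl (a := a) w₁ w₂ := by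
    intro v hv
    obtain ⟨u, hu, l, hl, rfl⟩ := Submodule.mem_sup.mp (hsum hv)
    rw [Matrix.mulVec_add, hmU u hu]
    have : u + (m : Matrix (Fin a × Fin b) (Fin a × Fin b) F) *ᵥ l - (u + l) =
        (m : Matrix (Fin a × Fin b) (Fin a × Fin b) F) *ᵥ l - l := by abel
    rw [this]
    exact Submodule.sub_mem _ (hL l hl) hl
  obtain ⟨β', hmβ, hiso, hW, hqq⟩ := alpha_scalar C ha hb w₁ w₂ hw m hK0 hmO hL hq
  have hU : ∀ u ∈ perp (JV J1 J2) (Lpl (a := a) w₁ w₂) ⊓ perp (JV J1 J2) S,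
      ((1 : Matrix (Fin a) (Fin a) F) ⊗ₖ β') *ᵥ u = u := by
    intro u hu
    rw [← hmβ]
    exact hmU u hu
  by_cases hne : β' *ᵥ w₁ ≠ w₁ ∨ β' *ᵥ w₂ ≠ w₂
  · exfalso
    obtain ⟨w₁'', w₂'', hw'', hlt⟩ := beta_nontrivial C ha hodd w₁ w₂ hw S hSts β' hiso hW hqq hne hU
    exact absurd (hmax w₁'' w₂'' hw'') (not_le.mpr hlt)
  · push Not at hne
    obtain ⟨c'', hc''⟩ := beta_trivial C ha w₁ w₂ hw S hsum β' hiso hne.1 hne.2 hU
    exact ⟨c'', by rw [hmβ, hc'']⟩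

end Cfsg.Agent.Lib.Helper28.TOO
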