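import Cfsg.Agent.Lib.Helper28.TOO.Defs2

/-!
# Project TOO, row GN1 (helper28): `exists_max`
-/

set_option autoImplicit false
set_option linter.unusedVariables false
set_option linter.unusedSectionVars false

namespace Cfsg.Agent.Lib.Helper28.TOO

open Matrix
open scoped Kronecker
open Cfsg.Agent.Lib.helper7.TP Cfsg.Agent.Lib.Helper21.TS

variable {a b : ℕ} {F : Type*} [Field F]
variable {J1 : Matrix (Fin a) (Fin a) F} {J2 : Matrix (Fin b) (Fin b) F}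

/-- GN1 [S]. a plane maximising `e(W) = dim (S ∩ L_W^⊥)`. -/
theorem exists_max (S : Submodule F (Fin a × Fin b → F)) (hex : ∃ w₁ w₂ : Fin b → F, IsTS J2 w₁ w₂) :
    ∃ w₁ w₂ : Fin b → F, IsTS J2 w₁ w₂ ∧
      ∀ w₁' w₂' : Fin b → F, IsTS J2 w₁' w₂' → ev J1 J2 S w₁' w₂' ≤ ev J1 J2 S w₁ w₂ := by
  classical
  obtain ⟨w₁, w₂, hw⟩ := hex
  have hbound : ∀ w₁' w₂' : Fin b → F,
      ev J1 J2 S w₁' w₂' ≤ Module.finrank F (Fin a × Fin b → F) := by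
    intro w₁' w₂'
    exact Submodule.finrank_le _
  suffices H : ∀ k : ℕ, ∀ w₁ w₂ : Fin b → F, IsTS J2 w₁ w₂ →
      Module.finrank F (Fin a × Fin b → F) - ev J1 J2 S w₁ w₂ ≤ k →
      ∃ w₁ w₂ : Fin b → F, IsTS J2 w₁ w₂ ∧
        ∀ w₁' w₂' : Fin b → F, IsTS J2 w₁' w₂' → ev J1 J2 S w₁' w₂' ≤ ev J1 J2 S w₁ w₂ from
    H _ w₁ w₂ hw le_rfl
  intro k
  induction k with
  | zero =>
    intro w₁ w₂ hw hk
    refine ⟨w₁, w₂, hw, fun w₁' w₂' _ => ?_⟩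
    have h1 := hbound w₁' w₂'
    have h2 := hbound w₁ w₂
    omega
  | succ k ih =>
    intro w₁ w₂ hw hk
    by_cases h : ∀ w₁' w₂' : Fin b → F, IsTS J2 w₁' w₂' → ev J1 J2 S w₁' w₂' ≤ ev J1 J2 S w₁ w₂
    · exact ⟨w₁, w₂, hw, h⟩
    · push Not at h
      obtain ⟨w₁', w₂', hw', hlt⟩ := h
      have h1 := hbound w₁' w₂'
      exact ih w₁' w₂' hw' (by omega)

end Cfsg.Agent.Lib.Helper28.TOO
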