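import Cfsg.Agent.Lib.Helper28.TOOGH7
import Cfsg.Agent.Lib.Helper28.TOOGN1
import Cfsg.Agent.Lib.Helper13.TOOGA4
import Cfsg.Agent.Lib.Helper13.TOOGA5
import Cfsg.Agent.Lib.helper4.TOOGC7
import Cfsg.Agent.Lib.helper2.TOOGB1

/-!
# Project TOO, row GN2 (helper28): `std_img` (verbatim) - every `M`-image of a standard subspace is standard
-/

set_option autoImplicit false
set_option linter.unusedVariables false
set_option linter.unusedSectionVars false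

namespace Cfsg.Agent.Lib.Helper28.TOO

open Matrix
open scoped Kronecker
open Cfsg.Agent.Lib.helper7.TP Cfsg.Agent.Lib.Helper21.TS

variable {a b : ℕ} {F : Type*} [Field F]
variable {J1 : Matrix (Fin a) (Fin a) F} {J2 : Matrix (Fin b) (Fin b) F}

/-- GN2 [M-L]. every `M`-image of a standard subspace is standard (GN1 maximal plane, GC7 MEET, GH7 hTI, GB1 Burnside). -/
theorem std_img [Fintype F] (p : ℕ) [Fact p.Prime] [CharP F p] (hF : 3 ≤ Fintype.card F)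
    (C : OCtx J1 J2) (ha : 1 ≤ a) (hodd : Odd a) (hab : a < b) (hb : 5 ≤ b)
    (M : Subgroup (Matrix.GeneralLinearGroup (Fin a × Fin b) F)) (hT : T1 J1 J2 ≤ M) (hMO : M ≤ OV J1 J2)
    (hS : StabPl (a := a) J2 M)
    (g : Matrix.GeneralLinearGroup (Fin a × Fin b) F) (hg : g ∈ M)
    (w₀₁ w₀₂ : Fin b → F) (h₀ : IsTS J2 w₀₁ w₀₂) :
    Std J2 (img g (Lpl (a := a) w₀₁ w₀₂)) := by
  classical
  have hgO : g ∈ OV J1 J2 := hMO hg
  have hSts : img g (Lpl (a := a) w₀₁ w₀₂) ≤ perp (JV J1 J2) (img g (Lpl (a := a) w₀₁ w₀₂)) :=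
    img_ts g hgO _ (Lpl_le_perp C w₀₁ w₀₂ h₀)
  have hSdim : Module.finrank F ↥(img g (Lpl (a := a) w₀₁ w₀₂)) = 2 * a := by
    rw [finrank_img, finrank_Lpl _ _ h₀.2.2.2]
  obtain ⟨w₁, w₂, hw, hmaxev⟩ :=
    exists_max (J1 := J1) (J2 := J2) (img g (Lpl (a := a) w₀₁ w₀₂)) ⟨w₀₁, w₀₂, h₀⟩
  obtain ⟨w₁', w₂', hw', hmeet1, hmeet2⟩ := meet p C ha hab hb M hT hMO hS g hg w₀₁ w₀₂ w₁ w₂ h₀ hw
  have hLle' := Lpl_le_perp C w₁' w₂' hw'
  have h1 : Module.finrank F ↥(img g (Lpl (a := a) w₀₁ w₀₂) ⊓ perp (JV J1 J2) (Lpl (a := a) w₁ w₂)) ≤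
      Module.finrank F ↥(img g (Lpl (a := a) w₀₁ w₀₂) ⊓ Lpl (a := a) w₁' w₂') :=
    Submodule.finrank_mono (le_inf inf_le_left hmeet1)
  have h2 : Module.finrank F ↥(img g (Lpl (a := a) w₀₁ w₀₂) ⊓ Lpl (a := a) w₁' w₂') ≤
      Module.finrank F ↥(img g (Lpl (a := a) w₀₁ w₀₂) ⊓ perp (JV J1 J2) (Lpl (a := a) w₁' w₂')) :=
    Submodule.finrank_mono (inf_le_inf_left _ hLle')
  have h3 := hmaxev w₁' w₂' hw'
  unfold ev at h3
  have heq : img g (Lpl (a := a) w₀₁ w₀₂) ⊓ Lpl (a := a) w₁' w₂' =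
      img g (Lpl (a := a) w₀₁ w₀₂) ⊓ perp (JV J1 J2) (Lpl (a := a) w₁' w₂') :=
    Submodule.eq_of_le_of_finrank_le (inf_le_inf_left _ hLle') (by omega)
  have hK : img g (Lpl (a := a) w₀₁ w₀₂) ⊓ perp (JV J1 J2) (Lpl (a := a) w₁' w₂') ≤ Lpl (a := a) w₁' w₂' := by
    rw [← heq]
    exact inf_le_right
  have hmax : ∀ w₁'' w₂'' : Fin b → F, IsTS J2 w₁'' w₂'' →
      Module.finrank F ↥(img g (Lpl (a := a) w₀₁ w₀₂) ⊓ Lpl (a := a) w₁'' w₂'') ≤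
        Module.finrank F ↥(img g (Lpl (a := a) w₀₁ w₀₂) ⊓ Lpl (a := a) w₁' w₂') := by
    intro w₁'' w₂'' hw''
    have h4 := hmaxev w₁'' w₂'' hw''
    unfold ev at h4
    have h5 : Module.finrank F ↥(img g (Lpl (a := a) w₀₁ w₀₂) ⊓ Lpl (a := a) w₁'' w₂'') ≤
        Module.finrank F ↥(img g (Lpl (a := a) w₀₁ w₀₂) ⊓ perp (JV J1 J2) (Lpl (a := a) w₁'' w₂'')) :=
      Submodule.finrank_mono (inf_le_inf_left _ (Lpl_le_perp C w₁'' w₂'' hw''))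
    omega
  have hTI : ∀ m ∈ FixG M (perp (JV J1 J2) (Lpl (a := a) w₁' w₂') ⊓
        perp (JV J1 J2) (img g (Lpl (a := a) w₀₁ w₀₂))),
      ∀ c c' : F, c ≠ 0 →
      (m : Matrix (Fin a × Fin b) (Fin a × Fin b) F) * (1 + c • NV (a := a) J2 w₁' w₂') *
        ((m⁻¹ : Matrix.GeneralLinearGroup (Fin a × Fin b) F) : Matrix (Fin a × Fin b) (Fin a × Fin b) F) =
      1 + c' • NV (a := a) J2 w₁' w₂' →
      ∃ c'' : F, (m : Matrix (Fin a × Fin b) (Fin a × Fin b) F) = 1 + c'' • NV (a := a) J2 w₁' w₂' :=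
    fun m hm c c' hc h =>
      hTI_of_max C ha hodd hb M hMO hS w₁' w₂' hw' _ hSts hSdim hK hmax m hm c c' hc h
  exact ⟨w₁', w₂', hw', eq_of_hTI p hF C ha hb M hT hMO g hg w₀₁ w₀₂ w₁' w₂' h₀ hw' hTI⟩

end Cfsg.Agent.Lib.Helper28.TOO
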