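import Cfsg.Agent.Lib.Helper28.TOOGN2

/-!
# Project TOO, row GN3 (helper28): `le_K0_of_stabPl` (verbatim) - the NT world, global part: `StabPl` gives `M ≤ K0`
-/

set_option autoImplicit false
set_option linter.unusedVariables false
set_option linter.unusedSectionVars false

namespace Cfsg.Agent.Lib.Helper28.TOO

open Matrix
open scoped Kronecker
open Cfsg.Agent.Lib.helper7.TP Cfsg.Agent.Lib.Helper21.TS

variable {a b : ℕ} {F : Type*} [Field F]
variable {J1 : Matrix (Fin a) (Fin a) F} {J2 : Matrix (Fin b) (Fin b) F}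

/-- GN3 [S-M]. the NT world, global part: `StabPl` ⇒ `M ≤ K0`. -/
theorem le_K0_of_stabPl [Fintype F] (hF : Odd (Fintype.card F))
    (C : OCtx J1 J2) (ha : 1 ≤ a) (hodd : Odd a) (hab : a < b) (hb : 5 ≤ b)
    (hex : ∃ w₁ w₂ : Fin b → F, IsTS J2 w₁ w₂)
    (M : Subgroup (Matrix.GeneralLinearGroup (Fin a × Fin b) F)) (hT : T1 J1 J2 ≤ M) (hMO : M ≤ OV J1 J2)
    (hS : StabPl (a := a) J2 M) : M ≤ K0 a b F := by
  classical
  haveI : CharP F (ringChar F) := ringChar.charP F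
  haveI : Fact (ringChar F).Prime := ⟨CharP.char_is_prime F (ringChar F)⟩
  have hF3 : 3 ≤ Fintype.card F := by
    have h1 : 1 < Fintype.card F := Fintype.one_lt_card
    obtain ⟨k, hk⟩ := hF
    omega
  obtain ⟨w₀₁, w₀₂, h₀⟩ := hex
  intro g hg
  obtain ⟨w₁', w₂', hw', heq⟩ :=
    std_img (ringChar F) hF3 C ha hodd hab hb M hT hMO hS g hg w₀₁ w₀₂ h₀
  apply hS g hg w₀₁ w₀₂ w₁' w₂' h₀ hw'
  intro v hv
  rw [← heq, mem_img]
  exact ⟨v, hv, rfl⟩

end Cfsg.Agent.Lib.Helper28.TOO
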