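import Mathlib

set_option autoImplicit false

open scoped Pointwise

namespace Cfsg.Agent.Lib.Helper28.Tc

open Equiv Equiv.Perm

/-- a transitive group generated by 3-cycles is primitive, so contains the alternating group -/
theorem alt_le_closure {β : Type*} [Fintype β] [DecidableEq β] (T : Set (Perm β))
    (hT : ∀ t ∈ T, t.IsThreeCycle) (hne : T.Nonempty)
    (htr : MulAction.IsPretransitive (Subgroup.closure T) β) :
    alternatingGroup β ≤ Subgroup.closure T := by
  obtain ⟨t₀, ht₀⟩ := hne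
  have hprim : MulAction.IsPreprimitive (Subgroup.closure T) β := by
    refine { toIsPretransitive := htr, isTrivialBlock_of_isBlock := ?_ }
    intro B hB
    by_cases hsub : B.Subsingleton
    · exact Or.inl hsub
    right
    rw [Set.not_subsingleton_iff] at hsub
    obtain ⟨b₁, hb₁, b₂, hb₂, h12⟩ := hsub
    -- every element of the closure stabilises `B`
    have hstab : ∀ g (hg : g ∈ Subgroup.closure T), (⟨g, hg⟩ : Subgroup.closure T) • B = B := by
      intro g hg
      induction hg using Subgroup.closure_induction with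
      | mem t ht =>
        rcases hB.smul_eq_or_disjoint ⟨t, Subgroup.subset_closure ht⟩ with h | h
        · exact h
        · exfalso
          have hmem : ∀ b ∈ B, t b ∉ B := by
            intro b hb hcon
            have h1 : t b ∈ (⟨t, Subgroup.subset_closure ht⟩ : Subgroup.closure T) • B :=
              ⟨b, hb, rfl⟩
            exact Set.disjoint_left.mp h h1 hcon
          have h3 := (hT t ht).card_support
          have e1 : t b₁ ≠ b₁ := fun hc => hmem b₁ hb₁ (by rw [hc]; exact hb₁)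
          have e2 : t b₂ ≠ b₂ := fun hc => hmem b₂ hb₂ (by rw [hc]; exact hb₂)
          have e3 : t b₁ ≠ b₂ := fun hc => hmem b₁ hb₁ (by rw [hc]; exact hb₂)
          have e4 : t b₂ ≠ b₁ := fun hc => hmem b₂ hb₂ (by rw [hc]; exact hb₁)
          have e5 : t b₁ ≠ t b₂ := fun hc => h12 (t.injective hc)
          have hsubset : ({b₁, b₂, t b₁, t b₂} : Finset β) ⊆ t.support := by
            intro z hz
            simp only [Finset.mem_insert, Finset.mem_singleton] at hz
            rw [Perm.mem_support]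
            rcases hz with rfl | rfl | rfl | rfl
            · exact e1
            · exact e2
            · exact fun hc => e1 (t.injective hc)
            · exact fun hc => e2 (t.injective hc)
          have hcard : ({b₁, b₂, t b₁, t b₂} : Finset β).card = 4 := by
            rw [Finset.card_insert_of_notMem, Finset.card_insert_of_notMem,
              Finset.card_insert_of_notMem, Finset.card_singleton]
            · simpa using e5
            · simp only [Finset.mem_insert, Finset.mem_singleton, not_or]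
              exact ⟨e3.symm, e2.symm⟩
            · simp only [Finset.mem_insert, Finset.mem_singleton, not_or]
              exact ⟨h12, e1.symm, e4.symm⟩
          have := Finset.card_le_card hsubset
          omega
      | one =>
        exact one_smul _ B
      | mul x y hx hy ihx ihy =>
        have e : (⟨x * y, Subgroup.mul_mem _ hx hy⟩ : Subgroup.closure T)
            = ⟨x, hx⟩ * ⟨y, hy⟩ := rfl
        rw [e, mul_smul, ihy, ihx]
      | inv x hx ih =>
        have e : (⟨x⁻¹, Subgroup.inv_mem _ hx⟩ : Subgroup.closure T) = (⟨x, hx⟩)⁻¹ := rfl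
        rw [e, inv_smul_eq_iff, ih]
    apply Set.eq_univ_of_forall
    intro y
    obtain ⟨g, hg⟩ := htr.exists_smul_eq b₁ y
    have h1 := hstab g.1 g.2
    rw [← h1, ← hg]
    exact ⟨b₁, hb₁, rfl⟩
  exact alternatingGroup_le_of_isPreprimitive_of_isThreeCycle_mem hprim (hT t₀ ht₀)
    (Subgroup.subset_closure ht₀)

variable {α : Type*} [Fintype α] [DecidableEq α]

/-- the even permutations supported in `Δ` -/
def altOn (Δ : Finset α) : Subgroup (Perm α) :=
  (alternatingGroup ↥Δ).map (ofSubtype : Perm ↥Δ →* Perm α)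

theorem mem_altOn (Δ : Finset α) (σ : Perm α) :
    σ ∈ altOn Δ ↔ (∀ y, σ y ≠ y → y ∈ Δ) ∧ Perm.sign σ = 1 := by
  unfold altOn
  rw [alternatingGroup.map_ofSubtype, Subgroup.mem_inf, Perm.mem_range_ofSubtype_iff,
    mem_alternatingGroup]
  constructor
  · rintro ⟨h1, h2⟩
    refine ⟨fun y hy => ?_, h2⟩
    exact h1 (by simpa using hy)
  · rintro ⟨h1, h2⟩
    refine ⟨fun y hy => ?_, h2⟩
    exact h1 y (by simpa using hy)

theorem altOn_le_closure (T : Set (Perm α)) (hT : ∀ t ∈ T, t.IsThreeCycle)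
    (hTinv : ∀ t ∈ T, t⁻¹ ∈ T) (Δ : Finset α) (x : α) (hxΔ : x ∈ Δ)
    (hΔinv : ∀ t ∈ T, ∀ y, y ∈ Δ → t y ∈ Δ)
    (hΔorb : ∀ y ∈ Δ, ∃ σ ∈ Subgroup.closure T, σ x = y) (hcard : 2 ≤ Δ.card) :
    altOn Δ ≤ Subgroup.closure T := by
  obtain ⟨TΔ, hTΔ⟩ : ∃ TΔ : Set (Perm ↥Δ),
      TΔ = {π | (ofSubtype : Perm ↥Δ →* Perm α) π ∈ T} := ⟨_, rfl⟩
  have hTΔ3 : ∀ π ∈ TΔ, π.IsThreeCycle := by
    intro π hπ
    rw [hTΔ] at hπ
    have h1 := hT _ hπ
    unfold Perm.IsThreeCycle at h1 ⊢
    rw [← h1, Perm.cycleType_ofSubtype]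
  -- restriction of a generator moving a point of `Δ`
  have hgen : ∀ t ∈ T, ∀ y ∈ Δ, t y ≠ y → ∃ π ∈ TΔ, ∀ z : ↥Δ, (π z : α) = t z := by
    intro t ht y hy hty
    have h₁ : ∀ z, t z ∈ Δ ↔ z ∈ Δ := by
      intro z
      constructor
      · intro hz
        have := hΔinv t⁻¹ (hTinv t ht) (t z) hz
        simpa using this
      · exact hΔinv t ht z
    have hsupp : t.support = {y, t y, t (t y)} :=
      (hT t ht).support_eq_iff_mem_support.mpr (Perm.mem_support.mpr hty)
    have h₂ : ∀ z, t z ≠ z → z ∈ Δ := by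
      intro z hz
      have h3 : z ∈ t.support := Perm.mem_support.mpr hz
      rw [hsupp] at h3
      simp only [Finset.mem_insert, Finset.mem_singleton] at h3
      rcases h3 with rfl | rfl | rfl
      · exact hy
      · exact hΔinv t ht _ hy
      · exact hΔinv t ht _ (hΔinv t ht _ hy)
    refine ⟨t.subtypePerm h₁, ?_, fun z => ?_⟩
    · rw [hTΔ]
      show (ofSubtype : Perm ↥Δ →* Perm α) (t.subtypePerm h₁) ∈ T
      rw [Perm.ofSubtype_subtypePerm h₁ h₂]
      exact ht
    · rw [Perm.subtypePerm_apply]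
  -- the orbit of `x` under the restricted group
  obtain ⟨O, hO⟩ : ∃ O : Set α, O = {y | ∃ hy : y ∈ Δ, ∃ π ∈ Subgroup.closure TΔ,
      π ⟨x, hxΔ⟩ = ⟨y, hy⟩} := ⟨_, rfl⟩
  have hOgen : ∀ t ∈ T, ∀ y ∈ O, t y ∈ O := by
    intro t ht y hy
    rw [hO] at hy ⊢
    obtain ⟨hyΔ, π, hπ, hπx⟩ := hy
    by_cases hty : t y = y
    · rw [hty]
      exact ⟨hyΔ, π, hπ, hπx⟩
    · obtain ⟨πt, hπt, hπt'⟩ := hgen t ht y hyΔ hty
      refine ⟨hΔinv t ht y hyΔ, πt * π, Subgroup.mul_mem _ (Subgroup.subset_closure hπt) hπ, ?_⟩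
      rw [Perm.mul_apply, hπx]
      apply Subtype.ext
      rw [hπt']
  have hOcl : ∀ σ ∈ Subgroup.closure T, (∀ y ∈ O, σ y ∈ O) ∧ (∀ y ∈ O, σ⁻¹ y ∈ O) := by
    intro σ hσ
    induction hσ using Subgroup.closure_induction with
    | mem t ht => exact ⟨hOgen t ht, hOgen t⁻¹ (hTinv t ht)⟩
    | one => exact ⟨fun y hy => by simpa using hy, fun y hy => by simpa using hy⟩
    | mul a b _ _ iha ihb =>
      refine ⟨fun y hy => ?_, fun y hy => ?_⟩
      · rw [Perm.mul_apply]
        exact iha.1 _ (ihb.1 y hy)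
      · rw [mul_inv_rev, Perm.mul_apply]
        exact ihb.2 _ (iha.2 y hy)
    | inv a _ iha =>
      refine ⟨iha.2, ?_⟩
      rw [inv_inv]
      exact iha.1
  have hxO : x ∈ O := by
    rw [hO]
    exact ⟨hxΔ, 1, Subgroup.one_mem _, rfl⟩
  have hreach : ∀ y (hy : y ∈ Δ), ∃ π ∈ Subgroup.closure TΔ, π ⟨x, hxΔ⟩ = ⟨y, hy⟩ := by
    intro y hy
    obtain ⟨σ, hσ, hσx⟩ := hΔorb y hy
    have h1 := (hOcl σ hσ).1 x hxO
    rw [hσx, hO] at h1
    obtain ⟨_, π, hπ, hπx⟩ := h1
    exact ⟨π, hπ, hπx⟩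
  have htr : MulAction.IsPretransitive (Subgroup.closure TΔ) ↥Δ := by
    refine ⟨fun a b => ?_⟩
    obtain ⟨πa, hπa, hπa'⟩ := hreach a.1 a.2
    obtain ⟨πb, hπb, hπb'⟩ := hreach b.1 b.2
    refine ⟨⟨πb * πa⁻¹, Subgroup.mul_mem _ hπb (Subgroup.inv_mem _ hπa)⟩, ?_⟩
    show (πb * πa⁻¹) a = b
    rw [Perm.mul_apply]
    have e : πa⁻¹ a = ⟨x, hxΔ⟩ := by
      rw [Perm.inv_eq_iff_eq]
      exact hπa'.symm
    rw [e, hπb']
  have hne : TΔ.Nonempty := by
    by_contra hcon
    rw [Set.not_nonempty_iff_eq_empty] at hcon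
    obtain ⟨y, hy, hyx⟩ : ∃ y ∈ Δ, y ≠ x := by
      by_contra hc
      push Not at hc
      have : Δ ⊆ {x} := fun z hz => Finset.mem_singleton.mpr (hc z hz)
      have := Finset.card_le_card this
      rw [Finset.card_singleton] at this
      omega
    obtain ⟨π, hπ, hπx⟩ := hreach y hy
    rw [hcon, Subgroup.closure_empty, Subgroup.mem_bot] at hπ
    rw [hπ, Perm.one_apply] at hπx
    exact hyx (congrArg Subtype.val hπx).symm
  have halt := alt_le_closure TΔ hTΔ3 hne htr
  unfold altOn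
  refine le_trans (Subgroup.map_mono halt) ?_
  rw [Subgroup.map_le_iff_le_comap, Subgroup.closure_le]
  intro π hπ
  rw [hTΔ] at hπ
  exact Subgroup.subset_closure hπ

end Cfsg.Agent.Lib.Helper28.Tc
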