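import Mathlib
import Cfsg.Agent.Lib.Helper28.TcA
import Cfsg.Agent.Lib.Helper1.PmQ2

set_option autoImplicit false

open scoped Pointwise

namespace Cfsg.Agent.Lib.Helper28.Tc

open Equiv Equiv.Perm

theorem perm_solvable_of_card_le_four {β : Type*} [Fintype β] [DecidableEq β]
    (h : Fintype.card β ≤ 4) : Group.IsSolvable (Perm β) := by
  have hc : Nat.card (Perm β) = (Fintype.card β).factorial := by
    rw [Nat.card_eq_fintype_card, Fintype.card_perm]
  have h5 : Fintype.card β = 0 ∨ Fintype.card β = 1 ∨ Fintype.card β = 2 ∨ Fintype.card β = 3 ∨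
      Fintype.card β = 4 := by omega
  rcases h5 with h5 | h5 | h5 | h5 | h5
  · exact Cfsg.Agent.Lib.Helper1.solvable_of_card_prime_pow (p := 2) (k := 0) Nat.prime_two
      (by rw [hc, h5]; rfl)
  · exact Cfsg.Agent.Lib.Helper1.solvable_of_card_prime_pow (p := 2) (k := 0) Nat.prime_two
      (by rw [hc, h5]; rfl)
  · exact Cfsg.Agent.Lib.Helper1.solvable_of_card_prime_pow (p := 2) (k := 1) Nat.prime_two
      (by rw [hc, h5]; rfl)
  · exact Cfsg.Agent.Lib.Helper1.solvable_of_card_pm_q 2 3 1 Nat.prime_two Nat.prime_three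
      (by rw [hc, h5]; rfl)
  · exact Cfsg.Agent.Lib.Helper1.solvable_of_card_pm_q 2 3 3 Nat.prime_two Nat.prime_three
      (by rw [hc, h5]; rfl)

variable {α : Type*} [Fintype α] [DecidableEq α]

/-- a perfect permutation group fixes pointwise every invariant set with at most 4 points -/
theorem fix_of_perfect_small (L : Subgroup (Perm α)) (hL : ⁅L, L⁆ = L) (D : Finset α)
    (hD : D.card ≤ 4) (hinv : ∀ l ∈ L, ∀ y, l y ∈ D ↔ y ∈ D) :
    ∀ l ∈ L, ∀ y ∈ D, l y = y := by
  obtain ⟨res, hres⟩ : ∃ res : ↥L →* Perm ↥D,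
      ∀ (l : ↥L) (z : ↥D), ((res l z : ↥D) : α) = (l : Perm α) z := by
    refine ⟨⟨⟨fun l => (l : Perm α).subtypePerm (hinv l.1 l.2), ?_⟩, ?_⟩, ?_⟩
    · ext z
      rfl
    · intro a b
      ext z
      rfl
    · intro l z
      rfl
  haveI : Group.IsPerfect ↥L := Subgroup.isPerfect_iff.mpr hL
  haveI hperf : Group.IsPerfect ↥res.range := Group.IsPerfect.range res
  have hsolv : Group.IsSolvable ↥res.range := by
    haveI := perm_solvable_of_card_le_four (β := ↥D) (by rw [Fintype.card_coe]; exact hD)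
    infer_instance
  have hsub : Subsingleton ↥res.range := by
    by_contra hcon
    rw [not_subsingleton_iff_nontrivial] at hcon
    exact Group.IsPerfect.not_isSolvable ↥res.range hsolv
  intro l hl y hy
  have h1 : (⟨res ⟨l, hl⟩, ⟨⟨l, hl⟩, rfl⟩⟩ : ↥res.range) = 1 := Subsingleton.elim _ _
  have h2 : res ⟨l, hl⟩ = 1 := congrArg Subtype.val h1
  have h3 := hres ⟨l, hl⟩ ⟨y, hy⟩
  rw [h2, Perm.one_apply] at h3
  exact h3.symm

end Cfsg.Agent.Lib.Helper28.Tc
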