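import Mathlib
import Cfsg.Agent.Lib.Helper28.TcB

set_option autoImplicit false

open scoped Pointwise

namespace Cfsg.Agent.Lib.Helper28.Tc

open Equiv Equiv.Perm

/-- alternating groups on equinumerous types are isomorphic -/
noncomputable def altCongr {β γ : Type*} [Fintype β] [DecidableEq β] [Fintype γ] [DecidableEq γ]
    (e : β ≃ γ) : ↥(alternatingGroup β) ≃* ↥(alternatingGroup γ) :=
  (e.permCongrHom.subgroupMap (alternatingGroup β)).trans
    (MulEquiv.subgroupCongr (by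
      ext σ
      rw [Subgroup.mem_map, mem_alternatingGroup]
      constructor
      · rintro ⟨τ, hτ, rfl⟩
        rw [mem_alternatingGroup] at hτ
        show Perm.sign (e.permCongrHom τ) = 1
        rw [Equiv.permCongrHom_coe, Perm.sign_permCongr, hτ]
      · intro hσ
        refine ⟨e.symm.permCongr σ, ?_, ?_⟩
        · rw [mem_alternatingGroup, Perm.sign_permCongr, hσ]
        · show e.permCongrHom (e.symm.permCongr σ) = σ
          rw [Equiv.permCongrHom_coe]
          ext x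
          simp [Equiv.permCongr_apply]))

variable {α : Type*} [Fintype α] [DecidableEq α]

theorem swap_mul_swap_mem_altOn (Δ : Finset α) {x z w : α} (hx : x ∈ Δ) (hz : z ∈ Δ)
    (hw : w ∈ Δ) (hxz : x ≠ z) (hxw : x ≠ w) (hzw : z ≠ w) :
    swap x z * swap x w ∈ altOn Δ := by
  rw [mem_altOn]
  constructor
  · intro y hy
    by_contra hyΔ
    apply hy
    have h1 : y ≠ x := fun h => hyΔ (h ▸ hx)
    have h2 : y ≠ z := fun h => hyΔ (h ▸ hz)
    have h3 : y ≠ w := fun h => hyΔ (h ▸ hw)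
    rw [Perm.mul_apply, swap_apply_of_ne_of_ne h1 h3, swap_apply_of_ne_of_ne h1 h2]
  · exact (isThreeCycle_swap_mul_swap_same hxz hxw hzw).sign

/-- anything commuting with `altOn Δ` fixes `Δ` pointwise, if `Δ` has at least 4 points -/
theorem fix_of_commute_altOn (Δ : Finset α) (hΔ : 4 ≤ Δ.card) (l : Perm α)
    (hl : ∀ s ∈ altOn Δ, l * s = s * l) (hinv : ∀ y, y ∈ Δ → l y ∈ Δ) :
    ∀ x ∈ Δ, l x = x := by
  intro x hx
  by_contra hlx
  have hyΔ := hinv x hx
  -- two more points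
  have h2 : 2 ≤ ((Δ.erase x).erase (l x)).card := by
    have h1 := Finset.card_erase_of_mem hx
    have h3 : l x ∈ Δ.erase x := Finset.mem_erase.mpr ⟨hlx, hyΔ⟩
    have h4 := Finset.card_erase_of_mem h3
    omega
  obtain ⟨z, hz, w, hw, hzw⟩ := Finset.one_lt_card.mp h2
  simp only [Finset.mem_erase] at hz hw
  obtain ⟨hz1, hz2, hzΔ⟩ := hz
  obtain ⟨hw1, hw2, hwΔ⟩ := hw
  have hs := swap_mul_swap_mem_altOn Δ hx hzΔ hwΔ (Ne.symm hz2) (Ne.symm hw2) hzw
  have h5 := congrArg (fun f : Perm α => f x) (hl _ hs)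
  simp only [Perm.mul_apply] at h5
  have e1 : swap x z (swap x w x) = w := by
    rw [swap_apply_left, swap_apply_of_ne_of_ne hw2 (Ne.symm hzw)]
  have e2 : swap x z (swap x w (l x)) = l x := by
    rw [swap_apply_of_ne_of_ne hlx (Ne.symm hw1), swap_apply_of_ne_of_ne hlx (Ne.symm hz1)]
  rw [e1, e2] at h5
  exact hw2 (l.injective h5)

theorem conj_mem_altOn (Δ : Finset α) (σ : Perm α) (hσ : ∀ y, y ∈ Δ → σ y ∈ Δ) (s : Perm α)
    (hs : s ∈ altOn Δ) : σ * s * σ⁻¹ ∈ altOn Δ := by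
  rw [mem_altOn] at hs ⊢
  constructor
  · intro y hy
    have h1 : s (σ⁻¹ y) ≠ σ⁻¹ y := by
      intro hcon
      apply hy
      rw [Perm.mul_apply, Perm.mul_apply, hcon]
      exact σ.apply_symm_apply y
    have h2 := hσ _ (hs.1 _ h1)
    have e : σ (σ⁻¹ y) = y := σ.apply_symm_apply y
    rwa [e] at h2
  · rw [Perm.sign_mul, Perm.sign_mul, Perm.sign_inv, hs.2, mul_one, mul_comm]
    exact Int.units_mul_self _ |>.symm ▸ rfl

/-- the isomorphism of `altOn Δ` with the alternating group of `Δ` -/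
noncomputable def altOnEquiv (Δ : Finset α) : ↥(alternatingGroup ↥Δ) ≃* ↥(altOn Δ) :=
  (alternatingGroup ↥Δ).equivMapOfInjective (ofSubtype : Perm ↥Δ →* Perm α)
    Perm.ofSubtype_injective

theorem altOn_simple (Δ : Finset α) (hΔ : 5 ≤ Δ.card) : IsSimpleGroup ↥(altOn Δ) := by
  haveI : IsSimpleGroup ↥(alternatingGroup ↥Δ) :=
    alternatingGroup.isSimpleGroup (by rw [Nat.card_eq_fintype_card, Fintype.card_coe]; exact hΔ)
  exact (altOnEquiv Δ).isSimpleGroup_congr.mp inferInstance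

theorem altOn_normal_sub (Δ : Finset α) (hΔ : 5 ≤ Δ.card) (N : Subgroup (Perm α))
    (hN : N ≤ altOn Δ) (hnorm : ∀ a ∈ altOn Δ, ∀ n ∈ N, a * n * a⁻¹ ∈ N) :
    N = ⊥ ∨ N = altOn Δ := by
  haveI := altOn_simple Δ hΔ
  haveI : (N.subgroupOf (altOn Δ)).Normal := by
    constructor
    intro n hn a
    exact hnorm a.1 a.2 n.1 hn
  rcases Subgroup.Normal.eq_bot_or_eq_top (H := N.subgroupOf (altOn Δ)) inferInstance with h | h
  · left
    rw [Subgroup.subgroupOf_eq_bot] at h
    rw [disjoint_iff, inf_of_le_left hN] at h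
    exact h
  · right
    rw [Subgroup.subgroupOf_eq_top] at h
    exact le_antisymm hN h

/-- `altOn Δ` is an alternating group of degree `|Δ|` -/
theorem altOn_iso (Δ : Finset α) :
    Nonempty (↥(altOn Δ) ≃* ↥(alternatingGroup (Fin Δ.card))) := by
  have e : ↥Δ ≃ Fin Δ.card := Fintype.equivFinOfCardEq (Fintype.card_coe Δ)
  exact ⟨(altOnEquiv Δ).symm.trans (altCongr e)⟩

theorem altOn_ne_bot (Δ : Finset α) (hΔ : 3 ≤ Δ.card) : altOn Δ ≠ ⊥ := by
  obtain ⟨x, hx, y, hy, z, hz, hxy, hxz, hyz⟩ := Finset.two_lt_card.mp hΔ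
  intro hcon
  have h1 := swap_mul_swap_mem_altOn Δ hx hy hz hxy hxz hyz
  rw [hcon, Subgroup.mem_bot] at h1
  have h2 := congrArg (fun f : Perm α => f z) h1
  simp only [Perm.mul_apply, Perm.one_apply] at h2
  rw [swap_apply_right, swap_apply_left] at h2
  exact hyz h2

end Cfsg.Agent.Lib.Helper28.Tc
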