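import Mathlib
import Cfsg.Agent.Lib.Helper28.TcC
import Cfsg.Agent.Lib.helper17.QS

set_option autoImplicit false

open scoped Pointwise commutatorElement

namespace Cfsg.Agent.Lib.Helper28.Tc

open Equiv Equiv.Perm

variable {α : Type*} [Fintype α] [DecidableEq α]

theorem support_inv_of_commute (l s : Perm α) (h : l * s = s * l) (y : α) :
    l y ∈ s.support ↔ y ∈ s.support := by
  rw [Perm.mem_support, Perm.mem_support]
  have h1 : s (l y) = l (s y) := by
    have := congrArg (fun f : Perm α => f y) h
    simp only [Perm.mul_apply] at this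
    exact this.symm
  rw [h1]
  exact not_congr l.injective.eq_iff

/-- the main permutation-group statement -/
theorem main_perm (H L : Subgroup (Perm α)) (hLH : L ≤ H)
    (hnorm : ∀ h ∈ H, ∀ l ∈ L, h * l * h⁻¹ ∈ L) (hqs : Cfsg.IsQuasisimple ↥L)
    (hcent : ∀ h ∈ H, (∀ l ∈ L, h * l = l * h) → h ∈ L)
    {r : ℕ} (s : Fin r → Perm α) (hs3 : ∀ i, (s i).IsThreeCycle) (hsH : ∀ i, s i ∈ H)
    (hdisj : ∀ i j, i ≠ j → Disjoint (s i).support (s j).support)
    (hr : Fintype.card α ≤ 3 * r + 2) :
    ∃ Δ : Finset α, L = altOn Δ ∧ 3 * r ≤ Δ.card := by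
  classical
  have hLperf : ⁅L, L⁆ = L := by
    haveI := hqs.1
    exact Subgroup.isPerfect_iff.mp inferInstance
  have hLne : L ≠ ⊥ := by
    intro hcon
    have h1 := Cfsg.Agent.Lib.Helper10.isQuasisimple_nontrivial hqs
    rw [hcon] at h1
    exact not_subsingleton _ (inferInstance : Subsingleton ↥(⊥ : Subgroup (Perm α)))
  obtain ⟨T, hTdef⟩ : ∃ T : Set (Perm α), T = {t | t ∈ H ∧ t.IsThreeCycle} := ⟨_, rfl⟩
  have hT3 : ∀ t ∈ T, t.IsThreeCycle := by
    intro t ht
    rw [hTdef] at ht
    exact ht.2
  have hTH : ∀ t ∈ T, t ∈ H := by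
    intro t ht
    rw [hTdef] at ht
    exact ht.1
  have hTinv : ∀ t ∈ T, t⁻¹ ∈ T := by
    intro t ht
    rw [hTdef] at ht ⊢
    exact ⟨H.inv_mem ht.1, ht.2.inv⟩
  have hsT : ∀ i, s i ∈ T := by
    intro i
    rw [hTdef]
    exact ⟨hsH i, hs3 i⟩
  obtain ⟨M, hMdef⟩ : ∃ M : Subgroup (Perm α), M = Subgroup.closure T := ⟨_, rfl⟩
  have hMH : M ≤ H := by
    rw [hMdef, Subgroup.closure_le]
    exact hTH
  have hTM : ∀ t ∈ T, t ∈ M := by
    intro t ht
    rw [hMdef]
    exact Subgroup.subset_closure ht
  -- `H` normalises `M`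
  have hMnorm : ∀ h ∈ H, ∀ m ∈ M, h * m * h⁻¹ ∈ M := by
    intro h hh m hm
    rw [hMdef] at hm ⊢
    induction hm using Subgroup.closure_induction with
    | mem t ht =>
      apply Subgroup.subset_closure
      rw [hTdef] at ht ⊢
      refine ⟨H.mul_mem (H.mul_mem hh ht.1) (H.inv_mem hh), ?_⟩
      have e : h * t * h⁻¹ = MulAut.conj h t := rfl
      unfold Perm.IsThreeCycle at ht ⊢
      rw [← ht.2]
      exact Perm.cycleType_conj
    | one => simp
    | mul a b _ _ iha ihb =>
      have e : h * (a * b) * h⁻¹ = (h * a * h⁻¹) * (h * b * h⁻¹) := by group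
      rw [e]
      exact Subgroup.mul_mem _ iha ihb
    | inv a _ iha =>
      have e : h * a⁻¹ * h⁻¹ = (h * a * h⁻¹)⁻¹ := by group
      rw [e]
      exact Subgroup.inv_mem _ iha
  have hcomm_le : ∀ X : Subgroup (Perm α), X ≤ H → ⁅L, X⁆ ≤ L := by
    intro X hX
    rw [Subgroup.commutator_le]
    intro l hl x hx
    have h1 := hnorm x (hX hx) l⁻¹ (L.inv_mem hl)
    have e : ⁅l, x⁆ = l * (x * l⁻¹ * x⁻¹) := by
      rw [commutatorElement_def]; group
    rw [e]
    exact L.mul_mem hl h1
  rcases Cfsg.Agent.Lib.helper17.commutator_quasisimple_eq_or_bot hqs (hcomm_le M hMH) with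
    hc | hc
  · -- Case II : `L ≤ M`
    have hLM : L ≤ M := by
      rw [← hc, Subgroup.commutator_le]
      intro l hl m hm
      have e : ⁅l, m⁆ = (l * m * l⁻¹) * m⁻¹ := by
        rw [commutatorElement_def]
      rw [e]
      exact M.mul_mem (hMnorm l (hLH hl) m hm) (M.inv_mem hm)
    obtain ⟨l₀, hl₀, hl₀1⟩ : ∃ l ∈ L, l ≠ 1 := by
      by_contra hcon
      push Not at hcon
      apply hLne
      rw [eq_bot_iff]
      intro l hl
      rw [Subgroup.mem_bot]
      exact hcon l hl
    obtain ⟨x, hx⟩ : ∃ x, l₀ x ≠ x := by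
      by_contra hcon
      push Not at hcon
      apply hl₀1
      ext y
      exact hcon y
    obtain ⟨Δ, hΔdef⟩ : ∃ Δ : Finset α, Δ = Finset.univ.filter (fun y => ∃ σ ∈ M, σ x = y) :=
      ⟨_, rfl⟩
    have memΔ : ∀ y, y ∈ Δ ↔ ∃ σ ∈ M, σ x = y := by
      intro y
      rw [hΔdef, Finset.mem_filter]
      simp
    have hxΔ : x ∈ Δ := (memΔ x).mpr ⟨1, M.one_mem, rfl⟩
    have hΔM : ∀ m ∈ M, ∀ y, y ∈ Δ → m y ∈ Δ := by
      intro m hm y hy
      obtain ⟨σ, hσ, rfl⟩ := (memΔ y).mp hy
      exact (memΔ _).mpr ⟨m * σ, M.mul_mem hm hσ, rfl⟩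
    have hΔM' : ∀ m ∈ M, ∀ y, m y ∈ Δ ↔ y ∈ Δ := by
      intro m hm y
      constructor
      · intro h1
        have h2 := hΔM m⁻¹ (M.inv_mem hm) _ h1
        have e : m⁻¹ (m y) = y := m.symm_apply_apply y
        rwa [e] at h2
      · exact hΔM m hm y
    have hcard2 : 2 ≤ Δ.card := by
      have h1 : ({x, l₀ x} : Finset α) ⊆ Δ := by
        intro z hz
        simp only [Finset.mem_insert, Finset.mem_singleton] at hz
        rcases hz with rfl | rfl
        · exact hxΔ
        · exact hΔM l₀ (hLM hl₀) _ hxΔ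
      have h2 := Finset.card_le_card h1
      rw [Finset.card_pair (Ne.symm hx)] at h2
      exact h2
    have haltM : altOn Δ ≤ M := by
      rw [hMdef]
      apply altOn_le_closure T hT3 hTinv Δ x hxΔ
      · intro t ht y hy
        exact hΔM t (hTM t ht) y hy
      · intro y hy
        rw [← hMdef]
        exact (memΔ y).mp hy
      · exact hcard2
    have hcard5 : 5 ≤ Δ.card := by
      by_contra hcon
      have h1 := fix_of_perfect_small L hLperf Δ (by omega)
        (fun l hl y => hΔM' l (hLM hl) y) l₀ hl₀ x hxΔ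
      exact hx h1
    rcases Cfsg.Agent.Lib.helper17.commutator_quasisimple_eq_or_bot hqs
      (hcomm_le (altOn Δ) (haltM.trans hMH)) with hc2 | hc2
    · have hLalt : L ≤ altOn Δ := by
        rw [← hc2, Subgroup.commutator_le]
        intro l hl a ha
        have e : ⁅l, a⁆ = (l * a * l⁻¹) * a⁻¹ := by
          rw [commutatorElement_def]
        rw [e]
        exact Subgroup.mul_mem _ (conj_mem_altOn Δ l (hΔM l (hLM hl)) a ha)
          (Subgroup.inv_mem _ ha)
      have hLeq : L = altOn Δ := by
        rcases altOn_normal_sub Δ hcard5 L hLalt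
          (fun a ha n hn => hnorm a (hMH (haltM ha)) n hn) with h1 | h1
        · exact absurd h1 hLne
        · exact h1
      refine ⟨Δ, hLeq, ?_⟩
      -- all the `s i` are supported in `Δ`
      have hsupp : ∀ i, (s i).support ⊆ Δ := by
        intro i y hy
        by_contra hyΔ
        have hdisjΔ : ∀ z ∈ Δ, s i z = z := by
          intro z hz
          by_contra hsz
          have hsupp3 : (s i).support = {z, s i z, s i (s i z)} :=
            (hs3 i).support_eq_iff_mem_support.mpr (Perm.mem_support.mpr hsz)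
          rw [hsupp3] at hy
          simp only [Finset.mem_insert, Finset.mem_singleton] at hy
          have hsM := hTM _ (hsT i)
          rcases hy with rfl | rfl | rfl
          · exact hyΔ hz
          · exact hyΔ (hΔM _ hsM _ hz)
          · exact hyΔ (hΔM _ hsM _ (hΔM _ hsM _ hz))
        have hcm : ∀ l ∈ L, s i * l = l * s i := by
          intro l hl
          rw [hLeq, mem_altOn] at hl
          have hd : Perm.Disjoint (s i) l := by
            intro z
            by_cases hz : z ∈ Δ
            · exact Or.inl (hdisjΔ z hz)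
            · right
              by_contra hlz
              exact hz (hl.1 z hlz)
          exact hd.commute
        have h1 := hcent (s i) (hsH i) hcm
        rw [hLeq, mem_altOn] at h1
        exact hyΔ (h1.1 y (Perm.mem_support.mp hy))
      have hU : (Finset.univ.biUnion (fun i => (s i).support)) ⊆ Δ := by
        intro y hy
        rw [Finset.mem_biUnion] at hy
        obtain ⟨i, _, hi⟩ := hy
        exact hsupp i hi
      have hUcard : (Finset.univ.biUnion (fun i => (s i).support)).card = 3 * r := by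
        rw [Finset.card_biUnion (fun i _ j _ hij => hdisj i j hij)]
        simp only [(hs3 _).card_support, Finset.sum_const, Finset.card_univ, Fintype.card_fin,
          smul_eq_mul]
        ring
      have := Finset.card_le_card hU
      omega
    · exfalso
      rw [Subgroup.commutator_eq_bot_iff_le_centralizer] at hc2
      have h1 := fix_of_commute_altOn Δ (by omega) l₀
        (fun a ha => ((hc2 hl₀) a ha).symm) (hΔM l₀ (hLM hl₀)) x hxΔ
      exact hx h1
  · -- Case I : `L` centralises `M`
    exfalso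
    rw [Subgroup.commutator_eq_bot_iff_le_centralizer] at hc
    have hcm : ∀ l ∈ L, ∀ i, l * s i = s i * l := by
      intro l hl i
      exact ((hc hl) (s i) (hTM _ (hsT i))).symm
    have hfix1 : ∀ i, ∀ l ∈ L, ∀ y ∈ (s i).support, l y = y := by
      intro i
      apply fix_of_perfect_small L hLperf (s i).support (by rw [(hs3 i).card_support]; omega)
      intro l hl y
      exact support_inv_of_commute l (s i) (hcm l hl i) y
    obtain ⟨U, hUdef⟩ : ∃ U : Finset α, U = Finset.univ.biUnion (fun i => (s i).support) :=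
      ⟨_, rfl⟩
    have hUcard : U.card = 3 * r := by
      rw [hUdef, Finset.card_biUnion (fun i _ j _ hij => hdisj i j hij)]
      simp only [(hs3 _).card_support, Finset.sum_const, Finset.card_univ, Fintype.card_fin,
        smul_eq_mul]
      ring
    have hfixU : ∀ l ∈ L, ∀ y ∈ U, l y = y := by
      intro l hl y hy
      rw [hUdef, Finset.mem_biUnion] at hy
      obtain ⟨i, _, hi⟩ := hy
      exact hfix1 i l hl y hi
    have hRcard : Uᶜ.card ≤ 4 := by
      rw [Finset.card_compl, hUcard]
      omega
    have hfixR : ∀ l ∈ L, ∀ y ∈ Uᶜ, l y = y := by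
      apply fix_of_perfect_small L hLperf Uᶜ hRcard
      intro l hl y
      rw [Finset.mem_compl, Finset.mem_compl, not_iff_not]
      constructor
      · intro h1
        have h2 := hfixU l hl _ h1
        have h3 := l.injective h2
        rwa [h3] at h1
      · intro h1
        rw [hfixU l hl y h1]
        exact h1
    apply hLne
    rw [eq_bot_iff]
    intro l hl
    rw [Subgroup.mem_bot]
    ext y
    by_cases hy : y ∈ U
    · exact hfixU l hl y hy
    · exact hfixR l hl y (Finset.mem_compl.mpr hy)

end Cfsg.Agent.Lib.Helper28.Tc
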