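import Mathlib

set_option autoImplicit false

open scoped Pointwise

namespace Cfsg.Agent.Lib.Helper28.Tc

open Equiv Equiv.Perm

/-- closure of a commuting set of elements of order dividing `3` is a `3`-group -/
theorem isPGroup_closure_of_comm {G : Type*} [Group G] (S : Set G)
    (hcomm : ∀ x ∈ S, ∀ y ∈ S, x * y = y * x) (h3 : ∀ x ∈ S, x ^ 3 = 1) :
    IsPGroup 3 ↥(Subgroup.closure S) := by
  have hc : ∀ a ∈ Subgroup.closure S, ∀ b ∈ Subgroup.closure S, a * b = b * a := by
    intro a ha b hb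
    have h1 := Subgroup.isMulCommutative_closure hcomm
    have h2 := h1.is_comm.comm (⟨a, ha⟩ : ↥(Subgroup.closure S)) ⟨b, hb⟩
    exact congrArg Subtype.val h2
  have hpow : ∀ a ∈ Subgroup.closure S, a ^ 3 = 1 := by
    intro a ha
    induction ha using Subgroup.closure_induction with
    | mem x hx => exact h3 x hx
    | one => simp
    | mul a b ha hb iha ihb =>
      have hcm : Commute a b := hc a ha b hb
      rw [hcm.mul_pow, iha, ihb, one_mul]
    | inv a _ iha => rw [inv_pow, iha, inv_one]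
  intro g
  refine ⟨1, ?_⟩
  rw [pow_one]
  apply Subtype.ext
  rw [Subgroup.coe_pow]
  exact hpow g.1 g.2

/-- the standard `3`-cycle on `3i, 3i+1, 3i+2` -/
def stdCyc (n : ℕ) (i : Fin (n / 3)) : Perm (Fin n) :=
  swap (⟨3 * i.1, by have := i.2; omega⟩ : Fin n) ⟨3 * i.1 + 1, by have := i.2; omega⟩ *
    swap (⟨3 * i.1, by have := i.2; omega⟩ : Fin n) ⟨3 * i.1 + 2, by have := i.2; omega⟩

theorem stdCyc_isThreeCycle (n : ℕ) (i : Fin (n / 3)) : (stdCyc n i).IsThreeCycle := by
  unfold stdCyc
  apply isThreeCycle_swap_mul_swap_same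
  · intro h; have := congrArg Fin.val h; simp at this
  · intro h; have := congrArg Fin.val h; simp at this
  · intro h; have := congrArg Fin.val h; simp at this

theorem stdCyc_apply_of_not (n : ℕ) (i : Fin (n / 3)) (y : Fin n)
    (hy : y.1 / 3 ≠ i.1) : stdCyc n i y = y := by
  unfold stdCyc
  rw [Perm.mul_apply]
  have h0 : y ≠ (⟨3 * i.1, by have := i.2; omega⟩ : Fin n) := by
    intro h; have := congrArg Fin.val h; simp only at this; omega
  have h1 : y ≠ (⟨3 * i.1 + 1, by have := i.2; omega⟩ : Fin n) := by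
    intro h; have := congrArg Fin.val h; simp only at this; omega
  have h2 : y ≠ (⟨3 * i.1 + 2, by have := i.2; omega⟩ : Fin n) := by
    intro h; have := congrArg Fin.val h; simp only at this; omega
  rw [swap_apply_of_ne_of_ne h0 h2, swap_apply_of_ne_of_ne h0 h1]

theorem stdCyc_disjoint (n : ℕ) (i j : Fin (n / 3)) (hij : i ≠ j) :
    Perm.Disjoint (stdCyc n i) (stdCyc n j) := by
  intro y
  by_cases hy : y.1 / 3 = i.1
  · right
    apply stdCyc_apply_of_not
    intro h
    apply hij
    apply Fin.ext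
    omega
  · left
    exact stdCyc_apply_of_not n i y hy

/-- a Sylow `3`-subgroup of `Sym(n)` contains `n / 3` pairwise disjoint `3`-cycles -/
theorem exists_three_cycles (n : ℕ) (P : Sylow 3 (Perm (Fin n))) :
    ∃ s : Fin (n / 3) → Perm (Fin n), (∀ i, (s i).IsThreeCycle) ∧
      (∀ i, s i ∈ (P : Subgroup (Perm (Fin n)))) ∧
      (∀ i j, i ≠ j → _root_.Disjoint (s i).support (s j).support) := by
  haveI : Fact (Nat.Prime 3) := ⟨Nat.prime_three⟩
  have hE : IsPGroup 3 ↥(Subgroup.closure (Set.range (stdCyc n))) := by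
    apply isPGroup_closure_of_comm
    · rintro x ⟨i, rfl⟩ y ⟨j, rfl⟩
      by_cases hij : i = j
      · rw [hij]
      · exact (stdCyc_disjoint n i j hij).commute
    · rintro x ⟨i, rfl⟩
      have h1 := (stdCyc_isThreeCycle n i).orderOf
      rw [← h1]
      exact pow_orderOf_eq_one _
  obtain ⟨Q, hQ⟩ := hE.exists_le_sylow
  obtain ⟨g, hg⟩ := MulAction.exists_smul_eq (Perm (Fin n)) Q P
  refine ⟨fun i => g * stdCyc n i * g⁻¹, ?_, ?_, ?_⟩
  · intro i
    have h1 := stdCyc_isThreeCycle n i
    unfold Perm.IsThreeCycle at h1 ⊢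
    rw [← h1]
    exact Perm.cycleType_conj
  · intro i
    have h1 : stdCyc n i ∈ (Q : Subgroup (Perm (Fin n))) :=
      hQ (Subgroup.subset_closure ⟨i, rfl⟩)
    have h2 := Subgroup.smul_mem_pointwise_smul _ (MulAut.conj g) _ h1
    have h3 : MulAut.conj g • (Q : Subgroup (Perm (Fin n))) = ((g • Q : Sylow 3 (Perm (Fin n))) :
        Subgroup (Perm (Fin n))) := by
      rw [Sylow.smul_def, Sylow.pointwise_smul_def]
    rw [h3, hg] at h2
    exact h2
  · intro i j hij
    simp only [Perm.support_conj]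
    rw [Finset.disjoint_map]
    exact Perm.disjoint_iff_disjoint_support.mp (stdCyc_disjoint n i j hij)

end Cfsg.Agent.Lib.Helper28.Tc
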