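import Mathlib

set_option autoImplicit false

/-! Block matrices of shape `[[1,a,u],[0,1,0],[0,v,A]]` on `Fin (n+2)` over `ZMod 2`
(the centralizer of the transvection `1 + E₀₁`). -/

namespace Cfsg.Agent.Lib.Helper28.Tv

open Matrix

variable {n : ℕ}

abbrev R2 := ZMod 2

/-- the block matrix `[[1,a,u],[0,1,0],[0,v,A]]` -/
def bmat (a : R2) (u v : Fin n → R2) (A : Matrix (Fin n) (Fin n) R2) :
    Matrix (Fin (n + 2)) (Fin (n + 2)) R2 :=
  Matrix.of fun i j =>
    Fin.cases (motive := fun _ => R2)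
      (Fin.cases (motive := fun _ => R2) 1
        (fun j' => Fin.cases (motive := fun _ => R2) a (fun l => u l) j') j)
      (fun i' => Fin.cases (motive := fun _ => R2)
        (Fin.cases (motive := fun _ => R2) 0
          (fun j' => Fin.cases (motive := fun _ => R2) 1 (fun _ => 0) j') j)
        (fun k => Fin.cases (motive := fun _ => R2) 0
          (fun j' => Fin.cases (motive := fun _ => R2) (v k) (fun l => A k l) j') j) i') i

theorem one_eq_succ : (1 : Fin (n + 2)) = Fin.succ (0 : Fin (n + 1)) := Fin.succ_zero_eq_one.symm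

variable (a : R2) (u v : Fin n → R2) (A : Matrix (Fin n) (Fin n) R2)

@[simp] theorem bmat_00 : bmat a u v A 0 0 = 1 := rfl
@[simp] theorem bmat_01 : bmat a u v A 0 1 = a := by rw [one_eq_succ]; rfl
@[simp] theorem bmat_0s (l : Fin n) : bmat a u v A 0 l.succ.succ = u l := rfl
@[simp] theorem bmat_10 : bmat a u v A 1 0 = 0 := by rw [one_eq_succ]; rfl
@[simp] theorem bmat_11 : bmat a u v A 1 1 = 1 := by rw [one_eq_succ]; rfl
@[simp] theorem bmat_1s (l : Fin n) : bmat a u v A 1 l.succ.succ = 0 := by rw [one_eq_succ]; rfl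
@[simp] theorem bmat_s0 (k : Fin n) : bmat a u v A k.succ.succ 0 = 0 := rfl
@[simp] theorem bmat_s1 (k : Fin n) : bmat a u v A k.succ.succ 1 = v k := by rw [one_eq_succ]; rfl
@[simp] theorem bmat_ss (k l : Fin n) : bmat a u v A k.succ.succ l.succ.succ = A k l := rfl

theorem fin_cases3 (i : Fin (n + 2)) : i = 0 ∨ i = 1 ∨ ∃ k : Fin n, i = k.succ.succ := by
  refine Fin.cases (Or.inl rfl) (fun i' => ?_) i
  refine Fin.cases (Or.inr (Or.inl one_eq_succ.symm)) (fun k => ?_) i'
  exact Or.inr (Or.inr ⟨k, rfl⟩)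

theorem sum3 {M : Type*} [AddCommMonoid M] (f : Fin (n + 2) → M) :
    ∑ i, f i = f 0 + (f 1 + ∑ k : Fin n, f k.succ.succ) := by
  rw [Fin.sum_univ_succ, Fin.sum_univ_succ, one_eq_succ]

theorem ss_ne_zero (k : Fin n) : k.succ.succ ≠ (0 : Fin (n + 2)) := Fin.succ_ne_zero _
theorem ss_ne_one (k : Fin n) : k.succ.succ ≠ (1 : Fin (n + 2)) := by
  rw [one_eq_succ]
  intro h
  exact Fin.succ_ne_zero k (Fin.succ_injective _ h)
theorem zero_ne_one' : (0 : Fin (n + 2)) ≠ 1 := by
  rw [one_eq_succ]; exact (Fin.succ_ne_zero _).symm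

/-- matrix extensionality in block form -/
theorem ext3 {M N : Matrix (Fin (n + 2)) (Fin (n + 2)) R2}
    (h00 : M 0 0 = N 0 0) (h01 : M 0 1 = N 0 1) (h0s : ∀ l : Fin n, M 0 l.succ.succ = N 0 l.succ.succ)
    (h10 : M 1 0 = N 1 0) (h11 : M 1 1 = N 1 1) (h1s : ∀ l : Fin n, M 1 l.succ.succ = N 1 l.succ.succ)
    (hs0 : ∀ k : Fin n, M k.succ.succ 0 = N k.succ.succ 0)
    (hs1 : ∀ k : Fin n, M k.succ.succ 1 = N k.succ.succ 1)
    (hss : ∀ k l : Fin n, M k.succ.succ l.succ.succ = N k.succ.succ l.succ.succ) : M = N := by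
  ext i j
  rcases fin_cases3 i with rfl | rfl | ⟨k, rfl⟩ <;> rcases fin_cases3 j with rfl | rfl | ⟨l, rfl⟩
  · exact h00
  · exact h01
  · exact h0s l
  · exact h10
  · exact h11
  · exact h1s l
  · exact hs0 k
  · exact hs1 k
  · exact hss k l

/-- the product formula -/
theorem bmat_mul (a' : R2) (u' v' : Fin n → R2) (A' : Matrix (Fin n) (Fin n) R2) :
    bmat a u v A * bmat a' u' v' A' =
      bmat (a + a' + u ⬝ᵥ v') (u' + u ᵥ* A') (v + A *ᵥ v') (A * A') := by
  apply ext3
  · simp [Matrix.mul_apply, sum3]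
  · simp [Matrix.mul_apply, sum3, dotProduct]
    ring
  · intro l
    simp [Matrix.mul_apply, sum3, Matrix.vecMul, dotProduct]
  · simp [Matrix.mul_apply, sum3]
  · simp [Matrix.mul_apply, sum3]
  · intro l
    simp [Matrix.mul_apply, sum3]
  · intro k
    simp [Matrix.mul_apply, sum3]
  · intro k
    simp [Matrix.mul_apply, sum3, Matrix.mulVec, dotProduct]
  · intro k l
    simp [Matrix.mul_apply, sum3]

theorem bmat_one : bmat (n := n) 0 0 0 1 = 1 := by
  apply ext3 <;> simp [Matrix.one_apply, zero_ne_one', ss_ne_zero, ss_ne_one, (ss_ne_zero _).symm,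
    (ss_ne_one _).symm, Ne.symm zero_ne_one']

theorem bmat_inj {a a' : R2} {u u' v v' : Fin n → R2} {A A' : Matrix (Fin n) (Fin n) R2}
    (h : bmat a u v A = bmat a' u' v' A') : a = a' ∧ u = u' ∧ v = v' ∧ A = A' := by
  refine ⟨?_, ?_, ?_, ?_⟩
  · have := congrFun (congrFun h 0) 1
    simpa using this
  · funext l
    have := congrFun (congrFun h 0) l.succ.succ
    simpa using this
  · funext k
    have := congrFun (congrFun h k.succ.succ) 1
    simpa using this
  · ext k l
    have := congrFun (congrFun h k.succ.succ) l.succ.succ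
    simpa using this

end Cfsg.Agent.Lib.Helper28.Tv
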