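import Mathlib
import Cfsg.Agent.Lib.Helper28.TvA

set_option autoImplicit false

/-! The centralizer of the transvection `1 + E₀₁` in `SL (n+2) 2`: elements. -/

namespace Cfsg.Agent.Lib.Helper28.Tv

open Matrix

variable {n : ℕ}

abbrev SLn2 (n : ℕ) := Matrix.SpecialLinearGroup (Fin (n + 2)) R2
abbrev SLn (n : ℕ) := Matrix.SpecialLinearGroup (Fin n) R2

theorem r2_eq_one_of_mul : ∀ {x y : R2}, x * y = 1 → x = 1 := by decide

theorem r2_eq_one_of_ne_zero : ∀ {x : R2}, x ≠ 0 → x = 1 := by decide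

theorem r2_add_self (x : R2) : x + x = 0 := by revert x; decide

theorem det_eq_one_of_mul_eq_one {m : Type*} [Fintype m] [DecidableEq m] {M M' : Matrix m m R2}
    (h : M * M' = 1) : M.det = 1 := by
  have h1 := congrArg Matrix.det h
  rw [Matrix.det_mul, Matrix.det_one] at h1
  exact r2_eq_one_of_mul h1

theorem fun_add_self {ι : Type*} (u : ι → R2) : u + u = 0 := by
  funext i; exact r2_add_self (u i)

/-- Heisenberg part -/
theorem hmat_mul (a a' : R2) (u v u' v' : Fin n → R2) :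
    bmat a u v 1 * bmat a' u' v' 1 = bmat (a + a' + u ⬝ᵥ v') (u' + u) (v + v') 1 := by
  rw [bmat_mul]; simp

theorem hmat_mul_self_inv (a : R2) (u v : Fin n → R2) :
    bmat a u v 1 * bmat (a + u ⬝ᵥ v) u v 1 = 1 := by
  rw [hmat_mul, fun_add_self, fun_add_self, ← bmat_one]
  congr 1
  have : a + (a + u ⬝ᵥ v) + u ⬝ᵥ v = (a + a) + (u ⬝ᵥ v + u ⬝ᵥ v) := by ring
  rw [this, r2_add_self, r2_add_self, add_zero]

/-- the Heisenberg element as an element of `SL` -/
def hsl (a : R2) (u v : Fin n → R2) : SLn2 n :=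
  ⟨bmat a u v 1, det_eq_one_of_mul_eq_one (hmat_mul_self_inv a u v)⟩

@[simp] theorem hsl_coe (a : R2) (u v : Fin n → R2) :
    ((hsl a u v : SLn2 n) : Matrix (Fin (n + 2)) (Fin (n + 2)) R2) = bmat a u v 1 := rfl

theorem hsl_mul (a a' : R2) (u v u' v' : Fin n → R2) :
    hsl a u v * hsl a' u' v' = hsl (a + a' + u ⬝ᵥ v') (u' + u) (v + v') := by
  apply Subtype.ext
  simp [hmat_mul]

theorem hsl_one : hsl (n := n) 0 0 0 = 1 := by
  apply Subtype.ext
  simp [bmat_one]

theorem hsl_inv (a : R2) (u v : Fin n → R2) : (hsl a u v)⁻¹ = hsl (a + u ⬝ᵥ v) u v := by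
  apply inv_eq_of_mul_eq_one_right
  apply Subtype.ext
  simp [hmat_mul_self_inv]

theorem hsl_inj {a a' : R2} {u u' v v' : Fin n → R2} (h : hsl a u v = hsl a' u' v') :
    a = a' ∧ u = u' ∧ v = v' := by
  have h1 := congrArg (fun g : SLn2 n => (g : Matrix (Fin (n + 2)) (Fin (n + 2)) R2)) h
  simp only [hsl_coe] at h1
  obtain ⟨h2, h3, h4, -⟩ := bmat_inj h1
  exact ⟨h2, h3, h4⟩

/-- the block-diagonal embedding of `SL n` -/
theorem emat_mul (A A' : Matrix (Fin n) (Fin n) R2) :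
    bmat 0 0 0 A * bmat 0 0 0 A' = bmat 0 0 0 (A * A') := by
  rw [bmat_mul]; simp

def esl (A : SLn n) : SLn2 n :=
  ⟨bmat 0 0 0 A.1, det_eq_one_of_mul_eq_one (M' := bmat 0 0 0 (A⁻¹ : SLn n).1) (by
    rw [emat_mul]
    have h : A.1 * (A⁻¹ : SLn n).1 = 1 := by
      have h := congrArg (fun g : SLn n => (g : Matrix (Fin n) (Fin n) R2)) (mul_inv_cancel A)
      simp only [Matrix.SpecialLinearGroup.coe_mul, Matrix.SpecialLinearGroup.coe_one] at h
      exact h
    rw [h, bmat_one])⟩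

@[simp] theorem esl_coe (A : SLn n) :
    ((esl A : SLn2 n) : Matrix (Fin (n + 2)) (Fin (n + 2)) R2) = bmat 0 0 0 A.1 := rfl

def eslHom (n : ℕ) : SLn n →* SLn2 n where
  toFun := esl
  map_one' := by
    apply Subtype.ext
    simp [bmat_one]
  map_mul' A B := by
    apply Subtype.ext
    simp [emat_mul]

theorem eslHom_injective : Function.Injective (eslHom n) := by
  intro A B h
  have h1 := congrArg (fun g : SLn2 n => (g : Matrix (Fin (n + 2)) (Fin (n + 2)) R2)) h
  have h2 : bmat 0 0 0 A.1 = bmat 0 0 0 B.1 := h1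
  exact Subtype.ext (bmat_inj h2).2.2.2

/-- the transvection -/
def z0 (n : ℕ) : SLn2 n := hsl 1 0 0

theorem z0_coe : ((z0 n : SLn2 n) : Matrix (Fin (n + 2)) (Fin (n + 2)) R2) =
    Matrix.transvection 0 1 1 := by
  rw [z0, hsl_coe]
  apply ext3 <;>
  simp [Matrix.transvection, Matrix.one_apply, ss_ne_zero, ss_ne_one,
    (ss_ne_zero _).symm, (ss_ne_one _).symm, zero_ne_one', Ne.symm zero_ne_one']

theorem z0_mul_self : z0 n * z0 n = 1 := by
  rw [z0, hsl_mul, ← hsl_one]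
  congr 1 <;> simp [r2_add_self]

end Cfsg.Agent.Lib.Helper28.Tv
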