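import Mathlib
import Cfsg.Agent.Lib.Helper28.TvB

set_option autoImplicit false

/-! `O₂(SL_n(2)) = 1` for `n ≥ 2`. -/

namespace Cfsg.Agent.Lib.Helper28.Tv

open Matrix

variable {n : ℕ}

/-- the natural action on column vectors -/
def slAct (n : ℕ) : MulAction (SLn n) (Fin n → R2) where
  smul g x := (g : Matrix (Fin n) (Fin n) R2) *ᵥ x
  one_smul x := by
    show ((1 : SLn n) : Matrix (Fin n) (Fin n) R2) *ᵥ x = x
    simp
  mul_smul g h x := by
    show ((g * h : SLn n) : Matrix (Fin n) (Fin n) R2) *ᵥ x =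
      (g : Matrix (Fin n) (Fin n) R2) *ᵥ ((h : Matrix (Fin n) (Fin n) R2) *ᵥ x)
    simp [Matrix.mulVec_mulVec]

/-- transvection as an element of `SL` -/
def tsl {i j : Fin n} (h : i ≠ j) : SLn n := ⟨Matrix.transvection i j 1, Matrix.det_transvection_of_ne i j h 1⟩

theorem tsl_mulVec {i j : Fin n} (h : i ≠ j) (x : Fin n → R2) :
    ((tsl h : SLn n) : Matrix (Fin n) (Fin n) R2) *ᵥ x = x + Pi.single i (x j) := by
  show Matrix.transvection i j 1 *ᵥ x = _
  rw [Matrix.transvection, Matrix.add_mulVec, Matrix.one_mulVec, Matrix.single_mulVec, one_mul]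
  rfl

theorem o2_sl_eq_bot (hn : 2 ≤ n) (N : Subgroup (SLn n)) [hNn : N.Normal] (hN : IsPGroup 2 N) :
    N = ⊥ := by
  classical
  let _ : MulAction (SLn n) (Fin n → R2) := slAct n
  have : Fact (Nat.Prime 2) := ⟨Nat.prime_two⟩
  have hsmul : ∀ (g : SLn n) (x : Fin n → R2), g • x = (g : Matrix (Fin n) (Fin n) R2) *ᵥ x :=
    fun _ _ => rfl
  -- the fixed space
  let W : Set (Fin n → R2) := {x | ∀ g ∈ N, (g : Matrix (Fin n) (Fin n) R2) *ᵥ x = x}
  have hWadd : ∀ x y, x ∈ W → y ∈ W → x + y ∈ W := by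
    intro x y hx hy g hg
    rw [Matrix.mulVec_add, hx g hg, hy g hg]
  have hWinv : ∀ (h : SLn n) x, x ∈ W → (h : Matrix (Fin n) (Fin n) R2) *ᵥ x ∈ W := by
    intro h x hx g hg
    have h1 : h⁻¹ * g * h ∈ N := by
      have := hNn.conj_mem g hg h⁻¹
      simpa using this
    have h2 := hx _ h1
    have h3 : (g : Matrix (Fin n) (Fin n) R2) * (h : Matrix (Fin n) (Fin n) R2) =
        (h : Matrix (Fin n) (Fin n) R2) * ((h⁻¹ * g * h : SLn n) : Matrix (Fin n) (Fin n) R2) := by
      rw [← Matrix.SpecialLinearGroup.coe_mul, ← Matrix.SpecialLinearGroup.coe_mul]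
      have : g * h = h * (h⁻¹ * g * h) := by
        rw [mul_assoc h⁻¹ g h, mul_inv_cancel_left]
      rw [this]
    rw [Matrix.mulVec_mulVec, h3, ← Matrix.mulVec_mulVec, h2]
  -- a nonzero fixed vector
  have hcard : 2 ∣ Nat.card (Fin n → R2) := by
    rw [Nat.card_eq_fintype_card, Fintype.card_fun, ZMod.card, Fintype.card_fin]
    exact dvd_pow_self 2 (by omega)
  have h0 : (0 : Fin n → R2) ∈ MulAction.fixedPoints N (Fin n → R2) := by
    intro g
    show ((g : SLn n) : Matrix (Fin n) (Fin n) R2) *ᵥ 0 = 0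
    simp
  obtain ⟨x, hx, hx0⟩ := hN.exists_fixed_point_of_prime_dvd_card_of_fixed_point
    (Fin n → R2) hcard h0
  have hxW : x ∈ W := by
    intro g hg
    exact hx ⟨g, hg⟩
  have hxne : x ≠ 0 := fun h => hx0 h.symm
  obtain ⟨i, hi⟩ : ∃ i, x i ≠ 0 := by
    by_contra hcon
    push Not at hcon
    exact hxne (funext hcon)
  have hi1 : x i = 1 := r2_eq_one_of_ne_zero hi
  -- all basis vectors other than e_i
  have hej : ∀ j, j ≠ i → (Pi.single j 1 : Fin n → R2) ∈ W := by
    intro j hj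
    have h1 := hWinv (tsl hj) x hxW
    rw [tsl_mulVec, hi1] at h1
    have h2 := hWadd _ _ h1 hxW
    have h3 : x + Pi.single j 1 + x = Pi.single j 1 := by
      funext k
      simp only [Pi.add_apply]
      have := r2_add_self (x k)
      calc x k + (Pi.single j 1 : Fin n → R2) k + x k
          = (x k + x k) + (Pi.single j 1 : Fin n → R2) k := by ring
        _ = _ := by rw [this, zero_add]
    rwa [h3] at h2
  obtain ⟨j, hj⟩ : ∃ j : Fin n, j ≠ i := by
    by_cases h0i : i = ⟨0, by omega⟩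
    · exact ⟨⟨1, by omega⟩, by rw [h0i]; intro h; simp [Fin.ext_iff] at h⟩
    · exact ⟨⟨0, by omega⟩, fun h => h0i h.symm⟩
  have hei : (Pi.single i 1 : Fin n → R2) ∈ W := by
    have h1 := hWinv (tsl (Ne.symm hj)) _ (hej j hj)
    rw [tsl_mulVec] at h1
    simp only [Pi.single_eq_same] at h1
    have h2 := hWadd _ _ h1 (hej j hj)
    have h3 : (Pi.single j 1 : Fin n → R2) + Pi.single i 1 + Pi.single j 1 = Pi.single i 1 := by
      funext k
      simp only [Pi.add_apply]
      have := r2_add_self ((Pi.single j 1 : Fin n → R2) k)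
      calc (Pi.single j 1 : Fin n → R2) k + (Pi.single i 1 : Fin n → R2) k +
            (Pi.single j 1 : Fin n → R2) k
          = ((Pi.single j 1 : Fin n → R2) k + (Pi.single j 1 : Fin n → R2) k) +
            (Pi.single i 1 : Fin n → R2) k := by ring
        _ = _ := by rw [this, zero_add]
    rwa [h3] at h2
  have hall : ∀ j, (Pi.single j 1 : Fin n → R2) ∈ W := by
    intro j
    by_cases hji : j = i
    · rw [hji]; exact hei
    · exact hej j hji
  rw [Subgroup.eq_bot_iff_forall]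
  intro g hg
  apply Subtype.ext
  ext k l
  have h1 := hall l g hg
  rw [Matrix.mulVec_single_one] at h1
  have h2 := congrFun h1 k
  simp only [Matrix.col_apply] at h2
  rw [h2, Matrix.SpecialLinearGroup.coe_one, Matrix.one_apply, Pi.single_apply]

end Cfsg.Agent.Lib.Helper28.Tv
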