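import Mathlib
import Cfsg.Prelude.Def_Solvable
import Cfsg.Agent.Lib.Helper28.TvO

set_option autoImplicit false

/-! The centralizer of the transvection `1 + E₀₁` in `SL (n+2) 2`: structure. -/

namespace Cfsg.Agent.Lib.Helper28.Tv

open Matrix

variable {n : ℕ}

/-- the centralizer -/
def Cz (n : ℕ) : Subgroup (SLn2 n) := Subgroup.centralizer {z0 n}

/-- block form -/
def IsBlk (g : SLn2 n) : Prop :=
  ∃ (a : R2) (u v : Fin n → R2) (A : Matrix (Fin n) (Fin n) R2),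
    (g : Matrix (Fin (n + 2)) (Fin (n + 2)) R2) = bmat a u v A

theorem mem_Cz_of_isBlk {g : SLn2 n} (h : IsBlk g) : g ∈ Cz n := by
  obtain ⟨a, u, v, A, hg⟩ := h
  rw [Cz, Subgroup.mem_centralizer_iff]
  intro x hx
  rw [Set.mem_singleton_iff] at hx
  subst hx
  apply Subtype.ext
  rw [Matrix.SpecialLinearGroup.coe_mul, Matrix.SpecialLinearGroup.coe_mul, hg, z0, hsl_coe,
    bmat_mul, bmat_mul]
  simp [add_comm]

theorem blk_of_comm (M : Matrix (Fin (n + 2)) (Fin (n + 2)) R2) (hdet1 : M.det = 1)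
    (h2 : (1 + Matrix.single (0 : Fin (n + 2)) (1 : Fin (n + 2)) (1 : R2)) * M =
      M * (1 + Matrix.single (0 : Fin (n + 2)) (1 : Fin (n + 2)) (1 : R2))) :
    ∃ (a : R2) (u v : Fin n → R2) (A : Matrix (Fin n) (Fin n) R2), M = bmat a u v A := by
  have h3 : Matrix.single (0 : Fin (n + 2)) (1 : Fin (n + 2)) (1 : R2) * M =
      M * Matrix.single (0 : Fin (n + 2)) (1 : Fin (n + 2)) (1 : R2) := by
    rw [add_mul, mul_add, one_mul, mul_one] at h2
    exact add_left_cancel h2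
  have hrow : ∀ j, j ≠ 1 → M 1 j = 0 := by
    intro j hj
    have := congrFun (congrFun h3 0) j
    rw [Matrix.single_mul_apply_same, Matrix.mul_single_apply_of_ne _ _ _ _ _ hj, one_mul] at this
    exact this
  have h11 : M 1 1 = M 0 0 := by
    have := congrFun (congrFun h3 0) 1
    rw [Matrix.single_mul_apply_same, Matrix.mul_single_apply_same, one_mul, mul_one] at this
    exact this
  have hcol : ∀ i, i ≠ 0 → M i 0 = 0 := by
    intro i hi
    have := congrFun (congrFun h3 i) 1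
    rw [Matrix.single_mul_apply_of_ne _ _ _ _ _ hi, Matrix.mul_single_apply_same, mul_one] at this
    exact this.symm
  have h00 : M 0 0 = 1 := by
    apply r2_eq_one_of_ne_zero
    intro h0
    have hdet : M.det = 0 := by
      apply Matrix.det_eq_zero_of_column_eq_zero 0
      intro i
      by_cases hi : i = 0
      · rw [hi]; exact h0
      · exact hcol i hi
    rw [hdet] at hdet1
    exact zero_ne_one hdet1
  refine ⟨M 0 1, fun l => M 0 l.succ.succ, fun k => M k.succ.succ 1,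
    Matrix.of fun k l => M k.succ.succ l.succ.succ, ?_⟩
  apply ext3
  · simp [h00]
  · simp
  · intro l; simp
  · simp [hrow 0 zero_ne_one']
  · simp [h11, h00]
  · intro l; simp [hrow _ (ss_ne_one l)]
  · intro k; simp [hcol _ (ss_ne_zero k)]
  · intro k; simp
  · intro k l; simp

theorem isBlk_of_mem_Cz {g : SLn2 n} (hg : g ∈ Cz n) : IsBlk g := by
  rw [Cz, Subgroup.mem_centralizer_iff] at hg
  have h1 := hg (z0 n) rfl
  have h2 := congrArg (fun x : SLn2 n => (x : Matrix (Fin (n + 2)) (Fin (n + 2)) R2)) h1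
  simp only [Matrix.SpecialLinearGroup.coe_mul, z0_coe, Matrix.transvection] at h2
  exact blk_of_comm _ g.2 h2

theorem mem_Cz_iff {g : SLn2 n} : g ∈ Cz n ↔ IsBlk g := ⟨isBlk_of_mem_Cz, mem_Cz_of_isBlk⟩

/-- the lower right block -/
def Ablk (g : SLn2 n) : Matrix (Fin n) (Fin n) R2 :=
  Matrix.of fun k l => (g : Matrix (Fin (n + 2)) (Fin (n + 2)) R2) k.succ.succ l.succ.succ

theorem Ablk_eq {g : SLn2 n} {a : R2} {u v : Fin n → R2} {A : Matrix (Fin n) (Fin n) R2}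
    (h : (g : Matrix (Fin (n + 2)) (Fin (n + 2)) R2) = bmat a u v A) : Ablk g = A := by
  ext k l
  simp [Ablk, h]

theorem Ablk_mul {g h : SLn2 n} (hg : g ∈ Cz n) (hh : h ∈ Cz n) :
    Ablk (g * h) = Ablk g * Ablk h := by
  obtain ⟨a, u, v, A, hgA⟩ := isBlk_of_mem_Cz hg
  obtain ⟨a', u', v', A', hhA⟩ := isBlk_of_mem_Cz hh
  have : ((g * h : SLn2 n) : Matrix (Fin (n + 2)) (Fin (n + 2)) R2) =
      bmat (a + a' + u ⬝ᵥ v') (u' + u ᵥ* A') (v + A *ᵥ v') (A * A') := by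
    rw [Matrix.SpecialLinearGroup.coe_mul, hgA, hhA, bmat_mul]
  rw [Ablk_eq this, Ablk_eq hgA, Ablk_eq hhA]

theorem Ablk_one : Ablk (1 : SLn2 n) = 1 := by
  have : ((1 : SLn2 n) : Matrix (Fin (n + 2)) (Fin (n + 2)) R2) = bmat 0 0 0 1 := by
    rw [Matrix.SpecialLinearGroup.coe_one, bmat_one]
  exact Ablk_eq this

theorem Ablk_det {g : SLn2 n} (hg : g ∈ Cz n) : (Ablk g).det = 1 := by
  apply det_eq_one_of_mul_eq_one (M' := Ablk g⁻¹)
  rw [← Ablk_mul hg ((Cz n).inv_mem hg), mul_inv_cancel, Ablk_one]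

/-- the projection onto `SL n` -/
def piHom (n : ℕ) : ↥(Cz n) →* SLn n where
  toFun g := ⟨Ablk g.1, Ablk_det g.2⟩
  map_one' := by
    apply Subtype.ext
    exact Ablk_one
  map_mul' g h := by
    apply Subtype.ext
    exact Ablk_mul g.2 h.2

theorem esl_mem_Cz (A : SLn n) : esl A ∈ Cz n :=
  mem_Cz_of_isBlk ⟨0, 0, 0, A.1, rfl⟩

theorem hsl_mem_Cz (a : R2) (u v : Fin n → R2) : hsl a u v ∈ Cz n :=
  mem_Cz_of_isBlk ⟨a, u, v, 1, rfl⟩

theorem piHom_esl (A : SLn n) : piHom n ⟨esl A, esl_mem_Cz A⟩ = A := by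
  apply Subtype.ext
  exact Ablk_eq (esl_coe A)

theorem piHom_surjective : Function.Surjective (piHom n) :=
  fun A => ⟨⟨esl A, esl_mem_Cz A⟩, piHom_esl A⟩

/-- the Heisenberg subgroup -/
def Qs (n : ℕ) : Subgroup (SLn2 n) where
  carrier := {g | ∃ (a : R2) (u v : Fin n → R2), g = hsl a u v}
  mul_mem' := by
    rintro _ _ ⟨a, u, v, rfl⟩ ⟨a', u', v', rfl⟩
    exact ⟨_, _, _, hsl_mul a a' u v u' v'⟩
  one_mem' := ⟨0, 0, 0, hsl_one.symm⟩
  inv_mem' := by
    rintro _ ⟨a, u, v, rfl⟩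
    exact ⟨_, _, _, hsl_inv a u v⟩

theorem mem_Qs {g : SLn2 n} : g ∈ Qs n ↔ ∃ (a : R2) (u v : Fin n → R2), g = hsl a u v := Iff.rfl

theorem Qs_le_Cz : Qs n ≤ Cz n := by
  rintro _ ⟨a, u, v, rfl⟩
  exact hsl_mem_Cz a u v

theorem mem_ker_piHom {g : ↥(Cz n)} : g ∈ (piHom n).ker ↔ g.1 ∈ Qs n := by
  rw [MonoidHom.mem_ker]
  constructor
  · intro h
    obtain ⟨a, u, v, A, hgA⟩ := isBlk_of_mem_Cz g.2
    have h1 : Ablk g.1 = 1 := by
      have := congrArg (fun x : SLn n => (x : Matrix (Fin n) (Fin n) R2)) h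
      exact this
    rw [Ablk_eq hgA] at h1
    refine ⟨a, u, v, ?_⟩
    apply Subtype.ext
    rw [hgA, h1, hsl_coe]
  · rintro ⟨a, u, v, h⟩
    apply Subtype.ext
    show Ablk g.1 = ((1 : SLn n) : Matrix (Fin n) (Fin n) R2)
    rw [h, Matrix.SpecialLinearGroup.coe_one]
    exact Ablk_eq (hsl_coe a u v)

theorem Qs_eq_map : Qs n = ((piHom n).ker).map (Cz n).subtype := by
  ext g
  rw [Subgroup.mem_map]
  constructor
  · intro hg
    exact ⟨⟨g, Qs_le_Cz hg⟩, mem_ker_piHom.mpr hg, rfl⟩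
  · rintro ⟨x, hx, rfl⟩
    exact mem_ker_piHom.mp hx

/-- `Qs` is normal in `Cz` -/
theorem Qs_conj_mem {g q : SLn2 n} (hg : g ∈ Cz n) (hq : q ∈ Qs n) : g * q * g⁻¹ ∈ Qs n := by
  have h1 : (⟨q, Qs_le_Cz hq⟩ : ↥(Cz n)) ∈ (piHom n).ker := mem_ker_piHom.mpr hq
  have h2 := ((piHom n).normal_ker).conj_mem _ h1 ⟨g, hg⟩
  exact mem_ker_piHom.mp h2

/-- cardinality of `Qs` -/
def QsEquiv (n : ℕ) : (R2 × (Fin n → R2) × (Fin n → R2)) ≃ ↥(Qs n) where
  toFun p := ⟨hsl p.1 p.2.1 p.2.2, ⟨_, _, _, rfl⟩⟩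
  invFun g := ((g.1 : Matrix (Fin (n + 2)) (Fin (n + 2)) R2) 0 1,
    (fun l => (g.1 : Matrix (Fin (n + 2)) (Fin (n + 2)) R2) 0 l.succ.succ),
    (fun k => (g.1 : Matrix (Fin (n + 2)) (Fin (n + 2)) R2) k.succ.succ 1))
  left_inv p := by
    obtain ⟨a, u, v⟩ := p
    simp
  right_inv g := by
    obtain ⟨_, a, u, v, rfl⟩ := g
    apply Subtype.ext
    simp

theorem card_Qs : Nat.card ↥(Qs n) = 2 ^ (2 * n + 1) := by
  rw [← Nat.card_congr (QsEquiv n), Nat.card_eq_fintype_card, Fintype.card_prod, Fintype.card_prod,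
    Fintype.card_fun, ZMod.card, Fintype.card_fin]
  ring

theorem Qs_isPGroup : IsPGroup 2 ↥(Qs n) := IsPGroup.of_card card_Qs

/-- the `2`-core of the centralizer -/
theorem pCore_Cz (hn : 2 ≤ n) :
    (Cfsg.pCore 2 ↥(Cz n)).map (Cz n).subtype = Qs n := by
  have hnorm : (Cfsg.pCore 2 ↥(Cz n)).Normal := by
    unfold Cfsg.pCore
    rw [sSup_eq_iSup']
    have : ∀ i : {N : Subgroup ↥(Cz n) | N.Normal ∧ IsPGroup 2 N}, (i : Subgroup ↥(Cz n)).Normal :=
      fun i => i.2.1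
    infer_instance
  have hp : IsPGroup 2 (Cfsg.pCore 2 ↥(Cz n)) := by
    unfold Cfsg.pCore
    exact Sylow.sSup_of_normal _ (fun H hH => hH.2) (fun H hH => hH.1)
  have hker : Cfsg.pCore 2 ↥(Cz n) = (piHom n).ker := by
    apply le_antisymm
    · -- image in `SL n` is a normal 2-subgroup
      have h1 : ((Cfsg.pCore 2 ↥(Cz n)).map (piHom n)).Normal :=
        hnorm.map _ piHom_surjective
      have h2 : IsPGroup 2 ((Cfsg.pCore 2 ↥(Cz n)).map (piHom n)) := hp.map _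
      have h3 := o2_sl_eq_bot hn _ h2
      rw [← Subgroup.map_eq_bot_iff, h3]
    · unfold Cfsg.pCore
      apply le_sSup
      refine ⟨(piHom n).normal_ker, ?_⟩
      have e : ↥(piHom n).ker ≃* ↥(Qs n) :=
        { toFun := fun g => ⟨g.1.1, mem_ker_piHom.mp g.2⟩
          invFun := fun g => ⟨⟨g.1, Qs_le_Cz g.2⟩, mem_ker_piHom.mpr g.2⟩
          left_inv := fun g => rfl
          right_inv := fun g => rfl
          map_mul' := fun g h => rfl }
      exact Qs_isPGroup.of_equiv e.symm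
  rw [hker, Qs_eq_map]

end Cfsg.Agent.Lib.Helper28.Tv
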