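import Mathlib
import Cfsg.Prelude.Def_Transfer
import Cfsg.Agent.Lib.Helper21.SympE
import Cfsg.Agent.Lib.Helper28.TvC

set_option autoImplicit false

/-! The Heisenberg subgroup is extraspecial; complements. -/

namespace Cfsg.Agent.Lib.Helper28.Tv

open Matrix

variable {n : ℕ}

theorem r2_cases : ∀ c : R2, c = 0 ∨ c = 1 := by decide

theorem z0_mem_Qs : z0 n ∈ Qs n := ⟨1, 0, 0, rfl⟩

theorem z0_ne_one : z0 n ≠ 1 := by
  intro h
  rw [z0, ← hsl_one] at h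
  have := (hsl_inj h).1
  exact one_ne_zero this

theorem orderOf_z0 : orderOf (z0 n) = 2 := by
  apply orderOf_eq_prime
  · rw [pow_two]; exact z0_mul_self
  · exact z0_ne_one

theorem hsl_c_mem_zpowers (c : R2) : hsl (n := n) c 0 0 ∈ Subgroup.zpowers (z0 n) := by
  rcases r2_cases c with rfl | rfl
  · rw [hsl_one]; exact one_mem _
  · exact Subgroup.mem_zpowers _

/-- commutation in the Heisenberg group -/
theorem hsl_comm_eq (a a' : R2) (u v u' v' : Fin n → R2) :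
    hsl a u v * hsl a' u' v' = hsl (u ⬝ᵥ v' + u' ⬝ᵥ v) 0 0 * (hsl a' u' v' * hsl a u v) := by
  rw [hsl_mul, hsl_mul, hsl_mul]
  congr 1
  · simp only [zero_dotProduct, add_zero]
    have := r2_add_self (u' ⬝ᵥ v)
    calc a + a' + u ⬝ᵥ v' = a + a' + u ⬝ᵥ v' + 0 := by rw [add_zero]
      _ = a + a' + u ⬝ᵥ v' + (u' ⬝ᵥ v + u' ⬝ᵥ v) := by rw [this]
      _ = _ := by ring
  · simp [add_comm]
  · simp [add_comm]

theorem hsl_sq (a : R2) (u v : Fin n → R2) : hsl a u v * hsl a u v = hsl (u ⬝ᵥ v) 0 0 := by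
  rw [hsl_mul, fun_add_self, fun_add_self, r2_add_self, zero_add]

/-- an element of the Heisenberg group commuting with all of it is central -/
theorem hsl_central {a : R2} {u v : Fin n → R2}
    (h : ∀ (a' : R2) (u' v' : Fin n → R2), hsl a u v * hsl a' u' v' = hsl a' u' v' * hsl a u v) :
    u = 0 ∧ v = 0 := by
  constructor
  · funext l
    have h1 := h 0 0 (Pi.single l 1)
    rw [hsl_mul, hsl_mul] at h1
    have h2 := (hsl_inj h1).1
    simp only [zero_dotProduct, add_zero, zero_add, dotProduct_single, mul_one] at h2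
    have : a + u l = a + 0 := by rw [h2, add_zero]
    exact add_left_cancel this
  · funext l
    have h1 := h 0 (Pi.single l 1) 0
    rw [hsl_mul, hsl_mul] at h1
    have h2 := (hsl_inj h1).1
    simp only [dotProduct_zero, add_zero, zero_add, single_dotProduct, one_mul] at h2
    have : a + 0 = a + v l := by rw [add_zero]; exact h2
    exact (add_left_cancel this).symm

theorem Qs_extraspecial (hn : 1 ≤ n) : Cfsg.IsExtraspecial 2 ↥(Qs n) := by
  haveI : Fact (Nat.Prime 2) := ⟨Nat.prime_two⟩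
  haveI : Finite ↥(Qs n) := inferInstance
  let z : ↥(Qs n) := ⟨z0 n, z0_mem_Qs⟩
  have hzord : orderOf z = 2 := by
    show orderOf (⟨z0 n, z0_mem_Qs⟩ : ↥(Qs n)) = 2
    rw [Subgroup.orderOf_mk]
    exact orderOf_z0
  have hmemz : ∀ (x : ↥(Qs n)) (c : R2), (x : SLn2 n) = hsl c 0 0 → x ∈ Subgroup.zpowers z := by
    intro x c hx
    rcases r2_cases c with rfl | rfl
    · have : x = 1 := by
        apply Subtype.ext
        rw [hx, hsl_one]; rfl
      rw [this]; exact one_mem _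
    · have : x = z := by
        apply Subtype.ext
        rw [hx]; rfl
      rw [this]; exact Subgroup.mem_zpowers _
  apply Cfsg.Agent.Lib.Helper21.Symp.isExtraspecial_of_elements Qs_isPGroup z hzord
  · rintro ⟨_, a, u, v, rfl⟩
    apply Subtype.ext
    show hsl a u v * z0 n = z0 n * hsl a u v
    rw [z0, hsl_mul, hsl_mul]
    congr 1 <;> simp [add_comm]
  · rintro ⟨_, a, u, v, rfl⟩ hx
    have h1 : ∀ (a' : R2) (u' v' : Fin n → R2),
        hsl a u v * hsl a' u' v' = hsl a' u' v' * hsl a u v := by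
      intro a' u' v'
      have := hx ⟨hsl a' u' v', ⟨_, _, _, rfl⟩⟩
      exact congrArg Subtype.val this
    obtain ⟨hu, hv⟩ := hsl_central h1
    apply hmemz _ a
    show hsl a u v = hsl a 0 0
    rw [hu, hv]
  · rintro ⟨_, a, u, v, rfl⟩ ⟨_, a', u', v', rfl⟩
    apply hmemz _ (u ⬝ᵥ v' + u' ⬝ᵥ v)
    show hsl a u v * hsl a' u' v' * (hsl a u v)⁻¹ * (hsl a' u' v')⁻¹ = _
    rw [hsl_comm_eq]
    group
  · rintro ⟨_, a, u, v, rfl⟩
    apply hmemz _ (u ⬝ᵥ v)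
    show (hsl a u v) ^ 2 = _
    rw [pow_two, hsl_sq]
  · refine ⟨⟨hsl 0 (Pi.single ⟨0, hn⟩ 1) 0, ⟨_, _, _, rfl⟩⟩, ⟨hsl 0 0 (Pi.single ⟨0, hn⟩ 1), ⟨_, _, _, rfl⟩⟩, ?_⟩
    intro h
    have h1 := congrArg Subtype.val h
    have h2 : hsl (n := n) 0 (Pi.single ⟨0, hn⟩ 1) 0 * hsl 0 0 (Pi.single ⟨0, hn⟩ 1) =
        hsl 0 0 (Pi.single ⟨0, hn⟩ 1) * hsl 0 (Pi.single ⟨0, hn⟩ 1) 0 := h1
    rw [hsl_mul, hsl_mul] at h2
    have h3 := (hsl_inj h2).1
    simp at h3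

/-- the elementary abelian subgroup -/
def Es (n : ℕ) : Subgroup (SLn2 n) where
  carrier := {g | ∃ (a : R2) (u : Fin n → R2), g = hsl a u 0}
  mul_mem' := by
    rintro _ _ ⟨a, u, rfl⟩ ⟨a', u', rfl⟩
    refine ⟨a + a' + u ⬝ᵥ 0, u' + u, ?_⟩
    rw [hsl_mul, add_zero]
  one_mem' := ⟨0, 0, hsl_one.symm⟩
  inv_mem' := by
    rintro _ ⟨a, u, rfl⟩
    exact ⟨_, _, hsl_inv a u 0⟩

theorem Es_le_Qs : Es n ≤ Qs n := by
  rintro _ ⟨a, u, rfl⟩
  exact ⟨a, u, 0, rfl⟩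

theorem Es_elementary : Cfsg.IsElementaryAbelian 2 (Es n) := by
  constructor
  · refine ⟨⟨?_⟩⟩
    rintro ⟨_, a, u, rfl⟩ ⟨_, a', u', rfl⟩
    apply Subtype.ext
    show hsl a u 0 * hsl a' u' 0 = hsl a' u' 0 * hsl a u 0
    rw [hsl_mul, hsl_mul]
    congr 1 <;> simp [add_comm]
  · rintro _ ⟨a, u, rfl⟩
    rw [pow_two, hsl_sq, dotProduct_zero, hsl_one]

def EsEquiv (n : ℕ) : (R2 × (Fin n → R2)) ≃ ↥(Es n) where
  toFun p := ⟨hsl p.1 p.2 0, ⟨_, _, rfl⟩⟩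
  invFun g := ((g.1 : Matrix (Fin (n + 2)) (Fin (n + 2)) R2) 0 1,
    (fun l => (g.1 : Matrix (Fin (n + 2)) (Fin (n + 2)) R2) 0 l.succ.succ))
  left_inv p := by
    obtain ⟨a, u⟩ := p
    simp
  right_inv g := by
    obtain ⟨_, a, u, rfl⟩ := g
    apply Subtype.ext
    simp

theorem card_Es : Nat.card ↥(Es n) = 2 ^ (n + 1) := by
  rw [← Nat.card_congr (EsEquiv n), Nat.card_eq_fintype_card, Fintype.card_prod,
    Fintype.card_fun, ZMod.card, Fintype.card_fin]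
  ring

/-- the complement -/
def Ks (n : ℕ) : Subgroup (SLn2 n) := (eslHom n).range

theorem Ks_le_Cz : Ks n ≤ Cz n := by
  rintro _ ⟨A, rfl⟩
  exact esl_mem_Cz A

theorem Qs_inf_Ks : Qs n ⊓ Ks n = ⊥ := by
  rw [Subgroup.eq_bot_iff_forall]
  rintro g ⟨⟨a, u, v, rfl⟩, ⟨A, hA⟩⟩
  have h1 := congrArg (fun x : SLn2 n => (x : Matrix (Fin (n + 2)) (Fin (n + 2)) R2)) hA
  have h2 : bmat 0 0 0 A.1 = bmat a u v 1 := h1
  obtain ⟨ha, hu, hv, -⟩ := bmat_inj h2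
  rw [← ha, ← hu, ← hv, hsl_one]

theorem Qs_sup_Ks : Qs n ⊔ Ks n = Cz n := by
  apply le_antisymm
  · exact sup_le Qs_le_Cz Ks_le_Cz
  · intro g hg
    set A : SLn n := piHom n ⟨g, hg⟩ with hA
    have h1 : g * (esl A)⁻¹ ∈ Qs n := by
      have h2 : (⟨g, hg⟩ * (⟨esl A, esl_mem_Cz A⟩ : ↥(Cz n))⁻¹ : ↥(Cz n)) ∈ (piHom n).ker := by
        rw [MonoidHom.mem_ker, map_mul, map_inv, piHom_esl, ← hA, mul_inv_cancel]
      exact mem_ker_piHom.mp h2
    have h3 : g = g * (esl A)⁻¹ * esl A := by group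
    rw [h3]
    exact Subgroup.mul_mem_sup h1 ⟨A, rfl⟩

noncomputable def KsEquiv (n : ℕ) : ↥(Ks n) ≃* SLn n :=
  (MonoidHom.ofInjective eslHom_injective).symm

end Cfsg.Agent.Lib.Helper28.Tv
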