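import Mathlib
import Cfsg.Agent.Lib.helper6.ZassPSL1
import Cfsg.Agent.Lib.Helper28.TvD

set_option autoImplicit false

/-! Largeness of the Heisenberg subgroup in `SL (n+2) 2`. -/

namespace Cfsg.Agent.Lib.Helper28.Tv

open Matrix

variable {n : ℕ}

/-- the centralizer of `Qs` is its centre `⟨z0⟩` -/
theorem centralizer_Qs : Subgroup.centralizer (Qs n : Set (SLn2 n)) = Subgroup.zpowers (z0 n) := by
  apply le_antisymm
  · intro g hg
    rw [Subgroup.mem_centralizer_iff] at hg
    have hgC : g ∈ Cz n := by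
      rw [Cz, Subgroup.mem_centralizer_iff]
      intro x hx
      rw [Set.mem_singleton_iff] at hx
      subst hx
      exact hg _ z0_mem_Qs
    obtain ⟨a, u, v, A, hgA⟩ := isBlk_of_mem_Cz hgC
    have hc : ∀ (a' : R2) (u' v' : Fin n → R2),
        bmat a' u' v' 1 * bmat a u v A = bmat a u v A * bmat a' u' v' 1 := by
      intro a' u' v'
      have h1 := hg (hsl a' u' v') ⟨_, _, _, rfl⟩
      have h2 := congrArg (fun x : SLn2 n => (x : Matrix (Fin (n + 2)) (Fin (n + 2)) R2)) h1
      simp only [Matrix.SpecialLinearGroup.coe_mul, hsl_coe, hgA] at h2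
      exact h2
    -- A = 1
    have hA : A = 1 := by
      ext k l
      have h1 := hc 0 (Pi.single k 1) 0
      rw [bmat_mul, bmat_mul] at h1
      have h2 := (bmat_inj h1).2.1
      have h3 := congrFun h2 l
      simp only [Pi.add_apply, Matrix.vecMul_one, Matrix.single_vecMul, one_smul] at h3
      have h4 : A k l = Pi.single (M := fun _ => R2) k 1 l := by
        have : u l + A.row k l = u l + Pi.single (M := fun _ => R2) k 1 l := by
          rw [h3]; ring
        exact add_left_cancel this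
      rw [h4, Matrix.one_apply, Pi.single_apply]
      simp [eq_comm]
    subst hA
    have h1 : ∀ (a' : R2) (u' v' : Fin n → R2),
        hsl a u v * hsl a' u' v' = hsl a' u' v' * hsl a u v := by
      intro a' u' v'
      apply Subtype.ext
      simp only [Matrix.SpecialLinearGroup.coe_mul, hsl_coe]
      exact (hc a' u' v').symm
    obtain ⟨hu, hv⟩ := hsl_central h1
    have : g = hsl a 0 0 := by
      apply Subtype.ext
      rw [hgA, hu, hv, hsl_coe]
    rw [this]
    exact hsl_c_mem_zpowers a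
  · rw [Subgroup.zpowers_le, Subgroup.mem_centralizer_iff]
    rintro _ ⟨a, u, v, rfl⟩
    rw [z0, hsl_mul, hsl_mul]
    congr 1 <;> simp [add_comm]

/-- the image of the centre of `Qs` -/
theorem center_Qs_map :
    (Subgroup.center ↥(Qs n)).map (Qs n).subtype = Subgroup.zpowers (z0 n) := by
  ext g
  rw [Subgroup.mem_map, ← centralizer_Qs]
  constructor
  · rintro ⟨x, hx, rfl⟩
    rw [Subgroup.mem_centralizer_iff]
    intro y hy
    have := Subgroup.mem_center_iff.mp hx ⟨y, hy⟩
    exact congrArg Subtype.val this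
  · intro hg
    have hgQ : g ∈ Qs n := by
      rw [centralizer_Qs] at hg
      exact (Subgroup.zpowers_le.mpr z0_mem_Qs) hg
    refine ⟨⟨g, hgQ⟩, ?_, rfl⟩
    rw [Subgroup.mem_center_iff]
    intro y
    apply Subtype.ext
    rw [Subgroup.mem_centralizer_iff] at hg
    exact hg y.1 y.2

theorem Cz_le_normalizer_Qs : Cz n ≤ Subgroup.normalizer (Qs n : Set (SLn2 n)) := by
  intro g hg
  rw [Subgroup.mem_normalizer_iff]
  intro h
  constructor
  · intro hh
    exact Qs_conj_mem hg hh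
  · intro hh
    have := Qs_conj_mem ((Cz n).inv_mem hg) hh
    have e : g⁻¹ * (g * h * g⁻¹) * g⁻¹⁻¹ = h := by group
    rwa [e] at this

theorem centralizer_center_le_normalizer :
    Subgroup.centralizer (((Subgroup.center ↥(Qs n)).map (Qs n).subtype : Subgroup (SLn2 n)) :
      Set (SLn2 n)) ≤ Subgroup.normalizer (Qs n : Set (SLn2 n)) := by
  rw [center_Qs_map]
  intro g hg
  apply Cz_le_normalizer_Qs
  rw [Cz, Subgroup.mem_centralizer_iff]
  intro x hx
  rw [Set.mem_singleton_iff] at hx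
  subst hx
  rw [Subgroup.mem_centralizer_iff] at hg
  exact hg _ (Subgroup.mem_zpowers _)

/-- matrix action of the Heisenberg elements with `u = 0` -/
theorem fy_mulVec (y x : Fin (n + 2) → R2) (hy : y 1 = 0) :
    bmat (y 0) 0 (fun k => y k.succ.succ) 1 *ᵥ x = x + x 1 • y := by
  funext i
  rcases fin_cases3 i with rfl | rfl | ⟨k, rfl⟩
  · simp [Matrix.mulVec, dotProduct, sum3, mul_comm]
  · simp [Matrix.mulVec, dotProduct, sum3, hy]
  · simp [Matrix.mulVec, dotProduct, sum3, Matrix.one_apply, mul_comm, add_comm]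

/-- Lemma A: an inverted element with vanishing `(1,0)` entry has order dividing 4 -/
theorem inverted_pow_four {k : SLn2 n} (hinv : z0 n * k * (z0 n)⁻¹ = k⁻¹)
    (h10 : (k : Matrix (Fin (n + 2)) (Fin (n + 2)) R2) 1 0 = 0) : k ^ 4 = 1 := by
  have hz : (z0 n)⁻¹ = z0 n := inv_eq_of_mul_eq_one_right z0_mul_self
  rw [hz] at hinv
  set t : SLn2 n := z0 n * k with ht
  have htt : t * t = 1 := by
    have : t * t = (z0 n * k * z0 n) * k := by rw [ht]; group
    rw [this, hinv, inv_mul_cancel]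
  have hk : k = z0 n * t := by
    rw [ht, ← mul_assoc, z0_mul_self, one_mul]
  set E : Matrix (Fin (n + 2)) (Fin (n + 2)) R2 := Matrix.single 0 1 1 with hE
  set T : Matrix (Fin (n + 2)) (Fin (n + 2)) R2 :=
    (t : Matrix (Fin (n + 2)) (Fin (n + 2)) R2) with hT
  have hZ : ((z0 n : SLn2 n) : Matrix (Fin (n + 2)) (Fin (n + 2)) R2) = 1 + E := by
    rw [z0_coe, Matrix.transvection]
  have hTT : T * T = 1 := by
    have := congrArg (fun x : SLn2 n => (x : Matrix (Fin (n + 2)) (Fin (n + 2)) R2)) htt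
    simpa using this
  have hT10 : T 1 0 = 0 := by
    rw [hT, ht, Matrix.SpecialLinearGroup.coe_mul, hZ, add_mul, one_mul, Matrix.add_apply,
      Matrix.single_mul_apply_of_ne _ _ _ _ _ (Ne.symm zero_ne_one'), add_zero]
    exact h10
  have hEE : E * E = 0 := Matrix.single_mul_single_of_ne _ _ _ _ (Ne.symm zero_ne_one') _
  have hETE : E * T * E = 0 := by
    rw [hE, Matrix.single_mul_mul_single, hT10, mul_zero, zero_mul, Matrix.single_zero]
  have hK : (k : Matrix (Fin (n + 2)) (Fin (n + 2)) R2) = (1 + E) * T := by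
    rw [hk, Matrix.SpecialLinearGroup.coe_mul, hZ]
  have hK2 : (1 + E) * T * ((1 + E) * T) = 1 + (E + T * E * T) := by
    have h1 : (1 + E) * T * ((1 + E) * T) = T * T + T * E * T + E * (T * T) + (E * T * E) * T := by
      noncomm_ring
    rw [h1, hTT, hETE, mul_one, zero_mul, add_zero]
    abel
  have hMM : (E + T * E * T) * (E + T * E * T) = 0 := by
    have h1 : (E + T * E * T) * (E + T * E * T) =
        E * E + (E * T * E) * T + T * (E * T * E) + T * E * (T * T) * E * T := by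
      noncomm_ring
    rw [h1, hTT, hETE, hEE, mul_one, mul_assoc T E E, hEE]
    simp
  have hK4 : (k : Matrix (Fin (n + 2)) (Fin (n + 2)) R2) ^ 4 = 1 := by
    have h4 : (k : Matrix (Fin (n + 2)) (Fin (n + 2)) R2) ^ 4 =
        ((k : Matrix (Fin (n + 2)) (Fin (n + 2)) R2) * (k : Matrix (Fin (n + 2)) (Fin (n + 2)) R2)) *
        ((k : Matrix (Fin (n + 2)) (Fin (n + 2)) R2) * (k : Matrix (Fin (n + 2)) (Fin (n + 2)) R2)) := by
      noncomm_ring
    rw [h4, hK, hK2]
    have h5 : (1 + (E + T * E * T)) * (1 + (E + T * E * T)) =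
        1 + ((E + T * E * T) + (E + T * E * T)) + (E + T * E * T) * (E + T * E * T) := by
      noncomm_ring
    rw [h5, hMM, add_zero]
    have h6 : (E + T * E * T) + (E + T * E * T) = 0 := by
      ext i j
      exact r2_add_self _
    rw [h6, add_zero]
  apply Subtype.ext
  rw [Matrix.SpecialLinearGroup.coe_pow, hK4, Matrix.SpecialLinearGroup.coe_one]

/-- the only odd-order subgroup normalized by `Qs` is trivial -/
theorem odd_normalized_trivial (hn : 1 ≤ n) (K : Subgroup (SLn2 n)) (hodd : Odd (Nat.card K))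
    (hQK : Qs n ≤ Subgroup.normalizer (K : Set (SLn2 n))) : K = ⊥ := by
  have hcop : Nat.Coprime (Nat.card K) 2 := Nat.coprime_two_right.mpr hodd
  have hKQ : K ⊓ Qs n = ⊥ := by
    apply Subgroup.inf_eq_bot_of_coprime
    rw [card_Qs]
    exact Nat.Coprime.pow_right _ hcop
  have hord : ∀ k ∈ K, ∀ m : ℕ, k ^ (2 ^ m) = 1 → k = 1 := by
    intro k hk m hkm
    have h1 : orderOf k ∣ 2 ^ m := orderOf_dvd_of_pow_eq_one hkm
    have h2 : orderOf k ∣ Nat.card K := K.orderOf_dvd_natCard hk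
    have h3 : orderOf k = 1 := Nat.eq_one_of_dvd_coprimes (Nat.Coprime.pow_right m hcop) h2 h1
    exact orderOf_eq_one_iff.mp h3
  have hnorm : ∀ q ∈ Qs n, ∀ k ∈ K, q * k * q⁻¹ ∈ K := by
    intro q hq k hk
    exact (Subgroup.mem_normalizer_iff.mp (hQK hq) k).mp hk
  -- step 1: `K ∩ Cz = 1`
  have hCK : ∀ k ∈ K, k ∈ Cz n → k = 1 := by
    intro k hk hkC
    have hcomm : k ∈ Subgroup.centralizer (Qs n : Set (SLn2 n)) := by
      rw [Subgroup.mem_centralizer_iff]
      intro q hq
      have h1 : k * q * k⁻¹ * q⁻¹ ∈ K ⊓ Qs n := by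
        constructor
        · have := hnorm q hq k⁻¹ (K.inv_mem hk)
          have e : k * q * k⁻¹ * q⁻¹ = k * (q * k⁻¹ * q⁻¹) := by group
          rw [e]
          exact K.mul_mem hk this
        · exact (Qs n).mul_mem (Qs_conj_mem hkC hq) ((Qs n).inv_mem hq)
      rw [hKQ, Subgroup.mem_bot] at h1
      have e : q * k = (k * q * k⁻¹ * q⁻¹)⁻¹ * (k * q) := by group
      rw [e, h1, inv_one, one_mul]
    rw [centralizer_Qs] at hcomm
    apply hord k hk 1
    obtain ⟨i, rfl⟩ := Subgroup.mem_zpowers_iff.mp hcomm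
    rw [pow_one, ← zpow_natCast, ← _root_.zpow_mul, mul_comm, _root_.zpow_mul, zpow_natCast,
      pow_two, z0_mul_self, _root_.one_zpow]
  -- step 2: `z0` inverts `K`, which is abelian
  obtain ⟨hinv, hab⟩ := Cfsg.Agent.Lib.helper6.ZassPSL1.fpf_invol_inverts K (z0 n) z0_mul_self
    (fun k hk => hnorm _ z0_mem_Qs k hk)
    (by
      intro k hk hfix
      apply hCK k hk
      rw [Cz, Subgroup.mem_centralizer_iff]
      intro x hx
      rw [Set.mem_singleton_iff] at hx
      subst hx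
      have e : z0 n * k = (z0 n * k * (z0 n)⁻¹) * z0 n := by group
      rw [e, hfix])
  -- step 3: contradiction for a nonidentity element
  rw [Subgroup.eq_bot_iff_forall]
  intro k hk
  by_contra hk1
  set P : Matrix (Fin (n + 2)) (Fin (n + 2)) R2 :=
    (k : Matrix (Fin (n + 2)) (Fin (n + 2)) R2) with hP
  have h10 : P 1 0 = 1 := by
    apply r2_eq_one_of_ne_zero
    intro h0
    exact hk1 (hord k hk 2 (inverted_pow_four (hinv k hk) h0))
  set e0 : Fin (n + 2) → R2 := Pi.single 0 1 with he0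
  set w : Fin (n + 2) → R2 := P *ᵥ e0 with hw
  have hw1 : w 1 = 1 := by
    rw [hw, he0, Matrix.mulVec_single_one]
    exact h10
  have hz0v : ∀ x : Fin (n + 2) → R2,
      ((z0 n : SLn2 n) : Matrix (Fin (n + 2)) (Fin (n + 2)) R2) *ᵥ x = x + x 1 • e0 := by
    intro x
    have h1 := fy_mulVec (n := n) e0 x (by rw [he0]; exact Pi.single_eq_of_ne (Ne.symm zero_ne_one') 1)
    have h2 : bmat (n := n) (e0 0) 0 (fun k => e0 k.succ.succ) 1 = bmat 1 0 0 1 := by
      have a1 : e0 0 = 1 := Pi.single_eq_same 0 1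
      have a2 : (fun k : Fin n => e0 k.succ.succ) = 0 := by
        funext k; exact Pi.single_eq_of_ne (ss_ne_zero k) 1
      rw [a1, a2]
    rw [h2] at h1
    rw [z0, hsl_coe]
    exact h1
  have he01 : e0 1 = 0 := by rw [he0]; exact Pi.single_eq_of_ne (Ne.symm zero_ne_one') 1
  -- `P w = e0 + w`
  have hPw : P *ᵥ w = e0 + w := by
    have hz : (z0 n)⁻¹ = z0 n := inv_eq_of_mul_eq_one_right z0_mul_self
    have h1 : k * z0 n * k = z0 n := by
      have h2 := hinv k hk
      rw [hz] at h2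
      have e : k * z0 n * k = k * (z0 n * k * z0 n) * z0 n := by
        rw [mul_assoc k (z0 n * k * z0 n), mul_assoc (z0 n * k), z0_mul_self, mul_one, mul_assoc]
      rw [e, h2, mul_inv_cancel, one_mul]
    have h2 := congrArg (fun x : SLn2 n => (x : Matrix (Fin (n + 2)) (Fin (n + 2)) R2) *ᵥ e0) h1
    simp only [Matrix.SpecialLinearGroup.coe_mul, ← Matrix.mulVec_mulVec] at h2
    rw [hz0v e0, he01, zero_smul, add_zero] at h2
    change P *ᵥ (((z0 n : SLn2 n) : Matrix (Fin (n + 2)) (Fin (n + 2)) R2) *ᵥ w) = e0 at h2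
    rw [hz0v w, hw1, one_smul, Matrix.mulVec_add] at h2
    change P *ᵥ w + w = e0 at h2
    calc P *ᵥ w = P *ᵥ w + (w + w) := by rw [fun_add_self, add_zero]
      _ = (P *ᵥ w + w) + w := by rw [add_assoc]
      _ = e0 + w := by rw [h2]
  -- key: `(P y) 1 = 1` whenever `y 1 = 0` and `y ≠ 0`
  have key : ∀ y : Fin (n + 2) → R2, y 1 = 0 → ∀ j, y j = 1 → (P *ᵥ y) 1 = 1 := by
    intro y hy1 j hyj
    set f : SLn2 n := hsl (y 0) 0 (fun k => y k.succ.succ) with hf
    have hfQ : f ∈ Qs n := ⟨_, _, _, rfl⟩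
    have hfinv : f⁻¹ = f := by
      apply inv_eq_of_mul_eq_one_right
      rw [hf, hsl_sq, zero_dotProduct, hsl_one]
    have hk' : f * k * f ∈ K := by
      have := hnorm f hfQ k hk
      rwa [hfinv] at this
    have hc := hab k hk _ hk'
    have hfv : ∀ x : Fin (n + 2) → R2,
        ((f : SLn2 n) : Matrix (Fin (n + 2)) (Fin (n + 2)) R2) *ᵥ x = x + x 1 • y := by
      intro x
      rw [hf, hsl_coe]
      exact fy_mulVec y x hy1
    have h2 := congrArg (fun x : SLn2 n => (x : Matrix (Fin (n + 2)) (Fin (n + 2)) R2) *ᵥ e0) hc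
    simp only [Matrix.SpecialLinearGroup.coe_mul, ← Matrix.mulVec_mulVec] at h2
    rw [hfv e0, he01, zero_smul, add_zero] at h2
    change P *ᵥ (((f : SLn2 n) : Matrix (Fin (n + 2)) (Fin (n + 2)) R2) *ᵥ w) =
      ((f : SLn2 n) : Matrix (Fin (n + 2)) (Fin (n + 2)) R2) *ᵥ
        (P *ᵥ (((f : SLn2 n) : Matrix (Fin (n + 2)) (Fin (n + 2)) R2) *ᵥ w)) at h2
    rw [hfv w, hw1, one_smul, Matrix.mulVec_add, hPw, hfv] at h2
    -- h2 : e0 + w + P y = (e0 + w + P y) + ((e0 + w + P y) 1) • y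
    have h3 := congrFun h2 j
    simp only [Pi.add_apply, Pi.smul_apply, smul_eq_mul, hyj, mul_one, he01, hw1, zero_add] at h3
    -- h3 : e0 j + w j + (P y) j = e0 j + w j + (P y) j + (1 + (P y) 1)
    have h4 : (1 : R2) + (P *ᵥ y) 1 = 0 := by
      have := add_left_cancel (a := e0 j + w j + (P *ᵥ y) j) (b := 0) (c := 1 + (P *ᵥ y) 1)
        (by rw [add_zero]; exact h3)
      exact this.symm
    calc (P *ᵥ y) 1 = (1 + 1) + (P *ᵥ y) 1 := by rw [r2_add_self, zero_add]
      _ = 1 + (1 + (P *ᵥ y) 1) := by rw [add_assoc]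
      _ = 1 := by rw [h4, add_zero]
  set j0 : Fin (n + 2) := (⟨0, hn⟩ : Fin n).succ.succ with hj0
  set y1 : Fin (n + 2) → R2 := Pi.single j0 1 with hy1
  have hy11 : y1 1 = 0 := by rw [hy1]; exact Pi.single_eq_of_ne (Ne.symm (ss_ne_one _)) 1
  have hy1j : y1 j0 = 1 := by rw [hy1]; exact Pi.single_eq_same j0 1
  have hA := key y1 hy11 j0 hy1j
  have hB := key (e0 + y1) (by rw [Pi.add_apply, he01, hy11, add_zero]) j0 (by
    rw [Pi.add_apply, hy1j, he0, Pi.single_eq_of_ne (ss_ne_zero _) 1, zero_add])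
  rw [Matrix.mulVec_add, Pi.add_apply, hA] at hB
  change w 1 + 1 = 1 at hB
  rw [hw1, r2_add_self] at hB
  exact zero_ne_one hB

end Cfsg.Agent.Lib.Helper28.Tv
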