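import Mathlib
import Cfsg.Agent.Lib.Helper5.UNI.Defs
import Cfsg.Agent.Lib.helper8.ChevBN3
import Cfsg.Agent.Lib.helper8.ChevOrd2

/-!
# UNI row C3 (helper28), core: the longest word of `W_J`.
The statements of C3A (`uni_inv_step`), C2C (`uni_neg_of_simple_neg`) and C2B (`uni_sub_stable`) at this
`D`, `J` enter as hypotheses.
-/

set_option autoImplicit false

namespace Cfsg.Agent.Lib.Helper5.UNI

open Cfsg.Lie Cfsg.Lie.ChevalleyDatum Cfsg.Agent.Lib.helper8

universe u

/-- a root is not both positive and negative (index halves) -/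
theorem unic3_not_both (D : ChevalleyDatum) (hB : H8Base.{u} D) (hBN : H8BN D) (s : ℕ)
    (hp : D.IsPosRoot s) (hn : D.IsNegRoot s) : False := by
  have h1 := (h8PosOK_spec hB.posOK hp).1
  have h2 := (h8NegOK_spec hBN.negOK hn).1
  omega

/-- the negative of a positive root is a negative root -/
theorem unic3_neg_of_pos (D : ChevalleyDatum) (hB : H8Base.{u} D) (hO2 : H8Ord2 D) (s : ℕ)
    (hp : D.IsPosRoot s) : D.IsNegRoot (D.negIdx.getD s 0) := by
  have h1 := (h8PosOK_spec hB.posOK hp).2.1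
  have h2 := (hO2.negneg s hp.1).1
  rcases hB.posneg _ h2 with h | h
  · have h3 := (h8PosOK_spec hB.posOK h).1
    omega
  · exact h

/-- the negative of a negative root is a positive root -/
theorem unic3_pos_of_neg (D : ChevalleyDatum) (hB : H8Base.{u} D) (hBN : H8BN D) (hO2 : H8Ord2 D)
    (s : ℕ) (hn : D.IsNegRoot s) : D.IsPosRoot (D.negIdx.getD s 0) := by
  have h1 := (h8NegOK_spec hBN.negOK hn).2.1
  have h2 := (hO2.negneg s hn.1).1
  rcases hB.posneg _ h2 with h | h
  · exact h
  · have h3 := (h8NegOK_spec hBN.negOK h).1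
    omega

/-- the coroot vector of `-r` is minus that of `r` (third clause of `uniTabChk`) -/
theorem unic3_coroot_neg (D : ChevalleyDatum) (hT : uniTabChk D = true) (r : ℕ) (hr : r < D.nroots)
    (i : ℕ) (hi : i < D.rank) :
    (D.coroot.getD (D.negIdx.getD r 0) #[]).getD i 0 = - (D.coroot.getD r #[]).getD i 0 := by
  unfold uniTabChk at hT
  simp only [Bool.and_eq_true, List.all_eq_true, List.mem_range, decide_eq_true_eq] at hT
  exact hT.2 r hr i hi

/-- `Φ_J` is closed under `r ↦ -r` -/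
theorem unic3_sub_neg (D : ChevalleyDatum) (hO2 : H8Ord2 D) (hT : uniTabChk D = true) (J : Set ℕ)
    (s : ℕ) (hs : D.InRootSub J s) : D.InRootSub J (D.negIdx.getD s 0) := by
  refine ⟨(hO2.negneg s hs.1).1, fun i hi hiJ => ?_⟩
  rw [unic3_coroot_neg D hT s hs.1 i hi, hs.2 i hi hiJ, neg_zero]

/-- own copy of helper8's `h8sW_negc` (light imports) -/
theorem unic3_sW_negc (D : ChevalleyDatum) (hA : H8ReflAll D) : ∀ (v : List ℕ),
    (∀ i ∈ v, i < D.rank) → ∀ r < D.nroots,
    h8sW D v (D.negIdx.getD r 0) = D.negIdx.getD (h8sW D v r) 0 := by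
  intro v
  induction v with
  | nil =>
    intro _ r _
    rfl
  | cons i w ih =>
    intro hv r hr
    obtain ⟨η, hR⟩ := h8reflAll_spec D hA i (hv i List.mem_cons_self)
    have hw : ∀ j ∈ w, j < D.rank := fun j hj => hv j (List.mem_cons_of_mem _ hj)
    have h1 := ih hw r hr
    show D.reflectRoot i (h8sW D w (D.negIdx.getD r 0)) =
      D.negIdx.getD (D.reflectRoot i (h8sW D w r)) 0
    rw [h1, hR.negc _ (h8sW_lt D hA w hw r hr)]

/-- the number of inverted roots is at most the number of roots -/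
theorem unic3_invCount_le (D : ChevalleyDatum) (J : Set ℕ) (w : List ℕ) :
    invCount D J w ≤ D.nroots := by
  unfold invCount
  have hinj : Function.Injective
      (fun s : {s : ℕ // D.IsPosRoot s ∧ D.InRootSub J s ∧ D.IsNegRoot (h8sW D w s)} =>
        (⟨s.1, s.2.1.1⟩ : Fin D.nroots)) := by
    intro a b h
    apply Subtype.ext
    exact congrArg Fin.val h
  have := Nat.card_le_card_of_injective _ hinj
  rwa [Nat.card_fin] at this

/-- a word in the letters of `J` that sends no fundamental root of `J` to a positive root -/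
theorem unic3_exists_terminal (D : ChevalleyDatum) (J : Set ℕ)
    (hC3A : ∀ w : List ℕ, (∀ i ∈ w, i < D.rank ∧ i ∈ J) → ∀ a : ℕ, a < D.rank → a ∈ J →
      D.IsPosRoot (h8sW D w (D.simple a)) → invCount D J (w ++ [a]) = invCount D J w + 1) :
    ∃ w : List ℕ, (∀ i ∈ w, i < D.rank ∧ i ∈ J) ∧
      ∀ a ∈ J, a < D.rank → ¬ D.IsPosRoot (h8sW D w (D.simple a)) := by
  have key : ∀ k : ℕ, ∀ w : List ℕ, (∀ i ∈ w, i < D.rank ∧ i ∈ J) →
      D.nroots - invCount D J w ≤ k →
      ∃ w' : List ℕ, (∀ i ∈ w', i < D.rank ∧ i ∈ J) ∧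
        ∀ a ∈ J, a < D.rank → ¬ D.IsPosRoot (h8sW D w' (D.simple a)) := by
    intro k
    induction k with
    | zero =>
      intro w hw hk
      refine ⟨w, hw, fun a haJ ha hpos => ?_⟩
      have h1 := hC3A w hw a ha haJ hpos
      have h2 := unic3_invCount_le D J (w ++ [a])
      omega
    | succ k ih =>
      intro w hw hk
      by_cases hterm : ∀ a ∈ J, a < D.rank → ¬ D.IsPosRoot (h8sW D w (D.simple a))
      · exact ⟨w, hw, hterm⟩
      · push Not at hterm
        obtain ⟨a, haJ, ha, hpos⟩ := hterm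
        have h1 := hC3A w hw a ha haJ hpos
        have h2 := unic3_invCount_le D J (w ++ [a])
        apply ih (w ++ [a])
        · intro i hi
          rw [List.mem_append, List.mem_singleton] at hi
          rcases hi with hi | rfl
          · exact hw i hi
          · exact ⟨ha, haJ⟩
        · omega
  exact key (D.nroots - invCount D J []) [] (fun i hi => absurd hi List.not_mem_nil) le_rfl

/-- C3 core -/
theorem unic3_core (D : ChevalleyDatum) (hB : H8Base.{u} D) (hA : H8ReflAll D) (hBN : H8BN D)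
    (hO2 : H8Ord2 D) (hT : uniTabChk D = true) (J : Set ℕ)
    (hC3A : ∀ w : List ℕ, (∀ i ∈ w, i < D.rank ∧ i ∈ J) → ∀ a : ℕ, a < D.rank → a ∈ J →
      D.IsPosRoot (h8sW D w (D.simple a)) → invCount D J (w ++ [a]) = invCount D J w + 1)
    (hC2C : ∀ w : List ℕ, (∀ i ∈ w, i < D.rank) →
      (∀ a ∈ J, a < D.rank → D.IsNegRoot (h8sW D w (D.simple a))) →
      ∀ s : ℕ, D.IsPosRoot s → D.InRootSub J s → D.IsNegRoot (h8sW D w s))
    (hC2B : ∀ w : List ℕ, (∀ i ∈ w, i < D.rank ∧ i ∈ J) → ∀ s : ℕ, D.InRootSub J s →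
      D.InRootSub J (h8sW D w s)) :
    ∃ w : List ℕ, IsLongWord D J w := by
  obtain ⟨w, hw, hterm⟩ := unic3_exists_terminal D J hC3A
  have hw' : ∀ i ∈ w, i < D.rank := fun i hi => (hw i hi).1
  have hwr : ∀ i ∈ w.reverse, i < D.rank ∧ i ∈ J := fun i hi => hw i (List.mem_reverse.mp hi)
  have hwr' : ∀ i ∈ w.reverse, i < D.rank := fun i hi => (hwr i hi).1
  -- (2)
  have h2 : ∀ s, D.IsPosRoot s → D.InRootSub J s → D.IsNegRoot (h8sW D w s) := by
    apply hC2C w hw'
    intro a haJ ha
    have hlt : h8sW D w (D.simple a) < D.nroots :=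
      h8sW_lt D hA w hw' _ (h8simple_pos D hBN a ha).1
    rcases hB.posneg _ hlt with h | h
    · exact absurd h (hterm a haJ ha)
    · exact h
  -- (3)
  have h3 : ∀ s, D.IsNegRoot s → D.InRootSub J s → D.IsPosRoot (h8sW D w s) := by
    intro s hs hsJ
    have hpos := unic3_pos_of_neg D hB hBN hO2 s hs
    have hsub := unic3_sub_neg D hO2 hT J s hsJ
    have h := h2 _ hpos hsub
    rw [unic3_sW_negc D hA w hw' s hs.1] at h
    have hlt : h8sW D w s < D.nroots := h8sW_lt D hA w hw' s hs.1
    rcases hB.posneg _ hlt with h' | h'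
    · exact h'
    · exact (unic3_not_both D hB hBN _ (unic3_pos_of_neg D hB hBN hO2 _ h') h).elim
  refine ⟨w, hw, h2, h3, ?_, ?_⟩
  · intro s hs hsJ
    have hlt : h8sW D w.reverse s < D.nroots := h8sW_lt D hA w.reverse hwr' s hs.1
    have hsub := hC2B w.reverse hwr s hsJ
    rcases hB.posneg _ hlt with h | h
    · have := h2 _ h hsub
      rw [h8sW_reverse D hA w hw' s hs.1] at this
      exact (unic3_not_both D hB hBN s hs this).elim
    · exact h
  · intro s hs hsJ
    have hlt : h8sW D w.reverse s < D.nroots := h8sW_lt D hA w.reverse hwr' s hs.1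
    have hsub := hC2B w.reverse hwr s hsJ
    rcases hB.posneg _ hlt with h | h
    · exact h
    · have := h3 _ h hsub
      rw [h8sW_reverse D hA w hw' s hs.1] at this
      exact (unic3_not_both D hB hBN s this hs).elim

end Cfsg.Agent.Lib.Helper5.UNI
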