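import Mathlib
import Cfsg.Agent.Lib.Helper5.UNI.Defs
import Cfsg.Agent.Lib.Helper28.UNIC3core
import Cfsg.Agent.Lib.Helper9.UNIC3A
import Cfsg.Agent.Lib.Helper29.UNIC2B
import Cfsg.Agent.Lib.Helper29.UNIC2C

/-!
# UNI row C3 (helper28), verbatim: the longest word of `W_J`.
-/

set_option autoImplicit false

namespace Cfsg.Agent.Lib.Helper5.UNI

open Cfsg.Lie Cfsg.Lie.ChevalleyDatum Cfsg.Agent.Lib.helper8

section Chevalley

universe u

variable {F : Type u} [Field F]

/-- C3: the longest word of `W_J` -/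
theorem uni_exists_wJ (D : ChevalleyDatum) (hB : H8Base.{u} D) (hA : H8ReflAll D) (hBN : H8BN D)
    (hO2 : H8Ord2 D) (hT : uniTabChk D = true) (J : Set ℕ) :
    ∃ w : List ℕ, IsLongWord D J w :=
  unic3_core D hB hA hBN hO2 hT J
    (fun w hw a ha haJ hpos => uni_inv_step D hB hA hBN hO2 hT J w hw a ha haJ hpos)
    (fun w hw hneg s hs hsJ => uni_neg_of_simple_neg D hA hBN hT J w hw hneg s hs hsJ)
    (fun w hw s hs => uni_sub_stable D hA J w hw s hs)

end Chevalley

end Cfsg.Agent.Lib.Helper5.UNI
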