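import Mathlib
import Cfsg.Agent.Lib.Helper5.UNI.Defs

/-!
# UNI row G1A (helper28): `n_w` of a word in the letters of `J` lies in the group generated by the
`n_{p_j}`, `j ∈ J`.
-/

set_option autoImplicit false

namespace Cfsg.Agent.Lib.Helper5.UNI

open Cfsg.Lie Cfsg.Lie.ChevalleyDatum Cfsg.Agent.Lib.helper8

section Chevalley

universe u

variable {F : Type u} [Field F]

/-- G1a -/
theorem uni_nW_mem (D : ChevalleyDatum) (hB : H8Base.{u} D) (J : Set ℕ) (w : List ℕ)
    (hw : ∀ i ∈ w, i < D.rank ∧ i ∈ J) :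
    (h8nWU D hB w : GL D.Idx F) ∈ Subgroup.closure {g : GL D.Idx F | ∃ j ∈ J, j < D.rank ∧
      (g : Matrix D.Idx D.Idx F) = D.nMat F (D.simple j) 1} := by
  unfold h8nWU
  apply Subgroup.list_prod_mem
  intro g hg
  rw [List.mem_map] at hg
  obtain ⟨i, hi, rfl⟩ := hg
  apply Subgroup.subset_closure
  exact ⟨i, (hw i hi).2, (hw i hi).1, h8nU_val D hB _ _⟩

end Chevalley

end Cfsg.Agent.Lib.Helper5.UNI
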