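import Cfsg.Agent.Lib.Helper28.OsI
import Cfsg.Agent.Lib.Helper28.UPair
import Cfsg.Agent.Lib.Helper28.SubF

set_option autoImplicit false

open Cfsg

namespace Cfsg.Agent.Lib.Helper28.Uo

open Matrix Cfsg.Agent.Lib.Helper28.Sf Cfsg.Agent.Lib.Helper28.UForm

variable {n : ℕ} {F : Type*} [Field F] {σ : F ≃+* F} {f : (Fin n → F) → (Fin n → F) → F}
  {F₀ : Subfield F}

/-- a unitary form taking values in the fixed field `F₀` of `σ` on rational vectors, in odd
characteristic -/
structure UB (σ : F ≃+* F) (f : (Fin n → F) → (Fin n → F) → F) (F₀ : Subfield F) : Prop where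
  hf : Cfsg.Geo.IsUnitaryForm σ f
  fix : ∀ x, x ∈ F₀ ↔ σ x = x
  two : (2 : F) ≠ 0
  rat : ∀ x y : Fin n → F, Rat F₀ x → Rat F₀ y → f x y ∈ F₀

/-- coordinatewise conjugation -/
def cj (σ : F ≃+* F) (y : Fin n → F) : Fin n → F := fun i => σ (y i)

theorem cj_add (x y : Fin n → F) : cj σ (x + y) = cj σ x + cj σ y := by
  funext i
  simp [cj]

theorem cj_sub (x y : Fin n → F) : cj σ (x - y) = cj σ x - cj σ y := by
  funext i
  simp [cj]

theorem cj_neg (x : Fin n → F) : cj σ (-x) = - cj σ x := by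
  funext i
  simp [cj]

theorem cj_zero : cj σ (0 : Fin n → F) = 0 := by
  funext i
  simp [cj]

theorem cj_smul (c : F) (x : Fin n → F) : cj σ (c • x) = σ c • cj σ x := by
  funext i
  simp [cj]

theorem cj_sum {ι : Type*} (s : Finset ι) (x : ι → (Fin n → F)) :
    cj σ (∑ i ∈ s, x i) = ∑ i ∈ s, cj σ (x i) := by
  funext j
  simp [cj, Finset.sum_apply]

theorem cj_single (i : Fin n) : cj σ (Pi.single i (1 : F) : Fin n → F) = Pi.single i 1 := by
  funext j
  unfold cj
  by_cases h : j = i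
  · subst h
    simp
  · simp [Pi.single_eq_of_ne h]

theorem UB.cj_cj (C : UB σ f F₀) (x : Fin n → F) : cj σ (cj σ x) = x := by
  funext i
  exact C.hf.involutive _

theorem UB.cj_rat (C : UB σ f F₀) {x : Fin n → F} (hx : Rat F₀ x) : cj σ x = x := by
  funext i
  exact (C.fix _).1 (hx i)

theorem UB.rat_of_cj (C : UB σ f F₀) {x : Fin n → F} (hx : cj σ x = x) : Rat F₀ x := by
  intro i
  exact (C.fix _).2 (congrFun hx i)

theorem UB.sig_f (C : UB σ f F₀) {x y : Fin n → F} (hx : Rat F₀ x) (hy : Rat F₀ y) :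
    σ (f x y) = f x y := (C.fix _).1 (C.rat x y hx hy)

theorem UB.f_symm (C : UB σ f F₀) {x y : Fin n → F} (hx : Rat F₀ x) (hy : Rat F₀ y) :
    f x y = f y x := by
  rw [C.hf.herm x y, C.sig_f hy hx]

theorem UB.two_mem (C : UB σ f F₀) : (2 : F) ∈ F₀ := by
  rw [C.fix, map_ofNat]

/-- the bilinear extension of the restriction of `f` to rational vectors -/
def Bf (f : (Fin n → F) → (Fin n → F) → F) (σ : F ≃+* F) (x y : Fin n → F) : F :=
  f x (cj σ y)

/-- the associated quadratic form -/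
noncomputable def Qf (f : (Fin n → F) → (Fin n → F) → F) (σ : F ≃+* F) (x : Fin n → F) : F :=
  Bf f σ x x / 2

theorem UB.Bf_expand (C : UB σ f F₀) (x y : Fin n → F) :
    Bf f σ x y = ∑ i, ∑ j, x i * y j * f (Pi.single i 1) (Pi.single j 1) := by
  have hf := C.hf
  unfold Bf
  rw [f_eq_dot hf]
  unfold dotProduct rho
  apply Finset.sum_congr rfl
  intro i _
  have hy : cj σ y = ∑ j, σ (y j) • (Pi.single j (1 : F) : Fin n → F) := by
    ext k
    simp [Finset.sum_apply, Pi.single_apply, cj]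
  rw [hf.herm, hy, f_sum_left hf, map_sum, Finset.sum_mul]
  apply Finset.sum_congr rfl
  intro j _
  rw [hf.smul_left, map_mul, hf.involutive, ← hf.herm]
  ring

theorem UB.Bf_symm (C : UB σ f F₀) (x y : Fin n → F) : Bf f σ x y = Bf f σ y x := by
  rw [C.Bf_expand, C.Bf_expand, Finset.sum_comm]
  apply Finset.sum_congr rfl
  intro j _
  apply Finset.sum_congr rfl
  intro i _
  rw [C.f_symm (Rat.single i F₀.one_mem) (Rat.single j F₀.one_mem)]
  ring

theorem UB.Bf_rat_right (C : UB σ f F₀) (x : Fin n → F) {y : Fin n → F} (hy : Rat F₀ y) :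
    Bf f σ x y = f x y := by
  unfold Bf
  rw [C.cj_rat hy]

theorem UB.Bf_rat_left (C : UB σ f F₀) {x : Fin n → F} (hx : Rat F₀ x) (y : Fin n → F) :
    Bf f σ x y = f y x := by
  rw [C.Bf_symm, C.Bf_rat_right y hx]

theorem UB.symF (C : UB σ f F₀) : Cfsg.Agent.Lib.Helper28.OGen.SymF (Bf f σ) where
  involutive := fun _ => rfl
  add_left := fun x y v => C.hf.add_left x y _
  smul_left := fun c x v => C.hf.smul_left c x _
  herm := fun v w => C.Bf_symm v w
  nondegenerate := by
    have key : ∀ v : Fin n → F, v ≠ 0 → ∃ x, Bf f σ x v ≠ 0 := by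
      intro v hv
      have hcv : cj σ v ≠ 0 := by
        intro h
        apply hv
        rw [← C.cj_cj v, h, cj_zero]
      exact (C.hf.nondegenerate _ hcv).1
    intro v hv
    obtain ⟨x, hx⟩ := key v hv
    exact ⟨⟨x, hx⟩, ⟨x, by rwa [C.Bf_symm]⟩⟩

theorem UB.qf (C : UB σ f F₀) : Cfsg.Agent.Lib.Helper28.OQ.QF (Qf f σ) (Bf f σ) where
  sym := C.symF
  polar := by
    intro x y
    have h2 := C.two
    have hs := C.symF
    unfold Qf
    rw [hs.add_left, Cfsg.Agent.Lib.Helper28.HForm.f_add_right hs,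
      Cfsg.Agent.Lib.Helper28.HForm.f_add_right hs, C.Bf_symm y x]
    field_simp
    ring
  smul := by
    intro c x
    have hs := C.symF
    unfold Qf
    rw [hs.smul_left, Cfsg.Agent.Lib.Helper28.OGen.s_smul_right hs]
    ring

theorem UB.rc (C : UB σ f F₀) : Cfsg.Agent.Lib.Helper28.Os.RC F₀ (Qf f σ) (Bf f σ) where
  hq := C.qf
  rq := by
    intro v hv
    unfold Qf
    rw [C.Bf_rat_right v hv]
    exact F₀.div_mem (C.rat v v hv hv) C.two_mem

theorem UB.Qf_rat (C : UB σ f F₀) {u : Fin n → F} (hu : Rat F₀ u) :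
    Qf f σ u = 0 ↔ f u u = 0 := by
  unfold Qf
  rw [C.Bf_rat_right u hu]
  constructor
  · intro h
    rcases div_eq_zero_iff.mp h with h | h
    · exact h
    · exact absurd h C.two
  · intro h
    rw [h, zero_div]

end Cfsg.Agent.Lib.Helper28.Uo
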