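import Cfsg.Agent.Lib.Helper28.UoA

set_option autoImplicit false

open Cfsg

namespace Cfsg.Agent.Lib.Helper28.Uo

open Matrix Cfsg.Agent.Lib.Helper28.Sf Cfsg.Agent.Lib.Helper28.UForm

variable {n : ℕ} {F : Type*} [Field F] {σ : F ≃+* F} {f : (Fin n → F) → (Fin n → F) → F}
  {F₀ : Subfield F}

/-! ### the skew element `θ` -/

theorem UB.ex_theta (C : UB σ f F₀) : ∃ θ : F, θ ≠ 0 ∧ σ θ = -θ := exists_K0 C.hf

theorem UB.theta_not_mem (C : UB σ f F₀) {θ : F} (h0 : θ ≠ 0) (hs : σ θ = -θ) : θ ∉ F₀ := by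
  intro hm
  rw [C.fix, hs] at hm
  have h1 : (2 : F) * θ = 0 := by linear_combination -hm
  rcases mul_eq_zero.mp h1 with h | h
  · exact C.two h
  · exact h0 h

theorem UB.suniq (C : UB σ f F₀) {θ : F} (h0 : θ ≠ 0) (hs : σ θ = -θ) {a b : F} (ha : a ∈ F₀)
    (hb : b ∈ F₀) (h : a + b * θ ∈ F₀) : b = 0 := by
  by_contra hb0
  apply C.theta_not_mem h0 hs
  have e : θ = ((a + b * θ) - a) / b := by
    field_simp
    ring
  rw [e]
  exact F₀.div_mem (F₀.sub_mem h ha) hb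

theorem UB.sdec (C : UB σ f F₀) {θ : F} (h0 : θ ≠ 0) (hs : σ θ = -θ) (x : F) :
    ∃ a b : F, a ∈ F₀ ∧ b ∈ F₀ ∧ x = a + b * θ := by
  have h2 := C.two
  refine ⟨(x + σ x) / 2, (x - σ x) / (2 * θ), ?_, ?_, ?_⟩
  · rw [C.fix, map_div₀, map_add, C.hf.involutive, map_ofNat, add_comm]
  · rw [C.fix, map_div₀, map_sub, C.hf.involutive, map_mul, map_ofNat, hs]
    field_simp
    ring
  · field_simp
    ring

theorem UB.vdec (C : UB σ f F₀) {θ : F} (h0 : θ ≠ 0) (hs : σ θ = -θ) (y : Fin n → F) :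
    ∃ y₁ y₂ : Fin n → F, Rat F₀ y₁ ∧ Rat F₀ y₂ ∧ y = y₁ + θ • y₂ := by
  have h2 := C.two
  refine ⟨(2 : F)⁻¹ • (y + cj σ y), (2 * θ)⁻¹ • (y - cj σ y), ?_, ?_, ?_⟩
  · apply C.rat_of_cj
    rw [cj_smul, cj_add, C.cj_cj, map_inv₀, map_ofNat, add_comm]
  · apply C.rat_of_cj
    rw [cj_smul, cj_sub, C.cj_cj, map_inv₀, map_mul, map_ofNat, hs]
    have e : (2 * -θ)⁻¹ = -(2 * θ)⁻¹ := by
      rw [mul_neg, inv_neg]
    rw [e]
    module
  · funext i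
    simp only [Pi.add_apply, Pi.smul_apply, Pi.sub_apply, smul_eq_mul]
    field_simp
    ring

/-- the span of a rational family is stable under conjugation -/
theorem cj_mem_span (C : UB σ f F₀) {k : ℕ} (a : Fin k → (Fin n → F)) (ha : ∀ j, Rat F₀ (a j))
    {x : Fin n → F} (hx : x ∈ Submodule.span F (Set.range a)) :
    cj σ x ∈ Submodule.span F (Set.range a) := by
  obtain ⟨c, rfl⟩ := (Submodule.mem_span_range_iff_exists_fun F).mp hx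
  rw [cj_sum]
  apply Submodule.sum_mem
  intro j _
  rw [cj_smul, C.cj_rat (ha j)]
  exact Submodule.smul_mem _ _ (Submodule.subset_span ⟨j, rfl⟩)

/-- a rational multiple of a non-zero rational vector has a rational coefficient -/
theorem coef_rat {u : Fin n → F} (hu : Rat F₀ u) (hu0 : u ≠ 0) {c : F}
    (h : Rat F₀ (c • u)) : c ∈ F₀ := by
  obtain ⟨i, hi⟩ : ∃ i, u i ≠ 0 := by
    by_contra hcon
    push Not at hcon
    exact hu0 (funext hcon)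
  have h1 := h i
  rw [Pi.smul_apply, smul_eq_mul] at h1
  have e : c = c * u i / u i := by field_simp
  rw [e]
  exact F₀.div_mem h1 (hu i)

/-! ### rational geometry in terms of `f` -/

theorem UB.ex_rs [Finite F] (C : UB σ f F₀) {k : ℕ} (a : Fin k → (Fin n → F))
    (ha : ∀ j, Rat F₀ (a j)) (hk : 2 * k + 3 ≤ n) :
    ∃ x, Rat F₀ x ∧ f x x = 0 ∧ (∀ j, f (a j) x = 0) ∧ (∀ j, f x (a j) = 0) ∧
      x ∉ Submodule.span F (Set.range a) := by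
  obtain ⟨x, hx, hQx, hxa, hxn⟩ := C.rc.ex_rs a ha hk
  refine ⟨x, hx, (C.Qf_rat hx).1 hQx, fun j => ?_, fun j => ?_, hxn⟩
  · rw [← C.Bf_rat_right _ hx]
    exact hxa j
  · rw [← C.Bf_rat_left (ha j)]
    exact hxa j

theorem UB.ex_partner (C : UB σ f F₀) {k : ℕ} (a : Fin k → (Fin n → F))
    (ha : ∀ j, Rat F₀ (a j)) {w : Fin n → F} (hw : Rat F₀ w) (hws : f w w = 0)
    (hwp : ∀ j, f (a j) w = 0) (hwa : w ∉ Submodule.span F (Set.range a)) :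
    ∃ w', Rat F₀ w' ∧ f w' w' = 0 ∧ (∀ j, f (a j) w' = 0) ∧ (∀ j, f w' (a j) = 0) ∧
      f w w' = 1 ∧ f w' w = 1 := by
  obtain ⟨w', hw', hQw', hw'a, hww'⟩ := C.rc.ex_partner a ha hw ((C.Qf_rat hw).2 hws)
    (fun j => by rw [C.Bf_rat_right _ hw]; exact hwp j) hwa
  refine ⟨w', hw', (C.Qf_rat hw').1 hQw', fun j => ?_, fun j => ?_, ?_, ?_⟩
  · rw [← C.Bf_rat_right _ hw']
    exact hw'a j
  · rw [← C.Bf_rat_left (ha j)]
    exact hw'a j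
  · rw [← C.Bf_rat_right _ hw']
    exact hww'
  · rw [← C.Bf_rat_left hw]
    exact hww'

theorem UB.ex_rat_dual (C : UB σ f F₀) {k : ℕ} (a : Fin k → (Fin n → F))
    (ha : ∀ j, Rat F₀ (a j)) {w : Fin n → F} (hw : Rat F₀ w)
    (hwa : w ∉ Submodule.span F (Set.range a)) :
    ∃ y, Rat F₀ y ∧ (∀ j, f (a j) y = 0) ∧ (∀ j, f y (a j) = 0) ∧ f w y = 1 ∧ f y w = 1 := by
  obtain ⟨y, hy, hya, hwy⟩ := C.rc.ex_rat_dual a ha hw hwa
  refine ⟨y, hy, fun j => ?_, fun j => ?_, ?_, ?_⟩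
  · rw [← C.Bf_rat_right _ hy]
    exact hya j
  · rw [← C.Bf_rat_left (ha j)]
    exact hya j
  · rw [← C.Bf_rat_right _ hy]
    exact hwy
  · rw [← C.Bf_rat_left hw]
    exact hwy

theorem UB.rat_sum_rs [Finite F] (C : UB σ f F₀) {k : ℕ} (a : Fin k → (Fin n → F))
    (ha : ∀ j, Rat F₀ (a j)) (hk : 2 * (k + 2) + 3 ≤ n) {y : Fin n → F} (hy : Rat F₀ y)
    (hya : ∀ j, f (a j) y = 0) (hyn : f y y ≠ 0 → y ∉ Submodule.span F (Set.range a)) :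
    ∃ y₁ y₂, Rat F₀ y₁ ∧ Rat F₀ y₂ ∧ f y₁ y₁ = 0 ∧ f y₂ y₂ = 0 ∧ (∀ j, f (a j) y₁ = 0) ∧
      (∀ j, f (a j) y₂ = 0) ∧ y = y₁ + y₂ := by
  obtain ⟨y₁, y₂, hy₁, hy₂, hQ₁, hQ₂, h1, h2, hsum⟩ := C.rc.rat_sum_rs a ha hk hy
    (fun j => by rw [C.Bf_rat_right _ hy]; exact hya j)
    (fun hQ => hyn (fun h0 => hQ ((C.Qf_rat hy).2 h0)))
  refine ⟨y₁, y₂, hy₁, hy₂, (C.Qf_rat hy₁).1 hQ₁, (C.Qf_rat hy₂).1 hQ₂, fun j => ?_, fun j => ?_,
    hsum⟩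
  · rw [← C.Bf_rat_right _ hy₁]
    exact h1 j
  · rw [← C.Bf_rat_right _ hy₂]
    exact h2 j

/-- a vector orthogonal to all rational vectors vanishes -/
theorem UB.eq_zero_of_perp_rat (C : UB σ f F₀) {y : Fin n → F}
    (h : ∀ x, Rat F₀ x → f x y = 0) : y = 0 := by
  by_contra hne
  obtain ⟨z, hz⟩ := (C.hf.nondegenerate _ hne).1
  apply hz
  rw [f_eq_dot C.hf]
  have : rho f y = 0 := by
    funext i
    exact h _ (Rat.single i F₀.one_mem)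
  rw [this, zero_dotProduct]

/-! ### the ambient hypotheses -/

/-- the ambient hypotheses -/
structure UC (σ : F ≃+* F) (f : (Fin n → F) → (Fin n → F) → F) (F₀ : Subfield F)
    (G H : Subgroup (Matrix.GeneralLinearGroup (Fin n) F)) : Prop where
  ub : UB σ f F₀
  hG : ∀ g : Matrix.GeneralLinearGroup (Fin n) F, g ∈ G ↔
    (∀ x y, f ((g : Matrix (Fin n) (Fin n) F) *ᵥ x) ((g : Matrix (Fin n) (Fin n) F) *ᵥ y) = f x y) ∧
      g ∈ Cfsg.Geo.specialLinear (Fin n) F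
  le : H ≤ G
  sub : Cfsg.Geo.subfieldSubgroup F₀ (1 : Matrix.GeneralLinearGroup (Fin n) F) ⊓ G ≤ H
  hn : 13 ≤ n

variable {G H : Subgroup (Matrix.GeneralLinearGroup (Fin n) F)}

theorem UC.hf (C : UC σ f F₀ G H) : Cfsg.Geo.IsUnitaryForm σ f := C.ub.hf

theorem UC.iso (C : UC σ f F₀ G H) {h : Matrix.GeneralLinearGroup (Fin n) F} (hh : h ∈ H)
    (x y : Fin n → F) :
    f ((h : Matrix (Fin n) (Fin n) F) *ᵥ x) ((h : Matrix (Fin n) (Fin n) F) *ᵥ y) = f x y :=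
  ((C.hG h).1 (C.le hh)).1 x y

/-- a rational element of `G` lies in `H` -/
theorem UC.rat_mem (C : UC σ f F₀ G H) {t : Matrix.GeneralLinearGroup (Fin n) F} (htG : t ∈ G)
    (h : ∀ x, Rat F₀ x → Rat F₀ ((t : Matrix (Fin n) (Fin n) F) *ᵥ x)) : t ∈ H := by
  apply C.sub
  refine ⟨?_, htG⟩
  apply mem_sub_one_of_rat (c := 1) one_ne_zero
  intro x hx
  rw [inv_one, one_smul]
  exact h x hx

end Cfsg.Agent.Lib.Helper28.Uo
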