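import Cfsg.Agent.Lib.Helper28.UoB

set_option autoImplicit false

open Cfsg

namespace Cfsg.Agent.Lib.Helper28.Uo

open Matrix Cfsg.Agent.Lib.Helper28.Sf Cfsg.Agent.Lib.Helper28.UForm
  Cfsg.Agent.Lib.Helper28.UPair Cfsg.Agent.Lib.Helper28.DecGen

variable {n : ℕ} {F : Type*} [Field F] {σ : F ≃+* F} {f : (Fin n → F) → (Fin n → F) → F}
  {F₀ : Subfield F}

local notation "GLn" => Matrix.GeneralLinearGroup (Fin n) F

/-- the unitary Siegel map with centre `u`, direction `y` and parameter `c` -/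
def Em (f : (Fin n → F) → (Fin n → F) → F) (u y : Fin n → F) (c : F) (x : Fin n → F) :
    Fin n → F := x + f x u • y - f x y • u + (c * f x u) • u

def IsE (f : (Fin n → F) → (Fin n → F) → F) (t : GLn) (u y : Fin n → F) (c : F) : Prop :=
  ∀ x, (t : Matrix (Fin n) (Fin n) F) *ᵥ x = Em f u y c x

/-- `T_{u,v}(c) : x ↦ x + c f(x,u) v - σ(c) f(x,v) u` -/
def IsT (f : (Fin n → F) → (Fin n → F) → F) (σ : F ≃+* F) (t : GLn) (u v : Fin n → F) (c : F) :
    Prop := ∀ x, (t : Matrix (Fin n) (Fin n) F) *ᵥ x = srAct f σ c u v x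

theorem IsE.unique {t t' : GLn} {u y : Fin n → F} {c : F} (h : IsE f t u y c)
    (h' : IsE f t' u y c) : t = t' := by
  apply glx
  intro x
  rw [h x, h' x]

theorem IsT.unique {t t' : GLn} {u v : Fin n → F} {c : F} (h : IsT f σ t u v c)
    (h' : IsT f σ t' u v c) : t = t' := by
  apply glx
  intro x
  rw [h x, h' x]

theorem IsE.congr {t : GLn} {u y y' : Fin n → F} {c c' : F} (h : IsE f t u y c) (e : y = y')
    (e' : c = c') : IsE f t u y' c' := by
  subst e
  subst e'
  exact h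

theorem IsT.congr {t : GLn} {u v : Fin n → F} {c c' : F} (h : IsT f σ t u v c)
    (e' : c = c') : IsT f σ t u v c' := by
  subst e'
  exact h

theorem isE_of_isT (hf : Cfsg.Geo.IsUnitaryForm σ f) {t : GLn} {u v : Fin n → F} {c : F}
    (h : IsT f σ t u v c) : IsE f t u (c • v) 0 := by
  intro x
  rw [h x]
  unfold srAct Em
  rw [f_smul_right hf]
  module

theorem isT_of_isE (hf : Cfsg.Geo.IsUnitaryForm σ f) {t : GLn} {u v : Fin n → F} {c : F}
    (h : IsE f t u (c • v) 0) : IsT f σ t u v c := by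
  intro x
  rw [h x]
  unfold srAct Em
  rw [f_smul_right hf]
  module

theorem IsE.one (hf : Cfsg.Geo.IsUnitaryForm σ f) (u : Fin n → F) : IsE f (1 : GLn) u 0 0 := by
  intro x
  rw [Units.val_one, Matrix.one_mulVec]
  unfold Em
  rw [f_zero_right hf]
  module

/-- transvections as Siegel elements with direction a multiple of the centre -/
theorem IsE.center (hf : Cfsg.Geo.IsUnitaryForm σ f) {t : GLn} {u : Fin n → F} {c : F}
    (h : IsE f t u 0 c) (a : F) : IsE f t u (a • u) (c + σ a - a) := by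
  intro x
  rw [h x]
  unfold Em
  rw [f_smul_right hf, f_zero_right hf]
  module

theorem IsE.mul (hf : Cfsg.Geo.IsUnitaryForm σ f) {t t' : GLn} {u y y' : Fin n → F} {c c' : F}
    (huu : f u u = 0) (hyu : f y u = 0) (hy'u : f y' u = 0)
    (h : IsE f t u y c) (h' : IsE f t' u y' c') :
    IsE f (t * t') u (y + y') (c + c' - f y' y) := by
  intro x
  have huy : f u y = 0 := f_swap_zero hf hyu
  rw [Units.val_mul, ← Matrix.mulVec_mulVec, h' x, h]
  unfold Em
  simp only [hf.add_left, f_sub_left hf, hf.smul_left, f_add_right hf, huu, hyu, hy'u, huy,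
    mul_zero, sub_zero, add_zero]
  module

theorem IsE.inv (hf : Cfsg.Geo.IsUnitaryForm σ f) {t : GLn} {u y : Fin n → F} {c : F}
    (huu : f u u = 0) (hyu : f y u = 0) (hc : c + σ c = - f y y)
    (h : IsE f t u y c) : IsE f t⁻¹ u (-y) (σ c) := by
  intro x
  have huy : f u y = 0 := f_swap_zero hf hyu
  have e : x = (t : Matrix (Fin n) (Fin n) F) *ᵥ Em f u (-y) (σ c) x := by
    rw [h]
    unfold Em
    have hc' : σ c = - f y y - c := by linear_combination hc
    simp only [hf.add_left, f_sub_left hf, hf.smul_left, f_neg_right hf, f_neg_left hf, huu, hyu,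
      huy, hc', mul_zero, sub_zero, add_zero, neg_zero]
    module
  conv_lhs => rw [e]
  rw [gl_cancel]

theorem IsE.conj (hf : Cfsg.Geo.IsUnitaryForm σ f) {t k : GLn} {u y : Fin n → F} {c : F}
    (hk : ∀ x y, f ((k : Matrix (Fin n) (Fin n) F) *ᵥ x) ((k : Matrix (Fin n) (Fin n) F) *ᵥ y) =
      f x y) (h : IsE f t u y c) :
    IsE f (k * t * k⁻¹) ((k : Matrix (Fin n) (Fin n) F) *ᵥ u)
      ((k : Matrix (Fin n) (Fin n) F) *ᵥ y) c := by
  intro x
  have e1 : ∀ z, f (((k⁻¹ : GLn) : Matrix (Fin n) (Fin n) F) *ᵥ x) z =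
      f x ((k : Matrix (Fin n) (Fin n) F) *ᵥ z) := by
    intro z
    have := hk (((k⁻¹ : GLn) : Matrix (Fin n) (Fin n) F) *ᵥ x) z
    rw [gl_cancel'] at this
    exact this.symm
  rw [Units.val_mul, Units.val_mul, ← Matrix.mulVec_mulVec, ← Matrix.mulVec_mulVec, h]
  unfold Em
  rw [e1, e1, Matrix.mulVec_add, Matrix.mulVec_sub, Matrix.mulVec_add, gl_cancel',
    Matrix.mulVec_smul, Matrix.mulVec_smul, Matrix.mulVec_smul]

theorem IsT.conj (hf : Cfsg.Geo.IsUnitaryForm σ f) {t k : GLn} {u v : Fin n → F} {c : F}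
    (hk : ∀ x y, f ((k : Matrix (Fin n) (Fin n) F) *ᵥ x) ((k : Matrix (Fin n) (Fin n) F) *ᵥ y) =
      f x y) (h : IsT f σ t u v c) :
    IsT f σ (k * t * k⁻¹) ((k : Matrix (Fin n) (Fin n) F) *ᵥ u)
      ((k : Matrix (Fin n) (Fin n) F) *ᵥ v) c := by
  apply isT_of_isE hf
  have := (isE_of_isT hf h).conj hf hk
  rwa [Matrix.mulVec_smul] at this

theorem IsT.mul (hf : Cfsg.Geo.IsUnitaryForm σ f) {t t' : GLn} {u v : Fin n → F} {c c' : F}
    (huu : f u u = 0) (hvv : f v v = 0) (hvu : f v u = 0)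
    (h : IsT f σ t u v c) (h' : IsT f σ t' u v c') : IsT f σ (t * t') u v (c + c') := by
  apply isT_of_isE hf
  have := (isE_of_isT hf h).mul hf huu (by rw [hf.smul_left, hvu, mul_zero])
    (by rw [hf.smul_left, hvu, mul_zero]) (isE_of_isT hf h')
  refine this.congr (by rw [add_smul]) ?_
  rw [hf.smul_left, f_smul_right hf, hvv]
  ring

theorem IsT.inv (hf : Cfsg.Geo.IsUnitaryForm σ f) {t : GLn} {u v : Fin n → F} {c : F}
    (huu : f u u = 0) (hvv : f v v = 0) (hvu : f v u = 0)
    (h : IsT f σ t u v c) : IsT f σ t⁻¹ u v (-c) := by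
  apply isT_of_isE hf
  have := (isE_of_isT hf h).inv hf huu (by rw [hf.smul_left, hvu, mul_zero])
    (by rw [hf.smul_left, f_smul_right hf, hvv, map_zero]; ring)
  refine this.congr (by rw [neg_smul]) (map_zero σ)

theorem IsT.swap (hf : Cfsg.Geo.IsUnitaryForm σ f) {t : GLn} {u v : Fin n → F} {c : F}
    (h : IsT f σ t u v c) : IsT f σ t v u (-σ c) := by
  intro x
  rw [h x]
  unfold srAct
  rw [map_neg, hf.involutive]
  module

/-- scaling the first vector by a fixed scalar -/
theorem IsT.smul_left (hf : Cfsg.Geo.IsUnitaryForm σ f) {t : GLn} {u v : Fin n → F} {c a : F}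
    (ha : σ a = a) (h : IsT f σ t (a • u) v c) : IsT f σ t u v (a * c) := by
  intro x
  rw [h x]
  unfold srAct
  rw [f_smul_right hf, ha, map_mul, ha]
  module

/-- the commutator of two Siegel elements with orthogonal centres -/
theorem comm_EE (hf : Cfsg.Geo.IsUnitaryForm σ f) {g h T : GLn} {u y v z : Fin n → F} {c d : F}
    (huu : f u u = 0) (hvv : f v v = 0) (hyu : f y u = 0) (hzv : f z v = 0) (hvu : f v u = 0)
    (hvy : f v y = 0) (hzu : f z u = 0)
    (hg : IsE f g u y c) (hh : IsE f h v z d) (hT : IsT f σ T u v (σ (f z y))) :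
    g * h = T * h * g := by
  apply glx
  intro x
  have huy := f_swap_zero hf hyu
  have hvz := f_swap_zero hf hzv
  have huv := f_swap_zero hf hvu
  have hyv := f_swap_zero hf hvy
  have huz := f_swap_zero hf hzu
  have hyz : f y z = σ (f z y) := hf.herm y z
  rw [Units.val_mul, Units.val_mul, Units.val_mul, ← Matrix.mulVec_mulVec, ← Matrix.mulVec_mulVec,
    ← Matrix.mulVec_mulVec, hh x, hg, hg x, hh, hT]
  unfold Em srAct
  simp only [hf.add_left, f_sub_left hf, hf.smul_left, huu, hvv, hyu, hzv, hvu, hvy, hzu, huy,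
    hvz, huv, hyv, huz, hyz, hf.involutive, mul_zero, sub_zero, add_zero, zero_mul]
  module

/-- the commutator relation for two `T`-elements -/
theorem comm_TT (hf : Cfsg.Geo.IsUnitaryForm σ f) {k t T : GLn} {a b b' c : Fin n → F}
    {lam mu : F} (haa : f a a = 0) (hab : f a b = 0) (hac : f a c = 0) (hbc : f b c = 0)
    (hab' : f a b' = 0) (hbb' : f b b' = 1) (hcc : f c c = 0) (hb'c : f b' c = 0)
    (ht : IsT f σ t a b lam) (hk : IsT f σ k b' c mu) (hT : IsT f σ T a c (lam * mu)) :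
    k * t = T * t * k := by
  apply glx
  intro x
  have hba := f_swap_zero hf hab
  have hca := f_swap_zero hf hac
  have hcb := f_swap_zero hf hbc
  have hb'a := f_swap_zero hf hab'
  have hcb' := f_swap_zero hf hb'c
  have hb'b : f b' b = 1 := by rw [hf.herm, hbb', map_one]
  rw [Units.val_mul, Units.val_mul, Units.val_mul, ← Matrix.mulVec_mulVec, ← Matrix.mulVec_mulVec,
    ← Matrix.mulVec_mulVec, ht x, hk, hk x, ht, hT]
  unfold srAct
  simp only [hf.add_left, f_sub_left hf, hf.smul_left, haa, hab, hac, hbc, hab', hbb', hcc, hb'c,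
    hba, hca, hcb, hb'a, hcb', hb'b, map_mul, mul_zero, sub_zero, add_zero, zero_mul, mul_one]
  module

end Cfsg.Agent.Lib.Helper28.Uo
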