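import Cfsg.Agent.Lib.Helper28.UoE

set_option autoImplicit false

open Cfsg

namespace Cfsg.Agent.Lib.Helper28.Uo

open Matrix Cfsg.Agent.Lib.Helper28.Sf Cfsg.Agent.Lib.Helper28.UForm
  Cfsg.Agent.Lib.Helper28.UPair Cfsg.Agent.Lib.Helper28.DecGen

variable {n : ℕ} {F : Type*} [Field F] {σ : F ≃+* F} {f : (Fin n → F) → (Fin n → F) → F}
  {F₀ : Subfield F} {G H : Subgroup (Matrix.GeneralLinearGroup (Fin n) F)}

local notation "GLn" => Matrix.GeneralLinearGroup (Fin n) F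

open Cfsg.Agent.Lib.Helper28.Os in
/-- (Claim A) when the parameter sets are rational, the direction of a Siegel element of `H`
with rational singular centre `u` is rational modulo `u` -/
theorem UC.claimA [Finite F] (C : UC σ f F₀ G H)
    (hA : ∀ u v, TP F₀ f u v → ∀ a, a ∈ AA f σ H u v → a ∈ F₀) {u : Fin n → F} (hu : Rat F₀ u)
    (huu : f u u = 0) (hu0 : u ≠ 0) {y : Fin n → F} (hyu : f y u = 0) {c : F} {g : GLn}
    (hg : g ∈ H) (hgs : IsE f g u y c) :
    ∃ (r : Fin n → F) (lam : F), Rat F₀ r ∧ y = r + lam • u := by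
  have hf := C.hf
  have hn := C.hn
  obtain ⟨θ, hθ0, hθs⟩ := C.ub.ex_theta
  obtain ⟨y₁, y₂, hy₁, hy₂, hy⟩ := C.ub.vdec hθ0 hθs y
  have hy₂u : f y₂ u = 0 := by
    apply C.ub.suniq hθ0 hθs (C.ub.rat _ _ hy₁ hu) (C.ub.rat _ _ hy₂ hu)
    have : f y₁ u + f y₂ u * θ = f y u := by
      rw [hy, hf.add_left, hf.smul_left]
      ring
    rw [this, hyu]
    exact F₀.zero_mem
  have hy₁u : f y₁ u = 0 := by
    have : f y₁ u + θ * f y₂ u = f y u := by
      rw [hy, hf.add_left, hf.smul_left]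
    rw [hy₂u, mul_zero, add_zero, hyu] at this
    exact this
  by_cases hy₂s : y₂ ∈ Submodule.span F {u}
  · obtain ⟨α, hα⟩ := Submodule.mem_span_singleton.mp hy₂s
    refine ⟨y₁, θ * α, hy₁, ?_⟩
    rw [hy, ← hα, smul_smul]
  exfalso
  have hfam : ∀ j, Rat F₀ (![u, y₁, y₂] j) := by
    intro j
    fin_cases j
    · exact hu
    · exact hy₁
    · exact hy₂
  obtain ⟨v, hv, hvv, hvp, hvp', hvn⟩ := C.ub.ex_rs ![u, y₁, y₂] hfam (by omega)
  have huv : f u v = 0 := hvp 0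
  have hvu : f v u = 0 := hvp' 0
  have hvy₁ : f v y₁ = 0 := hvp' 1
  have hvy₂ : f v y₂ = 0 := hvp' 2
  have m3 : ∀ j, ![u, y₁, y₂] j ∈ Submodule.span F (Set.range ![u, y₁, y₂]) :=
    fun j => Submodule.subset_span ⟨j, rfl⟩
  have tp : TP F₀ f u v := by
    refine ⟨hu, hv, huu, hvv, huv, hu0, ?_⟩
    intro hm
    obtain ⟨a, ha⟩ := Submodule.mem_span_singleton.mp hm
    apply hvn
    rw [← ha]
    exact Submodule.smul_mem _ _ (m3 0)
  have hfam2 : ∀ j, Rat F₀ (![u, v] j) := by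
    intro j
    fin_cases j
    · exact hu
    · exact hv
  have hy₂n : y₂ ∉ Submodule.span F (Set.range ![u, v]) := by
    rw [mem_span_pair']
    rintro ⟨α, β, hαβ⟩
    by_cases hβ : β = 0
    · apply hy₂s
      rw [Submodule.mem_span_singleton]
      refine ⟨α, ?_⟩
      rw [← hαβ, hβ, zero_smul, add_zero]
    · apply hvn
      have : v = β⁻¹ • (y₂ - α • u) := by
        rw [← hαβ, add_sub_cancel_left, smul_smul, inv_mul_cancel₀ hβ, one_smul]
      rw [this]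
      exact Submodule.smul_mem _ _ (Submodule.sub_mem _ (m3 2) (Submodule.smul_mem _ _ (m3 0)))
  obtain ⟨z, hz, hzp, hzp', hy₂z, hzy₂⟩ := C.ub.ex_rat_dual ![u, v] hfam2 hy₂ hy₂n
  have hzu : f z u = 0 := hzp' 0
  have hzv : f z v = 0 := hzp' 1
  obtain ⟨h, hh, hhs, -⟩ := C.ex_rat_E hv hz hvv hzv
  obtain ⟨T, _, hT⟩ := C.ex_T huu hvv hvu (σ (f z y))
  have hvy : f v y = 0 := by
    rw [hy, f_add_right hf, f_smul_right hf, hvy₁, hvy₂]
    ring
  have e := comm_EE hf huu hvv hyu hzv hvu hvy hzu hgs hhs hT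
  have e2 : T = g * h * g⁻¹ * h⁻¹ := by
    rw [e]
    group
  have hTH : T ∈ H := by
    rw [e2]
    exact H.mul_mem (H.mul_mem (H.mul_mem hg hh) (H.inv_mem hg)) (H.inv_mem hh)
  have h1 : σ (f z y) ∈ F₀ := hA u v tp _ ⟨T, hTH, hT⟩
  have h2 : f z y ∈ F₀ := by
    rw [C.ub.fix] at h1 ⊢
    rw [hf.involutive] at h1
    exact h1.symm
  have h3 : f z y = f z y₁ + (-1) * θ := by
    rw [hy, f_add_right hf, f_smul_right hf, hzy₂, hθs]
    ring
  rw [h3] at h2
  have h4 := C.ub.suniq hθ0 hθs (C.ub.rat _ _ hz hy₁) (F₀.neg_mem F₀.one_mem) h2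
  exact one_ne_zero (neg_eq_zero.mp h4)

/-- (Kill) when the parameter sets are rational, every `T`-element of `H` is rational -/
theorem UC.kill [Finite F] (C : UC σ f F₀ G H)
    (hA : ∀ u v, TP F₀ f u v → ∀ a, a ∈ AA f σ H u v → a ∈ F₀) {a b : Fin n → F}
    {t : GLn} (ht : t ∈ H)
    (hts : IsT f σ t a b 1) {y : Fin n → F} (hy : Rat F₀ y) :
    Rat F₀ ((t : Matrix (Fin n) (Fin n) F) *ᵥ y) := by
  have hf := C.hf
  have hn := C.hn
  obtain ⟨θ, hθ0, hθs⟩ := C.ub.ex_theta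
  obtain ⟨a₁, a₂, ha₁, ha₂, ha⟩ := C.ub.vdec hθ0 hθs a
  obtain ⟨b₁, b₂, hb₁, hb₂, hb⟩ := C.ub.vdec hθ0 hθs b
  have hfam : ∀ j, Rat F₀ (![a₁, a₂, b₁, b₂, y] j) := by
    intro j
    fin_cases j
    · exact ha₁
    · exact ha₂
    · exact hb₁
    · exact hb₂
    · exact hy
  obtain ⟨e, he, hee, hep, hep', hen⟩ := C.ub.ex_rs ![a₁, a₂, b₁, b₂, y] hfam (by omega)
  have m5 : ∀ j, ![a₁, a₂, b₁, b₂, y] j ∈ Submodule.span F (Set.range ![a₁, a₂, b₁, b₂, y]) :=
    fun j => Submodule.subset_span ⟨j, rfl⟩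
  have haS : a ∈ Submodule.span F (Set.range ![a₁, a₂, b₁, b₂, y]) := by
    rw [ha]
    exact Submodule.add_mem _ (m5 0) (Submodule.smul_mem _ _ (m5 1))
  have hbS : b ∈ Submodule.span F (Set.range ![a₁, a₂, b₁, b₂, y]) := by
    rw [hb]
    exact Submodule.add_mem _ (m5 2) (Submodule.smul_mem _ _ (m5 3))
  have he0 : e ≠ 0 := by
    rintro rfl
    exact hen (Submodule.zero_mem _)
  have hea₁ : f e a₁ = 0 := hep' 0
  have hea₂ : f e a₂ = 0 := hep' 1
  have heb₁ : f e b₁ = 0 := hep' 2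
  have heb₂ : f e b₂ = 0 := hep' 3
  have hea : f e a = 0 := by
    rw [ha, f_add_right hf, f_smul_right hf, hea₁, hea₂]
    ring
  have heb : f e b = 0 := by
    rw [hb, f_add_right hf, f_smul_right hf, heb₁, heb₂]
    ring
  have hye : f y e = 0 := hep 4
  have hte : (t : Matrix (Fin n) (Fin n) F) *ᵥ e = e := by
    rw [hts e]
    unfold srAct
    rw [hea, heb]
    module
  obtain ⟨s, hs, hss, -⟩ := C.ex_rat_E he hy hee hye
  have h1 := hss.conj hf (C.iso ht)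
  rw [hte] at h1
  have h2 : f ((t : Matrix (Fin n) (Fin n) F) *ᵥ y) e = 0 := by
    have := C.iso ht y e
    rw [hte] at this
    rw [this, hye]
  obtain ⟨r, lam, hr, hty⟩ := C.claimA hA he hee he0 h2
    (H.mul_mem (H.mul_mem ht hs) (H.inv_mem ht)) h1
  -- `t y - y` lies in the span of the family
  obtain ⟨w, hw⟩ : ∃ w, w = (t : Matrix (Fin n) (Fin n) F) *ᵥ y - y := ⟨_, rfl⟩
  have hwS : w ∈ Submodule.span F (Set.range ![a₁, a₂, b₁, b₂, y]) := by
    rw [hw, hts y]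
    unfold srAct
    have : y + (1 * f y a) • b - (σ 1 * f y b) • a - y = (1 * f y a) • b - (σ 1 * f y b) • a := by
      abel
    rw [this]
    exact Submodule.sub_mem _ (Submodule.smul_mem _ _ hbS) (Submodule.smul_mem _ _ haS)
  have hcw := cj_mem_span C.ub _ hfam hwS
  have e1 : (t : Matrix (Fin n) (Fin n) F) *ᵥ y = y + w := by
    rw [hw]
    abel
  have e2 : (lam - σ lam) • e = w - cj σ w := by
    have h3 : cj σ ((t : Matrix (Fin n) (Fin n) F) *ᵥ y) = r + σ lam • e := by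
      rw [hty, cj_add, cj_smul, C.ub.cj_rat hr, C.ub.cj_rat he]
    have h4 : cj σ ((t : Matrix (Fin n) (Fin n) F) *ᵥ y) = y + cj σ w := by
      rw [e1, cj_add, C.ub.cj_rat hy]
    have h5 : r + lam • e = y + w := by rw [← hty, e1]
    have h6 : r + σ lam • e = y + cj σ w := by rw [← h3, h4]
    rw [sub_smul]
    linear_combination (exp := 1) h5 - h6
  have hlam : σ lam = lam := by
    by_contra hne
    apply hen
    have h0 : lam - σ lam ≠ 0 := fun h => hne (sub_eq_zero.mp h).symm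
    have : e = (lam - σ lam)⁻¹ • (w - cj σ w) := by
      rw [← e2, smul_smul, inv_mul_cancel₀ h0, one_smul]
    rw [this]
    exact Submodule.smul_mem _ _ (Submodule.sub_mem _ hwS hcw)
  rw [hty]
  exact hr.add (Rat.smul ((C.ub.fix lam).2 hlam) he)

end Cfsg.Agent.Lib.Helper28.Uo
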