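import Cfsg.Agent.Lib.Helper28.UoF

set_option autoImplicit false

open Cfsg

namespace Cfsg.Agent.Lib.Helper28.Uo

open Matrix Cfsg.Agent.Lib.Helper28.Sf Cfsg.Agent.Lib.Helper28.UForm
  Cfsg.Agent.Lib.Helper28.UPair Cfsg.Agent.Lib.Helper28.DecGen

variable {n : ℕ} {F : Type*} [Field F] {σ : F ≃+* F} {f : (Fin n → F) → (Fin n → F) → F}
  {F₀ : Subfield F} {G H : Subgroup (Matrix.GeneralLinearGroup (Fin n) F)}

local notation "GLn" => Matrix.GeneralLinearGroup (Fin n) F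

/-- rational matrices commute with conjugation -/
theorem UB.cj_mulVec (C : UB σ f F₀) {N : Matrix (Fin n) (Fin n) F}
    (hN : ∀ x, Rat F₀ x → Rat F₀ (N *ᵥ x)) (x : Fin n → F) :
    N *ᵥ cj σ x = cj σ (N *ᵥ x) := by
  have hent : ∀ i j, N i j ∈ F₀ := by
    intro i j
    have := hN (Pi.single j 1) (Rat.single j F₀.one_mem) i
    rwa [Matrix.mulVec_single_one] at this
  funext i
  unfold cj Matrix.mulVec dotProduct
  rw [map_sum]
  apply Finset.sum_congr rfl
  intro j _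
  rw [map_mul, (C.fix _).1 (hent i j)]

/-- the centre line of a rational `T`-element is stable under conjugation -/
theorem UB.isT_cjCl (C : UB σ f F₀) {t : GLn} {a b : Fin n → F} (hts : IsT f σ t a b 1)
    (ha : a ≠ 0) (hb : b ∉ Submodule.span F {a})
    (hr : ∀ x, Rat F₀ x → Rat F₀ ((t : Matrix (Fin n) (Fin n) F) *ᵥ x)) {y : Fin n → F}
    (hy : y ∈ Submodule.span F {a, b}) : cj σ y ∈ Submodule.span F {a, b} := by
  have hf := C.hf
  obtain ⟨α, β, rfl⟩ := Submodule.mem_span_pair.mp hy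
  obtain ⟨x₀, hx₀⟩ := lin_solve hf ![a, b] (li2 a b ha hb) ![β, -α]
  have h1 : f x₀ a = β := hx₀ 0
  have h2 : f x₀ b = -α := hx₀ 1
  have e : α • a + β • b = (t : Matrix (Fin n) (Fin n) F) *ᵥ x₀ - x₀ := by
    rw [hts x₀]
    unfold srAct
    rw [h1, h2, map_one]
    module
  rw [e, cj_sub, ← C.cj_mulVec hr, hts]
  unfold srAct
  rw [Submodule.mem_span_pair]
  refine ⟨-(σ 1 * f (cj σ x₀) b), 1 * f (cj σ x₀) a, ?_⟩
  module

open Cfsg.Agent.Lib.Helper28.Os in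
/-- (Lines) when the parameter sets are rational, every element of `H` maps rational singular
points to rational points -/
theorem UC.pt_rat [Finite F] (C : UC σ f F₀ G H)
    (hA : ∀ u v, TP F₀ f u v → ∀ a, a ∈ AA f σ H u v → a ∈ F₀) {h : GLn} (hh : h ∈ H)
    {u : Fin n → F} (hu : Rat F₀ u) (huu : f u u = 0) (hu0 : u ≠ 0) :
    ∃ c : F, c ≠ 0 ∧ Rat F₀ (c • ((h : Matrix (Fin n) (Fin n) F) *ᵥ u)) := by
  have hf := C.hf
  have hn := C.hn
  obtain ⟨v₁, tp⟩ := C.ex_TP_of hu huu hu0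
  obtain ⟨v₂, hv₂, hv₂v₂, hv₂p, hv₂p', hv₂n⟩ := C.ub.ex_rs ![u, v₁]
    (fun j => by fin_cases j; exact hu; exact tp.rv) (by omega)
  have huv₂ : f u v₂ = 0 := hv₂p 0
  have hne : (h : Matrix (Fin n) (Fin n) F) *ᵥ u ≠ 0 := by
    intro h0
    exact hu0 (Cfsg.Agent.Lib.Helper28.SubF.gl_inj h h0)
  -- the two conjugated `T`-elements
  have key : ∀ v : Fin n → F, Rat F₀ v → f v v = 0 → f u v = 0 → v ∉ Submodule.span F {u} →
      ∀ y ∈ Submodule.span F {(h : Matrix (Fin n) (Fin n) F) *ᵥ u,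
        (h : Matrix (Fin n) (Fin n) F) *ᵥ v}, cj σ y ∈
        Submodule.span F {(h : Matrix (Fin n) (Fin n) F) *ᵥ u,
          (h : Matrix (Fin n) (Fin n) F) *ᵥ v} := by
    intro v hv hvv huv hvn
    have hvu := f_swap_zero hf huv
    obtain ⟨t, htH, hts⟩ := C.AA_F0 (H := H) hu hv huu hvv hvu F₀.one_mem
    have hts' := hts.conj hf (C.iso hh)
    have htH' : h * t * h⁻¹ ∈ H := H.mul_mem (H.mul_mem hh htH) (H.inv_mem hh)
    intro y hy
    apply C.ub.isT_cjCl hts' hne _ (fun x hx => C.kill hA htH' hts' hx) hy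
    intro hm
    obtain ⟨a, ha⟩ := Submodule.mem_span_singleton.mp hm
    apply hvn
    rw [Submodule.mem_span_singleton]
    refine ⟨a, ?_⟩
    apply sub_eq_zero.mp
    apply Cfsg.Agent.Lib.Helper28.SubF.gl_inj h
    rw [Matrix.mulVec_sub, Matrix.mulVec_smul, ha, sub_self]
  have hv₂n' : v₂ ∉ Submodule.span F {u} := by
    intro hm
    obtain ⟨a, ha⟩ := Submodule.mem_span_singleton.mp hm
    apply hv₂n
    rw [mem_span_pair']
    exact ⟨a, 0, by rw [zero_smul, add_zero, ha]⟩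
  have k1 := key v₁ tp.rv tp.vv tp.uv tp.ind _ (Submodule.subset_span (by simp :
    (h : Matrix (Fin n) (Fin n) F) *ᵥ u ∈ ({(h : Matrix (Fin n) (Fin n) F) *ᵥ u,
      (h : Matrix (Fin n) (Fin n) F) *ᵥ v₁} : Set (Fin n → F))))
  have k2 := key v₂ hv₂ hv₂v₂ huv₂ hv₂n' _ (Submodule.subset_span (by simp :
    (h : Matrix (Fin n) (Fin n) F) *ᵥ u ∈ ({(h : Matrix (Fin n) (Fin n) F) *ᵥ u,
      (h : Matrix (Fin n) (Fin n) F) *ᵥ v₂} : Set (Fin n → F))))
  -- the conjugate of `h u` is a multiple of `h u`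
  obtain ⟨c, hc⟩ : ∃ c : F, cj σ ((h : Matrix (Fin n) (Fin n) F) *ᵥ u) =
      c • ((h : Matrix (Fin n) (Fin n) F) *ᵥ u) := by
    obtain ⟨a₁, b₁, e1⟩ := Submodule.mem_span_pair.mp k1
    obtain ⟨a₂, b₂, e2⟩ := Submodule.mem_span_pair.mp k2
    have e3 : (a₁ - a₂) • u + b₁ • v₁ - b₂ • v₂ = 0 := by
      apply Cfsg.Agent.Lib.Helper28.SubF.gl_inj h
      rw [Matrix.mulVec_sub, Matrix.mulVec_add, Matrix.mulVec_smul, Matrix.mulVec_smul,
        Matrix.mulVec_smul]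
      have e4 := e1.trans e2.symm
      rw [sub_smul]
      linear_combination (exp := 1) e4
    have hb₂ : b₂ = 0 := by
      by_contra hb
      apply hv₂n
      rw [mem_span_pair']
      refine ⟨b₂⁻¹ * (a₁ - a₂), b₂⁻¹ * b₁, ?_⟩
      have e5 : b₂ • v₂ = (a₁ - a₂) • u + b₁ • v₁ := (sub_eq_zero.mp e3).symm
      have e6 : v₂ = b₂⁻¹ • (b₂ • v₂) := by rw [smul_smul, inv_mul_cancel₀ hb, one_smul]
      rw [e6, e5, smul_add, smul_smul, smul_smul]
    refine ⟨a₂, ?_⟩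
    rw [← e2, hb₂, zero_smul, add_zero]
  obtain ⟨θ, hθ0, hθs⟩ := C.ub.ex_theta
  by_cases hc1 : 1 + c = 0
  · have hc' : c = -1 := by linear_combination hc1
    refine ⟨θ * 2, mul_ne_zero hθ0 C.ub.two, ?_⟩
    apply C.ub.rat_of_cj
    rw [cj_smul, hc, map_mul, hθs, map_ofNat, hc', smul_smul]
    congr 1
    ring
  · refine ⟨1 + c, hc1, ?_⟩
    apply C.ub.rat_of_cj
    have e : (1 + c) • ((h : Matrix (Fin n) (Fin n) F) *ᵥ u) =
        (h : Matrix (Fin n) (Fin n) F) *ᵥ u + cj σ ((h : Matrix (Fin n) (Fin n) F) *ᵥ u) := by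
      rw [hc]
      module
    rw [e, cj_add, C.ub.cj_cj, add_comm]

open Cfsg.Agent.Lib.Helper28.Os in
/-- (E1) an invertible matrix mapping all rational singular points to rational points lies in
the subfield group -/
theorem UC.mem_sub_of_pts [Finite F] (C : UC σ f F₀ G H) {g : GLn}
    (hg : ∀ u : Fin n → F, Rat F₀ u → f u u = 0 → u ≠ 0 →
      ∃ c : F, c ≠ 0 ∧ Rat F₀ (c • ((g : Matrix (Fin n) (Fin n) F) *ᵥ u))) :
    g ∈ Cfsg.Geo.subfieldSubgroup F₀ (1 : GLn) := by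
  have hf := C.hf
  have hn := C.hn
  obtain ⟨u₁, hu₁, hu₁u₁, hu₁0⟩ := C.ex_rs0
  obtain ⟨c₁, hc₁, hr₁⟩ := hg u₁ hu₁ hu₁u₁ hu₁0
  -- step (a)
  have stepa : ∀ u w : Fin n → F, Rat F₀ u → f u u = 0 → u ≠ 0 →
      Rat F₀ (c₁ • ((g : Matrix (Fin n) (Fin n) F) *ᵥ u)) → Rat F₀ w → f w w = 0 → f u w = 0 →
      w ∉ Submodule.span F {u} → Rat F₀ (c₁ • ((g : Matrix (Fin n) (Fin n) F) *ᵥ w)) := by
    intro u w hu huu hu0 hPu hw hww huw hwn
    have hw0 : w ≠ 0 := by
      rintro rfl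
      exact hwn (Submodule.zero_mem _)
    have hli : ∀ α β : F, α • u + β • w = 0 → α = 0 ∧ β = 0 := by
      intro α β hαβ
      have hβ : β = 0 := by
        by_contra hβ
        apply hwn
        rw [Submodule.mem_span_singleton]
        refine ⟨-(β⁻¹ * α), ?_⟩
        have : β • w = -(α • u) := by linear_combination (exp := 1) hαβ
        have e6 : w = β⁻¹ • (β • w) := by rw [smul_smul, inv_mul_cancel₀ hβ, one_smul]
        rw [e6, this, smul_neg, smul_smul, neg_smul]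
      refine ⟨?_, hβ⟩
      rw [hβ, zero_smul, add_zero] at hαβ
      rcases smul_eq_zero.mp hαβ with h | h
      · exact h
      · exact absurd h hu0
    obtain ⟨cw, hcw, hrw⟩ := hg w hw hww hw0
    have hs0 : u + w ≠ 0 := by
      intro h0
      have := hli 1 1 (by rw [one_smul, one_smul, h0])
      exact one_ne_zero this.1
    have hss : f (u + w) (u + w) = 0 := by
      rw [hf.add_left, f_add_right hf, f_add_right hf, huu, hww, huw, f_swap_zero hf huw]
      ring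
    obtain ⟨cs, hcs, hrs⟩ := hg (u + w) (hu.add hw) hss hs0
    obtain ⟨U, hU⟩ : ∃ U, U = c₁ • ((g : Matrix (Fin n) (Fin n) F) *ᵥ u) := ⟨_, rfl⟩
    obtain ⟨W, hW⟩ : ∃ W, W = cw • ((g : Matrix (Fin n) (Fin n) F) *ᵥ w) := ⟨_, rfl⟩
    have hli' : ∀ α β : F, α • U + β • W = 0 → α = 0 ∧ β = 0 := by
      intro α β hαβ
      have h1 : (α * c₁) • u + (β * cw) • w = 0 := by
        apply Cfsg.Agent.Lib.Helper28.SubF.gl_inj g
        rw [Matrix.mulVec_add, Matrix.mulVec_smul, Matrix.mulVec_smul, ← hαβ, hU, hW, smul_smul,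
          smul_smul]
      obtain ⟨e1, e2⟩ := hli _ _ h1
      constructor
      · rcases mul_eq_zero.mp e1 with h | h
        · exact h
        · exact absurd h hc₁
      · rcases mul_eq_zero.mp e2 with h | h
        · exact h
        · exact absurd h hcw
    have e : cs • ((g : Matrix (Fin n) (Fin n) F) *ᵥ (u + w)) = (cs / c₁) • U + (cs / cw) • W := by
      rw [hU, hW, Matrix.mulVec_add, smul_add, smul_smul, smul_smul, div_mul_cancel₀ _ hc₁,
        div_mul_cancel₀ _ hcw]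
    rw [e] at hrs
    have hUr : Rat F₀ U := by rw [hU]; exact hPu
    have hWr : Rat F₀ W := by rw [hW]; exact hrw
    obtain ⟨m1, m2⟩ := coeff_rat2 hUr hWr hli' hrs
    have e2 : c₁ • ((g : Matrix (Fin n) (Fin n) F) *ᵥ w) = ((cs / cw) / (cs / c₁)) • W := by
      rw [hW, smul_smul]
      congr 1
      field_simp
    rw [e2]
    exact Rat.smul (F₀.div_mem m2 m1) hWr
  -- step (b)
  have stepb : ∀ w : Fin n → F, Rat F₀ w → f w w = 0 →
      Rat F₀ (c₁ • ((g : Matrix (Fin n) (Fin n) F) *ᵥ w)) := by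
    intro w hw hww
    by_cases hws : w ∈ Submodule.span F {u₁}
    · obtain ⟨a, rfl⟩ := Submodule.mem_span_singleton.mp hws
      have ha : a ∈ F₀ := coef_rat hu₁ hu₁0 hw
      rw [Matrix.mulVec_smul, smul_comm]
      exact Rat.smul ha hr₁
    by_cases h1 : f u₁ w = 0
    · exact stepa u₁ w hu₁ hu₁u₁ hu₁0 hr₁ hw hww h1 hws
    obtain ⟨z, hz, hzz, hzp, hzp', hzn⟩ := C.ub.ex_rs ![u₁, w]
      (fun j => by fin_cases j; exact hu₁; exact hw) (by omega)
    have hu₁z : f u₁ z = 0 := hzp 0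
    have hzw : f z w = 0 := hzp' 1
    have hz0 : z ≠ 0 := by
      rintro rfl
      exact hzn (Submodule.zero_mem _)
    have hPz := stepa u₁ z hu₁ hu₁u₁ hu₁0 hr₁ hz hzz hu₁z (by
      intro hm
      obtain ⟨a, ha⟩ := Submodule.mem_span_singleton.mp hm
      apply hzn
      rw [mem_span_pair']
      exact ⟨a, 0, by rw [zero_smul, add_zero, ha]⟩)
    apply stepa z w hz hzz hz0 hPz hw hww hzw
    intro hm
    obtain ⟨a, ha⟩ := Submodule.mem_span_singleton.mp hm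
    apply h1
    rw [← ha, f_smul_right hf, hu₁z, mul_zero]
  -- step (c)
  apply mem_sub_one_of_rat (c := c₁⁻¹) (inv_ne_zero hc₁)
  intro x hx
  rw [inv_inv]
  obtain ⟨x₁, x₂, hx₁, hx₂, hQ₁, hQ₂, -, -, hsum⟩ := C.ub.rat_sum_rs
    (![] : Fin 0 → (Fin n → F)) (fun j => Fin.elim0 j) (by omega) hx (fun j => Fin.elim0 j)
    (by
      intro hxx hm
      have : Set.range (![] : Fin 0 → (Fin n → F)) = ∅ := Set.range_eq_empty _
      rw [this, Submodule.span_empty, Submodule.mem_bot] at hm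
      apply hxx
      rw [hm, f_zero_left hf])
  rw [hsum, Matrix.mulVec_add, smul_add]
  exact (stepb x₁ hx₁ hQ₁).add (stepb x₂ hx₂ hQ₂)

/-- Step D: if the parameter sets are rational then `H` lies in the subfield group -/
theorem UC.stepD [Finite F] (C : UC σ f F₀ G H)
    (hA : ∀ u v, TP F₀ f u v → ∀ a, a ∈ AA f σ H u v → a ∈ F₀) :
    H ≤ Cfsg.Geo.subfieldSubgroup F₀ (1 : GLn) := by
  intro h hh
  apply C.mem_sub_of_pts
  intro u hu huu hu0
  exact C.pt_rat hA hh hu huu hu0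

end Cfsg.Agent.Lib.Helper28.Uo
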