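import Cfsg.Agent.Lib.helper15.WB.Defs
import Cfsg.Agent.Lib.Helper28.UGen2
import Cfsg.Agent.Lib.Helper28.UHerm
import Cfsg.Agent.Lib.helper2.SUnP2
import Cfsg.Agent.Lib.helper2.SUnP5
import Cfsg.Agent.Lib.Lead.SLn

set_option autoImplicit false
set_option linter.unusedSectionVars false
set_option linter.unusedVariables false

namespace Cfsg.Agent.Lib.Helper28.WBN

open Matrix Cfsg.Agent.Lib.helper15.SUn Cfsg.Agent.Lib.helper15.WB
open Cfsg.Agent.Lib.Helper28.UGen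

variable {F : Type*} [Field F] [Fintype F] {n : ℕ} {q : ℕ} {σ : F ≃+* F}

/-- every isotropic vector is a transvection direction for the whole group -/
theorem dd_top (hσ : ∀ x, σ x = x ^ q)
    (hf : Cfsg.Geo.IsUnitaryForm σ (Cfsg.hermForm n F q)) (y : Fin n → F)
    (hy : Cfsg.hermForm n F q y y = 0) : y ∈ DD σ (⊤ : Subgroup ↥(Cfsg.SU n F q)) := by
  refine ⟨hy, fun c hc => ?_⟩
  exact ⟨mkSU (TV σ y c) (TV_det hσ hy c) (TV_iso hσ hf hy hc), Subgroup.mem_top _, coe_mkSU _ _ _⟩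

/-- a normal subgroup: `DD` is stable under the whole group -/
theorem dd_normal (hσ : ∀ x, σ x = x ^ q)
    (hf : Cfsg.Geo.IsUnitaryForm σ (Cfsg.hermForm n F q)) {K : Subgroup ↥(Cfsg.SU n F q)}
    (hK : K.Normal) {y : Fin n → F} (hy : y ∈ DD σ K) (B : ↥(Cfsg.SU n F q)) :
    ((B : Matrix.SpecialLinearGroup (Fin n) F) : Matrix (Fin n) (Fin n) F) *ᵥ y ∈ DD σ K := by
  obtain ⟨hy0, hyT⟩ := hy
  refine ⟨?_, fun c hc => ?_⟩
  · rw [su_iso B, hy0]
  · obtain ⟨A, hA, hAm⟩ := hyT c hc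
    refine ⟨B * A * B⁻¹, hK.conj_mem A hA B, ?_⟩
    rw [su_coe_mul, su_coe_mul, hAm]
    exact conj_TV hσ (su_mul_inv B) (su_iso B) y c

/-- the empty family is nondegenerate -/
theorem nd_empty (f : (Fin n → F) → (Fin n → F) → F) (a : Fin 0 → (Fin n → F)) : Nd f a := by
  refine ⟨linearIndependent_empty_type, fun v hv _ => ?_⟩
  have h1 : Set.range a = ∅ := Set.range_eq_empty a
  rw [h1, Submodule.span_empty, Submodule.mem_bot] at hv
  exact hv

/-- a normal subgroup containing the transvection group of one nonzero isotropic vector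
is everything -/
theorem normal_top (hF : Fintype.card F = q ^ 2) (hσ : ∀ x, σ x = x ^ q)
    (hf : Cfsg.Geo.IsUnitaryForm σ (Cfsg.hermForm n F q)) (hn : 3 ≤ n) (h32 : ¬ (n = 3 ∧ q = 2))
    {K : Subgroup ↥(Cfsg.SU n F q)} (hK : K.Normal) (y : Fin n → F) (hy0 : y ≠ 0)
    (hy : y ∈ DD σ K) : K = ⊤ := by
  apply Cfsg.Agent.Lib.helper2.SUnP2.top_of_dd (σ := σ) hF hσ hf hn h32
  intro v hv
  by_cases hv0 : v = 0
  · rw [hv0]
    exact Cfsg.Agent.Lib.helper2.SUnP2.dd_zero K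
  · let a : Fin 0 → (Fin n → F) := fun i => i.elim0
    obtain ⟨r, hr, hrv⟩ := h1 (σ := σ) hf a (nd_empty _ a) (by omega) y v hy0 hv0 hy.1 hv
      (fun i => i.elim0) (fun i => i.elim0)
    obtain ⟨B, _, hB⟩ := Cfsg.Agent.Lib.helper2.SUnP5.ra_inh hσ hf a
      (H := (⊤ : Subgroup ↥(Cfsg.SU n F q)))
      (fun z hz _ => dd_top hσ hf z hz) r hr
    have h2 := dd_normal hσ hf hK hy B
    rw [hB, hrv] at h2
    exact h2

theorem rho_TV_ne_one (hF : Fintype.card F = q ^ 2) (hσ : ∀ x, σ x = x ^ q)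
    (hf : Cfsg.Geo.IsUnitaryForm σ (Cfsg.hermForm n F q)) (hn : 3 ≤ n) (h32 : ¬ (n = 3 ∧ q = 2))
    {k : ℕ} (ρ : Representation ℂ ↥(Cfsg.SU n F q) (Fin k → ℂ)) (hirr : ρ.IsIrreducible)
    (hk : 2 ≤ k) (y : Fin n → F) (hy0 : y ≠ 0) (hy : Cfsg.hermForm n F q y y = 0) :
    ∃ (c : F) (A : ↥(Cfsg.SU n F q)), σ c = -c ∧
      ((A : Matrix.SpecialLinearGroup (Fin n) F) : Matrix (Fin n) (Fin n) F) = TV σ y c ∧
      ρ A ≠ 1 := by
  by_contra hcon
  have hall : ∀ (c : F) (A : ↥(Cfsg.SU n F q)), σ c = -c →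
      ((A : Matrix.SpecialLinearGroup (Fin n) F) : Matrix (Fin n) (Fin n) F) = TV σ y c →
      ρ A = 1 := by
    intro c A hc hA
    by_contra h
    exact hcon ⟨c, A, hc, hA, h⟩
  have hKn : (MonoidHom.ker ρ).Normal := MonoidHom.normal_ker ρ
  have hyK : y ∈ DD σ (MonoidHom.ker ρ) := by
    refine ⟨hy, fun c hc => ?_⟩
    refine ⟨mkSU (TV σ y c) (TV_det hσ hy c) (TV_iso hσ hf hy hc), ?_, coe_mkSU _ _ _⟩
    rw [MonoidHom.mem_ker]
    exact hall c _ hc (coe_mkSU _ _ _)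
  have htop := normal_top hF hσ hf hn h32 hKn y hy0 hyK
  have hone : ∀ g : ↥(Cfsg.SU n F q), ρ g = 1 := by
    intro g
    have : g ∈ MonoidHom.ker ρ := by rw [htop]; exact Subgroup.mem_top g
    exact MonoidHom.mem_ker.1 this
  -- the line spanned by the first basis vector is a subrepresentation
  let i0 : Fin k := ⟨0, by omega⟩
  let i1 : Fin k := ⟨1, by omega⟩
  let W : Subrepresentation ρ :=
    ⟨Submodule.span ℂ {(Pi.single i0 1 : Fin k → ℂ)}, fun g v hv => by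
      rw [hone g]; exact hv⟩
  have := hirr
  rcases eq_bot_or_eq_top W with hW | hW
  · have h1 : (Pi.single i0 1 : Fin k → ℂ) ∈ W.toSubmodule :=
      Submodule.subset_span (Set.mem_singleton _)
    rw [hW] at h1
    have h2 : (Pi.single i0 1 : Fin k → ℂ) = 0 := (Submodule.mem_bot ℂ).1 h1
    have h3 := congrFun h2 i0
    simp at h3
  · have h1 : (Pi.single i1 1 : Fin k → ℂ) ∈ W.toSubmodule := by
      rw [hW]
      exact Submodule.mem_top
    obtain ⟨c, hc⟩ := Submodule.mem_span_singleton.1 h1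
    have h3 := congrFun hc i1
    have hne : i1 ≠ i0 := by
      intro h
      have := congrArg Fin.val h
      simp [i0, i1] at this
    simp [hne] at h3

end Cfsg.Agent.Lib.Helper28.WBN
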