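import Mathlib
import Cfsg.Agent.Lib.Helper28.XsOC
import Cfsg.Agent.Lib.Helper28.AffB
import Cfsg.Agent.Lib.Helper16.OClass1

set_option autoImplicit false
open scoped commutatorElement

namespace Cfsg.Agent.Lib.Helper28.XsO

open Cfsg.Agent.Lib.Helper21 Cfsg.Agent.Lib.Helper20

variable {E : Type*} [Group E] {z : E} {ι : Type} {Q : (ι → ZMod 2) → ZMod 2}

theorem qE_mul_z (h : XS2 E z) (x : E) : qE (x * z) = qE x := by
  rw [qE_mul h, qE_z h, bE_z_right h, add_zero, add_zero]

namespace Coord

/-- coordinates from a surjection onto an elementary abelian group with kernel `{1, z}` -/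
noncomputable def ofHom (h : XS2 E z) (c : E →* Multiplicative (ι → ZMod 2))
    (hs : Function.Surjective c) (hk : ∀ x, c x = 1 ↔ x = 1 ∨ x = z) :
    Coord E z (fun v => qE (Function.surjInv hs (Multiplicative.ofAdd v))) where
  c := c
  surj := hs
  ker := hk
  sq := by
    intro x
    show qE (Function.surjInv hs (Multiplicative.ofAdd (c x).toAdd)) = qE x
    have h1 : c (Function.surjInv hs (Multiplicative.ofAdd (c x).toAdd)) = c x :=
      Function.surjInv_eq hs _
    have h2 : c (x⁻¹ * Function.surjInv hs (Multiplicative.ofAdd (c x).toAdd)) = 1 := by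
      rw [map_mul, map_inv, h1, inv_mul_cancel]
    rcases (hk _).mp h2 with e | e
    · rw [← inv_mul_eq_one.mp e]
    · have : Function.surjInv hs (Multiplicative.ofAdd (c x).toAdd) = x * z := by
        rw [← e]; group
      rw [this, qE_mul_z h]

/-- change of coordinates -/
def transport {ι' : Type} {Q' : (ι' → ZMod 2) → ZMod 2} (C : Coord E z Q)
    (Φ : (ι → ZMod 2) ≃+ (ι' → ZMod 2)) (hΦ : ∀ v, Q' (Φ v) = Q v) : Coord E z Q' where
  c := (AddMonoidHom.toMultiplicative Φ.toAddMonoidHom).comp C.c
  surj := by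
    intro w
    obtain ⟨x, hx⟩ := C.surj (Multiplicative.ofAdd (Φ.symm w.toAdd))
    refine ⟨x, ?_⟩
    show Multiplicative.ofAdd (Φ (C.c x).toAdd) = w
    rw [hx]
    show Multiplicative.ofAdd (Φ (Φ.symm w.toAdd)) = w
    rw [AddEquiv.apply_symm_apply]; rfl
  ker := by
    intro x
    rw [← C.ker]
    show Multiplicative.ofAdd (Φ (C.c x).toAdd) = 1 ↔ _
    constructor
    · intro h1
      have h2 : Φ (C.c x).toAdd = Φ 0 := by
        rw [map_zero]; exact congrArg Multiplicative.toAdd h1
      exact congrArg Multiplicative.ofAdd (Φ.injective h2)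
    · intro h1
      rw [h1]
      show Multiplicative.ofAdd (Φ 0) = 1
      rw [map_zero]; rfl
  sq := by
    intro x
    show Q' (Φ (C.c x).toAdd) = qE x
    rw [hΦ, C.sq]

theorem Q_zero (C : Coord E z Q) : Q 0 = 0 := by
  have := C.sq 1
  rw [map_one, qE_one] at this
  exact this

theorem Q_add (h : XS2 E z) (C : Coord E z Q) (x y : E) :
    Q ((C.c x).toAdd + (C.c y).toAdd) = Q (C.c x).toAdd + Q (C.c y).toAdd + bE x y := by
  have : (C.c x).toAdd + (C.c y).toAdd = (C.c (x * y)).toAdd := by rw [map_mul]; rfl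
  rw [this, C.sq, C.sq, C.sq, qE_mul h]

theorem polar_eq (h : XS2 E z) (C : Coord E z Q) (x y : E) :
    QuadraticMap.polar Q (C.c x).toAdd (C.c y).toAdd = bE x y := by
  unfold QuadraticMap.polar
  rw [C.Q_add h]
  ring

/-- the squaring form as a quadratic form -/
noncomputable def quadForm (h : XS2 E z) (C : Coord E z Q) :
    QuadraticForm (ZMod 2) (ι → ZMod 2) :=
  QuadraticMap.ofPolar Q
    (by
      intro a x
      have ha : a = 0 ∨ a = 1 := by revert a; decide
      rcases ha with rfl | rfl
      · rw [zero_smul, C.Q_zero]; simp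
      · simp)
    (by
      intro x x' y
      obtain ⟨a, rfl⟩ := C.exists_rep x
      obtain ⟨a', rfl⟩ := C.exists_rep x'
      obtain ⟨b, rfl⟩ := C.exists_rep y
      have : (C.c a).toAdd + (C.c a').toAdd = (C.c (a * a')).toAdd := by rw [map_mul]; rfl
      rw [this, C.polar_eq h, C.polar_eq h, C.polar_eq h, bE_mul_left h])
    (by
      intro a x y
      have ha : a = 0 ∨ a = 1 := by revert a; decide
      rcases ha with rfl | rfl
      · rw [zero_smul, zero_smul]
        unfold QuadraticMap.polar
        rw [zero_add, C.Q_zero]; ring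
      · simp)

theorem quadForm_apply (h : XS2 E z) (C : Coord E z Q) (v : ι → ZMod 2) :
    C.quadForm h v = Q v := rfl

theorem quadForm_nondegenerate (h : XS2 E z) (C : Coord E z Q) :
    (QuadraticMap.polarBilin (C.quadForm h)).Nondegenerate := by
  have key : ∀ x : E, (∀ y : E, bE x y = 0) → (C.c x).toAdd = 0 := by
    intro x hx
    have hc : ∀ y : E, x * y = y * x := fun y => (bE_eq_zero_iff x y).mp (hx y)
    have := (C.ker x).mpr (h.center x hc)
    rw [this]; rfl
  constructor
  · intro v hv
    obtain ⟨x, rfl⟩ := C.exists_rep v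
    apply key
    intro y
    have := hv (C.c y).toAdd
    rw [QuadraticMap.polarBilin_apply_apply] at this
    rw [← C.polar_eq h]
    exact this
  · intro v hv
    obtain ⟨x, rfl⟩ := C.exists_rep v
    apply key
    intro y
    have := hv (C.c y).toAdd
    rw [QuadraticMap.polarBilin_apply_apply] at this
    rw [bE_symm h, ← C.polar_eq h]
    exact this

end Coord

/-- standard coordinates on an extraspecial 2-group -/
theorem exists_coord_std [Finite E] (hE : Cfsg.IsExtraspecial 2 E) (n : ℕ) (hn : 1 ≤ n)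
    (hcard : Nat.card E = 2 ^ (2 * n + 1)) :
    ∃ z : E, XS2 E z ∧
      (Nonempty (Coord E z (Cfsg.quadFormPlus n (ZMod 2))) ∨
        Nonempty (Coord E z (Cfsg.quadFormMinus (n - 1) (ZMod 2) 1 1))) := by
  obtain ⟨z, h⟩ := XS2.exists_of_isExtraspecial hE
  refine ⟨z, h, ?_⟩
  obtain ⟨k, hk⟩ : ∃ k, 2 * n = k + 1 := ⟨2 * n - 1, by omega⟩
  -- the quotient by the centre
  let A := E ⧸ Subgroup.center E
  have hAc : ∀ a b : A, a * b = b * a := by
    intro a b
    induction a using QuotientGroup.induction_on with | _ x => ?_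
    induction b using QuotientGroup.induction_on with | _ y => ?_
    rw [← QuotientGroup.mk_mul, ← QuotientGroup.mk_mul, QuotientGroup.eq]
    have : (x * y)⁻¹ * (y * x) = ⁅y⁻¹, x⁻¹⁆ := by simp [commutatorElement_def, mul_assoc]
    rw [this, h.mem_center_iff]
    exact h.comm _ _
  have hA2 : ∀ a : A, a ^ 2 = 1 := by
    intro a
    induction a using QuotientGroup.induction_on with | _ x => ?_
    rw [← QuotientGroup.mk_pow, QuotientGroup.eq_one_iff, h.mem_center_iff]
    exact h.sq x
  have hAcard : Nat.card A = 2 ^ (k + 1) := by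
    have h1 := Subgroup.card_eq_card_quotient_mul_card_subgroup (Subgroup.center E)
    have hc2 : Nat.card (Subgroup.center E) = 2 := by rw [h.center_eq, h.card_zpowers]
    rw [hcard, hc2, pow_succ, hk] at h1
    exact (Nat.eq_of_mul_eq_mul_right (by norm_num) h1).symm
  have hnt : ∃ a : A, a ≠ 1 := by
    have : 1 < Nat.card A := by
      rw [hAcard]
      exact Nat.one_lt_two_pow (by omega)
    have : Nontrivial A := (Finite.one_lt_card_iff_nontrivial).mp this
    exact exists_ne 1
  obtain ⟨a0, ha0⟩ := hnt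
  obtain ⟨e0, -⟩ := Tv.exists_coords hAc hA2 hAcard a0 ha0
  let c0 : E →* Multiplicative (Fin (k + 1) → ZMod 2) :=
    e0.toMonoidHom.comp (QuotientGroup.mk' (Subgroup.center E))
  have hs : Function.Surjective c0 :=
    e0.surjective.comp (QuotientGroup.mk'_surjective _)
  have hker : ∀ x, c0 x = 1 ↔ x = 1 ∨ x = z := by
    intro x
    rw [← h.mem_center_iff]
    show e0 (QuotientGroup.mk x) = 1 ↔ _
    rw [MulEquiv.map_eq_one_iff, QuotientGroup.eq_one_iff]
  let C0 := Coord.ofHom h c0 hs hker
  have hcardι : Fintype.card (Fin (k + 1)) = 2 * n := by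
    rw [Fintype.card_fin, hk]
  rcases Cfsg.Agent.Lib.Helper16.OSemi.classify (F := ZMod 2) hn hcardι (C0.quadForm h)
    (C0.quadForm_nondegenerate h) with ⟨Φ, hΦ⟩ | ⟨ζ, hζ, Φ, hΦ⟩
  · left
    exact ⟨C0.transport Φ.symm.toAddEquiv (fun v => by
      have := hΦ (Φ.symm v)
      rw [LinearEquiv.apply_symm_apply] at this
      exact this.symm)⟩
  · right
    have hζ1 : ζ = 1 := by
      have h0 := hζ 0
      have : ∀ a : ZMod 2, (0 : ZMod 2) ^ 2 + 0 + a ≠ 0 → a = 1 := by decide
      exact this ζ h0
    subst hζ1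
    exact ⟨C0.transport Φ.symm.toAddEquiv (fun v => by
      have := hΦ (Φ.symm v)
      rw [LinearEquiv.apply_symm_apply] at this
      exact this.symm)⟩

end Cfsg.Agent.Lib.Helper28.XsO
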