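import Mathlib
import Cfsg.Prelude.Def_Transfer
import Cfsg.Agent.Lib.Helper28.XsOD
import Cfsg.Agent.Lib.helper15.QuadF2Witt

set_option autoImplicit false
open scoped commutatorElement

namespace Cfsg.Agent.Lib.Helper28.XsO

open Cfsg.Agent.Lib.Helper21 Cfsg.Agent.Lib.Helper20 Cfsg.Agent.Lib.helper15

variable {E : Type*} [Group E] {z : E} {ι : Type} {Q : (ι → ZMod 2) → ZMod 2}

/-- a submodule as a subgroup of the multiplicative copy -/
def subOf (U : Submodule (ZMod 2) (ι → ZMod 2)) : Subgroup (Multiplicative (ι → ZMod 2)) where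
  carrier := {m | m.toAdd ∈ U}
  one_mem' := U.zero_mem
  mul_mem' := fun ha hb => U.add_mem ha hb
  inv_mem' := fun ha => U.neg_mem ha

theorem mem_subOf (U : Submodule (ZMod 2) (ι → ZMod 2)) (m : Multiplicative (ι → ZMod 2)) :
    m ∈ subOf U ↔ m.toAdd ∈ U := Iff.rfl

theorem card_subOf (U : Submodule (ZMod 2) (ι → ZMod 2)) : Nat.card (subOf U) = Nat.card U :=
  Nat.card_congr
    { toFun := fun m => ⟨m.1.toAdd, m.2⟩
      invFun := fun u => ⟨Multiplicative.ofAdd u.1, u.2⟩
      left_inv := fun _ => rfl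
      right_inv := fun _ => rfl }

theorem card_submodule [Finite ι] (U : Submodule (ZMod 2) (ι → ZMod 2)) :
    Nat.card U = 2 ^ Module.finrank (ZMod 2) ↥U := by
  have h := Module.natCard_eq_pow_finrank (K := ZMod 2) (V := ↥U)
  rw [Nat.card_zmod] at h
  exact h

/-- the submodule attached to a subgroup of the multiplicative copy -/
def modOf (S : Subgroup (Multiplicative (ι → ZMod 2))) : Submodule (ZMod 2) (ι → ZMod 2) where
  carrier := {v | Multiplicative.ofAdd v ∈ S}
  zero_mem' := S.one_mem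
  add_mem' := fun ha hb => S.mul_mem ha hb
  smul_mem' := by
    intro a v hv
    have ha : a = 0 ∨ a = 1 := by revert a; decide
    rcases ha with rfl | rfl
    · rw [zero_smul]; exact S.one_mem
    · rw [one_smul]; exact hv

theorem subOf_modOf (S : Subgroup (Multiplicative (ι → ZMod 2))) : subOf (modOf S) = S := by
  ext m
  rfl

namespace Coord

theorem card_comap [Finite E] [Fintype ι] [DecidableEq ι] (C : Coord E z Q)
    (hE : Nat.card E = 2 * 2 ^ Fintype.card ι) (S : Subgroup (Multiplicative (ι → ZMod 2))) :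
    Nat.card (S.comap C.c) = 2 * Nat.card S := by
  have hM : Nat.card (Multiplicative (ι → ZMod 2)) = 2 ^ Fintype.card ι := by
    rw [Nat.card_congr Multiplicative.toAdd, Nat.card_eq_fintype_card, Fintype.card_fun,
      ZMod.card]
  have h1 := Subgroup.card_mul_index (S.comap C.c)
  have h2 := Subgroup.card_mul_index S
  rw [Subgroup.index_comap_of_surjective S C.surj, hE] at h1
  rw [hM] at h2
  rw [← h2] at h1
  have hidx : 0 < S.index := Nat.pos_of_ne_zero Subgroup.index_ne_zero_of_finite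
  have h3 : Nat.card (S.comap C.c) * S.index = (2 * Nat.card S) * S.index := by
    rw [h1]; ring
  exact Nat.eq_of_mul_eq_mul_right hidx h3

/-- plus type: there is an elementary abelian subgroup of order `2^(n+1)` -/
theorem exists_elementary_of_plus [Finite E] (h : XS2 E z) (n : ℕ)
    (C : Coord E z (Cfsg.quadFormPlus n (ZMod 2))) (hcard : Nat.card E = 2 ^ (2 * n + 1)) :
    ∃ A : Subgroup E, Cfsg.IsElementaryAbelian 2 A ∧ Nat.card ↥A = 2 ^ (n + 1) := by
  obtain ⟨U, hU, hr⟩ := exists_singular_plus n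
  have hE : Nat.card E = 2 * 2 ^ Fintype.card (Fin n ⊕ Fin n) := by
    rw [hcard, Fintype.card_sum, Fintype.card_fin, pow_succ]
    ring
  have hsq : ∀ a ∈ (subOf U).comap C.c, a ^ 2 = 1 := by
    intro a ha
    rw [← qE_eq_zero_iff, ← C.sq]
    exact hU _ ha
  refine ⟨(subOf U).comap C.c, ⟨⟨⟨fun a b => Subtype.ext ?_⟩⟩, hsq⟩, ?_⟩
  · exact XS2.comm_of_sq_one _ hsq a a.2 b b.2
  · rw [C.card_comap hE, card_subOf, card_submodule, hr, pow_succ]
    ring

/-- minus type: there is no elementary abelian subgroup of order `2^(n+1)` -/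
theorem no_elementary_of_minus [Finite E] (h : XS2 E z) (n : ℕ) (hn : 1 ≤ n)
    (C : Coord E z (Cfsg.quadFormMinus (n - 1) (ZMod 2) 1 1))
    (hcard : Nat.card E = 2 ^ (2 * n + 1)) :
    ¬ ∃ A : Subgroup E, Cfsg.IsElementaryAbelian 2 A ∧ Nat.card ↥A = 2 ^ (n + 1) := by
  rintro ⟨A, ⟨-, hA2⟩, hAc⟩
  have hE : Nat.card E = 2 * 2 ^ Fintype.card ((Fin (n - 1) ⊕ Fin (n - 1)) ⊕ Fin 2) := by
    rw [hcard, Fintype.card_sum, Fintype.card_sum, Fintype.card_fin, Fintype.card_fin]
    have : n - 1 + (n - 1) + 2 = 2 * n := by omega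
    rw [this, pow_succ]
    ring
  let S := A.map C.c
  have hU : ∀ u ∈ modOf S, QM (n - 1) u = 0 := by
    intro u hu
    obtain ⟨a, ha, hau⟩ := hu
    have : u = (C.c a).toAdd := by rw [hau]; rfl
    rw [this]
    show Cfsg.quadFormMinus (n - 1) (ZMod 2) 1 1 (C.c a).toAdd = 0
    rw [C.sq, qE_eq_zero_iff]
    exact hA2 a ha
  have hr := finrank_le_minus (n - 1) (modOf S) hU
  have h1 : Nat.card S ≤ 2 ^ (n - 1) := by
    rw [← subOf_modOf S, card_subOf, card_submodule]
    exact Nat.pow_le_pow_right (by norm_num) hr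
  have h2 : Nat.card A ≤ Nat.card (S.comap C.c) :=
    Subgroup.card_le_of_le (Subgroup.le_comap_map C.c A)
  rw [C.card_comap hE, hAc] at h2
  have h3 : 2 * Nat.card S ≤ 2 ^ n := by
    calc 2 * Nat.card S ≤ 2 * 2 ^ (n - 1) := Nat.mul_le_mul_left _ h1
      _ = 2 ^ (n - 1 + 1) := by rw [pow_succ]; ring
      _ = 2 ^ n := by rw [Nat.sub_add_cancel hn]
  have h4 : 2 ^ n < 2 ^ (n + 1) := Nat.pow_lt_pow_right (by norm_num) (by omega)
  omega

end Coord

end Cfsg.Agent.Lib.Helper28.XsO
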