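import Mathlib
import Cfsg.Agent.Lib.Helper28.XsOC

set_option autoImplicit false
open scoped commutatorElement

namespace Cfsg.Agent.Lib.Helper28.XsO

open Cfsg.Agent.Lib.Helper21 Cfsg.Agent.Lib.Helper20

variable {E : Type*} [Group E] {z : E} {ι : Type} {Q : (ι → ZMod 2) → ZMod 2}

namespace Coord

/-- an involutory automorphism inverts every `y⁻¹ α(y)`, also up to the centre -/
theorem inv_of_involution (h : XS2 E z) (C : Coord E z Q) (α : E ≃* E)
    (hα : ∀ x, α (α x) = x) (y w : E) (hw : C.c w = C.c (y⁻¹ * α y)) : α w = w⁻¹ := by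
  have h0 : α (y⁻¹ * α y) = (y⁻¹ * α y)⁻¹ := by
    rw [map_mul, map_inv, hα, mul_inv_rev, inv_inv]
  rcases (C.c_eq_iff (y⁻¹ * α y) w).mp hw.symm with e | e
  · rw [e, h0]
  · calc α w = α (y⁻¹ * α y) * α z := by rw [e, map_mul]
      _ = (y⁻¹ * α y)⁻¹ * z := by rw [h0, aut_z h]
      _ = (y⁻¹ * α y * z)⁻¹ := by
        rw [mul_inv_rev (y⁻¹ * α y) z, h.z_inv]
        exact h.z_comm _
      _ = w⁻¹ := by rw [e]

variable [Fintype ι] [DecidableEq ι]

/-- lifting an isometry into a complement of the inner automorphisms -/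
theorem exists_lift_in [Finite E] (h : XS2 E z) (C : Coord E z Q) (L : Subgroup (MulAut E))
    (hL : (Cfsg.Inn E).IsComplement' L) (φ : (ι → ZMod 2) ≃+ (ι → ZMod 2))
    (hφ : ∀ v, Q (φ v) = Q v) :
    ∃ α ∈ L, ∀ x, (C.c (α x)).toAdd = φ (C.c x).toAdd := by
  obtain ⟨β, hβ⟩ := C.exists_lift h φ hφ
  obtain ⟨⟨⟨i, hi⟩, ⟨l, hl⟩⟩, hil⟩ := hL.2 β
  have hil' : i * l = β := hil
  obtain ⟨g, rfl⟩ := hi
  refine ⟨l, hl, fun x => ?_⟩
  rw [← hβ x, ← hil']
  show (C.c (l x)).toAdd = (C.c (g * l x * g⁻¹)).toAdd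
  have : C.c (g * l x * g⁻¹) = C.c (l x) := by
    rw [C.c.map_mul, C.c.map_mul, C.c.map_inv, mul_comm (C.c g), mul_assoc, mul_inv_cancel,
      mul_one]
  rw [this]

theorem eq_of_lift_eq [Finite E] (h : XS2 E z) (C : Coord E z Q) (L : Subgroup (MulAut E))
    (hL : (Cfsg.Inn E).IsComplement' L) {α α' : MulAut E} (hα : α ∈ L) (hα' : α' ∈ L)
    (heq : ∀ x, C.c (α x) = C.c (α' x)) : α = α' := by
  have hγL : α'⁻¹ * α ∈ L := L.mul_mem (L.inv_mem hα') hα
  have hγ : ∀ x, C.c ((α'⁻¹ * α) x) = C.c x := by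
    intro x
    have h1 := C.c_aut h (α'⁻¹ : MulAut E) (heq x)
    rw [show (α'⁻¹ : MulAut E) (α' x) = x from (α' : E ≃* E).symm_apply_apply x] at h1
    exact h1
  have hγI : α'⁻¹ * α ∈ Cfsg.Inn E := by
    rw [← C.glHom_ker h, MonoidHom.mem_ker, C.glHom_eq_one_iff h]
    exact hγ
  have hbot : α'⁻¹ * α ∈ Cfsg.Inn E ⊓ L := ⟨hγI, hγL⟩
  rw [hL.disjoint.eq_bot, Subgroup.mem_bot] at hbot
  exact (inv_mul_eq_one.mp hbot).symm

/-- a four-group obstruction to splitting -/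
theorem not_isComplement' [Finite E] (h : XS2 E z) (C : Coord E z Q)
    (s u : (ι → ZMod 2) ≃+ (ι → ZMod 2)) (hs : ∀ v, Q (s v) = Q v) (hu : ∀ v, Q (u v) = Q v)
    (hs2 : ∀ v, s (s v) = v) (hu2 : ∀ v, u (u v) = v) (hsu : ∀ v, s (u v) = u (s v))
    (v0 v1 v2 v3 : ι → ZMod 2) (h0 : Q v0 = 1) (h1 : s v1 + v1 = v0) (h2 : u v2 + v2 = v0)
    (h3 : s (u v3) + v3 = v0) (L : Subgroup (MulAut E)) : ¬ (Cfsg.Inn E).IsComplement' L := by
  intro hL
  obtain ⟨σ, hσL, hσ⟩ := C.exists_lift_in h L hL s hs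
  obtain ⟨μ, hμL, hμ⟩ := C.exists_lift_in h L hL u hu
  have ofAdd_inj : ∀ {a b : E}, (C.c a).toAdd = (C.c b).toAdd → C.c a = C.c b :=
    fun hab => congrArg Multiplicative.ofAdd hab
  have hσ2 : σ * σ = 1 := by
    apply C.eq_of_lift_eq h L hL (L.mul_mem hσL hσL) L.one_mem
    intro x
    apply ofAdd_inj
    rw [MulAut.mul_apply, MulAut.one_apply, hσ, hσ, hs2]
  have hμ2 : μ * μ = 1 := by
    apply C.eq_of_lift_eq h L hL (L.mul_mem hμL hμL) L.one_mem
    intro x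
    apply ofAdd_inj
    rw [MulAut.mul_apply, MulAut.one_apply, hμ, hμ, hu2]
  have hσμ : σ * μ = μ * σ := by
    apply C.eq_of_lift_eq h L hL (L.mul_mem hσL hμL) (L.mul_mem hμL hσL)
    intro x
    apply ofAdd_inj
    rw [MulAut.mul_apply, MulAut.mul_apply, hσ, hμ, hμ, hσ, hsu]
  have hσ2' : ∀ x, σ (σ x) = x := fun x => by
    have := congrArg (fun α : MulAut E => α x) hσ2
    simpa [MulAut.mul_apply] using this
  have hμ2' : ∀ x, μ (μ x) = x := fun x => by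
    have := congrArg (fun α : MulAut E => α x) hμ2
    simpa [MulAut.mul_apply] using this
  have hσμ' : ∀ x, σ (μ x) = μ (σ x) := fun x => by
    have := congrArg (fun α : MulAut E => α x) hσμ
    simpa [MulAut.mul_apply] using this
  have hτ2' : ∀ x, (σ * μ) ((σ * μ) x) = x := fun x => by
    rw [MulAut.mul_apply, MulAut.mul_apply, hσμ' (σ (μ x)), hσ2', hμ2']
  obtain ⟨w, rfl⟩ := C.exists_rep v0
  obtain ⟨y1, rfl⟩ := C.exists_rep v1
  obtain ⟨y2, rfl⟩ := C.exists_rep v2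
  obtain ⟨y3, rfl⟩ := C.exists_rep v3
  have neg_eq : ∀ a : ι → ZMod 2, -a = a := by
    intro a
    funext i
    have : ∀ t : ZMod 2, -t = t := by decide
    exact this (a i)
  have e1 : C.c w = C.c (y1⁻¹ * σ y1) := by
    apply ofAdd_inj
    rw [← h1, map_mul, map_inv, toAdd_mul, toAdd_inv, hσ, neg_eq, add_comm]
  have e2 : C.c w = C.c (y2⁻¹ * μ y2) := by
    apply ofAdd_inj
    rw [← h2, map_mul, map_inv, toAdd_mul, toAdd_inv, hμ, neg_eq, add_comm]
  have e3 : C.c w = C.c (y3⁻¹ * (σ * μ) y3) := by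
    apply ofAdd_inj
    rw [← h3, map_mul, map_inv, toAdd_mul, toAdd_inv, MulAut.mul_apply, hσ, hμ, neg_eq, add_comm]
  have i1 := C.inv_of_involution h σ hσ2' y1 w e1
  have i2 := C.inv_of_involution h μ hμ2' y2 w e2
  have i3 := C.inv_of_involution h (σ * μ) hτ2' y3 w e3
  rw [MulAut.mul_apply, i2, map_inv, i1, inv_inv] at i3
  have hw2 : w ^ 2 = 1 := by
    rw [pow_two]
    calc w * w = w * w⁻¹ := by rw [← i3]
      _ = 1 := mul_inv_cancel w
  have := (qE_eq_zero_iff w).mpr hw2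
  rw [← C.sq, h0] at this
  exact one_ne_zero this

end Coord

end Cfsg.Agent.Lib.Helper28.XsO
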