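import Mathlib
import Cfsg.Agent.Lib.Helper28.XsOF
import Cfsg.Agent.Lib.helper15.QuadF2Plus

set_option autoImplicit false

namespace Cfsg.Agent.Lib.Helper28.XsO

open Cfsg.Agent.Lib.helper15

namespace PlusT

variable (n : ℕ)

theorem z2_cases (c : ZMod 2) : c = 0 ∨ c = 1 := by revert c; decide

theorem BP_smul_left (c : ZMod 2) (x w : VP n) : BP n (c • x) w = c * BP n x w := by
  rcases z2_cases c with rfl | rfl
  · rw [zero_smul, zero_mul, BP_symm]; exact (isQuadPair_QP n).B_zero_right w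
  · rw [one_smul, one_mul]

theorem T_apply (w v : VP n) : transvEquiv n w v = v + BP n v w • w := rfl

theorem T_iso (w : VP n) (hw : QP n w = 1) (v : VP n) : QP n (transvEquiv n w v) = QP n v := by
  rw [T_apply]
  rcases z2_cases (BP n v w) with h | h
  · rw [h, zero_smul, add_zero]
  · rw [h, one_smul, QP_polar, hw, h]
    have : ∀ a : ZMod 2, a + 1 + 1 = a := by decide
    exact this _

theorem T_invol (w v : VP n) : transvEquiv n w (transvEquiv n w v) = v :=
  transvLin_involutive n w v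

/-- the three standard nonsingular vectors -/
def e (j : Fin n) : VP n := Pi.single (Sum.inl j) 1
def f (j : Fin n) : VP n := Pi.single (Sum.inr j) 1
def a (j : Fin n) : VP n := e n j + f n j

theorem QP_single (p : Fin n ⊕ Fin n) : QP n (Pi.single p 1) = 0 := by
  show Cfsg.quadFormPlus n (ZMod 2) (Pi.single p 1) = 0
  unfold Cfsg.quadFormPlus
  apply Finset.sum_eq_zero
  intro i _
  rcases p with j | j
  · rw [Pi.single_apply (Sum.inl j) (1 : ZMod 2) (Sum.inr i)]
    simp
  · rw [Pi.single_apply (Sum.inr j) (1 : ZMod 2) (Sum.inl i)]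
    simp

/-- the functional `B(·, a j)` -/
theorem BP_a (j : Fin n) (v : VP n) : BP n v (a n j) = v (Sum.inl j) + v (Sum.inr j) := by
  rw [BP_symm, a, BP_add_left, e, f, BP_single_inl, BP_single_inr, add_comm]

theorem QP_a (j : Fin n) : QP n (a n j) = 1 := by
  rw [a, QP_polar, e, f, QP_single, QP_single, BP_single_inl]
  simp

theorem a_inl (i j : Fin n) : a n j (Sum.inl i) = if i = j then 1 else 0 := by
  simp only [a, e, f, Pi.add_apply, Pi.single_apply]
  by_cases h : i = j <;> simp [h]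

theorem a_inr (i j : Fin n) : a n j (Sum.inr i) = if i = j then 1 else 0 := by
  simp only [a, e, f, Pi.add_apply, Pi.single_apply]
  by_cases h : i = j <;> simp [h]

theorem BP_a_a (i j : Fin n) : BP n (a n i) (a n j) = 0 := by
  rw [BP_a, a_inl, a_inr]
  by_cases h : j = i <;> simp [h]
  · decide

theorem f_inl (i j : Fin n) : f n j (Sum.inl i) = 0 := by
  simp [f]

theorem f_inr (i j : Fin n) : f n j (Sum.inr i) = if i = j then 1 else 0 := by
  simp only [f, Pi.single_apply]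
  by_cases h : i = j <;> simp [h]

theorem BP_f_a (i j : Fin n) : BP n (f n i) (a n j) = if j = i then 1 else 0 := by
  rw [BP_a, f_inl, f_inr, zero_add]

theorem vp_add_self (v : VP n) : v + v = 0 := by
  funext i
  exact zmod2_add_self (v i)

theorem T_two {w w' : VP n} (h : BP n w w' = 0) (v : VP n) :
    transvEquiv n w (transvEquiv n w' v) = v + BP n v w • w + BP n v w' • w' := by
  rw [T_apply n w, T_apply n w', BP_add_left, BP_smul_left, BP_symm n w' w, h, mul_zero, add_zero]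
  abel

theorem T_comm {w w' : VP n} (h : BP n w w' = 0) (v : VP n) :
    transvEquiv n w (transvEquiv n w' v) = transvEquiv n w' (transvEquiv n w v) := by
  rw [T_two n h, T_two n (by rw [BP_symm]; exact h)]
  abel

theorem T_three {w1 w2 w3 : VP n} (h12 : BP n w1 w2 = 0) (h13 : BP n w1 w3 = 0)
    (h23 : BP n w2 w3 = 0) (v : VP n) :
    transvEquiv n w1 (transvEquiv n w2 (transvEquiv n w3 v)) =
      v + BP n v w1 • w1 + BP n v w2 • w2 + BP n v w3 • w3 := by
  rw [T_two n h23, T_apply n w1, BP_add_left, BP_add_left, BP_smul_left, BP_smul_left,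
    BP_symm n w2 w1, BP_symm n w3 w1, h12, h13, mul_zero, mul_zero, add_zero, add_zero]
  abel

section data

variable {n} (hn : 3 ≤ n)

/-- the three indices -/
def j0 : Fin n := ⟨0, by omega⟩
def j1 : Fin n := ⟨1, by omega⟩
def j2 : Fin n := ⟨2, by omega⟩

theorem j01 : j0 hn ≠ j1 hn := by simp [j0, j1, Fin.ext_iff]
theorem j02 : j0 hn ≠ j2 hn := by simp [j0, j2, Fin.ext_iff]
theorem j12 : j1 hn ≠ j2 hn := by simp [j1, j2, Fin.ext_iff]

def a0 : VP n := a n (j0 hn)
def a1 : VP n := a n (j1 hn)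
def a2 : VP n := a n (j2 hn)
def dd : VP n := a0 hn + a1 hn + a2 hn

theorem BP_dd (v : VP n) : BP n v (dd hn) = BP n v (a0 hn) + BP n v (a1 hn) + BP n v (a2 hn) := by
  rw [dd, BP_add_right, BP_add_right]

theorem BP_a_dd (j : Fin n) : BP n (a n j) (dd hn) = 0 := by
  rw [BP_dd, a0, a1, a2, BP_a_a, BP_a_a, BP_a_a]
  simp

theorem QP_dd : QP n (dd hn) = 1 := by
  rw [dd, QP_polar, QP_polar, BP_add_left, a0, a1, a2, QP_a, QP_a, QP_a, BP_a_a, BP_a_a, BP_a_a]
  decide

/-- the first involution `t₀ t₁ t₂` -/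
def sFun (v : VP n) : VP n :=
  transvEquiv n (a0 hn) (transvEquiv n (a1 hn) (transvEquiv n (a2 hn) v))

/-- the second involution `t₂ t_d` -/
def uFun (v : VP n) : VP n := transvEquiv n (a2 hn) (transvEquiv n (dd hn) v)

theorem h01 : BP n (a0 hn) (a1 hn) = 0 := BP_a_a n _ _
theorem h02 : BP n (a0 hn) (a2 hn) = 0 := BP_a_a n _ _
theorem h12 : BP n (a1 hn) (a2 hn) = 0 := BP_a_a n _ _
theorem h10 : BP n (a1 hn) (a0 hn) = 0 := BP_a_a n _ _
theorem h20 : BP n (a2 hn) (a0 hn) = 0 := BP_a_a n _ _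
theorem h21 : BP n (a2 hn) (a1 hn) = 0 := BP_a_a n _ _
theorem h0d : BP n (a0 hn) (dd hn) = 0 := BP_a_dd hn _
theorem h1d : BP n (a1 hn) (dd hn) = 0 := BP_a_dd hn _
theorem h2d : BP n (a2 hn) (dd hn) = 0 := BP_a_dd hn _
theorem hd0 : BP n (dd hn) (a0 hn) = 0 := by rw [BP_symm]; exact h0d hn
theorem hd1 : BP n (dd hn) (a1 hn) = 0 := by rw [BP_symm]; exact h1d hn
theorem hd2 : BP n (dd hn) (a2 hn) = 0 := by rw [BP_symm]; exact h2d hn

theorem QP_a0 : QP n (a0 hn) = 1 := QP_a n _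
theorem QP_a1 : QP n (a1 hn) = 1 := QP_a n _
theorem QP_a2 : QP n (a2 hn) = 1 := QP_a n _

theorem sFun_iso (v : VP n) : QP n (sFun hn v) = QP n v := by
  unfold sFun
  rw [T_iso n (a0 hn) (QP_a0 hn), T_iso n (a1 hn) (QP_a1 hn), T_iso n (a2 hn) (QP_a2 hn)]

theorem uFun_iso (v : VP n) : QP n (uFun hn v) = QP n v := by
  unfold uFun
  rw [T_iso n (a2 hn) (QP_a2 hn), T_iso n (dd hn) (QP_dd hn)]

theorem sFun_sFun (v : VP n) : sFun hn (sFun hn v) = v := by
  unfold sFun
  rw [T_comm n (h20 hn), T_comm n (h10 hn), T_invol, T_comm n (h21 hn), T_invol, T_invol]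

theorem uFun_uFun (v : VP n) : uFun hn (uFun hn v) = v := by
  unfold uFun
  rw [T_comm n (hd2 hn), T_invol, T_invol]

theorem sFun_uFun (v : VP n) : sFun hn (uFun hn v) = uFun hn (sFun hn v) := by
  unfold sFun uFun
  rw [T_invol, T_comm n (hd0 hn), T_comm n (hd1 hn), T_comm n (hd2 hn), T_comm n (h20 hn),
    T_comm n (h21 hn), T_invol]

theorem sFun_eq (v : VP n) : sFun hn v =
    v + BP n v (a0 hn) • a0 hn + BP n v (a1 hn) • a1 hn + BP n v (a2 hn) • a2 hn :=
  T_three n (h01 hn) (h02 hn) (h12 hn) v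

theorem uFun_eq (v : VP n) : uFun hn v =
    v + BP n v (a2 hn) • a2 hn + BP n v (dd hn) • dd hn :=
  T_two n (h2d hn) v

theorem sFun_add (v w : VP n) : sFun hn (v + w) = sFun hn v + sFun hn w := by
  unfold sFun
  rw [map_add, map_add, map_add]

theorem uFun_add (v w : VP n) : uFun hn (v + w) = uFun hn v + uFun hn w := by
  unfold uFun
  rw [map_add, map_add]

def sEquiv : VP n ≃+ VP n where
  toFun := sFun hn
  invFun := sFun hn
  left_inv := sFun_sFun hn
  right_inv := sFun_sFun hn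
  map_add' := sFun_add hn

def uEquiv : VP n ≃+ VP n where
  toFun := uFun hn
  invFun := uFun hn
  left_inv := uFun_uFun hn
  right_inv := uFun_uFun hn
  map_add' := uFun_add hn

/-- test vectors -/
def v1 : VP n := f n (j2 hn)
def v2 : VP n := f n (j2 hn) + f n (j0 hn)
def v3 : VP n := f n (j0 hn) + f n (j1 hn) + f n (j2 hn)

theorem eq1 : sFun hn (v1 hn) + v1 hn = a2 hn := by
  rw [sFun_eq, v1, a0, a1, a2, BP_f_a, BP_f_a, BP_f_a, if_neg (j02 hn), if_neg (j12 hn),
    if_pos rfl, zero_smul, zero_smul, one_smul, add_zero, add_zero, add_comm, ← add_assoc,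
    vp_add_self, zero_add]

theorem eq2 : uFun hn (v2 hn) + v2 hn = a2 hn := by
  rw [uFun_eq, BP_dd, v2, BP_add_left, BP_add_left, BP_add_left, a0, a1, a2, BP_f_a, BP_f_a,
    BP_f_a, BP_f_a, BP_f_a, BP_f_a, if_neg (j02 hn), if_neg (j12 hn), if_pos rfl, if_pos rfl,
    if_neg (j01 hn).symm, if_neg (j02 hn).symm]
  have e : ((0 : ZMod 2) + 1 + (0 + 0) + (1 + 0)) = 0 := by decide
  rw [e, zero_smul, add_zero, add_zero, one_smul, add_comm, ← add_assoc, vp_add_self, zero_add]

theorem eq3 : sFun hn (uFun hn (v3 hn)) + v3 hn = a2 hn := by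
  have hB : ∀ j : Fin n, BP n (uFun hn (v3 hn)) (a n j) = BP n (v3 hn) (a n j) := by
    intro j
    rw [uFun_eq, BP_add_left, BP_add_left, BP_smul_left, BP_smul_left, a2, BP_a_a,
      BP_symm n (dd hn), BP_a_dd, mul_zero, mul_zero, add_zero, add_zero]
  rw [sFun_eq, a0, a1, a2, hB, hB, hB, uFun_eq, BP_dd, a0, a1, a2]
  have hv : ∀ j : Fin n, j = j0 hn ∨ j = j1 hn ∨ j = j2 hn → BP n (v3 hn) (a n j) = 1 := by
    intro j hj
    rw [v3, BP_add_left, BP_add_left, BP_f_a, BP_f_a, BP_f_a]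
    rcases hj with rfl | rfl | rfl
    · rw [if_pos rfl, if_neg (j01 hn), if_neg (j02 hn)]; decide
    · rw [if_neg (j01 hn).symm, if_pos rfl, if_neg (j12 hn)]; decide
    · rw [if_neg (j02 hn).symm, if_neg (j12 hn).symm, if_pos rfl]; decide
  rw [hv _ (Or.inl rfl), hv _ (Or.inr (Or.inl rfl)), hv _ (Or.inr (Or.inr rfl))]
  have e : ((1 : ZMod 2) + 1 + 1) = 1 := by decide
  rw [e]
  simp only [one_smul]
  rw [dd, a0, a1, a2]
  funext i
  simp only [Pi.add_apply]
  have : ∀ v x y w : ZMod 2, v + w + (x + y + w) + x + y + w + v = w := by decide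
  exact this (v3 hn i) (a n (j0 hn) i) (a n (j1 hn) i) (a n (j2 hn) i)

end data

end PlusT

end Cfsg.Agent.Lib.Helper28.XsO
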