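import Mathlib
import Cfsg.Agent.Lib.Helper1.Frat

set_option autoImplicit false

namespace Cfsg.Agent.Lib.Helper28.XsQ

variable {W : Type*} [Group W]

/-- fixed-point subgroup of an automorphism -/
def fix (φ : MulAut W) : Subgroup W where
  carrier := {x | φ x = x}
  mul_mem' := by
    intro a b ha hb
    simp only [Set.mem_ofPred_eq] at *
    rw [map_mul, ha, hb]
  one_mem' := map_one φ
  inv_mem' := by
    intro a ha
    simp only [Set.mem_ofPred_eq] at *
    rw [map_inv, ha]

theorem mem_fix {φ : MulAut W} {x : W} : x ∈ fix φ ↔ φ x = x := Iff.rfl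

theorem pow_succ_apply (φ : MulAut W) (j : ℕ) (x : W) : (φ ^ (j + 1)) x = φ ((φ ^ j) x) := by
  rw [pow_succ', MulAut.mul_apply]

theorem pow_succ_apply' (φ : MulAut W) (j : ℕ) (x : W) : (φ ^ (j + 1)) x = (φ ^ j) (φ x) := by
  rw [pow_succ, MulAut.mul_apply]

theorem pow_apply_of_fix {φ : MulAut W} {x : W} (h : φ x = x) (j : ℕ) : (φ ^ j) x = x := by
  induction j with
  | zero => simp
  | succ j ih => rw [pow_succ_apply, ih, h]

theorem fix_le_fix_pow (φ : MulAut W) (j : ℕ) : fix φ ≤ fix (φ ^ j) := fun _ hx =>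
  pow_apply_of_fix hx j

theorem commute_apply {φ ψ : MulAut W} (h : φ * ψ = ψ * φ) (x : W) : φ (ψ x) = ψ (φ x) := by
  rw [← MulAut.mul_apply, h, MulAut.mul_apply]

theorem fix_invariant {φ ψ : MulAut W} (h : φ * ψ = ψ * φ) {x : W} (hx : x ∈ fix φ) :
    ψ x ∈ fix φ := by
  rw [mem_fix] at *
  rw [commute_apply h, hx]

/-- Coprime action: a coset of an invariant subgroup of order prime to `p` that is
stabilized by an automorphism of `p`-power order contains a fixed point. -/
theorem exists_fix_in_coset [Finite W] {p k : ℕ} [Fact p.Prime] (φ : MulAut W)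
    (hφ : φ ^ p ^ k = 1) (N : Subgroup W) (hN : ∀ n ∈ N, φ n ∈ N)
    (hcop : ¬ p ∣ Nat.card N) (w : W) (hw : w⁻¹ * φ w ∈ N) :
    ∃ n ∈ N, φ (w * n) = w * n := by
  classical
  have := Fintype.ofFinite N
  let f : Function.End N := fun n => ⟨w⁻¹ * φ (w * n.1), by
    rw [map_mul, ← mul_assoc]
    exact N.mul_mem hw (hN _ n.2)⟩
  have hf : ∀ (j : ℕ) (n : N), ((f ^ j) n : W) = w⁻¹ * (φ ^ j) (w * n.1) := by
    intro j
    induction j with
    | zero =>
      intro n
      rw [pow_zero, pow_zero]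
      show (n : W) = w⁻¹ * (w * n.1)
      group
    | succ j ih =>
      intro n
      rw [pow_succ']
      show w⁻¹ * φ (w * ((f ^ j) n : W)) = _
      rw [ih, pow_succ_apply]
      simp
  have hf1 : f ^ p ^ k = 1 := by
    funext n
    apply Subtype.ext
    rw [hf, hφ]
    show w⁻¹ * (w * n.1) = n.1
    group
  have h1 := Equiv.Perm.card_fixedPoints_modEq hf1
  have h2 : Fintype.card (Function.fixedPoints f) ≠ 0 := by
    intro h0
    rw [h0] at h1
    apply hcop
    rw [Nat.card_eq_fintype_card]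
    exact (Nat.modEq_zero_iff_dvd).mp h1
  obtain ⟨⟨n, hn⟩⟩ := Fintype.card_pos_iff.mp (Nat.pos_of_ne_zero h2)
  refine ⟨n.1, n.2, ?_⟩
  have h3 : (f n : W) = n.1 := congrArg Subtype.val hn
  have h4 : w⁻¹ * φ (w * n.1) = n.1 := h3
  calc φ (w * n.1) = w * (w⁻¹ * φ (w * n.1)) := by group
    _ = w * n.1 := by rw [h4]

end Cfsg.Agent.Lib.Helper28.XsQ
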