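import Mathlib
import Cfsg.Agent.Lib.Helper1.Frat
import Cfsg.Agent.Lib.Helper28.XsQA

set_option autoImplicit false

namespace Cfsg.Agent.Lib.Helper28.XsQ

open scoped commutatorElement

variable {W : Type*} [Group W]

theorem periodic_mod {Q : Type*} (g : ℕ → Q) (p : ℕ) (hg : ∀ k, g (k + p) = g k) (k : ℕ) :
    g k = g (k % p) := by
  have h : ∀ t r : ℕ, g (r + p * t) = g r := by
    intro t
    induction t with
    | zero => intro r; simp
    | succ t ih =>
      intro r
      have : r + p * (t + 1) = (r + p * t) + p := by ring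
      rw [this, hg, ih]
  conv_lhs => rw [← Nat.mod_add_div k p]
  exact h _ _

theorem prod_mul_perm {Q : Type*} [CommMonoid Q] (g : ℕ → Q) (p : ℕ) (hp : p.Prime)
    (hg : ∀ k, g (k + p) = g k) (m : ℕ) (hm0 : 0 < m) (hmp : m < p) :
    ∏ i ∈ Finset.range p, g (i * m) = ∏ i ∈ Finset.range p, g i := by
  have hcop : Nat.gcd p m = 1 := by
    exact (Nat.Prime.coprime_iff_not_dvd hp).mpr fun hd => by
      have := Nat.le_of_dvd hm0 hd
      omega
  have hmaps : Set.MapsTo (fun i => i * m % p) (Finset.range p : Set ℕ) (Finset.range p : Set ℕ) := by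
    intro i _
    simp only [Finset.coe_range, Set.mem_Iio]
    exact Nat.mod_lt _ hp.pos
  have hinj : Set.InjOn (fun i => i * m % p) (Finset.range p : Set ℕ) := by
    intro i hi i' hi' h
    simp only [Finset.coe_range, Set.mem_Iio] at hi hi'
    have h1 : i * m ≡ i' * m [MOD p] := h
    exact (Nat.ModEq.cancel_right_of_coprime hcop h1).eq_of_lt_of_lt hi hi'
  apply Finset.prod_nbij (fun i => i * m % p)
  · intro i hi
    exact Finset.mem_coe.mp (hmaps (Finset.mem_coe.mpr hi))
  · exact hinj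
  · exact Finset.surjOn_of_injOn_of_card_le _ hmaps hinj le_rfl
  · intro i _
    exact periodic_mod g p hg _

theorem prod_lines {Q : Type*} [CommMonoid Q] (f : ℕ → ℕ → Q) (p : ℕ) (hp : p.Prime)
    (hf : ∀ k l, f (k + p) l = f k l) :
    ∏ i ∈ Finset.range p, ∏ j ∈ Finset.range p, f (i * j) j =
      f 0 0 ^ p * ∏ j ∈ Finset.range (p - 1), ∏ i ∈ Finset.range p, f i (j + 1) := by
  rw [Finset.prod_comm]
  obtain ⟨q, rfl⟩ : ∃ q, p = q + 1 := ⟨p - 1, by have := hp.pos; omega⟩
  rw [Finset.prod_range_succ' (fun j => ∏ i ∈ Finset.range (q + 1), f (i * j) j)]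
  simp only [Nat.add_sub_cancel, mul_zero, Finset.prod_const, Finset.card_range]
  rw [mul_comm]
  congr 1
  apply Finset.prod_congr rfl
  intro j hj
  rw [Finset.mem_range] at hj
  exact prod_mul_perm (fun k => f k (j + 1)) (q + 1) hp (fun k => hf k _) (j + 1) (by omega) (by omega)


/-- the (noncommutative) norm element `w * c w * ... * c^(p-1) w` -/
def nrm (c : MulAut W) (p : ℕ) (w : W) : W := ((List.range p).map (fun j => (c ^ j) w)).prod

theorem list_prod_range_eq {Q : Type*} [CommMonoid Q] (g : ℕ → Q) (n : ℕ) :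
    ((List.range n).map g).prod = ∏ j ∈ Finset.range n, g j := by
  induction n with
  | zero => simp
  | succ n ih => rw [List.prod_range_succ, Finset.prod_range_succ, ih]

theorem map_nrm {Q : Type*} [CommGroup Q] (π : W →* Q) (c : MulAut W) (p : ℕ) (w : W) :
    π (nrm c p w) = ∏ j ∈ Finset.range p, π ((c ^ j) w) := by
  unfold nrm
  rw [map_list_prod, List.map_map, ← list_prod_range_eq]
  rfl

theorem nrm_conj (c : MulAut W) (p : ℕ) (hc : c ^ p = 1) (w : W) :
    c (nrm c p w) = w⁻¹ * nrm c p w * w := by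
  unfold nrm
  have h1 := List.prod_range_succ (fun j => (c ^ j) w) p
  have h2 := List.prod_range_succ' (fun j => (c ^ j) w) p
  rw [h1] at h2
  simp only [pow_zero, MulAut.one_apply, hc] at h2
  have h3 : c ((List.range p).map (fun j => (c ^ j) w)).prod =
      ((List.range p).map (fun j => (c ^ (j + 1)) w)).prod := by
    rw [map_list_prod, List.map_map]
    congr 1
    apply List.map_congr_left
    intro j _
    simp only [Function.comp_apply]
    rw [pow_succ_apply]
  rw [h3]
  have h4 : ((List.range p).map (fun j => (c ^ (j + 1)) w)).prod =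
      w⁻¹ * (((List.range p).map (fun j => (c ^ j) w)).prod * w) := by
    have h5 : ((List.range p).map (fun j => (c ^ (j + 1)) w)).prod =
        ((List.range p).map (fun i => (c ^ i.succ) w)).prod := rfl
    rw [h5, h2]; group
  rw [h4]; group

theorem nrm_mem [Finite W] {p : ℕ} [Fact p.Prime] (hcop : ¬ p ∣ Nat.card W) (c : MulAut W)
    (hc : c ^ p = 1) (w : W) : nrm c p w ∈ fix c ⊔ commutator W := by
  have hc' : c ^ p ^ 1 = 1 := by rw [pow_one]; exact hc
  have hN : ∀ n ∈ commutator W, c n ∈ commutator W := by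
    intro n hn
    exact Subgroup.characteristic_iff_map_le.mp inferInstance c (Subgroup.mem_map_of_mem _ hn)
  have hcop' : ¬ p ∣ Nat.card (commutator W) := fun h =>
    hcop (h.trans (Subgroup.card_subgroup_dvd_card _))
  have hw : (nrm c p w)⁻¹ * c (nrm c p w) ∈ commutator W := by
    rw [nrm_conj c p hc]
    have : (nrm c p w)⁻¹ * (w⁻¹ * nrm c p w * w) = ⁅(nrm c p w)⁻¹, w⁻¹⁆ := by
      rw [commutatorElement_def]; group
    rw [this, commutator_def]
    exact Subgroup.commutator_mem_commutator (Subgroup.mem_top _) (Subgroup.mem_top _)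
  obtain ⟨m, hm, hfix⟩ := exists_fix_in_coset c hc' (commutator W) hN hcop' _ hw
  have : nrm c p w = (nrm c p w * m) * m⁻¹ := by group
  rw [this]
  exact Subgroup.mul_mem _ (Subgroup.mem_sup_left hfix) (Subgroup.mem_sup_right (inv_mem hm))

end Cfsg.Agent.Lib.Helper28.XsQ

namespace Cfsg.Agent.Lib.Helper28.XsQ
open scoped commutatorElement
variable {W : Type*} [Group W]

theorem gen [Finite W] {p q : ℕ} [Fact p.Prime] [Fact q.Prime] (hW : IsPGroup q W) (hqp : q ≠ p)
    (a b : MulAut W) (hab : a * b = b * a) (ha : a ^ p = 1) (hb : b ^ p = 1)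
    (H : Subgroup W) (h0 : fix a ≤ H) (h1 : ∀ i < p, fix (a ^ i * b) ≤ H) : H = ⊤ := by
  have hp : p.Prime := Fact.out
  have hcop : ¬ p ∣ Nat.card W := by
    obtain ⟨n, hn⟩ := IsPGroup.iff_card.mp hW
    rw [hn]
    intro h
    have := (Nat.prime_dvd_prime_iff_eq hp Fact.out).mp (hp.dvd_of_dvd_pow h)
    exact hqp this.symm
  have hcomm : Commute a b := hab
  set M := H ⊔ commutator W with hM
  have h1' : ∀ i, fix (a ^ i * b) ≤ H := by
    intro i
    have : a ^ i = a ^ (i % p) := pow_eq_pow_mod i ha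
    rw [this]; exact h1 _ (Nat.mod_lt _ hp.pos)
  have hline : ∀ i, (a ^ i * b) ^ p = 1 := by
    intro i
    rw [(hcomm.pow_left i).mul_pow, ← pow_mul, mul_comm, pow_mul, ha, one_pow, hb, one_mul]
  have key : ∀ w : W, w ^ p ∈ M := by
    intro w
    let π : W →* Abelianization W := Abelianization.of
    let f : ℕ → ℕ → Abelianization W := fun k l => π ((a ^ k * b ^ l) w)
    have hf : ∀ k l, f (k + p) l = f k l := by
      intro k l
      simp only [f]
      rw [pow_add, ha, mul_one]
    have hid := prod_lines f p hp hf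
    have e1 : ∀ i, ∏ j ∈ Finset.range p, f (i * j) j = π (nrm (a ^ i * b) p w) := by
      intro i
      rw [map_nrm]
      apply Finset.prod_congr rfl
      intro j _
      simp only [f]
      rw [(hcomm.pow_left i).mul_pow, ← pow_mul]
    have e2 : ∀ l, ∏ i ∈ Finset.range p, f i l = π (nrm a p ((b ^ l) w)) := by
      intro l
      rw [map_nrm]
      apply Finset.prod_congr rfl
      intro i _
      simp only [f]
      rw [MulAut.mul_apply]
    have e3 : f 0 0 = π w := by simp [f]
    rw [e3] at hid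
    simp only [e1, e2] at hid
    have hA : ∏ i ∈ Finset.range p, π (nrm (a ^ i * b) p w) ∈ M.map π := by
      apply Subgroup.prod_mem
      intro i _
      apply Subgroup.mem_map_of_mem
      exact (sup_le_sup_right (h1' i) _) (nrm_mem hcop _ (hline i) w)
    have hB : ∏ j ∈ Finset.range (p - 1), π (nrm a p ((b ^ (j + 1)) w)) ∈ M.map π := by
      apply Subgroup.prod_mem
      intro j _
      apply Subgroup.mem_map_of_mem
      exact (sup_le_sup_right h0 _) (nrm_mem hcop _ ha _)
    have hC : π (w ^ p) ∈ M.map π := by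
      rw [map_pow]
      have : π w ^ p = (∏ i ∈ Finset.range p, π (nrm (a ^ i * b) p w)) *
          (∏ j ∈ Finset.range (p - 1), π (nrm a p ((b ^ (j + 1)) w)))⁻¹ := by
        rw [hid, mul_inv_cancel_right]
      rw [this]
      exact Subgroup.mul_mem _ hA (Subgroup.inv_mem _ hB)
    obtain ⟨m, hm, hmw⟩ := hC
    have hker : m⁻¹ * w ^ p ∈ commutator W := by
      rw [← Abelianization.ker_of, MonoidHom.mem_ker, map_mul, map_inv]
      show (π m)⁻¹ * π (w ^ p) = 1
      rw [hmw, inv_mul_cancel]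
    have : w ^ p = m * (m⁻¹ * w ^ p) := by group
    rw [this]
    exact Subgroup.mul_mem _ hm (Subgroup.mem_sup_right hker)
  have hMtop : M = ⊤ := by
    rw [eq_top_iff]
    intro w _
    have hc : (Nat.card W).Coprime p := ((Nat.Prime.coprime_iff_not_dvd hp).mpr hcop).symm
    obtain ⟨v, hv⟩ := (powCoprime hc).surjective w
    rw [powCoprime_apply] at hv
    rw [← hv]; exact key v
  apply frattini_nongenerating
  rw [eq_top_iff, ← hMtop]
  exact sup_le_sup_left (Cfsg.Agent.Lib.Helper1.pgroup_commutator_le_frattini hW) _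

end Cfsg.Agent.Lib.Helper28.XsQ

namespace Cfsg.Agent.Lib.Helper28.XsQ
variable {W : Type*} [Group W]

theorem inv_eq_pow_pred {φ : MulAut W} {p : ℕ} (hp : 0 < p) (h : φ ^ p = 1) : φ⁻¹ = φ ^ (p - 1) := by
  apply inv_eq_of_mul_eq_one_right
  rw [← pow_succ']
  have : p - 1 + 1 = p := by omega
  rw [this, h]

theorem invariant_pow {φ : MulAut W} {U : Subgroup W} (h : ∀ x ∈ U, φ x ∈ U) (j : ℕ) :
    ∀ x ∈ U, (φ ^ j) x ∈ U := by
  induction j with
  | zero => intro x hx; simpa using hx
  | succ j ih => intro x hx; rw [pow_succ_apply]; exact h _ (ih x hx)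

theorem invariant_inv {φ : MulAut W} {U : Subgroup W} {p : ℕ} (hp : 0 < p) (hφ : φ ^ p = 1)
    (h : ∀ x ∈ U, φ x ∈ U) : ∀ x ∈ U, φ⁻¹ x ∈ U := by
  rw [inv_eq_pow_pred hp hφ]
  exact invariant_pow h _

/-- restriction of an automorphism to an invariant subgroup -/
def resAut (φ : MulAut W) (U : Subgroup W) (h1 : ∀ x ∈ U, φ x ∈ U) (h2 : ∀ x ∈ U, φ⁻¹ x ∈ U) :
    MulAut U where
  toFun x := ⟨φ x.1, h1 _ x.2⟩
  invFun x := ⟨φ⁻¹ x.1, h2 _ x.2⟩
  left_inv x := by apply Subtype.ext; simp
  right_inv x := by apply Subtype.ext; simp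
  map_mul' x y := by apply Subtype.ext; simp

theorem resAut_apply (φ : MulAut W) (U : Subgroup W) (h1 : ∀ x ∈ U, φ x ∈ U)
    (h2 : ∀ x ∈ U, φ⁻¹ x ∈ U) (x : U) : ((resAut φ U h1 h2 x : U) : W) = φ x.1 := rfl

theorem resAut_pow_apply (φ : MulAut W) (U : Subgroup W) (h1 : ∀ x ∈ U, φ x ∈ U)
    (h2 : ∀ x ∈ U, φ⁻¹ x ∈ U) (j : ℕ) (x : U) :
    ((((resAut φ U h1 h2) ^ j) x : U) : W) = (φ ^ j) x.1 := by
  induction j with
  | zero => simp
  | succ j ih => rw [pow_succ_apply, pow_succ_apply, resAut_apply, ih]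

theorem genSub [Finite W] {p q : ℕ} [Fact p.Prime] [Fact q.Prime] (hW : IsPGroup q W) (hqp : q ≠ p)
    (a b : MulAut W) (hab : a * b = b * a) (ha : a ^ p = 1) (hb : b ^ p = 1)
    (U : Subgroup W) (hUa : ∀ x ∈ U, a x ∈ U) (hUb : ∀ x ∈ U, b x ∈ U)
    (H : Subgroup W) (h0 : fix a ⊓ U ≤ H) (h1 : ∀ i < p, fix (a ^ i * b) ⊓ U ≤ H) : U ≤ H := by
  have hp : p.Prime := Fact.out
  set a' := resAut a U hUa (invariant_inv hp.pos ha hUa) with ha'
  set b' := resAut b U hUb (invariant_inv hp.pos hb hUb) with hb'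
  have hab' : a' * b' = b' * a' := by
    ext x
    show a (b x.1) = b (a x.1)
    exact commute_apply hab _
  have hap : a' ^ p = 1 := by
    ext x
    rw [resAut_pow_apply, ha]; rfl
  have hbp : b' ^ p = 1 := by
    ext x
    rw [resAut_pow_apply, hb]; rfl
  have key := gen (hW.to_subgroup U) hqp a' b' hab' hap hbp (H.subgroupOf U) ?_ ?_
  · intro x hx
    have : (⟨x, hx⟩ : U) ∈ H.subgroupOf U := by rw [key]; exact Subgroup.mem_top _
    exact this
  · intro x hx
    rw [Subgroup.mem_subgroupOf]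
    apply h0
    refine Subgroup.mem_inf.mpr ⟨?_, x.2⟩
    rw [mem_fix] at hx ⊢
    have := congrArg Subtype.val hx
    exact this
  · intro i hi x hx
    rw [Subgroup.mem_subgroupOf]
    apply h1 i hi
    refine Subgroup.mem_inf.mpr ⟨?_, x.2⟩
    rw [mem_fix] at hx ⊢
    have := congrArg Subtype.val hx
    rw [MulAut.mul_apply, resAut_pow_apply] at this
    rw [MulAut.mul_apply]
    exact this

end Cfsg.Agent.Lib.Helper28.XsQ
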