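import Mathlib
import Cfsg.Agent.Lib.Helper19.UniqueInvolution
import Cfsg.Agent.Lib.Helper28.XsQB

set_option autoImplicit false

namespace Cfsg.Agent.Lib.Helper28.XsQ

variable {W : Type*} [Group W]

theorem card_fix_modEq [Finite W] {p k : ℕ} [Fact p.Prime] (φ : MulAut W) (hφ : φ ^ p ^ k = 1) :
    Nat.card W ≡ Nat.card (fix φ) [MOD p] := by
  classical
  have := Fintype.ofFinite W
  let f : Function.End W := fun x => φ x
  have hf : ∀ (j : ℕ) (x : W), (f ^ j) x = (φ ^ j) x := by
    intro j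
    induction j with
    | zero => intro x; rfl
    | succ j ih =>
      intro x
      rw [pow_succ', pow_succ_apply, ← ih]; rfl
  have hf1 : f ^ p ^ k = 1 := by
    funext x
    rw [hf, hφ]; rfl
  have h1 := Equiv.Perm.card_fixedPoints_modEq hf1
  rw [Nat.card_eq_fintype_card]
  have h2 : Nat.card (fix φ) = Fintype.card (Function.fixedPoints f) := by
    rw [← Nat.card_eq_fintype_card]; rfl
  rw [h2]; exact h1

/-- relative version: an invariant subgroup -/
theorem card_inf_fix_modEq [Finite W] {p k : ℕ} [Fact p.Prime] (φ : MulAut W) (hφ : φ ^ p ^ k = 1)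
    (U : Subgroup W) (hU : ∀ x ∈ U, φ x ∈ U) :
    Nat.card U ≡ Nat.card (fix φ ⊓ U : Subgroup W) [MOD p] := by
  have hp : p.Prime := Fact.out
  have hpk : 0 < p ^ k := pow_pos hp.pos k
  set φ' := resAut φ U hU (invariant_inv hpk hφ hU) with hφ'
  have h1 : φ' ^ p ^ k = 1 := by
    ext x
    rw [resAut_pow_apply, hφ]; rfl
  have h2 := card_fix_modEq φ' h1
  have h3 : Nat.card (fix φ') = Nat.card (fix φ ⊓ U : Subgroup W) := by
    apply Nat.card_congr
    refine ⟨fun x => ⟨x.1.1, Subgroup.mem_inf.mpr ⟨?_, x.1.2⟩⟩, fun x => ⟨⟨x.1, (Subgroup.mem_inf.mp x.2).2⟩, ?_⟩,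
      fun x => rfl, fun x => rfl⟩
    · have := x.2
      rw [mem_fix] at this ⊢
      exact congrArg Subtype.val this
    · rw [mem_fix]
      apply Subtype.ext
      exact (Subgroup.mem_inf.mp x.2).1
  rw [← h3]; exact h2

theorem cyc_aut_trivial {P : Type*} [Group P] [Finite P] [IsCyclic P] (hP : IsPGroup 2 P)
    {p k : ℕ} [Fact p.Prime] (hp2 : p ≠ 2) (φ : MulAut P) (hφ : φ ^ p ^ k = 1) : φ = 1 := by
  have h1 : orderOf φ ∣ p ^ k := orderOf_dvd_of_pow_eq_one hφ
  have h2 : orderOf φ ∣ Nat.card (MulAut P) := orderOf_dvd_natCard φ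
  rw [IsCyclic.card_mulAut] at h2
  obtain ⟨s, hs⟩ := IsPGroup.iff_card.mp hP
  rw [hs] at h2
  have h3 : ∃ t, Nat.totient (2 ^ s) = 2 ^ t := by
    rcases Nat.eq_zero_or_pos s with rfl | hs0
    · exact ⟨0, by simp⟩
    · exact ⟨s - 1, by rw [Nat.totient_prime_pow Nat.prime_two hs0]; simp⟩
  obtain ⟨t, ht⟩ := h3
  rw [ht] at h2
  have h4 : Nat.Coprime (p ^ k) (2 ^ t) :=
    Nat.Coprime.pow _ _ ((Nat.coprime_primes Fact.out Nat.prime_two).mpr hp2)
  have h5 : orderOf φ = 1 := Nat.eq_one_of_dvd_coprimes h4 h1 h2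
  exact orderOf_eq_one_iff.mp h5

theorem fixes_of_cyclic_invariant {P : Type*} [Group P] [Finite P] (hP : IsPGroup 2 P)
    (A : Subgroup P) (hA : IsCyclic A) {p k : ℕ} [Fact p.Prime] (hp2 : p ≠ 2) (φ : MulAut P)
    (hφ : φ ^ p ^ k = 1) (hAφ : ∀ x ∈ A, φ x ∈ A) : ∀ x ∈ A, φ x = x := by
  have hp : p.Prime := Fact.out
  have hpk : 0 < p ^ k := pow_pos hp.pos k
  set φ' := resAut φ A hAφ (invariant_inv hpk hφ hAφ) with hφ'
  have h1 : φ' ^ p ^ k = 1 := by
    ext x
    rw [resAut_pow_apply, hφ]; rfl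
  have h2 : φ' = 1 := cyc_aut_trivial (hP.to_subgroup A) hp2 φ' h1
  intro x hx
  have h3 : φ' ⟨x, hx⟩ = ⟨x, hx⟩ := by rw [h2]; rfl
  exact congrArg Subtype.val h3

theorem aut_trivial_of_cyclic_index_two {P : Type*} [Group P] [Finite P] (hP : IsPGroup 2 P)
    (A : Subgroup P) (hA : IsCyclic A) (hidx : A.index = 2) {p k : ℕ} [Fact p.Prime] (hp2 : p ≠ 2)
    (φ : MulAut P) (hφ : φ ^ p ^ k = 1) (hAφ : ∀ x ∈ A, φ x ∈ A) : φ = 1 := by
  have hp : p.Prime := Fact.out
  have hpk : 0 < p ^ k := pow_pos hp.pos k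
  have hfA := fixes_of_cyclic_invariant hP A hA hp2 φ hφ hAφ
  have hinv := invariant_inv hpk hφ hAφ
  ext y
  rw [MulAut.one_apply]
  by_cases hy : y ∈ A
  · exact hfA y hy
  · have hφy : φ y ∉ A := by
      intro h
      apply hy
      have := hinv _ h
      simpa using this
    have hyi : y⁻¹ ∉ A := fun h => hy (by simpa using A.inv_mem h)
    have hc : φ y * y⁻¹ ∈ A := by
      rw [Subgroup.mul_mem_iff_of_index_two hidx]
      exact ⟨fun h => absurd h hφy, fun h => absurd h hyi⟩
    obtain ⟨c, hcdef⟩ : ∃ c, c = φ y * y⁻¹ := ⟨_, rfl⟩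
    rw [← hcdef] at hc
    have hφy' : φ y = c * y := by rw [hcdef]; group
    have hpow : ∀ j : ℕ, (φ ^ j) y = c ^ j * y := by
      intro j
      induction j with
      | zero => simp
      | succ j ih =>
        rw [pow_succ_apply, ih, map_mul, map_pow, hfA c hc, hφy', pow_succ, mul_assoc]
    have h1 := hpow (p ^ k)
    rw [hφ, MulAut.one_apply] at h1
    have h2 : c ^ p ^ k = 1 := by
      have : c ^ p ^ k * y = 1 * y := by rw [one_mul]; exact h1.symm
      exact mul_right_cancel this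
    obtain ⟨m, hm⟩ := (IsPGroup.iff_orderOf.mp hP) c
    have h3 : orderOf c ∣ p ^ k := orderOf_dvd_of_pow_eq_one h2
    have h4 : Nat.Coprime (p ^ k) (2 ^ m) :=
      Nat.Coprime.pow _ _ ((Nat.coprime_primes Fact.out Nat.prime_two).mpr hp2)
    have h5 : orderOf c = 1 := Nat.eq_one_of_dvd_coprimes h4 h3 (by rw [hm])
    have h6 : c = 1 := orderOf_eq_one_iff.mp h5
    rw [hφy', h6, one_mul]

theorem odd_aut_dichotomy {P : Type*} [Group P] [Finite P] (hP : IsPGroup 2 P)
    (huniq : ∀ x y : P, orderOf x = 2 → orderOf y = 2 → x = y)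
    {p : ℕ} [Fact p.Prime] (hp2 : p ≠ 2) :
    (∀ (φ : MulAut P) (k : ℕ), φ ^ p ^ k = 1 → φ = 1) ∨
      (Nat.card P = 8 ∧ ∃ x y : P, x * y ≠ y * x) := by
  have : Fact (Nat.Prime 2) := ⟨Nat.prime_two⟩
  by_cases htriv : Nat.card P = 1
  · left
    intro φ k _
    have := (Nat.card_eq_one_iff_unique.mp htriv).1
    ext x
    exact Subsingleton.elim _ _
  have hPdvd : 2 ∣ Nat.card P := by
    rcases hP.card_eq_or_dvd with h0 | h0
    · exact absurd h0 htriv
    · exact h0
  obtain ⟨z, hz⟩ := exists_prime_orderOf_dvd_card' (G := P) 2 hPdvd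
  have hz1 : z ≠ 1 := by
    intro h; rw [h, orderOf_one] at hz; omega
  have hz2 : z * z = 1 := by
    have h0 := pow_orderOf_eq_one z
    rw [hz, pow_two] at h0
    exact h0
  have huq : ∀ u : P, u * u = 1 → u = 1 ∨ u = z := by
    intro u hu
    by_cases hu1 : u = 1
    · left; exact hu1
    · right
      have huo : orderOf u = 2 := orderOf_eq_prime (by rw [pow_two]; exact hu) hu1
      exact huniq u z huo hz
  by_cases hcomm : ∀ x y : P, x * y = y * x
  · left
    obtain ⟨a, -, ha⟩ := Cfsg.Agent.Lib.Helper19.cyclic_of_comm_unique_involution hP z huq ⊤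
      (fun a _ b _ => hcomm a b)
    have hcyc : IsCyclic P := by
      rw [isCyclic_iff_exists_zpowers_eq_top]
      exact ⟨a, ha.symm⟩
    intro φ k hφ
    exact cyc_aut_trivial hP hp2 φ hφ
  · obtain ⟨n, hn2, a, y, hao, hya, hconj, hyy, haz, hcov, hcard⟩ :=
      Cfsg.Agent.Lib.Helper19.quaternion_structure hP z hz1 hz2 huq hcomm
    rcases Nat.lt_or_ge 2 n with hn3 | hn3
    · left
      intro φ k hφ
      have hA : IsCyclic (Subgroup.zpowers a) := inferInstance
      have hcardA : Nat.card (Subgroup.zpowers a) = 2 ^ n := by rw [Nat.card_zpowers, hao]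
      have hidx : (Subgroup.zpowers a).index = 2 := by
        have h1 := Subgroup.card_mul_index (Subgroup.zpowers a)
        rw [hcardA, hcard, pow_succ] at h1
        exact Nat.eq_of_mul_eq_mul_left (by positivity) h1
      -- conjugation by y inverts zpowers a
      have hinvA : ∀ c ∈ Subgroup.zpowers a, y * c * y⁻¹ = c⁻¹ := by
        intro c hc
        obtain ⟨i, rfl⟩ := Subgroup.mem_zpowers_iff.mp hc
        have h1 : y * a ^ i * y⁻¹ = (y * a * y⁻¹) ^ i := by
          have := map_zpow (MulAut.conj y) a i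
          simp only [MulAut.conj_apply] at this
          exact this
        rw [h1, hconj, inv_zpow]
      have hφa : φ a ∈ Subgroup.zpowers a := by
        by_contra hna
        rcases hcov (φ a) with h | h
        · exact hna h
        · obtain ⟨c, hc⟩ : ∃ c, c = φ a * y⁻¹ := ⟨_, rfl⟩
          rw [← hc] at h
          have hg : φ a = c * y := by rw [hc]; group
          have hsq : φ a * φ a = z := by
            rw [hg]
            calc c * y * (c * y) = c * (y * c * y⁻¹) * (y * y) := by group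
              _ = z := by rw [hinvA c h, hyy]; group
          have h4 : φ a ^ 4 = 1 := by
            have : φ a ^ 4 = (φ a * φ a) * (φ a * φ a) := by
              rw [← pow_two, ← pow_two, ← pow_mul]
            rw [this, hsq, hz2]
          have h5 : orderOf (φ a) ∣ 4 := orderOf_dvd_of_pow_eq_one h4
          have h6 : orderOf (φ a) = 2 ^ n := by
            rw [← hao]
            exact MulEquiv.orderOf_eq φ a
          rw [h6] at h5
          have h7 : 2 ^ n ≤ 4 := Nat.le_of_dvd (by norm_num) h5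
          have h8 : 2 ^ 3 ≤ 2 ^ n := Nat.pow_le_pow_right (by norm_num) hn3
          omega
      have hAφ : ∀ x ∈ Subgroup.zpowers a, φ x ∈ Subgroup.zpowers a := by
        intro x hx
        obtain ⟨i, rfl⟩ := Subgroup.mem_zpowers_iff.mp hx
        rw [map_zpow]
        exact Subgroup.zpow_mem _ hφa i
      exact aut_trivial_of_cyclic_index_two hP _ hA hidx hp2 φ hφ hAφ
    · right
      have hn : n = 2 := le_antisymm hn3 hn2
      refine ⟨by rw [hcard, hn]; norm_num, ?_⟩
      by_contra hcon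
      push Not at hcon
      exact hcomm hcon


end Cfsg.Agent.Lib.Helper28.XsQ
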