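import Mathlib
import Cfsg.Agent.Lib.Helper1.NonCyclic
import Cfsg.Agent.Lib.Helper28.XsQC

set_option autoImplicit false

namespace Cfsg.Agent.Lib.Helper28.XsQ

variable {W : Type*} [Group W]

/-- common fixed points of a group of automorphisms -/
def fixAll (E : Subgroup (MulAut W)) : Subgroup W where
  carrier := {x | ∀ e ∈ E, e x = x}
  mul_mem' := by
    intro a b ha hb e he
    rw [map_mul, ha e he, hb e he]
  one_mem' := fun e _ => map_one e
  inv_mem' := by
    intro a ha e he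
    rw [map_inv, ha e he]

theorem mem_fixAll {E : Subgroup (MulAut W)} {x : W} : x ∈ fixAll E ↔ ∀ e ∈ E, e x = x := Iff.rfl

/-- pointwise stabilizer of a subgroup -/
def ptStab (F : Subgroup W) : Subgroup (MulAut W) where
  carrier := {φ | ∀ x ∈ F, φ x = x}
  mul_mem' := by
    intro a b ha hb x hx
    rw [MulAut.mul_apply, hb x hx, ha x hx]
  one_mem' := fun x _ => rfl
  inv_mem' := by
    intro a ha x hx
    have := ha x hx
    rw [MulAut.inv_apply, MulEquiv.symm_apply_eq, this]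

theorem mem_ptStab {F : Subgroup W} {φ : MulAut W} : φ ∈ ptStab F ↔ ∀ x ∈ F, φ x = x := Iff.rfl

/-- all of `E` fixes `fix e` pointwise -/
def Triv (E : Subgroup (MulAut W)) (e : MulAut W) : Prop := ∀ e' ∈ E, ∀ x ∈ fix e, e' x = x

structure Hyp (p : ℕ) (E : Subgroup (MulAut W)) : Prop where
  hW : IsPGroup 2 W
  hp2 : p ≠ 2
  hE : ∀ e ∈ E, ∃ k : ℕ, e ^ p ^ k = 1
  hab : ∀ e ∈ E, ∀ e' ∈ E, e * e' = e' * e
  hfix : ∀ e ∈ E, e ≠ 1 → ∀ x y : W, orderOf x = 2 → orderOf y = 2 → e x = x → e y = y → x = y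

theorem fix_eq_top_iff {φ : MulAut W} : fix φ = ⊤ ↔ φ = 1 := by
  constructor
  · intro h
    ext x
    have : x ∈ fix φ := by rw [h]; exact Subgroup.mem_top x
    exact this
  · intro h
    rw [h, eq_top_iff]
    intro x _
    rfl

/-- generation by fixed points of nontrivial elements, for a noncyclic abelian `p`-group
acting on a `2`-group -/
theorem genE [Finite W] {p : ℕ} [Fact p.Prime] (hW : IsPGroup 2 W) (hp2 : p ≠ 2)
    (E : Subgroup (MulAut W)) (hE : ∀ e ∈ E, ∃ k : ℕ, e ^ p ^ k = 1)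
    (hab : ∀ e ∈ E, ∀ e' ∈ E, e * e' = e' * e) (hnc : ¬ IsCyclic E)
    (H : Subgroup W) (h : ∀ e ∈ E, e ≠ 1 → fix e ≤ H) : H = ⊤ := by
  have : Fact (Nat.Prime 2) := ⟨Nat.prime_two⟩
  have hp : p.Prime := Fact.out
  let _ : CommGroup E :=
    { (inferInstance : Group E) with
      mul_comm := fun x y => Subtype.ext (hab x.1 x.2 y.1 y.2) }
  obtain ⟨r, hr, x, y, hx1, hxr, hyr, hyx⟩ := Cfsg.Agent.Lib.Helper1.exists_noncyclic_pair hnc
  have hrp : r = p := by
    obtain ⟨k, hk⟩ := hE x.1 x.2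
    have : Fact r.Prime := ⟨hr⟩
    have h1 : orderOf x.1 = r := by
      apply orderOf_eq_prime
      · have := congrArg Subtype.val hxr
        simpa using this
      · intro h0
        exact hx1 (Subtype.ext h0)
    have h2 : r ∣ p ^ k := by
      rw [← h1]; exact orderOf_dvd_of_pow_eq_one hk
    exact (Nat.prime_dvd_prime_iff_eq hr hp).mp (hr.dvd_of_dvd_pow h2)
  subst hrp
  have hxa : x.1 ^ r = 1 := by
    have := congrArg Subtype.val hxr
    simpa using this
  have hyb : y.1 ^ r = 1 := by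
    have := congrArg Subtype.val hyr
    simpa using this
  apply gen hW (Ne.symm hp2) x.1 y.1 (hab _ x.2 _ y.2) hxa hyb H
  · exact h x.1 x.2 (fun h0 => hx1 (Subtype.ext h0))
  · intro i _
    apply h _ (E.mul_mem (E.pow_mem x.2 i) y.2)
    intro h0
    apply hyx
    have h1 : y = (x ^ i)⁻¹ := by
      apply Subtype.ext
      have : (x.1 ^ i)⁻¹ = y.1 := inv_eq_of_mul_eq_one_right h0
      rw [← this]; simp
    rw [h1]
    exact Subgroup.inv_mem _ (Subgroup.pow_mem _ (Subgroup.mem_zpowers x) i)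

end Cfsg.Agent.Lib.Helper28.XsQ

namespace Cfsg.Agent.Lib.Helper28.XsQ

variable {W : Type*} [Group W] [Finite W] {p : ℕ} [Fact p.Prime] {E : Subgroup (MulAut W)}

omit [Finite W] [Fact (Nat.Prime p)] in
theorem Hyp.invariant (h : Hyp p E) {e e' : MulAut W} (he : e ∈ E) (he' : e' ∈ E) :
    ∀ x ∈ fix e, e' x ∈ fix e := fun _ hx => fix_invariant (h.hab e he e' he') hx

/-- an involution fixed by a nontrivial element of `E` is fixed by all of `E` -/
theorem Hyp.invol (h : Hyp p E) {e : MulAut W} (he : e ∈ E) (he1 : e ≠ 1) {t : W}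
    (ht : t ∈ fix e) (ht2 : orderOf t = 2) : t ∈ fixAll E := by
  intro e' he'
  apply h.hfix e he he1 _ _ _ ht2 (h.invariant he he' t ht) ht
  rw [← ht2]
  exact MulEquiv.orderOf_eq e' t

theorem Hyp.dich (h : Hyp p E) {e : MulAut W} (he : e ∈ E) (he1 : e ≠ 1) :
    Triv E e ∨ (Nat.card (fix e) = 8 ∧ ∃ x ∈ fix e, ∃ y ∈ fix e, x * y ≠ y * x) := by
  have hp : p.Prime := Fact.out
  have huniq : ∀ x y : fix e, orderOf x = 2 → orderOf y = 2 → x = y := by
    intro x y hx hy
    apply Subtype.ext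
    apply h.hfix e he he1 _ _ _ _ x.2 y.2
    · rw [← hx]; exact (Subgroup.orderOf_coe x)
    · rw [← hy]; exact (Subgroup.orderOf_coe y)
  rcases odd_aut_dichotomy (h.hW.to_subgroup (fix e)) huniq h.hp2 with hT | ⟨hc, x, y, hxy⟩
  · left
    intro e' he' x hx
    obtain ⟨k, hk⟩ := h.hE e' he'
    have hpk : 0 < p ^ k := pow_pos hp.pos k
    have hinv := h.invariant he he'
    set φ := resAut e' (fix e) hinv (invariant_inv hpk hk hinv) with hφ
    have h1 : φ ^ p ^ k = 1 := by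
      ext x
      rw [resAut_pow_apply, hk]; rfl
    have h2 := hT φ k h1
    have h3 : φ ⟨x, hx⟩ = ⟨x, hx⟩ := by rw [h2]; rfl
    exact congrArg Subtype.val h3
  · right
    refine ⟨hc, x.1, x.2, y.1, y.2, ?_⟩
    intro h0
    apply hxy
    exact Subtype.ext h0

theorem exists_invol_of_card_eight (F : Subgroup W) (hF : Nat.card F = 8) :
    ∃ z ∈ F, orderOf z = 2 := by
  have : Fact (Nat.Prime 2) := ⟨Nat.prime_two⟩
  obtain ⟨z, hz⟩ := exists_prime_orderOf_dvd_card' (G := F) 2 (by rw [hF]; norm_num)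
  exact ⟨z.1, z.2, by rw [Subgroup.orderOf_coe]; exact hz⟩

omit [Finite W] in
theorem mem_zpowers_of_order_two {z x : W} (hz : orderOf z = 2) (hx : x ∈ Subgroup.zpowers z) :
    x = 1 ∨ x = z := by
  obtain ⟨k, rfl⟩ := Subgroup.mem_zpowers_iff.mp hx
  rw [← zpow_mod_orderOf, hz]
  rcases Int.emod_two_eq_zero_or_one k with h3 | h3
  · left; rw [Nat.cast_ofNat, h3, zpow_zero]
  · right; rw [Nat.cast_ofNat, h3, zpow_one]

/-- the action of an element of `E` on a fixed-point group of order 8 -/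
theorem Hyp.q8_act (h : Hyp p E) {e : MulAut W} (he : e ∈ E) (he1 : e ≠ 1)
    (hc : Nat.card (fix e) = 8) {z : W} (hz : z ∈ fix e) (hz2 : orderOf z = 2)
    {e' : MulAut W} (he' : e' ∈ E) (hne : e' ∉ ptStab (fix e)) :
    p = 3 ∧ fix e' ⊓ fix e = Subgroup.zpowers z := by
  have hp : p.Prime := Fact.out
  obtain ⟨k, hk⟩ := h.hE e' he'
  have h1 := card_inf_fix_modEq e' hk (fix e) (h.invariant he he')
  set D := fix e' ⊓ fix e with hD
  have hDle : D ≤ fix e := inf_le_right
  have hzD : Subgroup.zpowers z ≤ D := by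
    rw [Subgroup.zpowers_le]
    exact Subgroup.mem_inf.mpr ⟨h.invol he he1 hz hz2 e' he', hz⟩
  have hcz : Nat.card (Subgroup.zpowers z) = 2 := by rw [Nat.card_zpowers, hz2]
  have h2 : 2 ∣ Nat.card D := by rw [← hcz]; exact Subgroup.card_dvd_of_le hzD
  have h3 : Nat.card D ∣ 8 := by rw [← hc]; exact Subgroup.card_dvd_of_le hDle
  have h4 : Nat.card D ≠ 8 := by
    intro h8
    apply hne
    have : D = fix e := Subgroup.eq_of_le_of_card_ge hDle (by rw [h8, hc])
    intro x hx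
    have hx' : x ∈ D := by rw [this]; exact hx
    exact (Subgroup.mem_inf.mp hx').1
  have h5 : Nat.card D = 2 ∨ Nat.card D = 4 := by
    have hle : Nat.card D ≤ 8 := Nat.le_of_dvd (by norm_num) h3
    have hpos : 0 < Nat.card D := Nat.card_pos
    interval_cases (Nat.card D) <;> simp_all
  rw [hc] at h1
  rcases h5 with h5 | h5
  · rw [h5] at h1
    have h6 : p ∣ 8 - 2 := (Nat.modEq_iff_dvd' (by norm_num)).mp h1.symm
    have h7 : p ∣ 2 * 3 := by norm_num at h6 ⊢; exact h6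
    rcases (Nat.Prime.dvd_mul hp).mp h7 with h8 | h8
    · exact absurd ((Nat.prime_dvd_prime_iff_eq hp Nat.prime_two).mp h8) h.hp2
    · refine ⟨(Nat.prime_dvd_prime_iff_eq hp Nat.prime_three).mp h8, ?_⟩
      exact (Subgroup.eq_of_le_of_card_ge hzD (by rw [h5, hcz])).symm
  · rw [h5] at h1
    have h6 : p ∣ 8 - 4 := (Nat.modEq_iff_dvd' (by norm_num)).mp h1.symm
    have h7 : p ∣ 2 ^ 2 := by norm_num at h6 ⊢; exact h6
    exact absurd ((Nat.prime_dvd_prime_iff_eq hp Nat.prime_two).mp (hp.dvd_of_dvd_pow h7)) h.hp2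


end Cfsg.Agent.Lib.Helper28.XsQ
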