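import Mathlib
import Cfsg.Agent.Lib.Helper28.XsQD

set_option autoImplicit false

namespace Cfsg.Agent.Lib.Helper28.XsQ

variable {W : Type*} [Group W] [Finite W] {p : ℕ} [Fact p.Prime] {E : Subgroup (MulAut W)}

/-- centralizer in `E` of `fix e` -/
def Kof (E : Subgroup (MulAut W)) (e : MulAut W) : Subgroup (MulAut W) := E ⊓ ptStab (fix e)

omit [Finite W] [Fact (Nat.Prime p)] in
theorem not_triv_iff {e : MulAut W} : ¬ Triv E e ↔ ∃ e' ∈ E, e' ∉ ptStab (fix e) := by
  unfold Triv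
  push Not
  constructor
  · rintro ⟨e', he', x, hx, hne⟩
    exact ⟨e', he', fun h => hne (h x hx)⟩
  · rintro ⟨e', he', hne⟩
    rw [mem_ptStab] at hne
    push Not at hne
    obtain ⟨x, hx, hne⟩ := hne
    exact ⟨e', he', x, hx, hne⟩

theorem Hyp.p_eq_three (h : Hyp p E) {e : MulAut W} (he : e ∈ E) (he1 : e ≠ 1)
    (hc : Nat.card (fix e) = 8) (hnt : ¬ Triv E e) : p = 3 := by
  obtain ⟨z, hz, hz2⟩ := exists_invol_of_card_eight (fix e) hc
  obtain ⟨e', he', hne⟩ := not_triv_iff.mp hnt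
  exact (h.q8_act he he1 hc hz hz2 he' hne).1

theorem Hyp.card_E (h : Hyp p E) : ∃ m : ℕ, Nat.card E = p ^ m := by
  have hpg : IsPGroup p E := by
    intro g
    obtain ⟨k, hk⟩ := h.hE g.1 g.2
    exact ⟨k, Subtype.ext (by simpa using hk)⟩
  exact IsPGroup.iff_card.mp hpg

theorem Hyp.q8_index (h : Hyp p E) {e : MulAut W} (he : e ∈ E) (he1 : e ≠ 1)
    (hc : Nat.card (fix e) = 8) (hnt : ¬ Triv E e) : (Kof E e).relIndex E = 3 := by
  have hp : p.Prime := Fact.out
  obtain ⟨z, hz, hz2⟩ := exists_invol_of_card_eight (fix e) hc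
  obtain ⟨e', he', hne⟩ := not_triv_iff.mp hnt
  have hp3 : p = 3 := (h.q8_act he he1 hc hz hz2 he' hne).1
  have hcz : Nat.card (Subgroup.zpowers z) = 2 := by rw [Nat.card_zpowers, hz2]
  obtain ⟨x0, hx0, hx0z⟩ : ∃ x0 ∈ fix e, x0 ∉ Subgroup.zpowers z := by
    by_contra hcon
    push Not at hcon
    have hle : fix e ≤ Subgroup.zpowers z := hcon
    have := Subgroup.card_le_of_le hle
    rw [hc, hcz] at this
    omega
  have hstab : MulAction.stabilizer E x0 = (Kof E e).subgroupOf E := by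
    ext e''
    rw [MulAction.mem_stabilizer_iff, Subgroup.mem_subgroupOf, Subgroup.smul_def, MulAut.smul_def]
    constructor
    · intro hfx
      refine Subgroup.mem_inf.mpr ⟨e''.2, ?_⟩
      by_contra hne''
      have := (h.q8_act he he1 hc hz hz2 e''.2 hne'').2
      apply hx0z
      rw [← this]
      exact Subgroup.mem_inf.mpr ⟨hfx, hx0⟩
    · intro hK
      exact (Subgroup.mem_inf.mp hK).2 x0 hx0
  have hidx : (Kof E e).relIndex E = (MulAction.orbit E x0).ncard := by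
    unfold Subgroup.relIndex
    rw [← hstab]
    exact MulAction.index_stabilizer _ _
  have hle : (MulAction.orbit E x0).ncard ≤ 8 := by
    have hsub : MulAction.orbit E x0 ⊆ (fix e : Set W) := by
      rintro _ ⟨e'', rfl⟩
      show (e'' : MulAut W) x0 ∈ fix e
      exact h.invariant he e''.2 x0 hx0
    have := Set.ncard_le_ncard hsub (Set.toFinite _)
    rw [← hc]
    have h2 : Nat.card (fix e) = ((fix e : Set W)).ncard := Nat.card_coe_set_eq _
    rw [h2]
    exact this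
  obtain ⟨m, hm⟩ := h.card_E
  have hdvd : (Kof E e).relIndex E ∣ p ^ m := by
    rw [← hm]
    exact Subgroup.relIndex_dvd_card _ _
  obtain ⟨j, -, hj⟩ := (Nat.dvd_prime_pow hp).mp hdvd
  rw [hp3] at hj
  have hne1 : (Kof E e).relIndex E ≠ 1 := by
    intro h1
    rw [Subgroup.relIndex_eq_one] at h1
    exact hne (Subgroup.mem_inf.mp (h1 he')).2
  rw [hidx] at hne1 hj
  rw [hidx]
  rw [hj] at hle hne1 ⊢
  have : j ≤ 1 := by
    by_contra hj2
    push Not at hj2
    have : 3 ^ 2 ≤ 3 ^ j := Nat.pow_le_pow_right (by norm_num) hj2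
    omega
  interval_cases j
  · exact absurd rfl hne1
  · rfl

end Cfsg.Agent.Lib.Helper28.XsQ

namespace Cfsg.Agent.Lib.Helper28.XsQ

variable {W : Type*} [Group W] [Finite W] {p : ℕ} [Fact p.Prime] {E : Subgroup (MulAut W)}

theorem Hyp.fix_eq_of_mem_K (h : Hyp p E) {e : MulAut W} (hc : Nat.card (fix e) = 8)
    (hnt : ¬ Triv E e) {k : MulAut W} (hk : k ∈ Kof E e) (hk1 : k ≠ 1) : fix k = fix e := by
  have hkE : k ∈ E := (Subgroup.mem_inf.mp hk).1
  have hle : fix e ≤ fix k := fun x hx => (Subgroup.mem_inf.mp hk).2 x hx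
  rcases h.dich hkE hk1 with hT | ⟨hc8, -⟩
  · exfalso
    apply hnt
    intro e' he' x hx
    exact hT e' he' x (hle hx)
  · exact (Subgroup.eq_of_le_of_card_ge hle (by rw [hc8, hc])).symm

omit [Finite W] [Fact (Nat.Prime p)] in
theorem Hyp.sub (h : Hyp p E) {K : Subgroup (MulAut W)} (hK : K ≤ E) : Hyp p K where
  hW := h.hW
  hp2 := h.hp2
  hE := fun e he => h.hE e (hK he)
  hab := fun e he e' he' => h.hab e (hK he) e' (hK he')
  hfix := fun e he => h.hfix e (hK he)

theorem Hyp.K_cyclic (h : Hyp p E) {e : MulAut W} (he1 : e ≠ 1)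
    (hc : Nat.card (fix e) = 8) (hnt : ¬ Triv E e) : IsCyclic (Kof E e) := by
  by_contra hnc
  have hK : Kof E e ≤ E := inf_le_left
  have hs := h.sub hK
  have := genE hs.hW hs.hp2 (Kof E e) hs.hE hs.hab hnc (fix e) (fun k hk hk1 =>
    le_of_eq (h.fix_eq_of_mem_K hc hnt hk hk1))
  exact he1 (fix_eq_top_iff.mp this)

theorem Hyp.exists_not_triv (h : Hyp p E) (hnc : ¬ IsCyclic E) :
    ∃ e ∈ E, e ≠ 1 ∧ ¬ Triv E e := by
  by_contra hcon
  push Not at hcon
  have h1 := genE h.hW h.hp2 E h.hE h.hab hnc (fixAll E) (fun e he he1 x hx e' he' =>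
    hcon e he he1 e' he' x hx)
  apply hnc
  have hbot : E = ⊥ := by
    rw [eq_bot_iff]
    intro e he
    rw [Subgroup.mem_bot]
    ext x
    have : x ∈ fixAll E := by rw [h1]; exact Subgroup.mem_top x
    exact this e he
  rw [hbot]
  exact isCyclic_of_subsingleton

theorem Hyp.main_C (h : Hyp p E) (hnc : ¬ IsCyclic E) :
    p = 3 ∧ Nat.card E = 9 ∧ ∃ e0 ∈ E, ∃ e1 ∈ E, e0 ≠ 1 ∧ e1 ≠ 1 ∧
      Nat.card (fix e0) = 8 ∧ Nat.card (fix e1) = 8 ∧ e1 ∉ ptStab (fix e0) := by
  have hp : p.Prime := Fact.out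
  obtain ⟨e0, he0, he01, hnt0⟩ := h.exists_not_triv hnc
  have hc0 : Nat.card (fix e0) = 8 := by
    rcases h.dich he0 he01 with hT | ⟨hc, -⟩
    · exact absurd hT hnt0
    · exact hc
  have hp3 : p = 3 := h.p_eq_three he0 he01 hc0 hnt0
  -- a second non-trivial type element outside K0
  obtain ⟨e1, he1, he1K, hnt1⟩ : ∃ e1 ∈ E, e1 ∉ Kof E e0 ∧ ¬ Triv E e1 := by
    by_contra hcon
    push Not at hcon
    have h1 := genE h.hW h.hp2 E h.hE h.hab hnc (fix e0) (by
      intro e he he1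
      by_cases hK : e ∈ Kof E e0
      · exact le_of_eq (h.fix_eq_of_mem_K hc0 hnt0 hK he1)
      · intro x hx
        exact hcon e he hK e0 he0 x hx)
    exact he01 (fix_eq_top_iff.mp h1)
  have he11 : e1 ≠ 1 := by
    intro h1
    apply he1K
    rw [h1]; exact Subgroup.one_mem _
  have hc1 : Nat.card (fix e1) = 8 := by
    rcases h.dich he1 he11 with hT | ⟨hc, -⟩
    · exact absurd hT hnt1
    · exact hc
  have hne : e1 ∉ ptStab (fix e0) := fun h0 => he1K (Subgroup.mem_inf.mpr ⟨he1, h0⟩)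
  refine ⟨hp3, ?_, e0, he0, e1, he1, he01, he11, hc0, hc1, hne⟩
  -- K0 ⊓ K1 = ⊥
  have hbot : Kof E e0 ⊓ Kof E e1 = ⊥ := by
    rw [eq_bot_iff]
    intro k hk
    rw [Subgroup.mem_bot]
    by_contra hk1
    obtain ⟨hk0, hk1'⟩ := Subgroup.mem_inf.mp hk
    have h0 := h.fix_eq_of_mem_K hc0 hnt0 hk0 hk1
    have h1 := h.fix_eq_of_mem_K hc1 hnt1 hk1' hk1
    apply hne
    rw [← h0, h1]
    intro x hx
    exact hx
  have hle : Nat.card E ≤ 9 := by
    have := Subgroup.relIndex_inf_le (H := Kof E e0) (K := Kof E e1) (L := E)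
    rw [hbot, Subgroup.relIndex_bot_left, h.q8_index he0 he01 hc0 hnt0,
      h.q8_index he1 he11 hc1 hnt1] at this
    exact this
  obtain ⟨m, hm⟩ := h.card_E
  rw [hp3] at hm
  rw [hm] at hle ⊢
  have hm2 : 2 ≤ m := by
    by_contra hlt
    push Not at hlt
    apply hnc
    interval_cases m
    · have : Subsingleton E := (Nat.card_eq_one_iff_unique.mp (by rw [hm]; rfl)).1
      exact isCyclic_of_subsingleton
    · have : Fact (Nat.Prime 3) := ⟨Nat.prime_three⟩
      exact isCyclic_of_prime_card (p := 3) (by rw [hm]; rfl)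
  have hm3 : m ≤ 2 := by
    by_contra hlt
    push Not at hlt
    have : 3 ^ 3 ≤ 3 ^ m := Nat.pow_le_pow_right (by norm_num) hlt
    omega
  have : m = 2 := le_antisymm hm3 hm2
  rw [this]; rfl

end Cfsg.Agent.Lib.Helper28.XsQ
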