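import Mathlib
import Cfsg.Agent.Lib.Helper28.XsQE

set_option autoImplicit false

namespace Cfsg.Agent.Lib.Helper28.XsQ

variable {W : Type*} [Group W]

structure Q8L (c : MulAut W) (z : W) : Prop where
  card : Nat.card (fix c) = 8
  uinv : ∀ x ∈ fix c, x * x = 1 → x = 1 ∨ x = z
  nab : ∃ x ∈ fix c, ∃ y ∈ fix c, x * y ≠ y * x

structure Cfg (L : Set (MulAut W)) (z : W) : Prop where
  comm : ∀ c ∈ L, ∀ c' ∈ L, c * c' = c' * c
  cube : ∀ c ∈ L, c ^ 3 = 1
  gen : ∀ U H : Subgroup W, (∀ c ∈ L, ∀ x ∈ U, c x ∈ U) → (∀ c ∈ L, fix c ⊓ U ≤ H) → U ≤ H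
  meet : ∀ c ∈ L, ∀ c' ∈ L, c ≠ c' → fix c ⊓ fix c' ≤ Subgroup.zpowers z
  line : ∀ c ∈ L, fix c ≤ Subgroup.zpowers z ∨ Q8L c z
  two : ∀ c ∈ L, ∃ d ∈ L, d ≠ c
  hz2 : orderOf z = 2
  hzfix : ∀ c ∈ L, c z = z
  hzc : ∀ w : W, w * z = z * w

theorem zz_of_order_two {z : W} (hz2 : orderOf z = 2) : z * z = 1 := by
  have := pow_orderOf_eq_one z
  rw [hz2, pow_two] at this
  exact this

theorem ne_one_of_order_two {z : W} (hz2 : orderOf z = 2) : z ≠ 1 := by
  intro h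
  rw [h, orderOf_one] at hz2
  omega

theorem central_of_mem_zpowers {z : W} (hzc : ∀ w : W, w * z = z * w) {x : W}
    (hx : x ∈ Subgroup.zpowers z) (w : W) : w * x = x * w := by
  obtain ⟨k, rfl⟩ := Subgroup.mem_zpowers_iff.mp hx
  exact ((Commute.zpow_right (hzc w) k)).eq

theorem fixed_of_mem_zpowers {z : W} {c : MulAut W} (hc : c z = z) {x : W}
    (hx : x ∈ Subgroup.zpowers z) : c x = x := by
  obtain ⟨k, rfl⟩ := Subgroup.mem_zpowers_iff.mp hx
  rw [map_zpow, hc]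

theorem Q8L.sq [Finite W] {c : MulAut W} {z : W} (h : Q8L c z) {x : W} (hx : x ∈ fix c) :
    x * x ∈ Subgroup.zpowers z := by
  have h1 : orderOf x ∣ 8 := by
    rw [← h.card, ← Subgroup.orderOf_mk x hx]
    exact orderOf_dvd_natCard _
  have h2 : orderOf x ≠ 8 := by
    intro h8
    obtain ⟨a, ha, b, hb, hab⟩ := h.nab
    have hle : Subgroup.zpowers x ≤ fix c := by
      rw [Subgroup.zpowers_le]; exact hx
    have heq : Subgroup.zpowers x = fix c :=
      Subgroup.eq_of_le_of_card_ge hle (by rw [Nat.card_zpowers, h8, h.card])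
    rw [← heq] at ha hb
    obtain ⟨i, rfl⟩ := Subgroup.mem_zpowers_iff.mp ha
    obtain ⟨j, rfl⟩ := Subgroup.mem_zpowers_iff.mp hb
    apply hab
    rw [← zpow_add, ← zpow_add, add_comm]
  have h3 : orderOf x ∣ 4 := by
    have hle : orderOf x ≤ 8 := Nat.le_of_dvd (by norm_num) h1
    have hpos : 0 < orderOf x := Nat.pos_of_dvd_of_pos h1 (by norm_num)
    interval_cases (orderOf x) <;> simp_all
  have h4 : x ^ 4 = 1 := orderOf_dvd_iff_pow_eq_one.mp h3
  have h5 : (x * x) * (x * x) = 1 := by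
    rw [← h4, ← pow_two, ← pow_two, ← pow_mul]
  rcases h.uinv (x * x) ((fix c).mul_mem hx hx) h5 with h6 | h6
  · rw [h6]; exact Subgroup.one_mem _
  · rw [h6]; exact Subgroup.mem_zpowers z

end Cfsg.Agent.Lib.Helper28.XsQ

namespace Cfsg.Agent.Lib.Helper28.XsQ

variable {W : Type*} [Group W]

theorem comm_in_central (Z : Subgroup W) (hZ : ∀ ζ ∈ Z, ∀ w : W, w * ζ = ζ * w) {x y : W}
    (hx : x * x ∈ Z) (hy : y * y ∈ Z) (hxy : (y * x) * (y * x) ∈ Z) :
    ∃ ζ ∈ Z, x * y = y * x * ζ := by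
  refine ⟨(y * x)⁻¹ * (x * y), ?_, by group⟩
  have h1 : (y * x)⁻¹ * (x * y) = ((y * x) * (y * x))⁻¹ * ((y * x) * (x * y)) := by group
  have h2 : (y * x) * (x * y) = (x * x) * (y * y) := by
    calc (y * x) * (x * y) = (y * (x * x)) * y := by group
      _ = ((x * x) * y) * y := by rw [hZ _ hx y]
      _ = (x * x) * (y * y) := by group
  rw [h1, h2]
  exact Z.mul_mem (Z.inv_mem hxy) (Z.mul_mem hx hy)

theorem Q8L.comm [Finite W] {c : MulAut W} {z : W} (h : Q8L c z) (hzc : ∀ w : W, w * z = z * w)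
    {x y : W} (hx : x ∈ fix c) (hy : y ∈ fix c) :
    ∃ ζ ∈ Subgroup.zpowers z, x * y = y * x * ζ :=
  comm_in_central _ (fun _ hζ w => central_of_mem_zpowers hzc hζ w) (h.sq hx) (h.sq hy)
    (h.sq ((fix c).mul_mem hy hx))

theorem Q8L.irr [Finite W] {c d : MulAut W} {z : W} (h : Q8L c z) (hz2 : orderOf z = 2)
    (hd3 : d ^ 3 = 1) (hdz : d z = z) (hmeet : fix d ⊓ fix c ≤ Subgroup.zpowers z)
    (V : Subgroup W) (hVc : V ≤ fix c) (hVd : ∀ x ∈ V, d x ∈ V)
    (hVZ : ¬ V ≤ Subgroup.zpowers z) : fix c ≤ V := by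
  have : Fact (Nat.Prime 2) := ⟨Nat.prime_two⟩
  have : Fact (Nat.Prime 3) := ⟨Nat.prime_three⟩
  have hcV : Nat.card V ∣ 8 := by rw [← h.card]; exact Subgroup.card_dvd_of_le hVc
  have hV1 : Nat.card V ≠ 1 := by
    intro h1
    apply hVZ
    rw [Subgroup.card_eq_one.mp h1]
    exact bot_le
  have h2V : 2 ∣ Nat.card V := by
    have hle : Nat.card V ≤ 8 := Nat.le_of_dvd (by norm_num) hcV
    have hpos : 0 < Nat.card V := Nat.card_pos
    interval_cases (Nat.card V) <;> simp_all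
  obtain ⟨t, ht⟩ := exists_prime_orderOf_dvd_card' (G := V) 2 h2V
  have ht2 : orderOf (t : W) = 2 := by rw [Subgroup.orderOf_coe]; exact ht
  have htz : (t : W) = z := by
    rcases h.uinv t.1 (hVc t.2) (zz_of_order_two ht2) with h0 | h0
    · exact absurd h0 (ne_one_of_order_two ht2)
    · exact h0
  have hzV : z ∈ V := by rw [← htz]; exact t.2
  have hd3' : d ^ 3 ^ 1 = 1 := by rw [pow_one]; exact hd3
  have hmod := card_inf_fix_modEq d hd3' V hVd
  have hD : fix d ⊓ V = Subgroup.zpowers z := by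
    apply le_antisymm
    · exact le_trans (inf_le_inf_left _ hVc) hmeet
    · rw [Subgroup.zpowers_le]
      exact Subgroup.mem_inf.mpr ⟨hdz, hzV⟩
  rw [hD, Nat.card_zpowers, hz2] at hmod
  have hcz : Nat.card (Subgroup.zpowers z) = 2 := by rw [Nat.card_zpowers, hz2]
  have hzle : Subgroup.zpowers z ≤ V := by rw [Subgroup.zpowers_le]; exact hzV
  have h8 : Nat.card V = 8 := by
    have hle : Nat.card V ≤ 8 := Nat.le_of_dvd (by norm_num) hcV
    have hpos : 0 < Nat.card V := Nat.card_pos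
    have hne2 : Nat.card V ≠ 2 := by
      intro h2
      apply hVZ
      rw [← Subgroup.eq_of_le_of_card_ge hzle (by rw [h2, hcz])]
    unfold Nat.ModEq at hmod
    interval_cases (Nat.card V) <;> simp_all
  exact le_of_eq (Subgroup.eq_of_le_of_card_ge hVc (by rw [h8, h.card])).symm

end Cfsg.Agent.Lib.Helper28.XsQ
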