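import Mathlib
import Cfsg.Agent.Lib.Helper28.XsQF

set_option autoImplicit false

namespace Cfsg.Agent.Lib.Helper28.XsQ

variable {W : Type*} [Group W]

theorem Q8L.cen [Finite W] {c d : MulAut W} {z : W} (h : Q8L c z) (hz2 : orderOf z = 2)
    (hcd : c * d = d * c) (hd3 : d ^ 3 = 1) (hdz : d z = z)
    (hmeet : fix d ⊓ fix c ≤ Subgroup.zpowers z) {x : W} (hx : x ∈ fix c)
    (hxc : ∀ y ∈ fix c, x * y = y * x) : x ∈ Subgroup.zpowers z := by
  by_contra hxz
  set C := fix c ⊓ Subgroup.centralizer (fix c : Set W) with hC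
  have hxC : x ∈ C := by
    refine Subgroup.mem_inf.mpr ⟨hx, ?_⟩
    rw [Subgroup.mem_centralizer_iff]
    intro y hy
    exact (hxc y hy).symm
  have hCd : ∀ g ∈ C, d g ∈ C := by
    intro g hg
    obtain ⟨hg1, hg2⟩ := Subgroup.mem_inf.mp hg
    refine Subgroup.mem_inf.mpr ⟨fix_invariant hcd hg1, ?_⟩
    rw [Subgroup.mem_centralizer_iff] at hg2 ⊢
    intro y hy
    have hy' : (d ^ 2) y ∈ fix c := invariant_pow (fun x hx => fix_invariant hcd hx) 2 y hy
    have h1 := hg2 _ hy'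
    have h2 := congrArg d h1
    rw [map_mul, map_mul, ← pow_succ_apply] at h2
    have : (2 + 1 : ℕ) = 3 := rfl
    rw [this, hd3] at h2
    exact h2
  have hle := h.irr hz2 hd3 hdz hmeet C inf_le_left hCd (fun hCZ => hxz (hCZ hxC))
  obtain ⟨a, ha, b, hb, hab⟩ := h.nab
  apply hab
  have := (Subgroup.mem_inf.mp (hle ha)).2
  rw [Subgroup.mem_centralizer_iff] at this
  exact (this b hb).symm

/-- the preimage in `U` of the centre of `U / ⟨z⟩` -/
def secondCen (U : Subgroup W) (z : W) (hzc : ∀ w : W, w * z = z * w) : Subgroup W where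
  carrier := {t | t ∈ U ∧ ∀ w ∈ U, ∃ ζ ∈ Subgroup.zpowers z, t * w = w * t * ζ}
  mul_mem' := by
    rintro a b ⟨haU, ha⟩ ⟨hbU, hb⟩
    refine ⟨U.mul_mem haU hbU, fun w hw => ?_⟩
    obtain ⟨ζ, hζ, h1⟩ := ha w hw
    obtain ⟨ζ', hζ', h2⟩ := hb w hw
    refine ⟨ζ * ζ', Subgroup.mul_mem _ hζ hζ', ?_⟩
    have hc := central_of_mem_zpowers hzc hζ
    calc a * b * w = a * (b * w) := by group
      _ = a * (w * b * ζ') := by rw [h2]
      _ = (a * w) * b * ζ' := by group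
      _ = (w * a * ζ) * b * ζ' := by rw [h1]
      _ = w * a * (ζ * b) * ζ' := by group
      _ = w * a * (b * ζ) * ζ' := by rw [hc b]
      _ = w * (a * b) * (ζ * ζ') := by group
  one_mem' := by
    refine ⟨U.one_mem, fun w _ => ⟨1, Subgroup.one_mem _, by group⟩⟩
  inv_mem' := by
    rintro a ⟨haU, ha⟩
    refine ⟨U.inv_mem haU, fun w hw => ?_⟩
    obtain ⟨ζ, hζ, h1⟩ := ha w hw
    refine ⟨ζ⁻¹, Subgroup.inv_mem _ hζ, ?_⟩
    have hc := central_of_mem_zpowers hzc hζ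
    have h2 : w = a⁻¹ * (w * a * ζ) := by rw [← h1]; group
    calc a⁻¹ * w = a⁻¹ * w * (a * (ζ * a⁻¹) * ζ⁻¹) := by rw [← hc a⁻¹]; group
      _ = a⁻¹ * (w * a * ζ) * a⁻¹ * ζ⁻¹ := by group
      _ = w * a⁻¹ * ζ⁻¹ := by rw [← h2]

end Cfsg.Agent.Lib.Helper28.XsQ

namespace Cfsg.Agent.Lib.Helper28.XsQ

variable {W : Type*} [Group W]

theorem mem_secondCen {U : Subgroup W} {z : W} {hzc : ∀ w : W, w * z = z * w} {t : W} :
    t ∈ secondCen U z hzc ↔
      t ∈ U ∧ ∀ w ∈ U, ∃ ζ ∈ Subgroup.zpowers z, t * w = w * t * ζ := Iff.rfl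

theorem secondCen_invariant {U : Subgroup W} {z : W} (hzc : ∀ w : W, w * z = z * w)
    {c : MulAut W} (hc3 : c ^ 3 = 1) (hcz : c z = z) (hU : ∀ x ∈ U, c x ∈ U) :
    ∀ t ∈ secondCen U z hzc, c t ∈ secondCen U z hzc := by
  rintro t ⟨htU, ht⟩
  refine ⟨hU t htU, fun w hw => ?_⟩
  have hw' : (c ^ 2) w ∈ U := invariant_pow hU 2 w hw
  obtain ⟨ζ, hζ, h1⟩ := ht _ hw'
  refine ⟨ζ, hζ, ?_⟩
  have h2 := congrArg c h1
  rw [map_mul, map_mul, map_mul, ← pow_succ_apply, fixed_of_mem_zpowers hcz hζ] at h2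
  have : (2 + 1 : ℕ) = 3 := rfl
  rw [this, hc3] at h2
  exact h2

theorem exists_secondCen [Finite W] (hW : IsPGroup 2 W) {z : W} (hzc : ∀ w : W, w * z = z * w)
    (U : Subgroup W) (hUZ : ¬ U ≤ Subgroup.zpowers z) :
    ¬ secondCen U z hzc ≤ Subgroup.zpowers z := by
  have : Fact (Nat.Prime 2) := ⟨Nat.prime_two⟩
  set Z' := (Subgroup.zpowers z).subgroupOf U with hZ'
  have hN : Z'.Normal := by
    refine ⟨fun n hn g => ?_⟩
    rw [Subgroup.mem_subgroupOf] at hn ⊢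
    have h1 : ((g * n * g⁻¹ : U) : W) = (n : W) := by
      simp only [Subgroup.coe_mul, Subgroup.coe_inv]
      rw [central_of_mem_zpowers hzc hn (g : W)]
      group
    rw [h1]; exact hn
  have hQ : IsPGroup 2 (U ⧸ Z') := (hW.to_subgroup U).to_quotient Z'
  have hnt : Nontrivial (U ⧸ Z') := by
    rw [← Finite.one_lt_card_iff_nontrivial]
    apply Subgroup.one_lt_index_of_ne_top
    intro htop
    exact hUZ (Subgroup.subgroupOf_eq_top.mp htop)
  have hcen := hQ.center_nontrivial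
  obtain ⟨⟨q, hq⟩, hq1⟩ := exists_ne (1 : Subgroup.center (U ⧸ Z'))
  obtain ⟨t, rfl⟩ := QuotientGroup.mk_surjective q
  intro hle
  apply hq1
  apply Subtype.ext
  show (QuotientGroup.mk t : U ⧸ Z') = 1
  rw [QuotientGroup.eq_one_iff, Subgroup.mem_subgroupOf]
  apply hle
  refine ⟨t.2, fun w hw => ?_⟩
  rw [Subgroup.mem_center_iff] at hq
  have h1 := hq (QuotientGroup.mk ⟨w, hw⟩)
  rw [← QuotientGroup.mk_mul, ← QuotientGroup.mk_mul, QuotientGroup.eq,
    Subgroup.mem_subgroupOf] at h1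
  refine ⟨_, h1, ?_⟩
  simp only [Subgroup.coe_mul, Subgroup.coe_inv]
  group

end Cfsg.Agent.Lib.Helper28.XsQ

namespace Cfsg.Agent.Lib.Helper28.XsQ

variable {W : Type*} [Group W]

theorem zeta_eq_one_of_cube {z ζ : W} (hz2 : orderOf z = 2) (hζ : ζ ∈ Subgroup.zpowers z)
    (h3 : ζ * ζ * ζ = 1) : ζ = 1 := by
  rcases mem_zpowers_of_order_two hz2 hζ with h | h
  · exact h
  · rw [h, zz_of_order_two hz2, one_mul] at h3
    rw [h]; exact h3

/-- the "cube" argument -/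
theorem Cfg.cube_arg [Finite W] {L : Set (MulAut W)} {z : W} (cfg : Cfg L z)
    {c0 c' : MulAut W} (hc0 : c0 ∈ L) (hc' : c' ∈ L) (hne : c0 ≠ c')
    {u y : W} (hu : u ∈ fix c0) (hy : y ∈ fix c')
    (hζ : ∃ ζ ∈ Subgroup.zpowers z, u * y = y * u * ζ) : u * y = y * u := by
  rcases cfg.line c' hc' with hT | hQ
  · exact (central_of_mem_zpowers cfg.hzc (hT hy) u)
  obtain ⟨ζ, hζZ, h0⟩ := hζ
  have hcen := central_of_mem_zpowers cfg.hzc hζZ
  have hcomm : c' * c0 = c0 * c' := cfg.comm c' hc' c0 hc0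
  have hcz : c0 z = z := cfg.hzfix c0 hc0
  have hcu : c0 u = u := hu
  have hcζ : c0 ζ = ζ := fixed_of_mem_zpowers hcz hζZ
  have hy1 : c0 y ∈ fix c' := fix_invariant hcomm hy
  have hy2 : c0 (c0 y) ∈ fix c' := fix_invariant hcomm hy1
  have hy3 : c0 (c0 (c0 y)) = y := by
    have h1 : (c0 ^ 3) y = c0 (c0 (c0 y)) := by
      rw [pow_succ_apply, pow_succ_apply, pow_succ_apply]; simp
    rw [← h1, cfg.cube c0 hc0]; rfl
  have h1 : u * c0 y = c0 y * u * ζ := by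
    have := congrArg c0 h0
    rw [map_mul, map_mul, map_mul, hcu, hcζ] at this
    exact this
  have h2 : u * c0 (c0 y) = c0 (c0 y) * u * ζ := by
    have := congrArg c0 h1
    rw [map_mul, map_mul, map_mul, hcu, hcζ] at this
    exact this
  obtain ⟨n, hn⟩ : ∃ n, n = y * c0 y * c0 (c0 y) := ⟨_, rfl⟩
  have hnfix : n ∈ fix c' := by
    rw [hn]; exact (fix c').mul_mem ((fix c').mul_mem hy hy1) hy2
  have hun : u * n = n * u * (ζ * ζ * ζ) := by
    rw [hn]
    calc u * (y * c0 y * c0 (c0 y)) = (u * y) * c0 y * c0 (c0 y) := by group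
      _ = (y * u * ζ) * c0 y * c0 (c0 y) := by rw [h0]
      _ = y * u * (ζ * c0 y) * c0 (c0 y) := by group
      _ = y * u * (c0 y * ζ) * c0 (c0 y) := by rw [hcen (c0 y)]
      _ = y * (u * c0 y) * (ζ * c0 (c0 y)) := by group
      _ = y * (c0 y * u * ζ) * (c0 (c0 y) * ζ) := by rw [h1, hcen (c0 (c0 y))]
      _ = y * c0 y * u * (ζ * c0 (c0 y)) * ζ := by group
      _ = y * c0 y * u * (c0 (c0 y) * ζ) * ζ := by rw [hcen (c0 (c0 y))]
      _ = y * c0 y * (u * c0 (c0 y)) * ζ * ζ := by group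
      _ = y * c0 y * (c0 (c0 y) * u * ζ) * ζ * ζ := by rw [h2]
      _ = y * c0 y * c0 (c0 y) * u * (ζ * ζ * ζ) := by group
  have hcn : c0 n = y⁻¹ * n * y := by
    rw [hn, map_mul, map_mul, hy3]; group
  obtain ⟨ζ', hζ'Z, h3⟩ := hQ.comm cfg.hzc hnfix hy
  have hcn' : c0 n = n * ζ' := by
    rw [hcn, mul_assoc, h3]; group
  have hcζ' : c0 ζ' = ζ' := fixed_of_mem_zpowers hcz hζ'Z
  have hn3 : c0 (c0 (c0 n)) = n := by
    have h1 : (c0 ^ 3) n = c0 (c0 (c0 n)) := by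
      rw [pow_succ_apply, pow_succ_apply, pow_succ_apply]; simp
    rw [← h1, cfg.cube c0 hc0]; rfl
  have hζ'1 : ζ' = 1 := by
    apply zeta_eq_one_of_cube cfg.hz2 hζ'Z
    have : c0 (c0 (c0 n)) = n * (ζ' * ζ' * ζ') := by
      rw [hcn', map_mul, hcn', hcζ', map_mul, map_mul, hcn', hcζ']; group
    rw [hn3] at this
    have h4 : n * 1 = n * (ζ' * ζ' * ζ') := by rw [mul_one]; exact this
    exact (mul_left_cancel h4).symm
  have hnc0 : n ∈ fix c0 := by
    rw [mem_fix, hcn', hζ'1, mul_one]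
  have hnZ : n ∈ Subgroup.zpowers z :=
    cfg.meet c0 hc0 c' hc' hne (Subgroup.mem_inf.mpr ⟨hnc0, hnfix⟩)
  have hun' : u * n = n * u := central_of_mem_zpowers cfg.hzc hnZ u
  have hζ1 : ζ = 1 := by
    apply zeta_eq_one_of_cube cfg.hz2 hζZ
    rw [hun'] at hun
    have h4 : n * u * 1 = n * u * (ζ * ζ * ζ) := by rw [mul_one]; exact hun
    exact (mul_left_cancel h4).symm
  rw [h0, hζ1, mul_one]

end Cfsg.Agent.Lib.Helper28.XsQ

namespace Cfsg.Agent.Lib.Helper28.XsQ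

variable {W : Type*} [Group W]

theorem Cfg.commute_aux [Finite W] (hW : IsPGroup 2 W) {L : Set (MulAut W)} {z : W}
    (cfg : Cfg L z) : ∀ (n : ℕ) (U : Subgroup W), Nat.card U = n →
      (∀ c ∈ L, ∀ x ∈ U, c x ∈ U) →
      ∀ c ∈ L, ∀ c' ∈ L, c ≠ c' → ∀ u ∈ fix c ⊓ U, ∀ y ∈ fix c' ⊓ U, u * y = y * u := by
  intro n
  induction n using Nat.strong_induction_on with
  | _ n ih =>
    intro U hUn hUinv c hc c' hc' hne u hu y hy
    by_cases hUZ : U ≤ Subgroup.zpowers z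
    · exact central_of_mem_zpowers cfg.hzc (hUZ (Subgroup.mem_inf.mp hy).2) u
    -- second centre
    have hTZ := exists_secondCen hW cfg.hzc U hUZ
    have hTinv : ∀ c ∈ L, ∀ t ∈ secondCen U z cfg.hzc, c t ∈ secondCen U z cfg.hzc :=
      fun c hc => secondCen_invariant cfg.hzc (cfg.cube c hc) (cfg.hzfix c hc) (hUinv c hc)
    obtain ⟨c0, hc0, hc0T⟩ : ∃ c0 ∈ L, ¬ fix c0 ⊓ secondCen U z cfg.hzc ≤ Subgroup.zpowers z := by
      by_contra hcon
      push Not at hcon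
      exact hTZ (cfg.gen _ _ hTinv hcon)
    have hQ0 : Q8L c0 z := by
      rcases cfg.line c0 hc0 with hT | hQ
      · exact absurd (le_trans inf_le_left hT) hc0T
      · exact hQ
    obtain ⟨d, hd, hdne⟩ := cfg.two c0 hc0
    have hF0T : fix c0 ≤ secondCen U z cfg.hzc := by
      have := hQ0.irr cfg.hz2 (cfg.cube d hd) (cfg.hzfix d hd) (cfg.meet d hd c0 hc0 hdne)
        (fix c0 ⊓ secondCen U z cfg.hzc) inf_le_left
        (fun x hx => Subgroup.mem_inf.mpr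
          ⟨fix_invariant (cfg.comm c0 hc0 d hd) (Subgroup.mem_inf.mp hx).1,
            hTinv d hd x (Subgroup.mem_inf.mp hx).2⟩) hc0T
      exact le_trans this inf_le_right
    -- fix c0 commutes with the other lines inside U
    have hstep : ∀ c' ∈ L, c0 ≠ c' → ∀ u ∈ fix c0, ∀ y ∈ fix c' ⊓ U, u * y = y * u := by
      intro c' hc' hne' u hu y hy
      obtain ⟨hy1, hy2⟩ := Subgroup.mem_inf.mp hy
      exact cfg.cube_arg hc0 hc' hne' hu hy1 ((hF0T hu).2 y hy2)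
    by_cases h1 : c = c0
    · subst h1
      exact hstep c' hc' hne u (Subgroup.mem_inf.mp hu).1 y hy
    by_cases h2 : c' = c0
    · subst h2
      exact (hstep c hc (Ne.symm hne) y (Subgroup.mem_inf.mp hy).1 u hu).symm
    -- both different from c0: pass to U₁ = U ⊓ C(fix c0)
    set U₁ := U ⊓ Subgroup.centralizer (fix c0 : Set W) with hU₁
    have hU₁inv : ∀ c ∈ L, ∀ x ∈ U₁, c x ∈ U₁ := by
      intro c hc x hx
      obtain ⟨hx1, hx2⟩ := Subgroup.mem_inf.mp hx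
      refine Subgroup.mem_inf.mpr ⟨hUinv c hc x hx1, ?_⟩
      rw [Subgroup.mem_centralizer_iff] at hx2 ⊢
      intro f hf
      have hcc : c0 * c = c * c0 := cfg.comm c0 hc0 c hc
      have hf' : (c ^ 2) f ∈ fix c0 :=
        invariant_pow (fun x hx => fix_invariant hcc hx) 2 f hf
      have h3 := hx2 _ hf'
      have h4 := congrArg c h3
      rw [map_mul, map_mul, ← pow_succ_apply] at h4
      have : (2 + 1 : ℕ) = 3 := rfl
      rw [this, cfg.cube c hc] at h4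
      exact h4
    have hlt : Nat.card U₁ < n := by
      rw [← hUn]
      have hle : U₁ ≤ U := inf_le_left
      have hle' := Subgroup.card_le_of_le hle
      rcases Nat.lt_or_ge (Nat.card U₁) (Nat.card U) with h | h
      · exact h
      · exfalso
        have heq : U₁ = U := Subgroup.eq_of_le_of_card_ge hle h
        obtain ⟨a, ha, b, hb, hab⟩ := hQ0.nab
        apply hab
        have haU : a ∈ U := (hF0T ha).1
        rw [← heq] at haU
        have := (Subgroup.mem_inf.mp haU).2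
        rw [Subgroup.mem_centralizer_iff] at this
        exact (this b hb).symm
    have hmem : ∀ c ∈ L, c ≠ c0 → ∀ u ∈ fix c ⊓ U, u ∈ fix c ⊓ U₁ := by
      intro c hc hcne u hu
      obtain ⟨hu1, hu2⟩ := Subgroup.mem_inf.mp hu
      refine Subgroup.mem_inf.mpr ⟨hu1, Subgroup.mem_inf.mpr ⟨hu2, ?_⟩⟩
      rw [Subgroup.mem_centralizer_iff]
      intro f hf
      exact hstep c hc (Ne.symm hcne) f hf u hu
    exact ih _ hlt U₁ rfl hU₁inv c hc c' hc' hne u (hmem c hc h1 u hu) y (hmem c' hc' h2 y hy)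

theorem Cfg.commute [Finite W] (hW : IsPGroup 2 W) {L : Set (MulAut W)} {z : W}
    (cfg : Cfg L z) {c c' : MulAut W} (hc : c ∈ L) (hc' : c' ∈ L) (hne : c ≠ c')
    {u y : W} (hu : u ∈ fix c) (hy : y ∈ fix c') : u * y = y * u :=
  cfg.commute_aux hW _ ⊤ rfl (fun _ _ _ _ => Subgroup.mem_top _) c hc c' hc' hne u
    (Subgroup.mem_inf.mpr ⟨hu, Subgroup.mem_top _⟩) y (Subgroup.mem_inf.mpr ⟨hy, Subgroup.mem_top _⟩)

end Cfsg.Agent.Lib.Helper28.XsQ
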