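import Mathlib
import Cfsg.Prelude.Def_Transfer
import Cfsg.Agent.Lib.Helper28.XsQG

set_option autoImplicit false

namespace Cfsg.Agent.Lib.Helper28.XsQ

open scoped commutatorElement

variable {W : Type*} [Group W]

/-- elements commuting with all of `S` modulo `⟨z⟩` -/
def cenMod (S : Set W) (z : W) (hzc : ∀ w : W, w * z = z * w) : Subgroup W where
  carrier := {t | ∀ w ∈ S, ∃ ζ ∈ Subgroup.zpowers z, t * w = w * t * ζ}
  mul_mem' := by
    intro a b ha hb w hw
    obtain ⟨ζ, hζ, h1⟩ := ha w hw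
    obtain ⟨ζ', hζ', h2⟩ := hb w hw
    refine ⟨ζ * ζ', Subgroup.mul_mem _ hζ hζ', ?_⟩
    have hc := central_of_mem_zpowers hzc hζ
    calc a * b * w = a * (b * w) := by group
      _ = a * (w * b * ζ') := by rw [h2]
      _ = (a * w) * b * ζ' := by group
      _ = (w * a * ζ) * b * ζ' := by rw [h1]
      _ = w * a * (ζ * b) * ζ' := by group
      _ = w * a * (b * ζ) * ζ' := by rw [hc b]
      _ = w * (a * b) * (ζ * ζ') := by group
  one_mem' := fun w _ => ⟨1, Subgroup.one_mem _, by group⟩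
  inv_mem' := by
    intro a ha w hw
    obtain ⟨ζ, hζ, h1⟩ := ha w hw
    refine ⟨ζ⁻¹, Subgroup.inv_mem _ hζ, ?_⟩
    have hc := central_of_mem_zpowers hzc hζ
    have h2 : w = a⁻¹ * (w * a * ζ) := by rw [← h1]; group
    calc a⁻¹ * w = a⁻¹ * w * (a * (ζ * a⁻¹) * ζ⁻¹) := by rw [← hc a⁻¹]; group
      _ = a⁻¹ * (w * a * ζ) * a⁻¹ * ζ⁻¹ := by group
      _ = w * a⁻¹ * ζ⁻¹ := by rw [← h2]

theorem mem_cenMod {S : Set W} {z : W} {hzc : ∀ w : W, w * z = z * w} {t : W} :
    t ∈ cenMod S z hzc ↔ ∀ w ∈ S, ∃ ζ ∈ Subgroup.zpowers z, t * w = w * t * ζ := Iff.rfl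

/-- elements whose square lies in `⟨z⟩`, when `W / ⟨z⟩` is abelian -/
def sqMod (z : W) (hzc : ∀ w : W, w * z = z * w)
    (hstar : ∀ t w : W, ∃ ζ ∈ Subgroup.zpowers z, t * w = w * t * ζ) : Subgroup W where
  carrier := {w | w * w ∈ Subgroup.zpowers z}
  mul_mem' := by
    intro a b ha hb
    obtain ⟨ζ, hζ, h1⟩ := hstar b a
    have hc := central_of_mem_zpowers hzc hζ
    have : (a * b) * (a * b) = (a * a) * (b * b) * ζ := by
      calc (a * b) * (a * b) = a * (b * a) * b := by group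
        _ = a * (a * b * ζ) * b := by rw [h1]
        _ = a * a * b * (ζ * b) := by group
        _ = a * a * b * (b * ζ) := by rw [hc b]
        _ = (a * a) * (b * b) * ζ := by group
    show (a * b) * (a * b) ∈ Subgroup.zpowers z
    rw [this]
    exact Subgroup.mul_mem _ (Subgroup.mul_mem _ ha hb) hζ
  one_mem' := by
    show (1 : W) * 1 ∈ Subgroup.zpowers z
    rw [one_mul]; exact Subgroup.one_mem _
  inv_mem' := by
    intro a ha
    show a⁻¹ * a⁻¹ ∈ Subgroup.zpowers z
    have : a⁻¹ * a⁻¹ = (a * a)⁻¹ := by group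
    rw [this]; exact Subgroup.inv_mem _ ha

theorem Cfg.star [Finite W] (hW : IsPGroup 2 W) {L : Set (MulAut W)} {z : W} (cfg : Cfg L z) :
    ∀ t w : W, ∃ ζ ∈ Subgroup.zpowers z, t * w = w * t * ζ := by
  have htop : ∀ c ∈ L, ∀ x ∈ (⊤ : Subgroup W), c x ∈ (⊤ : Subgroup W) :=
    fun _ _ _ _ => Subgroup.mem_top _
  -- step 1
  have h1 : ∀ c ∈ L, ∀ u ∈ fix c, ∀ w : W, ∃ ζ ∈ Subgroup.zpowers z, w * u = u * w * ζ := by
    intro c hc u hu w
    have hle : (⊤ : Subgroup W) ≤ cenMod {u} z cfg.hzc := by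
      apply cfg.gen ⊤ _ htop
      intro c' hc' y hy
      have hy' := (Subgroup.mem_inf.mp hy).1
      rw [mem_cenMod]
      intro w hw
      rw [Set.mem_singleton_iff] at hw
      subst hw
      by_cases hcc : c' = c
      · subst hcc
        rcases cfg.line c' hc with hT | hQ
        · exact ⟨1, Subgroup.one_mem _, by
            rw [mul_one]; exact central_of_mem_zpowers cfg.hzc (hT hu) y⟩
        · exact hQ.comm cfg.hzc hy' hu
      · exact ⟨1, Subgroup.one_mem _, by
          rw [mul_one]; exact cfg.commute hW hc' hc hcc hy' hu⟩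
    exact hle (Subgroup.mem_top w) u rfl
  intro t w
  have hle : (⊤ : Subgroup W) ≤ cenMod Set.univ z cfg.hzc := by
    apply cfg.gen ⊤ _ htop
    intro c hc u hu
    have hu' := (Subgroup.mem_inf.mp hu).1
    rw [mem_cenMod]
    intro w _
    obtain ⟨ζ, hζ, h2⟩ := h1 c hc u hu' w
    refine ⟨ζ⁻¹, Subgroup.inv_mem _ hζ, ?_⟩
    rw [h2]; group
  exact hle (Subgroup.mem_top t) w (Set.mem_univ w)

end Cfsg.Agent.Lib.Helper28.XsQ

namespace Cfsg.Agent.Lib.Helper28.XsQ

open scoped commutatorElement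

variable {W : Type*} [Group W]

theorem normal_of_central {z : W} (hzc : ∀ w : W, w * z = z * w) : (Subgroup.zpowers z).Normal := by
  refine ⟨fun n hn g => ?_⟩
  have : g * n * g⁻¹ = n := by
    rw [central_of_mem_zpowers hzc hn g]; group
  rw [this]; exact hn

theorem Cfg.structure [Finite W] (hW : IsPGroup 2 W) {L : Set (MulAut W)} {z : W} (cfg : Cfg L z)
    {c1 : MulAut W} (_hc1 : c1 ∈ L) (hQ1 : Q8L c1 z) :
    commutator W = Subgroup.zpowers z ∧ frattini W = Subgroup.zpowers z ∧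
      Subgroup.center W = Subgroup.zpowers z := by
  have : Fact (Nat.Prime 2) := ⟨Nat.prime_two⟩
  have hstar := cfg.star hW
  have htop : ∀ c ∈ L, ∀ x ∈ (⊤ : Subgroup W), c x ∈ (⊤ : Subgroup W) :=
    fun _ _ _ _ => Subgroup.mem_top _
  have hcomm_le : commutator W ≤ Subgroup.zpowers z := by
    rw [commutator_def, Subgroup.commutator_le]
    intro t _ w _
    obtain ⟨ζ, hζ, h1⟩ := hstar t w
    have hc := central_of_mem_zpowers cfg.hzc hζ
    have : ⁅t, w⁆ = ζ := by
      rw [commutatorElement_def, h1]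
      calc w * t * ζ * t⁻¹ * w⁻¹ = w * t * (ζ * t⁻¹) * w⁻¹ := by group
        _ = w * t * (t⁻¹ * ζ) * w⁻¹ := by rw [hc t⁻¹]
        _ = (w * ζ) * w⁻¹ := by group
        _ = (ζ * w) * w⁻¹ := by rw [hc w]
        _ = ζ := by group
    rw [this]; exact hζ
  have hz_comm : z ∈ commutator W := by
    obtain ⟨x, hx, y, hy, hxy⟩ := hQ1.nab
    obtain ⟨ζ, hζ, h1⟩ := hQ1.comm cfg.hzc hx hy
    rcases mem_zpowers_of_order_two cfg.hz2 hζ with h | h
    · exfalso; apply hxy; rw [h1, h, mul_one]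
    · have : z = ⁅x⁻¹, y⁻¹⁆ := by
        rw [commutatorElement_def, ← h]
        have : ζ = (y * x)⁻¹ * (x * y) := by rw [h1]; group
        rw [this]; group
      rw [this, commutator_def]
      exact Subgroup.commutator_mem_commutator (Subgroup.mem_top _) (Subgroup.mem_top _)
  have hcomm_eq : commutator W = Subgroup.zpowers z :=
    le_antisymm hcomm_le (by rw [Subgroup.zpowers_le]; exact hz_comm)
  -- squares
  have hsq : ∀ w : W, w * w ∈ Subgroup.zpowers z := by
    intro w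
    have hle : (⊤ : Subgroup W) ≤ sqMod z cfg.hzc hstar := by
      apply cfg.gen ⊤ _ htop
      intro c hc u hu
      have hu' := (Subgroup.mem_inf.mp hu).1
      show u * u ∈ Subgroup.zpowers z
      rcases cfg.line c hc with hT | hQ
      · exact Subgroup.mul_mem _ (hT hu') (hT hu')
      · exact hQ.sq hu'
    exact hle (Subgroup.mem_top w)
  have hN : (Subgroup.zpowers z).Normal := normal_of_central cfg.hzc
  have hfrat_le : frattini W ≤ Subgroup.zpowers z :=
    Cfsg.Agent.Lib.Helper1.frattini_le_of_elementary_quotient (p := 2) (Subgroup.zpowers z)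
      hcomm_le (fun x => by rw [pow_two]; exact hsq x)
  have hfrat_eq : frattini W = Subgroup.zpowers z :=
    le_antisymm hfrat_le (by
      rw [← hcomm_eq]; exact Cfsg.Agent.Lib.Helper1.pgroup_commutator_le_frattini hW)
  refine ⟨hcomm_eq, hfrat_eq, ?_⟩
  apply le_antisymm
  · apply cfg.gen (Subgroup.center W) _
    · intro c _ x hx
      exact Subgroup.characteristic_iff_map_le.mp inferInstance c (Subgroup.mem_map_of_mem _ hx)
    · intro c hc x hx
      obtain ⟨hx1, hx2⟩ := Subgroup.mem_inf.mp hx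
      rcases cfg.line c hc with hT | hQ
      · exact hT hx1
      · obtain ⟨d, hd, hdne⟩ := cfg.two c hc
        apply hQ.cen cfg.hz2 (cfg.comm c hc d hd) (cfg.cube d hd) (cfg.hzfix d hd)
          (cfg.meet d hd c hc hdne) hx1
        intro y _
        exact (Subgroup.mem_center_iff.mp hx2 y).symm
  · rw [Subgroup.zpowers_le, Subgroup.mem_center_iff]
    exact cfg.hzc

end Cfsg.Agent.Lib.Helper28.XsQ

namespace Cfsg.Agent.Lib.Helper28.XsQ

variable {W : Type*} [Group W]

theorem Cfg.step_card [Finite W] (hW : IsPGroup 2 W) {L : Set (MulAut W)} {z : W} (cfg : Cfg L z)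
    {c : MulAut W} (hc : c ∈ L) (hQ : Q8L c z) (X : Subgroup W)
    (hZX : Subgroup.zpowers z ≤ X) (hXc : ∀ x ∈ X, ∀ f ∈ fix c, x * f = f * x) :
    Nat.card (X ⊔ fix c : Subgroup W) = 4 * Nat.card X := by
  have hstar := cfg.star hW
  have hzF : Subgroup.zpowers z ≤ fix c := by
    rw [Subgroup.zpowers_le]; exact cfg.hzfix c hc
  have hFn : (fix c).Normal := by
    refine ⟨fun n hn g => ?_⟩
    obtain ⟨ζ, hζ, h1⟩ := hstar g n
    have hcen := central_of_mem_zpowers cfg.hzc hζ
    have : g * n * g⁻¹ = n * ζ := by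
      rw [h1]
      calc n * g * ζ * g⁻¹ = n * g * (ζ * g⁻¹) := by group
        _ = n * g * (g⁻¹ * ζ) := by rw [hcen g⁻¹]
        _ = n * ζ := by group
    rw [this]
    exact (fix c).mul_mem hn (hzF hζ)
  have hinf : fix c ⊓ X = Subgroup.zpowers z := by
    apply le_antisymm
    · intro x hx
      obtain ⟨hx1, hx2⟩ := Subgroup.mem_inf.mp hx
      obtain ⟨d, hd, hdne⟩ := cfg.two c hc
      exact hQ.cen cfg.hz2 (cfg.comm c hc d hd) (cfg.cube d hd) (cfg.hzfix d hd)
        (cfg.meet d hd c hc hdne) hx1 (fun y hy => hXc x hx2 y hy)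
    · exact le_inf hzF hZX
  have h1 : Nat.card (fix c) * (fix c).relIndex (X ⊔ fix c) = Nat.card (X ⊔ fix c : Subgroup W) := by
    have := Subgroup.relIndex_mul_relIndex (⊥ : Subgroup W) (fix c) (X ⊔ fix c) bot_le le_sup_right
    rw [Subgroup.relIndex_bot_left, Subgroup.relIndex_bot_left] at this
    exact this
  have h2 : Nat.card (fix c ⊓ X : Subgroup W) * (fix c ⊓ X).relIndex X = Nat.card X := by
    have := Subgroup.relIndex_mul_relIndex (⊥ : Subgroup W) (fix c ⊓ X) X bot_le inf_le_right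
    rw [Subgroup.relIndex_bot_left, Subgroup.relIndex_bot_left] at this
    exact this
  rw [Subgroup.relIndex_sup_right, hQ.card] at h1
  rw [Subgroup.inf_relIndex_right, hinf, Nat.card_zpowers, cfg.hz2] at h2
  rw [← h1, ← h2]
  ring

end Cfsg.Agent.Lib.Helper28.XsQ

namespace Cfsg.Agent.Lib.Helper28.XsQ

variable {W : Type*} [Group W]

theorem Cfg.step_cases [Finite W] (hW : IsPGroup 2 W) {L : Set (MulAut W)} {z : W} (cfg : Cfg L z)
    {c : MulAut W} (hc : c ∈ L) (X : Subgroup W)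
    (hZX : Subgroup.zpowers z ≤ X) (hXc : X ≤ Subgroup.centralizer (fix c : Set W)) :
    Nat.card (X ⊔ fix c : Subgroup W) = Nat.card X ∨
      Nat.card (X ⊔ fix c : Subgroup W) = 4 * Nat.card X := by
  rcases cfg.line c hc with hT | hQ
  · left
    rw [sup_eq_left.mpr (le_trans hT hZX)]
  · right
    apply cfg.step_card hW hc hQ X hZX
    intro x hx f hf
    exact (Subgroup.mem_centralizer_iff.mp (hXc hx) f hf).symm

theorem Cfg.fix_le_centralizer [Finite W] (hW : IsPGroup 2 W) {L : Set (MulAut W)} {z : W}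
    (cfg : Cfg L z) {c c' : MulAut W} (hc : c ∈ L) (hc' : c' ∈ L) (hne : c ≠ c') :
    fix c ≤ Subgroup.centralizer (fix c' : Set W) := by
  intro x hx
  rw [Subgroup.mem_centralizer_iff]
  intro f hf
  exact (cfg.commute hW hc hc' hne hx hf).symm

theorem Cfg.z_le_centralizer {L : Set (MulAut W)} {z : W}
    (cfg : Cfg L z) (S : Set W) : Subgroup.zpowers z ≤ Subgroup.centralizer S := by
  intro x hx
  rw [Subgroup.mem_centralizer_iff]
  intro f _
  exact central_of_mem_zpowers cfg.hzc hx f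

theorem Cfg.card_four [Finite W] (hW : IsPGroup 2 W) {a b : MulAut W} {z : W}
    (cfg : Cfg {a, b, a * b, a * a * b} z) (h0 : a ≠ b) (h1 : a ≠ a * b) (h2 : a ≠ a * a * b)
    (h3 : b ≠ a * b) (h4 : b ≠ a * a * b) (h5 : a * b ≠ a * a * b)
    (hQa : Q8L a z) (hQb : Q8L b z) :
    Nat.card W = 2 ^ 5 ∨ Nat.card W = 2 ^ 7 ∨ Nat.card W = 2 ^ 9 := by
  have ha : a ∈ ({a, b, a * b, a * a * b} : Set (MulAut W)) := by simp
  have hb : b ∈ ({a, b, a * b, a * a * b} : Set (MulAut W)) := by simp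
  have hab : a * b ∈ ({a, b, a * b, a * a * b} : Set (MulAut W)) := by simp
  have haab : a * a * b ∈ ({a, b, a * b, a * a * b} : Set (MulAut W)) := by simp
  set Z := Subgroup.zpowers z with hZ
  have hcZ : Nat.card Z = 2 := by rw [hZ, Nat.card_zpowers, cfg.hz2]
  set X1 := Z ⊔ fix a with hX1
  set X2 := X1 ⊔ fix b with hX2
  set X3 := X2 ⊔ fix (a * b) with hX3
  set X4 := X3 ⊔ fix (a * a * b) with hX4
  have hZ1 : Z ≤ X1 := le_sup_left
  have hZ2 : Z ≤ X2 := le_trans hZ1 le_sup_left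
  have hZ3 : Z ≤ X3 := le_trans hZ2 le_sup_left
  have c1 : Nat.card X1 = 4 * Nat.card Z :=
    cfg.step_card hW ha hQa Z le_rfl (fun x hx f _ => (central_of_mem_zpowers cfg.hzc hx f).symm)
  have hX1b : X1 ≤ Subgroup.centralizer (fix b : Set W) :=
    sup_le (cfg.z_le_centralizer _) (cfg.fix_le_centralizer hW ha hb h0)
  have c2 : Nat.card X2 = 4 * Nat.card X1 :=
    cfg.step_card hW hb hQb X1 hZ1
      (fun x hx f hf => (Subgroup.mem_centralizer_iff.mp (hX1b hx) f hf).symm)
  have hX2ab : X2 ≤ Subgroup.centralizer (fix (a * b) : Set W) :=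
    sup_le (sup_le (cfg.z_le_centralizer _) (cfg.fix_le_centralizer hW ha hab h1))
      (cfg.fix_le_centralizer hW hb hab h3)
  have c3 := cfg.step_cases hW hab X2 hZ2 hX2ab
  have hX3aab : X3 ≤ Subgroup.centralizer (fix (a * a * b) : Set W) :=
    sup_le (sup_le (sup_le (cfg.z_le_centralizer _) (cfg.fix_le_centralizer hW ha haab h2))
      (cfg.fix_le_centralizer hW hb haab h4)) (cfg.fix_le_centralizer hW hab haab h5)
  have c4 := cfg.step_cases hW haab X3 hZ3 hX3aab
  have htop : X4 = ⊤ := by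
    rw [eq_top_iff]
    apply cfg.gen ⊤ X4 (fun _ _ _ _ => Subgroup.mem_top _)
    intro c hc x hx
    have hx' := (Subgroup.mem_inf.mp hx).1
    simp only [Set.mem_insert_iff, Set.mem_singleton_iff] at hc
    rcases hc with rfl | rfl | rfl | rfl
    · exact Subgroup.mem_sup_left (Subgroup.mem_sup_left (Subgroup.mem_sup_left
        (Subgroup.mem_sup_right hx')))
    · exact Subgroup.mem_sup_left (Subgroup.mem_sup_left (Subgroup.mem_sup_right hx'))
    · exact Subgroup.mem_sup_left (Subgroup.mem_sup_right hx')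
    · exact Subgroup.mem_sup_right hx'
  have hcard : Nat.card W = Nat.card X4 := by
    rw [htop, Subgroup.card_top]
  rw [hcard]
  rw [hcZ] at c1
  rw [c1] at c2
  rcases c3 with c3 | c3 <;> rcases c4 with c4 | c4 <;> rw [c4, c3, c2] <;> norm_num

end Cfsg.Agent.Lib.Helper28.XsQ
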