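import Mathlib
import Cfsg.Prelude.Def_Transfer
import Cfsg.Agent.Lib.Helper28.XsQH

set_option autoImplicit false

namespace Cfsg.Agent.Lib.Helper28.XsQ

variable {W : Type*} [Group W]

theorem fix_mul_left {c d : MulAut W} {x : W} (h1 : x ∈ fix c) (h2 : x ∈ fix (c * d)) :
    x ∈ fix d := by
  rw [mem_fix] at *
  rw [MulAut.mul_apply] at h2
  apply c.injective
  rw [h2, h1]

theorem fix_mul_right {c d : MulAut W} {x : W} (h1 : x ∈ fix d) (h2 : x ∈ fix (c * d)) :
    x ∈ fix c := by
  rw [mem_fix] at *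
  rw [MulAut.mul_apply, h1] at h2
  exact h2

theorem fix_of_sq {a : MulAut W} (ha : a ^ 3 = 1) {x : W} (h : x ∈ fix (a * a)) : x ∈ fix a := by
  rw [mem_fix] at *
  rw [MulAut.mul_apply] at h
  have h3 : (a ^ 3) x = a (a (a x)) := by
    rw [pow_succ_apply, pow_succ_apply, pow_succ_apply]; simp
  rw [ha] at h3
  have h4 : a (a (a x)) = a x := by rw [h]
  rw [h4] at h3
  exact h3.symm

theorem fix_sq {a : MulAut W} {x : W} (h : x ∈ fix a) : x ∈ fix (a * a) := by
  rw [mem_fix] at *
  rw [MulAut.mul_apply, h, h]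

/-- pairwise intersections of the four lines -/
theorem meet_four {a b : MulAut W} (ha : a ^ 3 = 1) {c c' : MulAut W}
    (hc : c ∈ ({a, b, a * b, a * a * b} : Set (MulAut W)))
    (hc' : c' ∈ ({a, b, a * b, a * a * b} : Set (MulAut W))) (hne : c ≠ c') :
    fix c ⊓ fix c' ≤ fix b ⊓ fix a := by
  have m01 : ∀ x, x ∈ fix a → x ∈ fix b → x ∈ fix b ⊓ fix a :=
    fun x h1 h2 => Subgroup.mem_inf.mpr ⟨h2, h1⟩
  have m02 : ∀ x, x ∈ fix a → x ∈ fix (a * b) → x ∈ fix b ⊓ fix a :=
    fun x h1 h2 => m01 x h1 (fix_mul_left h1 h2)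
  have m03 : ∀ x, x ∈ fix a → x ∈ fix (a * a * b) → x ∈ fix b ⊓ fix a :=
    fun x h1 h2 => m01 x h1 (fix_mul_left (fix_sq h1) h2)
  have m12 : ∀ x, x ∈ fix b → x ∈ fix (a * b) → x ∈ fix b ⊓ fix a :=
    fun x h1 h2 => m01 x (fix_mul_right h1 h2) h1
  have m13 : ∀ x, x ∈ fix b → x ∈ fix (a * a * b) → x ∈ fix b ⊓ fix a :=
    fun x h1 h2 => m01 x (fix_of_sq ha (fix_mul_right h1 h2)) h1
  have m23 : ∀ x, x ∈ fix (a * b) → x ∈ fix (a * a * b) → x ∈ fix b ⊓ fix a := by
    intro x h1 h2
    rw [mul_assoc] at h2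
    exact m02 x (fix_mul_right h1 h2) h1
  intro x hx
  obtain ⟨hx1, hx2⟩ := Subgroup.mem_inf.mp hx
  simp only [Set.mem_insert_iff, Set.mem_singleton_iff] at hc hc'
  rcases hc with rfl | rfl | rfl | rfl <;> rcases hc' with rfl | rfl | rfl | rfl
  · exact absurd rfl hne
  · exact m01 x hx1 hx2
  · exact m02 x hx1 hx2
  · exact m03 x hx1 hx2
  · exact m01 x hx2 hx1
  · exact absurd rfl hne
  · exact m12 x hx1 hx2
  · exact m13 x hx1 hx2
  · exact m02 x hx2 hx1
  · exact m12 x hx2 hx1
  · exact absurd rfl hne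
  · exact m23 x hx1 hx2
  · exact m03 x hx2 hx1
  · exact m13 x hx2 hx1
  · exact m23 x hx2 hx1
  · exact absurd rfl hne

end Cfsg.Agent.Lib.Helper28.XsQ

namespace Cfsg.Agent.Lib.Helper28.XsQ

variable {W : Type*} [Group W]

theorem Hyp.cube_of_card_nine [Finite W] {E : Subgroup (MulAut W)} (hc9 : Nat.card E = 9)
    (hnc : ¬ IsCyclic E) {e : MulAut W} (he : e ∈ E) : e ^ 3 = 1 := by
  have h1 : orderOf (⟨e, he⟩ : E) ∣ 9 := by
    rw [← hc9]; exact orderOf_dvd_natCard _
  have h2 : orderOf (⟨e, he⟩ : E) ≠ 9 := by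
    intro h9
    apply hnc
    exact isCyclic_of_orderOf_eq_card _ (by rw [h9, hc9])
  have h3 : orderOf (⟨e, he⟩ : E) ∣ 3 := by
    have hle : orderOf (⟨e, he⟩ : E) ≤ 9 := Nat.le_of_dvd (by norm_num) h1
    have hpos : 0 < orderOf (⟨e, he⟩ : E) := Nat.pos_of_dvd_of_pos h1 (by norm_num)
    interval_cases (orderOf (⟨e, he⟩ : E)) <;> simp_all
  have h4 : (⟨e, he⟩ : E) ^ 3 = 1 := orderOf_dvd_iff_pow_eq_one.mp h3
  have := congrArg Subtype.val h4
  simpa using this

theorem main [Finite W] (hW : IsPGroup 2 W) {p : ℕ} [Fact p.Prime] (hp : p ≠ 2)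
    (E : Subgroup (MulAut W)) (hE : IsPGroup p E) (hab : IsMulCommutative E)
    (hnc : ¬ IsCyclic E)
    (hfix : ∀ e ∈ E, e ≠ 1 → ∀ x y : W, orderOf x = 2 → orderOf y = 2 → e x = x → e y = y → x = y) :
    Nat.card E = 9 ∧ Cfsg.IsExtraspecial 2 W ∧
      (Nat.card W = 2 ^ 5 ∨ Nat.card W = 2 ^ 7 ∨ Nat.card W = 2 ^ 9) ∧
      {x : W | ∀ e ∈ E, e x = x} = (Subgroup.center W : Set W) := by
  have : Fact (Nat.Prime 2) := ⟨Nat.prime_two⟩
  have h : Hyp p E :=
    { hW := hW
      hp2 := hp
      hE := by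
        intro e he
        obtain ⟨k, hk⟩ := hE ⟨e, he⟩
        refine ⟨k, ?_⟩
        have := congrArg Subtype.val hk
        simpa using this
      hab := by
        intro e he e' he'
        have := hab.is_comm.comm (⟨e, he⟩ : E) ⟨e', he'⟩
        exact congrArg Subtype.val this
      hfix := hfix }
  obtain ⟨hp3, hc9, a, haE, b, hbE, ha1, hb1, hca, hcb, hbne⟩ := h.main_C hnc
  subst hp3
  have hcube : ∀ e ∈ E, e ^ 3 = 1 := fun e he => Hyp.cube_of_card_nine hc9 hnc he
  have ha3 := hcube a haE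
  have hb3 := hcube b hbE
  have hcomm : ∀ e ∈ E, ∀ e' ∈ E, e * e' = e' * e := h.hab
  obtain ⟨z, hza, hz2⟩ := exists_invol_of_card_eight (fix a) hca
  have hzE : z ∈ fixAll E := h.invol haE ha1 hza hz2
  have hmeet : fix b ⊓ fix a = Subgroup.zpowers z := (h.q8_act haE ha1 hca hza hz2 hbE hbne).2
  have hfixAll : fixAll E = Subgroup.zpowers z := by
    apply le_antisymm
    · intro x hx
      rw [← hmeet]
      exact Subgroup.mem_inf.mpr ⟨hx b hbE, hx a haE⟩
    · rw [Subgroup.zpowers_le]; exact hzE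
  have hcz : Nat.card (Subgroup.zpowers z) = 2 := by rw [Nat.card_zpowers, hz2]
  -- involutions fixed by a nontrivial element are z
  have hinv : ∀ e ∈ E, e ≠ 1 → ∀ t ∈ fix e, t * t = 1 → t = 1 ∨ t = z := by
    intro e he he1 t ht htt
    by_cases ht1 : t = 1
    · left; exact ht1
    · right
      have ht2 : orderOf t = 2 := orderOf_eq_prime (by rw [pow_two]; exact htt) ht1
      have := h.invol he he1 ht ht2
      rw [hfixAll] at this
      rcases mem_zpowers_of_order_two hz2 this with h0 | h0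
      · exact absurd h0 ht1
      · exact h0
  -- lines are Q8 or trivial
  have hline : ∀ e ∈ E, e ≠ 1 → fix e ≤ Subgroup.zpowers z ∨ Q8L e z := by
    intro e he he1
    rcases h.dich he he1 with hT | ⟨hc8, hnab⟩
    · left
      intro x hx
      rw [← hfixAll]
      intro e' he'
      exact hT e' he' x hx
    · right
      exact ⟨hc8, hinv e he he1, hnab⟩
  have hQ8 : ∀ e ∈ E, e ≠ 1 → Nat.card (fix e) = 8 → Q8L e z := by
    intro e he he1 hc8
    rcases hline e he he1 with hT | hQ
    · exfalso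
      have := Subgroup.card_le_of_le hT
      rw [hc8, hcz] at this
      omega
    · exact hQ
  have hQa := hQ8 a haE ha1 hca
  have hQb := hQ8 b hbE hb1 hcb
  -- b is not a power of a
  have hapt : ∀ i : ℕ, a ^ i ∈ ptStab (fix a) := fun i =>
    Subgroup.pow_mem _ (fun x hx => hx) i
  have hlne : ∀ i : ℕ, a ^ i * b ≠ 1 := by
    intro i h0
    apply hbne
    have : b = (a ^ i)⁻¹ := (inv_eq_of_mul_eq_one_right h0).symm
    rw [this]
    exact Subgroup.inv_mem _ (hapt i)
  have hlE : ∀ i : ℕ, a ^ i * b ∈ E := fun i => E.mul_mem (E.pow_mem haE i) hbE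
  have habE : a * b ∈ E := E.mul_mem haE hbE
  have haabE : a * a * b ∈ E := E.mul_mem (E.mul_mem haE haE) hbE
  have hab1 : a * b ≠ 1 := by
    have := hlne 1
    rwa [pow_one] at this
  have haab1 : a * a * b ≠ 1 := by
    have := hlne 2
    rwa [pow_two] at this
  have hLE : ∀ c ∈ ({a, b, a * b, a * a * b} : Set (MulAut W)), c ∈ E ∧ c ≠ 1 := by
    intro c hc
    simp only [Set.mem_insert_iff, Set.mem_singleton_iff] at hc
    rcases hc with rfl | rfl | rfl | rfl
    · exact ⟨haE, ha1⟩
    · exact ⟨hbE, hb1⟩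
    · exact ⟨habE, hab1⟩
    · exact ⟨haabE, haab1⟩
  -- generation
  have hgen : ∀ U H : Subgroup W,
      (∀ c ∈ ({a, b, a * b, a * a * b} : Set (MulAut W)), ∀ x ∈ U, c x ∈ U) →
      (∀ c ∈ ({a, b, a * b, a * a * b} : Set (MulAut W)), fix c ⊓ U ≤ H) → U ≤ H := by
    intro U H hU hH
    apply genSub hW (by norm_num : (2 : ℕ) ≠ 3) a b (hcomm a haE b hbE) ha3 hb3 U
      (hU a (by simp)) (hU b (by simp)) H (hH a (by simp))
    intro i hi
    interval_cases i
    · rw [pow_zero, one_mul]; exact hH b (by simp)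
    · rw [pow_one]; exact hH (a * b) (by simp)
    · rw [pow_two]; exact hH (a * a * b) (by simp)
  -- z is central
  have hzc : ∀ w : W, w * z = z * w := by
    have hnt : Nontrivial W := ⟨⟨z, 1, ne_one_of_order_two hz2⟩⟩
    have hcen := hW.center_nontrivial
    have hzcen : z ∈ Subgroup.center W := by
      by_contra hzn
      have hle : Subgroup.center W ≤ ⊥ := by
        apply hgen (Subgroup.center W) ⊥
        · intro c _ x hx
          exact Subgroup.characteristic_iff_map_le.mp inferInstance c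
            (Subgroup.mem_map_of_mem _ hx)
        · intro c hc
          obtain ⟨hcE, hc1⟩ := hLE c hc
          by_contra hnb
          have hne : Nat.card (fix c ⊓ Subgroup.center W : Subgroup W) ≠ 1 := by
            intro h1
            apply hnb
            rw [Subgroup.card_eq_one.mp h1]
          have h2 : 2 ∣ Nat.card (fix c ⊓ Subgroup.center W : Subgroup W) := by
            obtain ⟨k, hk⟩ := IsPGroup.iff_card.mp (hW.to_subgroup (fix c ⊓ Subgroup.center W))
            rw [hk] at hne ⊢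
            rcases Nat.eq_zero_or_pos k with rfl | hk0
            · exact absurd (pow_zero 2) hne
            · exact dvd_pow_self 2 (by omega)
          obtain ⟨t, ht⟩ := exists_prime_orderOf_dvd_card'
            (G := (fix c ⊓ Subgroup.center W : Subgroup W)) 2 h2
          have ht2 : orderOf (t : W) = 2 := by rw [Subgroup.orderOf_coe]; exact ht
          obtain ⟨ht1, ht3⟩ := Subgroup.mem_inf.mp t.2
          rcases hinv c hcE hc1 t.1 ht1 (zz_of_order_two ht2) with h0 | h0
          · exact ne_one_of_order_two ht2 h0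
          · apply hzn
            rw [← h0]; exact ht3
      obtain ⟨x, hx⟩ := exists_ne (1 : Subgroup.center W)
      apply hx
      apply Subtype.ext
      exact Subgroup.mem_bot.mp (hle x.2)
    intro w
    exact (Subgroup.mem_center_iff.mp hzcen w)
  have cfg : Cfg ({a, b, a * b, a * a * b} : Set (MulAut W)) z :=
    { comm := fun c hc c' hc' => hcomm c (hLE c hc).1 c' (hLE c' hc').1
      cube := fun c hc => hcube c (hLE c hc).1
      gen := hgen
      meet := by
        intro c hc c' hc' hne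
        rw [← hmeet]
        exact meet_four ha3 hc hc' hne
      line := fun c hc => hline c (hLE c hc).1 (hLE c hc).2
      two := by
        intro c _
        by_cases hca' : c = a
        · exact ⟨b, by simp, by
            rw [hca']
            intro h0
            apply hbne
            rw [h0]
            exact fun x hx => hx⟩
        · exact ⟨a, by simp, fun h0 => hca' h0.symm⟩
      hz2 := hz2
      hzfix := fun c hc => hzE c (hLE c hc).1
      hzc := hzc }
  -- distinctness
  have h0 : a ≠ b := by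
    intro h0
    apply hbne
    rw [← h0]
    exact fun x hx => hx
  have h1 : a ≠ a * b := by
    intro h1
    apply hb1
    have : a * 1 = a * b := by rw [mul_one]; exact h1
    exact (mul_left_cancel this).symm
  have h2 : a ≠ a * a * b := by
    intro h2
    apply hab1
    have : a * 1 = a * (a * b) := by rw [mul_one, ← mul_assoc]; exact h2
    exact (mul_left_cancel this).symm
  have h3 : b ≠ a * b := by
    intro h3
    apply ha1
    have : 1 * b = a * b := by rw [one_mul]; exact h3
    exact (mul_right_cancel this).symm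
  have h4 : b ≠ a * a * b := by
    intro h4
    have : 1 * b = (a * a) * b := by rw [one_mul]; exact h4
    have haa : a * a = 1 := (mul_right_cancel this).symm
    apply ha1
    have : a ^ 3 = a * (a * a) := by rw [pow_succ, pow_two]; group
    rw [haa, mul_one] at this
    rw [← this]; exact ha3
  have h5 : a * b ≠ a * a * b := by
    intro h5
    apply ha1
    have : 1 * (a * b) = a * (a * b) := by rw [one_mul, ← mul_assoc]; exact h5
    exact (mul_right_cancel this).symm
  obtain ⟨s1, s2, s3⟩ := cfg.structure hW (by simp : a ∈ ({a, b, a * b, a * a * b} : Set (MulAut W))) hQa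
  refine ⟨hc9, ⟨⟨hW, by rw [s2, s3], by rw [s1, s3]⟩, by rw [s3]; exact hcz⟩,
    cfg.card_four hW h0 h1 h2 h3 h4 h5 hQa hQb, ?_⟩
  ext x
  rw [s3, ← hfixAll]
  rfl

end Cfsg.Agent.Lib.Helper28.XsQ
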